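import Mathlib
import Groth.Prelude.Def_EtRam

/-!
# Solutions go down a tower of discrete valuation rings (helper library for S1988)

Given extensions of DVRs `B → C` (fraction fields `L ⊂ M₀`), a field `M'` over `L` and a valuation
subring `W'` of `M'` dominating `B`, we build a compositum `M` of `M₀` and `M'` and a valuation
subring `W` of `M` dominating `C` with `W ∩ M' = W'` (via a minimal prime of `C ⊗[B] W'` below a
prime containing both maximal ideals), and then transfer (weak) unramifiedness from `W` to `W'`.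
-/

set_option autoImplicit false
universe u

open TensorProduct IsLocalRing

namespace Groth.Agent.Helper22.SolTower

/-! ### valuation subring basics -/

section Basics
variable {F : Type*} [Field F]

theorem val_lt_one_iff (V : ValuationSubring F) {x : F} (hx : x ≠ 0) :
    V.valuation x < 1 ↔ x⁻¹ ∉ V := by
  rw [← ValuationSubring.valuation_le_one_iff, map_inv₀, not_le]
  have h0 : 0 < V.valuation x := zero_lt_iff.mpr ((Valuation.ne_zero_iff _).mpr hx)
  exact (one_lt_inv₀ h0).symm

theorem isUnit_iff (V : ValuationSubring F) (x : V) :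
    IsUnit x ↔ (x : F) ≠ 0 ∧ (x : F)⁻¹ ∈ V := by
  constructor
  · intro h
    obtain ⟨y, hy⟩ := isUnit_iff_exists_inv.mp h
    have h1 := congrArg Subtype.val hy
    simp only [MulMemClass.coe_mul, OneMemClass.coe_one] at h1
    have hx0 : (x : F) ≠ 0 := left_ne_zero_of_mul_eq_one h1
    refine ⟨hx0, ?_⟩
    have h2 : (x : F)⁻¹ = (y : F) := (eq_inv_of_mul_eq_one_right h1).symm
    rw [h2]; exact y.2
  · rintro ⟨h0, hinv⟩
    exact isUnit_iff_exists_inv.mpr ⟨⟨(x : F)⁻¹, hinv⟩, Subtype.ext (mul_inv_cancel₀ h0)⟩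

theorem mem_max_iff (V : ValuationSubring F) (x : V) :
    x ∈ maximalIdeal V ↔ ((x : F) = 0 ∨ (x : F)⁻¹ ∉ V) := by
  rw [mem_maximalIdeal, mem_nonunits_iff, isUnit_iff]
  constructor
  · intro h
    by_cases h0 : (x : F) = 0
    · exact Or.inl h0
    · exact Or.inr (fun hi => h ⟨h0, hi⟩)
  · rintro (h0 | hi) ⟨h0', hi'⟩
    · exact h0' h0
    · exact hi hi'

end Basics

/-! ### elementwise form of weak unramifiedness -/

section WU
variable {K₁ M : Type u} [Field K₁] [Field M]

/-- Elementwise form of weak unramifiedness of `W ∩ K₁ → W`. -/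
def Q (W : ValuationSubring M) (f : K₁ →+* M) : Prop :=
  ∀ z : M, z ∈ W → z ≠ 0 → z⁻¹ ∉ W → ∃ a : K₁, f a ∈ W ∧ a ≠ 0 ∧ (f a)⁻¹ ∉ W ∧ z / f a ∈ W

theorem wu_iff (W : ValuationSubring M) (f : K₁ →+* M) :
    (maximalIdeal (W.comap f)).map (EtRam.inclOfComap W f) = maximalIdeal W ↔ Q W f := by
  constructor
  · intro h z hz hz0 hzinv
    have hzmax : (⟨z, hz⟩ : W) ∈ maximalIdeal W := (mem_max_iff W ⟨z, hz⟩).mpr (Or.inr hzinv)
    rw [← h] at hzmax
    have key : ∀ y : W, y ∈ (maximalIdeal (W.comap f)).map (EtRam.inclOfComap W f) →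
        ∃ a : W.comap f, a ∈ maximalIdeal (W.comap f) ∧
          ∃ w : W, y = EtRam.inclOfComap W f a * w := by
      intro y hy
      have hy' : y ∈ Submodule.span W ((EtRam.inclOfComap W f) ''
          (maximalIdeal (W.comap f) : Set (W.comap f))) := hy
      refine Submodule.span_induction (p := fun y _ => ∃ a : W.comap f,
        a ∈ maximalIdeal (W.comap f) ∧ ∃ w : W, y = EtRam.inclOfComap W f a * w) ?_ ?_ ?_ ?_ hy'
      · rintro x ⟨a, ha, rfl⟩
        exact ⟨a, ha, 1, (mul_one _).symm⟩
      · exact ⟨0, Ideal.zero_mem _, 0, by rw [mul_zero]⟩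
      · rintro x y _ _ ⟨a₁, ha₁, w₁, rfl⟩ ⟨a₂, ha₂, w₂, rfl⟩
        obtain ⟨c, hc | hc⟩ := ValuationRing.cond a₁ a₂
        · refine ⟨a₁, ha₁, w₁ + EtRam.inclOfComap W f c * w₂, ?_⟩
          rw [← hc, map_mul]; ring
        · refine ⟨a₂, ha₂, EtRam.inclOfComap W f c * w₁ + w₂, ?_⟩
          rw [← hc, map_mul]; ring
      · rintro r x _ ⟨a, ha, w, rfl⟩
        exact ⟨a, ha, r * w, by rw [smul_eq_mul]; ring⟩
    obtain ⟨a, ha, w, hw⟩ := key _ hzmax
    have hzw : z = f (a : K₁) * (w : M) := congrArg Subtype.val hw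
    have ha0 : (a : K₁) ≠ 0 := by
      intro h0
      apply hz0
      rw [hzw, h0, map_zero, zero_mul]
    have hfa0 : f (a : K₁) ≠ 0 := (map_ne_zero f).mpr ha0
    refine ⟨(a : K₁), ValuationSubring.mem_comap.mp a.2, ha0, ?_, ?_⟩
    · rcases (mem_max_iff (W.comap f) a).mp ha with h0 | hinv
      · exact absurd h0 ha0
      · intro hmem
        apply hinv
        apply ValuationSubring.mem_comap.mpr
        rw [map_inv₀]; exact hmem
    · have hdiv : z / f (a : K₁) = (w : M) := by
        rw [hzw]; field_simp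
      rw [hdiv]; exact w.2
  · intro hQ
    apply le_antisymm
    · exact Ideal.map_le_iff_le_comap.mpr
        (fun a ha => map_nonunit (EtRam.inclOfComap W f) a ha)
    · intro x hx
      by_cases hx0 : (x : M) = 0
      · have hx0' : x = 0 := Subtype.ext hx0
        rw [hx0']; exact Ideal.zero_mem _
      · have hxinv : (x : M)⁻¹ ∉ W := by
          rcases (mem_max_iff W x).mp hx with h | h
          · exact absurd h hx0
          · exact h
        obtain ⟨a, haW, ha0, hainv, hdiv⟩ := hQ (x : M) x.2 hx0 hxinv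
        have hfa0 : f a ≠ 0 := (map_ne_zero f).mpr ha0
        have ha'max : (⟨a, ValuationSubring.mem_comap.mpr haW⟩ : W.comap f) ∈
            maximalIdeal (W.comap f) := by
          refine (mem_max_iff _ _).mpr (Or.inr ?_)
          intro hmem
          apply hainv
          have h3 := ValuationSubring.mem_comap.mp hmem
          rw [map_inv₀] at h3
          exact h3
        have hx_eq : x = EtRam.inclOfComap W f ⟨a, ValuationSubring.mem_comap.mpr haW⟩ *
            ⟨(x : M) / f a, hdiv⟩ := by
          apply Subtype.ext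
          show (x : M) = f a * ((x : M) / f a)
          field_simp
        rw [hx_eq]
        exact Ideal.mul_mem_right _ _ (Ideal.mem_map_of_mem _ ha'max)

theorem Q_comap {M' : Type u} [Field M'] (f' : K₁ →+* M') (j : M' →+* M) (W : ValuationSubring M)
    (h : Q W (j.comp f')) : Q (W.comap j) f' := by
  intro z hz hz0 hzinv
  have hjz0 : j z ≠ 0 := (map_ne_zero j).mpr hz0
  obtain ⟨a, haW, ha0, hainv, hdiv⟩ := h (j z) (ValuationSubring.mem_comap.mp hz) hjz0 (by
    intro hmem
    apply hzinv
    apply ValuationSubring.mem_comap.mpr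
    rw [map_inv₀]; exact hmem)
  rw [RingHom.comp_apply] at haW hainv hdiv
  refine ⟨a, ValuationSubring.mem_comap.mpr haW, ha0, ?_, ?_⟩
  · intro hmem
    apply hainv
    have h3 := ValuationSubring.mem_comap.mp hmem
    rw [map_inv₀] at h3
    exact h3
  · apply ValuationSubring.mem_comap.mpr
    rw [map_div₀]; exact hdiv

theorem transfer_weak {M' : Type u} [Field M'] (f' : K₁ →+* M') (j : M' →+* M)
    (W : ValuationSubring M)
    (h : letI : Algebra (W.comap (j.comp f')) W := (EtRam.inclOfComap W (j.comp f')).toAlgebra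
      EtRam.IsWeaklyUnramified (W.comap (j.comp f')) W) :
    letI : Algebra ((W.comap j).comap f') (W.comap j) :=
      (EtRam.inclOfComap (W.comap j) f').toAlgebra
    EtRam.IsWeaklyUnramified ((W.comap j).comap f') (W.comap j) := by
  have h1 : (maximalIdeal (W.comap (j.comp f'))).map (EtRam.inclOfComap W (j.comp f')) =
      maximalIdeal W := h
  have h2 := Q_comap f' j W ((wu_iff W (j.comp f')).mp h1)
  exact (wu_iff (W.comap j) f').mpr h2

theorem geomRed_of_comp {R S T : Type u} [CommRing R] [IsLocalRing R] [CommRing S] [IsLocalRing S]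
    [CommRing T] [IsLocalRing T] (i₀ : R →+* S) (i₁ : S →+* T) [IsLocalHom i₀] [IsLocalHom i₁]
    (h : @Algebra.IsGeometricallyReduced (ResidueField R) (ResidueField T) _ _
      (ResidueField.map (i₁.comp i₀)).toAlgebra) :
    @Algebra.IsGeometricallyReduced (ResidueField R) (ResidueField S) _ _
      (ResidueField.map i₀).toAlgebra := by
  letI a1 : Algebra (ResidueField R) (ResidueField S) := (ResidueField.map i₀).toAlgebra
  letI a2 : Algebra (ResidueField R) (ResidueField T) := (ResidueField.map (i₁.comp i₀)).toAlgebra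
  let g : ResidueField S →ₐ[ResidueField R] ResidueField T :=
    { toRingHom := ResidueField.map i₁
      commutes' := fun x => by
        show ResidueField.map i₁ (ResidueField.map i₀ x) = ResidueField.map (i₁.comp i₀) x
        rw [ResidueField.map_comp]; rfl }
  haveI : Algebra.IsGeometricallyReduced (ResidueField R) (ResidueField T) := h
  exact Algebra.IsGeometricallyReduced.of_injective g (ResidueField.map i₁).injective

theorem transfer_sol {M' : Type u} [Field M'] (f' : K₁ →+* M') (j : M' →+* M)
    (W : ValuationSubring M)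
    (h : letI : Algebra (W.comap (j.comp f')) W := (EtRam.inclOfComap W (j.comp f')).toAlgebra
      EtRam.IsWeaklyUnramified (W.comap (j.comp f')) W ∧
      @Algebra.IsGeometricallyReduced (ResidueField (W.comap (j.comp f'))) (ResidueField W) _ _
        (ResidueField.map (EtRam.inclOfComap W (j.comp f'))).toAlgebra) :
    letI : Algebra ((W.comap j).comap f') (W.comap j) :=
      (EtRam.inclOfComap (W.comap j) f').toAlgebra
    EtRam.IsWeaklyUnramified ((W.comap j).comap f') (W.comap j) ∧
      @Algebra.IsGeometricallyReduced (ResidueField ((W.comap j).comap f'))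
        (ResidueField (W.comap j)) _ _
        (ResidueField.map (EtRam.inclOfComap (W.comap j) f')).toAlgebra := by
  refine ⟨transfer_weak f' j W h.1, ?_⟩
  exact geomRed_of_comp (EtRam.inclOfComap (W.comap j) f') (EtRam.inclOfComap W j) h.2

end WU


/-! ### the compositum construction -/

section Compositum

theorem exists_domain (B C V : Type u) [CommRing B] [IsDomain B] [IsDiscreteValuationRing B]
    [CommRing C] [IsDomain C] [IsLocalRing C] [Algebra B C] [IsLocalHom (algebraMap B C)]
    (hinjC : Function.Injective (algebraMap B C))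
    [CommRing V] [IsDomain V] [IsLocalRing V] [Algebra B V] [IsLocalHom (algebraMap B V)]
    (hinjV : Function.Injective (algebraMap B V)) :
    ∃ (D : Type u) (_ : CommRing D) (_ : IsDomain D) (ιC : C →+* D) (ιV : V →+* D)
      (𝔮 : Ideal D) (_ : 𝔮.IsPrime),
      Function.Injective ιC ∧ Function.Injective ιV ∧
      (∀ b : B, ιC (algebraMap B C b) = ιV (algebraMap B V b)) ∧
      (∀ c ∈ maximalIdeal C, ιC c ∈ 𝔮) ∧ (∀ v ∈ maximalIdeal V, ιV v ∈ 𝔮) ∧
      ∀ S : Subring D, (∀ c, ιC c ∈ S) → (∀ v, ιV v ∈ S) → S = ⊤ := by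
  classical
  haveI : FaithfulSMul B C := (faithfulSMul_iff_algebraMap_injective B C).mpr hinjC
  haveI : FaithfulSMul B V := (faithfulSMul_iff_algebraMap_injective B V).mpr hinjV
  haveI flatC : Module.Flat B C := inferInstance
  haveI flatV : Module.Flat B V := inferInstance
  -- nonzero elements of `C` and `V` are nonzerodivisors on the tensor product
  have hnzC : ∀ c : C, c ≠ 0 → (c ⊗ₜ[B] (1 : V)) ∈ nonZeroDivisors (C ⊗[B] V) := by
    intro c hc
    rw [mem_nonZeroDivisors_iff_right]
    intro x hx
    have hmul : ∀ x : C ⊗[B] V,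
        x * (c ⊗ₜ[B] (1 : V)) = LinearMap.rTensor V (LinearMap.mulLeft B c) x := by
      intro x
      induction x using TensorProduct.induction_on with
      | zero => rw [zero_mul, map_zero]
      | tmul a w =>
        rw [Algebra.TensorProduct.tmul_mul_tmul, LinearMap.rTensor_tmul, LinearMap.mulLeft_apply,
          mul_one, mul_comm a c]
      | add x y hx' hy' => rw [add_mul, hx', hy', map_add]
    have hinj0 : Function.Injective (LinearMap.mulLeft B c) := fun x y h => by
      rw [LinearMap.mulLeft_apply, LinearMap.mulLeft_apply] at h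
      exact mul_left_cancel₀ hc h
    have hinjm := Module.Flat.rTensor_preserves_injective_linearMap (M := V) _ hinj0
    apply hinjm
    rw [← hmul, hx, map_zero]
  have hnzV : ∀ v : V, v ≠ 0 → ((1 : C) ⊗ₜ[B] v) ∈ nonZeroDivisors (C ⊗[B] V) := by
    intro v hv
    rw [mem_nonZeroDivisors_iff_right]
    intro x hx
    have hmul : ∀ x : C ⊗[B] V,
        x * ((1 : C) ⊗ₜ[B] v) = LinearMap.lTensor C (LinearMap.mulLeft B v) x := by
      intro x
      induction x using TensorProduct.induction_on with
      | zero => rw [zero_mul, map_zero]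
      | tmul a w =>
        rw [Algebra.TensorProduct.tmul_mul_tmul, LinearMap.lTensor_tmul, LinearMap.mulLeft_apply,
          mul_one, mul_comm w v]
      | add x y hx' hy' => rw [add_mul, hx', hy', map_add]
    have hinj0 : Function.Injective (LinearMap.mulLeft B v) := fun x y h => by
      rw [LinearMap.mulLeft_apply, LinearMap.mulLeft_apply] at h
      exact mul_left_cancel₀ hv h
    have hinjm := Module.Flat.lTensor_preserves_injective_linearMap (M := C) _ hinj0
    apply hinjm
    rw [← hmul, hx, map_zero]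
  -- the tensor product of the residue fields
  haveI : Nontrivial (ResidueField C ⊗[ResidueField B] ResidueField V) :=
    Algebra.TensorProduct.nontrivial_of_algebraMap_injective_of_isDomain _ _ _
      (algebraMap (ResidueField B) (ResidueField C)).injective
      (algebraMap (ResidueField B) (ResidueField V)).injective
  letI algBT : Algebra B (ResidueField C ⊗[ResidueField B] ResidueField V) :=
    ((algebraMap (ResidueField B) (ResidueField C ⊗[ResidueField B] ResidueField V)).comp
      (residue B)).toAlgebra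
  let fC : C →ₐ[B] (ResidueField C ⊗[ResidueField B] ResidueField V) :=
    { toRingHom := (Algebra.TensorProduct.includeLeftRingHom).comp (residue C)
      commutes' := fun b => by
        show (residue C (algebraMap B C b)) ⊗ₜ[ResidueField B] (1 : ResidueField V) =
          algebraMap (ResidueField B) (ResidueField C ⊗[ResidueField B] ResidueField V)
            (residue B b)
        rw [Algebra.TensorProduct.algebraMap_apply, ResidueField.algebraMap_residue] }
  let fV : V →ₐ[B] (ResidueField C ⊗[ResidueField B] ResidueField V) :=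
    { toRingHom := (Algebra.TensorProduct.includeRight :
          ResidueField V →ₐ[ResidueField B] ResidueField C ⊗[ResidueField B] ResidueField V).toRingHom.comp
        (residue V)
      commutes' := fun b => by
        show (1 : ResidueField C) ⊗ₜ[ResidueField B] (residue V (algebraMap B V b)) =
          algebraMap (ResidueField B) (ResidueField C ⊗[ResidueField B] ResidueField V)
            (residue B b)
        rw [Algebra.TensorProduct.algebraMap_apply', ResidueField.algebraMap_residue] }
  have hψC : ∀ c ∈ maximalIdeal C,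
      Algebra.TensorProduct.productMap fC fV (c ⊗ₜ[B] (1 : V)) = 0 := by
    intro c hc
    rw [Algebra.TensorProduct.productMap_left_apply]
    show (residue C c) ⊗ₜ[ResidueField B] (1 : ResidueField V) = 0
    rw [(residue_eq_zero_iff c).mpr hc, TensorProduct.zero_tmul]
  have hψV : ∀ v ∈ maximalIdeal V,
      Algebra.TensorProduct.productMap fC fV ((1 : C) ⊗ₜ[B] v) = 0 := by
    intro v hv
    rw [Algebra.TensorProduct.productMap_right_apply]
    show (1 : ResidueField C) ⊗ₜ[ResidueField B] (residue V v) = 0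
    rw [(residue_eq_zero_iff v).mpr hv, TensorProduct.tmul_zero]
  obtain ⟨𝔫, h𝔫⟩ := Ideal.exists_maximal (ResidueField C ⊗[ResidueField B] ResidueField V)
  haveI : 𝔫.IsPrime := h𝔫.isPrime
  haveI h𝔓 : (𝔫.comap (Algebra.TensorProduct.productMap fC fV)).IsPrime :=
    Ideal.comap_isPrime _ 𝔫
  obtain ⟨𝔭₀, h𝔭₀min, h𝔭₀le⟩ := Ideal.exists_minimalPrimes_le
    (bot_le : (⊥ : Ideal (C ⊗[B] V)) ≤ 𝔫.comap (Algebra.TensorProduct.productMap fC fV))
  haveI h𝔭₀ : 𝔭₀.IsPrime := h𝔭₀min.1.1
  have hdisj : Disjoint (𝔭₀ : Set (C ⊗[B] V)) (nonZeroDivisors (C ⊗[B] V) : Set (C ⊗[B] V)) :=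
    Ideal.disjoint_nonZeroDivisors_of_mem_minimalPrimes h𝔭₀min
  refine ⟨(C ⊗[B] V) ⧸ 𝔭₀, inferInstance, inferInstance,
    (Ideal.Quotient.mk 𝔭₀).comp Algebra.TensorProduct.includeLeftRingHom,
    (Ideal.Quotient.mk 𝔭₀).comp
      (Algebra.TensorProduct.includeRight : V →ₐ[B] C ⊗[B] V).toRingHom,
    (𝔫.comap (Algebra.TensorProduct.productMap fC fV)).map (Ideal.Quotient.mk 𝔭₀),
    ?_, ?_, ?_, ?_, ?_, ?_, ?_⟩
  · exact Ideal.map_isPrime_of_surjective Ideal.Quotient.mk_surjective
      (by rw [Ideal.mk_ker]; exact h𝔭₀le)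
  · refine (injective_iff_map_eq_zero _).mpr (fun c hc => ?_)
    by_contra hne
    have hc' : Ideal.Quotient.mk 𝔭₀ (c ⊗ₜ[B] (1 : V)) = 0 := hc
    exact Set.disjoint_left.mp hdisj (Ideal.Quotient.eq_zero_iff_mem.mp hc') (hnzC c hne)
  · refine (injective_iff_map_eq_zero _).mpr (fun v hv => ?_)
    by_contra hne
    have hv' : Ideal.Quotient.mk 𝔭₀ ((1 : C) ⊗ₜ[B] v) = 0 := hv
    exact Set.disjoint_left.mp hdisj (Ideal.Quotient.eq_zero_iff_mem.mp hv') (hnzV v hne)
  · intro b
    show Ideal.Quotient.mk 𝔭₀ ((algebraMap B C b) ⊗ₜ[B] (1 : V)) =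
      Ideal.Quotient.mk 𝔭₀ ((1 : C) ⊗ₜ[B] (algebraMap B V b))
    rw [Algebra.algebraMap_eq_smul_one, Algebra.algebraMap_eq_smul_one, TensorProduct.smul_tmul]
  · intro c hc
    refine Ideal.mem_map_of_mem _ ?_
    show Algebra.TensorProduct.productMap fC fV (c ⊗ₜ[B] (1 : V)) ∈ 𝔫
    rw [hψC c hc]; exact 𝔫.zero_mem
  · intro v hv
    refine Ideal.mem_map_of_mem _ ?_
    show Algebra.TensorProduct.productMap fC fV ((1 : C) ⊗ₜ[B] v) ∈ 𝔫
    rw [hψV v hv]; exact 𝔫.zero_mem
  · intro S hSC hSV
    have key : ∀ r : C ⊗[B] V, Ideal.Quotient.mk 𝔭₀ r ∈ S := by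
      intro r
      induction r using TensorProduct.induction_on with
      | zero => rw [map_zero]; exact S.zero_mem
      | tmul c v =>
        have h1 : c ⊗ₜ[B] v = (c ⊗ₜ[B] (1 : V)) * ((1 : C) ⊗ₜ[B] v) := by
          rw [Algebra.TensorProduct.tmul_mul_tmul, mul_one, one_mul]
        rw [h1, map_mul]
        exact S.mul_mem (hSC c) (hSV v)
      | add x y hx hy => rw [map_add]; exact S.add_mem hx hy
    apply eq_top_iff.mpr
    intro d _
    obtain ⟨r, rfl⟩ := Ideal.Quotient.mk_surjective d
    exact key r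

theorem exists_valuation (D : Type u) [CommRing D] [IsDomain D] (𝔮 : Ideal D) [𝔮.IsPrime] :
    ∃ W : ValuationSubring (FractionRing D), (∀ d : D, algebraMap D (FractionRing D) d ∈ W) ∧
      ∀ d ∈ 𝔮, W.valuation (algebraMap D (FractionRing D) d) < 1 := by
  have hg : ∀ y : 𝔮.primeCompl, IsUnit (algebraMap D (FractionRing D) y) := fun y =>
    IsUnit.mk0 _ (fun h0 => y.2 (by
      have h1 : (y : D) = 0 := (IsFractionRing.injective D (FractionRing D)) (by rw [h0, map_zero])
      rw [h1]; exact 𝔮.zero_mem))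
  obtain ⟨W, hWmem, hWloc⟩ := IsLocalRing.exists_factor_valuationRing
    (IsLocalization.lift (M := 𝔮.primeCompl) (S := Localization.AtPrime 𝔮) hg)
  have hfa : ∀ d : D, (IsLocalization.lift (M := 𝔮.primeCompl) (S := Localization.AtPrime 𝔮) hg)
      (algebraMap D (Localization.AtPrime 𝔮) d) = algebraMap D (FractionRing D) d :=
    fun d => IsLocalization.lift_eq hg d
  have hmem : ∀ d : D, algebraMap D (FractionRing D) d ∈ W := fun d => by
    have h1 := hWmem (algebraMap D (Localization.AtPrime 𝔮) d)
    rw [hfa] at h1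
    exact h1
  refine ⟨W, hmem, fun d hd => ?_⟩
  by_contra hnot
  have h1 : W.valuation (algebraMap D (FractionRing D) d) = 1 :=
    le_antisymm ((W.valuation_le_one_iff _).mpr (hmem d)) (not_lt.mp hnot)
  have hne : algebraMap D (FractionRing D) d ≠ 0 := fun h0 => by
    rw [h0, map_zero] at h1; exact zero_ne_one h1
  have hinvmem : (algebraMap D (FractionRing D) d)⁻¹ ∈ W :=
    (W.valuation_le_one_iff _).mp (le_of_eq (by rw [map_inv₀, h1, inv_one]))
  have hu : IsUnit ((IsLocalization.lift (M := 𝔮.primeCompl) (S := Localization.AtPrime 𝔮)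
      hg).codRestrict W.toSubring hWmem (algebraMap D (Localization.AtPrime 𝔮) d)) := by
    refine isUnit_iff_exists_inv.mpr
      ⟨⟨(algebraMap D (FractionRing D) d)⁻¹, hinvmem⟩, Subtype.ext ?_⟩
    show (IsLocalization.lift (M := 𝔮.primeCompl) (S := Localization.AtPrime 𝔮) hg)
      (algebraMap D (Localization.AtPrime 𝔮) d) * (algebraMap D (FractionRing D) d)⁻¹ = 1
    rw [hfa, mul_inv_cancel₀ hne]
  have hux : IsUnit (algebraMap D (Localization.AtPrime 𝔮) d) := hWloc.map_nonunit _ hu
  have hmax : algebraMap D (Localization.AtPrime 𝔮) d ∈ maximalIdeal (Localization.AtPrime 𝔮) :=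
    (IsLocalization.AtPrime.to_map_mem_maximal_iff (Localization.AtPrime 𝔮) 𝔮 d).mpr hd
  exact (mem_maximalIdeal _).mp hmax hux

theorem exists_compositum (B C L M₀ M' : Type u) [CommRing B] [IsDomain B]
    [IsDiscreteValuationRing B] [CommRing C] [IsDomain C] [IsDiscreteValuationRing C]
    [Algebra B C] [IsLocalHom (algebraMap B C)] (hinj : Function.Injective (algebraMap B C))
    [Field L] [Field M₀] [Field M'] [Algebra B L] [IsFractionRing B L] [Algebra C M₀]
    [IsFractionRing C M₀] [Algebra L M₀] [Algebra B M₀] [IsScalarTower B C M₀]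
    [IsScalarTower B L M₀] [Algebra L M'] (W' : ValuationSubring M')
    (hW' : EtRam.Dominates B ((algebraMap L M').comp (algebraMap B L)) W') :
    ∃ (M : Type u) (_ : Field M) (j₀ : M₀ →+* M) (j' : M' →+* M) (W : ValuationSubring M),
      j₀.comp (algebraMap L M₀) = j'.comp (algebraMap L M') ∧ W.comap j' = W' ∧
      EtRam.Dominates C (j₀.comp (algebraMap C M₀)) W ∧
      ∀ T : Subring M, (∀ x, j₀ x ∈ T) → (∀ x, j' x ∈ T) → (∀ x ∈ T, x⁻¹ ∈ T) → T = ⊤ := by
  classical
  let φ : B →+* W' := RingHom.codRestrict ((algebraMap L M').comp (algebraMap B L)) W' hW'.1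
  have hφval : ∀ b : B, ((φ b : W') : M') = algebraMap L M' (algebraMap B L b) := fun b => rfl
  have hφinj : Function.Injective φ := by
    intro x y hxy
    have h1 : algebraMap L M' (algebraMap B L x) = algebraMap L M' (algebraMap B L y) := by
      rw [← hφval, ← hφval, hxy]
    exact IsFractionRing.injective B L ((algebraMap L M').injective h1)
  have hφloc : IsLocalHom φ := by
    constructor
    intro b hb
    by_contra hnu
    have hbm : b ∈ maximalIdeal B := (mem_maximalIdeal b).mpr hnu
    have hlt : W'.valuation (algebraMap L M' (algebraMap B L b)) < 1 := hW'.2 b hbm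
    have h1 : W'.valuation ((φ b : W') : M') = 1 :=
      (ValuationSubring.valuation_eq_one_iff W' (φ b)).mp hb
    rw [hφval] at h1
    rw [h1] at hlt
    exact lt_irrefl _ hlt
  letI algBW : Algebra B W' := φ.toAlgebra
  haveI : IsLocalHom (algebraMap B W') := hφloc
  obtain ⟨D, _, _, ιC, ιV, 𝔮, _, hιC, hιV, hB, hC𝔮, hV𝔮, hgenD⟩ :=
    exists_domain B C W' hinj hφinj
  have hB' : ∀ b : B, ιC (algebraMap B C b) = ιV (φ b) := hB
  obtain ⟨W, hWmem, hWlt⟩ := exists_valuation D 𝔮
  have hgC : Function.Injective ((algebraMap D (FractionRing D)).comp ιC) :=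
    (IsFractionRing.injective D (FractionRing D)).comp hιC
  have hgV : Function.Injective ((algebraMap D (FractionRing D)).comp ιV) :=
    (IsFractionRing.injective D (FractionRing D)).comp hιV
  have hj₀ : ∀ c : C, (IsFractionRing.lift hgC : M₀ →+* FractionRing D) (algebraMap C M₀ c) =
      algebraMap D (FractionRing D) (ιC c) := fun c => IsFractionRing.lift_algebraMap hgC c
  have hj' : ∀ v : W', (IsFractionRing.lift hgV : M' →+* FractionRing D) (v : M') =
      algebraMap D (FractionRing D) (ιV v) := fun v => IsFractionRing.lift_algebraMap hgV v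
  refine ⟨FractionRing D, inferInstance, IsFractionRing.lift hgC, IsFractionRing.lift hgV, W,
    ?_, ?_, ?_, ?_⟩
  · apply IsLocalization.ringHom_ext (nonZeroDivisors B)
    refine RingHom.ext (fun b => ?_)
    show (IsFractionRing.lift hgC : M₀ →+* FractionRing D) (algebraMap L M₀ (algebraMap B L b)) =
      (IsFractionRing.lift hgV : M' →+* FractionRing D) (algebraMap L M' (algebraMap B L b))
    rw [← IsScalarTower.algebraMap_apply B L M₀, IsScalarTower.algebraMap_apply B C M₀, hj₀,
      ← hφval, hj', hB']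
  · apply ValuationSubring.ext
    intro x
    rw [ValuationSubring.mem_comap]
    constructor
    · intro hx
      by_contra hxn
      have hx0 : x ≠ 0 := fun h0 => hxn (by rw [h0]; exact W'.zero_mem)
      have hxinv : x⁻¹ ∈ W' := (W'.mem_or_inv_mem x).resolve_left hxn
      have hvmax : (⟨x⁻¹, hxinv⟩ : W') ∈ maximalIdeal W' := by
        refine (mem_max_iff W' _).mpr (Or.inr ?_)
        show (x⁻¹)⁻¹ ∉ W'
        rw [inv_inv]; exact hxn
      have hlt := hWlt _ (hV𝔮 _ hvmax)
      rw [← hj'] at hlt
      have hlt' : W.valuation ((IsFractionRing.lift hgV : M' →+* FractionRing D) x)⁻¹ < 1 := by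
        rw [← map_inv₀]; exact hlt
      have hjx0 : (IsFractionRing.lift hgV : M' →+* FractionRing D) x ≠ 0 :=
        (map_ne_zero _).mpr hx0
      have h3 := (val_lt_one_iff W (inv_ne_zero hjx0)).mp hlt'
      rw [inv_inv] at h3
      exact h3 hx
    · intro hx
      have h3 := hWmem (ιV ⟨x, hx⟩)
      rw [← hj'] at h3
      exact h3
  · refine ⟨fun c => ?_, fun c hc => ?_⟩
    · show (IsFractionRing.lift hgC : M₀ →+* FractionRing D) (algebraMap C M₀ c) ∈ W
      rw [hj₀]; exact hWmem _
    · show W.valuation ((IsFractionRing.lift hgC : M₀ →+* FractionRing D) (algebraMap C M₀ c)) < 1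
      rw [hj₀]; exact hWlt _ (hC𝔮 c hc)
  · intro T hT₀ hT' hTinv
    have h1 : ∀ c, ιC c ∈ T.comap (algebraMap D (FractionRing D)) := fun c => by
      show algebraMap D (FractionRing D) (ιC c) ∈ T
      rw [← hj₀]; exact hT₀ _
    have h2 : ∀ v, ιV v ∈ T.comap (algebraMap D (FractionRing D)) := fun v => by
      show algebraMap D (FractionRing D) (ιV v) ∈ T
      rw [← hj']; exact hT' _
    have hS := hgenD _ h1 h2
    have hD : ∀ d : D, algebraMap D (FractionRing D) d ∈ T := fun d => by
      have h3 : d ∈ T.comap (algebraMap D (FractionRing D)) := by rw [hS]; exact Subring.mem_top d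
      exact h3
    apply eq_top_iff.mpr
    intro x _
    obtain ⟨a, b, _, rfl⟩ := IsFractionRing.div_surjective D x
    rw [div_eq_mul_inv]
    exact T.mul_mem (hD a) (hTinv _ (hD b))

end Compositum

/-! ### going down the tower -/

section Main

theorem forall_goes_down (B C K L M₀ K₁ : Type u) [CommRing B] [IsDomain B]
    [IsDiscreteValuationRing B] [CommRing C] [IsDomain C] [IsDiscreteValuationRing C]
    [Algebra B C] [IsLocalHom (algebraMap B C)] (hinj : Function.Injective (algebraMap B C))
    [Field K] [Field L] [Field M₀] [Field K₁] [Algebra K L] [Algebra K M₀] [Algebra L M₀]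
    [IsScalarTower K L M₀] [Algebra K K₁] [FiniteDimensional K K₁]
    [Algebra B L] [IsFractionRing B L] [Algebra C M₀] [IsFractionRing C M₀] [Algebra B M₀]
    [IsScalarTower B C M₀] [IsScalarTower B L M₀]
    (P : ∀ (M : Type u) [Field M], ValuationSubring M → (K₁ →+* M) → Prop)
    (hP : ∀ (M' M : Type u) [Field M'] [Field M] (f' : K₁ →+* M') (j : M' →+* M)
      (W : ValuationSubring M), P M W (j.comp f') → P M' (W.comap j) f')
    (h : EtRam.ForallLocalExt C K M₀ K₁ P) : EtRam.ForallLocalExt B K L K₁ P := by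
  unfold EtRam.ForallLocalExt at h ⊢
  intro M' _ _ _ _ _ _ hadj' W' hW'
  obtain ⟨M, _, j₀, j', W, hL, hcomap, hdom, hgen⟩ := exists_compositum B C L M₀ M' hinj W' hW'
  letI algM₀M : Algebra M₀ M := j₀.toAlgebra
  letI algK₁M : Algebra K₁ M := (j'.comp (algebraMap K₁ M')).toAlgebra
  letI algKM : Algebra K M := (j₀.comp (algebraMap K M₀)).toAlgebra
  haveI : IsScalarTower K M₀ M := IsScalarTower.of_algebraMap_eq (fun x => rfl)
  have hLx : ∀ l : L, j₀ (algebraMap L M₀ l) = j' (algebraMap L M' l) :=
    fun l => RingHom.congr_fun hL l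
  haveI : IsScalarTower K K₁ M := IsScalarTower.of_algebraMap_eq (fun x => by
    show j₀ (algebraMap K M₀ x) = j' (algebraMap K₁ M' (algebraMap K K₁ x))
    rw [← IsScalarTower.algebraMap_apply K K₁ M', IsScalarTower.algebraMap_apply K L M',
      IsScalarTower.algebraMap_apply K L M₀, hLx])
  have hint : ∀ y : K₁, IsIntegral M₀ (algebraMap K₁ M y) := fun y => by
    have h1 : IsIntegral K y := Algebra.IsIntegral.isIntegral y
    have h2 : IsIntegral K (algebraMap K₁ M y) := h1.algebraMap
    exact h2.tower_top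
  have hTint : ∀ x ∈ Algebra.adjoin M₀ (Set.range (algebraMap K₁ M)), IsIntegral M₀ x := by
    have hle : Algebra.adjoin M₀ (Set.range (algebraMap K₁ M)) ≤ integralClosure M₀ M :=
      Algebra.adjoin_le (by
        rintro _ ⟨y, rfl⟩
        exact hint y)
    exact fun x hx => hle hx
  have hTinv : ∀ x ∈ (Algebra.adjoin M₀ (Set.range (algebraMap K₁ M))).toSubring,
      x⁻¹ ∈ (Algebra.adjoin M₀ (Set.range (algebraMap K₁ M))).toSubring := fun x hx =>
    Subalgebra.inv_mem_of_algebraic (Algebra.adjoin M₀ (Set.range (algebraMap K₁ M)))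
      (x := ⟨x, hx⟩) (hTint x hx).isAlgebraic
  have hT₀ : ∀ x : M₀, j₀ x ∈ (Algebra.adjoin M₀ (Set.range (algebraMap K₁ M))).toSubring :=
    fun x => (Algebra.adjoin M₀ (Set.range (algebraMap K₁ M))).algebraMap_mem x
  have hT' : ∀ x : M', j' x ∈ (Algebra.adjoin M₀ (Set.range (algebraMap K₁ M))).toSubring := by
    intro x
    have hx : x ∈ Algebra.adjoin L (Set.range (algebraMap K₁ M')) := by
      rw [hadj']; exact Algebra.mem_top
    induction hx using Algebra.adjoin_induction with
    | mem x hx =>
      obtain ⟨y, rfl⟩ := hx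
      exact Algebra.subset_adjoin ⟨y, rfl⟩
    | algebraMap l =>
      rw [← hLx]
      exact (Algebra.adjoin M₀ (Set.range (algebraMap K₁ M))).algebraMap_mem _
    | add x y _ _ hx hy => rw [map_add]; exact Subring.add_mem _ hx hy
    | mul x y _ _ hx hy => rw [map_mul]; exact Subring.mul_mem _ hx hy
  have htop := hgen _ hT₀ hT' hTinv
  have hadj : Algebra.adjoin M₀ (Set.range (algebraMap K₁ M)) = ⊤ := by
    apply eq_top_iff.mpr
    intro x _
    have h3 : x ∈ (Algebra.adjoin M₀ (Set.range (algebraMap K₁ M))).toSubring := by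
      rw [htop]; exact Subring.mem_top x
    exact h3
  have hdom' : EtRam.Dominates C ((algebraMap M₀ M).comp (algebraMap C M₀)) W := hdom
  have hres := h M hadj W hdom'
  have hres' := hP M' M (algebraMap K₁ M') j' W hres
  rw [hcomap] at hres'
  exact hres'

theorem main (B C K L M₀ K₁ : Type u) [CommRing B] [IsDomain B]
    [IsDiscreteValuationRing B] [CommRing C] [IsDomain C] [IsDiscreteValuationRing C]
    [Algebra B C] [IsLocalHom (algebraMap B C)] (hinj : Function.Injective (algebraMap B C))
    [Field K] [Field L] [Field M₀] [Field K₁] [Algebra K L] [Algebra K M₀] [Algebra L M₀]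
    [IsScalarTower K L M₀] [Algebra K K₁] [FiniteDimensional K K₁]
    [Algebra B L] [IsFractionRing B L] [Algebra C M₀] [IsFractionRing C M₀] [Algebra B M₀]
    [IsScalarTower B C M₀] [IsScalarTower B L M₀] :
    (EtRam.IsWeakSolution C K M₀ K₁ → EtRam.IsWeakSolution B K L K₁) ∧
    (EtRam.IsSolution C K M₀ K₁ → EtRam.IsSolution B K L K₁) := by
  constructor
  · intro h
    exact forall_goes_down B C K L M₀ K₁ hinj _
      (fun M' M _ _ f' j W hW => transfer_weak f' j W hW) h
  · intro h
    exact forall_goes_down B C K L M₀ K₁ hinj _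
      (fun M' M _ _ f' j W hW => transfer_sol f' j W hW) h

end Main

end Groth.Agent.Helper22.SolTower
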