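import Mathlib
import Groth.Prelude.Def_EtRam
import Groth.Agent.Lib.Helper22.SolTower

/-!
# A general criterion for weak unramifiedness in a compositum (helper library)

`CT`: let `A` be a local ring, `R₁`, `R₂` local `A`-algebras mapping compatibly to a valuation
subring `W` of a field `M` generated by their images.  If `R₁` is weakly unramified over `A`, the
maximal ideal of `R₂` is principal, generated by `π₂`, the tensor product of the residue fields is
von Neumann regular and `W` is separated for the `π₂`-adic topology, then `π₂` generates the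
maximal ideal of `W`, and `W` is obtained from the images of `R₁`, `R₂` by ring operations and
inverses of units.
-/

set_option autoImplicit false
universe u

open TensorProduct IsLocalRing

namespace Groth.Agent.Helper22.WUGen

open Groth.Agent.Helper22.SolTower

/-! ### von Neumann regularity -/

/-- von Neumann regularity, elementwise. -/
def VNR (R : Type*) [CommRing R] : Prop := ∀ y : R, ∃ z : R, y * y * z = y

theorem VNR.of_surjective {R S : Type*} [CommRing R] [CommRing S] (f : R →+* S)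
    (hf : Function.Surjective f) (h : VNR R) : VNR S := by
  intro y
  obtain ⟨x, rfl⟩ := hf y
  obtain ⟨z, hz⟩ := h x
  exact ⟨f z, by rw [← map_mul, ← map_mul, hz]⟩

theorem VNR.isReduced {R : Type*} [CommRing R] (h : VNR R) : IsReduced R := by
  constructor
  intro x hx
  obtain ⟨n, hn⟩ := hx
  obtain ⟨z, hz⟩ := h x
  have key : ∀ k : ℕ, x ^ (k + 1) = 0 → x = 0 := by
    intro k
    induction k with
    | zero => intro h0; rw [zero_add, pow_one] at h0; exact h0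
    | succ k ih =>
      intro h0
      apply ih
      calc x ^ (k + 1) = x ^ k * x := pow_succ x k
        _ = x ^ k * (x * x * z) := by rw [hz]
        _ = x ^ (k + 1 + 1) * z := by ring
        _ = 0 := by rw [h0, zero_mul]
  cases n with
  | zero =>
    rw [pow_zero] at hn
    calc x = x * 1 := (mul_one x).symm
      _ = 0 := by rw [hn, mul_zero]
  | succ n => exact key n hn

theorem vnr_of_reduced_algebraic {F R : Type*} [Field F] [CommRing R] [Algebra F R] [IsReduced R]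
    (y : R) (hy : IsAlgebraic F y) : ∃ z : R, y * y * z = y := by
  obtain ⟨p, hp0, hp⟩ := hy
  obtain ⟨q, hpq, hq⟩ := Polynomial.exists_eq_pow_rootMultiplicity_mul_and_not_dvd p hp0 0
  obtain ⟨m, hm⟩ : ∃ m, m = Polynomial.rootMultiplicity 0 p := ⟨_, rfl⟩
  rw [← hm, Polynomial.C_0, sub_zero] at hpq
  rw [Polynomial.C_0, sub_zero, Polynomial.X_dvd_iff] at hq
  obtain ⟨c, hc⟩ : ∃ c, c = q.coeff 0 := ⟨_, rfl⟩
  rw [← hc] at hq
  have hqd : q.divX * Polynomial.X + Polynomial.C c = q := by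
    rw [hc]; exact Polynomial.divX_mul_X_add q
  obtain ⟨h, hh⟩ : ∃ h, h = Polynomial.aeval y q.divX := ⟨_, rfl⟩
  have hs : Polynomial.aeval y q = h * y + algebraMap F R c := by
    rw [← hqd, map_add, map_mul, Polynomial.aeval_X, Polynomial.aeval_C, ← hh]
  have h1 : y ^ m * (h * y + algebraMap F R c) = 0 := by
    rw [← hs]
    have h2 := hp
    rw [hpq, map_mul, map_pow, Polynomial.aeval_X] at h2
    exact h2
  have hC : algebraMap F R c⁻¹ * algebraMap F R c = 1 := by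
    rw [← map_mul, inv_mul_cancel₀ hq, map_one]
  have h2 : y * (h * y + algebraMap F R c) = 0 := by
    obtain ⟨s, hs'⟩ : ∃ s, s = h * y + algebraMap F R c := ⟨_, rfl⟩
    rw [← hs'] at h1 ⊢
    apply IsReduced.eq_zero
    refine ⟨m + 1, ?_⟩
    calc (y * s) ^ (m + 1) = (y ^ m * s) * (y * s ^ m) := by ring
      _ = 0 := by rw [h1, zero_mul]
  exact ⟨-(algebraMap F R c⁻¹ * h), by
    linear_combination (-(algebraMap F R c⁻¹)) * h2 + y * hC⟩

theorem VNR.of_reduced_integral (F R : Type*) [Field F] [CommRing R] [Algebra F R] [IsReduced R]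
    [Algebra.IsIntegral F R] : VNR R :=
  fun y => vnr_of_reduced_algebraic y (Algebra.IsIntegral.isIntegral (R := F) y).isAlgebraic

/-! ### the general theorem for a ring mapping to a valuation ring -/

section GT
variable {T₀ M : Type*} [CommRing T₀] [Field M] {W : ValuationSubring M} {θ : T₀ →+* W}

/-- Fractions of elements of the image of `θ` with unit denominator. -/
def InD (W : ValuationSubring M) (θ : T₀ →+* W) (w : W) : Prop :=
  ∃ a b : T₀, IsUnit (θ b) ∧ w * θ b = θ a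

theorem inD_map (t : T₀) : InD W θ (θ t) :=
  ⟨t, 1, by rw [map_one]; exact isUnit_one, by rw [map_one, mul_one]⟩

theorem inD_mul {x y : W} (hx : InD W θ x) (hy : InD W θ y) : InD W θ (x * y) := by
  obtain ⟨a, b, hb, hab⟩ := hx
  obtain ⟨a', b', hb', hab'⟩ := hy
  refine ⟨a * a', b * b', by rw [map_mul]; exact hb.mul hb', ?_⟩
  rw [map_mul, map_mul, ← hab, ← hab']; ring

theorem inD_inv (u : Wˣ) (hx : InD W θ (u : W)) : InD W θ ((u⁻¹ : Wˣ) : W) := by
  obtain ⟨a, b, hb, hab⟩ := hx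
  have ha : IsUnit (θ a) := by rw [← hab]; exact u.isUnit.mul hb
  refine ⟨b, a, ha, ?_⟩
  rw [← hab, ← mul_assoc, Units.inv_mul, one_mul]

theorem step1 (π : T₀) (hvnr : ∀ t : T₀, ∃ z c : T₀, t - t * t * z = π * c) (t : T₀)
    (ht : θ t ∈ maximalIdeal W) : ∃ s c : T₀, IsUnit (θ s) ∧ t * s = π * c := by
  obtain ⟨z, c, hzc⟩ := hvnr t
  refine ⟨1 - t * z, c, ?_, ?_⟩
  · rw [map_sub, map_one, map_mul]
    have h1 : θ t * θ z ∈ maximalIdeal W := Ideal.mul_mem_right _ _ ht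
    by_contra hnu
    have h2 : (1 - θ t * θ z) ∈ maximalIdeal W := (mem_maximalIdeal _).mpr hnu
    have h3 : (1 : W) ∈ maximalIdeal W := by
      have h4 := Ideal.add_mem _ h2 h1
      rwa [sub_add_cancel] at h4
    exact (Ideal.ne_top_iff_one _).mp (maximalIdeal.isMaximal W).ne_top h3
  · rw [← hzc]; ring

theorem claimA (π : T₀) (hvnr : ∀ t : T₀, ∃ z c : T₀, t - t * t * z = π * c) (w : W)
    (hw : InD W θ w) : IsUnit w ∨ ∃ w', InD W θ w' ∧ w = θ π * w' := by
  obtain ⟨a, b, hb, hab⟩ := hw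
  by_cases ha : IsUnit (θ a)
  · left
    have h1 : IsUnit (w * θ b) := by rw [hab]; exact ha
    exact isUnit_of_mul_isUnit_left h1
  · right
    have ham : θ a ∈ maximalIdeal W := (mem_maximalIdeal _).mpr ha
    obtain ⟨s, c, hs, hsc⟩ := step1 π hvnr a ham
    obtain ⟨u, hu⟩ := hb.mul hs
    refine ⟨θ c * ((u⁻¹ : Wˣ) : W), ⟨c, b * s, ?_, ?_⟩, ?_⟩
    · rw [map_mul]; exact hb.mul hs
    · rw [map_mul, ← hu, mul_assoc, Units.inv_mul, mul_one]
    · have h1 : w * (u : W) = θ π * θ c := by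
        rw [hu, ← mul_assoc, hab, ← map_mul, hsc, map_mul]
      calc w = w * (u : W) * ((u⁻¹ : Wˣ) : W) := by rw [mul_assoc, Units.mul_inv, mul_one]
        _ = θ π * (θ c * ((u⁻¹ : Wˣ) : W)) := by rw [h1, mul_assoc]

theorem claimB (π : T₀) (hvnr : ∀ t : T₀, ∃ z c : T₀, t - t * t * z = π * c) :
    ∀ (N : ℕ) (w : W), InD W θ w → ¬ (θ π) ^ N ∣ w →
      ∃ (n : ℕ) (u : Wˣ), InD W θ (u : W) ∧ w = (θ π) ^ n * u := by
  intro N
  induction N with
  | zero =>
    intro w _ h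
    exact absurd (by rw [pow_zero]; exact one_dvd w) h
  | succ N ih =>
    intro w hw hN
    rcases claimA π hvnr w hw with hu | ⟨w', hw', hww'⟩
    · obtain ⟨u, rfl⟩ := hu
      exact ⟨0, u, hw, by rw [pow_zero, one_mul]⟩
    · have hN' : ¬ (θ π) ^ N ∣ w' := by
        rintro ⟨d, hd⟩
        apply hN
        exact ⟨d, by rw [hww', hd, pow_succ]; ring⟩
      obtain ⟨n, u, hDu, hwu⟩ := ih w' hw' hN'
      exact ⟨n + 1, u, hDu, by rw [hww', hwu, pow_succ]; ring⟩

theorem GT (π : T₀) (hπm : θ π ∈ maximalIdeal W) (hπ0 : θ π ≠ 0)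
    (hvnr : ∀ t : T₀, ∃ z c : T₀, t - t * t * z = π * c)
    (hsep : ∀ w : W, w ≠ 0 → ∃ n : ℕ, ¬ (θ π) ^ n ∣ w)
    (hgen : ∀ x : M, ∃ a b : T₀, θ b ≠ 0 ∧ x * ((θ b : W) : M) = ((θ a : W) : M)) :
    (∀ w : W, w ∈ maximalIdeal W → θ π ∣ w) ∧ (∀ w : W, InD W θ w) := by
  have hD : ∀ w : W, w ≠ 0 → ∃ (n : ℕ) (u : Wˣ), InD W θ (u : W) ∧ w = (θ π) ^ n * u := by
    intro w hw0
    obtain ⟨a, b, hb0, hab⟩ := hgen (w : M)
    have hab' : w * θ b = θ a := Subtype.ext hab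
    have ha0 : θ a ≠ 0 := by rw [← hab']; exact mul_ne_zero hw0 hb0
    obtain ⟨Na, hNa⟩ := hsep (θ a) ha0
    obtain ⟨Nb, hNb⟩ := hsep (θ b) hb0
    obtain ⟨i, u, hDu, hau⟩ := claimB π hvnr Na (θ a) (inD_map a) hNa
    obtain ⟨j, v, hDv, hbv⟩ := claimB π hvnr Nb (θ b) (inD_map b) hNb
    rw [hau, hbv] at hab'
    rcases le_or_gt j i with hji | hij
    · refine ⟨i - j, u * v⁻¹, ?_, ?_⟩
      · rw [Units.val_mul]; exact inD_mul hDu (inD_inv v hDv)
      · have hne : (θ π) ^ j * (v : W) ≠ 0 := mul_ne_zero (pow_ne_zero _ hπ0) v.ne_zero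
        apply mul_right_cancel₀ hne
        rw [hab', Units.val_mul]
        have e1 : (θ π) ^ (i - j) * (θ π) ^ j = (θ π) ^ i := by
          rw [← pow_add, Nat.sub_add_cancel hji]
        have e2 : ((v⁻¹ : Wˣ) : W) * (v : W) = 1 := Units.inv_mul v
        calc (θ π) ^ i * (u : W)
            = ((θ π) ^ (i - j) * (θ π) ^ j) * u * (((v⁻¹ : Wˣ) : W) * v) := by
              rw [e1, e2, mul_one]
          _ = (θ π) ^ (i - j) * ((u : W) * ((v⁻¹ : Wˣ) : W)) * ((θ π) ^ j * (v : W)) := by ring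
    · exfalso
      obtain ⟨k, rfl⟩ : ∃ k, j = i + k + 1 := ⟨j - i - 1, by omega⟩
      have hne : (θ π) ^ i ≠ 0 := pow_ne_zero _ hπ0
      have h1 : (θ π) ^ i * (θ π * (w * (θ π) ^ k * v)) = (θ π) ^ i * u := by
        rw [← hab']; ring
      have h2 := mul_left_cancel₀ hne h1
      have h3 : (u : W) ∈ maximalIdeal W := by rw [← h2]; exact Ideal.mul_mem_right _ _ hπm
      exact (mem_maximalIdeal _).mp h3 u.isUnit
  refine ⟨?_, ?_⟩
  · intro w hw
    by_cases hw0 : w = 0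
    · rw [hw0]; exact dvd_zero _
    · obtain ⟨n, u, -, hwu⟩ := hD w hw0
      cases n with
      | zero =>
        exfalso
        rw [pow_zero, one_mul] at hwu
        exact (mem_maximalIdeal _).mp hw (hwu ▸ u.isUnit)
      | succ n => exact ⟨(θ π) ^ n * u, by rw [hwu, pow_succ']; ring⟩
  · intro w
    by_cases hw0 : w = 0
    · exact ⟨0, 1, by rw [map_one]; exact isUnit_one, by rw [hw0, map_zero, zero_mul]⟩
    · obtain ⟨n, u, hDu, hwu⟩ := hD w hw0
      rw [hwu, ← map_pow]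
      exact inD_mul (inD_map _) hDu

end GT


/-! ### von Neumann regularity of `R₁ ⊗ R₂ / π₂` from that of the residue fields -/

section PhiLemma
variable (A R₁ R₂ : Type u) [CommRing A] [IsLocalRing A] [CommRing R₁] [IsLocalRing R₁]
  [CommRing R₂] [IsLocalRing R₂] [Algebra A R₁] [Algebra A R₂] [IsLocalHom (algebraMap A R₁)]
  [IsLocalHom (algebraMap A R₂)]

theorem hvnr_of_residue (hwu : (maximalIdeal A).map (algebraMap A R₁) = maximalIdeal R₁)
    (π₂ : R₂) (hπ₂ : maximalIdeal R₂ = Ideal.span {π₂})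
    (hE : VNR (ResidueField R₁ ⊗[ResidueField A] ResidueField R₂)) :
    ∀ t : R₁ ⊗[A] R₂, ∃ z c : R₁ ⊗[A] R₂, t - t * t * z = ((1 : R₁) ⊗ₜ[A] π₂) * c := by
  classical
  obtain ⟨I, hI⟩ : ∃ I : Ideal (R₁ ⊗[A] R₂), I = Ideal.span {(1 : R₁) ⊗ₜ[A] π₂} := ⟨_, rfl⟩
  let g₁ : R₁ →+* (R₁ ⊗[A] R₂) ⧸ I :=
    (Ideal.Quotient.mk I).comp Algebra.TensorProduct.includeLeftRingHom
  let g₂ : R₂ →+* (R₁ ⊗[A] R₂) ⧸ I :=
    (Ideal.Quotient.mk I).comp (Algebra.TensorProduct.includeRight : R₂ →ₐ[A] R₁ ⊗[A] R₂).toRingHom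
  have hg₁ : ∀ r, g₁ r = Ideal.Quotient.mk I (r ⊗ₜ[A] (1 : R₂)) := fun r => rfl
  have hg₂ : ∀ r, g₂ r = Ideal.Quotient.mk I ((1 : R₁) ⊗ₜ[A] r) := fun r => rfl
  have h₂ : ∀ r ∈ maximalIdeal R₂, g₂ r = 0 := by
    intro r hr
    rw [hπ₂, Ideal.mem_span_singleton'] at hr
    obtain ⟨c, rfl⟩ := hr
    rw [hg₂, Ideal.Quotient.eq_zero_iff_mem]
    have h1 : (1 : R₁) ⊗ₜ[A] (c * π₂) = ((1 : R₁) ⊗ₜ[A] c) * ((1 : R₁) ⊗ₜ[A] π₂) := by
      rw [Algebra.TensorProduct.tmul_mul_tmul, mul_one]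
    rw [h1, hI]
    exact Ideal.mul_mem_left _ _ (Ideal.subset_span rfl)
  have hcompat : ∀ a : A, g₁ (algebraMap A R₁ a) = g₂ (algebraMap A R₂ a) := by
    intro a
    rw [hg₁, hg₂, Algebra.algebraMap_eq_smul_one, Algebra.algebraMap_eq_smul_one,
      TensorProduct.smul_tmul]
  have h₁ : ∀ r ∈ maximalIdeal R₁, g₁ r = 0 := by
    have hle : maximalIdeal R₁ ≤ RingHom.ker g₁ := by
      rw [← hwu, Ideal.map_le_iff_le_comap]
      intro a ha
      rw [Ideal.mem_comap, RingHom.mem_ker, hcompat]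
      exact h₂ _ (map_nonunit (algebraMap A R₂) a ha)
    exact fun r hr => hle hr
  let φ₁ : ResidueField R₁ →+* (R₁ ⊗[A] R₂) ⧸ I := Ideal.Quotient.lift (maximalIdeal R₁) g₁ h₁
  let φ₂ : ResidueField R₂ →+* (R₁ ⊗[A] R₂) ⧸ I := Ideal.Quotient.lift (maximalIdeal R₂) g₂ h₂
  have hφ₁ : ∀ r, φ₁ (residue R₁ r) = g₁ r := fun r => rfl
  have hφ₂ : ∀ r, φ₂ (residue R₂ r) = g₂ r := fun r => rfl
  letI algκQ : Algebra (ResidueField A) ((R₁ ⊗[A] R₂) ⧸ I) :=
    (φ₁.comp (algebraMap (ResidueField A) (ResidueField R₁))).toAlgebra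
  let f₁ : ResidueField R₁ →ₐ[ResidueField A] (R₁ ⊗[A] R₂) ⧸ I :=
    { toRingHom := φ₁
      commutes' := fun x => rfl }
  let f₂ : ResidueField R₂ →ₐ[ResidueField A] (R₁ ⊗[A] R₂) ⧸ I :=
    { toRingHom := φ₂
      commutes' := fun x => by
        obtain ⟨a, rfl⟩ := residue_surjective x
        show φ₂ (algebraMap (ResidueField A) (ResidueField R₂) (residue A a)) =
          φ₁ (algebraMap (ResidueField A) (ResidueField R₁) (residue A a))
        rw [ResidueField.algebraMap_residue, ResidueField.algebraMap_residue, hφ₁, hφ₂, hcompat] }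
  have hΦsurj : ∀ t : R₁ ⊗[A] R₂, ∃ y, Algebra.TensorProduct.productMap f₁ f₂ y =
      Ideal.Quotient.mk I t := by
    intro t
    induction t using TensorProduct.induction_on with
    | zero => exact ⟨0, by rw [map_zero, map_zero]⟩
    | tmul r₁ r₂ =>
      refine ⟨(residue R₁ r₁) ⊗ₜ (residue R₂ r₂), ?_⟩
      rw [Algebra.TensorProduct.productMap_apply_tmul]
      show φ₁ (residue R₁ r₁) * φ₂ (residue R₂ r₂) = _
      rw [hφ₁, hφ₂, hg₁, hg₂, ← map_mul, Algebra.TensorProduct.tmul_mul_tmul, mul_one, one_mul]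
    | add x y hx hy =>
      obtain ⟨a, ha⟩ := hx
      obtain ⟨b, hb⟩ := hy
      exact ⟨a + b, by rw [map_add, map_add, ha, hb]⟩
  intro t
  obtain ⟨y, hy⟩ := hΦsurj t
  obtain ⟨z', hz'⟩ := hE y
  obtain ⟨z, hz⟩ := Ideal.Quotient.mk_surjective (Algebra.TensorProduct.productMap f₁ f₂ z')
  have h0 : Ideal.Quotient.mk I (t - t * t * z) =
      Algebra.TensorProduct.productMap f₁ f₂ (y - y * y * z') := by
    rw [map_sub, map_mul, map_mul, map_sub, map_mul, map_mul, hy, hz]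
  rw [hz', sub_self, map_zero, Ideal.Quotient.eq_zero_iff_mem, hI] at h0
  obtain ⟨c, hc⟩ := Ideal.mem_span_singleton'.mp h0
  exact ⟨z, c, by rw [← hc, mul_comm]⟩

end PhiLemma

/-! ### separatedness -/

theorem sep_of_dvd {B₀ M : Type*} [CommRing B₀] [IsDomain B₀] [IsDiscreteValuationRing B₀]
    [Field M] (W : ValuationSubring M) (ι : B₀ →+* W) (hι : Function.Injective ι)
    (hdvd : ∀ w : W, w ≠ 0 → ∃ b : B₀, b ≠ 0 ∧ w ∣ ι b)
    (π₀ : B₀) (hπ₀ : Irreducible π₀) (hm : ι π₀ ∈ maximalIdeal W) :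
    ∀ w : W, w ≠ 0 → ∃ n : ℕ, ¬ (ι π₀) ^ n ∣ w := by
  intro w hw
  obtain ⟨b, hb0, hwb⟩ := hdvd w hw
  obtain ⟨n, hn⟩ := IsDiscreteValuationRing.associated_pow_irreducible hb0 hπ₀
  obtain ⟨u, hu⟩ := hn
  refine ⟨n + 1, fun hdiv => ?_⟩
  have h1 : (ι π₀) ^ (n + 1) ∣ (ι π₀) ^ n := by
    have e : ι b * ι (u : B₀) = (ι π₀) ^ n := by rw [← map_mul, hu, map_pow]
    rw [← e]
    exact dvd_trans hdiv (dvd_trans hwb (dvd_mul_right _ _))
  have hne : (ι π₀) ^ n ≠ 0 :=
    pow_ne_zero _ (fun h0 => hπ₀.ne_zero (hι (by rw [h0, map_zero])))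
  have h2 : (ι π₀) ^ n * ι π₀ ∣ (ι π₀) ^ n * 1 := by rw [mul_one, ← pow_succ]; exact h1
  have h3 : ι π₀ ∣ 1 := (mul_dvd_mul_iff_left hne).mp h2
  exact (mem_maximalIdeal _).mp hm (isUnit_of_dvd_one h3)

/-! ### domination -/

theorem isLocalHom_of_dominates {A F : Type u} [CommRing A] [IsLocalRing A] [Field F]
    (g : A →+* F) (V : ValuationSubring F) (h : EtRam.Dominates A g V) :
    IsLocalHom (RingHom.codRestrict g V h.1) := by
  constructor
  intro a ha
  by_contra hnu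
  have ham : a ∈ maximalIdeal A := (mem_maximalIdeal a).mpr hnu
  have hlt := h.2 a ham
  have h1 : V.valuation ((RingHom.codRestrict g V h.1 a : V) : F) = 1 :=
    (ValuationSubring.valuation_eq_one_iff V _).mp ha
  have h2 : ((RingHom.codRestrict g V h.1 a : V) : F) = g a := rfl
  rw [h2] at h1
  rw [h1] at hlt
  exact lt_irrefl _ hlt

theorem dominates_comap {A B K' F : Type u} [CommRing A] [IsLocalRing A] [CommRing B]
    [IsLocalRing B] [Field K'] [Field F] (φ : A →+* B) [IsLocalHom φ] (g : A →+* K')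
    (j : K' →+* F) (gF : B →+* F) (hc : ∀ a, j (g a) = gF (φ a)) (V : ValuationSubring F)
    (hV : EtRam.Dominates B gF V) : EtRam.Dominates A g (V.comap j) := by
  refine ⟨fun a => ?_, fun a ha => ?_⟩
  · rw [ValuationSubring.mem_comap, hc]; exact hV.1 _
  · have hb : φ a ∈ maximalIdeal B := map_nonunit φ a ha
    have hlt := hV.2 _ hb
    rw [← hc] at hlt
    by_cases h0 : g a = 0
    · rw [h0, map_zero]; exact zero_lt_iff.mpr one_ne_zero
    · rw [val_lt_one_iff _ h0, ValuationSubring.mem_comap, map_inv₀]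
      exact (val_lt_one_iff V ((map_ne_zero j).mpr h0)).mp hlt

/-! ### the criterion -/

theorem CT (A R₁ R₂ M : Type u) [CommRing A] [IsLocalRing A] [CommRing R₁] [IsLocalRing R₁]
    [CommRing R₂] [IsLocalRing R₂] [Algebra A R₁] [Algebra A R₂] [IsLocalHom (algebraMap A R₁)]
    [IsLocalHom (algebraMap A R₂)] [Field M] (W : ValuationSubring M) (θ₁ : R₁ →+* W)
    (θ₂ : R₂ →+* W) (hcompat : ∀ a : A, θ₁ (algebraMap A R₁ a) = θ₂ (algebraMap A R₂ a))
    (hwu : (maximalIdeal A).map (algebraMap A R₁) = maximalIdeal R₁)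
    (π₂ : R₂) (hπ₂ : maximalIdeal R₂ = Ideal.span {π₂})
    (hπm : θ₂ π₂ ∈ maximalIdeal W) (hπ0 : θ₂ π₂ ≠ 0)
    (hE : VNR (ResidueField R₁ ⊗[ResidueField A] ResidueField R₂))
    (hsep : ∀ w : W, w ≠ 0 → ∃ n : ℕ, ¬ (θ₂ π₂) ^ n ∣ w)
    (hgen : ∀ S : Subring M, (∀ r, ((θ₁ r : W) : M) ∈ S) → (∀ r, ((θ₂ r : W) : M) ∈ S) →
      (∀ x ∈ S, x⁻¹ ∈ S) → S = ⊤) :
    (∀ w ∈ maximalIdeal W, θ₂ π₂ ∣ w) ∧
    ∀ P : W → Prop, (∀ r, P (θ₁ r)) → (∀ r, P (θ₂ r)) → (∀ x y, P x → P y → P (x + y)) →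
      (∀ x y, P x → P y → P (x * y)) → (∀ x y, P x → x * y = 1 → P y) → ∀ w, P w := by
  classical
  letI algAW : Algebra A W := (θ₁.comp (algebraMap A R₁)).toAlgebra
  let f₁ : R₁ →ₐ[A] W :=
    { toRingHom := θ₁
      commutes' := fun a => rfl }
  let f₂ : R₂ →ₐ[A] W :=
    { toRingHom := θ₂
      commutes' := fun a => (hcompat a).symm }
  obtain ⟨θ, hθdef⟩ : ∃ θ : R₁ ⊗[A] R₂ →+* W,
      θ = (Algebra.TensorProduct.productMap f₁ f₂).toRingHom := ⟨_, rfl⟩
  have hθ : ∀ r₁ r₂, θ (r₁ ⊗ₜ[A] r₂) = θ₁ r₁ * θ₂ r₂ := fun r₁ r₂ => by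
    rw [hθdef]
    exact Algebra.TensorProduct.productMap_apply_tmul f₁ f₂ r₁ r₂
  have hθπ : θ ((1 : R₁) ⊗ₜ[A] π₂) = θ₂ π₂ := by rw [hθ, map_one, one_mul]
  have hvnr := hvnr_of_residue A R₁ R₂ hwu π₂ hπ₂ hE
  have hgen' : ∀ x : M, ∃ a b : R₁ ⊗[A] R₂, θ b ≠ 0 ∧ x * ((θ b : W) : M) = ((θ a : W) : M) := by
    let S : Subring M :=
      { carrier := {x | ∃ a b : R₁ ⊗[A] R₂, θ b ≠ 0 ∧ x * ((θ b : W) : M) = ((θ a : W) : M)}
        zero_mem' := ⟨0, 1, by rw [map_one]; exact one_ne_zero, by rw [map_zero, zero_mul]; rfl⟩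
        one_mem' := ⟨1, 1, by rw [map_one]; exact one_ne_zero, by rw [one_mul]⟩
        add_mem' := by
          rintro x y ⟨a, b, hb, hab⟩ ⟨a', b', hb', hab'⟩
          refine ⟨a * b' + a' * b, b * b', by rw [map_mul]; exact mul_ne_zero hb hb', ?_⟩
          rw [map_mul, map_add, map_mul, map_mul]
          push_cast
          rw [← hab, ← hab']; ring
        mul_mem' := by
          rintro x y ⟨a, b, hb, hab⟩ ⟨a', b', hb', hab'⟩
          refine ⟨a * a', b * b', by rw [map_mul]; exact mul_ne_zero hb hb', ?_⟩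
          rw [map_mul, map_mul]
          push_cast
          rw [← hab, ← hab']; ring
        neg_mem' := by
          rintro x ⟨a, b, hb, hab⟩
          refine ⟨-a, b, hb, ?_⟩
          rw [map_neg]
          push_cast
          rw [← hab]; ring }
    have hS : S = ⊤ := by
      apply hgen S
      · intro r
        refine ⟨r ⊗ₜ[A] 1, 1, by rw [map_one]; exact one_ne_zero, ?_⟩
        rw [hθ, map_one, map_one, mul_one]
        push_cast
        rw [mul_one]
      · intro r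
        refine ⟨1 ⊗ₜ[A] r, 1, by rw [map_one]; exact one_ne_zero, ?_⟩
        rw [hθ, map_one, map_one, one_mul]
        push_cast
        rw [mul_one]
      · rintro x ⟨a, b, hb, hab⟩
        by_cases hx0 : x = 0
        · rw [hx0, inv_zero]; exact S.zero_mem
        · have hb' : ((θ b : W) : M) ≠ 0 := fun h => hb (Subtype.ext h)
          have ha : θ a ≠ 0 := by
            intro h
            have h1 : ((θ a : W) : M) = 0 := by rw [h]; rfl
            rw [h1] at hab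
            exact (mul_ne_zero hx0 hb') hab
          refine ⟨b, a, ha, ?_⟩
          rw [← hab, ← mul_assoc, inv_mul_cancel₀ hx0, one_mul]
    intro x
    have hx : x ∈ S := by rw [hS]; exact Subring.mem_top x
    exact hx
  obtain ⟨hC1, hC2⟩ := GT (W := W) (θ := θ) ((1 : R₁) ⊗ₜ[A] π₂) (by rw [hθπ]; exact hπm)
    (by rw [hθπ]; exact hπ0) hvnr (by rw [hθπ]; exact hsep) hgen'
  refine ⟨by rw [hθπ] at hC1; exact hC1, ?_⟩
  intro P h1 h2 hadd hmul hinv w
  have hPθ : ∀ t, P (θ t) := by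
    intro t
    induction t using TensorProduct.induction_on with
    | zero =>
      have h3 := h1 0
      rw [map_zero] at h3
      rw [map_zero]; exact h3
    | tmul r₁ r₂ => rw [hθ]; exact hmul _ _ (h1 r₁) (h2 r₂)
    | add x y hx hy => rw [map_add]; exact hadd _ _ hx hy
  obtain ⟨a, b, hb, hab⟩ := hC2 w
  obtain ⟨u, hu⟩ := hb
  have hPinv : P ((u⁻¹ : Wˣ) : W) := hinv (θ b) _ (hPθ b) (by rw [← hu]; exact Units.mul_inv u)
  have hw : w = θ a * ((u⁻¹ : Wˣ) : W) := by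
    rw [← hab, ← hu, mul_assoc, Units.mul_inv, mul_one]
  rw [hw]; exact hmul _ _ (hPθ a) hPinv

end Groth.Agent.Helper22.WUGen
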