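import Mathlib
import Groth.Prelude.Def_EtRam
import Groth.Agent.Lib.Helper22.WUGen

/-!
# Composita of extensions of DVRs: shared facts, and base change of unramified extensions

Context: DVRs `A → B` with fraction fields `K ⊂ L`, an integral extension `K₁/K`, a field `M`
generated over `L` by `K₁`, and a valuation subring `W` of `M` dominating `B`.
-/

set_option autoImplicit false
universe u

open TensorProduct IsLocalRing

namespace Groth.Agent.Helper22.CompCtx

open Groth.Agent.Helper22.SolTower Groth.Agent.Helper22.WUGen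

/-- Tensoring a separable algebraic field extension with any field gives a von Neumann regular
ring. -/
theorem vnr_of_separable (κ k' kB : Type u) [Field κ] [Field k'] [Field kB] [Algebra κ k']
    [Algebra κ kB] [Algebra.IsSeparable κ k'] : VNR (k' ⊗[κ] kB) := by
  classical
  intro y
  obtain ⟨S, hS⟩ := TensorProduct.exists_finset y
  obtain ⟨F₀, hF₀⟩ : ∃ F₀ : IntermediateField κ k',
      F₀ = IntermediateField.adjoin κ ((S.image Prod.fst : Finset k') : Set k') := ⟨_, rfl⟩
  haveI : Finite (((S.image Prod.fst : Finset k') : Set k')) :=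
    (Finset.finite_toSet _).to_subtype
  haveI hfd : FiniteDimensional κ F₀ := by
    rw [hF₀]
    exact IntermediateField.finiteDimensional_adjoin
      (fun x _ => Algebra.IsSeparable.isIntegral κ x)
  have hmem : ∀ i ∈ S, i.1 ∈ F₀ := by
    intro i hi
    rw [hF₀]
    apply IntermediateField.subset_adjoin
    rw [Finset.mem_coe]
    exact Finset.mem_image_of_mem Prod.fst hi
  haveI : Algebra.FormallyUnramified κ F₀ := Algebra.FormallyUnramified.of_isSeparable κ F₀
  haveI : IsReduced (kB ⊗[κ] F₀) :=
    Algebra.FormallyUnramified.isReduced_of_field kB (kB ⊗[κ] F₀)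
  have hv : VNR (kB ⊗[κ] F₀) := VNR.of_reduced_integral kB (kB ⊗[κ] F₀)
  obtain ⟨Ψ, hΨ⟩ : ∃ Ψ : kB ⊗[κ] F₀ →+* k' ⊗[κ] kB,
      ∀ (b : kB) (x : F₀), Ψ (b ⊗ₜ x) = (x : k') ⊗ₜ b := by
    refine ⟨((Algebra.TensorProduct.comm κ kB k').toAlgHom.comp
      (Algebra.TensorProduct.map (AlgHom.id κ kB) F₀.val)).toRingHom, fun b x => ?_⟩
    show (Algebra.TensorProduct.comm κ kB k')
      (Algebra.TensorProduct.map (AlgHom.id κ kB) F₀.val (b ⊗ₜ x)) = _
    rw [Algebra.TensorProduct.map_tmul, Algebra.TensorProduct.comm_tmul]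
    rfl
  obtain ⟨y₀, hy₀⟩ : ∃ y₀ : kB ⊗[κ] F₀, Ψ y₀ = y := by
    refine ⟨∑ i ∈ S.attach, (i.1.2 ⊗ₜ[κ] (⟨i.1.1, hmem i.1 i.2⟩ : F₀)), ?_⟩
    rw [map_sum, hS, ← Finset.sum_attach S]
    apply Finset.sum_congr rfl
    intro i _
    rw [hΨ]
  obtain ⟨z₀, hz₀⟩ := hv y₀
  exact ⟨Ψ z₀, by rw [← hy₀, ← map_mul, ← map_mul, hz₀]⟩

/-! ### the compositum context -/

section Comp

theorem compat_apply (A B K L K₁ M : Type u) [CommRing A] [CommRing B] [Algebra A B]
    [Field K] [Field L] [Field K₁] [Field M] [Algebra A K] [Algebra B L]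
    [Algebra K L] [Algebra A L] [IsScalarTower A K L] [IsScalarTower A B L]
    [Algebra K K₁] [Algebra K M] [Algebra L M] [Algebra K₁ M] [IsScalarTower K L M]
    [IsScalarTower K K₁ M] (a : A) :
    algebraMap K₁ M (((algebraMap K K₁).comp (algebraMap A K)) a) =
      ((algebraMap L M).comp (algebraMap B L)) (algebraMap A B a) := by
  show algebraMap K₁ M (algebraMap K K₁ (algebraMap A K a)) =
    algebraMap L M (algebraMap B L (algebraMap A B a))
  rw [← IsScalarTower.algebraMap_apply K K₁ M, IsScalarTower.algebraMap_apply K L M,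
    ← IsScalarTower.algebraMap_apply A K L, IsScalarTower.algebraMap_apply A B L]

theorem dominates_bottom (A B K L K₁ M : Type u) [CommRing A] [IsLocalRing A] [CommRing B]
    [IsLocalRing B] [Algebra A B] [IsLocalHom (algebraMap A B)]
    [Field K] [Field L] [Field K₁] [Field M] [Algebra A K] [Algebra B L]
    [Algebra K L] [Algebra A L] [IsScalarTower A K L] [IsScalarTower A B L]
    [Algebra K K₁] [Algebra K M] [Algebra L M] [Algebra K₁ M] [IsScalarTower K L M]
    [IsScalarTower K K₁ M] (W : ValuationSubring M)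
    (hW : EtRam.Dominates B ((algebraMap L M).comp (algebraMap B L)) W) :
    EtRam.Dominates A ((algebraMap K K₁).comp (algebraMap A K)) (W.comap (algebraMap K₁ M)) :=
  dominates_comap (algebraMap A B) _ (algebraMap K₁ M) _
    (fun a => compat_apply A B K L K₁ M a) W hW

theorem isIntegral_comp (K L K₁ M : Type u) [Field K] [Field L] [Field K₁] [Field M]
    [Algebra K L] [Algebra K K₁] [Algebra.IsIntegral K K₁] [Algebra K M] [Algebra L M]
    [Algebra K₁ M] [IsScalarTower K L M] [IsScalarTower K K₁ M]
    (hadj : Algebra.adjoin L (Set.range (algebraMap K₁ M)) = ⊤) (x : M) : IsIntegral L x := by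
  have hx : x ∈ Algebra.adjoin L (Set.range (algebraMap K₁ M)) := by
    rw [hadj]; exact Algebra.mem_top
  have hle : Algebra.adjoin L (Set.range (algebraMap K₁ M)) ≤ integralClosure L M :=
    Algebra.adjoin_le (by
      rintro _ ⟨y, rfl⟩
      have h1 : IsIntegral K y := Algebra.IsIntegral.isIntegral y
      have h2 : IsIntegral K (algebraMap K₁ M y) := h1.algebraMap
      exact h2.tower_top)
  exact hle hx

theorem exists_dvd (B K L K₁ M : Type u) [CommRing B] [IsDomain B] [IsLocalRing B]
    [Field K] [Field L] [Field K₁] [Field M] [Algebra B L] [IsFractionRing B L]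
    [Algebra K L] [Algebra K K₁] [Algebra.IsIntegral K K₁] [Algebra K M] [Algebra L M]
    [Algebra K₁ M] [IsScalarTower K L M] [IsScalarTower K K₁ M]
    (hadj : Algebra.adjoin L (Set.range (algebraMap K₁ M)) = ⊤) (W : ValuationSubring M)
    (hW : EtRam.Dominates B ((algebraMap L M).comp (algebraMap B L)) W) (w : W) (hw : w ≠ 0) :
    ∃ b : B, b ≠ 0 ∧
      w ∣ RingHom.codRestrict ((algebraMap L M).comp (algebraMap B L)) W hW.1 b := by
  letI algBW : Algebra B W :=
    (RingHom.codRestrict ((algebraMap L M).comp (algebraMap B L)) W hW.1).toAlgebra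
  letI algBM : Algebra B M := ((algebraMap L M).comp (algebraMap B L)).toAlgebra
  haveI : IsScalarTower B L M := IsScalarTower.of_algebraMap_eq (fun b => rfl)
  haveI : IsScalarTower B W M := IsScalarTower.of_algebraMap_eq (fun b => rfl)
  have h1 : IsAlgebraic L (w : M) := (isIntegral_comp K L K₁ M hadj (w : M)).isAlgebraic
  have h2 : IsAlgebraic B (w : M) := (IsFractionRing.isAlgebraic_iff B L M).mpr h1
  have h3 : IsAlgebraic B w :=
    (isAlgebraic_algebraMap_iff (A := M) (a := w) Subtype.val_injective).mp h2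
  exact h3.exists_nonzero_dvd (mem_nonZeroDivisors_of_ne_zero hw)

theorem gen_comp (B L K₁ M : Type u) [CommRing B] [Field L] [Field K₁] [Field M] [Algebra B L]
    [IsFractionRing B L] [Algebra L M] [Algebra K₁ M]
    (hadj : Algebra.adjoin L (Set.range (algebraMap K₁ M)) = ⊤) (W : ValuationSubring M)
    (S : Subring M) (hB : ∀ b : B, algebraMap L M (algebraMap B L b) ∈ S)
    (hV : ∀ k : K₁, algebraMap K₁ M k ∈ W → algebraMap K₁ M k ∈ S)
    (hinv : ∀ x ∈ S, x⁻¹ ∈ S) : S = ⊤ := by
  have hL : ∀ l : L, algebraMap L M l ∈ S := by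
    intro l
    obtain ⟨b₁, b₂, _, rfl⟩ := IsFractionRing.div_surjective B l
    rw [map_div₀, div_eq_mul_inv]
    exact S.mul_mem (hB b₁) (hinv _ (hB b₂))
  have hK : ∀ k : K₁, algebraMap K₁ M k ∈ S := by
    intro k
    rcases W.mem_or_inv_mem (algebraMap K₁ M k) with h | h
    · exact hV k h
    · have h1 : algebraMap K₁ M k⁻¹ ∈ S := hV k⁻¹ (by rw [map_inv₀]; exact h)
      have h2 := hinv _ h1
      rwa [map_inv₀, inv_inv] at h2
  have key : ∀ x ∈ Algebra.adjoin L (Set.range (algebraMap K₁ M)), x ∈ S := by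
    intro x hx
    induction hx using Algebra.adjoin_induction with
    | mem x hx => obtain ⟨k, rfl⟩ := hx; exact hK k
    | algebraMap l => exact hL l
    | add x y _ _ hx hy => exact S.add_mem hx hy
    | mul x y _ _ hx hy => exact S.mul_mem hx hy
  apply eq_top_iff.mpr
  intro x _
  exact key x (by rw [hadj]; exact Algebra.mem_top)

end Comp

/-! ### base change of an unramified extension -/

theorem unram_core (A B K L K₁ M : Type u) [CommRing A] [IsDomain A] [IsDiscreteValuationRing A]
    [CommRing B] [IsDomain B] [IsDiscreteValuationRing B] [Algebra A B]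
    [IsLocalHom (algebraMap A B)]
    [Field K] [Field L] [Field K₁] [Field M] [Algebra A K] [Algebra B L] [IsFractionRing B L]
    [Algebra K L] [Algebra A L] [IsScalarTower A K L] [IsScalarTower A B L]
    [Algebra K K₁] [Algebra.IsIntegral K K₁] [Algebra K M] [Algebra L M] [Algebra K₁ M]
    [IsScalarTower K L M] [IsScalarTower K K₁ M]
    (hunr : EtRam.IsUnramifiedExt A ((algebraMap K K₁).comp (algebraMap A K)))
    (hadj : Algebra.adjoin L (Set.range (algebraMap K₁ M)) = ⊤) (W : ValuationSubring M)
    (hW : EtRam.Dominates B ((algebraMap L M).comp (algebraMap B L)) W) :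
    letI : Algebra B W :=
      (RingHom.codRestrict ((algebraMap L M).comp (algebraMap B L)) W hW.1).toAlgebra
    ∀ (_ : IsLocalHom (algebraMap B W)),
      EtRam.IsWeaklyUnramified B W ∧
        Algebra.IsSeparable (IsLocalRing.ResidueField B) (IsLocalRing.ResidueField W) := by
  intro instLoc
  letI algBW : Algebra B W :=
    (RingHom.codRestrict ((algebraMap L M).comp (algebraMap B L)) W hW.1).toAlgebra
  haveI : IsLocalHom (algebraMap B W) := instLoc
  show EtRam.IsWeaklyUnramified B W ∧
    Algebra.IsSeparable (IsLocalRing.ResidueField B) (IsLocalRing.ResidueField W)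
  have hdomA := dominates_bottom A B K L K₁ M W hW
  letI algAV : Algebra A (W.comap (algebraMap K₁ M)) :=
    (RingHom.codRestrict ((algebraMap K K₁).comp (algebraMap A K)) _ hdomA.1).toAlgebra
  haveI locAV : IsLocalHom (algebraMap A (W.comap (algebraMap K₁ M))) :=
    isLocalHom_of_dominates _ _ hdomA
  obtain ⟨hwuA, hsepA⟩ := @hunr (W.comap (algebraMap K₁ M)) hdomA locAV
  haveI : Algebra.IsSeparable (ResidueField A) (ResidueField (W.comap (algebraMap K₁ M))) := hsepA
  obtain ⟨πB, hπB⟩ := IsDiscreteValuationRing.exists_irreducible B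
  -- the two maps to `W`
  obtain ⟨θ₁, hθ₁⟩ : ∃ θ₁ : (W.comap (algebraMap K₁ M)) →+* W,
      θ₁ = EtRam.inclOfComap W (algebraMap K₁ M) := ⟨_, rfl⟩
  obtain ⟨θ₂, hθ₂⟩ : ∃ θ₂ : B →+* W,
      θ₂ = RingHom.codRestrict ((algebraMap L M).comp (algebraMap B L)) W hW.1 := ⟨_, rfl⟩
  haveI locθ₁ : IsLocalHom θ₁ := by rw [hθ₁]; infer_instance
  have hθ₁v : ∀ v : W.comap (algebraMap K₁ M), ((θ₁ v : W) : M) = algebraMap K₁ M (v : K₁) := by
    intro v; rw [hθ₁]; rfl
  have hθ₂v : ∀ b : B, ((θ₂ b : W) : M) = algebraMap L M (algebraMap B L b) := by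
    intro b; rw [hθ₂]; rfl
  have hθ₂alg : ∀ b : B, algebraMap B W b = θ₂ b := by
    intro b; rw [hθ₂]; rfl
  have hcompat : ∀ a : A, θ₁ (algebraMap A (W.comap (algebraMap K₁ M)) a) =
      θ₂ (algebraMap A B a) := by
    intro a
    apply Subtype.ext
    rw [hθ₁v, hθ₂v]
    exact compat_apply A B K L K₁ M a
  have hθ₂inj : Function.Injective θ₂ := by
    intro x y hxy
    have h1 : algebraMap L M (algebraMap B L x) = algebraMap L M (algebraMap B L y) := by
      rw [← hθ₂v, ← hθ₂v, hxy]
    exact IsFractionRing.injective B L ((algebraMap L M).injective h1)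
  have hπmB : πB ∈ maximalIdeal B := (mem_maximalIdeal _).mpr hπB.not_isUnit
  have hπm : θ₂ πB ∈ maximalIdeal W := by
    rw [← hθ₂alg]; exact map_nonunit (algebraMap B W) πB hπmB
  have hπ0 : θ₂ πB ≠ 0 := fun h0 => hπB.ne_zero (hθ₂inj (by rw [h0, map_zero]))
  have hE : VNR (ResidueField (W.comap (algebraMap K₁ M)) ⊗[ResidueField A] ResidueField B) :=
    vnr_of_separable _ _ _
  have hsep : ∀ w : W, w ≠ 0 → ∃ n : ℕ, ¬ (θ₂ πB) ^ n ∣ w := by
    apply sep_of_dvd W θ₂ hθ₂inj _ πB hπB hπm
    intro w hw
    rw [hθ₂]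
    exact exists_dvd B K L K₁ M hadj W hW w hw
  obtain ⟨hC1, hC2⟩ := CT A (W.comap (algebraMap K₁ M)) B M W θ₁ θ₂ hcompat hwuA πB
    hπB.maximalIdeal_eq hπm hπ0 hE hsep (fun S h1 h2 hinv =>
      gen_comp B L K₁ M hadj W S (fun b => by rw [← hθ₂v]; exact h2 b)
        (fun k hk => by
          have h3 := h1 ⟨k, hk⟩
          rw [hθ₁v] at h3
          exact h3) hinv)
  constructor
  · -- weakly unramified
    show (maximalIdeal B).map (algebraMap B W) = maximalIdeal W
    apply le_antisymm
    · exact Ideal.map_le_iff_le_comap.mpr (fun b hb => map_nonunit (algebraMap B W) b hb)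
    · intro w hw
      obtain ⟨c, hc⟩ := hC1 w hw
      rw [hc, ← hθ₂alg]
      exact Ideal.mul_mem_right _ _ (Ideal.mem_map_of_mem _ hπmB)
  · -- separable residue field extension
    have hringhom : (algebraMap (ResidueField B) (ResidueField W)).comp
        (algebraMap (ResidueField A) (ResidueField B)) =
        (ResidueField.map θ₁).comp (algebraMap (ResidueField A)
          (ResidueField (W.comap (algebraMap K₁ M)))) := by
      refine RingHom.ext (fun c => ?_)
      obtain ⟨a, rfl⟩ := residue_surjective c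
      show residue W (algebraMap B W (algebraMap A B a)) =
        residue W (θ₁ (algebraMap A (W.comap (algebraMap K₁ M)) a))
      rw [hcompat, hθ₂alg]
    rw [Algebra.isSeparable_def]
    intro z
    obtain ⟨w, rfl⟩ := residue_surjective z
    refine hC2 (fun w => IsSeparable (ResidueField B) (residue W w)) ?_ ?_ ?_ ?_ ?_ w
    · intro v
      have hz : residue W (θ₁ v) = ResidueField.map θ₁ (residue _ v) := rfl
      rw [hz]
      have hx : IsSeparable (ResidueField A) (residue (W.comap (algebraMap K₁ M)) v) :=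
        Algebra.IsSeparable.isSeparable (ResidueField A) _
      have hq : Polynomial.aeval (ResidueField.map θ₁ (residue _ v))
          ((minpoly (ResidueField A) (residue (W.comap (algebraMap K₁ M)) v)).map
            (algebraMap (ResidueField A) (ResidueField B))) = 0 := by
        rw [Polynomial.aeval_def, Polynomial.eval₂_map, hringhom, ← Polynomial.hom_eval₂,
          ← Polynomial.aeval_def, minpoly.aeval, map_zero]
      have hx' : (minpoly (ResidueField A)
          (residue (W.comap (algebraMap K₁ M)) v)).Separable := hx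
      exact Polynomial.Separable.of_dvd
        (Polynomial.Separable.map (f := algebraMap (ResidueField A) (ResidueField B)) hx')
        (minpoly.dvd (ResidueField B) _ hq)
    · intro b
      rw [← hθ₂alg]
      have hz : residue W (algebraMap B W b) =
          algebraMap (ResidueField B) (ResidueField W) (residue B b) := rfl
      rw [hz]
      exact isSeparable_algebraMap _
    · intro x y hx hy
      rw [map_add]; exact Field.isSeparable_add hx hy
    · intro x y hx hy
      rw [map_mul]; exact Field.isSeparable_mul hx hy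
    · intro x y hx hxy
      have h1 : residue W y = (residue W x)⁻¹ :=
        eq_inv_of_mul_eq_one_right (by rw [← map_mul, hxy, map_one])
      rw [h1]; exact Field.isSeparable_inv hx

end Groth.Agent.Helper22.CompCtx
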