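import Mathlib
import Groth.Prelude.Def_Frob

/-!
# Perfections of schemes: uniqueness, restriction to opens, the affine model

`Groth.Agent.Helper22.Perf`
-/

set_option autoImplicit false

universe u

open CategoryTheory CategoryTheory.Limits AlgebraicGeometry FrobSch Opposite

namespace Groth.Agent.Helper22.Perf

variable (p : ℕ) [Fact p.Prime]

/-- Two perfections of the same scheme are isomorphic over it. -/
theorem exists_iso_of_isPerfection {X XP XP' : Scheme.{u}} [IsCharP XP p] [IsCharP XP' p]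
    (π : XP ⟶ X) (π' : XP' ⟶ X) (h : IsPerfection π p) (h' : IsPerfection π' p) :
    ∃ e : XP ≅ XP', e.hom ≫ π' = π := by
  obtain ⟨g, hg⟩ := (h'.2 XP h.1).surjective π
  obtain ⟨k, hk⟩ := (h.2 XP' h'.1).surjective π'
  have hg' : g ≫ π' = π := hg
  have hk' : k ≫ π = π' := hk
  refine ⟨⟨g, k, ?_, ?_⟩, hg'⟩
  · apply (h.2 XP h.1).injective
    show (g ≫ k) ≫ π = 𝟙 _ ≫ π
    rw [Category.assoc, hk', hg', Category.id_comp]
  · apply (h'.2 XP' h'.1).injective
    show (k ≫ g) ≫ π' = 𝟙 _ ≫ π'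
    rw [Category.assoc, hg', hk', Category.id_comp]

/-- Transport of a perfection along an isomorphism of the base. -/
theorem isPerfection_comp_iso {X X' XP : Scheme.{u}} [IsCharP XP p] (π : XP ⟶ X) (e : X ≅ X')
    (h : IsPerfection π p) : IsPerfection (π ≫ e.hom) p := by
  refine ⟨h.1, fun Y _ hY => ⟨?_, ?_⟩⟩
  · intro g₁ g₂ hg
    have hg' : g₁ ≫ π ≫ e.hom = g₂ ≫ π ≫ e.hom := hg
    apply (h.2 Y hY).injective
    show g₁ ≫ π = g₂ ≫ π
    rw [← cancel_mono e.hom, Category.assoc, Category.assoc, hg']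
  · intro t
    obtain ⟨g, hg⟩ := (h.2 Y hY).surjective (t ≫ e.inv)
    have hg' : g ≫ π = t ≫ e.inv := hg
    refine ⟨g, ?_⟩
    show g ≫ π ≫ e.hom = t
    rw [← Category.assoc, hg', Category.assoc, e.inv_hom_id, Category.comp_id]

/-- The inverse of Frobenius on a perfect scheme fixes every point. -/
theorem inv_frob_apply {Z : Scheme.{u}} [IsCharP Z p] (hZ : IsPerfect Z p) (z : Z) :
    (haveI : IsIso (frob Z p) := hZ; inv (frob Z p)) z = z := by
  haveI : IsIso (frob Z p) := hZ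
  have h1 : (inv (frob Z p) ≫ frob Z p) z = z := by rw [IsIso.inv_hom_id]; rfl
  rw [Scheme.Hom.comp_apply] at h1
  exact h1

/-- An open subscheme of a perfect scheme is perfect. -/
theorem isPerfect_of_isOpenImmersion {V Z : Scheme.{u}} [IsCharP Z p] [IsCharP V p] (j : V ⟶ Z)
    [IsOpenImmersion j] (hZ : IsPerfect Z p) : IsPerfect V p := by
  haveI : IsIso (frob Z p) := hZ
  have hr : Set.range (j ≫ inv (frob Z p)) ⊆ Set.range j := by
    rintro _ ⟨y, rfl⟩
    refine ⟨y, ?_⟩
    rw [Scheme.Hom.comp_apply]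
    exact (inv_frob_apply p hZ (j y)).symm
  have hGV : IsOpenImmersion.lift j (j ≫ inv (frob Z p)) hr ≫ j = j ≫ inv (frob Z p) :=
    IsOpenImmersion.lift_fac _ _ _
  refine ⟨⟨IsOpenImmersion.lift j (j ≫ inv (frob Z p)) hr, ?_, ?_⟩⟩
  · rw [← cancel_mono j, Category.assoc, hGV, ← Category.assoc, frob_comp p j, Category.assoc,
      IsIso.hom_inv_id, Category.comp_id, Category.id_comp]
  · rw [← cancel_mono j, Category.assoc, frob_comp p j, ← Category.assoc, hGV, Category.assoc,
      IsIso.inv_hom_id, Category.comp_id, Category.id_comp]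

/-- Perfectness transports along isomorphisms. -/
theorem isPerfect_of_iso {V Z : Scheme.{u}} [IsCharP Z p] [IsCharP V p] (e : V ≅ Z)
    (hZ : IsPerfect Z p) : IsPerfect V p :=
  isPerfect_of_isOpenImmersion p e.hom hZ

instance isCharP_opens {Z : Scheme.{u}} [IsCharP Z p] (V : Z.Opens) : IsCharP V.toScheme p :=
  IsCharP.of_hom V.ι p

/-- The restriction of a perfection to an open of the base is a perfection. -/
theorem isPerfection_morphismRestrict {X XP : Scheme.{u}} [IsCharP XP p] (π : XP ⟶ X)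
    (h : IsPerfection π p) (U : X.Opens) : IsPerfection (π ∣_ U) p := by
  refine ⟨isPerfect_of_isOpenImmersion p (π ⁻¹ᵁ U).ι h.1, fun Y _ hY => ⟨?_, ?_⟩⟩
  · intro s₁ s₂ hs
    have hs' : s₁ ≫ (π ∣_ U) = s₂ ≫ (π ∣_ U) := hs
    rw [← cancel_mono (π ⁻¹ᵁ U).ι]
    apply (h.2 Y hY).injective
    show (s₁ ≫ (π ⁻¹ᵁ U).ι) ≫ π = (s₂ ≫ (π ⁻¹ᵁ U).ι) ≫ π
    rw [Category.assoc, Category.assoc, ← morphismRestrict_ι, ← Category.assoc, ← Category.assoc,
      hs']
  · intro t
    obtain ⟨s, hs⟩ := (h.2 Y hY).surjective (t ≫ U.ι)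
    have hs' : s ≫ π = t ≫ U.ι := hs
    have hr : Set.range s ⊆ Set.range (π ⁻¹ᵁ U).ι := by
      rintro _ ⟨y, rfl⟩
      rw [Scheme.Opens.range_ι]
      show π (s y) ∈ U
      have h1 : π (s y) = (t ≫ U.ι) y := by rw [← hs', Scheme.Hom.comp_apply]
      rw [h1, Scheme.Hom.comp_apply]
      exact (t y).2
    refine ⟨IsOpenImmersion.lift (π ⁻¹ᵁ U).ι s hr, ?_⟩
    show IsOpenImmersion.lift (π ⁻¹ᵁ U).ι s hr ≫ (π ∣_ U) = t
    rw [← cancel_mono U.ι, Category.assoc, morphismRestrict_ι, ← Category.assoc,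
      IsOpenImmersion.lift_fac, hs']

/-- Frobenius on global sections of `Spec.map`. -/
theorem frob_Spec (R : Type u) [CommRing R] [CharP R p] :
    frob (Spec (CommRingCat.of R)) p = Spec.map (CommRingCat.ofHom (frobenius R p)) := by
  apply ext_of_isAffine
  apply (cancel_mono (Scheme.ΓSpecIso (CommRingCat.of R)).hom).mp
  rw [Scheme.ΓSpecIso_naturality]
  ext s
  show (Scheme.ΓSpecIso (CommRingCat.of R)).hom (s ^ p) =
    ((Scheme.ΓSpecIso (CommRingCat.of R)).hom s) ^ p
  rw [map_pow]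

/-- The spectrum of a perfect ring is a perfect scheme. -/
theorem isPerfect_Spec (R : Type u) [CommRing R] [CharP R p] [PerfectRing R p] :
    IsPerfect (Spec (CommRingCat.of R)) p := by
  show IsIso (frob (Spec (CommRingCat.of R)) p)
  rw [frob_Spec]
  haveI : IsIso (CommRingCat.ofHom (frobenius R p)) :=
    (ConcreteCategory.isIso_iff_bijective _).mpr (bijective_frobenius R p)
  infer_instance

/-- Sections of a perfect scheme: `s ↦ s ^ p` is bijective. -/
theorem bijective_pow_of_isPerfect {Y : Scheme.{u}} [IsCharP Y p] (hY : IsPerfect Y p)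
    (U : Y.Opens) : Function.Bijective (fun s : Γ(Y, U) => s ^ p) := by
  haveI : IsIso (frob Y p) := hY
  have h : IsIso ((frob Y p).app U) := inferInstance
  exact (ConcreteCategory.isIso_iff_bijective _).mp h

end Groth.Agent.Helper22.Perf
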