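import Mathlib
import Groth.Prelude.Def_Frob
import Groth.Agent.Lib.Helper22.Perf1

/-!
# Perfections of schemes: the affine model and topological consequences
-/

set_option autoImplicit false

universe u

open CategoryTheory CategoryTheory.Limits AlgebraicGeometry FrobSch Opposite

namespace Groth.Agent.Helper22.Perf

variable (p : ℕ) [Fact p.Prime]

theorem charP_sections {X : Scheme.{u}} [IsCharP X p] (U : X.Opens) [Nonempty U] :
    CharP Γ(X, U) p :=
  (CharP.charP_iff_prime_eq_zero Fact.out).2 (natCast_eq_zero_app X p U)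

theorem natCast_residueField_eq_zero (X : Scheme.{u}) [IsCharP X p] (x : X) :
    (p : X.residueField x) = 0 := by
  have h0 : (p : Γ(X, ⊤)) = 0 := IsCharP.natCast_eq_zero
  have h := congrArg (fun s => (X.residue x).hom ((X.presheaf.germ ⊤ x trivial).hom s)) h0
  simpa using h

theorem charP_residueField (X : Scheme.{u}) [IsCharP X p] (x : X) :
    CharP (X.residueField x) p :=
  (CharP.charP_iff_prime_eq_zero Fact.out).2 (natCast_residueField_eq_zero p X x)

/-- The affine model of the perfection. -/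
theorem isPerfection_Spec_perfectClosure (A : Type u) [CommRing A] [CharP A p] :
    IsPerfection (Spec.map (CommRingCat.ofHom (PerfectClosure.of A p))) p := by
  refine ⟨isPerfect_Spec p (PerfectClosure A p), fun Y _ hY => ?_⟩
  by_cases hne : Nonempty Y
  swap
  · haveI : IsEmpty Y := not_nonempty_iff.mp hne
    exact ⟨fun g₁ g₂ _ => (isInitialOfIsEmpty (X := Y)).hom_ext _ _,
      fun t => ⟨(isInitialOfIsEmpty (X := Y)).to _, (isInitialOfIsEmpty (X := Y)).hom_ext _ _⟩⟩
  haveI : Nonempty (⊤ : Y.Opens) := ⟨⟨hne.some, trivial⟩⟩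
  haveI : Nontrivial Γ(Y, ⊤) := Scheme.component_nontrivial Y ⊤
  haveI : CharP Γ(Y, ⊤) p := charP_sections p ⊤
  haveI : PerfectRing Γ(Y, ⊤) p := ⟨bijective_pow_of_isPerfect p hY ⊤⟩
  let EA := ΓSpec.adjunction.homEquiv Y (op (CommRingCat.of A))
  let EB := ΓSpec.adjunction.homEquiv Y (op (CommRingCat.of (PerfectClosure A p)))
  have hnat : ∀ f : Scheme.Γ.rightOp.obj Y ⟶ op (CommRingCat.of (PerfectClosure A p)),
      EB f ≫ Spec.map (CommRingCat.ofHom (PerfectClosure.of A p)) =
        EA (f ≫ (CommRingCat.ofHom (PerfectClosure.of A p)).op) := by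
    intro f
    exact (ΓSpec.adjunction.homEquiv_naturality_right f
      (CommRingCat.ofHom (PerfectClosure.of A p)).op).symm
  refine ⟨?_, ?_⟩
  · intro g₁ g₂ hg
    have hg' : g₁ ≫ Spec.map (CommRingCat.ofHom (PerfectClosure.of A p)) =
      g₂ ≫ Spec.map (CommRingCat.ofHom (PerfectClosure.of A p)) := hg
    obtain ⟨f₁, rfl⟩ := EB.surjective g₁
    obtain ⟨f₂, rfl⟩ := EB.surjective g₂
    rw [hnat, hnat] at hg'
    have h2 := EA.injective hg'
    have h3 : (CommRingCat.ofHom (PerfectClosure.of A p)) ≫ f₁.unop =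
        (CommRingCat.ofHom (PerfectClosure.of A p)) ≫ f₂.unop := congrArg Quiver.Hom.unop h2
    have h4 : f₁.unop.hom.comp (PerfectClosure.of A p) =
        f₂.unop.hom.comp (PerfectClosure.of A p) := congrArg CommRingCat.Hom.hom h3
    have h5 : f₁.unop.hom = f₂.unop.hom :=
      (PerfectClosure.lift A p Γ(Y, ⊤)).symm.injective h4
    have h6 : f₁ = f₂ := Quiver.Hom.unop_inj (CommRingCat.hom_ext h5)
    rw [h6]
  · intro t
    obtain ⟨f, rfl⟩ := EA.surjective t
    let τ : A →+* Γ(Y, ⊤) := f.unop.hom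
    let τ' : PerfectClosure A p →+* Γ(Y, ⊤) := PerfectClosure.lift A p Γ(Y, ⊤) τ
    have hτ : τ'.comp (PerfectClosure.of A p) = τ :=
      (PerfectClosure.lift A p Γ(Y, ⊤)).symm_apply_apply τ
    let g0 : Scheme.Γ.rightOp.obj Y ⟶ op (CommRingCat.of (PerfectClosure A p)) :=
      (CommRingCat.ofHom τ').op
    refine ⟨EB g0, ?_⟩
    show EB g0 ≫ Spec.map (CommRingCat.ofHom (PerfectClosure.of A p)) = EA f
    rw [hnat]
    have h7 : g0 ≫ (CommRingCat.ofHom (PerfectClosure.of A p)).op = f := by
      apply Quiver.Hom.unop_inj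
      show CommRingCat.ofHom (PerfectClosure.of A p) ≫ CommRingCat.ofHom τ' = f.unop
      apply CommRingCat.hom_ext
      exact hτ
    exact congrArg EA h7

/-- Local model of a perfection over an affine open. -/
theorem exists_iso_Spec_perfectClosure {X XP : Scheme.{u}} [IsCharP XP p] (π : XP ⟶ X)
    (h : IsPerfection π p) (U : X.Opens) (hU : IsAffineOpen U) [CharP Γ(X, U) p] :
    ∃ e : (π ⁻¹ᵁ U).toScheme ≅ Spec (CommRingCat.of (PerfectClosure Γ(X, U) p)),
      e.hom ≫ Spec.map (CommRingCat.ofHom (PerfectClosure.of Γ(X, U) p)) ≫ hU.isoSpec.inv =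
        π ∣_ U := by
  have h1 := isPerfection_morphismRestrict p π h U
  have h2 := isPerfection_comp_iso p _ hU.isoSpec.symm
    (isPerfection_Spec_perfectClosure p Γ(X, U))
  exact exists_iso_of_isPerfection p _ _ h1 h2

theorem pow_eq_of (A : Type u) [CommRing A] [CharP A p] (n : ℕ) (a : A) :
    PerfectClosure.mk A p (n, a) ^ p ^ n = PerfectClosure.of A p a := by
  rw [← PerfectClosure.iterate_frobenius_mk A p n a, iterate_frobenius]

theorem isIntegral_of (A : Type u) [CommRing A] [CharP A p] :
    (PerfectClosure.of A p).IsIntegral := by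
  intro y
  induction y using PerfectClosure.induction_on with
  | _ x =>
    obtain ⟨n, a⟩ := x
    refine ⟨Polynomial.X ^ (p ^ n) - Polynomial.C a,
      Polynomial.monic_X_pow_sub_C a (pow_ne_zero n (Fact.out : p.Prime).ne_zero), ?_⟩
    rw [Polynomial.eval₂_sub, Polynomial.eval₂_pow, Polynomial.eval₂_X, Polynomial.eval₂_C,
      sub_eq_zero]
    exact pow_eq_of p A n a

theorem iSup_nonempty_affineOpens (X : Scheme.{u}) :
    ⨆ U : {U : X.affineOpens // Nonempty U.1}, (U.1.1 : X.Opens) = ⊤ := by
  rw [eq_top_iff]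
  rintro x -
  obtain ⟨W, hW, hxW, -⟩ := exists_isAffineOpen_mem_and_subset (x := x) (U := ⊤) trivial
  exact TopologicalSpace.Opens.mem_iSup.mpr ⟨⟨⟨W, hW⟩, ⟨⟨x, hxW⟩⟩⟩, hxW⟩

/-- A perfection is an integral morphism. -/
theorem isIntegralHom_of_isPerfection {X XP : Scheme.{u}} [IsCharP X p] [IsCharP XP p]
    (π : XP ⟶ X) (h : IsPerfection π p) : IsIntegralHom π := by
  refine IsZariskiLocalAtTarget.of_iSup_eq_top (P := @IsIntegralHom)
    (fun U : {U : X.affineOpens // Nonempty U.1} => U.1.1) (iSup_nonempty_affineOpens X) ?_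
  rintro ⟨⟨U, hU⟩, hne⟩
  haveI := hne
  haveI : CharP Γ(X, U) p := charP_sections p U
  obtain ⟨e, he⟩ := exists_iso_Spec_perfectClosure p π h U hU
  show IsIntegralHom (π ∣_ U)
  rw [← he]
  haveI : IsIntegralHom (Spec.map (CommRingCat.ofHom (PerfectClosure.of Γ(X, U) p))) :=
    IsIntegralHom.SpecMap_iff.mpr (isIntegral_of p _)
  infer_instance

theorem universallyInjective_Spec_of (A : Type u) [CommRing A] [CharP A p] :
    UniversallyInjective (Spec.map (CommRingCat.ofHom (PerfectClosure.of A p))) := by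
  have htfae := (tfae_universallyInjective
    (Spec.map (CommRingCat.ofHom (PerfectClosure.of A p)))).out 0 1
  rw [htfae]
  intro K _ g₁ g₂ hg
  have hg' : g₁ ≫ Spec.map (CommRingCat.ofHom (PerfectClosure.of A p)) =
    g₂ ≫ Spec.map (CommRingCat.ofHom (PerfectClosure.of A p)) := hg
  rw [← Spec.map_preimage g₁, ← Spec.map_preimage g₂] at hg' ⊢
  rw [← Spec.map_comp, ← Spec.map_comp] at hg'
  have h2 := Spec.map_injective hg'
  have h3 : ∀ a : A, (Spec.preimage g₁).hom (PerfectClosure.of A p a) =
      (Spec.preimage g₂).hom (PerfectClosure.of A p a) := fun a =>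
    congrArg (fun φ => φ.hom a) h2
  have hp0 : (p : K) = 0 := by
    have := map_natCast (Spec.preimage g₁).hom p
    rw [← this, CharP.cast_eq_zero (PerfectClosure A p) p, map_zero]
  haveI : CharP K p := (CharP.charP_iff_prime_eq_zero Fact.out).2 hp0
  congr 1
  apply CommRingCat.hom_ext
  apply RingHom.ext
  intro y
  induction y using PerfectClosure.induction_on with
  | _ x =>
    obtain ⟨n, a⟩ := x
    apply (frobenius_inj K p).iterate n
    rw [iterate_frobenius, iterate_frobenius, ← map_pow, ← map_pow, pow_eq_of]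
    exact h3 a

/-- A perfection is universally injective. -/
theorem universallyInjective_of_isPerfection {X XP : Scheme.{u}} [IsCharP X p] [IsCharP XP p]
    (π : XP ⟶ X) (h : IsPerfection π p) : UniversallyInjective π := by
  refine IsZariskiLocalAtTarget.of_iSup_eq_top (P := @UniversallyInjective)
    (fun U : {U : X.affineOpens // Nonempty U.1} => U.1.1) (iSup_nonempty_affineOpens X) ?_
  rintro ⟨⟨U, hU⟩, hne⟩
  haveI := hne
  haveI : CharP Γ(X, U) p := charP_sections p U
  obtain ⟨e, he⟩ := exists_iso_Spec_perfectClosure p π h U hU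
  show UniversallyInjective (π ∣_ U)
  rw [← he]
  have h1 := universallyInjective_Spec_of p Γ(X, U)
  have h2 : UniversallyInjective hU.isoSpec.inv := inferInstance
  have h3 : UniversallyInjective e.hom := inferInstance
  exact MorphismProperty.comp_mem _ _ _ h3 (MorphismProperty.comp_mem _ _ _ h1 h2)

/-- A perfection is surjective. -/
theorem surjective_of_isPerfection {X XP : Scheme.{u}} [IsCharP X p] [IsCharP XP p]
    (π : XP ⟶ X) (h : IsPerfection π p) : Surjective π := by
  refine ⟨fun x => ?_⟩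
  haveI : CharP (X.residueField x) p := charP_residueField p X x
  obtain ⟨s, hs⟩ := (h.2 (Spec (CommRingCat.of (PerfectClosure (X.residueField x) p)))
    (isPerfect_Spec p (PerfectClosure (X.residueField x) p))).surjective
    (Spec.map (CommRingCat.ofHom (PerfectClosure.of (X.residueField x) p)) ≫
      X.fromSpecResidueField x)
  have hs' : s ≫ π = Spec.map (CommRingCat.ofHom (PerfectClosure.of (X.residueField x) p)) ≫
      X.fromSpecResidueField x := hs
  refine ⟨s default, ?_⟩
  rw [← Scheme.Hom.comp_apply, hs', Scheme.Hom.comp_apply, Scheme.fromSpecResidueField_apply]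

end Groth.Agent.Helper22.Perf
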