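import Mathlib
import Groth.Prelude.Def_Frob
import Groth.Agent.Lib.Helper22.Perf2

/-!
# Perfections are homeomorphisms; transfer of topological properties
-/

set_option autoImplicit false

universe u

open CategoryTheory CategoryTheory.Limits AlgebraicGeometry FrobSch Opposite

namespace Groth.Agent.Helper22.Perf

variable (p : ℕ) [Fact p.Prime]

theorem isHomeomorph_of_isPerfection {X XP : Scheme.{u}} [IsCharP X p] [IsCharP XP p]
    (π : XP ⟶ X) (h : IsPerfection π p) : IsHomeomorph π := by
  haveI := isIntegralHom_of_isPerfection p π h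
  haveI := universallyInjective_of_isPerfection p π h
  haveI := surjective_of_isPerfection p π h
  exact isHomeomorph_iff_continuous_isClosedMap_bijective.mpr
    ⟨π.continuous, π.isClosedMap, π.injective, π.surjective⟩

theorem quasiCompact_iff_of_isHomeomorph {X Y XP YP : Scheme.{u}} (πX : XP ⟶ X) (πY : YP ⟶ Y)
    (hX : IsHomeomorph πX) (hY : IsHomeomorph πY) (f : X ⟶ Y) (fP : XP ⟶ YP)
    (w : fP ≫ πY = πX ≫ f) : QuasiCompact f ↔ QuasiCompact fP := by
  have hw : ∀ x, πY (fP x) = f (πX x) := fun x => by
    rw [← Scheme.Hom.comp_apply, w, Scheme.Hom.comp_apply]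
  constructor
  · intro hf
    refine ⟨fun V hVo hVc => ?_⟩
    have h1 : fP ⁻¹' V = πX ⁻¹' (f ⁻¹' (πY '' V)) := by
      ext x
      simp only [Set.mem_preimage, Set.mem_image]
      constructor
      · intro hx; exact ⟨fP x, hx, hw x⟩
      · rintro ⟨v, hv, hvx⟩
        have : v = fP x := hY.injective (hvx.trans (hw x).symm)
        rwa [← this]
    rw [h1]
    have h2 : IsCompact (f ⁻¹' (πY '' V)) :=
      hf.isCompact_preimage _ (hY.isOpenMap _ hVo) (hVc.image hY.continuous)
    exact hX.isClosedEmbedding.isCompact_preimage h2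
  · intro hfP
    refine ⟨fun U hUo hUc => ?_⟩
    have h1 : f ⁻¹' U = πX '' (fP ⁻¹' (πY ⁻¹' U)) := by
      ext x
      simp only [Set.mem_preimage, Set.mem_image]
      constructor
      · intro hx
        obtain ⟨x', rfl⟩ := hX.surjective x
        exact ⟨x', by rw [hw]; exact hx, rfl⟩
      · rintro ⟨x', hx', rfl⟩
        rw [← hw]; exact hx'
    rw [h1]
    refine IsCompact.image ?_ hX.continuous
    exact hfP.isCompact_preimage _ (hUo.preimage hY.continuous)
      (hY.isClosedEmbedding.isCompact_preimage hUc)

end Groth.Agent.Helper22.Perf
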