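import Mathlib
import Groth.Prelude.Def_Frob
import Groth.Agent.Lib.Helper22.Perf3

/-!
# Transfer of properties between a morphism and its perfection
-/

set_option autoImplicit false

universe u

open CategoryTheory CategoryTheory.Limits AlgebraicGeometry FrobSch Opposite

namespace Groth.Agent.Helper22.Perf

theorem universallyInjective_of_comp {X Y Z : Scheme.{u}} (f : X ⟶ Y) (g : Y ⟶ Z)
    (h : UniversallyInjective (f ≫ g)) : UniversallyInjective f := by
  have h1 := (tfae_universallyInjective f).out 0 1
  have h2 := (tfae_universallyInjective (f ≫ g)).out 0 1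
  rw [h1]
  intro K _ g₁ g₂ hg
  have hg' : g₁ ≫ f = g₂ ≫ f := hg
  apply (h2.mp h) K
  show g₁ ≫ f ≫ g = g₂ ≫ f ≫ g
  rw [← Category.assoc, ← Category.assoc, hg']

theorem universallyInjective_of_comp_left {X' X Y : Scheme.{u}} (π : X' ⟶ X) (f : X ⟶ Y)
    (hπ : Surjective π) (h : UniversallyInjective (π ≫ f)) (hinj : Function.Injective f) :
    UniversallyInjective f := by
  have h1 := (tfae_universallyInjective f).out 0 2
  have h2 := (tfae_universallyInjective (π ≫ f)).out 0 2
  rw [h1]
  refine ⟨hinj, fun x => ?_⟩
  obtain ⟨x', rfl⟩ := hπ.surj x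
  have h3 := (h2.mp h).2 x'
  rw [Scheme.residueFieldMap_comp] at h3
  letI a1 : Algebra (Y.residueField (f (π x'))) (X.residueField (π x')) :=
    (f.residueFieldMap (π x')).hom.toAlgebra
  letI a2 : Algebra (X.residueField (π x')) (X'.residueField x') :=
    (π.residueFieldMap x').hom.toAlgebra
  letI a3 : Algebra (Y.residueField (f (π x'))) (X'.residueField x') :=
    ((π.residueFieldMap x').hom.comp (f.residueFieldMap (π x')).hom).toAlgebra
  haveI : IsScalarTower (Y.residueField (f (π x'))) (X.residueField (π x'))
      (X'.residueField x') := IsScalarTower.of_algebraMap_eq (fun _ => rfl)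
  haveI : IsPurelyInseparable (Y.residueField (f (π x'))) (X'.residueField x') := h3
  show IsPurelyInseparable (Y.residueField (f (π x'))) (X.residueField (π x'))
  exact IsPurelyInseparable.tower_bot _ _ (X'.residueField x')

variable (p : ℕ) [Fact p.Prime]

section
variable {X Y XP YP : Scheme.{u}} [IsCharP X p] [IsCharP Y p] [IsCharP XP p] [IsCharP YP p]
  (πX : XP ⟶ X) (πY : YP ⟶ Y) (hX : IsPerfection πX p) (hY : IsPerfection πY p)
  (f : X ⟶ Y) (fP : XP ⟶ YP) (w : fP ≫ πY = πX ≫ f)
include hX hY w

theorem apply_eq (x : XP) : πY (fP x) = f (πX x) := by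
  rw [← Scheme.Hom.comp_apply, w, Scheme.Hom.comp_apply]

theorem universallyClosed_iff : UniversallyClosed f ↔ UniversallyClosed fP := by
  haveI hπX := isIntegralHom_of_isPerfection p πX hX
  haveI hπY := isIntegralHom_of_isPerfection p πY hY
  haveI : Surjective πX := surjective_of_isPerfection p πX hX
  haveI : IsSeparated πY := IsSeparated.of_isAffineHom πY
  constructor
  · intro hf
    haveI : UniversallyClosed (fP ≫ πY) := by rw [w]; infer_instance
    exact UniversallyClosed.of_comp_of_isSeparated fP πY
  · intro hfP
    haveI : UniversallyClosed (πX ≫ f) := by rw [← w]; infer_instance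
    exact UniversallyClosed.of_comp_surjective πX f

theorem injective_iff : Function.Injective f ↔ Function.Injective fP := by
  have hhX := isHomeomorph_of_isPerfection p πX hX
  have hhY := isHomeomorph_of_isPerfection p πY hY
  have hw := apply_eq p πX πY hX hY f fP w
  constructor
  · intro hf a b hab
    apply hhX.injective
    apply hf
    rw [← hw, ← hw, hab]
  · intro hfP a b hab
    obtain ⟨a', rfl⟩ := hhX.surjective a
    obtain ⟨b', rfl⟩ := hhX.surjective b
    rw [← hw, ← hw] at hab
    rw [hfP (hhY.injective hab)]

theorem surjective_iff : Surjective f ↔ Surjective fP := by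
  have hhX := isHomeomorph_of_isPerfection p πX hX
  have hhY := isHomeomorph_of_isPerfection p πY hY
  have hw := apply_eq p πX πY hX hY f fP w
  constructor
  · intro hf
    refine ⟨fun y' => ?_⟩
    obtain ⟨x, hx⟩ := hf.surj (πY y')
    obtain ⟨x', rfl⟩ := hhX.surjective x
    exact ⟨x', hhY.injective ((hw x').trans hx)⟩
  · intro hfP
    refine ⟨fun y => ?_⟩
    obtain ⟨y', rfl⟩ := hhY.surjective y
    obtain ⟨x', rfl⟩ := hfP.surj y'
    exact ⟨πX x', (hw x').symm⟩

theorem universallyInjective_iff : UniversallyInjective f ↔ UniversallyInjective fP := by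
  have hiX := universallyInjective_of_isPerfection p πX hX
  have hiY := universallyInjective_of_isPerfection p πY hY
  have hsX := surjective_of_isPerfection p πX hX
  constructor
  · intro hf
    have h1 : UniversallyInjective (fP ≫ πY) := by
      rw [w]; exact MorphismProperty.comp_mem _ _ _ hiX hf
    exact universallyInjective_of_comp fP πY h1
  · intro hfP
    have h1 : UniversallyInjective (πX ≫ f) := by
      rw [← w]; exact MorphismProperty.comp_mem _ _ _ hfP hiY
    exact universallyInjective_of_comp_left πX f hsX h1
      ((injective_iff p πX πY hX hY f fP w).mpr (haveI := hfP; fP.injective))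

end

end Groth.Agent.Helper22.Perf
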