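import Mathlib
import Groth.Prelude.Def_Frob
import Groth.Agent.Lib.Helper22.Perf4

/-!
# Quasi-separatedness and perfection
-/

set_option autoImplicit false

universe u

open CategoryTheory CategoryTheory.Limits AlgebraicGeometry FrobSch Opposite

namespace Groth.Agent.Helper22.Perf

variable (p : ℕ) [Fact p.Prime]

theorem iSup_preimage_affineOpens {Y YP : Scheme.{u}} (πY : YP ⟶ Y) :
    ⨆ U : Y.affineOpens, (πY ⁻¹ᵁ U.1 : YP.Opens) = ⊤ := by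
  rw [eq_top_iff]
  rintro y' -
  obtain ⟨W, hW, hyW, -⟩ := exists_isAffineOpen_mem_and_subset (x := πY y') (U := ⊤) trivial
  exact TopologicalSpace.Opens.mem_iSup.mpr ⟨⟨W, hW⟩, hyW⟩

theorem quasiSeparated_iff {X Y XP YP : Scheme.{u}} [IsCharP X p] [IsCharP Y p]
    [IsCharP XP p] [IsCharP YP p]
    (πX : XP ⟶ X) (πY : YP ⟶ Y) (hX : IsPerfection πX p) (hY : IsPerfection πY p)
    (f : X ⟶ Y) (fP : XP ⟶ YP) (w : fP ≫ πY = πX ≫ f) :
    QuasiSeparated f ↔ QuasiSeparated fP := by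
  have hhX := isHomeomorph_of_isPerfection p πX hX
  haveI := isIntegralHom_of_isPerfection p πY hY
  have hw := apply_eq p πX πY hX hY f fP w
  rw [HasAffineProperty.iff_of_iSup_eq_top (P := @QuasiSeparated)
      (fun U : Y.affineOpens => U) (iSup_affineOpens_eq_top Y),
    HasAffineProperty.iff_of_iSup_eq_top (P := @QuasiSeparated)
      (fun U : Y.affineOpens =>
        (⟨πY ⁻¹ᵁ U.1, IsAffineHom.isAffine_preimage (f := πY) U.1 U.2⟩ : YP.affineOpens))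
      (iSup_preimage_affineOpens πY)]
  refine forall_congr' fun U => ?_
  show QuasiSeparatedSpace ↥(f ⁻¹ᵁ U.1) ↔ QuasiSeparatedSpace ↥(fP ⁻¹ᵁ (πY ⁻¹ᵁ U.1))
  have e1 := isQuasiSeparated_iff_quasiSeparatedSpace ((f ⁻¹ᵁ U.1 : X.Opens) : Set X)
    (f ⁻¹ᵁ U.1).2
  have e2 := isQuasiSeparated_iff_quasiSeparatedSpace
    ((fP ⁻¹ᵁ (πY ⁻¹ᵁ U.1) : XP.Opens) : Set XP) (fP ⁻¹ᵁ (πY ⁻¹ᵁ U.1)).2
  refine Iff.trans e1.symm (Iff.trans ?_ e2)
  have hset : ((fP ⁻¹ᵁ (πY ⁻¹ᵁ U.1) : XP.Opens) : Set XP) =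
      πX ⁻¹' ((f ⁻¹ᵁ U.1 : X.Opens) : Set X) := by
    ext x
    show πY (fP x) ∈ U.1 ↔ f (πX x) ∈ U.1
    rw [hw]
  rw [hset]
  have h5 := hhX.isOpenEmbedding.isQuasiSeparated_iff
    (s := πX ⁻¹' ((f ⁻¹ᵁ U.1 : X.Opens) : Set X))
  rw [Set.image_preimage_eq _ hhX.surjective] at h5
  exact h5.symm

end Groth.Agent.Helper22.Perf
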