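import Mathlib
import Groth.Prelude.Def_Frob
import Groth.Agent.Lib.Helper22.Perf4

/-!
# Localising a perfection square; perfection of closed immersions
-/

set_option autoImplicit false

universe u

open CategoryTheory CategoryTheory.Limits AlgebraicGeometry FrobSch Opposite

namespace Groth.Agent.Helper22.Perf

variable (p : ℕ) [Fact p.Prime]

/-- Precomposition of a perfection with an isomorphism. -/
theorem isPerfection_iso_comp {X XP XP' : Scheme.{u}} [IsCharP XP p] [IsCharP XP' p]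
    (π : XP ⟶ X) (e : XP' ≅ XP) (h : IsPerfection π p) : IsPerfection (e.hom ≫ π) p := by
  refine ⟨isPerfect_of_iso p e h.1, fun Y _ hY => ⟨?_, ?_⟩⟩
  · intro g₁ g₂ hg
    have hg' : g₁ ≫ e.hom ≫ π = g₂ ≫ e.hom ≫ π := hg
    rw [← cancel_mono e.hom]
    apply (h.2 Y hY).injective
    show (g₁ ≫ e.hom) ≫ π = (g₂ ≫ e.hom) ≫ π
    rw [Category.assoc, Category.assoc, hg']
  · intro t
    obtain ⟨g, hg⟩ := (h.2 Y hY).surjective t
    have hg' : g ≫ π = t := hg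
    refine ⟨g ≫ e.inv, ?_⟩
    show (g ≫ e.inv) ≫ e.hom ≫ π = t
    rw [Category.assoc, e.inv_hom_id_assoc, hg']

/-- Restriction of a perfection square over an open of the base. -/
theorem exists_restrict_square {X Y XP YP : Scheme.{u}} [IsCharP X p] [IsCharP Y p]
    [IsCharP XP p] [IsCharP YP p]
    (πX : XP ⟶ X) (πY : YP ⟶ Y) (hX : IsPerfection πX p)
    (f : X ⟶ Y) (fP : XP ⟶ YP) (w : fP ≫ πY = πX ≫ f) (U : Y.Opens) :
    ∃ πX₁ : (fP ⁻¹ᵁ (πY ⁻¹ᵁ U)).toScheme ⟶ (f ⁻¹ᵁ U).toScheme,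
      IsPerfection πX₁ p ∧ (fP ∣_ (πY ⁻¹ᵁ U)) ≫ (πY ∣_ U) = πX₁ ≫ (f ∣_ U) := by
  have hEq : fP ⁻¹ᵁ (πY ⁻¹ᵁ U) = πX ⁻¹ᵁ (f ⁻¹ᵁ U) := by
    show (fP ≫ πY) ⁻¹ᵁ U = (πX ≫ f) ⁻¹ᵁ U
    rw [w]
  refine ⟨(XP.isoOfEq hEq).hom ≫ (πX ∣_ (f ⁻¹ᵁ U)),
    isPerfection_iso_comp p _ (XP.isoOfEq hEq)
      (isPerfection_morphismRestrict p πX hX (f ⁻¹ᵁ U)), ?_⟩
  rw [← cancel_mono U.ι]
  simp only [Category.assoc, morphismRestrict_ι, morphismRestrict_ι_assoc,
    Scheme.isoOfEq_hom_ι_assoc, w]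

theorem pow_injective_of_isPerfect {Y : Scheme.{u}} [IsCharP Y p] (hY : IsPerfect Y p)
    (U : Y.Opens) (n : ℕ) : Function.Injective (fun s : Γ(Y, U) => s ^ p ^ n) := by
  have h := (bijective_pow_of_isPerfect p hY U).injective.iterate n
  rwa [pow_iterate] at h

theorem pow_surjective_of_isPerfect {Y : Scheme.{u}} [IsCharP Y p] (hY : IsPerfect Y p)
    (U : Y.Opens) (n : ℕ) : Function.Surjective (fun s : Γ(Y, U) => s ^ p ^ n) := by
  have h := (bijective_pow_of_isPerfect p hY U).surjective.iterate n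
  rwa [pow_iterate] at h

/-- Global sections of the perfection of an affine scheme: some `p^n`-th power comes from below. -/
theorem exists_pow_eq_appTop {X XP : Scheme.{u}} [IsCharP X p] [IsCharP XP p] [IsAffine X]
    (πX : XP ⟶ X) (hX : IsPerfection πX p) (t : Γ(XP, ⊤)) :
    ∃ (n : ℕ) (b : Γ(X, ⊤)), t ^ p ^ n = πX.appTop b := by
  by_cases hne : Nonempty X
  swap
  · haveI : IsEmpty X := not_nonempty_iff.mp hne
    haveI : IsEmpty XP := ⟨fun x => IsEmpty.false (πX x)⟩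
    exact ⟨0, 0, Subsingleton.elim _ _⟩
  haveI : Nonempty (⊤ : X.Opens) := ⟨⟨hne.some, trivial⟩⟩
  haveI : CharP Γ(X, ⊤) p := charP_sections p ⊤
  have h2 := isPerfection_comp_iso p _ X.isoSpec.symm
    (isPerfection_Spec_perfectClosure p Γ(X, ⊤))
  obtain ⟨e, he⟩ := exists_iso_of_isPerfection p _ _ hX h2
  have he' : e.hom ≫ Spec.map (CommRingCat.ofHom (PerfectClosure.of Γ(X, ⊤) p)) =
      πX ≫ X.toSpecΓ := by
    have h3 : e.hom ≫ Spec.map (CommRingCat.ofHom (PerfectClosure.of Γ(X, ⊤) p)) ≫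
        X.isoSpec.inv = πX := he
    rw [← h3, Category.assoc, Category.assoc]
    have h4 : X.isoSpec.inv ≫ X.toSpecΓ = 𝟙 _ := X.isoSpec.inv_hom_id
    rw [h4]
    erw [Category.comp_id]
  have hkey : ∀ z : Γ(Spec (CommRingCat.of Γ(X, ⊤)), ⊤),
      e.hom.appTop ((Spec.map (CommRingCat.ofHom (PerfectClosure.of Γ(X, ⊤) p))).appTop z) =
        πX.appTop (X.toSpecΓ.appTop z) := by
    intro z
    have h5 := congrArg (fun φ => φ.appTop.hom z) he'
    simp only [Scheme.Hom.comp_appTop, CommRingCat.hom_comp, RingHom.comp_apply] at h5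
    exact h5
  have ht : e.hom.appTop (e.inv.appTop t) = t := by
    have h6 := congrArg (fun φ => φ.appTop.hom t) e.hom_inv_id
    simp only [Scheme.Hom.comp_appTop, CommRingCat.hom_comp, RingHom.comp_apply] at h6
    exact h6
  set t₀ := e.inv.appTop t with ht₀
  set y := (Scheme.ΓSpecIso (CommRingCat.of (PerfectClosure Γ(X, ⊤) p))).hom t₀ with hy
  have hyt : (Scheme.ΓSpecIso (CommRingCat.of (PerfectClosure Γ(X, ⊤) p))).inv y = t₀ := by
    rw [hy]
    exact congrArg (fun φ => φ.hom t₀)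
      (Scheme.ΓSpecIso (CommRingCat.of (PerfectClosure Γ(X, ⊤) p))).hom_inv_id
  obtain ⟨⟨n, a⟩, hna⟩ := PerfectClosure.mk_surjective Γ(X, ⊤) p y
  refine ⟨n, a, ?_⟩
  have hz : (Spec.map (CommRingCat.ofHom (PerfectClosure.of Γ(X, ⊤) p))).appTop
      ((Scheme.ΓSpecIso (CommRingCat.of Γ(X, ⊤))).inv a) = t₀ ^ p ^ n := by
    have h7 := congrArg (fun φ => φ.hom a)
      (Scheme.ΓSpecIso_inv_naturality (CommRingCat.ofHom (PerfectClosure.of Γ(X, ⊤) p)))
    simp only [CommRingCat.hom_comp, RingHom.comp_apply, CommRingCat.hom_ofHom] at h7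
    rw [← h7, ← pow_eq_of p Γ(X, ⊤) n a, hna, map_pow, hyt]
  have h8 := hkey ((Scheme.ΓSpecIso (CommRingCat.of Γ(X, ⊤))).inv a)
  rw [hz, map_pow, ht] at h8
  rw [h8]
  congr 1
  have h9 := congrArg (fun φ => φ.hom ((Scheme.ΓSpecIso (CommRingCat.of Γ(X, ⊤))).inv a))
    (Scheme.toSpecΓ_appTop X)
  refine h9.trans ?_
  exact congrArg (fun φ => φ.hom a) (Scheme.ΓSpecIso (CommRingCat.of Γ(X, ⊤))).inv_hom_id

end Groth.Agent.Helper22.Perf
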