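import Mathlib
import Groth.Prelude.Def_Frob
import Groth.Agent.Lib.Helper22.Perf6
import Groth.Agent.Lib.Helper22.Perf7

/-!
# Perfection of closed immersions and immersions
-/

set_option autoImplicit false

universe u

open CategoryTheory CategoryTheory.Limits AlgebraicGeometry FrobSch Opposite

namespace Groth.Agent.Helper22.Perf

variable (p : ℕ) [Fact p.Prime]

theorem isClosedImmersion_perfection_of_isAffine {X Y XP YP : Scheme.{u}} [IsCharP X p]
    [IsCharP Y p] [IsCharP XP p] [IsCharP YP p] [IsAffine X] [IsAffine Y]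
    (πX : XP ⟶ X) (πY : YP ⟶ Y) (hX : IsPerfection πX p) (hY : IsPerfection πY p)
    (f : X ⟶ Y) (fP : XP ⟶ YP) (w : fP ≫ πY = πX ≫ f) [IsClosedImmersion f] :
    IsClosedImmersion fP := by
  haveI := isIntegralHom_of_isPerfection p πX hX
  haveI := isIntegralHom_of_isPerfection p πY hY
  haveI : IsAffine XP := isAffine_of_isAffineHom πX
  haveI : IsAffine YP := isAffine_of_isAffineHom πY
  apply IsClosedImmersion.of_surjective_of_isAffine
  intro t
  obtain ⟨n, b, hb⟩ := exists_pow_eq_appTop p πX hX t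
  obtain ⟨a, rfl⟩ := (IsClosedImmersion.isAffine_surjective_of_isAffine (f := f)).2 b
  obtain ⟨a', ha'⟩ := pow_surjective_of_isPerfect p hY.1 ⊤ n (πY.appTop a)
  have ha'' : a' ^ p ^ n = πY.appTop a := ha'
  refine ⟨a', ?_⟩
  apply pow_injective_of_isPerfect p hX.1 ⊤ n
  show (fP.appTop a') ^ p ^ n = t ^ p ^ n
  rw [← map_pow, ha'', hb]
  have h1 := congrArg (fun φ => φ.appTop.hom a) w
  simp only [Scheme.Hom.comp_appTop, CommRingCat.hom_comp, RingHom.comp_apply] at h1
  exact h1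

theorem isClosedImmersion_perfection {X Y XP YP : Scheme.{u}} [IsCharP X p]
    [IsCharP Y p] [IsCharP XP p] [IsCharP YP p]
    (πX : XP ⟶ X) (πY : YP ⟶ Y) (hX : IsPerfection πX p) (hY : IsPerfection πY p)
    (f : X ⟶ Y) (fP : XP ⟶ YP) (w : fP ≫ πY = πX ≫ f) [IsClosedImmersion f] :
    IsClosedImmersion fP := by
  haveI := isIntegralHom_of_isPerfection p πY hY
  refine IsZariskiLocalAtTarget.of_iSup_eq_top (P := @IsClosedImmersion)
    (fun U : Y.affineOpens => πY ⁻¹ᵁ U.1) (iSup_preimage_affineOpens πY) ?_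
  intro U
  obtain ⟨πX₁, h1, h2⟩ := exists_restrict_square p πX πY hX f fP w U.1
  haveI : IsAffine (U.1 : Scheme) := U.2
  haveI : IsAffine ((f ⁻¹ᵁ U.1 : X.Opens) : Scheme) :=
    IsAffineHom.isAffine_preimage (f := f) U.1 U.2
  exact isClosedImmersion_perfection_of_isAffine p πX₁ (πY ∣_ U.1) h1
    (isPerfection_morphismRestrict p πY hY U.1) (f ∣_ U.1) (fP ∣_ (πY ⁻¹ᵁ U.1)) h2

theorem isImmersion_perfection {X Y XP YP : Scheme.{u}} [IsCharP X p]
    [IsCharP Y p] [IsCharP XP p] [IsCharP YP p]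
    (πX : XP ⟶ X) (πY : YP ⟶ Y) (hX : IsPerfection πX p) (hY : IsPerfection πY p)
    (f : X ⟶ Y) (fP : XP ⟶ YP) (w : fP ≫ πY = πX ≫ f) [IsImmersion f] :
    IsImmersion fP := by
  have hU := isPerfection_morphismRestrict p πY hY f.coborderRange
  obtain ⟨gP, hgP⟩ := (hU.2 XP hX.1).surjective (πX ≫ f.liftCoborder)
  have hgP' : gP ≫ (πY ∣_ f.coborderRange) = πX ≫ f.liftCoborder := hgP
  haveI : IsClosedImmersion gP :=
    isClosedImmersion_perfection p πX (πY ∣_ f.coborderRange) hX hU f.liftCoborder gP hgP'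
  have h3 : gP ≫ (πY ⁻¹ᵁ f.coborderRange).ι = fP := by
    apply (hY.2 XP hX.1).injective
    show (gP ≫ (πY ⁻¹ᵁ f.coborderRange).ι) ≫ πY = fP ≫ πY
    rw [Category.assoc, ← morphismRestrict_ι, ← Category.assoc, hgP', Category.assoc,
      Scheme.Hom.liftCoborder_ι, w]
  rw [← h3]
  infer_instance

end Groth.Agent.Helper22.Perf
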