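import Mathlib
import Groth.Prelude.Def_Frob
import Groth.Agent.Lib.Helper22.Perf8

/-!
# Perfection preserves flatness
-/

set_option autoImplicit false

universe u

open CategoryTheory CategoryTheory.Limits AlgebraicGeometry FrobSch Opposite

namespace Groth.Agent.Helper22.Perf

variable (p : ℕ) [Fact p.Prime]

/-- The kernel of `π^♯` over a quasi-compact open consists of nilpotent sections. -/
theorem isNilpotent_of_app_eq_zero {X XP : Scheme.{u}} [IsCharP X p] [IsCharP XP p]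
    (πX : XP ⟶ X) (hX : IsPerfection πX p) (U : X.Opens) (hU : IsCompact (U : Set X))
    (b : Γ(X, U)) (hb : πX.app U b = 0) : IsNilpotent b := by
  have hs := surjective_of_isPerfection p πX hX
  rw [Scheme.isNilpotent_iff_basicOpen_eq_bot_of_isCompact hU]
  have h1 : πX ⁻¹ᵁ X.basicOpen b = ⊥ := by
    rw [Scheme.preimage_basicOpen, hb, Scheme.basicOpen_zero]
  rw [eq_bot_iff]
  intro x hx
  obtain ⟨x', rfl⟩ := hs.surj x
  have h2 : x' ∈ πX ⁻¹ᵁ X.basicOpen b := hx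
  rw [h1] at h2
  exact h2

theorem exists_pow_eq_zero_of_app_eq_zero {X XP : Scheme.{u}} [IsCharP X p] [IsCharP XP p]
    (πX : XP ⟶ X) (hX : IsPerfection πX p) (U : X.Opens) (hU : IsCompact (U : Set X))
    (b : Γ(X, U)) (hb : πX.app U b = 0) : ∃ n : ℕ, b ^ p ^ n = 0 := by
  obtain ⟨N, hN⟩ := isNilpotent_of_app_eq_zero p πX hX U hU b hb
  exact ⟨N, pow_eq_zero_of_le (Nat.lt_pow_self (Fact.out : p.Prime).one_lt).le hN⟩

/-- Ring-level statement: flatness passes to perfections (equational criterion). -/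
theorem flat_aux {A B A' B' : Type u} [CommRing A] [CommRing B] [CommRing A'] [CommRing B']
    [CharP B p] [CharP A' p] [CharP B' p]
    (iA : A →+* A') (iB : B →+* B') (φ : A →+* B) (φ' : A' →+* B')
    (hcomm : ∀ a, φ' (iA a) = iB (φ a))
    (hA' : ∀ n : ℕ, Function.Bijective (fun a : A' => a ^ p ^ n))
    (hB' : ∀ n : ℕ, Function.Bijective (fun b : B' => b ^ p ^ n))
    (ha : ∀ a' : A', ∃ (n : ℕ) (a : A), a' ^ p ^ n = iA a)
    (hb : ∀ b' : B', ∃ (n : ℕ) (b : B), b' ^ p ^ n = iB b)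
    (hc : ∀ b : B, iB b = 0 → ∃ n : ℕ, b ^ p ^ n = 0)
    (hflat : φ.Flat) : φ'.Flat := by
  letI := φ.toAlgebra
  letI := φ'.toAlgebra
  haveI : Module.Flat A B := hflat
  show Module.Flat A' B'
  have hp0 : ∀ n : ℕ, p ^ n ≠ 0 := fun n => (pow_pos (Fact.out : p.Prime).pos n).ne'
  have hsmulB' : ∀ (a : A') (b : B'), a • b = φ' a * b := fun a b => rfl
  have hsmulB : ∀ (a : A) (b : B), a • b = φ a * b := fun a b => rfl
  apply Module.Flat.of_forall_isTrivialRelation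
  intro l f x hfx
  have hfx' : ∑ i, φ' (f i) * x i = 0 := hfx
  choose nf af hf using fun i => ha (f i)
  choose nx bx hx using fun i => hb (x i)
  obtain ⟨N, hNf, hNx⟩ : ∃ N, (∀ i, nf i ≤ N) ∧ (∀ i, nx i ≤ N) :=
    ⟨Finset.univ.sup nf ⊔ Finset.univ.sup nx,
      fun i => le_sup_of_le_left (Finset.le_sup (Finset.mem_univ i)),
      fun i => le_sup_of_le_right (Finset.le_sup (Finset.mem_univ i))⟩
  obtain ⟨f₁, hf₁⟩ : ∃ f₁ : Fin l → A, ∀ i, f i ^ p ^ N = iA (f₁ i) := by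
    refine ⟨fun i => af i ^ p ^ (N - nf i), fun i => ?_⟩
    rw [map_pow, ← hf i, ← pow_mul, ← pow_add, Nat.add_sub_cancel' (hNf i)]
  obtain ⟨x₁, hx₁⟩ : ∃ x₁ : Fin l → B, ∀ i, x i ^ p ^ N = iB (x₁ i) := by
    refine ⟨fun i => bx i ^ p ^ (N - nx i), fun i => ?_⟩
    rw [map_pow, ← hx i, ← pow_mul, ← pow_add, Nat.add_sub_cancel' (hNx i)]
  have hr : iB (∑ i, φ (f₁ i) * x₁ i) = 0 := by
    rw [map_sum]
    have h1 : ∀ i ∈ Finset.univ, iB (φ (f₁ i) * x₁ i) = (φ' (f i) * x i) ^ p ^ N := by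
      intro i _
      rw [map_mul, ← hcomm, ← hf₁ i, ← hx₁ i, map_pow, mul_pow]
    rw [Finset.sum_congr rfl h1, ← sum_pow_char_pow, hfx', zero_pow (hp0 N)]
  obtain ⟨M, hM⟩ := hc _ hr
  rw [sum_pow_char_pow] at hM
  have hrel : ∑ i, (f₁ i ^ p ^ M) • (x₁ i ^ p ^ M) = 0 := by
    refine Eq.trans (Finset.sum_congr rfl fun i _ => ?_) hM
    rw [hsmulB, map_pow, mul_pow]
  obtain ⟨k, a, y, hxy, hfa⟩ := Module.Flat.isTrivialRelation_of_sum_smul_eq_zero (R := A) (M := B)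
    (f := fun i => f₁ i ^ p ^ M) (x := fun i => x₁ i ^ p ^ M) hrel
  have hxy' : ∀ i, x₁ i ^ p ^ M = ∑ j, φ (a i j) * y j := fun i => hxy i
  have hfa' : ∀ j, ∑ i, f₁ i ^ p ^ M * a i j = 0 := hfa
  choose a' ha' using fun i j => (hA' (N + M)).surjective (iA (a i j))
  choose y' hy' using fun j => (hB' (N + M)).surjective (iB (y j))
  have ha'' : ∀ i j, a' i j ^ p ^ (N + M) = iA (a i j) := ha'
  have hy'' : ∀ j, y' j ^ p ^ (N + M) = iB (y j) := hy'
  refine ⟨k, a', y', ?_, ?_⟩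
  · intro i
    apply (hB' (N + M)).injective
    show x i ^ p ^ (N + M) = (∑ j, a' i j • y' j) ^ p ^ (N + M)
    rw [sum_pow_char_pow]
    have h2 : ∀ j ∈ Finset.univ, (a' i j • y' j) ^ p ^ (N + M) = iB (φ (a i j) * y j) := by
      intro j _
      rw [hsmulB', mul_pow, ← map_pow, ha'', hy'', hcomm, map_mul]
    rw [Finset.sum_congr rfl h2, ← map_sum, ← hxy' i, map_pow, ← hx₁ i, ← pow_mul, ← pow_add]
  · intro j
    apply (hA' (N + M)).injective
    show (∑ i, f i * a' i j) ^ p ^ (N + M) = (0 : A') ^ p ^ (N + M)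
    rw [sum_pow_char_pow, zero_pow (hp0 _)]
    have h3 : ∀ i ∈ Finset.univ, (f i * a' i j) ^ p ^ (N + M) = iA (f₁ i ^ p ^ M * a i j) := by
      intro i _
      rw [mul_pow, ha'', map_mul, map_pow, ← hf₁ i, ← pow_mul, ← pow_add]
    rw [Finset.sum_congr rfl h3, ← map_sum, hfa' j, map_zero]

theorem flat_perfection_of_isAffine {X Y XP YP : Scheme.{u}} [IsCharP X p] [IsCharP Y p]
    [IsCharP XP p] [IsCharP YP p] [IsAffine X] [IsAffine Y]
    (πX : XP ⟶ X) (πY : YP ⟶ Y) (hX : IsPerfection πX p) (hY : IsPerfection πY p)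
    (f : X ⟶ Y) (fP : XP ⟶ YP) (w : fP ≫ πY = πX ≫ f) [Flat f] : Flat fP := by
  haveI := isIntegralHom_of_isPerfection p πX hX
  haveI := isIntegralHom_of_isPerfection p πY hY
  haveI : IsAffine XP := isAffine_of_isAffineHom πX
  haveI : IsAffine YP := isAffine_of_isAffineHom πY
  by_cases hne : Nonempty X
  swap
  · haveI : IsEmpty X := not_nonempty_iff.mp hne
    haveI : IsEmpty XP := ⟨fun x => IsEmpty.false (πX x)⟩
    infer_instance
  obtain ⟨x₀⟩ := hne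
  obtain ⟨x₀', hx₀'⟩ := (surjective_of_isPerfection p πX hX).surj x₀
  haveI : Nonempty (⊤ : X.Opens) := ⟨⟨x₀, trivial⟩⟩
  haveI : Nonempty (⊤ : XP.Opens) := ⟨⟨x₀', trivial⟩⟩
  haveI : Nonempty (⊤ : YP.Opens) := ⟨⟨fP x₀', trivial⟩⟩
  haveI : CharP Γ(X, ⊤) p := charP_sections p ⊤
  haveI : CharP Γ(XP, ⊤) p := charP_sections p ⊤
  haveI : CharP Γ(YP, ⊤) p := charP_sections p ⊤
  have hf : (f.appTop.hom).Flat :=
    (HasRingHomProperty.iff_of_isAffine (P := @Flat)).mp inferInstance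
  rw [HasRingHomProperty.iff_of_isAffine (P := @Flat)]
  refine flat_aux p πY.appTop.hom πX.appTop.hom f.appTop.hom fP.appTop.hom ?_ ?_ ?_ ?_ ?_ ?_ hf
  · intro a
    have h1 := congrArg (fun φ => φ.appTop.hom a) w
    simp only [Scheme.Hom.comp_appTop, CommRingCat.hom_comp, RingHom.comp_apply] at h1
    exact h1
  · exact fun n => ⟨pow_injective_of_isPerfect p hY.1 ⊤ n, pow_surjective_of_isPerfect p hY.1 ⊤ n⟩
  · exact fun n => ⟨pow_injective_of_isPerfect p hX.1 ⊤ n, pow_surjective_of_isPerfect p hX.1 ⊤ n⟩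
  · exact fun t => exists_pow_eq_appTop p πY hY t
  · exact fun t => exists_pow_eq_appTop p πX hX t
  · intro b hb
    exact exists_pow_eq_zero_of_app_eq_zero p πX hX ⊤ (by simpa using isCompact_univ) b hb

theorem flat_perfection_of_isAffine_target {X Y XP YP : Scheme.{u}} [IsCharP X p] [IsCharP Y p]
    [IsCharP XP p] [IsCharP YP p] [IsAffine Y]
    (πX : XP ⟶ X) (πY : YP ⟶ Y) (hX : IsPerfection πX p) (hY : IsPerfection πY p)
    (f : X ⟶ Y) (fP : XP ⟶ YP) (w : fP ≫ πY = πX ≫ f) [Flat f] : Flat fP := by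
  refine IsZariskiLocalAtSource.of_iSup_eq_top (P := @Flat)
    (fun U : X.affineOpens => πX ⁻¹ᵁ U.1) (iSup_preimage_affineOpens πX) ?_
  intro U
  haveI : IsAffine (U.1 : Scheme) := U.2
  have h1 := isPerfection_morphismRestrict p πX hX U.1
  refine flat_perfection_of_isAffine p (πX ∣_ U.1) πY h1 hY (U.1.ι ≫ f)
    ((πX ⁻¹ᵁ U.1).ι ≫ fP) ?_
  simp only [Category.assoc, w, morphismRestrict_ι_assoc]

theorem flat_perfection {X Y XP YP : Scheme.{u}} [IsCharP X p] [IsCharP Y p]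
    [IsCharP XP p] [IsCharP YP p]
    (πX : XP ⟶ X) (πY : YP ⟶ Y) (hX : IsPerfection πX p) (hY : IsPerfection πY p)
    (f : X ⟶ Y) (fP : XP ⟶ YP) (w : fP ≫ πY = πX ≫ f) [Flat f] : Flat fP := by
  refine IsZariskiLocalAtTarget.of_iSup_eq_top (P := @Flat)
    (fun U : Y.affineOpens => πY ⁻¹ᵁ U.1) (iSup_preimage_affineOpens πY) ?_
  intro U
  obtain ⟨πX₁, h1, h2⟩ := exists_restrict_square p πX πY hX f fP w U.1
  haveI : IsAffine (U.1 : Scheme) := U.2
  exact flat_perfection_of_isAffine_target p πX₁ (πY ∣_ U.1) h1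
    (isPerfection_morphismRestrict p πY hY U.1) (f ∣_ U.1) (fP ∣_ (πY ⁻¹ᵁ U.1)) h2

end Groth.Agent.Helper22.Perf
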