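import Mathlib
import Groth.Prelude.Def_Frob
import Groth.Agent.Lib.Helper22.Perf9
import Groth.Agent.S14930

/-!
# Perfection of an étale morphism is a base change
-/

set_option autoImplicit false

universe u

open CategoryTheory CategoryTheory.Limits AlgebraicGeometry FrobSch Opposite

namespace Groth.Agent.Helper22.Perf

variable (p : ℕ) [Fact p.Prime]

/-- An étale universally injective morphism is an open immersion. -/
theorem isOpenImmersion_of_etale_of_universallyInjective {Z W : Scheme.{u}} (g : Z ⟶ W)
    [Etale g] [UniversallyInjective g] : IsOpenImmersion g := by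
  haveI h1 : IsOpenImmersion (pullback.diagonal g) := inferInstance
  have h03 := (tfae_universallyInjective g).out 0 3
  haveI h2 : Surjective (pullback.diagonal g) := h03.mp inferInstance
  haveI : IsIso (pullback.diagonal g) :=
    (isIso_iff_isOpenImmersion_and_surjective _).mpr ⟨h1, h2⟩
  haveI : Mono g := (pullback.isIso_diagonal_iff g).mp inferInstance
  exact IsOpenImmersion.of_flat_of_mono g

/-- The relative Frobenius of an étale morphism is an isomorphism. -/
theorem isIso_relFrob_of_etale {Z W : Scheme.{u}} [IsCharP W p] (g : Z ⟶ W) [Etale g] :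
    IsIso (relFrob g p) := by
  obtain ⟨h1, -, -⟩ := Groth.Agent.S14930.result p g
  obtain ⟨-, h2, h3⟩ := (Groth.Agent.Helper11.UH.isUnivHomeo_iff _).mp h1
  haveI : Etale (relFrob g p ≫ pullback.snd g (frob W p)) := by
    rw [relFrob_snd]; infer_instance
  haveI : Etale (relFrob g p) := Etale.of_comp (relFrob g p) (pullback.snd g (frob W p))
  haveI := h2
  haveI : IsOpenImmersion (relFrob g p) :=
    isOpenImmersion_of_etale_of_universallyInjective (relFrob g p)
  exact (isIso_iff_isOpenImmersion_and_surjective _).mpr ⟨inferInstance, h3⟩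

/-- A scheme étale over a perfect scheme is perfect. -/
theorem isPerfect_of_etale {Z W : Scheme.{u}} [IsCharP W p] [IsCharP Z p] (g : Z ⟶ W) [Etale g]
    (hW : IsPerfect W p) : IsPerfect Z p := by
  haveI : IsIso (frob W p) := hW
  haveI := isIso_relFrob_of_etale p g
  show IsIso (frob Z p)
  rw [← relFrob_fst g p]
  infer_instance

theorem isPullback_perfection_of_etale {X Y XP YP : Scheme.{u}} [IsCharP X p] [IsCharP Y p]
    [IsCharP XP p] [IsCharP YP p]
    (πX : XP ⟶ X) (πY : YP ⟶ Y) (hX : IsPerfection πX p) (hY : IsPerfection πY p)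
    (f : X ⟶ Y) (fP : XP ⟶ YP) (w : fP ≫ πY = πX ≫ f) [Etale f] :
    IsPullback fP πX πY f := by
  haveI : IsCharP (pullback πY f) p := IsCharP.of_hom (pullback.fst πY f) p
  have hZ : IsPerfect (pullback πY f) p := isPerfect_of_etale p (pullback.fst πY f) hY.1
  obtain ⟨r, hr⟩ := (hX.2 (pullback πY f) hZ).surjective (pullback.snd πY f)
  have hr' : r ≫ πX = pullback.snd πY f := hr
  have hc1 : pullback.lift fP πX w ≫ pullback.fst πY f = fP := pullback.lift_fst _ _ _
  have hc2 : pullback.lift fP πX w ≫ pullback.snd πY f = πX := pullback.lift_snd _ _ _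
  have h1 : pullback.lift fP πX w ≫ r = 𝟙 XP := by
    apply (hX.2 XP hX.1).injective
    show (pullback.lift fP πX w ≫ r) ≫ πX = 𝟙 XP ≫ πX
    rw [Category.assoc, hr', hc2, Category.id_comp]
  have h3 : r ≫ fP = pullback.fst πY f := by
    apply (hY.2 (pullback πY f) hZ).injective
    show (r ≫ fP) ≫ πY = pullback.fst πY f ≫ πY
    rw [Category.assoc, w, ← Category.assoc, hr', pullback.condition]
  have h2 : r ≫ pullback.lift fP πX w = 𝟙 _ := by
    apply pullback.hom_ext
    · rw [Category.assoc, hc1, h3, Category.id_comp]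
    · rw [Category.assoc, hc2, hr', Category.id_comp]
  exact IsPullback.of_iso_pullback ⟨w⟩ ⟨pullback.lift fP πX w, r, h1, h2⟩ hc1 hc2

end Groth.Agent.Helper22.Perf
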