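import Mathlib

/-!
# Helper22: coalgebra maps into group algebras and nilpotent congruences

For a coalgebra map `ψ : C → R[M]` the coefficient functionals `π_m ∘ ψ` are orthogonal idempotents
of the convolution ring `C →ₗ[R] R`.  Consequences modulo a nilpotent ideal.
-/

set_option autoImplicit false

namespace Groth.Agent.Helper22.MultType

open TensorProduct Coalgebra

section Core

variable {R : Type*} [CommRing R] {M : Type*} {C : Type*} [AddCommGroup C] [Module R C]
  [Coalgebra R C]

/-- coefficient functional -/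
noncomputable def pi (m : M) : MonoidAlgebra R M →ₗ[R] R :=
  (Finsupp.lapply m) ∘ₗ (MonoidAlgebra.coeffLinearEquiv R).toLinearMap

theorem pi_apply (m : M) (x : MonoidAlgebra R M) : pi m x = x.coeff m := rfl

theorem pi_single [DecidableEq M] (m x : M) (a : R) :
    pi (R := R) m (MonoidAlgebra.single x a) = if x = m then a else 0 := by
  rw [pi_apply, MonoidAlgebra.coeff_single, Finsupp.single_apply]

theorem mul_pi_pi_comul [DecidableEq M] (m m' : M) (x : MonoidAlgebra R M) :
    LinearMap.mul' R R (TensorProduct.map (pi m) (pi m') (comul x)) =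
      if m = m' then pi m x else 0 := by
  induction x using MonoidAlgebra.induction_linear with
  | zero => simp
  | add x y hx hy =>
    rw [map_add, map_add, map_add, hx, hy]
    split_ifs
    · rw [map_add]
    · rw [add_zero]
  | single y a =>
    rw [MonoidAlgebra.comul_single, CommSemiring.comul_apply, TensorProduct.map_tmul,
      TensorProduct.map_tmul, LinearMap.mul'_apply, MonoidAlgebra.lsingle_apply,
      MonoidAlgebra.lsingle_apply, pi_single, pi_single, pi_single]
    by_cases h1 : y = m
    · by_cases h2 : y = m'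
      · have : m = m' := h1.symm.trans h2
        simp [h1, this]
      · have : m ≠ m' := fun h => h2 (h1.trans h)
        simp [h1, h2, this]
    · simp [h1]

/-- the coefficient functional of a coalgebra map, in the convolution ring -/
noncomputable def coef (ψ : C →ₗc[R] MonoidAlgebra R M) (m : M) : WithConv (C →ₗ[R] R) :=
  WithConv.toConv ((pi m) ∘ₗ (ψ : C →ₗ[R] MonoidAlgebra R M))

theorem coef_apply (ψ : C →ₗc[R] MonoidAlgebra R M) (m : M) (c : C) :
    (coef ψ m) c = (ψ c).coeff m := rfl

theorem coef_mul_coef [DecidableEq M] (ψ : C →ₗc[R] MonoidAlgebra R M) (m m' : M) :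
    coef ψ m * coef ψ m' = if m = m' then coef ψ m else 0 := by
  apply WithConv.ofConv_injective
  ext c
  have h1 : (coef ψ m * coef ψ m') c =
      LinearMap.mul' R R (TensorProduct.map (pi m) (pi m') (comul (ψ c))) := by
    have h0 : TensorProduct.map ((pi m) ∘ₗ (ψ : C →ₗ[R] MonoidAlgebra R M))
        ((pi m') ∘ₗ (ψ : C →ₗ[R] MonoidAlgebra R M)) =
        TensorProduct.map (pi m) (pi m') ∘ₗ
          TensorProduct.map (ψ : C →ₗ[R] MonoidAlgebra R M) (ψ : C →ₗ[R] MonoidAlgebra R M) :=
      TensorProduct.map_comp _ _ _ _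
    rw [LinearMap.convMul_apply, ← CoalgHomClass.map_comp_comul_apply]
    show LinearMap.mul' R R (TensorProduct.map ((pi m) ∘ₗ (ψ : C →ₗ[R] MonoidAlgebra R M))
        ((pi m') ∘ₗ (ψ : C →ₗ[R] MonoidAlgebra R M)) (comul c)) = _
    rw [h0]
    rfl
  show (coef ψ m * coef ψ m') c = _
  rw [h1, mul_pi_pi_comul]
  split_ifs
  · rfl
  · rfl

/-- functionals with values in an ideal -/
def ValIn (J : Ideal R) (f : WithConv (C →ₗ[R] R)) : Prop := ∀ c, f c ∈ J

theorem valIn_mul {J K : Ideal R} {f g : WithConv (C →ₗ[R] R)} (hf : ValIn J f) (hg : ValIn K g) :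
    ValIn (J * K) (f * g) := by
  intro c
  rw [LinearMap.convMul_apply]
  generalize comul (R := R) c = t
  induction t using TensorProduct.induction_on with
  | zero => simp
  | tmul a b =>
    rw [TensorProduct.map_tmul, LinearMap.mul'_apply]
    exact Ideal.mul_mem_mul (hf a) (hg b)
  | add x y hx hy =>
    rw [map_add, map_add]
    exact Ideal.add_mem _ hx hy

theorem valIn_pow {J : Ideal R} {f : WithConv (C →ₗ[R] R)} (hf : ValIn J f) (n : ℕ) (hn : 0 < n) :
    ValIn (J ^ n) (f ^ n) := by
  induction n with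
  | zero => exact absurd hn (lt_irrefl 0)
  | succ k ih =>
    rcases Nat.eq_zero_or_pos k with rfl | hk
    · simpa using hf
    · rw [pow_succ, pow_succ]
      exact valIn_mul (ih hk) hf

theorem eq_zero_of_valIn_bot {f : WithConv (C →ₗ[R] R)} (hf : ValIn (⊥ : Ideal R) f) : f = 0 := by
  apply WithConv.ofConv_injective
  ext c
  exact (Submodule.mem_bot R).mp (hf c)

/-- an idempotent functional with values in a nilpotent ideal vanishes -/
theorem eq_zero_of_idem {J : Ideal R} (hJ : IsNilpotent J) {f : WithConv (C →ₗ[R] R)}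
    (hff : f * f = f) (hf : ValIn J f) : f = 0 := by
  obtain ⟨n, hn⟩ := hJ
  have hpow : ∀ k : ℕ, 0 < k → f ^ k = f := by
    intro k hk
    induction k with
    | zero => exact absurd hk (lt_irrefl 0)
    | succ j ih =>
      rcases Nat.eq_zero_or_pos j with rfl | hj
      · simp
      · rw [pow_succ, ih hj, hff]
  have h1 := valIn_pow hf (n + 1) (Nat.succ_pos n)
  rw [hpow (n + 1) (Nat.succ_pos n), pow_succ, hn] at h1
  apply eq_zero_of_valIn_bot
  intro c
  have := h1 c
  rwa [Ideal.zero_eq_bot, Ideal.bot_mul] at this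

theorem valIn_mono {J K : Ideal R} (h : J ≤ K) {f : WithConv (C →ₗ[R] R)} (hf : ValIn J f) :
    ValIn K f := fun c => h (hf c)

/-- a functional with `f ^ k = f`, `k ≥ 2`, with values in a nilpotent ideal vanishes -/
theorem eq_zero_of_pow_eq {J : Ideal R} (hJ : IsNilpotent J) {f : WithConv (C →ₗ[R] R)} {k : ℕ}
    (hk : 2 ≤ k) (hfk : f ^ k = f) (hf : ValIn J f) : f = 0 := by
  obtain ⟨n, hn⟩ := hJ
  have hstep : ∀ j : ℕ, ValIn (J ^ (j + 1)) f := by
    intro j
    induction j with
    | zero => simpa using hf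
    | succ j ih =>
      have h1 : ValIn (J ^ (k - 1)) (f ^ (k - 1)) := valIn_pow hf (k - 1) (by omega)
      have h2 : ValIn (J ^ (k - 1) * J ^ (j + 1)) (f ^ (k - 1) * f) := valIn_mul h1 ih
      have h3 : f ^ (k - 1) * f = f := by
        rw [← pow_succ, Nat.sub_add_cancel (by omega : 1 ≤ k), hfk]
      rw [h3] at h2
      refine valIn_mono ?_ h2
      rw [← pow_add]
      exact Ideal.pow_le_pow_right (by omega)
  apply eq_zero_of_valIn_bot
  have := hstep n
  rw [pow_succ, hn, Ideal.zero_eq_bot, Ideal.bot_mul] at this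
  exact this

section Trivial

variable [Monoid M]

theorem coeff_eq_zero_of_nilpotent {J : Ideal R} (hJ : IsNilpotent J)
    (ψ : C →ₗc[R] MonoidAlgebra R M) (h : ∀ c m, m ≠ 1 → (ψ c).coeff m ∈ J) :
    ∀ c m, m ≠ 1 → (ψ c).coeff m = 0 := by
  classical
  intro c m hm
  have h1 : coef ψ m * coef ψ m = coef ψ m := by
    rw [coef_mul_coef, if_pos rfl]
  have h2 : ValIn J (coef ψ m) := fun c => h c m hm
  have h3 := eq_zero_of_idem hJ h1 h2
  have h4 := coef_apply ψ m c
  rw [h3] at h4
  exact h4.symm

theorem coalgHom_eq_single {J : Ideal R} (hJ : IsNilpotent J)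
    (ψ : C →ₗc[R] MonoidAlgebra R M) (h : ∀ c m, m ≠ 1 → (ψ c).coeff m ∈ J) (c : C) :
    ψ c = MonoidAlgebra.single 1 (counit (R := R) c) := by
  classical
  have h0 := coeff_eq_zero_of_nilpotent hJ ψ h c
  have h1 : ψ c = MonoidAlgebra.single 1 ((ψ c).coeff 1) := by
    apply MonoidAlgebra.ext
    ext m
    rw [MonoidAlgebra.coeff_single, Finsupp.single_apply]
    by_cases hm : m = 1
    · subst hm
      simp
    · rw [h0 m hm, if_neg (Ne.symm hm)]
  have h2 : counit (R := R) (ψ c) = counit (R := R) c := CoalgHomClass.counit_comp_apply ψ c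
  rw [h1, MonoidAlgebra.counit_single, CommSemiring.counit_apply] at h2
  rw [h1, h2]

end Trivial

theorem coalgHom_eq_of_nilpotent [IsCocomm R C] {J : Ideal R} (hJ : IsNilpotent J)
    (φ ψ : C →ₗc[R] MonoidAlgebra R M)
    (h : ∀ c m, (φ c).coeff m - (ψ c).coeff m ∈ J) (c : C) : φ c = ψ c := by
  classical
  apply MonoidAlgebra.ext
  ext m
  have ha : coef φ m * coef φ m = coef φ m := by rw [coef_mul_coef, if_pos rfl]
  have hb : coef ψ m * coef ψ m = coef ψ m := by rw [coef_mul_coef, if_pos rfl]
  have hd : (coef φ m - coef ψ m) ^ 3 = coef φ m - coef ψ m := by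
    have ha' : coef φ m ^ 2 - coef φ m = 0 := by rw [pow_two, ha, sub_self]
    have hb' : coef ψ m ^ 2 - coef ψ m = 0 := by rw [pow_two, hb, sub_self]
    linear_combination (1 + coef φ m - 3 * coef ψ m) * ha' +
      (3 * coef φ m - 1 - coef ψ m) * hb'
  have hv : ValIn J (coef φ m - coef ψ m) := fun c => h c m
  have h0 := eq_zero_of_pow_eq hJ (by norm_num) hd hv
  have h1 : (coef φ m - coef ψ m) c = 0 := by rw [h0]; rfl
  have h2 : (coef φ m - coef ψ m) c = (φ c).coeff m - (ψ c).coeff m := rfl
  rw [h2] at h1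
  exact sub_eq_zero.mp h1

end Core

end Groth.Agent.Helper22.MultType
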