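import Mathlib
import Groth.Prelude.Def_SGA3b
import Groth.Agent.Lib.Helper22.MultType1

/-!
# Helper22: groups of multiplicative type — reduction to the diagonalisable case,
rigidity of homomorphisms modulo a nilpotent ideal
-/

set_option autoImplicit false
universe u

namespace Groth.Agent.Helper22.MultType

open TensorProduct SGA3b

/-- `1 ⊗ b = 1 ⊗ b'` in `(R ⧸ J) ⊗ B` means `b - b' ∈ J B`. -/
theorem mem_of_tmul_eq {R : Type*} [CommRing R] {B : Type*} [AddCommGroup B] [Module R B]
    (J : Ideal R) {b b' : B}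
    (h : (1 : R ⧸ J) ⊗ₜ[R] b = (1 : R ⧸ J) ⊗ₜ[R] b') : b - b' ∈ J • (⊤ : Submodule R B) := by
  have h1 := congrArg (TensorProduct.quotTensorEquivQuotSMul B J) h
  rw [TensorProduct.quotTensorEquivQuotSMul_mk_one_tmul,
    TensorProduct.quotTensorEquivQuotSMul_mk_one_tmul] at h1
  exact (Submodule.Quotient.eq _).mp h1

section Reduction

variable {R : Type u} [CommRing R] {A : Type u} [CommRing A] [HopfAlgebra R A]

/-- zero test for elements of a Hopf algebra of multiplicative type -/
theorem eq_zero_of_isMultType (h : IsMultType R A) (x : A)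
    (hx : ∀ (f : R) (R' : Type u) [CommRing R'] [Algebra (Localization.Away f) R'] (M : Type u)
      [CommGroup M]
      (e : (R' ⊗[Localization.Away f] (Localization.Away f ⊗[R] A)) ≃ₐc[R'] MonoidAlgebra R' M),
      e ((1 : R') ⊗ₜ[Localization.Away f] ((1 : Localization.Away f) ⊗ₜ[R] x)) = 0) : x = 0 := by
  obtain ⟨s, hs, hsf⟩ := h
  by_contra hne
  let N : Ideal R := LinearMap.ker (LinearMap.toSpanSingleton R A x)
  have hN : N ≠ ⊤ := by
    intro htop
    have h1 : (1 : R) ∈ N := htop ▸ Submodule.mem_top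
    rw [LinearMap.mem_ker, LinearMap.toSpanSingleton_apply, one_smul] at h1
    exact hne h1
  obtain ⟨m, hm, hNm⟩ := Ideal.exists_le_maximal N hN
  have hnot : ¬ (s ⊆ (m : Set R)) := by
    intro hsm
    have h1 : Ideal.span s ≤ m := Ideal.span_le.mpr hsm
    rw [hs] at h1
    exact hm.ne_top (top_le_iff.mp h1)
  obtain ⟨f, hfs, hfm⟩ := Set.not_subset.mp hnot
  obtain ⟨R', instR', instAlg, hff, M, instM, ⟨e⟩⟩ := hsf f hfs
  have h1 := hx f R' M e
  have h2 : (1 : R') ⊗ₜ[Localization.Away f] ((1 : Localization.Away f) ⊗ₜ[R] x) = 0 := by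
    have hinj : Function.Injective e := EquivLike.injective e
    apply hinj
    rw [h1, map_zero]
  have h3 : (1 : Localization.Away f) ⊗ₜ[R] x = 0 := by
    apply Module.FaithfullyFlat.tensorProduct_mk_injective (A := Localization.Away f) (B := R')
      (Localization.Away f ⊗[R] A)
    rw [TensorProduct.mk_apply, map_zero]
    exact h2
  obtain ⟨⟨_, n, rfl⟩, hc⟩ := (IsLocalizedModule.eq_zero_iff (Submonoid.powers f)
    (TensorProduct.mk R (Localization.Away f) A 1)).mp h3
  have h5 : f ^ n ∈ m := hNm (by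
    rw [LinearMap.mem_ker, LinearMap.toSpanSingleton_apply]
    exact hc)
  exact hfm (hm.isPrime.mem_of_pow_mem n h5)

end Reduction

section Transfer

variable {R : Type u} [CommRing R] {A : Type u} [CommRing A] [HopfAlgebra R A]
  (f : R) {R' : Type u} [CommRing R'] [Algebra (Localization.Away f) R'] {M : Type u} [CommGroup M]
  (e : (R' ⊗[Localization.Away f] (Localization.Away f ⊗[R] A)) ≃ₐc[R'] MonoidAlgebra R' M)
  {C : Type u} [CommRing C] [HopfAlgebra R C]

/-- the structure map `R → R'` -/
noncomputable def iota (R' : Type u) [CommRing R'] [Algebra (Localization.Away f) R'] : R →+* R' :=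
  (algebraMap (Localization.Away f) R').comp (algebraMap R (Localization.Away f))

/-- `a ↦ e (1 ⊗ (1 ⊗ a))` -/
noncomputable def Theta : A →+ MonoidAlgebra R' M where
  toFun a := e ((1 : R') ⊗ₜ[Localization.Away f] ((1 : Localization.Away f) ⊗ₜ[R] a))
  map_zero' := by rw [TensorProduct.tmul_zero, TensorProduct.tmul_zero, map_zero]
  map_add' a b := by rw [TensorProduct.tmul_add, TensorProduct.tmul_add, map_add]

theorem Theta_apply (a : A) : Theta f e a =
    e ((1 : R') ⊗ₜ[Localization.Away f] ((1 : Localization.Away f) ⊗ₜ[R] a)) := rfl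

theorem one_tmul_smul {X : Type u} [AddCommGroup X] [Module R X] (r : R) (a : X) :
    ((1 : R') ⊗ₜ[Localization.Away f] ((1 : Localization.Away f) ⊗ₜ[R] (r • a))) =
      iota f R' r • ((1 : R') ⊗ₜ[Localization.Away f] ((1 : Localization.Away f) ⊗ₜ[R] a)) := by
  rw [TensorProduct.tmul_smul, ← algebraMap_smul (Localization.Away f) r
    ((1 : Localization.Away f) ⊗ₜ[R] a), TensorProduct.tmul_smul,
    ← algebraMap_smul R' (algebraMap R (Localization.Away f) r)
      ((1 : R') ⊗ₜ[Localization.Away f] ((1 : Localization.Away f) ⊗ₜ[R] a))]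
  rfl

theorem Theta_smul (r : R) (a : A) : Theta f e (r • a) = iota f R' r • Theta f e a := by
  rw [Theta_apply, one_tmul_smul, map_smul]
  rfl

theorem Theta_algebraMap (r : R) :
    Theta f e (algebraMap R A r) = MonoidAlgebra.single 1 (iota f R' r) := by
  rw [Algebra.algebraMap_eq_smul_one, Theta_smul, Theta_apply]
  have h1 : ((1 : R') ⊗ₜ[Localization.Away f] ((1 : Localization.Away f) ⊗ₜ[R] (1 : A))) = 1 := rfl
  rw [h1, map_one, MonoidAlgebra.one_def, MonoidAlgebra.smul_single, smul_eq_mul, mul_one]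

theorem Theta_coeff_mem (I : Ideal R) {y : A} (hy : y ∈ I • (⊤ : Submodule R A)) (m : M) :
    (Theta f e y).coeff m ∈ I.map (iota f R') := by
  refine Submodule.smul_induction_on hy ?_ ?_
  · intro r hr a _
    rw [Theta_smul, MonoidAlgebra.coeff_smul, Finsupp.smul_apply, smul_eq_mul]
    exact Ideal.mul_mem_right _ _ (Ideal.mem_map_of_mem _ hr)
  · intro x y hx hy
    rw [map_add, MonoidAlgebra.coeff_add, Finsupp.add_apply]
    exact Ideal.add_mem _ hx hy

/-- base change of a bialgebra map, composed with the diagonalisation -/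
noncomputable def psi (φ : C →ₐc[R] A) :
    (R' ⊗[Localization.Away f] (Localization.Away f ⊗[R] C)) →ₗc[R'] MonoidAlgebra R' M :=
  ((e : _ →ₐc[R'] MonoidAlgebra R' M).comp
    (Bialgebra.TensorProduct.map (BialgHom.id R' R')
      (Bialgebra.TensorProduct.map (BialgHom.id (Localization.Away f) (Localization.Away f))
        φ))).toCoalgHom

theorem psi_one_tmul (φ : C →ₐc[R] A) (c : C) :
    psi f e φ ((1 : R') ⊗ₜ[Localization.Away f] ((1 : Localization.Away f) ⊗ₜ[R] c)) =
      Theta f e (φ c) := rfl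

theorem counit_one_tmul (c : C) :
    Coalgebra.counit (R := R')
      ((1 : R') ⊗ₜ[Localization.Away f] ((1 : Localization.Away f) ⊗ₜ[R] c)) =
      iota f R' (Coalgebra.counit (R := R) c) := by
  rw [TensorProduct.counit_tmul, TensorProduct.counit_tmul,
    CommSemiring.counit_apply, CommSemiring.counit_apply, Algebra.smul_def, mul_one,
    Algebra.smul_def, mul_one]
  rfl

/-- coefficient conditions for a linear functional may be checked on `1 ⊗ (1 ⊗ c)` -/
theorem coeff_mem_of_one_tmul (J : Ideal R') (S : Set M)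
    (F : (R' ⊗[Localization.Away f] (Localization.Away f ⊗[R] C)) →ₗ[R'] MonoidAlgebra R' M)
    (h : ∀ c : C, ∀ m ∈ S,
      (F ((1 : R') ⊗ₜ[Localization.Away f] ((1 : Localization.Away f) ⊗ₜ[R] c))).coeff m ∈ J)
    (z : R' ⊗[Localization.Away f] (Localization.Away f ⊗[R] C)) :
    ∀ m ∈ S, (F z).coeff m ∈ J := by
  induction z using TensorProduct.induction_on with
  | zero =>
    intro m _
    rw [map_zero]
    exact J.zero_mem
  | add x y hx hy =>
    intro m hm
    rw [map_add, MonoidAlgebra.coeff_add, Finsupp.add_apply]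
    exact J.add_mem (hx m hm) (hy m hm)
  | tmul r' w =>
    induction w using TensorProduct.induction_on with
    | zero =>
      intro m _
      rw [TensorProduct.tmul_zero, map_zero]
      exact J.zero_mem
    | add x y hx hy =>
      intro m hm
      rw [TensorProduct.tmul_add, map_add, MonoidAlgebra.coeff_add, Finsupp.add_apply]
      exact J.add_mem (hx m hm) (hy m hm)
    | tmul rf c =>
      intro m hm
      have h1 : r' ⊗ₜ[Localization.Away f] (rf ⊗ₜ[R] c) =
          (r' * algebraMap (Localization.Away f) R' rf) •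
            ((1 : R') ⊗ₜ[Localization.Away f] ((1 : Localization.Away f) ⊗ₜ[R] c)) := by
        rw [TensorProduct.smul_tmul', smul_eq_mul, mul_one]
        have h2 : rf ⊗ₜ[R] c = rf • ((1 : Localization.Away f) ⊗ₜ[R] c) := by
          rw [TensorProduct.smul_tmul', smul_eq_mul, mul_one]
        rw [h2, TensorProduct.tmul_smul, TensorProduct.smul_tmul', Algebra.smul_def, mul_comm]
      rw [h1, map_smul, MonoidAlgebra.coeff_smul, Finsupp.smul_apply, smul_eq_mul]
      exact Ideal.mul_mem_left _ _ (h c m hm)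

end Transfer

section Main

variable {R : Type u} [CommRing R] {A : Type u} [CommRing A] [HopfAlgebra R A]
  {C : Type u} [CommRing C] [HopfAlgebra R C]

/-- a homomorphism from a group of multiplicative type which is trivial modulo a nilpotent ideal
is trivial -/
theorem bialgHom_trivial_of_nilpotent (I : Ideal R) (hI : IsNilpotent I) (hH : IsMultType R A)
    (φ : C →ₐc[R] A)
    (h0 : ∀ c : C, φ c - algebraMap R A (Coalgebra.counit c) ∈ I • (⊤ : Submodule R A)) :
    ∀ c : C, φ c = algebraMap R A (Coalgebra.counit c) := by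
  classical
  intro c
  rw [← sub_eq_zero]
  apply eq_zero_of_isMultType hH
  intro f R' _ _ M _ e
  have hJ : IsNilpotent (I.map (iota f R')) := by
    obtain ⟨n, hn⟩ := hI
    exact ⟨n, by rw [← Ideal.map_pow, hn, Ideal.zero_eq_bot, Ideal.map_bot]; rfl⟩
  have hcoef : ∀ z m, m ≠ 1 → ((psi f e φ) z).coeff m ∈ I.map (iota f R') := by
    intro z m hm
    refine coeff_mem_of_one_tmul f (I.map (iota f R')) {m | m ≠ 1}
      (psi f e φ : _ →ₗ[R'] MonoidAlgebra R' M) ?_ z m hm
    intro c₀ m hm
    show (Theta f e (φ c₀)).coeff m ∈ _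
    have h1 : φ c₀ = algebraMap R A (Coalgebra.counit c₀) +
        (φ c₀ - algebraMap R A (Coalgebra.counit c₀)) := by ring
    rw [h1, map_add, MonoidAlgebra.coeff_add, Finsupp.add_apply, Theta_algebraMap,
      MonoidAlgebra.coeff_single, Finsupp.single_apply, if_neg (Ne.symm hm), zero_add]
    exact Theta_coeff_mem f e I (h0 c₀) m
  have h1 := coalgHom_eq_single hJ (psi f e φ) hcoef
    ((1 : R') ⊗ₜ[Localization.Away f] ((1 : Localization.Away f) ⊗ₜ[R] c))
  rw [psi_one_tmul, counit_one_tmul] at h1
  show Theta f e (φ c - algebraMap R A (Coalgebra.counit c)) = 0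
  rw [map_sub, h1, Theta_algebraMap, sub_self]

/-- two homomorphisms from a group of multiplicative type to a commutative group which agree
modulo a nilpotent ideal are equal -/
theorem bialgHom_eq_of_nilpotent [Coalgebra.IsCocomm R C] (I : Ideal R) (hI : IsNilpotent I)
    (hH : IsMultType R A) (φ ψ : C →ₐc[R] A)
    (h0 : ∀ c : C, φ c - ψ c ∈ I • (⊤ : Submodule R A)) :
    ∀ c : C, φ c = ψ c := by
  classical
  intro c
  rw [← sub_eq_zero]
  apply eq_zero_of_isMultType hH
  intro f R' _ _ M _ e
  have hJ : IsNilpotent (I.map (iota f R')) := by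
    obtain ⟨n, hn⟩ := hI
    exact ⟨n, by rw [← Ideal.map_pow, hn, Ideal.zero_eq_bot, Ideal.map_bot]; rfl⟩
  have hcoef : ∀ z m, ((psi f e φ) z).coeff m - ((psi f e ψ) z).coeff m ∈
      I.map (iota f R') := by
    intro z m
    have h2 := coeff_mem_of_one_tmul f (I.map (iota f R')) Set.univ
      ((psi f e φ : _ →ₗ[R'] MonoidAlgebra R' M) - (psi f e ψ : _ →ₗ[R'] MonoidAlgebra R' M))
      ?_ z m trivial
    · rw [LinearMap.sub_apply, MonoidAlgebra.coeff_sub, Finsupp.sub_apply] at h2
      exact h2
    · intro c₀ m _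
      rw [LinearMap.sub_apply]
      show (Theta f e (φ c₀) - Theta f e (ψ c₀)).coeff m ∈ _
      rw [← map_sub]
      exact Theta_coeff_mem f e I (h0 c₀) m
  have h1 := coalgHom_eq_of_nilpotent hJ (psi f e φ) (psi f e ψ) hcoef
    ((1 : R') ⊗ₜ[Localization.Away f] ((1 : Localization.Away f) ⊗ₜ[R] c))
  rw [psi_one_tmul, psi_one_tmul] at h1
  show Theta f e (φ c - ψ c) = 0
  rw [map_sub, h1, sub_self]

end Main

end Groth.Agent.Helper22.MultType
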