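import Groth.Agent.Lib.Helper22.MultType
import Mathlib

/-!
Base change of primitive elements and cocommutativity; primitives of diagonalizable bialgebras
(helper22).
-/

set_option autoImplicit false
universe u v w

open scoped TensorProduct

namespace Groth.Agent.Helper22.MultType
open Groth.Agent.Helper12 Groth.Agent.Helper22 Groth.Agent.Helper28.IntegralDescent

section Diag
variable {K : Type u} [Field K] {B : Type v} [CommRing B] [Bialgebra K B]

theorem prim_eq_zero_of_isDiagonalizable (hD : HopfRep.IsDiagonalizable K B) (p : B)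
    (hp : Coalgebra.comul (R := K) p = p ⊗ₜ[K] (1 : B) + (1 : B) ⊗ₜ[K] p) : p = 0 := by
  have hsp : ⊤ ≤ Submodule.span K (Set.range (GroupLike.val (R := K) (A := B))) := by
    have hD' : Submodule.span K {a : B | IsGroupLikeElem K a} = ⊤ := hD
    rw [← hD']
    apply Submodule.span_mono
    intro a ha
    exact ⟨⟨a, ha⟩, rfl⟩
  let ℬ := Module.Basis.mk (linearIndep_groupLikeVal (R := K) (A := B)) hsp
  have hℬ : ∀ g, ℬ g = g.val := fun g => Module.Basis.mk_apply _ _ g
  have hc : ∀ g, Coalgebra.comul (R := K) (ℬ g) = ℬ g ⊗ₜ[K] ℬ g := fun g => by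
    rw [hℬ]; exact g.isGroupLikeElem_val.comul_eq_tmul_self
  have h1 := GLBasis.rtrans_coord ℬ hc (1 : GroupLike K B) p
  have hone : ℬ (1 : GroupLike K B) = (1 : B) := by rw [hℬ]; rfl
  have hcoord : ℬ.coord 1 (1 : B) = 1 := by
    rw [← hone, Module.Basis.coord_apply, Module.Basis.repr_self, Finsupp.single_eq_same]
  have h2 : rtrans (ℬ.coord 1) p = p + ℬ.coord 1 p • (1 : B) := by
    unfold rtrans
    simp only [LinearMap.comp_apply, LinearEquiv.coe_coe, hp, map_add, LinearMap.lTensor_tmul,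
      TensorProduct.rid_tmul, hcoord, one_smul]
  rw [h2, hone] at h1
  simpa using h1

end Diag

section BaseChange
variable {k : Type u} [Field k] {K : Type v} [Field K] [Algebra k K] {A : Type w} [CommRing A]
  [HopfAlgebra k A]

theorem one_tmul_injective : Function.Injective (fun a : A => (1 : K) ⊗ₜ[k] a) :=
  Module.Flat.tensorProduct_mk_injective (R := k) (S := K) (M := A)

theorem Ψ_eq (x : A ⊗[k] A) :
    Ψ (k := k) (K := K) x =
      TensorProduct.AlgebraTensorModule.distribBaseChange k K A A ((1 : K) ⊗ₜ[k] x) := by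
  induction x using TensorProduct.induction_on with
  | zero => simp
  | tmul a b => rw [Ψ_tmul]; rfl
  | add x y hx hy => rw [map_add, hx, hy, TensorProduct.tmul_add, map_add]

theorem Ψ_injective : Function.Injective (Ψ (k := k) (K := K) (A := A)) := by
  intro x y hxy
  rw [Ψ_eq, Ψ_eq] at hxy
  exact Module.Flat.tensorProduct_mk_injective (R := k) (S := K) (M := A ⊗[k] A)
    ((TensorProduct.AlgebraTensorModule.distribBaseChange k K A A).injective hxy)

theorem Ψ_comm (x : A ⊗[k] A) :
    Ψ (k := k) (K := K) (TensorProduct.comm k A A x) =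
      TensorProduct.comm K (K ⊗[k] A) (K ⊗[k] A) (Ψ (k := k) (K := K) x) := by
  induction x using TensorProduct.induction_on with
  | zero => simp
  | tmul a b => rw [TensorProduct.comm_tmul, Ψ_tmul, Ψ_tmul, TensorProduct.comm_tmul]
  | add x y hx hy => rw [map_add, map_add, hx, hy, map_add, map_add]

theorem isCocomm_of_isDiagonalizable (hD : HopfRep.IsDiagonalizable K (K ⊗[k] A)) :
    Coalgebra.IsCocomm k A := by
  have hB : ∀ b : K ⊗[k] A, TensorProduct.comm K (K ⊗[k] A) (K ⊗[k] A)
      (Coalgebra.comul (R := K) b) = Coalgebra.comul (R := K) b := by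
    intro b
    have hD' : Submodule.span K {a : K ⊗[k] A | IsGroupLikeElem K a} = ⊤ := hD
    have hb : b ∈ Submodule.span K {a : K ⊗[k] A | IsGroupLikeElem K a} := by
      rw [hD']; trivial
    induction hb using Submodule.span_induction with
    | mem x hx => rw [hx.comul_eq_tmul_self, TensorProduct.comm_tmul]
    | zero => simp
    | add x y _ _ hx hy => rw [map_add, map_add, hx, hy]
    | smul c x _ hx => rw [map_smul, map_smul, hx]
  constructor
  apply LinearMap.ext
  intro a
  apply Ψ_injective (k := k) (K := K)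
  show Ψ (k := k) (K := K) (TensorProduct.comm k A A (Coalgebra.comul (R := k) a)) =
    Ψ (k := k) (K := K) (Coalgebra.comul (R := k) a)
  rw [Ψ_comm, ← comul_one_tmul, hB]

theorem prim_eq_zero_of_baseChange_isDiagonalizable
    (hD : HopfRep.IsDiagonalizable K (K ⊗[k] A)) (f : A)
    (hf : Coalgebra.comul (R := k) f = f ⊗ₜ[k] (1 : A) + (1 : A) ⊗ₜ[k] f) : f = 0 := by
  apply one_tmul_injective (k := k) (K := K)
  show (1 : K) ⊗ₜ[k] f = (1 : K) ⊗ₜ[k] (0 : A)
  rw [TensorProduct.tmul_zero]
  apply prim_eq_zero_of_isDiagonalizable hD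
  rw [comul_one_tmul, hf, map_add, Ψ_tmul, Ψ_tmul]
  rfl

theorem prim_baseChange
    (hP : ∀ f : A, Coalgebra.comul (R := k) f = f ⊗ₜ[k] (1 : A) + (1 : A) ⊗ₜ[k] f → f = 0)
    (p : K ⊗[k] A)
    (hp : Coalgebra.comul (R := K) p = p ⊗ₜ[K] (1 : K ⊗[k] A) + (1 : K ⊗[k] A) ⊗ₜ[K] p) :
    p = 0 := by
  let φ : A →ₗ[k] A ⊗[k] A :=
    Coalgebra.comul - (TensorProduct.mk k A A).flip 1 - TensorProduct.mk k A A 1
  have hφ : ∀ a, φ a = Coalgebra.comul (R := k) a - a ⊗ₜ[k] (1 : A) - (1 : A) ⊗ₜ[k] a :=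
    fun a => rfl
  have hinj : Function.Injective φ := by
    rw [injective_iff_map_eq_zero]
    intro a ha
    apply hP
    rw [hφ, sub_sub, sub_eq_zero] at ha
    exact ha
  have hinjK : Function.Injective (φ.lTensor K) :=
    Module.Flat.lTensor_preserves_injective_linearMap φ hinj
  have key1 : ∀ a : A, Coalgebra.comul (R := K) ((1 : K) ⊗ₜ[k] a) -
      ((1 : K) ⊗ₜ[k] a) ⊗ₜ[K] (1 : K ⊗[k] A) - (1 : K ⊗[k] A) ⊗ₜ[K] ((1 : K) ⊗ₜ[k] a) =
      Ψ (k := k) (K := K) (φ a) := by
    intro a
    rw [comul_one_tmul, hφ, map_sub, map_sub, Ψ_tmul, Ψ_tmul]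
    rfl
  have key : ∀ x : K ⊗[k] A, Coalgebra.comul (R := K) x - x ⊗ₜ[K] (1 : K ⊗[k] A) -
      (1 : K ⊗[k] A) ⊗ₜ[K] x =
      TensorProduct.AlgebraTensorModule.distribBaseChange k K A A (φ.lTensor K x) := by
    intro x
    induction x using TensorProduct.induction_on with
    | zero => simp
    | tmul c a =>
      have hca : c ⊗ₜ[k] a = c • ((1 : K) ⊗ₜ[k] a) := by
        rw [TensorProduct.smul_tmul', smul_eq_mul, mul_one]
      have h1 : c ⊗ₜ[k] φ a = c • ((1 : K) ⊗ₜ[k] φ a) := by
        rw [TensorProduct.smul_tmul', smul_eq_mul, mul_one]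
      rw [LinearMap.lTensor_tmul, h1, map_smul, ← Ψ_eq, ← key1, hca, map_smul,
        ← TensorProduct.smul_tmul', TensorProduct.tmul_smul, smul_sub, smul_sub]
    | add x y hx hy =>
      rw [map_add, map_add, map_add, ← hx, ← hy, TensorProduct.add_tmul, TensorProduct.tmul_add]
      abel
  apply hinjK
  rw [map_zero]
  apply (TensorProduct.AlgebraTensorModule.distribBaseChange k K A A).injective
  rw [map_zero, ← key, hp]
  abel

end BaseChange

end Groth.Agent.Helper22.MultType
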