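import Mathlib

namespace Groth.Agent.Helper22.Kap

open Submodule

section Lattice

theorem sSupIndep_insert {α : Type*} [CompleteLattice α] [IsModularLattice α] {s : Set α} {a : α}
    (hs : sSupIndep s) (ha : Disjoint a (sSup s)) : sSupIndep (insert a s) := by
  intro b hb
  by_cases hba : b = a
  · subst hba
    refine ha.mono_right (sSup_le_sSup ?_)
    intro x hx
    rcases hx.1 with rfl | h
    · exact absurd rfl hx.2
    · exact h
  · have hbs : b ∈ s := by
      rcases hb with rfl | h
      · exact absurd rfl hba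
      · exact h
    have h1 : Disjoint b (sSup (s \ {b})) := hs hbs
    have h2 : Disjoint (b ⊔ sSup (s \ {b})) a := by
      refine ha.symm.mono_left (sup_le (le_sSup hbs) (sSup_le_sSup Set.sdiff_subset))
    have h3 := h1.disjoint_sup_right_of_disjoint_sup_left h2
    refine h3.mono_right (sSup_le ?_)
    intro x hx
    rcases hx.1 with rfl | h
    · exact le_sup_right
    · exact le_sup_of_le_left (le_sSup ⟨h, hx.2⟩)

end Lattice

variable {R : Type*} [CommRing R] {M : Type*} [AddCommGroup M] [Module R M]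

/-- countably generated submodule -/
def CG (K : Submodule R M) : Prop := ∃ T : Set M, T.Countable ∧ span R T = K

section Core

variable {ι : Type*} (N : ι → Submodule R M) (π : M →ₗ[R] M)

/-- partial sums -/
def S (J : Set ι) : Submodule R M := ⨆ i ∈ J, N i

theorem S_mono {J J' : Set ι} (h : J ⊆ J') : S N J ≤ S N J' :=
  biSup_mono h

theorem S_union (J J' : Set ι) : S N (J ∪ J') = S N J ⊔ S N J' := iSup_union

theorem S_biUnion {κ : Type*} (c : Set κ) (f : κ → Set ι) :
    S N (⋃ z ∈ c, f z) = ⨆ z ∈ c, S N (f z) := by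
  apply le_antisymm
  · apply iSup₂_le
    intro i hi
    obtain ⟨z, hz, hi⟩ := Set.mem_iUnion₂.1 hi
    exact le_iSup₂_of_le z hz (le_iSup₂ (f := fun i _ => N i) i hi)
  · apply iSup₂_le
    intro z hz
    exact S_mono N (Set.subset_biUnion_of_mem hz)

def Closed (J : Set ι) : Prop := map π (S N J) ≤ S N J

theorem closed_union {J J' : Set ι} (h : Closed N π J) (h' : Closed N π J') :
    Closed N π (J ∪ J') := by
  unfold Closed at *
  rw [S_union, Submodule.map_sup]
  exact sup_le_sup h h'

theorem closed_biUnion {κ : Type*} (c : Set κ) (f : κ → Set ι) (h : ∀ z ∈ c, Closed N π (f z)) :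
    Closed N π (⋃ z ∈ c, f z) := by
  unfold Closed at *
  rw [S_biUnion, Submodule.map_iSup]
  apply iSup_le
  intro z
  rw [Submodule.map_iSup]
  apply iSup_le
  intro hz
  exact (h z hz).trans (le_iSup₂ (f := fun z _ => S N (f z)) z hz)

variable {N π}

theorem Closed.pi_mem {J : Set ι} (h : Closed N π J) {x : M} (hx : x ∈ S N J) : π x ∈ S N J :=
  h (mem_map_of_mem hx)

/-- the hull construction -/
def next (F : M → Finset ι) (G : ι → Set M) (π : M →ₗ[R] M) (C : Set ι) : Set ι :=
  C ∪ ⋃ i ∈ C, ⋃ g ∈ G i, (↑(F (π g)) : Set ι)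

theorem next_countable (F : M → Finset ι) (G : ι → Set M) (hGc : ∀ i, (G i).Countable)
    {C : Set ι} (hC : C.Countable) : (next F G π C).Countable :=
  hC.union (hC.biUnion fun i _ => (hGc i).biUnion fun g _ => (F (π g)).countable_toSet)

def hull (F : M → Finset ι) (G : ι → Set M) (π : M →ₗ[R] M) (i₀ : ι) : Set ι :=
  ⋃ n : ℕ, (next F G π)^[n] {i₀}

theorem hull_countable (F : M → Finset ι) (G : ι → Set M) (hGc : ∀ i, (G i).Countable) (i₀ : ι) :
    (hull F G π i₀).Countable := by
  apply Set.countable_iUnion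
  intro n
  induction n with
  | zero => simp
  | succ n ih =>
    rw [Function.iterate_succ_apply']
    exact next_countable F G hGc ih

theorem mem_hull (F : M → Finset ι) (G : ι → Set M) (i₀ : ι) : i₀ ∈ hull F G π i₀ :=
  Set.mem_iUnion.2 ⟨0, by simp⟩

theorem hull_closed (F : M → Finset ι) (hF : ∀ x, x ∈ ⨆ i ∈ F x, N i) (G : ι → Set M)
    (hG : ∀ i, span R (G i) = N i) (i₀ : ι) : Closed N π (hull F G π i₀) := by
  unfold Closed S
  rw [Submodule.map_iSup]
  apply iSup_le
  intro i
  rw [Submodule.map_iSup]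
  apply iSup_le
  intro hi
  rw [← hG i, Submodule.map_span, Submodule.span_le]
  rintro _ ⟨g, hg, rfl⟩
  obtain ⟨n, hn⟩ := Set.mem_iUnion.1 hi
  have hsub : ∀ j ∈ F (π g), j ∈ hull F G π i₀ := by
    intro j hj
    refine Set.mem_iUnion.2 ⟨n + 1, ?_⟩
    rw [Function.iterate_succ_apply']
    right
    exact Set.mem_biUnion hn (Set.mem_biUnion hg (Finset.mem_coe.2 hj))
  have hle : (⨆ i ∈ F (π g), N i) ≤ ⨆ i ∈ hull F G π i₀, N i := biSup_mono hsub
  exact hle (hF (π g))

/-- extension step -/
theorem exists_extension (hind : iSupIndep N) (hπ : ∀ x, π (π x) = π x)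
    (G : ι → Set M) (hGc : ∀ i, (G i).Countable) (hG : ∀ i, span R (G i) = N i)
    {J C : Set ι} (hJ : Closed N π J) (hC : Closed N π C) (hCc : C.Countable) :
    ∃ K : Submodule R M, Disjoint (map π (S N J)) K ∧
      map π (S N J) ⊔ K = map π (S N (J ∪ C)) ∧ CG K := by
  classical
  set D : Set ι := C \ J with hD
  have hJD : J ∪ C = J ∪ D := by rw [hD, Set.union_sdiff_self]
  have hdisj : Disjoint (S N J) (S N D) :=
    hind.disjoint_biSup_biSup (Set.disjoint_sdiff_right)
  have hJ' : Closed N π (J ∪ C) := closed_union N π hJ hC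
  set σ : M →ₗ[R] M := LinearMap.id - π with hσ
  have hσJ : ∀ x ∈ S N J, σ x ∈ S N J := by
    intro x hx
    simp only [hσ, LinearMap.sub_apply, LinearMap.id_apply]
    exact sub_mem hx (hJ.pi_mem hx)
  have hπσ : ∀ x, π (σ x) = 0 := by
    intro x
    simp only [hσ, LinearMap.sub_apply, LinearMap.id_apply, map_sub, hπ, sub_self]
  set K : Submodule R M := map π (S N (J ∪ C)) ⊓ (map σ (S N J) ⊔ S N D) with hK
  have hPJle : map π (S N J) ≤ map π (S N (J ∪ C)) :=
    Submodule.map_mono (S_mono N Set.subset_union_left)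
  -- (a)
  have ha : Disjoint (map π (S N J)) K := by
    rw [Submodule.disjoint_def]
    intro x hx1 hx2
    obtain ⟨m, hm, rfl⟩ := hx1
    have hx2' := hx2.2
    obtain ⟨y, hy, d, hd, hyd⟩ := Submodule.mem_sup.1 hx2'
    obtain ⟨m', hm', rfl⟩ := hy
    have hdJ : d ∈ S N J := by
      have : d = π m - σ m' := by rw [← hyd]; abel
      rw [this]
      exact sub_mem (hJ.pi_mem hm) (hσJ m' hm')
    have hd0 : d = 0 := (Submodule.disjoint_def.1 hdisj) d hdJ hd
    rw [hd0, add_zero] at hyd
    have : π (π m) = 0 := by rw [← hyd, hπσ]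
    rwa [hπ] at this
  -- key decomposition of π d
  have hkey : ∀ d ∈ S N D, π d ∈ map π (S N J) ⊔ K := by
    intro d hd
    have hdJ' : d ∈ S N (J ∪ C) := by
      rw [hJD]; exact S_mono N Set.subset_union_right hd
    have h1 : π d ∈ S N (J ∪ C) := hJ'.pi_mem hdJ'
    rw [hJD, S_union] at h1
    obtain ⟨m₁, hm₁, d₁, hd₁, hmd⟩ := Submodule.mem_sup.1 h1
    have hsplit : π d = π m₁ + (σ m₁ + d₁) := by
      rw [← hmd]
      simp only [hσ, LinearMap.sub_apply, LinearMap.id_apply]
      abel
    rw [hsplit]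
    refine Submodule.add_mem_sup (mem_map_of_mem hm₁) ⟨?_, ?_⟩
    · have : σ m₁ + d₁ = π d - π m₁ := by rw [hsplit]; abel
      rw [this]
      exact sub_mem (mem_map_of_mem hdJ') (hPJle (mem_map_of_mem hm₁))
    · exact Submodule.add_mem_sup (mem_map_of_mem hm₁) hd₁
  -- (b)
  have hb : map π (S N J) ⊔ K = map π (S N (J ∪ C)) := by
    apply le_antisymm
    · exact sup_le hPJle inf_le_left
    · rintro _ ⟨m'', hm'', rfl⟩
      rw [hJD, S_union] at hm''
      obtain ⟨m, hm, d, hd, rfl⟩ := Submodule.mem_sup.1 hm''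
      rw [map_add]
      exact add_mem (le_sup_left (a := map π (S N J)) (mem_map_of_mem hm)) (hkey d hd)
  refine ⟨K, ha, hb, ?_⟩
  -- (c) countable generation
  set GD : Set M := ⋃ i ∈ D, G i with hGD
  have hGDc : GD.Countable := (hCc.mono Set.sdiff_subset).biUnion fun i _ => hGc i
  have hGDspan : span R GD = S N D := by
    rw [hGD, Submodule.span_iUnion₂]
    unfold S
    exact iSup_congr fun i => iSup_congr fun _ => hG i
  have hkex : ∀ g : M, ∃ k : M, (g ∈ GD → k ∈ K ∧ π g - k ∈ map π (S N J)) := by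
    intro g
    by_cases hg : g ∈ GD
    · have hgD : g ∈ S N D := by rw [← hGDspan]; exact subset_span hg
      obtain ⟨a, haP, k, hk, hak⟩ := Submodule.mem_sup.1 (hkey g hgD)
      refine ⟨k, fun _ => ⟨hk, ?_⟩⟩
      have : π g - k = a := by rw [← hak]; abel
      rw [this]; exact haP
    · exact ⟨0, fun h => absurd h hg⟩
  choose k hk using hkex
  have hd'all : ∀ d ∈ span R GD, π d ∈ map π (S N J) ⊔ span R (k '' GD) := by
    intro d hd
    induction hd using Submodule.span_induction with
    | mem g hg =>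
      have : π g = (π g - k g) + k g := by abel
      rw [this]
      exact Submodule.add_mem_sup (hk g hg).2 (subset_span ⟨g, hg, rfl⟩)
    | zero => rw [map_zero]; exact zero_mem _
    | add u v _ _ hu hv => rw [map_add]; exact add_mem hu hv
    | smul r u _ hu => rw [map_smul]; exact Submodule.smul_mem _ r hu
  refine ⟨k '' GD, hGDc.image k, ?_⟩
  apply le_antisymm
  · rw [Submodule.span_le]
    rintro _ ⟨g, hg, rfl⟩
    exact (hk g hg).1
  · intro x hxK
    have hxP : x ∈ map π (S N (J ∪ C)) := hxK.1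
    obtain ⟨m'', hm'', rfl⟩ := hxP
    rw [hJD, S_union] at hm''
    obtain ⟨m, hm, d, hd, rfl⟩ := Submodule.mem_sup.1 hm''
    have hd' : π d ∈ map π (S N J) ⊔ span R (k '' GD) :=
      hd'all d (by rw [hGDspan]; exact hd)
    have hx' : π (m + d) ∈ map π (S N J) ⊔ span R (k '' GD) := by
      rw [map_add]
      exact add_mem (le_sup_left (a := map π (S N J)) (mem_map_of_mem hm)) hd'
    obtain ⟨a, haP, t, ht, hat⟩ := Submodule.mem_sup.1 hx'
    have htK : t ∈ K := by
      have hle : span R (k '' GD) ≤ K := by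
        rw [Submodule.span_le]
        rintro _ ⟨g, hg, rfl⟩
        exact (hk g hg).1
      exact hle ht
    have ha0 : a = 0 := by
      have haK : a ∈ K := by
        have : a = π (m + d) - t := by rw [← hat]; abel
        rw [this]
        exact sub_mem hxK htK
      exact (Submodule.disjoint_def.1 ha) a haP haK
    rw [← hat, ha0, zero_add]
    exact ht

theorem main (hind : iSupIndep N) (htop : ⨆ i, N i = ⊤) (hπ : ∀ x, π (π x) = π x)
    (hcg : ∀ i, CG (N i)) :
    ∃ 𝒦 : Set (Submodule R M), sSupIndep 𝒦 ∧ sSup 𝒦 = LinearMap.range π ∧ ∀ K ∈ 𝒦, CG K := by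
  classical
  have hFex : ∀ x : M, ∃ s : Finset ι, x ∈ ⨆ i ∈ s, N i := fun x =>
    (Submodule.mem_iSup_iff_exists_finset).1 (by rw [htop]; exact Submodule.mem_top)
  choose F hF using hFex
  choose G hGc hG using hcg
  let Z : Set (Set ι × Set (Submodule R M)) :=
    {z | Closed N π z.1 ∧ sSupIndep z.2 ∧ sSup z.2 = map π (S N z.1) ∧ ∀ K ∈ z.2, CG K}
  obtain ⟨z, hz⟩ := zorn_le₀ Z (by
    intro c hcZ hc
    refine ⟨(⋃ z ∈ c, z.1, ⋃ z ∈ c, z.2), ⟨?_, ?_, ?_, ?_⟩, ?_⟩
    · exact closed_biUnion N π c (fun z => z.1) (fun z hz => (hcZ hz).1)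
    · show sSupIndep (⋃ z ∈ c, z.2)
      rw [Set.biUnion_eq_iUnion]
      apply sSupIndep_iUnion_of_directed
      · intro a b
        rcases hc.total a.2 b.2 with h | h
        · exact ⟨b, h.2, subset_rfl⟩
        · exact ⟨a, subset_rfl, h.2⟩
      · intro a; exact (hcZ a.2).2.1
    · show sSup (⋃ z ∈ c, z.2) = map π (S N (⋃ z ∈ c, z.1))
      rw [S_biUnion, Submodule.map_iSup]
      apply le_antisymm
      · apply sSup_le
        intro K hK
        obtain ⟨z, hz, hK⟩ := Set.mem_iUnion₂.1 hK
        refine le_trans (le_sSup hK) ?_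
        rw [(hcZ hz).2.2.1]
        refine le_iSup_of_le z ?_
        rw [Submodule.map_iSup]
        exact le_iSup (fun _ : z ∈ c => map π (S N z.1)) hz
      · apply iSup_le
        intro z
        rw [Submodule.map_iSup]
        apply iSup_le
        intro hz
        rw [← (hcZ hz).2.2.1]
        exact sSup_le_sSup (Set.subset_biUnion_of_mem (u := fun z => z.2) hz)
    · intro K hK
      obtain ⟨z, hz, hK⟩ := Set.mem_iUnion₂.1 hK
      exact (hcZ hz).2.2.2 K hK
    · intro z hz
      exact ⟨Set.subset_biUnion_of_mem (u := fun z : Set ι × Set (Submodule R M) => z.1) hz,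
        Set.subset_biUnion_of_mem (u := fun z : Set ι × Set (Submodule R M) => z.2) hz⟩)
  obtain ⟨⟨hzc, hzi, hzs, hzg⟩, hmax⟩ := hz
  have huniv : z.1 = Set.univ := by
    by_contra hne
    obtain ⟨i₀, hi₀⟩ := (Set.ne_univ_iff_exists_notMem _).1 hne
    obtain ⟨K, hK1, hK2, hK3⟩ := exists_extension hind hπ G hGc hG hzc
      (hull_closed F hF G hG i₀) (hull_countable F G hGc i₀)
    have hz' : (z.1 ∪ hull F G π i₀, insert K z.2) ∈ Z := by
      refine ⟨closed_union N π hzc (hull_closed F hF G hG i₀), ?_, ?_, ?_⟩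
      · apply sSupIndep_insert hzi
        rw [hzs]; exact hK1.symm
      · show sSup (insert K z.2) = _
        rw [sSup_insert, hzs, sup_comm]; exact hK2
      · intro K' hK'
        rcases hK' with rfl | h
        · exact hK3
        · exact hzg K' h
    have hle : z ≤ (z.1 ∪ hull F G π i₀, insert K z.2) :=
      ⟨Set.subset_union_left, Set.subset_insert _ _⟩
    have := hmax hz' hle
    exact hi₀ (this.1 (Set.mem_union_right _ (mem_hull F G i₀)))
  refine ⟨z.2, hzi, ?_, hzg⟩
  rw [hzs, huniv]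
  have : S N Set.univ = ⊤ := by unfold S; simpa using htop
  rw [this, Submodule.map_top]

end Core

end Groth.Agent.Helper22.Kap
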