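import Mathlib
import Groth.Agent.Lib.Helper22.Kaplansky1

/-!
# Kaplansky's theorem, part 2: packaging

Direct summands of direct sums of countably generated modules are direct sums of countably
generated modules (set-of-submodules form, and transfer to submodules of the summand).
-/

open Submodule

namespace Groth.Agent.Helper22.Kap

variable {R : Type*} [CommRing R] {M : Type*} [AddCommGroup M] [Module R M]

theorem CG_of_span_top {K : Submodule R M} (s : Set K) (hs : s.Countable)
    (hspan : span R s = ⊤) : CG K := by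
  refine ⟨Subtype.val '' s, hs.image _, ?_⟩
  have h := Submodule.map_span K.subtype s
  rw [hspan, Submodule.map_subtype_top] at h
  exact h.symm

theorem span_top_of_CG {A : Type*} [AddCommGroup A] [Module R A] (f : A →ₗ[R] M)
    (hf : Function.Injective f) {K : Submodule R M} (hK : CG K) (hr : LinearMap.range f = K) :
    ∃ s : Set A, s.Countable ∧ span R s = ⊤ := by
  obtain ⟨T, hT, rfl⟩ := hK
  refine ⟨f ⁻¹' T, hT.preimage_of_injOn hf.injOn, ?_⟩
  apply Submodule.map_injective_of_injective hf
  rw [Submodule.map_span, Set.image_preimage_eq_of_subset, Submodule.map_top, hr]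
  intro t ht
  have h : t ∈ LinearMap.range f := hr ▸ subset_span ht
  exact h

theorem summand_decomp {ι : Type*} {N : ι → Submodule R M} (hind : iSupIndep N)
    (htop : ⨆ i, N i = ⊤) (hcg : ∀ i, CG (N i)) {P Q : Submodule R M} (hPQ : IsCompl P Q) :
    ∃ 𝒦 : Set (Submodule R M), sSupIndep 𝒦 ∧ sSup 𝒦 = P ∧ ∀ K ∈ 𝒦, CG K := by
  have hπ : ∀ x, P.projection Q hPQ (P.projection Q hPQ x) = P.projection Q hPQ x := fun x =>
    LinearMap.congr_fun (Submodule.isIdempotentElem_projection hPQ).eq x
  have h := main (N := N) (π := P.projection Q hPQ) hind htop hπ hcg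
  rwa [Submodule.range_projection] at h

theorem transfer (P : Submodule R M) (𝒦 : Set (Submodule R M)) (hind : sSupIndep 𝒦)
    (hsup : sSup 𝒦 = P) :
    iSupIndep (fun K : 𝒦 => (K : Submodule R M).comap P.subtype) ∧
      (⨆ K : 𝒦, (K : Submodule R M).comap P.subtype) = ⊤ := by
  have hle : ∀ K ∈ 𝒦, K ≤ P := fun K hK => hsup ▸ le_sSup hK
  have hmap : ∀ K ∈ 𝒦, map P.subtype (comap P.subtype K) = K := fun K hK => by
    rw [Submodule.map_comap_subtype, inf_eq_right.mpr (hle K hK)]
  constructor
  · rw [iSupIndep_def]
    intro K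
    rw [Submodule.disjoint_def]
    intro x hxK hx
    have h1 : (x : M) ∈ (K : Submodule R M) := hxK
    have h2 : (x : M) ∈ sSup (𝒦 \ {(K : Submodule R M)}) := by
      have h3 : (x : M) ∈ map P.subtype
          (⨆ j, ⨆ (_ : j ≠ K), comap P.subtype (j : Submodule R M)) := ⟨x, hx, rfl⟩
      rw [Submodule.map_iSup] at h3
      have h4 : (⨆ j : 𝒦, map P.subtype (⨆ (_ : j ≠ K), comap P.subtype (j : Submodule R M))) ≤
          sSup (𝒦 \ {(K : Submodule R M)}) := by
        refine iSup_le fun j => ?_
        rw [Submodule.map_iSup]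
        refine iSup_le fun hj => ?_
        rw [hmap j j.2]
        exact le_sSup ⟨j.2, fun h => hj (Subtype.ext h)⟩
      exact h4 h3
    have h0 := (Submodule.disjoint_def.mp (hind K.2)) (x : M) h1 h2
    exact Subtype.ext h0
  · apply Submodule.map_injective_of_injective P.injective_subtype
    rw [Submodule.map_iSup, Submodule.map_subtype_top]
    exact (iSup_congr fun K : 𝒦 => hmap K K.2).trans (by rw [← sSup_eq_iSup', hsup])

end Groth.Agent.Helper22.Kap
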