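import Mathlib
import Groth.Agent.Lib.Helper1.TorFree
import Groth.Agent.Lib.Helper1.NilNakayama

/-!
# Flat modules over a local ring with nilpotent maximal ideal (e.g. Artinian local rings)
-/

set_option autoImplicit false

namespace Groth.Agent.Helper22.ArtFlat

open TensorProduct Function IsLocalRing Groth.Agent.Helper1

universe u v w

theorem isNilpotent_maximalIdeal (R : Type u) [CommRing R] [IsLocalRing R] [IsArtinianRing R] :
    IsNilpotent (maximalIdeal R) := by
  have := IsArtinianRing.isNilpotent_jacobson_bot (R := R)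
  rwa [IsLocalRing.jacobson_eq_maximalIdeal ⊥ bot_ne_top] at this

section

variable {R : Type u} [CommRing R] [IsLocalRing R]
  {M : Type v} {N : Type w} [AddCommGroup M] [Module R M] [AddCommGroup N] [Module R N]

theorem lTensor_injective_of_smul_eq_bot
    (u : N →ₗ[R] M) (h : Injective (u.lTensor (ResidueField R)))
    (Q : Type*) [AddCommGroup Q] [Module R Q]
    (hQ : maximalIdeal R • (⊤ : Submodule R Q) = ⊥) : Injective (u.lTensor Q) := by
  have hT : Module.IsTorsionBySet R Q (maximalIdeal R) := by
    intro x a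
    have : (a : R) • x ∈ maximalIdeal R • (⊤ : Submodule R Q) :=
      Submodule.smul_mem_smul a.2 Submodule.mem_top
    rw [hQ] at this
    exact this
  let _ : Module (ResidueField R) Q := hT.module
  have : IsScalarTower R (ResidueField R) Q := hT.isScalarTower
  exact lTensor_injective_of_baseChange_injective (ResidueField R) Q u h

theorem lTensor_injective_of_nilpotent [Module.Flat R M] (hm : IsNilpotent (maximalIdeal R))
    (u : N →ₗ[R] M) (h : Injective (u.lTensor (ResidueField R)))
    (Q : Type u) [AddCommGroup Q] [Module R Q] : Injective (u.lTensor Q) := by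
  obtain ⟨n, hn⟩ := hm
  refine devissage_pow (maximalIdeal R) (fun Q _ _ => Injective (u.lTensor Q)) ?_ ?_ n Q ?_
  · intro Q _ _ hQ
    exact lTensor_injective_of_smul_eq_bot u h Q hQ
  · intro Q _ _ Q' hA hC
    exact lTensor_injective_of_extension u Q'.subtype Q'.mkQ (Submodule.injective_subtype _)
      (LinearMap.exact_subtype_mkQ Q') (Submodule.mkQ_surjective _) hA hC
  · rw [hn, Ideal.zero_eq_bot]; exact Submodule.bot_smul _

theorem injective_of_residue [Module.Flat R M] (hm : IsNilpotent (maximalIdeal R))
    (u : N →ₗ[R] M) (h : Injective (u.lTensor (ResidueField R))) : Injective u := by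
  have h1 := lTensor_injective_of_nilpotent hm u h R
  intro x y hxy
  have h2 : u.lTensor R ((1 : R) ⊗ₜ x) = u.lTensor R ((1 : R) ⊗ₜ y) := by simp [hxy]
  have h3 := h1 h2
  simpa using congrArg (TensorProduct.lid R N) h3

theorem flat_of_exact [Module.Flat R M] (hm : IsNilpotent (maximalIdeal R))
    {P : Type*} [AddCommGroup P] [Module R P]
    (u : N →ₗ[R] M) (g : M →ₗ[R] P) (hex : Exact u g) (hg : Surjective g)
    (h : Injective (u.lTensor (ResidueField R))) : Module.Flat R P := by
  rw [Module.Flat.iff_lTensor_injective']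
  intro I
  refine lTensor_injective_of_exact_of_exact_of_rTensor_injective
    (f₁ := u) (f₂ := g) (g₁ := I.subtype) (g₂ := I.mkQ)
    hex hg (LinearMap.exact_subtype_mkQ I) (Submodule.mkQ_surjective _) ?_ ?_
  · rw [← LinearMap.lTensor_inj_iff_rTensor_inj]
    exact lTensor_injective_of_nilpotent hm u h (R ⧸ I)
  · exact Module.Flat.lTensor_preserves_injective_linearMap _ (Submodule.injective_subtype _)

theorem exists_one_tmul_eq' (z : ResidueField R ⊗[R] N) :
    ∃ x : N, (1 : ResidueField R) ⊗ₜ[R] x = z :=
  exists_one_tmul_eq (maximalIdeal R) z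

theorem one_tmul_eq_zero_iff' (x : M) :
    ((1 : ResidueField R) ⊗ₜ[R] x = 0) ↔ x ∈ maximalIdeal R • (⊤ : Submodule R M) :=
  one_tmul_eq_zero_iff (maximalIdeal R) x

theorem surjective_of_residue (hm : IsNilpotent (maximalIdeal R))
    (u : N →ₗ[R] M) (h : Surjective (u.lTensor (ResidueField R))) : Surjective u := by
  rw [← LinearMap.range_eq_top]
  apply eq_top_of_sup_smul_eq_top_of_isNilpotent (maximalIdeal R) hm
  rw [eq_top_iff]
  intro l _
  obtain ⟨z, hz⟩ := h ((1 : ResidueField R) ⊗ₜ l)
  obtain ⟨p, rfl⟩ := exists_one_tmul_eq' z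
  rw [LinearMap.lTensor_tmul] at hz
  have h0 : (1 : ResidueField R) ⊗ₜ[R] (l - u p) = 0 := by
    rw [tmul_sub]
    exact sub_eq_zero.mpr hz.symm
  rw [one_tmul_eq_zero_iff'] at h0
  have : l = u p + (l - u p) := by abel
  rw [this]
  exact Submodule.add_mem_sup (LinearMap.mem_range_self u p) h0

end

section

variable {R : Type u} [CommRing R]
  {M : Type*} {N : Type*} {P : Type*} [AddCommGroup M] [Module R M] [AddCommGroup N] [Module R N]
  [AddCommGroup P] [Module R P]

theorem flat_of_exact_of_flat [Module.Flat R N] [Module.Flat R P]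
    (f : M →ₗ[R] N) (g : N →ₗ[R] P) (hf : Injective f) (hg : Surjective g) (hex : Exact f g) :
    Module.Flat R M := by
  rw [Module.Flat.iff_rTensor_injective']
  intro I
  have h1 : Injective (f.lTensor I) := LinearMap.lTensor_injective_of_exact_of_flat g hg f hf hex I
  have h2 : Injective (I.subtype.rTensor N) :=
    Module.Flat.rTensor_preserves_injective_linearMap _ (Submodule.injective_subtype _)
  have h3 : (I.subtype.rTensor N) ∘ₗ (f.lTensor I) = (f.lTensor R) ∘ₗ (I.subtype.rTensor M) := by
    rw [LinearMap.rTensor_comp_lTensor, LinearMap.lTensor_comp_rTensor]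
  refine Function.Injective.of_comp (f := f.lTensor R) ?_
  rw [← LinearMap.coe_comp, ← h3, LinearMap.coe_comp]
  exact h2.comp h1

end

end Groth.Agent.Helper22.ArtFlat
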