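import Mathlib

/-!
# Yoneda-style computations with group objects in a cartesian monoidal category
-/

open CategoryTheory MonoidalCategory CartesianMonoidalCategory MonObj GrpObj Limits

namespace Groth.Agent.Helper22.GrpYoneda

universe v u
variable {C : Type u} [Category.{v} C] [CartesianMonoidalCategory C]

theorem pt_toUnit {X : C} (x : 𝟙_ C ⟶ X) : x ≫ toUnit X = 𝟙 (𝟙_ C) := toUnit_unique _ _

theorem pt_toUnit_assoc {X Y : C} (x : 𝟙_ C ⟶ X) (f : 𝟙_ C ⟶ Y) : x ≫ toUnit X ≫ f = f := by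
  rw [← Category.assoc, pt_toUnit, Category.id_comp]

theorem eta_eq_one (M : C) [MonObj M] : η[M] = (1 : 𝟙_ C ⟶ M) := MonObj.one_eq_one M

/-- `IsMonHom` from the point-wise conditions at the universal points. -/
theorem isMonHom_of_points {M N : C} [MonObj M] [MonObj N] (f : M ⟶ N)
    (h1 : η[M] ≫ f = η[N])
    (h2 : (fst M M * snd M M) ≫ f = (fst M M ≫ f) * (snd M M ≫ f)) : IsMonHom f where
  one_hom := h1
  mul_hom := by
    have e1 : (f ⊗ₘ f) ≫ μ[N] = (fst M M ≫ f) * (snd M M ≫ f) := by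
      rw [← lift_fst_comp_snd_comp]; rfl
    rw [e1, MonObj.mul_eq_mul M]; exact h2

/-- A scheme-theoretic section of `π : G ⟶ B` with kernel `L`, all maps `B ⊗ B ⟶ L` constant,
can be corrected to a homomorphic section. -/
theorem exists_hom_section {L G B : C} [GrpObj G] [GrpObj B]
    (i : L ⟶ G) (π : G ⟶ B) [IsMonHom π] (hker : IsPullback i (toUnit L) π η[B])
    (hconst : ∀ f : B ⊗ B ⟶ L, ∃ l : 𝟙_ C ⟶ L, f = toUnit (B ⊗ B) ≫ l)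
    (s : B ⟶ G) (hs : s ≫ π = 𝟙 B) :
    ∃ s' : B ⟶ G, IsMonHom s' ∧ s' ≫ π = 𝟙 B := by
  have hcπ : (toUnit B ≫ η[B] ≫ s) ≫ π = (1 : B ⟶ B) := by
    rw [Category.assoc, Category.assoc, hs, Category.comp_id]; rfl
  have hηc : η[B] ≫ (toUnit B ≫ η[B] ≫ s) = η[B] ≫ s := pt_toUnit_assoc _ _
  obtain ⟨s₀, hs₀⟩ : ∃ s₀ : B ⟶ G, s₀ = s * (toUnit B ≫ η[B] ≫ s)⁻¹ := ⟨_, rfl⟩
  have hπ : s₀ ≫ π = 𝟙 B := by
    rw [hs₀, MonObj.mul_comp, GrpObj.inv_comp, hcπ, hs, _root_.inv_one, _root_.mul_one]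
  have hη : η[B] ≫ s₀ = η[G] := by
    rw [hs₀, MonObj.comp_mul, GrpObj.comp_inv, hηc, _root_.mul_inv_cancel, eta_eq_one]
  have hη1 : η[B] ≫ s₀ = (1 : 𝟙_ C ⟶ G) := by rw [hη, eta_eq_one]
  -- the defect
  obtain ⟨d, hd⟩ : ∃ d : B ⊗ B ⟶ G, d = ((fst B B * snd B B) ≫ s₀) *
      ((fst B B ≫ s₀) * (snd B B ≫ s₀))⁻¹ := ⟨_, rfl⟩
  have hdπ : d ≫ π = 1 := by
    rw [hd, MonObj.mul_comp, GrpObj.inv_comp, MonObj.mul_comp (fst B B ≫ s₀) (snd B B ≫ s₀) π]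
    simp only [Category.assoc, hπ, Category.comp_id]
    exact _root_.mul_inv_cancel _
  obtain ⟨l, hl⟩ := hconst (hker.lift d (toUnit _) (by rw [hdπ]; rfl))
  have hdl : d = toUnit (B ⊗ B) ≫ l ≫ i := by
    rw [← Category.assoc, ← hl, hker.lift_fst]
  have hεd : lift η[B] η[B] ≫ d = (1 : 𝟙_ C ⟶ G) := by
    have e0 : lift η[B] η[B] ≫ (fst B B * snd B B) = η[B] := by
      rw [MonObj.comp_mul, lift_fst, lift_snd, eta_eq_one, _root_.mul_one]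
    rw [hd, MonObj.comp_mul, GrpObj.comp_inv, MonObj.comp_mul, ← Category.assoc, e0,
      ← Category.assoc, lift_fst, ← Category.assoc, lift_snd, hη1]
    simp
  have hli : l ≫ i = (1 : 𝟙_ C ⟶ G) := by
    rw [← hεd, hdl, pt_toUnit_assoc]
  have hd1 : d = 1 := by rw [hdl, hli, MonObj.comp_one]
  have hmul : (fst B B * snd B B) ≫ s₀ = (fst B B ≫ s₀) * (snd B B ≫ s₀) := by
    rw [hd] at hd1
    exact mul_inv_eq_one.mp hd1
  exact ⟨s₀, isMonHom_of_points s₀ hη hmul, hπ⟩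

section Albanese

variable {X A B : C} [GrpObj A] [GrpObj B]

theorem basepoint_one (x₁ : 𝟙_ C ⟶ X) (alb : X ⟶ A) :
    x₁ ≫ (alb * (toUnit X ≫ x₁ ≫ alb)⁻¹) = η[A] := by
  rw [MonObj.comp_mul, GrpObj.comp_inv, pt_toUnit_assoc, _root_.mul_inv_cancel, eta_eq_one]

theorem basepoint_fwd (x₀ x₁ : 𝟙_ C ⟶ X) (alb : X ⟶ A) (g : X ⟶ B) (h : A ⟶ B) [IsMonHom h]
    (hg : x₁ ≫ g = η[B]) (hh : alb ≫ h = g * (toUnit X ≫ x₀ ≫ g)⁻¹) :
    (alb * (toUnit X ≫ x₁ ≫ alb)⁻¹) ≫ h = g := by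
  have e1 : x₁ ≫ alb ≫ h = (x₀ ≫ g)⁻¹ := by
    rw [hh, MonObj.comp_mul, GrpObj.comp_inv, pt_toUnit_assoc, hg, eta_eq_one, _root_.one_mul]
  rw [MonObj.mul_comp, GrpObj.inv_comp]
  simp only [Category.assoc]
  rw [e1, hh, GrpObj.comp_inv, _root_.inv_inv, inv_mul_cancel_right]

theorem basepoint_bwd (x₀ x₁ : 𝟙_ C ⟶ X) (alb : X ⟶ A) (g : X ⟶ B) (h : A ⟶ B) [IsMonHom h]
    (halb : x₀ ≫ alb = η[A])
    (hh : (alb * (toUnit X ≫ x₁ ≫ alb)⁻¹) ≫ h = g) :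
    alb ≫ h = g * (toUnit X ≫ x₀ ≫ g)⁻¹ := by
  rw [MonObj.mul_comp, GrpObj.inv_comp] at hh
  simp only [Category.assoc] at hh
  -- hh : alb ≫ h * (toUnit X ≫ x₁ ≫ alb ≫ h)⁻¹ = g
  have e0 : x₀ ≫ alb ≫ h = 1 := by
    rw [← Category.assoc, halb, IsMonHom.one_hom, eta_eq_one]
  have e1 : (x₁ ≫ alb ≫ h)⁻¹ = x₀ ≫ g := by
    rw [← hh, MonObj.comp_mul, GrpObj.comp_inv, pt_toUnit_assoc, e0, _root_.one_mul]
  have e2 : alb ≫ h = g * (toUnit X ≫ x₁ ≫ alb ≫ h) := by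
    rw [← hh, inv_mul_cancel_right]
  rw [e2, ← e1, GrpObj.comp_inv, _root_.inv_inv]

end Albanese

end Groth.Agent.Helper22.GrpYoneda
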