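import Mathlib
import Groth.Prelude.Def_SGA1
import Groth.Agent.Lib.Helper4.DVRSpec
import Groth.Agent.Lib.Helper7.ProCons2

/-!
# Universally submersive morphisms to locally Noetherian schemes lift specializations
(helper22)
-/

set_option autoImplicit false
universe u
open AlgebraicGeometry CategoryTheory CategoryTheory.Limits TopologicalSpace

namespace Groth.Agent.Helper22.SubmSpec

/-- In a discrete valuation ring there is only one non-closed point. -/
theorem eq_of_ne_closedPoint (A : Type u) [CommRing A] [IsDomain A] [IsDiscreteValuationRing A]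
    (p q : PrimeSpectrum A) (hp : p ≠ IsLocalRing.closedPoint A)
    (hq : q ≠ IsLocalRing.closedPoint A) : p = q := by
  have key : ∀ r : PrimeSpectrum A, r ≠ IsLocalRing.closedPoint A → r.asIdeal = ⊥ := by
    intro r hr
    by_contra hne
    apply hr
    have hmax : r.asIdeal.IsMaximal := r.2.isMaximal hne
    exact PrimeSpectrum.ext (IsLocalRing.eq_maximalIdeal hmax)
  exact PrimeSpectrum.ext ((key p hp).trans (key q hq).symm)

/-- A universally submersive morphism to a locally Noetherian scheme lifts specializations. -/
theorem exists_specializes_lift {X Y : Scheme.{u}} [IsLocallyNoetherian X] (f : Y ⟶ X)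
    (hf : SGA1.UnivSubmersive f) {η x : X} (hsp : η ⤳ x) :
    ∃ ξ u : Y, ξ ⤳ u ∧ f ξ = η ∧ f u = x := by
  by_cases hne : x = η
  · subst hne
    have hq : Topology.IsQuotientMap f := hf (𝟙 _) (𝟙 _) f (IsPullback.id_vert f)
    obtain ⟨u, hu⟩ := hq.surjective x
    exact ⟨u, u, specializes_rfl, hu, hu⟩
  · obtain ⟨A, h, hdvr, hcl, hgen⟩ :=
      Groth.Agent.Helper4.DVRSpec.exists_dvr_through_specialization (𝟙 X) η x hsp hne
    haveI := hdvr
    rw [Category.comp_id] at hgen
    have hq : Topology.IsQuotientMap (pullback.snd f h) :=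
      hf _ _ _ (IsPullback.of_hasPullback f h).flip
    -- the generic point
    set q₀ : Spec (CommRingCat.of A) :=
      Spec.map (CommRingCat.ofHom A.subtype) (IsLocalRing.closedPoint (X.residueField η)) with hq₀
    have hq₀η : h q₀ = η := by
      rw [hq₀, ← Scheme.Hom.comp_apply, hgen, Scheme.fromSpecResidueField_apply]
    have hq₀s : q₀ ≠ IsLocalRing.closedPoint A := by
      intro hc
      apply hne
      rw [← hcl, ← hc, hq₀η]
    -- the closed point is not open
    have hnotopen : ¬ IsOpen ({IsLocalRing.closedPoint A} : Set (Spec (CommRingCat.of A))) := by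
      intro ho
      have hsp' : q₀ ⤳ (IsLocalRing.closedPoint A : Spec (CommRingCat.of A)) :=
        IsLocalRing.specializes_closedPoint (R := A) q₀
      exact hq₀s (hsp'.mem_open ho (Set.mem_singleton _))
    have hTnot : ¬ IsOpen ((pullback.snd f h) ⁻¹'
        ({IsLocalRing.closedPoint A} : Set (Spec (CommRingCat.of A)))) := by
      rw [hq.isCoinducing.isOpen_preimage]
      exact hnotopen
    rw [isOpen_iff_mem_nhds] at hTnot
    push Not at hTnot
    obtain ⟨w, hwT, hwn⟩ := hTnot
    have hwcl : w ∈ closure ((pullback.snd f h) ⁻¹'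
        ({IsLocalRing.closedPoint A} : Set (Spec (CommRingCat.of A)))ᶜ) := by
      rw [Set.preimage_compl, closure_compl]
      intro hint
      exact hwn (mem_interior_iff_mem_nhds.mp hint)
    -- constructibility
    haveI : NoetherianSpace (Spec (CommRingCat.of A)) :=
      inferInstanceAs (NoetherianSpace (PrimeSpectrum A))
    have hc : Topology.IsConstructible
        (({IsLocalRing.closedPoint A} : Set (Spec (CommRingCat.of A)))ᶜ) :=
      IsRetrocompact.isConstructible
        (IsLocalRing.isClosed_singleton_closedPoint A).isOpen_compl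
        (fun U _ _ => NoetherianSpace.isCompact _)
    have hCC := Groth.Agent.Helper7.ProCons2.CC.of_isConstructible
      ((pullback.snd f h).isConstructible_preimage hc)
    obtain ⟨e, he, hew⟩ := Groth.Agent.Helper7.ProCons2.exists_specializes_of_mem_closure hCC hwcl
    have hπe : (pullback.snd f h) e = q₀ :=
      eq_of_ne_closedPoint A _ _ he hq₀s
    refine ⟨pullback.fst f h e, pullback.fst f h w, hew.map (pullback.fst f h).continuous, ?_, ?_⟩
    · rw [← Scheme.Hom.comp_apply, pullback.condition, Scheme.Hom.comp_apply, hπe, hq₀η]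
    · rw [← Scheme.Hom.comp_apply, pullback.condition, Scheme.Hom.comp_apply]
      have : (pullback.snd f h) w = IsLocalRing.closedPoint A := hwT
      rw [this, hcl]

end Groth.Agent.Helper22.SubmSpec
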