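import Mathlib

/-!
# A finitary obstruction to lifting the pair (generic point, closed point) (helper22)

For a local domain `V`, an `A`-algebra structure on `V` and an `A`-algebra `C`, the pair
`(⊥, 𝔪_V)` of primes of `V` lifts to a pair of primes `q₁ ≤ q₂` of `V ⊗[A] C`, unless an
equation `b ⊗ 1 = ∑ (b * π i) ⊗ c i` (`b ≠ 0`, `π i ∈ 𝔪_V`) holds; such an equation already
holds over a finitely generated `A`-subalgebra of `V`, and obstructs the existence of test maps
to local domains.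
-/

set_option autoImplicit false
universe u
open TensorProduct IsLocalRing

namespace Groth.Agent.Helper22.SubtrAn

/-- If no equation `b * (1 - m) = 0` with `b ≠ 0` in `V`, `m ∈ 𝔪_V R` holds in the `V`-algebra `R`,
then `(⊥, 𝔪_V)` lifts to a pair of primes of `R`. -/
theorem exists_primes (V R : Type*) [CommRing V] [IsDomain V] [IsLocalRing V] [CommRing R]
    [Algebra V R]
    (h : ∀ b : V, b ≠ 0 → ∀ m ∈ Ideal.map (algebraMap V R) (maximalIdeal V),
      algebraMap V R b * (1 - m) ≠ 0) :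
    ∃ q₁ q₂ : Ideal R, q₁.IsPrime ∧ q₂.IsPrime ∧ q₁ ≤ q₂ ∧ q₁.comap (algebraMap V R) = ⊥ ∧
      q₂.comap (algebraMap V R) = maximalIdeal V := by
  classical
  -- the torsion ideal
  let T : Ideal R :=
    { carrier := {t | ∃ b : V, b ≠ 0 ∧ algebraMap V R b * t = 0}
      zero_mem' := ⟨1, one_ne_zero, by simp⟩
      add_mem' := by
        rintro x y ⟨b, hb, hx⟩ ⟨b', hb', hy⟩
        refine ⟨b * b', mul_ne_zero hb hb', ?_⟩
        have h1 : algebraMap V R (b * b') * (x + y) =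
            algebraMap V R b' * (algebraMap V R b * x) +
              algebraMap V R b * (algebraMap V R b' * y) := by
          rw [map_mul]; ring
        rw [h1, hx, hy, mul_zero, mul_zero, add_zero]
      smul_mem' := by
        rintro r x ⟨b, hb, hx⟩
        refine ⟨b, hb, ?_⟩
        rw [smul_eq_mul, mul_left_comm, hx, mul_zero] }
  have hT : ∀ t, t ∈ T ↔ ∃ b : V, b ≠ 0 ∧ algebraMap V R b * t = 0 := fun t => Iff.rfl
  set M := Ideal.map (algebraMap V R) (maximalIdeal V) with hM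
  have hne : M ⊔ T ≠ ⊤ := by
    intro htop
    have h1 : (1 : R) ∈ M ⊔ T := by rw [htop]; trivial
    obtain ⟨m, hm, t, ht, hmt⟩ := Submodule.mem_sup.mp h1
    obtain ⟨b, hb, hbt⟩ := (hT t).mp ht
    have : t = 1 - m := by rw [← hmt]; ring
    exact h b hb m hm (by rw [← this]; exact hbt)
  obtain ⟨q₂, hq₂max, hle⟩ := Ideal.exists_le_maximal _ hne
  haveI hq₂ : q₂.IsPrime := hq₂max.isPrime
  obtain ⟨q₁, hq₁min, hq₁le⟩ := Ideal.exists_minimalPrimes_le (le_sup_right.trans hle : T ≤ q₂)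
  have hq₁ : q₁.IsPrime := hq₁min.1.1
  refine ⟨q₁, q₂, hq₁, hq₂, hq₁le, ?_, ?_⟩
  · rw [eq_bot_iff]
    intro b hb
    rw [Ideal.mem_comap] at hb
    rw [Ideal.mem_bot]
    by_contra hb0
    obtain ⟨y, hyT, hby⟩ := Ideal.exists_mul_mem_of_mem_minimalPrimes hq₁min hb
    obtain ⟨b', hb', hb'y⟩ := (hT _).mp hby
    apply hyT
    rw [hT]
    refine ⟨b' * b, mul_ne_zero hb' hb0, ?_⟩
    rw [map_mul, mul_assoc]
    exact hb'y
  · have h1 : maximalIdeal V ≤ q₂.comap (algebraMap V R) := by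
      rw [← Ideal.map_le_iff_le_comap]; exact le_sup_left.trans hle
    have h2 : q₂.comap (algebraMap V R) ≠ ⊤ := Ideal.comap_ne_top _ hq₂.ne_top
    exact ((maximalIdeal.isMaximal V).eq_of_le h2 h1).symm

/-- Elements of the extension of an ideal `I` of `V` to `V ⊗[A] C` are sums of pure tensors with
left factors in `I`. -/
theorem exists_repr (A V C : Type*) [CommRing A] [CommRing V] [CommRing C] [Algebra A V]
    [Algebra A C] (I : Ideal V) (m : V ⊗[A] C)
    (hm : m ∈ Ideal.map (algebraMap V (V ⊗[A] C)) I) :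
    ∃ (ι : Type) (_ : Fintype ι) (π : ι → V) (c : ι → C),
      (∀ i, π i ∈ I) ∧ m = ∑ i, π i ⊗ₜ[A] c i := by
  classical
  have hmul : ∀ (r : V ⊗[A] C) (v : V), v ∈ I →
      ∃ (ι : Type) (_ : Fintype ι) (π : ι → V) (c : ι → C),
        (∀ i, π i ∈ I) ∧ r * (v ⊗ₜ[A] (1 : C)) = ∑ i, π i ⊗ₜ[A] c i := by
    intro r v hv
    induction r using TensorProduct.induction_on with
    | zero => exact ⟨Empty, inferInstance, Empty.elim, Empty.elim, fun i => i.elim, by simp⟩
    | tmul x y =>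
      exact ⟨Unit, inferInstance, fun _ => x * v, fun _ => y, fun _ => I.mul_mem_left _ hv,
        by simp [Algebra.TensorProduct.tmul_mul_tmul]⟩
    | add r₁ r₂ h₁ h₂ =>
      obtain ⟨ι₁, _, π₁, c₁, hπ₁, e₁⟩ := h₁
      obtain ⟨ι₂, _, π₂, c₂, hπ₂, e₂⟩ := h₂
      refine ⟨ι₁ ⊕ ι₂, inferInstance, Sum.elim π₁ π₂, Sum.elim c₁ c₂, ?_, ?_⟩
      · rintro (i | i)
        · exact hπ₁ i
        · exact hπ₂ i
      · rw [add_mul, e₁, e₂, Fintype.sum_sum_type]
        simp only [Sum.elim_inl, Sum.elim_inr]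
  rw [Ideal.map, Ideal.span] at hm
  obtain ⟨n, r, g, rfl⟩ := Submodule.mem_span_set'.mp hm
  have key : ∀ k : Fin n, ∃ (ι : Type) (_ : Fintype ι) (π : ι → V) (c : ι → C),
      (∀ i, π i ∈ I) ∧ r k • ((g k : V ⊗[A] C)) = ∑ i, π i ⊗ₜ[A] c i := by
    intro k
    obtain ⟨v, hv, hvk⟩ := (g k).2
    rw [smul_eq_mul, ← hvk, Algebra.TensorProduct.algebraMap_apply]
    exact hmul (r k) v hv
  choose ι inst π c hπ e using key
  refine ⟨Σ k, ι k, inferInstance, fun x => π x.1 x.2, fun x => c x.1 x.2,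
    fun x => hπ _ _, ?_⟩
  rw [Fintype.sum_sigma]
  exact Finset.sum_congr rfl (fun k _ => e k)

/-- The finitary obstruction: if `(⊥, 𝔪_V)` does not lift to `V ⊗[A] C`, there is a finitely
generated subalgebra `B` of `V` such that no compatible pair of test maps `B → W'`, `C → W'`
to a local domain exists with `B → W'` injective and local at `𝔪_V ∩ B`. -/
theorem exists_fg_obstruction (A V C : Type u) [CommRing A] [CommRing V] [IsDomain V]
    [IsLocalRing V] [CommRing C] [Algebra A V] [Algebra A C]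
    (hno : ¬ ∃ q₁ q₂ : Ideal (V ⊗[A] C), q₁.IsPrime ∧ q₂.IsPrime ∧ q₁ ≤ q₂ ∧
        q₁.comap (algebraMap V (V ⊗[A] C)) = ⊥ ∧
        q₂.comap (algebraMap V (V ⊗[A] C)) = maximalIdeal V) :
    ∃ B : Subalgebra A V, B.FG ∧
      ∀ (W' : Type u) [CommRing W'] [IsDomain W'] [IsLocalRing W'] (ν : B →+* W') (γ : C →+* W'),
        ν.comp (algebraMap A B) = γ.comp (algebraMap A C) → Function.Injective ν →
        (∀ v : B, (v : V) ∈ maximalIdeal V → ν v ∈ maximalIdeal W') → False := by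
  classical
  -- the equation
  obtain ⟨b, hb, m, hm, hbm⟩ : ∃ b : V, b ≠ 0 ∧
      ∃ m ∈ Ideal.map (algebraMap V (V ⊗[A] C)) (maximalIdeal V),
        algebraMap V (V ⊗[A] C) b * (1 - m) = 0 := by
    by_contra hcon
    push Not at hcon
    exact hno (exists_primes V (V ⊗[A] C) hcon)
  obtain ⟨ι, _, π, c, hπ, rfl⟩ := exists_repr A V C (maximalIdeal V) m hm
  -- first subalgebra
  set B₁ : Subalgebra A V := Algebra.adjoin A ({b} ∪ Set.range π) with hB₁
  have hB₁fg : B₁.FG :=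
    Subalgebra.fg_def.mpr ⟨_, (Set.finite_singleton b).union (Set.finite_range π), rfl⟩
  let b₁ : B₁ := ⟨b, Algebra.subset_adjoin (Or.inl rfl)⟩
  let π₁ : ι → B₁ := fun i => ⟨π i, Algebra.subset_adjoin (Or.inr ⟨i, rfl⟩)⟩
  let t : B₁ ⊗[A] C := b₁ ⊗ₜ[A] (1 : C) - ∑ i, (b₁ * π₁ i) ⊗ₜ[A] c i
  have ht : LinearMap.rTensor C B₁.val.toLinearMap t =
      LinearMap.rTensor C B₁.val.toLinearMap (0 : B₁ ⊗[A] C) := by
    rw [map_zero]
    simp only [t, map_sub, map_sum, LinearMap.rTensor_tmul, AlgHom.toLinearMap_apply]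
    rw [← hbm, Algebra.TensorProduct.algebraMap_apply, mul_sub, mul_one, Finset.mul_sum]
    congr 1
    refine Finset.sum_congr rfl (fun i _ => ?_)
    rw [Algebra.TensorProduct.tmul_mul_tmul, one_mul]
    rfl
  obtain ⟨B, hAB, hBfg, hB⟩ := TensorProduct.Algebra.eq_of_fg_of_subtype_eq hB₁fg ht
  rw [map_zero] at hB
  refine ⟨B, hBfg, ?_⟩
  intro W' _ _ _ ν γ hcompat hinj hloc
  let b₂ : B := Subalgebra.inclusion hAB b₁
  let π₂ : ι → B := fun i => Subalgebra.inclusion hAB (π₁ i)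
  have heq : b₂ ⊗ₜ[A] (1 : C) - ∑ i, (b₂ * π₂ i) ⊗ₜ[A] c i = (0 : B ⊗[A] C) := by
    rw [← hB]
    simp only [t, map_sub, map_sum, LinearMap.rTensor_tmul, AlgHom.toLinearMap_apply, map_mul]
    rfl
  letI : Algebra A W' := (ν.comp (algebraMap A B)).toAlgebra
  let ν' : B →ₐ[A] W' := { ν with commutes' := fun a => rfl }
  let γ' : C →ₐ[A] W' :=
    { γ with
      commutes' := fun a => by
        change γ (algebraMap A C a) = ν (algebraMap A B a)
        rw [← RingHom.comp_apply, ← hcompat]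
        rfl }
  have h1 := congrArg (Algebra.TensorProduct.productMap ν' γ') heq
  rw [map_sub, map_sum, map_zero, Algebra.TensorProduct.productMap_apply_tmul] at h1
  simp only [Algebra.TensorProduct.productMap_apply_tmul, map_one, mul_one] at h1
  have h2 : ν b₂ * (1 - ∑ i, ν (π₂ i) * γ (c i)) = 0 := by
    rw [mul_sub, mul_one, Finset.mul_sum]
    rw [← h1]
    congr 1
    refine Finset.sum_congr rfl (fun i _ => ?_)
    change ν b₂ * (ν (π₂ i) * γ (c i)) = ν (b₂ * π₂ i) * γ (c i)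
    rw [map_mul, mul_assoc]
  have hb₂ : ν b₂ ≠ 0 := by
    intro h0
    have : b₂ = 0 := hinj (by rw [h0, map_zero])
    apply hb
    have h3 : ((b₂ : B) : V) = b := rfl
    rw [← h3, this]
    rfl
  have h3 : (1 : W') = ∑ i, ν (π₂ i) * γ (c i) := by
    have := (mul_eq_zero.mp h2).resolve_left hb₂
    exact sub_eq_zero.mp this
  have h4 : (1 : W') ∈ maximalIdeal W' := by
    rw [h3]
    refine Ideal.sum_mem _ (fun i _ => Ideal.mul_mem_right _ _ (hloc _ ?_))
    exact hπ i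
  exact (Ideal.ne_top_iff_one _).mp (maximalIdeal.isMaximal W').ne_top h4

end Groth.Agent.Helper22.SubtrAn
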