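import Mathlib
import Groth.Agent.S14765
import Groth.Agent.S14768
import Groth.Agent.Lib.Helper22.SubtrAn1

/-!
# Universal S-subtrusiveness can be tested on affine spaces (helper22)
-/

set_option autoImplicit false
universe u
open AlgebraicGeometry CategoryTheory CategoryTheory.Limits TensorProduct

namespace Groth.Agent.Helper22.SubtrAn

theorem exists_preimage_of_isPullback {P X Y Z : Scheme.{u}} {fst : P ⟶ X} {snd : P ⟶ Y}
    {f : X ⟶ Z} {g : Y ⟶ Z} (h : IsPullback fst snd f g) (x : X) (y : Y) (hxy : f x = g y) :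
    ∃ p : P, fst p = x ∧ snd p = y := by
  obtain ⟨z, hz1, hz2⟩ := Scheme.Pullback.exists_preimage_pullback (f := f) (g := g) x y hxy
  refine ⟨h.isoPullback.inv z, ?_, ?_⟩
  · rw [← Scheme.Hom.comp_apply, h.isoPullback_inv_fst, hz1]
  · rw [← Scheme.Hom.comp_apply, h.isoPullback_inv_snd, hz2]

/-- S-subtrusiveness of a base change passes to further base changes along preimmersions. -/
theorem isSSubtrusive_of_isPreimmersion {X Y T Z : Scheme.{u}} (f : X ⟶ Y) (p : T ⟶ Y)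
    (h : Z ⟶ T) [IsPreimmersion h] (H : Subtr.IsSSubtrusive (pullback.snd f p)) :
    Subtr.IsSSubtrusive (pullback.snd f (h ≫ p)) := by
  intro z z' hzz
  obtain ⟨x, x', hxx, hx, hx'⟩ := H (hzz.map h.continuous)
  let θ : pullback f (h ≫ p) ⟶ pullback f p :=
    pullback.lift (pullback.fst _ _) (pullback.snd _ _ ≫ h)
      (by rw [pullback.condition, Category.assoc])
  have hθ1 : θ ≫ pullback.fst f p = pullback.fst f (h ≫ p) := pullback.lift_fst _ _ _
  have hθ2 : θ ≫ pullback.snd f p = pullback.snd f (h ≫ p) ≫ h := pullback.lift_snd _ _ _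
  have hbig : IsPullback (θ ≫ pullback.fst f p) (pullback.snd f (h ≫ p)) f (h ≫ p) := by
    rw [hθ1]; exact IsPullback.of_hasPullback f (h ≫ p)
  have hsq : IsPullback θ (pullback.snd f (h ≫ p)) (pullback.snd f p) h :=
    IsPullback.of_right hbig hθ2 (IsPullback.of_hasPullback f p)
  haveI : IsPreimmersion θ :=
    MorphismProperty.of_isPullback (P := @IsPreimmersion) hsq.flip inferInstance
  obtain ⟨w, hw1, hw2⟩ := exists_preimage_of_isPullback hsq x z hx
  obtain ⟨w', hw'1, hw'2⟩ := exists_preimage_of_isPullback hsq x' z' hx'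
  refine ⟨w, w', ?_, hw2, hw'2⟩
  rw [← θ.isEmbedding.toIsInducing.specializes_iff, hw1, hw'1]
  exact hxx

theorem range_subset_of_closedPoint_mem {X : Scheme.{u}} (W' : Type u) [CommRing W']
    [IsLocalRing W'] (t : Spec (CommRingCat.of W') ⟶ X) (Ω : X.Opens)
    (h : t (IsLocalRing.closedPoint W') ∈ Ω) : Set.range t ⊆ (Ω : Set X) := by
  rintro _ ⟨z, rfl⟩
  have hz : z ⤳ (IsLocalRing.closedPoint W' : Spec (CommRingCat.of W')) :=
    IsLocalRing.specializes_closedPoint (R := W') z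
  exact (hz.map t.continuous).mem_open Ω.2 h

/-- A pair of primes of a test ring `R` over `(⊥, 𝔪_V)` gives a pair of points of the base change
to `Spec V`. -/
theorem exists_lift_pair {X Y : Scheme.{u}} (f : X ⟶ Y) {U : Y.Opens} (hU : IsAffineOpen U)
    {Ω : X.Opens} (hΩ : IsAffineOpen Ω) (e : Ω ≤ f ⁻¹ᵁ U)
    (V : Type u) [CommRing V] [IsDomain V] [IsLocalRing V]
    (φ : Γ(Y, U) ⟶ CommRingCat.of V)
    (R : Type u) [CommRing R] (iV : V →+* R) (iC : Γ(X, Ω) →+* R)
    (hcomp : iV.comp φ.hom = iC.comp (f.appLE U Ω e).hom)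
    (q₁ q₂ : Ideal R) (hq₁ : q₁.IsPrime) (hq₂ : q₂.IsPrime) (hle : q₁ ≤ q₂)
    (h1 : q₁.comap iV = ⊥) (h2 : q₂.comap iV = IsLocalRing.maximalIdeal V) :
    ∃ x x' : ↑(pullback f (Spec.map φ ≫ hU.fromSpec)), x' ⤳ x ∧
      (pullback.snd f (Spec.map φ ≫ hU.fromSpec)) x = IsLocalRing.closedPoint V ∧
      (pullback.snd f (Spec.map φ ≫ hU.fromSpec)) x' =
        (⟨⊥, Ideal.isPrime_bot⟩ : PrimeSpectrum V) := by
  have e1 : f.appLE U Ω e ≫ CommRingCat.ofHom iC = φ ≫ CommRingCat.ofHom iV := by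
    ext a
    exact (RingHom.congr_fun hcomp a).symm
  let t : Spec (CommRingCat.of R) ⟶ pullback f (Spec.map φ ≫ hU.fromSpec) :=
    pullback.lift (Spec.map (CommRingCat.ofHom iC) ≫ hΩ.fromSpec)
      (Spec.map (CommRingCat.ofHom iV)) (by
        rw [Category.assoc, ← IsAffineOpen.SpecMap_appLE_fromSpec f hU hΩ e,
          ← Category.assoc, ← Category.assoc, ← Spec.map_comp, ← Spec.map_comp, e1])
  have ht : t ≫ pullback.snd f (Spec.map φ ≫ hU.fromSpec) = Spec.map (CommRingCat.ofHom iV) :=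
    pullback.lift_snd _ _ _
  refine ⟨t ⟨q₂, hq₂⟩, t ⟨q₁, hq₁⟩, ?_, ?_, ?_⟩
  · exact ((PrimeSpectrum.le_iff_specializes (⟨q₁, hq₁⟩ : PrimeSpectrum R) ⟨q₂, hq₂⟩).1 hle).map
      t.continuous
  · rw [← Scheme.Hom.comp_apply, ht]
    exact PrimeSpectrum.ext h2
  · rw [← Scheme.Hom.comp_apply, ht]
    exact PrimeSpectrum.ext h1

end Groth.Agent.Helper22.SubtrAn
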