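import Mathlib
import Groth.Agent.Lib.Helper22.SubtrAn2

/-!
# Universal S-subtrusiveness can be tested on affine spaces, II (helper22)
-/

set_option autoImplicit false
universe u
open AlgebraicGeometry CategoryTheory CategoryTheory.Limits TensorProduct

namespace Groth.Agent.Helper22.SubtrAn

set_option maxHeartbeats 800000 in
/-- From S-subtrusiveness over all affine spaces: for a finitely generated domain `B` over the
coordinate ring of an affine open `U` of `Y` and a prime `p` of `B`, there are compatible test maps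
from `B` and from the coordinate ring of a member of a given affine cover of `f⁻¹U` to a valuation
ring, injective on `B` and local at `p`. -/
theorem exists_test_ring {X Y : Scheme.{u}} (f : X ⟶ Y)
    (H : ∀ n : ℕ, 0 < n →
      Subtr.IsSSubtrusive (pullback.snd f (AffineSpace (ULift.{u} (Fin n)) Y ↘ Y)))
    {U : Y.Opens} (hU : IsAffineOpen U) (𝒲 : Set X.affineOpens)
    (hcov : ((f ⁻¹ᵁ U : X.Opens) : Set X) = ⋃ i ∈ 𝒲, ((i : X.Opens) : Set X))
    (B : Type u) [CommRing B] [IsDomain B] (β : Γ(Y, U) ⟶ CommRingCat.of B)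
    (hβ : β.hom.FiniteType) (p : Ideal B) [hp : p.IsPrime] :
    ∃ (Ω : X.affineOpens) (_ : Ω ∈ 𝒲) (e : Ω.1 ≤ f ⁻¹ᵁ U) (W' : Type u) (_ : CommRing W')
      (_ : IsDomain W') (_ : ValuationRing W') (ν : B →+* W') (γ : Γ(X, Ω.1) →+* W'),
      ν.comp β.hom = γ.comp (f.appLE U Ω.1 e).hom ∧ Function.Injective ν ∧
      (∀ v ∈ p, ν v ∈ IsLocalRing.maximalIdeal W') := by
  classical
  letI : Algebra Γ(Y, U) B := β.hom.toAlgebra
  have hft : Algebra.FiniteType Γ(Y, U) B := hβ
  obtain ⟨n, ψ, hψ⟩ := Algebra.FiniteType.iff_quotient_mvPolynomial''.mp hft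
  -- a surjection from a polynomial ring in `n + 1` variables indexed by `ULift (Fin (n + 1))`
  let gfun : ULift.{u} (Fin (n + 1)) → B := fun i =>
    if h : i.down.val < n then ψ (MvPolynomial.X ⟨i.down.val, h⟩) else 0
  let ψ' : MvPolynomial (ULift.{u} (Fin (n + 1))) Γ(Y, U) →ₐ[Γ(Y, U)] B := MvPolynomial.aeval gfun
  have hψ' : Function.Surjective ψ' := by
    have hcompo : ψ = ψ'.comp (MvPolynomial.rename
        (fun j : Fin n => (ULift.up (Fin.castSucc j) : ULift.{u} (Fin (n + 1))))) := by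
      apply MvPolynomial.algHom_ext
      intro j
      rw [AlgHom.comp_apply, MvPolynomial.rename_X]
      change ψ (MvPolynomial.X j) = MvPolynomial.aeval gfun (MvPolynomial.X _)
      rw [MvPolynomial.aeval_X]
      have hlt : ((ULift.up (Fin.castSucc j) : ULift.{u} (Fin (n + 1))).down.val < n) := j.is_lt
      change ψ (MvPolynomial.X j) = if h : _ then _ else _
      rw [dif_pos hlt]
      rfl
    intro b
    obtain ⟨q, rfl⟩ := hψ b
    refine ⟨MvPolynomial.rename
      (fun j : Fin n => (ULift.up (Fin.castSucc j) : ULift.{u} (Fin (n + 1)))) q, ?_⟩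
    rw [hcompo]
    rfl
  let ψc : CommRingCat.of (MvPolynomial (ULift.{u} (Fin (n + 1))) Γ(Y, U)) ⟶ CommRingCat.of B :=
    CommRingCat.ofHom ψ'.toRingHom
  haveI : IsClosedImmersion (Spec.map ψc) := IsClosedImmersion.spec_of_surjective ψc hψ'
  haveI : IsOpenImmersion (AffineSpace.map (ULift.{u} (Fin (n + 1))) hU.fromSpec) :=
    MorphismProperty.of_isPullback (P := @IsOpenImmersion)
      (AffineSpace.isPullback_map hU.fromSpec).flip inferInstance
  let h : Spec (CommRingCat.of B) ⟶ AffineSpace (ULift.{u} (Fin (n + 1))) Y :=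
    Spec.map ψc ≫ (AffineSpace.SpecIso (ULift.{u} (Fin (n + 1))) Γ(Y, U)).inv ≫
      AffineSpace.map (ULift.{u} (Fin (n + 1))) hU.fromSpec
  haveI : IsPreimmersion h := inferInstance
  have hψβ : CommRingCat.ofHom MvPolynomial.C ≫ ψc = β := by
    ext a
    exact ψ'.commutes a
  have hk : h ≫ (AffineSpace (ULift.{u} (Fin (n + 1))) Y ↘ Y) = Spec.map β ≫ hU.fromSpec := by
    change (Spec.map ψc ≫ (AffineSpace.SpecIso (ULift.{u} (Fin (n + 1))) Γ(Y, U)).inv ≫
      AffineSpace.map (ULift.{u} (Fin (n + 1))) hU.fromSpec) ≫ _ = _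
    rw [Category.assoc, Category.assoc, AffineSpace.map_over,
      AffineSpace.SpecIso_inv_over_assoc, ← Category.assoc, ← Spec.map_comp, hψβ]
  have HL : Subtr.IsSSubtrusive
      (pullback.snd f (h ≫ (AffineSpace (ULift.{u} (Fin (n + 1))) Y ↘ Y))) :=
    isSSubtrusive_of_isPreimmersion f _ h (H (n + 1) (Nat.succ_pos n))
  rw [hk] at HL
  have hsp : (⟨⊥, Ideal.isPrime_bot⟩ : PrimeSpectrum B) ⤳ ⟨p, hp⟩ :=
    (PrimeSpectrum.le_iff_specializes _ _).1 bot_le
  obtain ⟨x, x', hxx, hx, hx'⟩ := HL hsp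
  obtain ⟨W', _, _, _, t, ht1, ht2⟩ := Groth.Agent.S14768.exists_valuationRing_of_specializes hxx
  -- the map from `B`
  let νc : CommRingCat.of B ⟶ CommRingCat.of W' :=
    Spec.preimage (t ≫ pullback.snd f (Spec.map β ≫ hU.fromSpec))
  have hνc : Spec.map νc = t ≫ pullback.snd f (Spec.map β ≫ hU.fromSpec) := Spec.map_preimage _
  have hν1 : Ideal.comap νc.hom ⊥ = ⊥ := by
    have : (Spec.map νc) (⟨⊥, Ideal.isPrime_bot⟩ : PrimeSpectrum W') =
        (⟨⊥, Ideal.isPrime_bot⟩ : PrimeSpectrum B) := by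
      rw [hνc, Scheme.Hom.comp_apply, ht2, hx']
    exact congrArg PrimeSpectrum.asIdeal this
  have hν2 : Ideal.comap νc.hom (IsLocalRing.maximalIdeal W') = p := by
    have : (Spec.map νc) (IsLocalRing.closedPoint W') = (⟨p, hp⟩ : PrimeSpectrum B) := by
      rw [hνc, Scheme.Hom.comp_apply, ht1, hx]
    exact congrArg PrimeSpectrum.asIdeal this
  have hνinj : Function.Injective νc.hom := by
    rw [RingHom.injective_iff_ker_eq_bot, RingHom.ker_eq_comap_bot]; exact hν1
  -- the member of the cover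
  have hfx : f (pullback.fst f (Spec.map β ≫ hU.fromSpec) x) ∈ (U : Set Y) := by
    rw [← Scheme.Hom.comp_apply, pullback.condition, Scheme.Hom.comp_apply, hx,
      Scheme.Hom.comp_apply, ← hU.range_fromSpec]
    exact Set.mem_range_self _
  have hmem : pullback.fst f (Spec.map β ≫ hU.fromSpec) x ∈ ((f ⁻¹ᵁ U : X.Opens) : Set X) := hfx
  rw [hcov] at hmem
  obtain ⟨Ω, hΩ, hxΩ⟩ := Set.mem_iUnion₂.mp hmem
  have e : Ω.1 ≤ f ⁻¹ᵁ U := by
    intro z hz
    have h1 : z ∈ ⋃ i ∈ 𝒲, ((i : X.Opens) : Set X) := Set.mem_biUnion hΩ hz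
    rw [← hcov] at h1
    exact h1
  have hrange : Set.range (t ≫ pullback.fst f (Spec.map β ≫ hU.fromSpec)) ⊆
      Set.range Ω.2.fromSpec := by
    rw [Ω.2.range_fromSpec]
    apply range_subset_of_closedPoint_mem W' _ Ω.1
    rw [Scheme.Hom.comp_apply, ht1]
    exact hxΩ
  let t₀ := IsOpenImmersion.lift Ω.2.fromSpec
    (t ≫ pullback.fst f (Spec.map β ≫ hU.fromSpec)) hrange
  have ht₀ : t₀ ≫ Ω.2.fromSpec = t ≫ pullback.fst f (Spec.map β ≫ hU.fromSpec) :=
    IsOpenImmersion.lift_fac _ _ _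
  let γc : Γ(X, Ω.1) ⟶ CommRingCat.of W' := Spec.preimage t₀
  have hγc : Spec.map γc = t₀ := Spec.map_preimage _
  refine ⟨Ω, hΩ, e, W', inferInstance, inferInstance, inferInstance, νc.hom, γc.hom, ?_, hνinj, ?_⟩
  · have h1 : Spec.map (β ≫ νc) ≫ hU.fromSpec =
        Spec.map (f.appLE U Ω.1 e ≫ γc) ≫ hU.fromSpec := by
      calc Spec.map (β ≫ νc) ≫ hU.fromSpec
          = Spec.map νc ≫ (Spec.map β ≫ hU.fromSpec) := by
            rw [Spec.map_comp, Category.assoc]
        _ = t ≫ (pullback.snd f (Spec.map β ≫ hU.fromSpec) ≫ (Spec.map β ≫ hU.fromSpec)) := by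
            rw [hνc, Category.assoc]
        _ = t ≫ (pullback.fst f (Spec.map β ≫ hU.fromSpec) ≫ f) := by
            rw [pullback.condition]
        _ = (t₀ ≫ Ω.2.fromSpec) ≫ f := by rw [ht₀, Category.assoc]
        _ = t₀ ≫ (Spec.map (f.appLE U Ω.1 e) ≫ hU.fromSpec) := by
            rw [Category.assoc, IsAffineOpen.SpecMap_appLE_fromSpec f hU Ω.2 e]
        _ = Spec.map (f.appLE U Ω.1 e ≫ γc) ≫ hU.fromSpec := by
            rw [Spec.map_comp, Category.assoc, hγc]
    have h2 : β ≫ νc = f.appLE U Ω.1 e ≫ γc :=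
      Spec.map_injective ((cancel_mono hU.fromSpec).mp h1)
    have h3 := congrArg (fun ψ => ψ.hom) h2
    simpa using h3
  · intro v hv
    have h1 : v ∈ Ideal.comap νc.hom (IsLocalRing.maximalIdeal W') := by rw [hν2]; exact hv
    exact h1

end Groth.Agent.Helper22.SubtrAn
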