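import Mathlib
import Groth.Agent.Lib.Helper22.SubtrAn3

/-!
# Universal S-subtrusiveness can be tested on affine spaces, III (helper22)
-/

set_option autoImplicit false
universe u
open AlgebraicGeometry CategoryTheory CategoryTheory.Limits TensorProduct

namespace Groth.Agent.Helper22.SubtrAn

set_option maxHeartbeats 800000 in
theorem exists_pair_of_affine {X Y : Scheme.{u}} (f : X ⟶ Y) [QuasiCompact f]
    (H : ∀ n : ℕ, 0 < n →
      Subtr.IsSSubtrusive (pullback.snd f (AffineSpace (ULift.{u} (Fin n)) Y ↘ Y)))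
    {U : Y.Opens} (hU : IsAffineOpen U)
    (V : Type u) [CommRing V] [IsDomain V] [ValuationRing V]
    (φ : Γ(Y, U) ⟶ CommRingCat.of V) :
    ∃ x x' : ↑(pullback f (Spec.map φ ≫ hU.fromSpec)), x' ⤳ x ∧
      (pullback.snd f (Spec.map φ ≫ hU.fromSpec)) x = IsLocalRing.closedPoint V ∧
      (pullback.snd f (Spec.map φ ≫ hU.fromSpec)) x' =
        (⟨⊥, Ideal.isPrime_bot⟩ : PrimeSpectrum V) := by
  classical
  by_contra hno
  letI : Algebra Γ(Y, U) V := φ.hom.toAlgebra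
  -- a finite affine cover of `f⁻¹ U`
  have hcomp : IsCompact ((f ⁻¹ᵁ U : X.Opens) : Set X) :=
    QuasiCompact.isCompact_preimage (f := f) (U : Set Y) U.2 hU.isCompact
  obtain ⟨𝒲, h𝒲fin, hcov⟩ :=
    isCompact_and_isOpen_iff_finite_and_eq_biUnion_affineOpens.mp ⟨hcomp, (f ⁻¹ᵁ U).2⟩
  have hle : ∀ Ω ∈ 𝒲, (Ω : X.Opens) ≤ f ⁻¹ᵁ U := by
    intro Ω hΩ z hz
    have h1 : z ∈ ⋃ i ∈ 𝒲, ((i : X.Opens) : Set X) := Set.mem_biUnion hΩ hz
    rw [← hcov] at h1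
    exact h1
  have key : ∀ Ω ∈ 𝒲, ∃ B : Subalgebra Γ(Y, U) V, B.FG ∧
      ∀ (e : Ω.1 ≤ f ⁻¹ᵁ U) (W' : Type u) [CommRing W'] [IsDomain W'] [IsLocalRing W']
        (ν : B →+* W') (γ : Γ(X, Ω.1) →+* W'),
        ν.comp (algebraMap Γ(Y, U) B) = γ.comp (f.appLE U Ω.1 e).hom → Function.Injective ν →
        (∀ v : B, (v : V) ∈ IsLocalRing.maximalIdeal V → ν v ∈ IsLocalRing.maximalIdeal W') →
        False := by
    intro Ω hΩ
    have e := hle Ω hΩ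
    letI : Algebra Γ(Y, U) Γ(X, Ω.1) := (f.appLE U Ω.1 e).hom.toAlgebra
    have hnoq : ¬ ∃ q₁ q₂ : Ideal (V ⊗[Γ(Y, U)] Γ(X, Ω.1)), q₁.IsPrime ∧ q₂.IsPrime ∧ q₁ ≤ q₂ ∧
        q₁.comap (algebraMap V (V ⊗[Γ(Y, U)] Γ(X, Ω.1))) = ⊥ ∧
        q₂.comap (algebraMap V (V ⊗[Γ(Y, U)] Γ(X, Ω.1))) = IsLocalRing.maximalIdeal V := by
      rintro ⟨q₁, q₂, hq₁, hq₂, hle', h1, h2⟩
      apply hno
      refine exists_lift_pair f hU Ω.2 e V φ (V ⊗[Γ(Y, U)] Γ(X, Ω.1))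
        (algebraMap V (V ⊗[Γ(Y, U)] Γ(X, Ω.1)))
        (Algebra.TensorProduct.includeRight : Γ(X, Ω.1) →ₐ[Γ(Y, U)] V ⊗[Γ(Y, U)] Γ(X, Ω.1)).toRingHom
        ?_ q₁ q₂ hq₁ hq₂ hle' h1 h2
      ext a
      change algebraMap V (V ⊗[Γ(Y, U)] Γ(X, Ω.1)) (algebraMap Γ(Y, U) V a) =
        (1 : V) ⊗ₜ[Γ(Y, U)] (algebraMap Γ(Y, U) Γ(X, Ω.1) a)
      rw [Algebra.TensorProduct.algebraMap_apply, Algebra.algebraMap_self_apply,
        Algebra.algebraMap_eq_smul_one, Algebra.algebraMap_eq_smul_one (A := Γ(X, Ω.1)),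
        TensorProduct.smul_tmul]
    obtain ⟨B, hBfg, hB⟩ :=
      exists_fg_obstruction Γ(Y, U) V Γ(X, Ω.1) hnoq
    exact ⟨B, hBfg, fun e' W' _ _ _ ν γ h1 h2 h3 => hB W' ν γ h1 h2 h3⟩
  choose! Bf hBfg hBobs using key
  have hgen : ∀ Ω ∈ 𝒲, ∃ s : Set V, s.Finite ∧ Algebra.adjoin Γ(Y, U) s = Bf Ω :=
    fun Ω hΩ => Subalgebra.fg_def.mp (hBfg Ω hΩ)
  choose! s hsfin hs using hgen
  set Bt : Subalgebra Γ(Y, U) V := Algebra.adjoin Γ(Y, U) (⋃ Ω ∈ 𝒲, s Ω) with hBt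
  have hBtfg : Bt.FG := Subalgebra.fg_def.mpr ⟨_, h𝒲fin.biUnion (fun Ω hΩ => hsfin Ω hΩ), rfl⟩
  have hBle : ∀ Ω ∈ 𝒲, Bf Ω ≤ Bt := by
    intro Ω hΩ
    rw [← hs Ω hΩ]
    exact Algebra.adjoin_mono (Set.subset_biUnion_of_mem hΩ)
  have hβ : (CommRingCat.ofHom (algebraMap Γ(Y, U) Bt)).hom.FiniteType :=
    RingHom.finiteType_algebraMap.mpr ((Subalgebra.fg_iff_finiteType Bt).mp hBtfg)
  obtain ⟨Ω, hΩ, e, W', _, _, _, ν, γ, hc, hinj, hloc⟩ :=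
    exists_test_ring f H hU 𝒲 hcov Bt (CommRingCat.ofHom (algebraMap Γ(Y, U) Bt)) hβ
      ((IsLocalRing.maximalIdeal V).comap (algebraMap Bt V))
  refine hBobs Ω hΩ e W' (ν.comp (Subalgebra.inclusion (hBle Ω hΩ)).toRingHom) γ ?_ ?_ ?_
  · ext a
    have h1 := RingHom.congr_fun hc a
    simp only [RingHom.comp_apply] at h1 ⊢
    rw [← h1]
    rfl
  · exact hinj.comp (Subalgebra.inclusion_injective _)
  · intro v hv
    exact hloc _ hv

/-- **Universal S-subtrusiveness can be tested on affine spaces** (quasi-compact case). -/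
theorem univSSubtrusive_of_affineSpace {X Y : Scheme.{u}} (f : X ⟶ Y) [QuasiCompact f]
    (H : ∀ n : ℕ, 0 < n →
      Subtr.IsSSubtrusive (pullback.snd f (AffineSpace (ULift.{u} (Fin n)) Y ↘ Y))) :
    Subtr.UnivSSubtrusive f := by
  rw [Groth.Agent.S14768.result]
  intro V _ _ _ g
  refine ((Groth.Agent.S14765.result V (pullback.snd f g)).out 1 3).mpr ?_
  obtain ⟨_, ⟨U, hU, rfl⟩, hy₀U, -⟩ := Y.isBasis_affineOpens.exists_subset_of_mem_open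
    (Set.mem_univ (g (IsLocalRing.closedPoint V))) isOpen_univ
  have hex : ∃ φ : Γ(Y, U) ⟶ CommRingCat.of V, g = Spec.map φ ≫ hU.fromSpec := by
    have hrange : Set.range g ⊆ Set.range hU.fromSpec := by
      rw [hU.range_fromSpec]
      exact range_subset_of_closedPoint_mem V g U hy₀U
    refine ⟨Spec.preimage (IsOpenImmersion.lift hU.fromSpec g hrange), ?_⟩
    rw [Spec.map_preimage, IsOpenImmersion.lift_fac]
  obtain ⟨φ, rfl⟩ := hex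
  exact exists_pair_of_affine f H hU V φ

end Groth.Agent.Helper22.SubtrAn
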