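import Mathlib
import Groth.Prelude.Def_W4c2submetdescSubtr
import Groth.Agent.Lib.Helper5.ProConsOpenAt
import Groth.Agent.Lib.Helper7.ProCons2
import Groth.Agent.S14769

/-!
# Helper22: chains of specializations lift along universally S-subtrusive morphisms;
locally closed retrocompact subsets descend.
-/

set_option autoImplicit false
universe u
open CategoryTheory CategoryTheory.Limits AlgebraicGeometry

namespace Groth.Agent.Helper22.SubtrLC

section Extend

variable {V₂ : Type u} [CommRing V₂] [IsDomain V₂] [ValuationRing V₂]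

/-- the composite valuation ring: elements of `V₂` whose residue lies in `V₁` -/
def comp (V₁ : ValuationSubring (IsLocalRing.ResidueField V₂)) : Subring V₂ :=
  V₁.toSubring.comap (IsLocalRing.residue V₂)

lemma mem_comp {V₁ : ValuationSubring (IsLocalRing.ResidueField V₂)} {x : V₂} :
    x ∈ comp V₁ ↔ IsLocalRing.residue V₂ x ∈ V₁ := Iff.rfl

lemma mem_comp_or_inv (V₁ : ValuationSubring (IsLocalRing.ResidueField V₂)) (c : V₂) :
    c ∈ comp V₁ ∨ ∃ c' : V₂, c' ∈ comp V₁ ∧ c * c' = 1 := by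
  by_cases hcV : c ∈ comp V₁
  · exact Or.inl hcV
  · right
    have hne : IsLocalRing.residue V₂ c ≠ 0 := by
      intro h0
      apply hcV
      rw [mem_comp, h0]
      exact zero_mem _
    have hunit : IsUnit c := by
      by_contra hnu
      exact hne ((IsLocalRing.residue_eq_zero_iff c).mpr
        ((IsLocalRing.mem_maximalIdeal c).mpr (mem_nonunits_iff.mpr hnu)))
    obtain ⟨u, rfl⟩ := hunit
    refine ⟨((u⁻¹ : V₂ˣ) : V₂), ?_, u.mul_inv⟩
    rw [mem_comp]
    have h1 : IsLocalRing.residue V₂ ((u⁻¹ : V₂ˣ) : V₂) =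
        (IsLocalRing.residue V₂ (u : V₂))⁻¹ := by
      apply eq_inv_of_mul_eq_one_left
      rw [← map_mul, Units.inv_mul, map_one]
    rw [h1]
    rcases V₁.mem_or_inv_mem (IsLocalRing.residue V₂ (u : V₂)) with h | h
    · exact absurd (mem_comp.mpr h) hcV
    · exact h

instance instValuationRingComp (V₁ : ValuationSubring (IsLocalRing.ResidueField V₂)) :
    ValuationRing ↥(comp V₁) := by
  refine { cond' := ?_ }
  intro x y
  obtain ⟨c, hc⟩ := ValuationRing.cond (x : V₂) (y : V₂)
  rcases hc with hc | hc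
  · rcases mem_comp_or_inv V₁ c with hcV | ⟨c', hc', hcc'⟩
    · exact ⟨⟨c, hcV⟩, Or.inl (Subtype.ext hc)⟩
    · refine ⟨⟨c', hc'⟩, Or.inr (Subtype.ext ?_)⟩
      change (y : V₂) * c' = x
      rw [← hc, mul_assoc, hcc', mul_one]
  · rcases mem_comp_or_inv V₁ c with hcV | ⟨c', hc', hcc'⟩
    · exact ⟨⟨c, hcV⟩, Or.inr (Subtype.ext hc)⟩
    · refine ⟨⟨c', hc'⟩, Or.inl (Subtype.ext ?_)⟩
      change (x : V₂) * c' = y
      rw [← hc, mul_assoc, hcc', mul_one]

/-- Extending a valuation-ring point by a further specialization of its closed point. -/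
theorem exists_extend {S : Scheme.{u}} (V₂ : Type u) [CommRing V₂] [IsDomain V₂] [ValuationRing V₂]
    (g₂ : Spec (CommRingCat.of V₂) ⟶ S) {y : S}
    (h : g₂ (IsLocalRing.closedPoint (CommRingCat.of V₂)) ⤳ y) :
    ∃ (V : Type u) (_ : CommRing V) (_ : IsDomain V) (_ : ValuationRing V)
      (g : Spec (CommRingCat.of V) ⟶ S)
      (ι : Spec (CommRingCat.of V₂) ⟶ Spec (CommRingCat.of V)),
      ι ≫ g = g₂ ∧ g (IsLocalRing.closedPoint V) = y := by
  let θ : S.presheaf.stalk (g₂ (IsLocalRing.closedPoint (CommRingCat.of V₂))) ⟶ CommRingCat.of V₂ :=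
    Scheme.stalkClosedPointTo g₂
  let σ : S.presheaf.stalk y ⟶ S.presheaf.stalk (g₂ (IsLocalRing.closedPoint (CommRingCat.of V₂))) :=
    S.presheaf.stalkSpecializes h
  let χ : S.presheaf.stalk y ⟶ CommRingCat.of V₂ := σ ≫ θ
  let ρ : V₂ →+* IsLocalRing.ResidueField V₂ := IsLocalRing.residue V₂
  let φ : S.presheaf.stalk y →+* IsLocalRing.ResidueField V₂ := ρ.comp χ.hom
  obtain ⟨V₁, hV₁, hloc⟩ := IsLocalRing.exists_factor_valuationRing φ
  have hχV : ∀ x, χ.hom x ∈ comp V₁ := fun x => hV₁ x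
  let ψ' : S.presheaf.stalk y →+* ↥(comp V₁) := χ.hom.codRestrict (comp V₁) hχV
  let ψ : S.presheaf.stalk y ⟶ CommRingCat.of ↥(comp V₁) := CommRingCat.ofHom ψ'
  let ιr : CommRingCat.of ↥(comp V₁) ⟶ CommRingCat.of V₂ := CommRingCat.ofHom (comp V₁).subtype
  have hψι : ψ ≫ ιr = χ := by ext x; rfl
  let rbar : ↥(comp V₁) →+* ↥V₁.toSubring :=
    (ρ.comp (comp V₁).subtype).codRestrict V₁.toSubring (fun x => x.2)
  have hlocψ : IsLocalHom ψ' := by
    constructor
    intro x hx
    have h1 : IsUnit (rbar (ψ' x)) := hx.map rbar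
    have h2 : rbar (ψ' x) = (φ.codRestrict V₁.toSubring hV₁) x := Subtype.ext rfl
    rw [h2] at h1
    exact hloc.map_nonunit x h1
  refine ⟨↥(comp V₁), inferInstance, inferInstance, inferInstance,
    Spec.map ψ ≫ S.fromSpecStalk y, Spec.map ιr, ?_, ?_⟩
  · rw [← Category.assoc, ← Spec.map_comp, hψι]
    change Spec.map (σ ≫ θ) ≫ _ = _
    rw [Spec.map_comp, Category.assoc, Scheme.SpecMap_stalkSpecializes_fromSpecStalk]
    exact Scheme.Spec_stalkClosedPointTo_fromSpecStalk g₂
  · rw [Scheme.Hom.comp_apply]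
    have h1 : Spec.map ψ (IsLocalRing.closedPoint ↥(comp V₁)) =
        IsLocalRing.closedPoint (S.presheaf.stalk y) :=
      IsLocalRing.comap_closedPoint (S := ↥(comp V₁)) ψ'
    rw [h1, Scheme.fromSpecStalk_closedPoint]

end Extend

/-- Chains of specializations of length two lift along universally S-subtrusive morphisms. -/
theorem exists_chain_lift {S' S : Scheme.{u}} (f : S' ⟶ S) (hf : Subtr.UnivSSubtrusive f)
    {e a y : S} (h₁ : e ⤳ a) (h₂ : a ⤳ y) :
    ∃ e' a' y' : S', e' ⤳ a' ∧ a' ⤳ y' ∧ f e' = e ∧ f a' = a ∧ f y' = y := by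
  obtain ⟨V₂, _, _, _, g₂, hg1, hg2⟩ :=
    Groth.Agent.S14768.exists_valuationRing_of_specializes h₁
  have h₂' : g₂ (IsLocalRing.closedPoint (CommRingCat.of V₂)) ⤳ y := by
    have : g₂ (IsLocalRing.closedPoint (CommRingCat.of V₂)) = a := hg1
    rw [this]; exact h₂
  obtain ⟨V, _, _, _, g, ι, hι, hgy⟩ := exists_extend V₂ g₂ h₂'
  obtain ⟨V', _, _, _, α, b, hb, hαb⟩ := (Groth.Agent.S14769.result f).mp hf V g
  let P₀ : Spec (CommRingCat.of V) := ι (⟨⊥, Ideal.isPrime_bot⟩ : PrimeSpectrum V₂)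
  let P₁ : Spec (CommRingCat.of V) := ι (IsLocalRing.closedPoint V₂)
  let P₂ : Spec (CommRingCat.of V) := IsLocalRing.closedPoint V
  have hP01 : P₀ ⤳ P₁ :=
    ((PrimeSpectrum.le_iff_specializes (⟨⊥, Ideal.isPrime_bot⟩ : PrimeSpectrum V₂)
      (IsLocalRing.closedPoint V₂)).1 bot_le).map ι.continuous
  have hP12 : P₁ ⤳ P₂ := IsLocalRing.specializes_closedPoint (R := V) P₁
  have hgP0 : g P₀ = e := by
    change g (ι _) = e
    rw [← Scheme.Hom.comp_apply, hι, hg2]
  have hgP1 : g P₁ = a := by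
    change g (ι _) = a
    rw [← Scheme.Hom.comp_apply, hι, hg1]
  have lift : ∀ (P P' : Spec (CommRingCat.of V)) (Q' : Spec (CommRingCat.of V')),
      P ⤳ P' → b Q' = P' → ∃ Q : Spec (CommRingCat.of V'), Q ⤳ Q' ∧ b Q = P := by
    intro P P' Q' hPP' hQ'
    obtain ⟨Q₀, hQ₀⟩ := hb.surj P
    let q₀ : PrimeSpectrum V' := Q₀
    let q' : PrimeSpectrum V' := Q'
    rcases (ValuationRing.le_total_ideal V').total q₀.asIdeal q'.asIdeal with hle | hle
    · exact ⟨Q₀, (PrimeSpectrum.le_iff_specializes q₀ q').1 hle, hQ₀⟩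
    · have h3 : Q' ⤳ Q₀ := (PrimeSpectrum.le_iff_specializes q' q₀).1 hle
      have h4 : P' ⤳ P := by
        have := h3.map b.continuous
        rwa [hQ', hQ₀] at this
      have h5 : P = P' := (hPP'.antisymm h4).eq
      exact ⟨Q', specializes_rfl, by rw [hQ', h5]⟩
  obtain ⟨Q₂, hQ₂⟩ := hb.surj P₂
  obtain ⟨Q₁, hQ12, hQ₁⟩ := lift P₁ P₂ Q₂ hP12 hQ₂
  obtain ⟨Q₀, hQ01, hQ₀⟩ := lift P₀ P₁ Q₁ hP01 hQ₁
  refine ⟨α Q₀, α Q₁, α Q₂, hQ01.map α.continuous, hQ12.map α.continuous, ?_, ?_, ?_⟩
  · rw [← Scheme.Hom.comp_apply, hαb, Scheme.Hom.comp_apply, hQ₀, hgP0]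
  · rw [← Scheme.Hom.comp_apply, hαb, Scheme.Hom.comp_apply, hQ₁, hgP1]
  · rw [← Scheme.Hom.comp_apply, hαb, Scheme.Hom.comp_apply, hQ₂]
    exact hgy

/-- A locally closed retrocompact subset is the range of a quasi-compact immersion. -/
theorem exists_immersion_of_isLocallyClosed {S : Scheme.{u}} {E : Set S}
    (hE : IsLocallyClosed E) (hrc : IsRetrocompact E) :
    ∃ (Z : Scheme.{u}) (j : Z ⟶ S), IsImmersion j ∧ QuasiCompact j ∧ Set.range j = E := by
  obtain ⟨U, C, hU, hC, rfl⟩ := hE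
  let I := Scheme.IdealSheafData.vanishingIdeal (⟨C, hC⟩ : TopologicalSpace.Closeds S)
  let ι : I.subscheme ⟶ S := I.subschemeι
  let W : I.subscheme.Opens := ι ⁻¹ᵁ ⟨U, hU⟩
  let j : (W : Scheme.{u}) ⟶ S := W.ι ≫ ι
  have hrange : Set.range j = U ∩ C := by
    have hcomp : (j : W.toScheme → S) = ι ∘ W.ι := by
      funext x; rfl
    rw [hcomp, Set.range_comp, Scheme.Opens.range_ι]
    change ι '' (ι ⁻¹' U) = U ∩ C
    rw [Set.image_preimage_eq_inter_range, Scheme.IdealSheafData.range_subschemeι,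
      Scheme.IdealSheafData.coe_support_vanishingIdeal]
    rfl
  have hqc : QuasiCompact j := by
    constructor
    intro K hKo hKc
    have hemb : Topology.IsEmbedding j := j.isEmbedding
    have h1 : j ⁻¹' K = j ⁻¹' (K ∩ Set.range j) := by
      ext x; simp
    rw [h1]
    apply hemb.toIsInducing.isCompact_preimage' _ Set.inter_subset_right
    rw [hrange, Set.inter_comm]
    exact hrc hKc hKo
  exact ⟨W, j, inferInstance, hqc, hrange⟩

theorem isRetrocompact_range {Z S : Scheme.{u}} (j : Z ⟶ S) [QuasiCompact j] :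
    IsRetrocompact (Set.range j) := by
  intro K hKc hKo
  have h1 : Set.range j ∩ K = j '' (j ⁻¹' K) := by
    rw [Set.image_preimage_eq_inter_range, Set.inter_comm]
  rw [h1]
  exact (QuasiCompact.isCompact_preimage K hKo hKc).image j.continuous

theorem isProConstructible_univ {X : Scheme.{u}} :
    ProCons.IsProConstructible (Set.univ : Set X) := by
  intro x
  exact ⟨Set.univ, isOpen_univ, trivial, ∅, by simp, by simp⟩

theorem isProConstructible_of_isLocallyClosed {S : Scheme.{u}} {E : Set S}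
    (hE : IsLocallyClosed E) (hrc : IsRetrocompact E) : ProCons.IsProConstructible E := by
  obtain ⟨Z, j, _, _, rfl⟩ := exists_immersion_of_isLocallyClosed hE hrc
  rw [← Set.image_univ]
  exact Groth.Agent.Helper5.PC.isProConstructible_image j isProConstructible_univ

theorem isProConstructible_of_isClosed {X : Scheme.{u}} {K : Set X} (hK : IsClosed K) :
    ProCons.IsProConstructible K := by
  rw [Groth.Agent.Helper5.PC.isProConstructible_iff]
  intro V hV
  have h := (Groth.Agent.Helper5.PC.isIndConstructible_iff.mp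
    (Groth.Agent.Helper5.PC.isIndConstructible_of_isOpen hK.isOpen_compl)) V hV
  rwa [Set.preimage_compl] at h

/-- Locally closed retrocompact subsets descend along quasi-compact universally S-subtrusive
morphisms. -/
theorem main {S' S : Scheme.{u}} (f : S' ⟶ S) [QuasiCompact f]
    (hf : Subtr.UnivSSubtrusive f) (E : Set S) :
    (IsLocallyClosed E ∧ IsRetrocompact E) ↔
      (IsLocallyClosed (f ⁻¹' E) ∧ IsRetrocompact (f ⁻¹' E)) := by
  have hS : Subtr.IsSSubtrusive f := hf (𝟙 _) (𝟙 _) f (IsPullback.id_vert f)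
  have hsurj : Function.Surjective f := by
    intro y
    obtain ⟨x, _, _, hx, _⟩ := hS (specializes_rfl : y ⤳ y)
    exact ⟨x, hx⟩
  constructor
  · rintro ⟨hlc, hrc⟩
    refine ⟨hlc.preimage f.continuous, ?_⟩
    obtain ⟨Z, j, _, _, rfl⟩ := exists_immersion_of_isLocallyClosed hlc hrc
    rw [← Scheme.Pullback.range_snd j f]
    exact isRetrocompact_range (pullback.snd j f)
  · rintro ⟨hlc, hrc⟩
    have himg : f '' (f ⁻¹' E) = E := Set.image_preimage_eq E hsurj
    constructor
    swap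
    · intro K hKc hKo
      have h1 : E ∩ K = f '' (f ⁻¹' E ∩ f ⁻¹' K) := by
        rw [← Set.preimage_inter, Set.image_preimage_eq _ hsurj]
      rw [h1]
      exact (hrc (QuasiCompact.isCompact_preimage K hKo hKc)
        (hKo.preimage f.continuous)).image f.continuous
    · have hLpro := isProConstructible_of_isLocallyClosed hlc hrc
      have hEpro : ProCons.IsProConstructible E := by
        rw [← himg]; exact Groth.Agent.Helper5.PC.isProConstructible_image f hLpro
      have hEcc := Groth.Agent.Helper7.ProCons2.CC.of_isProConstructible hEpro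
      obtain ⟨U', Z₀, hU', hZ₀, hLeq⟩ := hlc
      have hLeq' : f ⁻¹' E = U' ∩ closure (f ⁻¹' E) := by
        apply Set.Subset.antisymm
        · intro x hx
          have hx' : x ∈ U' ∩ Z₀ := by rw [← hLeq]; exact hx
          exact ⟨hx'.1, subset_closure hx⟩
        · rintro x ⟨hxU, hxC⟩
          have h1 : f ⁻¹' E ⊆ Z₀ := by rw [hLeq]; exact Set.inter_subset_right
          rw [hLeq]
          exact ⟨hxU, closure_minimal h1 hZ₀ hxC⟩
      have hKcl : IsClosed (closure (f ⁻¹' E) ∩ U'ᶜ) := isClosed_closure.inter hU'.isClosed_compl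
      have hKL : ∀ x, x ∈ closure (f ⁻¹' E) ∩ U'ᶜ ↔ x ∈ closure (f ⁻¹' E) ∧ x ∉ f ⁻¹' E := by
        intro x
        constructor
        · rintro ⟨h1, h2⟩
          refine ⟨h1, fun hx => h2 ?_⟩
          rw [hLeq'] at hx; exact hx.1
        · rintro ⟨h1, h2⟩
          refine ⟨h1, fun hxU => h2 ?_⟩
          rw [hLeq']; exact ⟨hxU, h1⟩
      have hB1 : f '' (closure (f ⁻¹' E) ∩ U'ᶜ) = closure E \ E := by
        apply Set.Subset.antisymm
        · rintro _ ⟨x, hxK, rfl⟩
          obtain ⟨h1, h2⟩ := (hKL x).mp hxK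
          refine ⟨?_, h2⟩
          have h3 : f x ∈ closure (f '' (f ⁻¹' E)) :=
            image_closure_subset_closure_image f.continuous ⟨x, h1, rfl⟩
          rwa [himg] at h3
        · rintro y ⟨hy1, hy2⟩
          obtain ⟨e, heE, hspec⟩ :=
            Groth.Agent.Helper7.ProCons2.exists_specializes_of_mem_closure hEcc hy1
          obtain ⟨x, x', hxx', hx, hx'⟩ := hS hspec
          refine ⟨x, (hKL x).mpr ⟨?_, ?_⟩, hx⟩
          · have hx'L : x' ∈ f ⁻¹' E := by
              change f x' ∈ E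
              rw [hx']; exact heE
            exact hxx'.mem_closed isClosed_closure (subset_closure hx'L)
          · change ¬ f x ∈ E
            rw [hx]; exact hy2
      have hBcl : IsClosed (f '' (closure (f ⁻¹' E) ∩ U'ᶜ)) := by
        have hBpro : ProCons.IsProConstructible (f '' (closure (f ⁻¹' E) ∩ U'ᶜ)) :=
          Groth.Agent.Helper5.PC.isProConstructible_image f (isProConstructible_of_isClosed hKcl)
        have hBcc := Groth.Agent.Helper7.ProCons2.CC.of_isProConstructible hBpro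
        rw [← closure_subset_iff_isClosed]
        intro y hy
        obtain ⟨b, hbB, hby⟩ :=
          Groth.Agent.Helper7.ProCons2.exists_specializes_of_mem_closure hBcc hy
        have hb' : b ∈ closure E \ E := by rw [← hB1]; exact hbB
        obtain ⟨e, heE, heb⟩ :=
          Groth.Agent.Helper7.ProCons2.exists_specializes_of_mem_closure hEcc hb'.1
        obtain ⟨e', b', y', he'b', hb'y', hfe, hfb, hfy⟩ := exists_chain_lift f hf heb hby
        have he'L : e' ∈ f ⁻¹' E := by
          change f e' ∈ E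
          rw [hfe]; exact heE
        have hb'C : b' ∈ closure (f ⁻¹' E) :=
          he'b'.mem_closed isClosed_closure (subset_closure he'L)
        have hb'nL : b' ∉ f ⁻¹' E := by
          change ¬ f b' ∈ E
          rw [hfb]; exact hb'.2
        have hb'K : b' ∈ closure (f ⁻¹' E) ∩ U'ᶜ := (hKL b').mpr ⟨hb'C, hb'nL⟩
        have hy'K : y' ∈ closure (f ⁻¹' E) ∩ U'ᶜ := hb'y'.mem_closed hKcl hb'K
        exact ⟨y', hy'K, hfy⟩
      have hfin : E = closure E ∩ (f '' (closure (f ⁻¹' E) ∩ U'ᶜ))ᶜ := by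
        rw [hB1]
        ext y
        constructor
        · intro hy; exact ⟨subset_closure hy, fun h => h.2 hy⟩
        · rintro ⟨h1, h2⟩
          by_contra hy
          exact h2 ⟨h1, hy⟩
      rw [hfin]
      exact isClosed_closure.isLocallyClosed.inter hBcl.isOpen_compl.isLocallyClosed

end Groth.Agent.Helper22.SubtrLC
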