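import Mathlib
import Groth.Agent.Lib.Helper22.SubtrAn4
import Groth.Agent.Lib.Helper22.SubtrLC
import Groth.Agent.Lib.Helper22.SubmSpec
import Groth.Agent.S14788
import Groth.Agent.S14766

/-!
# Universally submersive = universally S-subtrusive over locally Noetherian bases (helper22)
-/

set_option autoImplicit false
universe u
open AlgebraicGeometry CategoryTheory CategoryTheory.Limits

namespace Groth.Agent.Helper22.SubtrNoeth

/-- A quasi-compact S-subtrusive morphism is submersive. -/
theorem isQuotientMap_of_isSSubtrusive {X Y : Scheme.{u}} (f : X ⟶ Y) [QuasiCompact f]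
    (hf : Subtr.IsSSubtrusive f) : Topology.IsQuotientMap f := by
  have hsurj : Function.Surjective f := by
    intro y
    obtain ⟨x, -, -, hx, -⟩ := hf (specializes_refl y)
    exact ⟨x, hx⟩
  rw [Topology.isQuotientMap_iff_isClosed]
  refine ⟨hsurj, fun Z => ⟨fun hZ => hZ.preimage f.continuous, fun hZ => ?_⟩⟩
  have hpc : ProCons.IsProConstructible Z := by
    rw [← hsurj.image_preimage Z]
    exact Groth.Agent.Helper5.PC.isProConstructible_image f
      (Groth.Agent.Helper22.SubtrLC.isProConstructible_of_isClosed hZ)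
  have h1 := (Groth.Agent.S14788.result f).mp hf Z hpc
  rw [hZ.closure_eq, hsurj.image_preimage] at h1
  have h2 : IsClosed (closure Z) := isClosed_closure
  rwa [← h1] at h2

/-- A quasi-compact universally S-subtrusive morphism is universally submersive. -/
theorem univSubmersive_of_univSSubtrusive {X Y : Scheme.{u}} (f : X ⟶ Y) [QuasiCompact f]
    (hf : Subtr.UnivSSubtrusive f) : SGA1.UnivSubmersive f := by
  intro X' Y' i₁ i₂ f' hpb
  haveI : QuasiCompact f' :=
    MorphismProperty.of_isPullback (P := @QuasiCompact) hpb.flip inferInstance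
  exact isQuotientMap_of_isSSubtrusive f' (hf i₁ i₂ f' hpb)

theorem univSubmersive_pullback_snd {X Y T : Scheme.{u}} (f : X ⟶ Y) (p : T ⟶ Y)
    (hf : SGA1.UnivSubmersive f) : SGA1.UnivSubmersive (pullback.snd f p) := by
  have : MorphismProperty.IsStableUnderBaseChange
      (SGA1.UnivSubmersive : MorphismProperty Scheme.{u}) := by
    unfold SGA1.UnivSubmersive; infer_instance
  exact MorphismProperty.pullback_snd _ _ hf

/-- Over a locally Noetherian base, a quasi-compact universally submersive morphism is universally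
S-subtrusive. -/
theorem univSSubtrusive_of_univSubmersive {X Y : Scheme.{u}} [IsLocallyNoetherian Y] (f : X ⟶ Y)
    [QuasiCompact f] (hf : SGA1.UnivSubmersive f) : Subtr.UnivSSubtrusive f := by
  apply Groth.Agent.Helper22.SubtrAn.univSSubtrusive_of_affineSpace f
  intro n _
  haveI : IsLocallyNoetherian (AffineSpace (ULift.{u} (Fin n)) Y) :=
    LocallyOfFiniteType.isLocallyNoetherian (AffineSpace (ULift.{u} (Fin n)) Y ↘ Y)
  have hfn := univSubmersive_pullback_snd f (AffineSpace (ULift.{u} (Fin n)) Y ↘ Y) hf
  intro y y' hyy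
  obtain ⟨ξ, u, hξu, hξ, hu⟩ := Groth.Agent.Helper22.SubmSpec.exists_specializes_lift _ hfn hyy
  exact ⟨u, ξ, hξu, hu, hξ⟩

/-- Every specialization in a locally Noetherian scheme is realised by a discrete valuation
ring. -/
theorem exists_dvr_of_specializes {Y : Scheme.{u}} [IsLocallyNoetherian Y] {y y' : Y}
    (h : y' ⤳ y) :
    ∃ (D : Type u) (_ : CommRing D) (_ : IsDomain D) (_ : IsDiscreteValuationRing D)
      (g : Spec (CommRingCat.of D) ⟶ Y),
      g (IsLocalRing.closedPoint D) = y ∧ g (⟨⊥, Ideal.isPrime_bot⟩ : PrimeSpectrum D) = y' := by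
  by_cases hne : y = y'
  · subst hne
    refine ⟨PowerSeries (Y.residueField y), inferInstance, inferInstance, inferInstance,
      Spec.map (CommRingCat.ofHom (PowerSeries.C : Y.residueField y →+* _)) ≫
        Y.fromSpecResidueField y, ?_, ?_⟩
    · rw [Scheme.Hom.comp_apply, Scheme.fromSpecResidueField_apply]
    · rw [Scheme.Hom.comp_apply, Scheme.fromSpecResidueField_apply]
  · obtain ⟨A, g, hdvr, hcl, hgen⟩ :=
      Groth.Agent.Helper4.DVRSpec.exists_dvr_through_specialization (𝟙 Y) y' y h hne
    haveI := hdvr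
    rw [Category.comp_id] at hgen
    refine ⟨A, inferInstance, inferInstance, hdvr, g, hcl, ?_⟩
    have h1 : (⟨⊥, Ideal.isPrime_bot⟩ : PrimeSpectrum A) =
        Spec.map (CommRingCat.ofHom A.subtype) (IsLocalRing.closedPoint (Y.residueField y')) := by
      apply PrimeSpectrum.ext
      change (⊥ : Ideal A) = Ideal.comap A.subtype (IsLocalRing.maximalIdeal (Y.residueField y'))
      rw [IsLocalRing.maximalIdeal_eq_bot, Ideal.comap_bot_of_injective _ Subtype.val_injective]
    rw [h1, ← Scheme.Hom.comp_apply, hgen, Scheme.fromSpecResidueField_apply]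

/-- A surjective morphism between spectra of discrete valuation rings maps the closed point to the
closed point and the generic point to the generic point. -/
theorem dvr_surjective_points (D D' : Type u) [CommRing D] [IsDomain D]
    [IsDiscreteValuationRing D] [CommRing D'] [IsDomain D'] [IsDiscreteValuationRing D']
    (b : Spec (CommRingCat.of D') ⟶ Spec (CommRingCat.of D)) (hb : Function.Surjective b) :
    b (IsLocalRing.closedPoint D') = IsLocalRing.closedPoint D ∧
      b (⟨⊥, Ideal.isPrime_bot⟩ : PrimeSpectrum D') = (⟨⊥, Ideal.isPrime_bot⟩ : PrimeSpectrum D) := by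
  set η : PrimeSpectrum D := ⟨⊥, Ideal.isPrime_bot⟩ with hη
  set s : PrimeSpectrum D := IsLocalRing.closedPoint D with hs
  set η' : PrimeSpectrum D' := ⟨⊥, Ideal.isPrime_bot⟩ with hη'
  set s' : PrimeSpectrum D' := IsLocalRing.closedPoint D' with hs'
  have hne : η ≠ s := fun h =>
    IsDiscreteValuationRing.not_a_field D (congrArg PrimeSpectrum.asIdeal h).symm
  have hsp' : η' ⤳ s' := (PrimeSpectrum.le_iff_specializes η' s').1 bot_le
  have hsp : b η' ⤳ b s' := hsp'.map b.continuous
  have hgen : ∀ z : PrimeSpectrum D, z ⤳ η → z = η := by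
    intro z hz
    have := (PrimeSpectrum.le_iff_specializes z η).2 hz
    exact PrimeSpectrum.ext (le_bot_iff.mp this)
  have hcases' : ∀ z : PrimeSpectrum D', z = η' ∨ z = s' := Groth.Agent.S14766.dvr_prime_cases D'
  have hcases : ∀ z : PrimeSpectrum D, z = η ∨ z = s := Groth.Agent.S14766.dvr_prime_cases D
  have hs1 : b s' = s := by
    rcases hcases (b s') with h1 | h1
    · exfalso
      have h2 : b η' = η := hgen _ (h1 ▸ hsp)
      obtain ⟨z, hz⟩ := hb s
      rcases hcases' z with rfl | rfl
      · exact hne (h2.symm.trans hz)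
      · exact hne (h1.symm.trans hz)
    · exact h1
  refine ⟨hs1, ?_⟩
  rcases hcases (b η') with h1 | h1
  · exact h1
  · exfalso
    obtain ⟨z, hz⟩ := hb η
    rcases hcases' z with rfl | rfl
    · exact hne (hz.symm.trans h1)
    · exact hne (hz.symm.trans hs1)

end Groth.Agent.Helper22.SubtrNoeth
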