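import Groth.Agent.Lib.Helper22.GT3

set_option maxHeartbeats 1600000
set_option autoImplicit false

universe u
open scoped TensorProduct
open Classical

namespace Groth.Agent.Helper22.GT

open Groth.Agent.Helper22.GF

section Uniq
variable {A : Type u} [CommRing A] {B : Type u} [CommRing B] [Algebra A B]
  {C : Type u} [CommRing C] [Algebra A C] {C' : Type u} [CommRing C'] [Algebra A C'] {d : ℕ}

theorem postcomp_id_law (γ : PolLaw.MulLaw A B C d) :
    PolLaw.postcomp (AlgHom.id A C).toLinearMap γ.law = γ.law := by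
  ext S _ _ y
  show (AlgHom.id A C).toLinearMap.lTensor S (γ.law.toFun' S y) = γ.law.toFun' S y
  rw [AlgHom.toLinearMap_id, LinearMap.lTensor_id, LinearMap.id_apply]

theorem postcomp_comp_law (γ : PolLaw.MulLaw A B C d) (γ' : PolLaw.MulLaw A B C' d)
    (f : C →ₐ[A] C') (g : C' →ₐ[A] C)
    (hf : PolLaw.postcomp f.toLinearMap γ.law = γ'.law)
    (hg : PolLaw.postcomp g.toLinearMap γ'.law = γ.law) :
    PolLaw.postcomp (g.comp f).toLinearMap γ.law = γ.law := by
  ext S _ _ y
  show (g.comp f).toLinearMap.lTensor S (γ.law.toFun' S y) = γ.law.toFun' S y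
  rw [AlgHom.comp_toLinearMap, LinearMap.lTensor_comp_apply]
  have hf' : f.toLinearMap.lTensor S (γ.law.toFun' S y) = γ'.law.toFun' S y :=
    congrArg (fun F : B →ₚₗ[A] C' => F.toFun' S y) hf
  have hg' : g.toLinearMap.lTensor S (γ'.law.toFun' S y) = γ.law.toFun' S y :=
    congrArg (fun F : B →ₚₗ[A] C => F.toFun' S y) hg
  rw [hf', hg']

/-- two divided power algebras of the same algebra are isomorphic -/
theorem isGammaD_equiv (γ : PolLaw.MulLaw A B C d) (γ' : PolLaw.MulLaw A B C' d)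
    (hγ : PolLaw.IsGammaD γ) (hγ' : PolLaw.IsGammaD γ') :
    ∃ e : C ≃ₐ[A] C', PolLaw.postcomp (e : C →ₐ[A] C').toLinearMap γ.law = γ'.law := by
  obtain ⟨f, hf, _⟩ := hγ C' γ'
  obtain ⟨g, hg, _⟩ := hγ' C γ
  have hf0 : PolLaw.postcomp f.toLinearMap γ.law = γ'.law := hf
  have hg0 : PolLaw.postcomp g.toLinearMap γ'.law = γ.law := hg
  have hgf : g.comp f = AlgHom.id A C :=
    (hγ C γ).unique (postcomp_comp_law γ γ' f g hf0 hg0) (postcomp_id_law γ)
  have hfg : f.comp g = AlgHom.id A C' :=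
    (hγ' C' γ').unique (postcomp_comp_law γ' γ g f hg0 hf0) (postcomp_id_law γ')
  refine ⟨AlgEquiv.ofAlgHom f g hfg hgf, ?_⟩
  exact hf0

end Uniq

section Flat
variable (A : Type u) [CommRing A] (B : Type u) [CommRing B] [Algebra A B] (d : ℕ)

/-- symmetric tensors as a subalgebra and as a submodule have the same elements -/
noncomputable def tsEquiv : ↥(SymTen.TS A B d) ≃ₗ[A] ↥(KL.TSm A B d) where
  toFun x := ⟨x.1, (KL.mem_TSm _).mpr ((SymTen.mem_TS_iff A B d _).mp x.2)⟩
  invFun y := ⟨y.1, (SymTen.mem_TS_iff A B d _).mpr ((KL.mem_TSm _).mp y.2)⟩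
  map_add' _ _ := rfl
  map_smul' _ _ := rfl
  left_inv _ := rfl
  right_inv _ := rfl

theorem flat_TS [Module.Flat A B] : Module.Flat A ↥(SymTen.TS A B d) := by
  haveI : Module.Flat A ↥(KL.TSm A B d) := KL.flat_TSm d
  exact Module.Flat.of_linearEquiv (tsEquiv A B d)

end Flat

/-- S13729: the divided power algebra of a flat algebra is flat -/
theorem main13729 {A : Type u} [CommRing A] {B : Type u} [CommRing B] [Algebra A B]
    {C : Type u} [CommRing C] [Algebra A C] {d : ℕ} (γ : PolLaw.MulLaw A B C d)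
    (hγ : PolLaw.IsGammaD γ) [Module.Flat A B] : Module.Flat A C := by
  obtain ⟨τ, _, hτ⟩ := main13873 (A := A) (B := B) d (Or.inl inferInstance)
  obtain ⟨e, _⟩ := isGammaD_equiv γ τ hγ hτ
  haveI : Module.Flat A ↥(SymTen.TS A B d) := flat_TS A B d
  exact Module.Flat.of_linearEquiv e.toLinearEquiv

end Groth.Agent.Helper22.GT
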