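import Groth.Agent.Lib.Helper22.KL3
import Groth.Agent.Lib.Helper22.GT4

set_option maxHeartbeats 1600000
set_option autoImplicit false

universe u
open scoped TensorProduct
open Classical

namespace Groth.Agent.Helper22.RD

open Groth.Agent.Helper22

section Inj
variable (A : Type u) [CommRing A] (B : Type u) [CommRing B] [Algebra A B] (d : ℕ)

theorem val_eq : (SymTen.TS A B d).val.toLinearMap =
    (KL.TSm A B d).subtype ∘ₗ (GT.tsEquiv A B d).toLinearMap := rfl

theorem lTensor_val_injective [Module.Flat A B] (N : Type u) [AddCommGroup N] [Module A N] :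
    Function.Injective ((SymTen.TS A B d).val.toLinearMap.lTensor N) := by
  rw [val_eq, LinearMap.lTensor_comp, LinearMap.coe_comp]
  have h1 : Function.Injective ((KL.TSm A B d).subtype.lTensor N) :=
    KL.lTensor_TSm_injective d N
  have h2 : Function.Injective ((GT.tsEquiv A B d).toLinearMap.lTensor N) := by
    apply Function.LeftInverse.injective (g := (GT.tsEquiv A B d).symm.toLinearMap.lTensor N)
    intro z
    rw [← LinearMap.comp_apply, ← LinearMap.lTensor_comp]
    have h3 : (GT.tsEquiv A B d).symm.toLinearMap ∘ₗ (GT.tsEquiv A B d).toLinearMap =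
        LinearMap.id := by
      ext c
      simp
    rw [h3, LinearMap.lTensor_id, LinearMap.id_apply]
  exact h1.comp h2

end Inj

section Theta
variable (A : Type u) [CommRing A] (B : Type u) [CommRing B] [Algebra A B] (d : ℕ)

theorem theta_one : KL.theta A B d 1 = 1 := by
  rw [PiTensorProduct.one_def, KL.theta_tprod, Algebra.TensorProduct.one_def,
    PiTensorProduct.one_def]
  rfl

theorem theta_mul (x y : ⨂[A] _ : Fin (d + 1), B) :
    KL.theta A B d (x * y) = KL.theta A B d x * KL.theta A B d y := by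
  induction x using PiTensorProduct.induction_on with
  | smul_tprod r u =>
    induction y using PiTensorProduct.induction_on with
    | smul_tprod s v =>
      rw [PiTensorProduct.smul_tprod_mul_smul_tprod, map_smul, map_smul, map_smul,
        KL.theta_tprod, KL.theta_tprod, KL.theta_tprod, smul_mul_smul_comm,
        Algebra.TensorProduct.tmul_mul_tmul, PiTensorProduct.tprod_mul_tprod]
      rfl
    | add y₁ y₂ h₁ h₂ => rw [mul_add, map_add, map_add, mul_add, h₁, h₂]
  | add x₁ x₂ h₁ h₂ => rw [add_mul, map_add, map_add, add_mul, h₁, h₂]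

/-- `T^{d+1} B → T^d B ⊗ B` as an algebra map -/
noncomputable def thetaAlg : (⨂[A] _ : Fin (d + 1), B) →ₐ[A] (⨂[A] _ : Fin d, B) ⊗[A] B :=
  AlgHom.ofLinearMap (KL.theta A B d) (theta_one A B d) (theta_mul A B d)

theorem thetaAlg_apply (x : ⨂[A] _ : Fin (d + 1), B) :
    thetaAlg A B d x = KL.theta A B d x := rfl

/-- a left inverse of `theta` -/
noncomputable def nu : (⨂[A] _ : Fin d, B) ⊗[A] B →ₗ[A] (⨂[A] _ : Fin (d + 1), B) :=
  TensorProduct.lift (KL.mu A B d).flip

theorem nu_tmul (z : ⨂[A] _ : Fin d, B) (b : B) : nu A B d (z ⊗ₜ[A] b) = KL.mu A B d b z := rfl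

theorem nu_theta (x : ⨂[A] _ : Fin (d + 1), B) : nu A B d (KL.theta A B d x) = x := by
  induction x using PiTensorProduct.induction_on with
  | smul_tprod r u =>
    rw [map_smul, map_smul, KL.theta_tprod, nu_tmul, KL.mu_tprod, Fin.cons_self_tail]
  | add x y hx hy => rw [map_add, map_add, hx, hy]

end Theta

section Red
variable {A : Type u} [CommRing A] {B : Type u} [CommRing B] [Algebra A B]
  {K : Type u} [Field K] [Algebra A K]

variable (A B K) in
/-- coefficients with respect to a `K`-basis of `K ⊗ B` -/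
noncomputable def EE (R : Type u) [CommRing R] [Algebra A R] [Algebra K R] [IsScalarTower A K R] :
    R ⊗[A] B ≃ₗ[K] (Module.Free.ChooseBasisIndex K (K ⊗[A] B) →₀ R) :=
  (TensorProduct.AlgebraTensorModule.cancelBaseChange A K K R B).symm ≪≫ₗ
    TensorProduct.equivFinsuppOfBasisRight (Module.Free.chooseBasis K (K ⊗[A] B))

theorem EE_tmul (R : Type u) [CommRing R] [Algebra A R] [Algebra K R] [IsScalarTower A K R]
    (r : R) (b : B) (i : Module.Free.ChooseBasisIndex K (K ⊗[A] B)) :
    EE A B K R (r ⊗ₜ[A] b) i =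
      (Module.Free.chooseBasis K (K ⊗[A] B)).repr ((1 : K) ⊗ₜ[A] b) i • r := by
  show TensorProduct.equivFinsuppOfBasisRight (Module.Free.chooseBasis K (K ⊗[A] B))
    ((TensorProduct.AlgebraTensorModule.cancelBaseChange A K K R B).symm (r ⊗ₜ[A] b)) i = _
  rw [TensorProduct.AlgebraTensorModule.cancelBaseChange_symm_tmul,
    TensorProduct.equivFinsuppOfBasisRight_apply_tmul_apply]

theorem EE_nat (R R' : Type u) [CommRing R] [Algebra A R] [Algebra K R] [IsScalarTower A K R]
    [CommRing R'] [Algebra A R'] [Algebra K R'] [IsScalarTower A K R']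
    (gK : R →ₐ[K] R') (gA : R →ₐ[A] R') (hg : ∀ r, gA r = gK r) (x : R ⊗[A] B)
    (i : Module.Free.ChooseBasisIndex K (K ⊗[A] B)) :
    EE A B K R' (Algebra.TensorProduct.map gA (AlgHom.id A B) x) i = gK (EE A B K R x i) := by
  induction x using TensorProduct.induction_on with
  | zero => simp only [map_zero, Finsupp.coe_zero, Pi.zero_apply]
  | tmul r b =>
    rw [Algebra.TensorProduct.map_tmul]
    show EE A B K R' (gA r ⊗ₜ[A] b) i = _
    rw [EE_tmul, EE_tmul, hg, map_smul]
  | add x y hx hy =>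
    rw [map_add, map_add, Finsupp.add_apply, hx, hy, map_add, Finsupp.add_apply, map_add]

theorem exists_field (R : Type u) [CommRing R] (p : Ideal R) [p.IsPrime] :
    ∃ (L : Type u) (_ : Field L) (g₀ : R →+* L), ∀ r, g₀ r = 0 → r ∈ p := by
  refine ⟨FractionRing (R ⧸ p), inferInstance,
    (algebraMap (R ⧸ p) (FractionRing (R ⧸ p))).comp (Ideal.Quotient.mk p), ?_⟩
  intro r hr
  have h1 : algebraMap (R ⧸ p) (FractionRing (R ⧸ p)) (Ideal.Quotient.mk p r) = 0 := hr
  have h2 := (IsFractionRing.injective (R ⧸ p) (FractionRing (R ⧸ p)))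
    (h1.trans (map_zero _).symm)
  exact Ideal.Quotient.eq_zero_iff_mem.mp h2

theorem tensor_reduced (hred : ∀ (L : Type u) [Field L] [Algebra A L], IsReduced (L ⊗[A] B))
    (R : Type u) [CommRing R] [Algebra A R] [Algebra K R] [IsScalarTower A K R] [IsReduced R] :
    IsReduced (R ⊗[A] B) := by
  constructor
  intro x hx
  apply (EE A B K R).injective
  rw [map_zero]
  ext i
  rw [Finsupp.zero_apply]
  have hnil : EE A B K R x i ∈ nilradical R := by
    rw [nilradical_eq_sInf, Ideal.mem_sInf]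
    intro p hp
    haveI : p.IsPrime := hp
    obtain ⟨L, _, g₀, hg₀⟩ := exists_field R p
    letI algKL : Algebra K L := (g₀.comp (algebraMap K R)).toAlgebra
    letI algAL : Algebra A L := (g₀.comp (algebraMap A R)).toAlgebra
    haveI tower : IsScalarTower A K L := IsScalarTower.of_algebraMap_eq (fun a => by
      show g₀ (algebraMap A R a) = g₀ (algebraMap K R (algebraMap A K a))
      rw [← IsScalarTower.algebraMap_apply A K R])
    obtain ⟨gK, hgK⟩ : ∃ gK : R →ₐ[K] L, ∀ r, gK r = g₀ r :=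
      ⟨{ g₀ with commutes' := fun k => rfl }, fun r => rfl⟩
    obtain ⟨gA, hgA⟩ : ∃ gA : R →ₐ[A] L, ∀ r, gA r = g₀ r :=
      ⟨{ g₀ with commutes' := fun a => rfl }, fun r => rfl⟩
    haveI := hred L
    have hφ : Algebra.TensorProduct.map gA (AlgHom.id A B) x = 0 :=
      IsReduced.eq_zero _ (hx.map (Algebra.TensorProduct.map gA (AlgHom.id A B)))
    have hn := EE_nat R L gK gA (fun r => by rw [hgA, hgK]) x i
    rw [hφ, map_zero, Finsupp.zero_apply] at hn
    exact hg₀ _ (by rw [← hgK]; exact hn.symm)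
  exact IsReduced.eq_zero _ (mem_nilradical.mp hnil)

end Red

section Ind
variable {A : Type u} [CommRing A] {B : Type u} [CommRing B] [Algebra A B]

theorem red_zero (K : Type u) [Field K] [Algebra A K] :
    IsReduced (K ⊗[A] (⨂[A] _ : Fin 0, B)) := by
  have hsurj : ∀ x : K ⊗[A] (⨂[A] _ : Fin 0, B), ∃ k : K, x = k ⊗ₜ[A] 1 := by
    intro x
    induction x using TensorProduct.induction_on with
    | zero => exact ⟨0, (TensorProduct.zero_tmul _ _).symm⟩
    | tmul k t =>
      have ht : t = (PiTensorProduct.isEmptyEquiv (Fin 0) t) • (1 : ⨂[A] _ : Fin 0, B) := by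
        apply (PiTensorProduct.isEmptyEquiv (Fin 0)).injective
        rw [map_smul, PiTensorProduct.one_def, PiTensorProduct.isEmptyEquiv_apply_tprod,
          smul_eq_mul, mul_one]
      refine ⟨(PiTensorProduct.isEmptyEquiv (Fin 0) t) • k, ?_⟩
      rw [TensorProduct.smul_tmul, ← ht]
    | add x y hx hy =>
      obtain ⟨k₁, rfl⟩ := hx
      obtain ⟨k₂, rfl⟩ := hy
      exact ⟨k₁ + k₂, (TensorProduct.add_tmul _ _ _).symm⟩
  constructor
  intro x hx
  obtain ⟨k, rfl⟩ := hsurj x
  by_cases hk : k = 0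
  · rw [hk, TensorProduct.zero_tmul]
  · obtain ⟨n, hn⟩ := hx
    rw [Algebra.TensorProduct.tmul_pow, one_pow] at hn
    have h1 : k ⊗ₜ[A] (1 : ⨂[A] _ : Fin 0, B) =
        ((k * (k ^ n)⁻¹) ⊗ₜ[A] (1 : ⨂[A] _ : Fin 0, B)) * ((k ^ n) ⊗ₜ[A] 1) := by
      rw [Algebra.TensorProduct.tmul_mul_tmul, mul_one, mul_assoc,
        inv_mul_cancel₀ (pow_ne_zero n hk), mul_one]
    rw [h1, hn, mul_zero]

theorem red_T (hred : ∀ (L : Type u) [Field L] [Algebra A L], IsReduced (L ⊗[A] B)) :
    ∀ (d : ℕ) (K : Type u) [Field K] [Algebra A K],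
      IsReduced (K ⊗[A] (⨂[A] _ : Fin d, B)) := by
  intro d
  induction d with
  | zero =>
    intro K _ _
    exact red_zero K
  | succ d ih =>
    intro K _ _
    haveI := ih K
    haveI : IsReduced ((K ⊗[A] (⨂[A] _ : Fin d, B)) ⊗[A] B) :=
      tensor_reduced (K := K) hred (K ⊗[A] (⨂[A] _ : Fin d, B))
    obtain ⟨φ, hφ⟩ : ∃ φ : K ⊗[A] (⨂[A] _ : Fin (d + 1), B) →ₐ[A]
        (K ⊗[A] (⨂[A] _ : Fin d, B)) ⊗[A] B,
        φ = ((Algebra.TensorProduct.assoc A A A K (⨂[A] _ : Fin d, B) B).symm :
          K ⊗[A] ((⨂[A] _ : Fin d, B) ⊗[A] B) →ₐ[A] (K ⊗[A] (⨂[A] _ : Fin d, B)) ⊗[A] B).comp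
          (Algebra.TensorProduct.map (AlgHom.id A K) (thetaAlg A B d)) := ⟨_, rfl⟩
    have h2 : ∀ z : K ⊗[A] (⨂[A] _ : Fin (d + 1), B),
        (nu A B d).lTensor K
          (Algebra.TensorProduct.map (AlgHom.id A K) (thetaAlg A B d) z) = z := by
      intro z
      induction z using TensorProduct.induction_on with
      | zero => rw [map_zero, map_zero]
      | tmul k t =>
        rw [Algebra.TensorProduct.map_tmul, LinearMap.lTensor_tmul, thetaAlg_apply, nu_theta]
        rfl
      | add z₁ z₂ h₁ h₂ => rw [map_add, map_add, h₁, h₂]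
    have hinj : Function.Injective φ := by
      intro x y hxy
      rw [hφ] at hxy
      have h1 : Algebra.TensorProduct.map (AlgHom.id A K) (thetaAlg A B d) x =
          Algebra.TensorProduct.map (AlgHom.id A K) (thetaAlg A B d) y :=
        (Algebra.TensorProduct.assoc A A A K (⨂[A] _ : Fin d, B) B).symm.injective hxy
      rw [← h2 x, ← h2 y, h1]
    exact isReduced_of_injective φ.toRingHom hinj

end Ind

/-- S13730 -/
theorem main13730 {A : Type u} [CommRing A] {B : Type u} [CommRing B] [Algebra A B]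
    {C : Type u} [CommRing C] [Algebra A C] {d : ℕ} (γ : PolLaw.MulLaw A B C d)
    (hγ : PolLaw.IsGammaD γ) [Module.Flat A B]
    (hred : ∀ (K : Type u) [Field K] [Algebra A K], IsReduced (K ⊗[A] B)) :
    ∀ (K : Type u) [Field K] [Algebra A K], IsReduced (K ⊗[A] C) := by
  intro K _ _
  obtain ⟨τ, _, hτ⟩ := GT.main13873 (A := A) (B := B) d (Or.inl inferInstance)
  obtain ⟨e, _⟩ := GT.isGammaD_equiv γ τ hγ hτ
  haveI := red_T hred d K
  obtain ⟨φ, hφ⟩ : ∃ φ : K ⊗[A] C →ₐ[A] K ⊗[A] (⨂[A] _ : Fin d, B),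
      φ = Algebra.TensorProduct.map (AlgHom.id A K)
        ((SymTen.TS A B d).val.comp (e : C →ₐ[A] ↥(SymTen.TS A B d))) := ⟨_, rfl⟩
  have h1 : ∀ x, φ x = (SymTen.TS A B d).val.toLinearMap.lTensor K
      (e.toLinearEquiv.toLinearMap.lTensor K x) := by
    intro x
    rw [hφ]
    induction x using TensorProduct.induction_on with
    | zero => rw [map_zero, map_zero, map_zero]
    | tmul k c =>
      rw [Algebra.TensorProduct.map_tmul, LinearMap.lTensor_tmul, LinearMap.lTensor_tmul]
      rfl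
    | add x y hx hy => rw [map_add, map_add, map_add, hx, hy]
  have h3 : ∀ z, (e.symm.toLinearEquiv.toLinearMap.lTensor K)
      (e.toLinearEquiv.toLinearMap.lTensor K z) = z := by
    intro z
    rw [← LinearMap.comp_apply, ← LinearMap.lTensor_comp]
    have h4 : e.symm.toLinearEquiv.toLinearMap ∘ₗ e.toLinearEquiv.toLinearMap =
        LinearMap.id := by
      ext c
      simp
    rw [h4, LinearMap.lTensor_id, LinearMap.id_apply]
  have hinj : Function.Injective φ := by
    intro x y hxy
    rw [h1, h1] at hxy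
    have h2 := RD.lTensor_val_injective A B d K hxy
    rw [← h3 x, ← h3 y, h2]
  exact isReduced_of_injective φ.toRingHom hinj

end Groth.Agent.Helper22.RD
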