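import Mathlib
import Groth.Prelude.Def_SekSuwa2
import Groth.Prelude.Def_Mor2

/-!
# `G_{λ,N}` is finite locally free of degree `N`

`AK R lam N h ≃ₐ[R] AdjoinRoot (psiPoly lam N h)` with `psiPoly` monic of degree `N`.
-/

set_option autoImplicit false
universe u
open CategoryTheory AlgebraicGeometry

namespace Groth.Agent.Helper22.SekGK

open SekSuwa Polynomial

variable {R : Type u} [CommRing R] {lam : R} {N : ℕ}

theorem lin_eq : (1 + C lam * X : R[X]) = C lam * X + C 1 := by rw [map_one]; ring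

theorem coeff_Q_gt (hN : 0 < N) (k : ℕ) (hk : N < k) :
    ((1 + C lam * X : R[X]) ^ N - 1).coeff k = 0 := by
  rw [coeff_sub, lin_eq]
  have h1 : ((C lam * X + C 1 : R[X]) ^ N).natDegree ≤ N * 1 :=
    natDegree_pow_le_of_le N natDegree_linear_le
  have h3 : (1 : R[X]).coeff k = 0 := by rw [Polynomial.coeff_one]; exact if_neg (by omega)
  rw [coeff_eq_zero_of_natDegree_lt (by omega), h3, sub_zero]

theorem coeff_Q_N (hN : 0 < N) : ((1 + C lam * X : R[X]) ^ N - 1).coeff N = lam ^ N := by
  rw [coeff_sub, lin_eq]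
  have h1 := coeff_pow_of_natDegree_le (p := (C lam * X + C 1 : R[X])) (m := N) (n := 1)
    natDegree_linear_le
  rw [Nat.mul_one] at h1
  have h2 : (C lam * X + C 1 : R[X]).coeff 1 = lam := by
    rw [coeff_add, coeff_C_mul, coeff_X_one, mul_one, coeff_C_of_ne_zero one_ne_zero, add_zero]
  have h3 : (1 : R[X]).coeff N = 0 := by rw [Polynomial.coeff_one]; exact if_neg (by omega)
  rw [h1, h2, h3, sub_zero]

theorem psi_coeff (h : DivCond lam N) (k : ℕ) :
    lam ^ N * (psiPoly lam N h).coeff k = ((1 + C lam * X : R[X]) ^ N - 1).coeff k := by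
  rw [← psiPoly_spec h, coeff_C_mul]

theorem psi_coeff_gt (hN : 0 < N) (h : DivCond lam N) (k : ℕ) (hk : N < k) :
    (psiPoly lam N h).coeff k = 0 := by
  apply cancel_nzd h.pow_nzd
  rw [psi_coeff h k, coeff_Q_gt hN k hk, mul_zero]

theorem psi_coeff_N (hN : 0 < N) (h : DivCond lam N) : (psiPoly lam N h).coeff N = 1 := by
  apply cancel_nzd h.pow_nzd
  rw [psi_coeff h N, coeff_Q_N hN, mul_one]

theorem psi_natDegree_le (hN : 0 < N) (h : DivCond lam N) : (psiPoly lam N h).natDegree ≤ N :=
  natDegree_le_iff_coeff_eq_zero.2 (fun k hk => psi_coeff_gt hN h k hk)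

theorem psi_monic (hN : 0 < N) (h : DivCond lam N) : (psiPoly lam N h).Monic :=
  monic_of_natDegree_le_of_coeff_eq_one N (psi_natDegree_le hN h) (psi_coeff_N hN h)

theorem psi_natDegree [Nontrivial R] (hN : 0 < N) (h : DivCond lam N) :
    (psiPoly lam N h).natDegree = N :=
  natDegree_eq_of_le_of_coeff_ne_zero (psi_natDegree_le hN h)
    (by rw [psi_coeff_N hN h]; exact one_ne_zero)

theorem root_pow (h : DivCond lam N) :
    (1 + lam • AdjoinRoot.root (psiPoly lam N h)) ^ N = 1 := by
  have e := aeval_psiPoly h (AdjoinRoot.root (psiPoly lam N h))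
  rw [AdjoinRoot.aeval_eq, AdjoinRoot.mk_self, mul_zero] at e
  rw [Algebra.smul_def]
  exact sub_eq_zero.1 e.symm

theorem hrel (hN : 0 < N) (h : DivCond lam N) :
    (1 + lam • AdjoinRoot.root (psiPoly lam N h)) *
      (1 + lam • AdjoinRoot.root (psiPoly lam N h)) ^ (N - 1) = 1 := by
  rw [← pow_succ', Nat.sub_add_cancel hN]
  exact root_pow h

variable (R lam N) in
/-- `AK → AdjoinRoot psiPoly`, `t ↦ root`, `inv ↦ (1 + λ root)^(N-1)`. -/
noncomputable def toAdj (hN : 0 < N) (h : DivCond lam N) :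
    AK R lam N h →ₐ[R] AdjoinRoot (psiPoly lam N h) :=
  Ideal.Quotient.liftₐ (kerIdeal lam N h)
    (A.lift R lam (AdjoinRoot.root (psiPoly lam N h))
      ((1 + lam • AdjoinRoot.root (psiPoly lam N h)) ^ (N - 1)) (hrel hN h))
    (by
      intro z hz
      obtain ⟨c, rfl⟩ := Ideal.mem_span_singleton'.mp hz
      rw [map_mul, kerGen, ← Polynomial.aeval_algHom_apply, A.lift_t, AdjoinRoot.aeval_eq,
        AdjoinRoot.mk_self, mul_zero])

theorem toAdj_t (hN : 0 < N) (h : DivCond lam N) :
    toAdj R lam N hN h AK.t = AdjoinRoot.root (psiPoly lam N h) := by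
  change A.lift R lam (AdjoinRoot.root (psiPoly lam N h))
    ((1 + lam • AdjoinRoot.root (psiPoly lam N h)) ^ (N - 1)) (hrel hN h) A.t = _
  exact A.lift_t _ _ _

theorem toAdj_inv (hN : 0 < N) (h : DivCond lam N) :
    toAdj R lam N hN h AK.inv = (1 + lam • AdjoinRoot.root (psiPoly lam N h)) ^ (N - 1) := by
  change A.lift R lam (AdjoinRoot.root (psiPoly lam N h))
    ((1 + lam • AdjoinRoot.root (psiPoly lam N h)) ^ (N - 1)) (hrel hN h) A.inv = _
  exact A.lift_inv _ _ _

variable (R lam N) in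
/-- `AdjoinRoot psiPoly → AK`, `root ↦ t`. -/
noncomputable def fromAdj (h : DivCond lam N) :
    AdjoinRoot (psiPoly lam N h) →ₐ[R] AK R lam N h :=
  AdjoinRoot.liftAlgHom (psiPoly lam N h) (Algebra.ofId R (AK R lam N h)) AK.t
    (by
      have e := AK.aeval_t (R := R) (lam := lam) (N := N) (h := h)
      rw [Polynomial.aeval_def] at e
      exact e)

theorem fromAdj_root (h : DivCond lam N) :
    fromAdj R lam N h (AdjoinRoot.root (psiPoly lam N h)) = AK.t :=
  AdjoinRoot.liftAlgHom_root _ _ _ _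

theorem AK_u_mul_inv (h : DivCond lam N) :
    (1 + lam • (AK.t : AK R lam N h)) * AK.inv = 1 := by
  have e := congrArg (AK.mkHom R lam N h) (A.u_mul_inv (R := R) (lam := lam))
  rw [map_mul, map_one, A.u, map_add, map_one, map_smul] at e
  exact e

theorem AK_pow_pred (hN : 0 < N) (h : DivCond lam N) :
    (1 + lam • (AK.t : AK R lam N h)) ^ (N - 1) = AK.inv := by
  calc (1 + lam • (AK.t : AK R lam N h)) ^ (N - 1)
      = (1 + lam • (AK.t : AK R lam N h)) ^ (N - 1) * ((1 + lam • AK.t) * AK.inv) := by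
        rw [AK_u_mul_inv, mul_one]
    _ = (1 + lam • (AK.t : AK R lam N h)) ^ (N - 1 + 1) * AK.inv := by
        rw [pow_succ, mul_assoc]
    _ = AK.inv := by rw [Nat.sub_add_cancel hN, AK.u_pow, one_mul]

variable (R lam N) in
/-- the algebra isomorphism -/
noncomputable def equivAdj (hN : 0 < N) (h : DivCond lam N) :
    AK R lam N h ≃ₐ[R] AdjoinRoot (psiPoly lam N h) :=
  AlgEquiv.ofAlgHom (toAdj R lam N hN h) (fromAdj R lam N h)
    (by
      apply AdjoinRoot.algHom_ext
      rw [AlgHom.comp_apply, fromAdj_root, toAdj_t, AlgHom.id_apply])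
    (by
      apply AK.algHom_ext
      · rw [AlgHom.comp_apply, toAdj_t, fromAdj_root, AlgHom.id_apply]
      · rw [AlgHom.comp_apply, toAdj_inv, map_pow, map_add, map_one, map_smul, fromAdj_root,
          AK_pow_pred hN h, AlgHom.id_apply])

theorem free_AK (hN : 0 < N) (h : DivCond lam N) : Module.Free R (AK R lam N h) := by
  haveI := (psi_monic hN h).free_adjoinRoot
  exact Module.Free.of_equiv (equivAdj R lam N hN h).toLinearEquiv.symm

theorem finite_AK (hN : 0 < N) (h : DivCond lam N) : Module.Finite R (AK R lam N h) := by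
  haveI := (psi_monic hN h).finite_adjoinRoot
  exact Module.Finite.equiv (equivAdj R lam N hN h).toLinearEquiv.symm

theorem finrank_AK [Nontrivial R] (hN : 0 < N) (h : DivCond lam N) :
    Module.finrank R (AK R lam N h) = N := by
  rw [LinearEquiv.finrank_eq (equivAdj R lam N hN h).toLinearEquiv,
    (AdjoinRoot.powerBasis' (psi_monic hN h)).finrank, AdjoinRoot.powerBasis'_dim,
    psi_natDegree hN h]

theorem main (R : Type u) [CommRing R] (lam : R) (N : ℕ) (hN : 0 < N) (h : SekSuwa.DivCond lam N) :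
    Mor2.IsFinLocFreeOfDeg N (SekSuwa.GK R lam N h).hom := by
  show Mor2.IsFinLocFreeOfDeg N (Spec.map (CommRingCat.ofHom (algebraMap R (AK R lam N h))))
  haveI := free_AK hN h
  haveI := finite_AK hN h
  haveI : Module.FinitePresentation R (AK R lam N h) := Module.finitePresentation_of_projective R _
  haveI : Algebra.FinitePresentation R (AK R lam N h) := inferInstance
  refine ⟨⟨?_, ?_, ?_⟩, ?_⟩
  · rw [IsFinite.SpecMap_iff]
    simpa [RingHom.finite_algebraMap] using (inferInstance : Module.Finite R (AK R lam N h))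
  · rw [Flat.SpecMap_iff]
    simpa [RingHom.flat_algebraMap_iff] using (inferInstance : Module.Flat R (AK R lam N h))
  · rw [LocallyOfFinitePresentation.SpecMap_iff]
    simpa [RingHom.finitePresentation_algebraMap] using
      (inferInstance : Algebra.FinitePresentation R (AK R lam N h))
  · intro y
    haveI : Nontrivial R := PrimeSpectrum.nonempty_iff_nontrivial.1 ⟨y⟩
    have e := Scheme.Hom.finrank_SpecMap_algebraMap R (AK R lam N h) y
    rw [e, Module.rankAtStalk_eq_finrank_of_free]
    exact finrank_AK hN h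

end Groth.Agent.Helper22.SekGK
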