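import Mathlib
import Groth.Prelude.Def_EtMil

set_option autoImplicit false
universe u

open TensorProduct

namespace Groth.Agent.Helper22

variable {B' B A' A : Type u} [CommRing B'] [CommRing B] [CommRing A'] [CommRing A]
  [Algebra B' B] [Algebra B' A'] [Algebra B A] [Algebra A' A] [Algebra B' A]
  [IsScalarTower B' B A] [IsScalarTower B' A' A]

theorem fibreSquare_surjective (hsq : EtMil.IsFibreSquare B' B A' A) :
    Function.Surjective (algebraMap B' B) := by
  intro b
  obtain ⟨a', ha'⟩ := hsq.1 (algebraMap B A b)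
  obtain ⟨b', ⟨hb', _⟩, _⟩ := hsq.2 b a' ha'.symm
  exact ⟨b', hb'⟩

theorem fibreSquare_ext (hsq : EtMil.IsFibreSquare B' B A' A) {x y : B'}
    (h1 : algebraMap B' B x = algebraMap B' B y) (h2 : algebraMap B' A' x = algebraMap B' A' y) :
    x = y := by
  have hc : algebraMap B A (algebraMap B' B y) = algebraMap A' A (algebraMap B' A' y) := by
    rw [← IsScalarTower.algebraMap_apply, ← IsScalarTower.algebraMap_apply]
  obtain ⟨z, _, hz⟩ := hsq.2 _ _ hc
  rw [hz x ⟨h1, h2⟩, hz y ⟨rfl, rfl⟩]

/-- For `j` in the kernel of `B' → B`, multiplication by `j` extends to a `B'`-linear map `A' → B'`. -/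
theorem exists_linearMap_of_mem_ker (hsq : EtMil.IsFibreSquare B' B A' A) (j : B')
    (hj : algebraMap B' B j = 0) :
    ∃ ψ : A' →ₗ[B'] B', ψ 1 = j := by
  have hcompat : ∀ a' : A', algebraMap B A 0 = algebraMap A' A (a' * algebraMap B' A' j) := by
    intro a'
    rw [map_zero, map_mul, ← IsScalarTower.algebraMap_apply, IsScalarTower.algebraMap_apply B' B A,
      hj, map_zero, mul_zero]
  choose f hf _ using fun a' => hsq.2 0 (a' * algebraMap B' A' j) (hcompat a')
  refine ⟨{ toFun := f, map_add' := ?_, map_smul' := ?_ }, ?_⟩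
  · intro x y
    apply fibreSquare_ext hsq
    · rw [map_add, (hf _).1, (hf _).1, (hf _).1, add_zero]
    · rw [map_add, (hf _).2, (hf _).2, (hf _).2, add_mul]
  · intro c x
    apply fibreSquare_ext hsq
    · rw [RingHom.id_apply, smul_eq_mul, map_mul, (hf _).1, (hf _).1, mul_zero]
    · rw [RingHom.id_apply, smul_eq_mul, map_mul, (hf _).2, (hf _).2, Algebra.smul_def, mul_assoc]
  · apply fibreSquare_ext hsq
    · change algebraMap B' B (f 1) = _
      rw [(hf _).1, hj]
    · change algebraMap B' A' (f 1) = _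
      rw [(hf _).2, one_mul]

theorem smul_eq_zero_of_tmul_eq_zero (hsq : EtMil.IsFibreSquare B' B A' A)
    {L' : Type u} [AddCommGroup L'] [Module B' L'] (l : L')
    (h2 : ((1 : A') ⊗ₜ[B'] l : A' ⊗[B'] L') = 0) (j : B') (hj : algebraMap B' B j = 0) :
    j • l = 0 := by
  obtain ⟨ψ, hψ⟩ := exists_linearMap_of_mem_ker hsq j hj
  have h3 := congrArg (fun t => TensorProduct.lid B' L' (LinearMap.rTensor L' ψ t)) h2
  simpa [hψ] using h3

theorem mem_smul_top_of_tmul_eq_zero (hsurj : Function.Surjective (algebraMap B' B))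
    {L' : Type u} [AddCommGroup L'] [Module B' L'] (l : L')
    (h1 : ((1 : B) ⊗ₜ[B'] l : B ⊗[B'] L') = 0) :
    l ∈ (RingHom.ker (algebraMap B' B)) • (⊤ : Submodule B' L') := by
  set J := RingHom.ker (algebraMap B' B) with hJ
  have hex : Function.Exact (J.subtype : J →ₗ[B'] B') (Algebra.linearMap B' B) := by
    intro x
    constructor
    · intro hx
      exact ⟨⟨x, hx⟩, rfl⟩
    · rintro ⟨y, rfl⟩
      exact y.2
  have hex2 := rTensor_exact L' hex hsurj
  have h3 : (LinearMap.rTensor L' (Algebra.linearMap B' B)) ((1 : B') ⊗ₜ[B'] l) = 0 := by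
    simpa using h1
  obtain ⟨t, ht⟩ := (hex2 _).mp h3
  have h4 : l = TensorProduct.lid B' L' (LinearMap.rTensor L' (J.subtype : J →ₗ[B'] B') t) := by
    rw [ht]; simp
  rw [h4]
  clear ht h4
  induction t using TensorProduct.induction_on with
  | zero => simp
  | tmul j l' =>
    simp only [LinearMap.rTensor_tmul, Submodule.subtype_apply, TensorProduct.lid_tmul]
    exact Submodule.smul_mem_smul j.2 Submodule.mem_top
  | add x y hx hy =>
    rw [map_add, map_add]
    exact add_mem hx hy

end Groth.Agent.Helper22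

namespace Groth.Agent.Helper22

theorem exists_finset_span_tmul (R S M : Type u) [CommRing R] [CommRing S] [Algebra R S]
    [AddCommGroup M] [Module R M] [Module.Finite S (S ⊗[R] M)] :
    ∃ s : Finset M, Submodule.span S ((fun m => ((1 : S) ⊗ₜ[R] m : S ⊗[R] M)) '' (s : Set M)) = ⊤ := by
  classical
  obtain ⟨G, hG⟩ := (Module.Finite.fg_top : (⊤ : Submodule S (S ⊗[R] M)).FG)
  have key : ∀ t : S ⊗[R] M, ∃ s : Finset M,
      t ∈ Submodule.span S ((fun m => ((1 : S) ⊗ₜ[R] m : S ⊗[R] M)) '' (s : Set M)) := by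
    intro t
    induction t using TensorProduct.induction_on with
    | zero => exact ⟨∅, zero_mem _⟩
    | tmul b m =>
      refine ⟨{m}, ?_⟩
      have : (b ⊗ₜ[R] m : S ⊗[R] M) = b • ((1 : S) ⊗ₜ[R] m) := by
        rw [TensorProduct.smul_tmul', smul_eq_mul, mul_one]
      rw [this]
      exact Submodule.smul_mem _ _ (Submodule.subset_span ⟨m, by simp, rfl⟩)
    | add x y hx hy =>
      obtain ⟨s1, h1⟩ := hx
      obtain ⟨s2, h2⟩ := hy
      refine ⟨s1 ∪ s2, add_mem ?_ ?_⟩
      · exact Submodule.span_mono (Set.image_mono (by simp)) h1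
      · exact Submodule.span_mono (Set.image_mono (by simp)) h2
  choose f hf using key
  refine ⟨G.biUnion f, ?_⟩
  rw [eq_top_iff, ← hG, Submodule.span_le]
  intro g hg
  refine Submodule.span_mono (Set.image_mono ?_) (hf g)
  intro m hm
  simp only [Finset.coe_biUnion, Set.mem_iUnion]
  exact ⟨g, hg, hm⟩

/-- If the elements `1 ⊗ l`, `l ∈ L''`, span `S ⊗ L'`, then `S ⊗ (L' ⧸ L'')` vanishes. -/
theorem subsingleton_tensor_quotient (R S M : Type u) [CommRing R] [CommRing S] [Algebra R S]
    [AddCommGroup M] [Module R M] (N : Submodule R M)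
    (h : Submodule.span S ((fun m => ((1 : S) ⊗ₜ[R] m : S ⊗[R] M)) '' (N : Set M)) = ⊤) :
    Subsingleton (S ⊗[R] (M ⧸ N)) := by
  have hsurj : Function.Surjective (LinearMap.baseChange S N.mkQ) := by
    rw [LinearMap.baseChange_eq_ltensor]
    exact LinearMap.lTensor_surjective S N.mkQ_surjective
  have hzero : ∀ t : S ⊗[R] M, LinearMap.baseChange S N.mkQ t = 0 := by
    intro t
    have ht : t ∈ Submodule.span S ((fun m => ((1 : S) ⊗ₜ[R] m : S ⊗[R] M)) '' (N : Set M)) := by
      rw [h]; trivial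
    induction ht using Submodule.span_induction with
    | mem x hx =>
      obtain ⟨m, hm, rfl⟩ := hx
      simp only [LinearMap.baseChange_tmul, Submodule.mkQ_apply]
      rw [(Submodule.Quotient.mk_eq_zero N).mpr hm, TensorProduct.tmul_zero]
    | zero => simp
    | add x y _ _ hx hy => rw [map_add, hx, hy, add_zero]
    | smul a x _ hx => rw [map_smul, hx, smul_zero]
  refine ⟨fun x y => ?_⟩
  obtain ⟨x', rfl⟩ := hsurj x
  obtain ⟨y', rfl⟩ := hsurj y
  rw [hzero, hzero]

end Groth.Agent.Helper22
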