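import Mathlib
import Groth.Agent.Lib.Helper1.LocalCriterion
import Groth.Agent.Lib.Helper22.EtMil

/-!
# Descent of flatness along a Milnor square
-/

set_option autoImplicit false

namespace Groth.Agent.Helper22.MilFlat

open TensorProduct Function Groth.Agent.Helper1 Groth.Agent.Helper22

universe u

section Tor

variable {R : Type u} [CommRing R] {M : Type u} [AddCommGroup M] [Module R M]

/-- If `R → S` is surjective with kernel `I`, `I ⊗ M → M` is injective and `S ⊗ M` is flat over `S`,
then `Tor₁(Q, M) = 0` for every `S`-module `Q`. -/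
theorem torVanish_of_surjective (S : Type u) [CommRing S] [Algebra R S]
    (hS : Surjective (algebraMap R S))
    (H1 : Injective ((RingHom.ker (algebraMap R S)).subtype.rTensor M))
    [Module.Flat S (S ⊗[R] M)]
    (Q : Type u) [AddCommGroup Q] [Module R Q] [Module S Q] [IsScalarTower R S Q] :
    TorVanish R M Q := by
  have hexact : Exact (RingHom.ker (algebraMap R S)).subtype (Algebra.linearMap R S) := by
    intro r
    constructor
    · intro hr
      exact ⟨⟨r, hr⟩, rfl⟩
    · rintro ⟨x, rfl⟩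
      exact x.2
  have h0 : TorVanish R M S :=
    TorVanish.of_presentation (RingHom.ker (algebraMap R S)).subtype (Algebra.linearMap R S)
      hexact hS H1
  have hinj : Injective ((presι R M).baseChange S) := h0
  have hex : Exact ((presι R M).baseChange S) ((presπ R M).baseChange S) :=
    lTensor_exact S (pres_exact R M) (presπ_surjective R M)
  have hsurj : Surjective ((presπ R M).baseChange S) :=
    LinearMap.lTensor_surjective S (presπ_surjective R M)
  have h1 : Injective (((presι R M).baseChange S).lTensor Q) :=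
    lTensor_injective_of_exact_of_flat _ _ hinj hex hsurj Q
  exact lTensor_injective_of_baseChange_lTensor_injective S Q (presι R M) h1

/-- Same, for `R`-modules `Q` killed by the kernel. -/
theorem torVanish_of_surjective' (S : Type u) [CommRing S] [Algebra R S]
    (hS : Surjective (algebraMap R S))
    (H1 : Injective ((RingHom.ker (algebraMap R S)).subtype.rTensor M))
    [Module.Flat S (S ⊗[R] M)]
    (Q : Type u) [AddCommGroup Q] [Module R Q]
    (hQ : ∀ r : R, algebraMap R S r = 0 → ∀ q : Q, r • q = 0) :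
    TorVanish R M Q := by
  have hwd : ∀ r r' : R, algebraMap R S r = algebraMap R S r' → ∀ q : Q, r • q = r' • q := by
    intro r r' h q
    have := hQ (r - r') (by rw [map_sub, h, sub_self]) q
    rw [sub_smul, sub_eq_zero] at this
    exact this
  letI : SMul S Q := ⟨fun s q => (Function.surjInv hS s) • q⟩
  have hsmul : ∀ (c : R) (x : Q), (algebraMap R S c) • x = c • x := by
    intro c x
    exact hwd _ _ (Function.surjInv_eq hS _) x
  letI : Module S Q := Function.Surjective.moduleLeft (algebraMap R S) hS hsmul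
  haveI : IsScalarTower R S Q := by
    refine ⟨fun r s q => ?_⟩
    obtain ⟨s, rfl⟩ := hS s
    rw [Algebra.smul_def, ← map_mul, hsmul, hsmul, mul_smul]
  exact torVanish_of_surjective S hS H1 Q

end Tor

section Main

variable {B' B A' A : Type u} [CommRing B'] [CommRing B] [CommRing A'] [CommRing A]
  [Algebra B' B] [Algebra B' A'] [Algebra B A] [Algebra A' A] [Algebra B' A]
  [IsScalarTower B' B A] [IsScalarTower B' A' A]

/-- elements of `J = ker (A' → A)` lift to `J' = ker (B' → B)` -/
theorem exists_lift_of_ker (hsq : EtMil.IsFibreSquare B' B A' A) (x : A')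
    (hx : algebraMap A' A x = 0) :
    ∃ r : B', algebraMap B' B r = 0 ∧ algebraMap B' A' r = x := by
  obtain ⟨r, ⟨h1, h2⟩, _⟩ := hsq.2 0 x (by rw [map_zero, hx])
  exact ⟨r, h1, h2⟩

theorem algebraMap_ker_mul (r : B') (hr : algebraMap B' B r = 0) (a' : A') :
    algebraMap A' A (algebraMap B' A' r * a') = 0 := by
  rw [map_mul, ← IsScalarTower.algebraMap_apply, IsScalarTower.algebraMap_apply B' B A, hr,
    map_zero, zero_mul]

variable (A') in
/-- the map `𝔟 → 𝔟 A'` -/
noncomputable def fmap (𝔟 : Ideal B') : ↥𝔟 →ₗ[B'] ↥(Ideal.map (algebraMap B' A') 𝔟) where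
  toFun x := ⟨algebraMap B' A' x, Ideal.mem_map_of_mem _ x.2⟩
  map_add' x y := Subtype.ext (by simp)
  map_smul' c x := Subtype.ext (by simp [Algebra.smul_def])

theorem fmap_injective (hsq : EtMil.IsFibreSquare B' B A' A) (𝔟 : Ideal B')
    (h𝔟 : 𝔟 ≤ RingHom.ker (algebraMap B' B)) : Injective (fmap A' 𝔟) := by
  intro x y hxy
  apply Subtype.ext
  apply fibreSquare_ext hsq
  · rw [h𝔟 x.2, h𝔟 y.2]
  · exact congrArg Subtype.val hxy

theorem mem_range_fmap (hsq : EtMil.IsFibreSquare B' B A' A) (𝔟 : Ideal B') (x : A')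
    (hx : x ∈ Ideal.map (algebraMap B' A') 𝔟) :
    ∀ r : B', algebraMap B' B r = 0 → ∃ β ∈ 𝔟, algebraMap B' A' β = algebraMap B' A' r * x := by
  refine Submodule.span_induction (p := fun x _ => ∀ r : B', algebraMap B' B r = 0 →
    ∃ β ∈ 𝔟, algebraMap B' A' β = algebraMap B' A' r * x) ?_ ?_ ?_ ?_ hx
  · rintro _ ⟨β₀, hβ₀, rfl⟩ r _
    exact ⟨r * β₀, 𝔟.mul_mem_left _ hβ₀, by rw [map_mul]⟩
  · intro r _
    exact ⟨0, 𝔟.zero_mem, by simp⟩
  · intro x y _ _ hx hy r hr
    obtain ⟨β₁, h1, e1⟩ := hx r hr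
    obtain ⟨β₂, h2, e2⟩ := hy r hr
    exact ⟨β₁ + β₂, 𝔟.add_mem h1 h2, by rw [map_add, e1, e2, mul_add]⟩
  · intro a' x _ hx r hr
    obtain ⟨r'', hr'', e⟩ := exists_lift_of_ker hsq (algebraMap B' A' r * a')
      (algebraMap_ker_mul r hr a')
    obtain ⟨β, hβ, e2⟩ := hx r'' hr''
    exact ⟨β, hβ, by rw [e2, e, smul_eq_mul, mul_assoc]⟩

variable (L' : Type u) [AddCommGroup L'] [Module B' L']

/-- if `𝔟 ⊗ L' → 𝔟A' ⊗ L'` is injective then so is `𝔟 ⊗ L' → L'` -/
theorem subtype_rTensor_injective_of [Module.Flat A' (A' ⊗[B'] L')] (𝔟 : Ideal B')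
    (hf : Injective ((fmap A' 𝔟).rTensor L')) : Injective (𝔟.subtype.rTensor L') := by
  have h1 : Injective (((Ideal.map (algebraMap B' A') 𝔟).subtype.restrictScalars B').rTensor L') :=
    rTensor_injective_of_flat_baseChange A' L' (Ideal.map (algebraMap B' A') 𝔟).subtype
      (Submodule.injective_subtype _)
  have h2 : ((Ideal.map (algebraMap B' A') 𝔟).subtype.restrictScalars B') ∘ₗ (fmap A' 𝔟) =
      (Algebra.linearMap B' A') ∘ₗ 𝔟.subtype := by
    ext x; rfl
  have h3 : Injective (((Algebra.linearMap B' A') ∘ₗ 𝔟.subtype).rTensor L') := by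
    rw [← h2, LinearMap.rTensor_comp, LinearMap.coe_comp]
    exact h1.comp hf
  rw [LinearMap.rTensor_comp, LinearMap.coe_comp] at h3
  exact Function.Injective.of_comp h3

/-- `J' ⊗ L' → L'` is injective -/
theorem ker_subtype_rTensor_injective (hsq : EtMil.IsFibreSquare B' B A' A)
    [Module.Flat A' (A' ⊗[B'] L')] :
    Injective ((RingHom.ker (algebraMap B' B)).subtype.rTensor L') := by
  apply subtype_rTensor_injective_of (A' := A')
  have hbij : Bijective (fmap A' (RingHom.ker (algebraMap B' B))) := by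
    refine ⟨fmap_injective hsq _ le_rfl, ?_⟩
    rintro ⟨x, hx⟩
    have hxJ : algebraMap A' A x = 0 := by
      have hle : Ideal.map (algebraMap B' A') (RingHom.ker (algebraMap B' B)) ≤
          RingHom.ker (algebraMap A' A) := by
        rw [Ideal.map_le_iff_le_comap]
        intro r hr
        rw [Ideal.mem_comap, RingHom.mem_ker, ← IsScalarTower.algebraMap_apply,
          IsScalarTower.algebraMap_apply B' B A, hr, map_zero]
      exact hle hx
    obtain ⟨r, hr1, hr2⟩ := exists_lift_of_ker hsq x hxJ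
    exact ⟨⟨r, hr1⟩, Subtype.ext hr2⟩
  exact ((LinearEquiv.ofBijective _ hbij).rTensor L').injective

/-- `𝔟 ⊗ L' → L'` is injective for every ideal `𝔟 ≤ J'` -/
theorem subtype_rTensor_injective_of_le_ker (hsq : EtMil.IsFibreSquare B' B A' A)
    [Module.Flat B (B ⊗[B'] L')] [Module.Flat A' (A' ⊗[B'] L')] (𝔟 : Ideal B')
    (h𝔟 : 𝔟 ≤ RingHom.ker (algebraMap B' B)) : Injective (𝔟.subtype.rTensor L') := by
  apply subtype_rTensor_injective_of (A' := A')
  have hT : TorVanish B' L'
      (↥(Ideal.map (algebraMap B' A') 𝔟) ⧸ LinearMap.range (fmap A' 𝔟)) := by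
    apply torVanish_of_surjective' B (fibreSquare_surjective hsq)
      (ker_subtype_rTensor_injective L' hsq)
    intro r hr q
    obtain ⟨x, rfl⟩ := Submodule.Quotient.mk_surjective _ q
    rw [← Submodule.Quotient.mk_smul, Submodule.Quotient.mk_eq_zero]
    obtain ⟨β, hβ, e⟩ := mem_range_fmap hsq 𝔟 x.1 x.2 r hr
    refine ⟨⟨β, hβ⟩, Subtype.ext ?_⟩
    show algebraMap B' A' β = r • (x : A')
    rw [e, Algebra.smul_def]
  exact hT.rTensor_injective (fmap A' 𝔟) (LinearMap.range (fmap A' 𝔟)).mkQ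
    (fmap_injective hsq 𝔟 h𝔟) (LinearMap.exact_map_mkQ_range _) (Submodule.mkQ_surjective _)

/-- **Descent of flatness along a Milnor square.** -/
theorem flat_of_fibreSquare (hsq : EtMil.IsFibreSquare B' B A' A)
    [Module.Flat B (B ⊗[B'] L')] [Module.Flat A' (A' ⊗[B'] L')] : Module.Flat B' L' := by
  rw [Module.Flat.iff_rTensor_injective']
  intro 𝔞
  have hBsurj := fibreSquare_surjective hsq
  have hψsurj : Surjective (fmap B 𝔞) := by
    rintro ⟨y, hy⟩
    obtain ⟨x, hx, rfl⟩ := (Ideal.mem_map_iff_of_surjective (algebraMap B' B) hBsurj).mp hy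
    exact ⟨⟨x, hx⟩, rfl⟩
  have hex : Exact (Submodule.inclusion (inf_le_left : 𝔞 ⊓ RingHom.ker (algebraMap B' B) ≤ 𝔞))
      (fmap B 𝔞) := by
    intro a
    constructor
    · intro ha
      have h0 : algebraMap B' B a = 0 := congrArg Subtype.val ha
      exact ⟨⟨a, ⟨a.2, h0⟩⟩, Subtype.ext rfl⟩
    · rintro ⟨x, rfl⟩
      apply Subtype.ext
      exact x.2.2
  rw [injective_iff_map_eq_zero]
  intro z hz
  have h2 : ((Ideal.map (algebraMap B' B) 𝔞).subtype.restrictScalars B') ∘ₗ (fmap B 𝔞) =
      (Algebra.linearMap B' B) ∘ₗ 𝔞.subtype := by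
    ext x; rfl
  have h1 : ((Ideal.map (algebraMap B' B) 𝔞).subtype.restrictScalars B').rTensor L'
      ((fmap B 𝔞).rTensor L' z) = 0 := by
    rw [← LinearMap.comp_apply, ← LinearMap.rTensor_comp, h2, LinearMap.rTensor_comp,
      LinearMap.comp_apply, hz, map_zero]
  have h3 : (fmap B 𝔞).rTensor L' z = 0 :=
    (rTensor_injective_of_flat_baseChange B L' (Ideal.map (algebraMap B' B) 𝔞).subtype
      (Submodule.injective_subtype _)) (by rw [h1, map_zero])
  obtain ⟨z', rfl⟩ := (rTensor_exact L' hex hψsurj z).mp h3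
  have h4 : (𝔞 ⊓ RingHom.ker (algebraMap B' B)).subtype.rTensor L' z' = 0 := by
    have h5 : (𝔞 ⊓ RingHom.ker (algebraMap B' B)).subtype = 𝔞.subtype ∘ₗ
        (Submodule.inclusion (inf_le_left : 𝔞 ⊓ RingHom.ker (algebraMap B' B) ≤ 𝔞)) := by
      ext; rfl
    rw [h5, LinearMap.rTensor_comp, LinearMap.comp_apply, hz]
  have h6 := subtype_rTensor_injective_of_le_ker L' hsq (𝔞 ⊓ RingHom.ker (algebraMap B' B))
    inf_le_right
  rw [(injective_iff_map_eq_zero _).mp h6 z' h4, map_zero]

end Main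

end Groth.Agent.Helper22.MilFlat
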