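import Mathlib
import Groth.Agent.Lib.Helper22.MilFlat

/-!
# Glueing modules along a Milnor square: the base changes of a glued module
-/

set_option autoImplicit false

namespace Groth.Agent.Helper22.MilGlue

open TensorProduct Function Groth.Agent.Helper22 Groth.Agent.Helper22.MilFlat

universe u

section General

variable {R S : Type u} [CommRing R] [CommRing S] [Algebra R S]
  {M : Type u} [AddCommGroup M] [Module R M]

theorem exists_one_tmul (hsurj : Surjective (algebraMap R S)) (z : S ⊗[R] M) :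
    ∃ m : M, (1 : S) ⊗ₜ[R] m = z := by
  induction z using TensorProduct.induction_on with
  | zero => exact ⟨0, by simp⟩
  | tmul s m =>
    obtain ⟨r, rfl⟩ := hsurj s
    refine ⟨r • m, ?_⟩
    rw [TensorProduct.tmul_smul, TensorProduct.smul_tmul', Algebra.smul_def, mul_one]
  | add x y hx hy =>
    obtain ⟨m1, rfl⟩ := hx
    obtain ⟨m2, rfl⟩ := hy
    exact ⟨m1 + m2, by rw [TensorProduct.tmul_add]⟩

theorem one_tmul_eq_zero_of_mem_smul (l : M)
    (hl : l ∈ (RingHom.ker (algebraMap R S)) • (⊤ : Submodule R M)) :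
    ((1 : S) ⊗ₜ[R] l : S ⊗[R] M) = 0 := by
  refine Submodule.smul_induction_on hl ?_ ?_
  · intro r hr m _
    rw [TensorProduct.tmul_smul, TensorProduct.smul_tmul', Algebra.smul_def, mul_one,
      (RingHom.mem_ker).mp hr, TensorProduct.zero_tmul]
  · intro x y hx hy
    rw [TensorProduct.tmul_add, hx, hy, add_zero]

end General

section Glue

variable {B' B A' A : Type u} [CommRing B'] [CommRing B] [CommRing A'] [CommRing A]
  [Algebra B' B] [Algebra B' A'] [Algebra B A] [Algebra A' A] [Algebra B' A]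
  [IsScalarTower B' B A] [IsScalarTower B' A' A]
  {N M' L : Type u} [AddCommGroup N] [Module B N] [Module B' N] [IsScalarTower B' B N]
  [AddCommGroup M'] [Module A' M'] [Module B' M'] [IsScalarTower B' A' M']
  [AddCommGroup L] [Module B' L]

/-- Glueing data realised by a `B'`-module `L` with two projections. -/
structure IsGlue (φ : A ⊗[B] N ≃ₗ[A] A ⊗[A'] M') (p₁ : L →ₗ[B'] N) (p₂ : L →ₗ[B'] M') : Prop where
  inj : ∀ l : L, p₁ l = 0 → p₂ l = 0 → l = 0
  img : ∀ (n : N) (m' : M'), φ ((1 : A) ⊗ₜ[B] n) = (1 : A) ⊗ₜ[A'] m' ↔ ∃ l : L, p₁ l = n ∧ p₂ l = m'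

variable {φ : A ⊗[B] N ≃ₗ[A] A ⊗[A'] M'} {p₁ : L →ₗ[B'] N} {p₂ : L →ₗ[B'] M'}

theorem IsGlue.compat (h : IsGlue φ p₁ p₂) (l : L) :
    φ ((1 : A) ⊗ₜ[B] p₁ l) = (1 : A) ⊗ₜ[A'] p₂ l :=
  (h.img _ _).mpr ⟨l, rfl, rfl⟩

theorem p₁_eq_zero_of_mem (p₁ : L →ₗ[B'] N) (l : L)
    (hl : l ∈ (RingHom.ker (algebraMap B' B)) • (⊤ : Submodule B' L)) : p₁ l = 0 := by
  refine Submodule.smul_induction_on hl ?_ ?_
  · intro r hr m _
    rw [map_smul, ← IsScalarTower.algebraMap_smul B r (p₁ m), (RingHom.mem_ker).mp hr, zero_smul]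
  · intro x y hx hy
    rw [map_add, hx, hy, add_zero]

theorem IsGlue.surjective_p₁ (hsq : EtMil.IsFibreSquare B' B A' A) (h : IsGlue φ p₁ p₂) :
    Surjective p₁ := by
  intro n
  obtain ⟨m', hm'⟩ := exists_one_tmul hsq.1 (φ ((1 : A) ⊗ₜ[B] n))
  obtain ⟨l, hl, _⟩ := (h.img n m').mp hm'.symm
  exact ⟨l, hl⟩

/-- the image of `p₂` generates `M'` over `A'` -/
theorem IsGlue.span_range_p₂ (hsq : EtMil.IsFibreSquare B' B A' A) (h : IsGlue φ p₁ p₂) :
    Submodule.span A' (Set.range p₂) = ⊤ := by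
  have key : ∀ t : A ⊗[B] N, ∃ g ∈ Submodule.span A' (Set.range p₂),
      φ t = (1 : A) ⊗ₜ[A'] g := by
    intro t
    induction t using TensorProduct.induction_on with
    | zero => exact ⟨0, zero_mem _, by simp⟩
    | tmul a n =>
      obtain ⟨a', rfl⟩ := hsq.1 a
      obtain ⟨l, rfl⟩ := h.surjective_p₁ hsq n
      refine ⟨a' • p₂ l, Submodule.smul_mem _ _ (Submodule.subset_span ⟨l, rfl⟩), ?_⟩
      have : (algebraMap A' A a' ⊗ₜ[B] p₁ l : A ⊗[B] N) =
          algebraMap A' A a' • ((1 : A) ⊗ₜ[B] p₁ l) := by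
        rw [TensorProduct.smul_tmul', smul_eq_mul, mul_one]
      rw [this, map_smul, h.compat, TensorProduct.tmul_smul, algebraMap_smul]
    | add x y hx hy =>
      obtain ⟨g1, hg1, e1⟩ := hx
      obtain ⟨g2, hg2, e2⟩ := hy
      exact ⟨g1 + g2, add_mem hg1 hg2, by rw [map_add, e1, e2, TensorProduct.tmul_add]⟩
  have hJ : (RingHom.ker (algebraMap A' A)) • (⊤ : Submodule A' M') ≤
      Submodule.span A' (Set.range p₂) := by
    rw [Submodule.smul_le]
    intro j hj m'' _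
    have h0 : φ ((1 : A) ⊗ₜ[B] (0 : N)) = (1 : A) ⊗ₜ[A'] (j • m'') := by
      rw [TensorProduct.tmul_zero, map_zero, TensorProduct.tmul_smul, TensorProduct.smul_tmul',
        Algebra.smul_def, mul_one, (RingHom.mem_ker).mp hj, TensorProduct.zero_tmul]
    obtain ⟨l, _, hl⟩ := (h.img 0 (j • m'')).mp h0
    exact Submodule.subset_span ⟨l, hl⟩
  rw [eq_top_iff]
  intro m' _
  obtain ⟨g, hg, e⟩ := key (φ.symm ((1 : A) ⊗ₜ[A'] m'))
  rw [LinearEquiv.apply_symm_apply] at e
  have h1 : ((1 : A) ⊗ₜ[A'] (m' - g) : A ⊗[A'] M') = 0 := by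
    rw [TensorProduct.tmul_sub, e, sub_self]
  have h2 := mem_smul_top_of_tmul_eq_zero hsq.1 (m' - g) h1
  have : m' = (m' - g) + g := by abel
  rw [this]
  exact add_mem (hJ h2) hg

/-- elements of `J M'` lift to `J' L` -/
theorem IsGlue.exists_lift_of_mem_smul (hsq : EtMil.IsFibreSquare B' B A' A) (h : IsGlue φ p₁ p₂)
    (m' : M') (hm' : m' ∈ (RingHom.ker (algebraMap A' A)) • (⊤ : Submodule A' M')) :
    ∃ l₀ ∈ (RingHom.ker (algebraMap B' B)) • (⊤ : Submodule B' L), p₂ l₀ = m' := by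
  have key : ∀ m'' : M', ∀ j : A', algebraMap A' A j = 0 →
      ∃ l₀ ∈ (RingHom.ker (algebraMap B' B)) • (⊤ : Submodule B' L), p₂ l₀ = j • m'' := by
    intro m''
    have hm'' : m'' ∈ Submodule.span A' (Set.range p₂) := by
      rw [h.span_range_p₂ hsq]; trivial
    refine Submodule.span_induction (p := fun m'' _ => ∀ j : A', algebraMap A' A j = 0 →
      ∃ l₀ ∈ (RingHom.ker (algebraMap B' B)) • (⊤ : Submodule B' L), p₂ l₀ = j • m'')
      ?_ ?_ ?_ ?_ hm''
    · rintro _ ⟨l, rfl⟩ j hj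
      obtain ⟨r, hr1, hr2⟩ := exists_lift_of_ker hsq j hj
      refine ⟨r • l, Submodule.smul_mem_smul ((RingHom.mem_ker).mpr hr1) Submodule.mem_top, ?_⟩
      rw [map_smul, ← hr2, IsScalarTower.algebraMap_smul]
    · intro j _
      exact ⟨0, zero_mem _, by simp⟩
    · intro x y _ _ hx hy j hj
      obtain ⟨l1, h1, e1⟩ := hx j hj
      obtain ⟨l2, h2, e2⟩ := hy j hj
      exact ⟨l1 + l2, add_mem h1 h2, by rw [map_add, e1, e2, smul_add]⟩
    · intro a' x _ hx j hj
      obtain ⟨l1, h1, e1⟩ := hx (j * a') (by rw [map_mul, hj, zero_mul])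
      exact ⟨l1, h1, by rw [e1, mul_smul]⟩
  refine Submodule.smul_induction_on hm' ?_ ?_
  · intro j hj m'' _
    exact key m'' j ((RingHom.mem_ker).mp hj)
  · intro x y hx hy
    obtain ⟨l1, h1, e1⟩ := hx
    obtain ⟨l2, h2, e2⟩ := hy
    exact ⟨l1 + l2, add_mem h1 h2, by rw [map_add, e1, e2]⟩

theorem IsGlue.mem_smul_of_p₁_eq_zero (hsq : EtMil.IsFibreSquare B' B A' A) (h : IsGlue φ p₁ p₂)
    (l : L) (hl : p₁ l = 0) : l ∈ (RingHom.ker (algebraMap B' B)) • (⊤ : Submodule B' L) := by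
  have h1 : ((1 : A) ⊗ₜ[A'] p₂ l : A ⊗[A'] M') = 0 := by
    rw [← h.compat, hl, TensorProduct.tmul_zero, map_zero]
  have h2 := mem_smul_top_of_tmul_eq_zero hsq.1 (p₂ l) h1
  obtain ⟨l₀, hl₀, e⟩ := h.exists_lift_of_mem_smul hsq (p₂ l) h2
  have h3 : l - l₀ = 0 := by
    apply h.inj
    · rw [map_sub, hl, p₁_eq_zero_of_mem p₁ l₀ hl₀, sub_zero]
    · rw [map_sub, e, sub_self]
  rw [sub_eq_zero.mp h3]
  exact hl₀

/-- `B ⊗ L ≅ N` -/
theorem IsGlue.bijective_liftBaseChange_p₁ (hsq : EtMil.IsFibreSquare B' B A' A)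
    (h : IsGlue φ p₁ p₂) : Bijective (LinearMap.liftBaseChange B p₁) := by
  constructor
  · rw [injective_iff_map_eq_zero]
    intro z hz
    obtain ⟨l, rfl⟩ := exists_one_tmul (fibreSquare_surjective hsq) z
    rw [LinearMap.liftBaseChange_tmul, one_smul] at hz
    exact one_tmul_eq_zero_of_mem_smul l (h.mem_smul_of_p₁_eq_zero hsq l hz)
  · intro n
    obtain ⟨l, rfl⟩ := h.surjective_p₁ hsq n
    exact ⟨(1 : B) ⊗ₜ[B'] l, by rw [LinearMap.liftBaseChange_tmul, one_smul]⟩

theorem IsGlue.surjective_liftBaseChange_p₂ (hsq : EtMil.IsFibreSquare B' B A' A)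
    (h : IsGlue φ p₁ p₂) : Surjective (LinearMap.liftBaseChange A' p₂) := by
  rw [← LinearMap.range_eq_top, eq_top_iff, ← h.span_range_p₂ hsq, Submodule.span_le]
  rintro _ ⟨l, rfl⟩
  exact ⟨(1 : A') ⊗ₜ[B'] l, by rw [LinearMap.liftBaseChange_tmul, one_smul]⟩

/-- the key compatibility: `A' ⊗ L → M' → A ⊗ M'` factors through `A ⊗_{B'} L ≅ A ⊗_B N ≅ A ⊗_{A'} M'` -/
theorem IsGlue.theta_rho (h : IsGlue φ p₁ p₂) (z : A' ⊗[B'] L) :
    φ ((LinearMap.liftBaseChange B p₁).baseChange A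
      ((AlgebraTensorModule.cancelBaseChange B' B B A L).symm
        ((IsScalarTower.toAlgHom B' A' A).toLinearMap.rTensor L z))) =
      (1 : A) ⊗ₜ[A'] (LinearMap.liftBaseChange A' p₂ z) := by
  induction z using TensorProduct.induction_on with
  | zero => simp
  | tmul a' l =>
    rw [LinearMap.rTensor_tmul, AlgebraTensorModule.cancelBaseChange_symm_tmul,
      LinearMap.baseChange_tmul, LinearMap.liftBaseChange_tmul, one_smul,
      LinearMap.liftBaseChange_tmul]
    have e1 : ((IsScalarTower.toAlgHom B' A' A).toLinearMap a' ⊗ₜ[B] p₁ l : A ⊗[B] N) =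
        algebraMap A' A a' • ((1 : A) ⊗ₜ[B] p₁ l) := by
      rw [TensorProduct.smul_tmul', smul_eq_mul, mul_one]; rfl
    rw [e1, map_smul, h.compat, TensorProduct.tmul_smul, algebraMap_smul]
  | add x y hx hy =>
    simp only [map_add, hx, hy, TensorProduct.tmul_add]

/-- `A' ⊗ L ≅ M'` -/
theorem IsGlue.bijective_liftBaseChange_p₂ (hsq : EtMil.IsFibreSquare B' B A' A)
    (h : IsGlue φ p₁ p₂) : Bijective (LinearMap.liftBaseChange A' p₂) := by
  refine ⟨?_, h.surjective_liftBaseChange_p₂ hsq⟩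
  rw [injective_iff_map_eq_zero]
  intro z hz
  -- step 1: `ρ z = 0`
  have hC1 := h.bijective_liftBaseChange_p₁ hsq
  have hinjbc : Injective ((LinearMap.liftBaseChange B p₁).baseChange A) := by
    have hcomp : ((LinearEquiv.ofBijective _ hC1).symm.toLinearMap.baseChange A) ∘ₗ
        ((LinearMap.liftBaseChange B p₁).baseChange A) = LinearMap.id := by
      rw [← LinearMap.baseChange_comp]
      have : (LinearEquiv.ofBijective _ hC1).symm.toLinearMap ∘ₗ (LinearMap.liftBaseChange B p₁) =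
          LinearMap.id := by
        exact LinearMap.ext fun x => (LinearEquiv.ofBijective _ hC1).symm_apply_apply x
      rw [this, LinearMap.baseChange_id]
    intro x y hxy
    have := congrArg ((LinearEquiv.ofBijective _ hC1).symm.toLinearMap.baseChange A) hxy
    rw [← LinearMap.comp_apply, ← LinearMap.comp_apply, hcomp] at this
    exact this
  have hρ : (IsScalarTower.toAlgHom B' A' A).toLinearMap.rTensor L z = 0 := by
    have h1 := h.theta_rho z
    rw [hz, TensorProduct.tmul_zero] at h1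
    have h2 := hinjbc (by rw [φ.map_eq_zero_iff.mp h1, map_zero] :
      (LinearMap.liftBaseChange B p₁).baseChange A
        ((AlgebraTensorModule.cancelBaseChange B' B B A L).symm
          ((IsScalarTower.toAlgHom B' A' A).toLinearMap.rTensor L z)) =
      (LinearMap.liftBaseChange B p₁).baseChange A 0)
    exact (AlgebraTensorModule.cancelBaseChange B' B B A L).symm.map_eq_zero_iff.mp h2
  -- step 2: `z` comes from `J ⊗ L`
  have hex : Exact (((RingHom.ker (algebraMap A' A)).restrictScalars B').subtype)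
      (IsScalarTower.toAlgHom B' A' A).toLinearMap := by
    intro x
    constructor
    · intro hx
      exact ⟨⟨x, hx⟩, rfl⟩
    · rintro ⟨y, rfl⟩
      exact y.2
  obtain ⟨w, rfl⟩ := (rTensor_exact L hex hsq.1 z).mp hρ
  -- step 3: elements coming from `J ⊗ L` are of the form `1 ⊗ l₀`, `l₀ ∈ J' L`
  have key : ∀ w : ↥((RingHom.ker (algebraMap A' A)).restrictScalars B') ⊗[B'] L,
      ∃ l₀ ∈ (RingHom.ker (algebraMap B' B)) • (⊤ : Submodule B' L),
        ((RingHom.ker (algebraMap A' A)).restrictScalars B').subtype.rTensor L w =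
          (1 : A') ⊗ₜ[B'] l₀ := by
    intro w
    induction w using TensorProduct.induction_on with
    | zero => exact ⟨0, zero_mem _, by simp⟩
    | tmul j l =>
      obtain ⟨r, hr1, hr2⟩ := exists_lift_of_ker hsq j.1 j.2
      refine ⟨r • l, Submodule.smul_mem_smul ((RingHom.mem_ker).mpr hr1) Submodule.mem_top, ?_⟩
      rw [LinearMap.rTensor_tmul, TensorProduct.tmul_smul, TensorProduct.smul_tmul',
        Algebra.smul_def, mul_one, hr2]
      rfl
    | add x y hx hy =>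
      obtain ⟨l1, h1, e1⟩ := hx
      obtain ⟨l2, h2, e2⟩ := hy
      exact ⟨l1 + l2, add_mem h1 h2, by rw [map_add, e1, e2, TensorProduct.tmul_add]⟩
  obtain ⟨l₀, hl₀, e⟩ := key w
  rw [e] at hz ⊢
  rw [LinearMap.liftBaseChange_tmul, one_smul] at hz
  rw [h.inj l₀ (p₁_eq_zero_of_mem p₁ l₀ hl₀) hz, TensorProduct.tmul_zero]

end Glue

end Groth.Agent.Helper22.MilGlue
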