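import Mathlib
import Groth.Agent.Lib.Helper22.MilGlue
import Groth.Agent.S14949
import Groth.Agent.S14953
import Groth.Agent.S14954

/-!
# More on Milnor squares: pairs lift, flat modules are fixed points, glue of flat is flat
-/

set_option autoImplicit false

namespace Groth.Agent.Helper22.MilExtra

open TensorProduct Function Groth.Agent.Helper22 Groth.Agent.Helper22.MilFlat
  Groth.Agent.Helper22.MilGlue

universe u

variable {B' B A' A : Type u} [CommRing B'] [CommRing B] [CommRing A'] [CommRing A]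
  [Algebra B' B] [Algebra B' A'] [Algebra B A] [Algebra A' A] [Algebra B' A]
  [IsScalarTower B' B A] [IsScalarTower B' A' A]

/-- elements of `A' ⊗ L` dying in `A ⊗ L` are of the form `1 ⊗ l₀` with `l₀ ∈ J' L` -/
theorem exists_one_tmul_of_rTensor_eq_zero (hsq : EtMil.IsFibreSquare B' B A' A)
    (L : Type u) [AddCommGroup L] [Module B' L] (z : A' ⊗[B'] L)
    (hz : (IsScalarTower.toAlgHom B' A' A).toLinearMap.rTensor L z = 0) :
    ∃ l₀ ∈ (RingHom.ker (algebraMap B' B)) • (⊤ : Submodule B' L), z = (1 : A') ⊗ₜ[B'] l₀ := by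
  have hex : Exact (((RingHom.ker (algebraMap A' A)).restrictScalars B').subtype)
      (IsScalarTower.toAlgHom B' A' A).toLinearMap := by
    intro x
    constructor
    · intro hx
      exact ⟨⟨x, hx⟩, rfl⟩
    · rintro ⟨y, rfl⟩
      exact y.2
  obtain ⟨w, rfl⟩ := (rTensor_exact L hex hsq.1 z).mp hz
  induction w using TensorProduct.induction_on with
  | zero => exact ⟨0, zero_mem _, by simp⟩
  | tmul j l =>
    obtain ⟨r, hr1, hr2⟩ := exists_lift_of_ker hsq j.1 j.2
    refine ⟨r • l, Submodule.smul_mem_smul ((RingHom.mem_ker).mpr hr1) Submodule.mem_top, ?_⟩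
    rw [LinearMap.rTensor_tmul, TensorProduct.tmul_smul, TensorProduct.smul_tmul',
      Algebra.smul_def, mul_one, hr2]
    rfl
  | add x y hx hy =>
    have hx0 : (IsScalarTower.toAlgHom B' A' A).toLinearMap.rTensor L
        (((RingHom.ker (algebraMap A' A)).restrictScalars B').subtype.rTensor L x) = 0 := by
      rw [← LinearMap.comp_apply, ← LinearMap.rTensor_comp, hex.linearMap_comp_eq_zero]; simp
    have hy0 : (IsScalarTower.toAlgHom B' A' A).toLinearMap.rTensor L
        (((RingHom.ker (algebraMap A' A)).restrictScalars B').subtype.rTensor L y) = 0 := by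
      rw [← LinearMap.comp_apply, ← LinearMap.rTensor_comp, hex.linearMap_comp_eq_zero]; simp
    obtain ⟨l1, h1, e1⟩ := hx hx0
    obtain ⟨l2, h2, e2⟩ := hy hy0
    exact ⟨l1 + l2, add_mem h1 h2, by rw [map_add, e1, e2, TensorProduct.tmul_add]⟩

/-- compatible pairs in `(B ⊗ L) × (A' ⊗ L)` come from `L` -/
theorem exists_pair_lift (hsq : EtMil.IsFibreSquare B' B A' A)
    (L : Type u) [AddCommGroup L] [Module B' L] (x : B ⊗[B'] L) (y : A' ⊗[B'] L)
    (hxy : (IsScalarTower.toAlgHom B' B A).toLinearMap.rTensor L x =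
      (IsScalarTower.toAlgHom B' A' A).toLinearMap.rTensor L y) :
    ∃ l : L, (1 : B) ⊗ₜ[B'] l = x ∧ (1 : A') ⊗ₜ[B'] l = y := by
  obtain ⟨l₁, rfl⟩ := exists_one_tmul (fibreSquare_surjective hsq) x
  have hz : (IsScalarTower.toAlgHom B' A' A).toLinearMap.rTensor L (y - (1 : A') ⊗ₜ[B'] l₁) = 0 := by
    rw [map_sub, ← hxy, LinearMap.rTensor_tmul, LinearMap.rTensor_tmul]
    simp
  obtain ⟨l₀, hl₀, e⟩ := exists_one_tmul_of_rTensor_eq_zero hsq L _ hz
  refine ⟨l₁ + l₀, ?_, ?_⟩
  · rw [TensorProduct.tmul_add, one_tmul_eq_zero_of_mem_smul l₀ hl₀, add_zero]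
  · rw [TensorProduct.tmul_add, ← e]; abel

/-- a flat module injects into the pairs -/
theorem eq_zero_of_tmul_eq_zero_of_flat (hsq : EtMil.IsFibreSquare B' B A' A)
    (L' : Type u) [AddCommGroup L'] [Module B' L']
    [Module.Flat B' L'] (l : L') (h1 : ((1 : B) ⊗ₜ[B'] l : B ⊗[B'] L') = 0)
    (h2 : ((1 : A') ⊗ₜ[B'] l : A' ⊗[B'] L') = 0) : l = 0 := by
  have hι : Function.Injective ((Algebra.linearMap B' B).prod (Algebra.linearMap B' A')) := by
    intro x y hxy
    have e1 := congrArg Prod.fst hxy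
    have e2 := congrArg Prod.snd hxy
    exact fibreSquare_ext hsq e1 e2
  have hinj := Module.Flat.rTensor_preserves_injective_linearMap (M := L') _ hι
  have h3 : ((Algebra.linearMap B' B).prod (Algebra.linearMap B' A')).rTensor L'
      ((1 : B') ⊗ₜ[B'] l) = 0 := by
    rw [LinearMap.rTensor_tmul]
    have : ((Algebra.linearMap B' B).prod (Algebra.linearMap B' A')) (1 : B') =
        LinearMap.inl B' B A' 1 + LinearMap.inr B' B A' 1 := by
      simp
    rw [this, TensorProduct.add_tmul, ← LinearMap.rTensor_tmul, ← LinearMap.rTensor_tmul, h1, h2,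
      map_zero, map_zero, add_zero]
  have h4 : ((1 : B') ⊗ₜ[B'] l : B' ⊗[B'] L') = 0 := hinj (by rw [h3, map_zero])
  simpa using congrArg (TensorProduct.lid B' L') h4

/-- a map out of a flat module which is bijective after both base changes is bijective -/
theorem bijective_of_baseChange_bijective
    (hsq : EtMil.IsFibreSquare B' B A' A) {P Q : Type u} [AddCommGroup P] [Module B' P]
    [AddCommGroup Q] [Module B' Q] [Module.Flat B' P] (f : P →ₗ[B'] Q)
    (hB : Function.Bijective (f.baseChange B)) (hA' : Function.Bijective (f.baseChange A')) :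
    Function.Bijective f := by
  constructor
  · rw [injective_iff_map_eq_zero]
    intro x hx
    apply eq_zero_of_tmul_eq_zero_of_flat hsq P x
    · apply hB.1
      rw [LinearMap.baseChange_tmul, hx, TensorProduct.tmul_zero, map_zero]
    · apply hA'.1
      rw [LinearMap.baseChange_tmul, hx, TensorProduct.tmul_zero, map_zero]
  · have key : ∀ (S : Type u) [CommRing S] [Algebra B' S], Function.Bijective (f.baseChange S) →
        Subsingleton (S ⊗[B'] (Q ⧸ LinearMap.range f)) := by
      intro S _ _ hS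
      refine ⟨fun x y => ?_⟩
      have h0 : ∀ z : S ⊗[B'] (Q ⧸ LinearMap.range f), z = 0 := by
        intro z
        obtain ⟨q, rfl⟩ := LinearMap.lTensor_surjective S (Submodule.mkQ_surjective _) z
        obtain ⟨p, rfl⟩ := hS.2 q
        change (LinearMap.range f).mkQ.lTensor S (f.lTensor S p) = 0
        rw [← LinearMap.comp_apply, ← LinearMap.lTensor_comp]
        have : (LinearMap.range f).mkQ ∘ₗ f = 0 := by
          ext p; simp
        rw [this, LinearMap.lTensor_zero, LinearMap.zero_apply]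
      rw [h0 x, h0 y]
    haveI := key B hB
    haveI := key A' hA'
    have hsub : Subsingleton (Q ⧸ LinearMap.range f) :=
      Groth.Agent.S14949.result B' B A' A hsq _
    rw [← LinearMap.range_eq_top]
    exact Submodule.Quotient.subsingleton_iff.mp hsub

section Glue

variable {N M' : Type u} [AddCommGroup N] [Module B N] [Module B' N] [IsScalarTower B' B N]
  [AddCommGroup M'] [Module A' M'] [Module B' M'] [IsScalarTower B' A' M']

/-- the prelude's glued module is a glue in the sense of `MilGlue.IsGlue` -/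
theorem isGlue_glue (φ : A ⊗[B] N ≃ₗ[A] A ⊗[A'] M') :
    IsGlue φ (EtMil.glueFst B' φ) (EtMil.glueSnd B' φ) where
  inj := by
    rintro ⟨⟨n, m'⟩, hx⟩ h1 h2
    apply Subtype.ext
    exact Prod.ext h1 h2
  img := by
    intro n m'
    constructor
    · intro h
      exact ⟨⟨(n, m'), h⟩, rfl, rfl⟩
    · rintro ⟨⟨⟨n0, m0⟩, hx⟩, rfl, rfl⟩
      exact hx

/-- the base changes of the glued module recover `N` and `M'` -/
theorem glue_baseChange (hsq : EtMil.IsFibreSquare B' B A' A)
    (φ : A ⊗[B] N ≃ₗ[A] A ⊗[A'] M') :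
    Function.Bijective (LinearMap.liftBaseChange B (EtMil.glueFst B' φ)) ∧
    Function.Bijective (LinearMap.liftBaseChange A' (EtMil.glueSnd B' φ)) :=
  ⟨(isGlue_glue φ).bijective_liftBaseChange_p₁ hsq, (isGlue_glue φ).bijective_liftBaseChange_p₂ hsq⟩

/-- the glue of flat modules is flat -/
theorem glue_flat (hsq : EtMil.IsFibreSquare B' B A' A)
    (φ : A ⊗[B] N ≃ₗ[A] A ⊗[A'] M') [Module.Flat B N] [Module.Flat A' M'] :
    Module.Flat B' ↥(EtMil.glue B' φ) := by
  obtain ⟨h1, h2⟩ := glue_baseChange hsq φ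
  haveI : Module.Flat B (B ⊗[B'] ↥(EtMil.glue B' φ)) :=
    Module.Flat.of_linearEquiv (LinearEquiv.ofBijective _ h1)
  haveI : Module.Flat A' (A' ⊗[B'] ↥(EtMil.glue B' φ)) :=
    Module.Flat.of_linearEquiv (LinearEquiv.ofBijective _ h2)
  exact flat_of_fibreSquare _ hsq

/-- the glue of finite modules is finite -/
theorem glue_finite (hsq : EtMil.IsFibreSquare B' B A' A)
    (φ : A ⊗[B] N ≃ₗ[A] A ⊗[A'] M') [Module.Finite B N] [Module.Finite A' M'] :
    Module.Finite B' ↥(EtMil.glue B' φ) := by
  obtain ⟨h1, h2⟩ := glue_baseChange hsq φ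
  haveI : Module.Finite B (B ⊗[B'] ↥(EtMil.glue B' φ)) :=
    Module.Finite.equiv (LinearEquiv.ofBijective _ h1).symm
  haveI : Module.Finite A' (A' ⊗[B'] ↥(EtMil.glue B' φ)) :=
    Module.Finite.equiv (LinearEquiv.ofBijective _ h2).symm
  exact Groth.Agent.S14953.result B' B A' A hsq _

/-- the glue of finite projective modules is finite projective -/
theorem glue_projective (hsq : EtMil.IsFibreSquare B' B A' A)
    (φ : A ⊗[B] N ≃ₗ[A] A ⊗[A'] M') [Module.Finite B N] [Module.Projective B N]
    [Module.Finite A' M'] [Module.Projective A' M'] :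
    Module.Projective B' ↥(EtMil.glue B' φ) := by
  obtain ⟨h1, h2⟩ := glue_baseChange hsq φ
  haveI : Module.Flat B (B ⊗[B'] ↥(EtMil.glue B' φ)) :=
    Module.Flat.of_linearEquiv (LinearEquiv.ofBijective _ h1)
  haveI : Module.Flat A' (A' ⊗[B'] ↥(EtMil.glue B' φ)) :=
    Module.Flat.of_linearEquiv (LinearEquiv.ofBijective _ h2)
  haveI : Module.FinitePresentation B N := Module.finitePresentation_of_projective _ _
  haveI : Module.FinitePresentation A' M' := Module.finitePresentation_of_projective _ _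
  haveI : Module.FinitePresentation B (B ⊗[B'] ↥(EtMil.glue B' φ)) :=
    Module.FinitePresentation.of_equiv (LinearEquiv.ofBijective _ h1).symm
  haveI : Module.FinitePresentation A' (A' ⊗[B'] ↥(EtMil.glue B' φ)) :=
    Module.FinitePresentation.of_equiv (LinearEquiv.ofBijective _ h2).symm
  haveI : Module.Flat B' ↥(EtMil.glue B' φ) := flat_of_fibreSquare _ hsq
  haveI : Module.FinitePresentation B' ↥(EtMil.glue B' φ) :=
    Groth.Agent.S14954.result B' B A' A hsq _
  exact Module.Flat.projective_of_finitePresentation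

end Glue

end Groth.Agent.Helper22.MilExtra
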