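import Mathlib
import Groth.Agent.Lib.Helper22.MilFlat

/-!
# Pinching squares of rings: descent of vanishing, finiteness, flatness and projectivity
-/

set_option autoImplicit false

universe u

open TensorProduct Function

namespace Groth.Agent.Helper22.Pinch

/-- Ring-level pinching data: `R → R'` surjective with kernel `I`, `R → S` such that
`ker (R → S) ∩ I = 0` and `I S = image of I`. -/
structure IsPinch (R R' S : Type u) [CommRing R] [CommRing R'] [CommRing S] [Algebra R R']
    [Algebra R S] : Prop where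
  surj : Surjective (algebraMap R R')
  inf : RingHom.ker (algebraMap R S) ⊓ RingHom.ker (algebraMap R R') = ⊥
  img : ∀ a ∈ Ideal.map (algebraMap R S) (RingHom.ker (algebraMap R R')),
    ∃ i ∈ RingHom.ker (algebraMap R R'), algebraMap R S i = a

variable {R R' S : Type u} [CommRing R] [CommRing R'] [CommRing S] [Algebra R R'] [Algebra R S]

namespace IsPinch

theorem eq_of_map_eq (h : IsPinch R R' S) {i j : R} (hi : i ∈ RingHom.ker (algebraMap R R'))
    (hj : j ∈ RingHom.ker (algebraMap R R')) (hij : algebraMap R S i = algebraMap R S j) :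
    i = j := by
  have h1 : i - j ∈ RingHom.ker (algebraMap R S) ⊓ RingHom.ker (algebraMap R R') :=
    Ideal.mem_inf.mpr ⟨RingHom.mem_ker.mpr (by rw [map_sub, hij, sub_self]), Ideal.sub_mem _ hi hj⟩
  rw [h.inf] at h1
  exact sub_eq_zero.mp (Ideal.mem_bot.mp h1)

noncomputable def gfun (h : IsPinch R R' S) (i : R) (hi : i ∈ RingHom.ker (algebraMap R R'))
    (s : S) : R :=
  Classical.choose (h.img (algebraMap R S i * s)
    (Ideal.mul_mem_right _ _ (Ideal.mem_map_of_mem _ hi)))

theorem gfun_mem (h : IsPinch R R' S) (i : R) (hi : i ∈ RingHom.ker (algebraMap R R')) (s : S) :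
    h.gfun i hi s ∈ RingHom.ker (algebraMap R R') :=
  (Classical.choose_spec (h.img (algebraMap R S i * s)
    (Ideal.mul_mem_right _ _ (Ideal.mem_map_of_mem _ hi)))).1

theorem gfun_map (h : IsPinch R R' S) (i : R) (hi : i ∈ RingHom.ker (algebraMap R R')) (s : S) :
    algebraMap R S (h.gfun i hi s) = algebraMap R S i * s :=
  (Classical.choose_spec (h.img (algebraMap R S i * s)
    (Ideal.mul_mem_right _ _ (Ideal.mem_map_of_mem _ hi)))).2

noncomputable def gmap (h : IsPinch R R' S) (i : R) (hi : i ∈ RingHom.ker (algebraMap R R')) :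
    S →ₗ[R] R where
  toFun := h.gfun i hi
  map_add' s t := by
    apply h.eq_of_map_eq (h.gfun_mem i hi _)
      (Ideal.add_mem _ (h.gfun_mem i hi _) (h.gfun_mem i hi _))
    rw [map_add, h.gfun_map, h.gfun_map, h.gfun_map, mul_add]
  map_smul' c s := by
    have hmem : c * h.gfun i hi s ∈ RingHom.ker (algebraMap R R') :=
      Ideal.mul_mem_left _ c (h.gfun_mem i hi _)
    have key : h.gfun i hi (c • s) = c * h.gfun i hi s := by
      apply h.eq_of_map_eq (h.gfun_mem i hi _) hmem
      rw [map_mul, h.gfun_map, h.gfun_map, Algebra.smul_def]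
      ring
    exact key

theorem smul_eq_zero (h : IsPinch R R' S) (M : Type u) [AddCommGroup M] [Module R M]
    [Subsingleton (S ⊗[R] M)] (i : R) (hi : i ∈ RingHom.ker (algebraMap R R')) (m : M) :
    i • m = 0 := by
  have h1 : h.gfun i hi 1 = i :=
    h.eq_of_map_eq (h.gfun_mem i hi 1) hi (by rw [h.gfun_map, mul_one])
  have h2 : TensorProduct.lift ((LinearMap.lsmul R M).comp (h.gmap i hi)) ((1 : S) ⊗ₜ[R] m) =
      i • m := by
    rw [TensorProduct.lift.tmul]
    show h.gfun i hi 1 • m = i • m
    rw [h1]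
  rw [← h2, Subsingleton.elim ((1 : S) ⊗ₜ[R] m) 0, map_zero]

theorem smul_top_eq_top (h : IsPinch R R' S) (M : Type u) [AddCommGroup M] [Module R M]
    [Subsingleton (R' ⊗[R] M)] :
    (RingHom.ker (algebraMap R R')) • (⊤ : Submodule R M) = ⊤ := by
  rw [eq_top_iff]
  intro m _
  have hex : Function.Exact ((RingHom.ker (algebraMap R R')).subtype)
      (Algebra.linearMap R R') := by
    intro r
    constructor
    · intro hr
      exact ⟨⟨r, hr⟩, rfl⟩
    · rintro ⟨x, rfl⟩
      exact x.2
  have hex2 := rTensor_exact M hex h.surj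
  have h0 : (Algebra.linearMap R R').rTensor M ((1 : R) ⊗ₜ m) = 0 := Subsingleton.elim _ _
  obtain ⟨x, hx⟩ := (hex2 _).mp h0
  have key : ∀ x : (RingHom.ker (algebraMap R R')) ⊗[R] M,
      TensorProduct.lid R M ((RingHom.ker (algebraMap R R')).subtype.rTensor M x) ∈
        (RingHom.ker (algebraMap R R')) • (⊤ : Submodule R M) := by
    intro x
    induction x using TensorProduct.induction_on with
    | zero =>
      rw [map_zero, map_zero]
      exact Submodule.zero_mem _
    | tmul i m' =>
      rw [LinearMap.rTensor_tmul, TensorProduct.lid_tmul]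
      exact Submodule.smul_mem_smul i.2 Submodule.mem_top
    | add x y hx hy =>
      rw [map_add, map_add]
      exact Submodule.add_mem _ hx hy
  have h3 := key x
  rw [hx, TensorProduct.lid_tmul, one_smul] at h3
  exact h3

/-- Vanishing descends along a pinching square. -/
theorem subsingleton (h : IsPinch R R' S) (M : Type u) [AddCommGroup M] [Module R M]
    [Subsingleton (R' ⊗[R] M)] [Subsingleton (S ⊗[R] M)] : Subsingleton M := by
  have h1 := h.smul_top_eq_top M
  have h2 : (RingHom.ker (algebraMap R R')) • (⊤ : Submodule R M) = ⊥ := by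
    rw [eq_bot_iff, Submodule.smul_le]
    intro i hi m _
    rw [h.smul_eq_zero M i hi m]
    exact Submodule.zero_mem _
  rw [h1] at h2
  exact (Submodule.subsingleton_iff R).mp (subsingleton_of_bot_eq_top h2.symm)

end IsPinch

section FG

variable {R : Type u} [CommRing R] (T : Type u) [CommRing T] [Algebra R T]
  {M : Type u} [AddCommGroup M] [Module R M]

theorem range_baseChange_mono {N₁ N₂ : Submodule R M} (hle : N₁ ≤ N₂) :
    LinearMap.range (N₁.subtype.baseChange T) ≤ LinearMap.range (N₂.subtype.baseChange T) := by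
  rintro _ ⟨x, rfl⟩
  refine ⟨(Submodule.inclusion hle).baseChange T x, ?_⟩
  rw [← LinearMap.comp_apply, ← LinearMap.baseChange_comp, Submodule.subtype_comp_inclusion]

variable (M) in
theorem exists_fg_baseChange_surjective [Module.Finite T (T ⊗[R] M)] :
    ∃ N : Submodule R M, N.FG ∧ Surjective (N.subtype.baseChange T) := by
  classical
  have key : ∀ z : T ⊗[R] M, ∃ N : Submodule R M, N.FG ∧
      z ∈ LinearMap.range (N.subtype.baseChange T) := by
    intro z
    induction z using TensorProduct.induction_on with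
    | zero => exact ⟨⊥, Submodule.fg_bot, Submodule.zero_mem _⟩
    | tmul t m =>
      exact ⟨Submodule.span R {m}, Submodule.fg_span_singleton m,
        ⟨t ⊗ₜ ⟨m, Submodule.mem_span_singleton_self m⟩, by simp⟩⟩
    | add x y hx hy =>
      obtain ⟨N₁, h1, hx⟩ := hx
      obtain ⟨N₂, h2, hy⟩ := hy
      exact ⟨N₁ ⊔ N₂, h1.sup h2, Submodule.add_mem _ (range_baseChange_mono T le_sup_left hx)
        (range_baseChange_mono T le_sup_right hy)⟩
  obtain ⟨s, hs⟩ := (Module.Finite.fg_top : (⊤ : Submodule T (T ⊗[R] M)).FG)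
  choose N hN1 hN2 using key
  refine ⟨s.sup N, Submodule.fg_finset_sup s N (fun z _ => hN1 z), ?_⟩
  rw [← LinearMap.range_eq_top, eq_top_iff, ← hs, Submodule.span_le]
  intro z hz
  exact range_baseChange_mono T (Finset.le_sup hz) (hN2 z)

theorem subsingleton_tensor_quotient (N : Submodule R M)
    (hN : Surjective (N.subtype.baseChange T)) : Subsingleton (T ⊗[R] (M ⧸ N)) := by
  have hs : Surjective (N.mkQ.baseChange T) := by
    rw [LinearMap.baseChange_eq_ltensor]
    exact LinearMap.lTensor_surjective T N.mkQ_surjective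
  have hz : N.mkQ ∘ₗ N.subtype = 0 :=
    LinearMap.ext fun x => (Submodule.Quotient.mk_eq_zero N).mpr x.2
  have key : ∀ z : T ⊗[R] (M ⧸ N), z = 0 := by
    intro z
    obtain ⟨y, rfl⟩ := hs z
    obtain ⟨x, rfl⟩ := hN y
    rw [← LinearMap.comp_apply, ← LinearMap.baseChange_comp, hz, LinearMap.baseChange_zero,
      LinearMap.zero_apply]
  exact ⟨fun a b => (key a).trans (key b).symm⟩

end FG

namespace IsPinch

/-- Finiteness descends along a pinching square. -/
theorem finite (h : IsPinch R R' S) (M : Type u) [AddCommGroup M] [Module R M]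
    [Module.Finite R' (R' ⊗[R] M)] [Module.Finite S (S ⊗[R] M)] : Module.Finite R M := by
  obtain ⟨N₁, hN₁, hs₁⟩ := exists_fg_baseChange_surjective (R := R) R' M
  obtain ⟨N₂, hN₂, hs₂⟩ := exists_fg_baseChange_surjective (R := R) S M
  have hs₁' : Surjective ((N₁ ⊔ N₂).subtype.baseChange R') := by
    rw [← LinearMap.range_eq_top] at hs₁ ⊢
    exact top_le_iff.mp (hs₁ ▸ range_baseChange_mono R' le_sup_left)
  have hs₂' : Surjective ((N₁ ⊔ N₂).subtype.baseChange S) := by
    rw [← LinearMap.range_eq_top] at hs₂ ⊢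
    exact top_le_iff.mp (hs₂ ▸ range_baseChange_mono S le_sup_right)
  haveI := subsingleton_tensor_quotient R' (N₁ ⊔ N₂) hs₁'
  haveI := subsingleton_tensor_quotient S (N₁ ⊔ N₂) hs₂'
  haveI : Subsingleton (M ⧸ (N₁ ⊔ N₂)) := h.subsingleton (M ⧸ (N₁ ⊔ N₂))
  have htop : N₁ ⊔ N₂ = ⊤ := Submodule.Quotient.subsingleton_iff.mp inferInstance
  exact ⟨htop ▸ hN₁.sup hN₂⟩

/-- Flatness descends along a pinching square. -/
theorem flat (h : IsPinch R R' S) (M : Type u) [AddCommGroup M] [Module R M]
    [Module.Flat R' (R' ⊗[R] M)] [Module.Flat S (S ⊗[R] M)] : Module.Flat R M := by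
  have hker : RingHom.ker (algebraMap R R') ≤
      RingHom.ker (algebraMap R (S ⧸ Ideal.map (algebraMap R S) (RingHom.ker (algebraMap R R')))) := by
    intro r hr
    rw [RingHom.mem_ker, ← Ideal.Quotient.mk_algebraMap]
    exact Ideal.Quotient.eq_zero_iff_mem.mpr (Ideal.mem_map_of_mem _ hr)
  letI : Algebra R' (S ⧸ Ideal.map (algebraMap R S) (RingHom.ker (algebraMap R R'))) :=
    ((algebraMap R R').liftOfSurjective h.surj ⟨_, hker⟩).toAlgebra
  have hcomp : ∀ r : R, algebraMap R' (S ⧸ Ideal.map (algebraMap R S)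
      (RingHom.ker (algebraMap R R'))) (algebraMap R R' r) =
        algebraMap R (S ⧸ Ideal.map (algebraMap R S) (RingHom.ker (algebraMap R R'))) r :=
    fun r => (algebraMap R R').liftOfSurjective_comp_apply h.surj ⟨_, hker⟩ r
  haveI : IsScalarTower R R' (S ⧸ Ideal.map (algebraMap R S) (RingHom.ker (algebraMap R R'))) :=
    IsScalarTower.of_algebraMap_eq (fun r => (hcomp r).symm)
  have hsq : EtMil.IsFibreSquare R R' S
      (S ⧸ Ideal.map (algebraMap R S) (RingHom.ker (algebraMap R R'))) := by
    refine ⟨Ideal.Quotient.mk_surjective, ?_⟩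
    intro b s hbs
    obtain ⟨r₀, rfl⟩ := h.surj b
    rw [hcomp, ← Ideal.Quotient.mk_algebraMap] at hbs
    have hbs' : Ideal.Quotient.mk (Ideal.map (algebraMap R S) (RingHom.ker (algebraMap R R')))
        (algebraMap R S r₀) = Ideal.Quotient.mk _ s := hbs
    rw [Ideal.Quotient.eq] at hbs'
    have hmem : s - algebraMap R S r₀ ∈
        Ideal.map (algebraMap R S) (RingHom.ker (algebraMap R R')) := by
      have := Ideal.neg_mem_iff _ |>.mpr hbs'
      rwa [neg_sub] at this
    obtain ⟨i, hi, hi2⟩ := h.img _ hmem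
    refine ⟨r₀ + i, ⟨?_, ?_⟩, ?_⟩
    · rw [map_add, (RingHom.mem_ker).mp hi, add_zero]
    · rw [map_add, hi2]; ring
    · rintro r' ⟨hr1, hr2⟩
      have h1 : r' - (r₀ + i) ∈ RingHom.ker (algebraMap R S) ⊓ RingHom.ker (algebraMap R R') := by
        refine Ideal.mem_inf.mpr ⟨RingHom.mem_ker.mpr ?_, RingHom.mem_ker.mpr ?_⟩
        · rw [map_sub, hr2, map_add, hi2]; ring
        · rw [map_sub, hr1, map_add, (RingHom.mem_ker).mp hi, add_zero, sub_self]
      rw [h.inf] at h1
      exact sub_eq_zero.mp (Ideal.mem_bot.mp h1)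
  exact MilFlat.flat_of_fibreSquare (B' := R) (B := R') (A' := S)
    (A := S ⧸ Ideal.map (algebraMap R S) (RingHom.ker (algebraMap R R'))) M hsq

/-- Finite projectivity descends along a pinching square. -/
theorem projective (h : IsPinch R R' S) (M : Type u) [AddCommGroup M] [Module R M]
    [Module.Finite R' (R' ⊗[R] M)] [Module.Projective R' (R' ⊗[R] M)]
    [Module.Finite S (S ⊗[R] M)] [Module.Projective S (S ⊗[R] M)] :
    Module.Finite R M ∧ Module.Projective R M := by
  haveI hfin : Module.Finite R M := h.finite M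
  haveI hflat : Module.Flat R M := h.flat M
  obtain ⟨n, π, hπ⟩ := Module.Finite.exists_fin' R M
  have hK : ∀ (T : Type u) [CommRing T] [Algebra R T] [Module.Finite T (T ⊗[R] M)]
      [Module.Projective T (T ⊗[R] M)], Module.Finite T (T ⊗[R] (LinearMap.ker π)) := by
    intro T _ _ _ _
    have hinj : Injective ((LinearMap.ker π).subtype.baseChange T) := by
      rw [LinearMap.baseChange_eq_ltensor]
      exact Groth.Agent.Helper1.lTensor_injective_of_exact_of_flat (LinearMap.ker π).subtype π
        (Submodule.injective_subtype _) (LinearMap.exact_subtype_ker_map π) hπ T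
    have hex : Function.Exact ((LinearMap.ker π).subtype.baseChange T) (π.baseChange T) := by
      rw [LinearMap.baseChange_eq_ltensor, LinearMap.baseChange_eq_ltensor]
      exact lTensor_exact T (LinearMap.exact_subtype_ker_map π) hπ
    haveI : Module.FinitePresentation T (T ⊗[R] M) := Module.finitePresentation_of_projective T _
    have hsurj : Surjective (π.baseChange T) := by
      rw [LinearMap.baseChange_eq_ltensor]
      exact LinearMap.lTensor_surjective T hπ
    have hfg : (LinearMap.ker (π.baseChange T)).FG :=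
      Module.FinitePresentation.fg_ker (π.baseChange T) hsurj
    refine ⟨Submodule.fg_of_fg_map_injective ((LinearMap.ker π).subtype.baseChange T) hinj ?_⟩
    rw [Submodule.map_top, ← LinearMap.exact_iff.mp hex]
    exact hfg
  haveI := hK R'
  haveI := hK S
  haveI : Module.Finite R (LinearMap.ker π) := h.finite _
  haveI : Module.FinitePresentation R M :=
    Module.finitePresentation_of_free_of_surjective π hπ (Module.Finite.iff_fg.mp inferInstance)
  exact ⟨hfin, Module.Flat.projective_of_finitePresentation⟩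

end IsPinch

end Groth.Agent.Helper22.Pinch
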