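import Mathlib
import Groth.Prelude.Def_FlatMod2
import Groth.Agent.Lib.Helper22.Pinch1
import Groth.Agent.Lib.Helper13.PullbackSections
import Groth.Agent.Lib.Helper13.QCohStalk
import Groth.Agent.Lib.Helper13.LocFree3
import Groth.Agent.Lib.Helper13.FinAffine2
import Groth.Agent.Lib.Helper13.QCohLoc

/-!
# Pinching squares of schemes: descent of vanishing, finite type, flatness, finite local freeness
for quasi-coherent modules
-/

set_option autoImplicit false

universe u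

open CategoryTheory CategoryTheory.Limits AlgebraicGeometry Opposite TopologicalSpace TensorProduct
open Groth.Agent.Helper13.QCoh Groth.Agent.Helper13.FinType Groth.Agent.Helper13.QCohLoc
open Groth.Agent.Helper13.Pullback Groth.Agent.Helper13.LocFree

namespace Groth.Agent.Helper22.Pinch

section Dict

variable {X : Scheme.{u}} (F : X.Modules)

/-- a module whose sections over all affine opens vanish is zero. -/
theorem isZero_of_subsingleton_affine
    (h : ∀ V : X.Opens, IsAffineOpen V → Subsingleton Γ(F, V)) : IsZero F := by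
  rw [isZero_iff_stalk]
  intro x
  have key : ∀ c : F.presheaf.stalk x, c = 0 := by
    intro c
    obtain ⟨U, hxU, c₀, rfl⟩ := TopCat.Presheaf.exists_germ_eq F.presheaf c
    obtain ⟨_, ⟨V, hV, rfl⟩, hxV, hVU⟩ :=
      X.isBasis_affineOpens.exists_subset_of_mem_open hxU U.2
    have hVU' : V ≤ U := hVU
    have h1 : F.presheaf.germ U x hxU c₀ =
        F.presheaf.germ V x hxV (F.presheaf.map (homOfLE hVU').op c₀) :=
      (TopCat.Presheaf.germ_res_apply F.presheaf (homOfLE hVU') x hxV c₀).symm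
    rw [h1, (h V hV).elim (F.presheaf.map (homOfLE hVU').op c₀) 0, map_zero]
  exact ⟨fun a b => (key a).trans (key b).symm⟩

variable [F.IsQuasicoherent]

/-- flat sections over an affine open give flat stalks. -/
theorem flat_stalk_of_flat_sections {U : X.Opens} (hU : IsAffineOpen U) (x : U)
    [Module.Flat Γ(X, U) Γ(F, U)] :
    Module.Flat (X.presheaf.stalk (x : X)) (F.presheaf.stalk (x : X)) := by
  letI := modStalk F x
  haveI := isScalarTower_stalk F x
  haveI := isLocalizedModule_germ F hU x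
  haveI : IsLocalization (hU.primeIdealOf x).asIdeal.primeCompl (X.presheaf.stalk (x : X)) :=
    hU.isLocalization_stalk x
  exact Module.Flat.of_isLocalizedModule (X.presheaf.stalk (x : X))
    (hU.primeIdealOf x).asIdeal.primeCompl (germLin F x)

lemma primeIdealOf_fromSpec' {U : X.Opens} (hU : IsAffineOpen U) (y : PrimeSpectrum Γ(X, U))
    (hy : hU.fromSpec y ∈ U) :
    hU.primeIdealOf ⟨hU.fromSpec y, hy⟩ = y := by
  apply hU.fromSpec.isOpenEmbedding.injective
  exact hU.fromSpec_primeIdealOf ⟨hU.fromSpec y, hy⟩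

lemma flat_stalk_restrict {U : X.Opens} (hU : IsAffineOpen U) (x : U)
    (h : Module.Flat (X.presheaf.stalk (x : X)) (F.presheaf.stalk (x : X))) :
    letI := modStalk F x
    Module.Flat Γ(X, U) (F.presheaf.stalk (x : X)) := by
  letI := modStalk F x
  haveI := h
  haveI := isScalarTower_stalk F x
  haveI h3 : IsLocalization.AtPrime (X.presheaf.stalk (x : X))
      (hU.primeIdealOf x).asIdeal := hU.isLocalization_stalk x
  exact (Module.flat_iff_of_isLocalization (X.presheaf.stalk (x : X))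
    (hU.primeIdealOf x).asIdeal.primeCompl (F.presheaf.stalk (x : X))).1 inferInstance

/-- flat stalks at the points of an affine open give flat sections. -/
theorem flat_sections_of_flat_stalks {U : X.Opens} (hU : IsAffineOpen U)
    (h : ∀ x : X, x ∈ U → Module.Flat (X.presheaf.stalk x) (F.presheaf.stalk x)) :
    Module.Flat Γ(X, U) Γ(F, U) := by
  have hmem : ∀ (P : Ideal Γ(X, U)) [P.IsMaximal], hU.fromSpec ⟨P, inferInstance⟩ ∈ U := by
    intro P _
    have : hU.fromSpec ⟨P, inferInstance⟩ ∈ hU.fromSpec.opensRange := ⟨_, rfl⟩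
    rwa [hU.opensRange_fromSpec] at this
  let pt : ∀ (P : Ideal Γ(X, U)) [P.IsMaximal], U :=
    fun P _ => ⟨hU.fromSpec ⟨P, inferInstance⟩, hmem P⟩
  letI modB : ∀ (P : Ideal Γ(X, U)) [P.IsMaximal],
      Module Γ(X, U) (F.presheaf.stalk (pt P : X)) := fun P _ => modStalk F (pt P)
  haveI hloc : ∀ (P : Ideal Γ(X, U)) [P.IsMaximal],
      IsLocalizedModule.AtPrime P (germLin F (pt P)) := by
    intro P _
    have h1 := isLocalizedModule_germ F hU (pt P)
    have h2 : hU.primeIdealOf (pt P) = ⟨P, inferInstance⟩ := primeIdealOf_fromSpec' hU _ _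
    rw [h2] at h1
    exact h1
  refine @Module.flat_of_isLocalized_maximal Γ(X, U) Γ(X, U) _ _ _ Γ(F, U) _ _ _ _
    (fun P _ => F.presheaf.stalk (pt P : X)) (fun P _ => inferInstance) (fun P _ => modB P)
    (fun P _ => modB P) (fun P _ => inferInstance) (fun P _ => germLin F (pt P)) hloc ?_
  intro P _
  exact flat_stalk_restrict F hU (pt P) (h (pt P : X) (pt P).2)

theorem isFlat_iff_flat_sections :
    FlatMod.IsFlat F ↔ ∀ U : X.Opens, IsAffineOpen U → Module.Flat Γ(X, U) Γ(F, U) := by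
  constructor
  · intro h U hU
    exact flat_sections_of_flat_stalks F hU (fun x _ => h x)
  · intro h x
    obtain ⟨_, ⟨V, hV, rfl⟩, hxV, -⟩ :=
      X.isBasis_affineOpens.exists_subset_of_mem_open (Set.mem_univ x) isOpen_univ
    haveI := h V hV
    exact flat_stalk_of_flat_sections F hV ⟨x, hxV⟩

theorem isFlat_of_flat_sections
    (h : ∀ x : X, ∃ U : X.Opens, IsAffineOpen U ∧ x ∈ U ∧ Module.Flat Γ(X, U) Γ(F, U)) :
    FlatMod.IsFlat F := by
  intro x
  obtain ⟨U, hU, hxU, hfl⟩ := h x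
  exact flat_stalk_of_flat_sections F hU ⟨x, hxU⟩

end Dict

section Pull

variable {X Y : Scheme.{u}} (f : X ⟶ Y) (G : Y.Modules) [G.IsQuasicoherent]

theorem exists_affine_pair (x : X) : ∃ (U : X.Opens) (V : Y.Opens),
    IsAffineOpen U ∧ IsAffineOpen V ∧ x ∈ U ∧ U ≤ f ⁻¹ᵁ V := by
  obtain ⟨_, ⟨V, hV, rfl⟩, hxV, -⟩ := Y.isBasis_affineOpens.exists_subset_of_mem_open
    (Set.mem_univ (f x)) isOpen_univ
  obtain ⟨_, ⟨U, hU, rfl⟩, hxU, hUV⟩ := X.isBasis_affineOpens.exists_subset_of_mem_open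
    (show x ∈ ((f ⁻¹ᵁ V : X.Opens) : Set X) from hxV) (f ⁻¹ᵁ V).2
  exact ⟨U, V, hU, hV, hxU, hUV⟩

/-- the pullback of a quasi-coherent module of finite type is of finite type. -/
theorem isFiniteType_pullback [SheafOfModules.IsFiniteType (R := Y.ringCatSheaf) G] :
    SheafOfModules.IsFiniteType (R := X.ringCatSheaf) ((Scheme.Modules.pullback f).obj G) := by
  apply isFiniteType_of_finite_sections
  intro x
  obtain ⟨U, V, hU, hV, hxU, hUV⟩ := exists_affine_pair f x
  refine ⟨U, hxU, hU, ?_⟩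
  letI := (f.appLE V U hUV).hom.toAlgebra
  haveI : Module.Finite Γ(Y, V) Γ(G, V) := finite_sections_of_isFiniteType G hV
  exact Module.Finite.equiv (sectionsPullbackEquiv f G hU hV hUV).symm

/-- the pullback of a flat quasi-coherent module is flat. -/
theorem isFlat_pullback (h : FlatMod.IsFlat G) :
    FlatMod.IsFlat ((Scheme.Modules.pullback f).obj G) := by
  apply isFlat_of_flat_sections
  intro x
  obtain ⟨U, V, hU, hV, hxU, hUV⟩ := exists_affine_pair f x
  refine ⟨U, hU, hxU, ?_⟩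
  letI := (f.appLE V U hUV).hom.toAlgebra
  haveI : Module.Flat Γ(Y, V) Γ(G, V) := (isFlat_iff_flat_sections G).mp h V hV
  exact Module.Flat.of_linearEquiv (sectionsPullbackEquiv f G hU hV hUV)

/-- the pullback of a finite locally free quasi-coherent module is finite locally free. -/
theorem isFinLocFree_pullback (h : FlatMod.IsFinLocFree G) :
    FlatMod.IsFinLocFree ((Scheme.Modules.pullback f).obj G) := by
  apply isFinLocFree_of_projective_sections
  intro x
  obtain ⟨U, V, hU, hV, hxU, hUV⟩ := exists_affine_pair f x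
  refine ⟨U, hU, hxU, ?_⟩
  letI := (f.appLE V U hUV).hom.toAlgebra
  obtain ⟨h1, h2⟩ := projective_sections_of_isFinLocFree G h hV
  haveI := h1
  haveI := h2
  exact ⟨Module.Finite.equiv (sectionsPullbackEquiv f G hU hV hUV).symm,
    Module.Projective.of_equiv (sectionsPullbackEquiv f G hU hV hUV).symm⟩

end Pull

section Sq

variable {X Y Y' : Scheme.{u}} (f : X ⟶ Y) (u : Y' ⟶ Y) [IsAffineHom f] [IsClosedImmersion u]
  (hM : ∀ V ∈ Y.affineOpens,
      RingHom.ker (f.app V).hom ⊓ RingHom.ker (u.app V).hom = ⊥ ∧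
      ∀ a ∈ Ideal.map (f.app V).hom (RingHom.ker (u.app V).hom),
        ∃ i ∈ RingHom.ker (u.app V).hom, (f.app V).hom i = a)

include hM in
theorem isPinch {V : Y.Opens} (hV : IsAffineOpen V) :
    letI := (f.appLE V (f ⁻¹ᵁ V) le_rfl).hom.toAlgebra
    letI := (u.appLE V (u ⁻¹ᵁ V) le_rfl).hom.toAlgebra
    IsPinch Γ(Y, V) Γ(Y', u ⁻¹ᵁ V) Γ(X, f ⁻¹ᵁ V) := by
  letI := (f.appLE V (f ⁻¹ᵁ V) le_rfl).hom.toAlgebra
  letI := (u.appLE V (u ⁻¹ᵁ V) le_rfl).hom.toAlgebra
  have hf : algebraMap Γ(Y, V) Γ(X, f ⁻¹ᵁ V) = (f.app V).hom := by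
    show (f.appLE V (f ⁻¹ᵁ V) le_rfl).hom = (f.app V).hom
    rw [Scheme.Hom.appLE_eq_app]
  have hu : algebraMap Γ(Y, V) Γ(Y', u ⁻¹ᵁ V) = (u.app V).hom := by
    show (u.appLE V (u ⁻¹ᵁ V) le_rfl).hom = (u.app V).hom
    rw [Scheme.Hom.appLE_eq_app]
  obtain ⟨h1, h2⟩ := hM V hV
  refine ⟨?_, ?_, ?_⟩
  · rw [hu]
    exact u.app_surjective V hV
  · rw [hf, hu]
    exact h1
  · rw [hf, hu]
    exact h2

variable (G : Y.Modules) [G.IsQuasicoherent]

include hM in
theorem isZero_of_isZero_pullback_pair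
    (h1 : IsZero ((Scheme.Modules.pullback u).obj G))
    (h2 : IsZero ((Scheme.Modules.pullback f).obj G)) : IsZero G := by
  apply isZero_of_subsingleton_affine
  intro V hV
  letI := (f.appLE V (f ⁻¹ᵁ V) le_rfl).hom.toAlgebra
  letI := (u.appLE V (u ⁻¹ᵁ V) le_rfl).hom.toAlgebra
  have hp := isPinch f u hM hV
  haveI : Subsingleton (Γ(Y', u ⁻¹ᵁ V) ⊗[Γ(Y, V)] Γ(G, V)) := by
    haveI := (isZero_iff_sections _).mp h1 (u ⁻¹ᵁ V)
    exact (sectionsPullbackEquiv u G (hV.preimage u) hV le_rfl).symm.toEquiv.subsingleton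
  haveI : Subsingleton (Γ(X, f ⁻¹ᵁ V) ⊗[Γ(Y, V)] Γ(G, V)) := by
    haveI := (isZero_iff_sections _).mp h2 (f ⁻¹ᵁ V)
    exact (sectionsPullbackEquiv f G (hV.preimage f) hV le_rfl).symm.toEquiv.subsingleton
  exact hp.subsingleton Γ(G, V)

include hM in
theorem isFiniteType_of_pullback_pair
    (h1 : SheafOfModules.IsFiniteType (R := Y'.ringCatSheaf) ((Scheme.Modules.pullback u).obj G))
    (h2 : SheafOfModules.IsFiniteType (R := X.ringCatSheaf) ((Scheme.Modules.pullback f).obj G)) :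
    SheafOfModules.IsFiniteType (R := Y.ringCatSheaf) G := by
  rw [isFiniteType_iff_finite_sections]
  intro V hV
  letI := (f.appLE V (f ⁻¹ᵁ V) le_rfl).hom.toAlgebra
  letI := (u.appLE V (u ⁻¹ᵁ V) le_rfl).hom.toAlgebra
  have hp := isPinch f u hM hV
  haveI : Module.Finite Γ(Y', u ⁻¹ᵁ V) (Γ(Y', u ⁻¹ᵁ V) ⊗[Γ(Y, V)] Γ(G, V)) := by
    haveI := finite_sections_of_isFiniteType ((Scheme.Modules.pullback u).obj G) (hV.preimage u)
    exact Module.Finite.equiv (sectionsPullbackEquiv u G (hV.preimage u) hV le_rfl)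
  haveI : Module.Finite Γ(X, f ⁻¹ᵁ V) (Γ(X, f ⁻¹ᵁ V) ⊗[Γ(Y, V)] Γ(G, V)) := by
    haveI := finite_sections_of_isFiniteType ((Scheme.Modules.pullback f).obj G) (hV.preimage f)
    exact Module.Finite.equiv (sectionsPullbackEquiv f G (hV.preimage f) hV le_rfl)
  exact hp.finite Γ(G, V)

include hM in
theorem isFlat_of_pullback_pair
    (h1 : FlatMod.IsFlat ((Scheme.Modules.pullback u).obj G))
    (h2 : FlatMod.IsFlat ((Scheme.Modules.pullback f).obj G)) : FlatMod.IsFlat G := by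
  rw [isFlat_iff_flat_sections]
  intro V hV
  letI := (f.appLE V (f ⁻¹ᵁ V) le_rfl).hom.toAlgebra
  letI := (u.appLE V (u ⁻¹ᵁ V) le_rfl).hom.toAlgebra
  have hp := isPinch f u hM hV
  haveI : Module.Flat Γ(Y', u ⁻¹ᵁ V) (Γ(Y', u ⁻¹ᵁ V) ⊗[Γ(Y, V)] Γ(G, V)) := by
    haveI := (isFlat_iff_flat_sections _).mp h1 _ (hV.preimage u)
    exact Module.Flat.of_linearEquiv (sectionsPullbackEquiv u G (hV.preimage u) hV le_rfl).symm
  haveI : Module.Flat Γ(X, f ⁻¹ᵁ V) (Γ(X, f ⁻¹ᵁ V) ⊗[Γ(Y, V)] Γ(G, V)) := by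
    haveI := (isFlat_iff_flat_sections _).mp h2 _ (hV.preimage f)
    exact Module.Flat.of_linearEquiv (sectionsPullbackEquiv f G (hV.preimage f) hV le_rfl).symm
  exact hp.flat Γ(G, V)

include hM in
theorem isFinLocFree_of_pullback_pair
    (h1 : FlatMod.IsFinLocFree ((Scheme.Modules.pullback u).obj G))
    (h2 : FlatMod.IsFinLocFree ((Scheme.Modules.pullback f).obj G)) : FlatMod.IsFinLocFree G := by
  rw [isFinLocFree_iff_projective_sections]
  intro V hV
  letI := (f.appLE V (f ⁻¹ᵁ V) le_rfl).hom.toAlgebra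
  letI := (u.appLE V (u ⁻¹ᵁ V) le_rfl).hom.toAlgebra
  have hp := isPinch f u hM hV
  obtain ⟨a1, a2⟩ := projective_sections_of_isFinLocFree _ h1 (hV.preimage u)
  obtain ⟨b1, b2⟩ := projective_sections_of_isFinLocFree _ h2 (hV.preimage f)
  haveI : Module.Finite Γ(Y', u ⁻¹ᵁ V) (Γ(Y', u ⁻¹ᵁ V) ⊗[Γ(Y, V)] Γ(G, V)) :=
    Module.Finite.equiv (sectionsPullbackEquiv u G (hV.preimage u) hV le_rfl)
  haveI : Module.Projective Γ(Y', u ⁻¹ᵁ V) (Γ(Y', u ⁻¹ᵁ V) ⊗[Γ(Y, V)] Γ(G, V)) :=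
    Module.Projective.of_equiv (sectionsPullbackEquiv u G (hV.preimage u) hV le_rfl)
  haveI : Module.Finite Γ(X, f ⁻¹ᵁ V) (Γ(X, f ⁻¹ᵁ V) ⊗[Γ(Y, V)] Γ(G, V)) :=
    Module.Finite.equiv (sectionsPullbackEquiv f G (hV.preimage f) hV le_rfl)
  haveI : Module.Projective Γ(X, f ⁻¹ᵁ V) (Γ(X, f ⁻¹ᵁ V) ⊗[Γ(Y, V)] Γ(G, V)) :=
    Module.Projective.of_equiv (sectionsPullbackEquiv f G (hV.preimage f) hV le_rfl)
  exact hp.projective Γ(G, V)

end Sq

end Groth.Agent.Helper22.Pinch
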