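import Mathlib

/-! Base change of power-torsion modules along `R → S` with `R/I ≅ S/IS` (helper22). -/

open scoped TensorProduct

universe u v

namespace Groth.Agent.Helper22.PowTors

/-- If `R/J → S/JS` is bijective and `J` kills `M`, then `M → S ⊗ M` is bijective. -/
theorem bij_of_killed {R S : Type*} [CommRing R] [CommRing S] [Algebra R S] (J : Ideal R)
    (hq : Function.Bijective (Ideal.quotientMap (J.map (algebraMap R S)) (algebraMap R S)
      Ideal.le_comap_map))
    (M : Type*) [AddCommGroup M] [Module R M] (hM : ∀ a ∈ J, ∀ m : M, a • m = 0) :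
    Function.Bijective (TensorProduct.mk R S M 1) := by
  classical
  have hsurj : ∀ s : S, ∃ r : R, algebraMap R S r - s ∈ J.map (algebraMap R S) := by
    intro s
    obtain ⟨q, hq'⟩ := hq.2 (Ideal.Quotient.mk _ s)
    obtain ⟨r, rfl⟩ := Ideal.Quotient.mk_surjective q
    rw [Ideal.quotientMap_mk] at hq'
    exact ⟨r, Ideal.Quotient.eq.1 hq'⟩
  have hinj : ∀ r : R, algebraMap R S r ∈ J.map (algebraMap R S) → r ∈ J := by
    intro r hr
    have h1 : Ideal.quotientMap (J.map (algebraMap R S)) (algebraMap R S)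
        Ideal.le_comap_map (Ideal.Quotient.mk _ r) = 0 := by
      rw [Ideal.quotientMap_mk]
      exact Ideal.Quotient.eq_zero_iff_mem.2 hr
    have h2 := hq.1 (h1.trans (map_zero _).symm)
    exact Ideal.Quotient.eq_zero_iff_mem.1 h2
  choose ρ hρ using hsurj
  have hkey : ∀ (s : S) (r : R), algebraMap R S r - s ∈ J.map (algebraMap R S) →
      ∀ m : M, ρ s • m = r • m := by
    intro s r hr m
    have h1 : algebraMap R S (ρ s - r) ∈ J.map (algebraMap R S) := by
      have := Ideal.sub_mem _ (hρ s) hr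
      rw [map_sub]
      convert this using 1
      ring
    have h2 := hM _ (hinj _ h1) m
    rwa [sub_smul, sub_eq_zero] at h2
  let B : S →ₗ[R] M →ₗ[R] M := LinearMap.mk₂ R (fun s m => ρ s • m)
    (by
      intro s₁ s₂ m
      show ρ (s₁ + s₂) • m = ρ s₁ • m + ρ s₂ • m
      rw [hkey (s₁ + s₂) (ρ s₁ + ρ s₂) (by
        have := Ideal.add_mem _ (hρ s₁) (hρ s₂)
        rw [map_add]
        convert this using 1
        ring) m, add_smul])
    (by
      intro c s m
      show ρ (c • s) • m = c • ρ s • m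
      rw [hkey (c • s) (c * ρ s) (by
        have := Ideal.mul_mem_left _ (algebraMap R S c) (hρ s)
        rw [map_mul, Algebra.smul_def]
        convert this using 1
        ring) m, mul_smul])
    (by
      intro s m₁ m₂
      show ρ s • (m₁ + m₂) = ρ s • m₁ + ρ s • m₂
      rw [smul_add])
    (by
      intro c s m
      show ρ s • c • m = c • ρ s • m
      rw [smul_comm])
  have hB1 : ∀ m : M, TensorProduct.lift B ((1 : S) ⊗ₜ[R] m) = m := by
    intro m
    rw [TensorProduct.lift.tmul]
    show ρ 1 • m = m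
    rw [hkey 1 1 (by rw [map_one, sub_self]; exact Ideal.zero_mem _) m, one_smul]
  have hzero : ∀ (m : M), ∀ s ∈ J.map (algebraMap R S), s ⊗ₜ[R] m = (0 : S ⊗[R] M) := by
    intro m s hs
    refine Submodule.span_induction ?_ ?_ ?_ ?_ hs
    · rintro _ ⟨a, ha, rfl⟩
      have : algebraMap R S a = a • (1 : S) := by rw [Algebra.smul_def, mul_one]
      rw [this, TensorProduct.smul_tmul, hM a ha, TensorProduct.tmul_zero]
    · exact TensorProduct.zero_tmul _ _
    · intro x y _ _ hx hy
      rw [TensorProduct.add_tmul, hx, hy, add_zero]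
    · intro c x _ hx
      have : (c • x) ⊗ₜ[R] m = c • (x ⊗ₜ[R] m) := by
        rw [TensorProduct.smul_tmul']
      rw [this, hx, smul_zero]
  constructor
  · intro m₁ m₂ h
    have h' : (1 : S) ⊗ₜ[R] m₁ = (1 : S) ⊗ₜ[R] m₂ := h
    have := congrArg (TensorProduct.lift B) h'
    simp only [hB1] at this
    exact this
  · intro z
    induction z using TensorProduct.induction_on with
    | zero => exact ⟨0, by simp⟩
    | tmul s m =>
      refine ⟨ρ s • m, ?_⟩
      show (1 : S) ⊗ₜ[R] (ρ s • m) = s ⊗ₜ[R] m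
      have h1 : (1 : S) ⊗ₜ[R] (ρ s • m) = (algebraMap R S (ρ s)) ⊗ₜ[R] m := by
        rw [← TensorProduct.smul_tmul, Algebra.smul_def, mul_one]
      rw [h1]
      have h2 := hzero m _ (hρ s)
      rw [TensorProduct.sub_tmul, sub_eq_zero] at h2
      exact h2
    | add x y hx hy =>
      obtain ⟨m₁, h1⟩ := hx
      obtain ⟨m₂, h2⟩ := hy
      exact ⟨m₁ + m₂, by rw [map_add, h1, h2]⟩

/-- Two out of three for `M → S ⊗ M` along a flat `R → S`. -/
theorem bij_of_sub_quot {R S : Type*} [CommRing R] [CommRing S] [Algebra R S] [Module.Flat R S]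
    (M : Type*) [AddCommGroup M] [Module R M] (N : Submodule R M)
    (h1 : Function.Bijective (TensorProduct.mk R S N 1))
    (h2 : Function.Bijective (TensorProduct.mk R S (M ⧸ N) 1)) :
    Function.Bijective (TensorProduct.mk R S M 1) := by
  have hflat : Function.Injective (LinearMap.lTensor S N.subtype) :=
    Module.Flat.lTensor_preserves_injective_linearMap N.subtype N.injective_subtype
  have hex : Function.Exact (LinearMap.lTensor S N.subtype) (LinearMap.lTensor S N.mkQ) :=
    lTensor_exact S (LinearMap.exact_subtype_mkQ N) N.mkQ_surjective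
  constructor
  · rw [injective_iff_map_eq_zero]
    intro m hm
    have hm' : (1 : S) ⊗ₜ[R] m = 0 := hm
    have h3 : TensorProduct.mk R S (M ⧸ N) 1 (N.mkQ m) = 0 := by
      have := congrArg (LinearMap.lTensor S N.mkQ) hm'
      rw [LinearMap.lTensor_tmul, map_zero] at this
      exact this
    have h4 : N.mkQ m = 0 := h2.1 (h3.trans (map_zero _).symm)
    have hmN : m ∈ N := (Submodule.Quotient.mk_eq_zero N).1 h4
    have h5 : LinearMap.lTensor S N.subtype ((1 : S) ⊗ₜ[R] (⟨m, hmN⟩ : N)) = 0 := by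
      rw [LinearMap.lTensor_tmul]
      exact hm'
    have h6 : (1 : S) ⊗ₜ[R] (⟨m, hmN⟩ : N) = 0 := hflat (h5.trans (map_zero _).symm)
    have h7 : (⟨m, hmN⟩ : N) = 0 := h1.1 (h6.trans (map_zero (TensorProduct.mk R S N 1)).symm)
    exact congrArg Subtype.val h7
  · intro z
    obtain ⟨q, hq⟩ := h2.2 (LinearMap.lTensor S N.mkQ z)
    obtain ⟨m, rfl⟩ := N.mkQ_surjective q
    have h3 : LinearMap.lTensor S N.mkQ (z - (1 : S) ⊗ₜ[R] m) = 0 := by
      rw [map_sub, LinearMap.lTensor_tmul, ← hq]
      exact sub_self _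
    obtain ⟨w, hw⟩ := (hex _).1 h3
    obtain ⟨n, hn⟩ := h1.2 w
    refine ⟨m + (n : M), ?_⟩
    have h4 : LinearMap.lTensor S N.subtype w = (1 : S) ⊗ₜ[R] (n : M) := by
      rw [← hn]
      exact LinearMap.lTensor_tmul _ _ _ _
    rw [map_add]
    show (1 : S) ⊗ₜ[R] m + (1 : S) ⊗ₜ[R] (n : M) = z
    rw [← h4, hw]
    abel

/-- Modules killed by `I ^ n`. -/
theorem bij_of_killed_pow {R S : Type u} [CommRing R] [CommRing S] [Algebra R S] [Module.Flat R S]
    (I : Ideal R)
    (hq : Function.Bijective (Ideal.quotientMap (I.map (algebraMap R S)) (algebraMap R S)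
      Ideal.le_comap_map)) (n : ℕ) :
    ∀ (M : Type v) [AddCommGroup M] [Module R M], (∀ a ∈ I ^ (n + 1), ∀ m : M, a • m = 0) →
      Function.Bijective (TensorProduct.mk R S M 1) := by
  induction n with
  | zero =>
    intro M _ _ hM
    refine bij_of_killed I hq M ?_
    intro a ha m
    exact hM a (by rwa [zero_add, pow_one]) m
  | succ n ih =>
    intro M _ _ hM
    let N : Submodule R M := Submodule.torsionBySet R M ((I ^ (n + 1) : Ideal R) : Set R)
    have hN : ∀ x : M, x ∈ N ↔ ∀ a ∈ I ^ (n + 1), a • x = 0 := by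
      intro x
      rw [Submodule.mem_torsionBySet_iff]
      exact ⟨fun h a ha => h ⟨a, ha⟩, fun h a => h a.1 a.2⟩
    refine bij_of_sub_quot M N ?_ ?_
    · apply ih
      intro a ha x
      apply Subtype.ext
      exact (hN x).1 x.2 a ha
    · refine bij_of_killed I hq (M ⧸ N) ?_
      intro a ha q
      obtain ⟨m, rfl⟩ := N.mkQ_surjective q
      rw [← map_smul, Submodule.mkQ_apply, Submodule.Quotient.mk_eq_zero, hN]
      intro b hb
      rw [smul_smul]
      exact hM _ (by rw [pow_succ]; exact Ideal.mul_mem_mul hb ha) m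

/-- Power torsion modules. -/
theorem bij_of_powTorsion {R S : Type u} [CommRing R] [CommRing S] [Algebra R S]
    [Module.Flat R S] (I : Ideal R)
    (hq : Function.Bijective (Ideal.quotientMap (I.map (algebraMap R S)) (algebraMap R S)
      Ideal.le_comap_map))
    (M : Type v) [AddCommGroup M] [Module R M] (hM : ∀ m : M, ∃ n : ℕ, ∀ a ∈ I ^ n, a • m = 0) :
    Function.Bijective (TensorProduct.mk R S M 1) := by
  have hM' : ∀ m : M, ∃ n : ℕ, ∀ a ∈ I ^ (n + 1), a • m = 0 := by
    intro m
    obtain ⟨n, hn⟩ := hM m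
    exact ⟨n, fun a ha => hn a (Ideal.pow_le_pow_right (Nat.le_succ n) ha)⟩
  have hNmem : ∀ (n : ℕ) (x : M),
      x ∈ Submodule.torsionBySet R M ((I ^ (n + 1) : Ideal R) : Set R) ↔
        ∀ a ∈ I ^ (n + 1), a • x = 0 := by
    intro n x
    rw [Submodule.mem_torsionBySet_iff]
    exact ⟨fun h a ha => h ⟨a, ha⟩, fun h a => h a.1 a.2⟩
  have hbij : ∀ n : ℕ, Function.Bijective (TensorProduct.mk R S
      (Submodule.torsionBySet R M ((I ^ (n + 1) : Ideal R) : Set R)) 1) := by
    intro n
    apply bij_of_killed_pow I hq n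
    intro a ha x
    apply Subtype.ext
    exact (hNmem n x).1 x.2 a ha
  constructor
  · rw [injective_iff_map_eq_zero]
    intro m hm
    have hm' : (1 : S) ⊗ₜ[R] m = 0 := hm
    obtain ⟨n, hn⟩ := hM' m
    set N := Submodule.torsionBySet R M ((I ^ (n + 1) : Ideal R) : Set R) with hNdef
    have hmN : m ∈ N := (hNmem n m).2 hn
    have hflat : Function.Injective (LinearMap.lTensor S N.subtype) :=
      Module.Flat.lTensor_preserves_injective_linearMap N.subtype N.injective_subtype
    have h5 : LinearMap.lTensor S N.subtype ((1 : S) ⊗ₜ[R] (⟨m, hmN⟩ : N)) = 0 := by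
      rw [LinearMap.lTensor_tmul]
      exact hm'
    have h6 : (1 : S) ⊗ₜ[R] (⟨m, hmN⟩ : N) = 0 := hflat (h5.trans (map_zero _).symm)
    have h7 : (⟨m, hmN⟩ : N) = 0 :=
      (hbij n).1 (h6.trans (map_zero (TensorProduct.mk R S N 1)).symm)
    exact congrArg Subtype.val h7
  · intro z
    induction z using TensorProduct.induction_on with
    | zero => exact ⟨0, by simp⟩
    | tmul s m =>
      obtain ⟨n, hn⟩ := hM' m
      set N := Submodule.torsionBySet R M ((I ^ (n + 1) : Ideal R) : Set R) with hNdef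
      have hmN : m ∈ N := (hNmem n m).2 hn
      obtain ⟨x, hx⟩ := (hbij n).2 (s ⊗ₜ[R] (⟨m, hmN⟩ : N))
      refine ⟨(x : M), ?_⟩
      have := congrArg (LinearMap.lTensor S N.subtype) hx
      rw [LinearMap.lTensor_tmul] at this
      exact this
    | add x y hx hy =>
      obtain ⟨m₁, h1⟩ := hx
      obtain ⟨m₂, h2⟩ := hy
      exact ⟨m₁ + m₂, by rw [map_add, h1, h2]⟩

end Groth.Agent.Helper22.PowTors
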