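import Mathlib
import Groth.Prelude.Def_EtRam
import Groth.Agent.Lib.Helper22.CompCtx
import Groth.Agent.Lib.Helper1.KA2

/-!
# Weakly unramified extensions with separable residue field extension: every finite extension
is a solution (S1983)
-/

set_option autoImplicit false
universe u

open TensorProduct IsLocalRing

namespace Groth.Agent.Helper22.WUSep

open Groth.Agent.Helper22.SolTower Groth.Agent.Helper22.WUGen Groth.Agent.Helper22.CompCtx

/-- A nonzero polynomial over a DVR is a nonzero constant times a polynomial with a unit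
coefficient. -/
theorem exists_unit_coeff (A : Type*) [CommRing A] [IsDomain A] [IsDiscreteValuationRing A]
    (p : Polynomial A) (hp : p ≠ 0) :
    ∃ (c : A) (q : Polynomial A), c ≠ 0 ∧ p = Polynomial.C c * q ∧ ∃ i, IsUnit (q.coeff i) := by
  obtain ⟨π, hπ⟩ := IsDiscreteValuationRing.exists_irreducible A
  obtain ⟨i₀, hi₀⟩ : ∃ i₀, p.coeff i₀ ≠ 0 := by
    by_contra hcon
    push_neg at hcon
    exact hp (Polynomial.ext (fun i => by rw [hcon i, Polynomial.coeff_zero]))
  obtain ⟨m, hm⟩ := IsDiscreteValuationRing.associated_pow_irreducible hi₀ hπ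
  induction m generalizing p with
  | zero =>
    refine ⟨1, p, one_ne_zero, by rw [map_one, one_mul], i₀, ?_⟩
    rw [pow_zero] at hm
    exact associated_one_iff_isUnit.mp hm
  | succ m ih =>
    by_cases hu : ∃ i, IsUnit (p.coeff i)
    · exact ⟨1, p, one_ne_zero, by rw [map_one, one_mul], hu⟩
    · push_neg at hu
      have hdvd : Polynomial.C π ∣ p := by
        rw [Polynomial.C_dvd_iff_dvd_coeff]
        intro i
        have h1 : p.coeff i ∈ maximalIdeal A := (mem_maximalIdeal _).mpr (hu i)
        rw [hπ.maximalIdeal_eq, Ideal.mem_span_singleton] at h1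
        exact h1
      obtain ⟨p', hp'⟩ := hdvd
      have hp'0 : p' ≠ 0 := by
        rintro rfl
        exact hp (by rw [hp', mul_zero])
      have hc : p.coeff i₀ = π * p'.coeff i₀ := by rw [hp', Polynomial.coeff_C_mul]
      have hi₀' : p'.coeff i₀ ≠ 0 := by
        intro h0
        exact hi₀ (by rw [hc, h0, mul_zero])
      have hm' : Associated (p'.coeff i₀) (π ^ m) := by
        rw [hc, pow_succ'] at hm
        exact hm.of_mul_left (Associated.refl π) hπ.ne_zero
      obtain ⟨c, q, hc0, hpq, hq⟩ := ih p' hp'0 hi₀' hm'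
      exact ⟨π * c, q, mul_ne_zero hπ.ne_zero hc0, by rw [hp', hpq, map_mul, mul_assoc], hq⟩

section Bottom
variable (A K K₁ : Type u) [CommRing A] [IsDomain A] [IsDiscreteValuationRing A] [Field K]
  [Field K₁] [Algebra A K] [IsFractionRing A K] [Algebra K K₁] [FiniteDimensional K K₁]
  (V : ValuationSubring K₁)
  (hdom : EtRam.Dominates A ((algebraMap K K₁).comp (algebraMap A K)) V)

include hdom in
theorem injective_codRestrict :
    Function.Injective (RingHom.codRestrict ((algebraMap K K₁).comp (algebraMap A K)) V hdom.1) := by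
  intro x y h
  have h1 : algebraMap K K₁ (algebraMap A K x) = algebraMap K K₁ (algebraMap A K y) :=
    congrArg Subtype.val h
  exact IsFractionRing.injective A K ((algebraMap K K₁).injective h1)

include hdom in
/-- The residue field of a valuation subring of a finite extension dominating a DVR is algebraic
over the residue field of the DVR. -/
theorem residue_isIntegral :
    letI : Algebra A V :=
      (RingHom.codRestrict ((algebraMap K K₁).comp (algebraMap A K)) V hdom.1).toAlgebra
    ∀ (_ : IsLocalHom (algebraMap A V)),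
      Algebra.IsIntegral (ResidueField A) (ResidueField V) := by
  intro inst
  letI algAV : Algebra A V :=
    (RingHom.codRestrict ((algebraMap K K₁).comp (algebraMap A K)) V hdom.1).toAlgebra
  haveI : IsLocalHom (algebraMap A V) := inst
  show Algebra.IsIntegral (ResidueField A) (ResidueField V)
  letI algAK₁ : Algebra A K₁ := ((algebraMap K K₁).comp (algebraMap A K)).toAlgebra
  haveI : IsScalarTower A K K₁ := IsScalarTower.of_algebraMap_eq (fun _ => rfl)
  haveI : IsScalarTower A V K₁ := IsScalarTower.of_algebraMap_eq (fun _ => rfl)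
  have hinjAV : Function.Injective (algebraMap A V) := injective_codRestrict A K K₁ V hdom
  constructor
  intro z
  obtain ⟨v, rfl⟩ := residue_surjective z
  have h1 : IsAlgebraic K (v : K₁) := (Algebra.IsIntegral.isIntegral (R := K) (v : K₁)).isAlgebraic
  have h2 : IsAlgebraic A (v : K₁) := (IsFractionRing.isAlgebraic_iff A K K₁).mpr h1
  have h3 : IsAlgebraic A v :=
    (isAlgebraic_algebraMap_iff (A := K₁) (a := v) Subtype.val_injective).mp h2
  obtain ⟨p, hp0, hp⟩ := h3
  obtain ⟨c, q, hc0, hpq, i, hi⟩ := exists_unit_coeff A p hp0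
  have hq : Polynomial.aeval v q = 0 := by
    rw [hpq, map_mul, Polynomial.aeval_C] at hp
    rcases mul_eq_zero.mp hp with h | h
    · exact absurd ((map_eq_zero_iff _ hinjAV).mp h) hc0
    · exact h
  apply IsAlgebraic.isIntegral
  refine ⟨q.map (residue A), ?_, ?_⟩
  · intro h0
    have h4 : (q.map (residue A)).coeff i = 0 := by rw [h0, Polynomial.coeff_zero]
    rw [Polynomial.coeff_map] at h4
    exact (mem_maximalIdeal _).mp ((residue_eq_zero_iff _).mp h4) hi
  · rw [Polynomial.aeval_def, Polynomial.eval₂_map]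
    have hcomp : (algebraMap (ResidueField A) (ResidueField V)).comp (residue A) =
        (residue V).comp (algebraMap A V) := RingHom.ext (fun a => rfl)
    rw [hcomp, ← Polynomial.hom_eval₂, ← Polynomial.aeval_def, hq, map_zero]

include hdom in
/-- A valuation subring of a finite extension dominating a DVR is a DVR (Krull–Akizuki). -/
theorem isDVR_of_dominates : IsDiscreteValuationRing V := by
  letI algAV : Algebra A V :=
    (RingHom.codRestrict ((algebraMap K K₁).comp (algebraMap A K)) V hdom.1).toAlgebra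
  haveI locAV : IsLocalHom (algebraMap A V) := isLocalHom_of_dominates _ _ hdom
  letI algAK₁ : Algebra A K₁ := ((algebraMap K K₁).comp (algebraMap A K)).toAlgebra
  haveI : IsScalarTower A K K₁ := IsScalarTower.of_algebraMap_eq (fun _ => rfl)
  haveI : IsScalarTower A V K₁ := IsScalarTower.of_algebraMap_eq (fun _ => rfl)
  have hinjAV : Function.Injective (algebraMap A V) := injective_codRestrict A K K₁ V hdom
  have hdim : ringKrullDim A ≤ 1 := by
    have h1 := Ring.krullDimLE_iff.mp (inferInstance : Ring.KrullDimLE 1 A)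
    exact_mod_cast h1
  haveI : IsNoetherianRing V :=
    Groth.Agent.Helper1.KA.isNoetherianRing_of_between A hdim K K₁ V Subtype.val_injective
  have hiff : IsNoetherianRing ↥V ↔ IsPrincipalIdealRing ↥V := (IsBezout.TFAE (R := ↥V)).out 0 1
  have hPIR : IsPrincipalIdealRing ↥V := hiff.mp ‹IsNoetherianRing ↥V›
  obtain ⟨πA, hπA⟩ := IsDiscreteValuationRing.exists_irreducible A
  have hmem : algebraMap A V πA ∈ maximalIdeal V :=
    map_nonunit (algebraMap A V) πA ((mem_maximalIdeal _).mpr hπA.not_isUnit)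
  have hne : algebraMap A V πA ≠ 0 := fun h0 =>
    hπA.ne_zero ((map_eq_zero_iff _ hinjAV).mp h0)
  exact
    { toIsPrincipalIdealRing := hPIR
      toIsLocalRing := inferInstance
      not_a_field' := fun h => hne (by
        rw [h] at hmem
        exact Ideal.mem_bot.mp hmem) }

end Bottom

/-- In a commutative ring, a von Neumann quasi-inverse of an invertible element is its inverse. -/
theorem eq_of_vnr_inv {T : Type*} [CommRing T] (s t z : T) (h1 : s * s * z = s)
    (h2 : s * t = 1) : t = z := by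
  linear_combination (z * (s * t + 1) - t) * h2 - t ^ 2 * h1

/-- If the field `kW` is generated by the images of `kB` and `k₁`, where `kB/κ` is geometrically
reduced and `k₁/κ` is algebraic, then `kW/k₁` is geometrically reduced. -/
theorem geomRed_of_gen (κ k₁ kB kW : Type u) [Field κ] [Field k₁] [Field kB] [Field kW]
    [Algebra κ k₁] [Algebra κ kB] [Algebra k₁ kW] [Algebra.IsIntegral κ k₁]
    [Algebra.IsGeometricallyReduced κ kB] (σB : kB →+* kW)
    (hcomm : ∀ c : κ, σB (algebraMap κ kB c) = algebraMap k₁ kW (algebraMap κ k₁ c))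
    (hgen : ∀ P : kW → Prop, (∀ b, P (σB b)) → (∀ x, P (algebraMap k₁ kW x)) →
      (∀ x y, P x → P y → P (x + y)) → (∀ x y, P x → P y → P (x * y)) →
      (∀ x y, P x → x * y = 1 → P y) → ∀ w, P w) :
    Algebra.IsGeometricallyReduced k₁ kW := by
  rw [Algebra.isGeometricallyReduced_field_iff]
  haveI : Algebra.IsAlgebraic κ k₁ := inferInstance
  haveI : Algebra.IsAlgebraic κ (AlgebraicClosure k₁) := Algebra.IsAlgebraic.trans κ k₁ _
  haveI : Algebra.IsIntegral κ (AlgebraicClosure k₁) := inferInstance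
  haveI hred : IsReduced (kB ⊗[κ] AlgebraicClosure k₁) :=
    isReduced_of_injective (Algebra.TensorProduct.comm κ kB (AlgebraicClosure k₁))
      (AlgEquiv.injective _)
  have hvΩ : VNR (kB ⊗[κ] AlgebraicClosure k₁) := VNR.of_reduced_integral kB _
  have e1 : ∀ x : k₁, (algebraMap k₁ (AlgebraicClosure k₁) x) ⊗ₜ[k₁] (1 : kW) =
      (1 : AlgebraicClosure k₁) ⊗ₜ[k₁] (algebraMap k₁ kW x) := by
    intro x
    have h1 : algebraMap k₁ (AlgebraicClosure k₁) x = x • (1 : AlgebraicClosure k₁) :=
      Algebra.algebraMap_eq_smul_one x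
    have h2 : algebraMap k₁ kW x = x • (1 : kW) := Algebra.algebraMap_eq_smul_one x
    rw [h1, h2, TensorProduct.smul_tmul]
  let fΩ : AlgebraicClosure k₁ →ₐ[κ] AlgebraicClosure k₁ ⊗[k₁] kW :=
    Algebra.TensorProduct.includeLeft
  let fB : kB →ₐ[κ] AlgebraicClosure k₁ ⊗[k₁] kW :=
    { toRingHom := (Algebra.TensorProduct.includeRight :
          kW →ₐ[k₁] AlgebraicClosure k₁ ⊗[k₁] kW).toRingHom.comp σB
      commutes' := fun c => by
        show (1 : AlgebraicClosure k₁) ⊗ₜ[k₁] σB (algebraMap κ kB c) =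
          algebraMap κ (AlgebraicClosure k₁ ⊗[k₁] kW) c
        rw [Algebra.TensorProduct.algebraMap_apply,
          IsScalarTower.algebraMap_apply κ k₁ (AlgebraicClosure k₁), e1, hcomm] }
  obtain ⟨Ξ, hΞdef⟩ : ∃ Ξ : kB ⊗[κ] AlgebraicClosure k₁ →+* AlgebraicClosure k₁ ⊗[k₁] kW,
      Ξ = (Algebra.TensorProduct.productMap fB fΩ).toRingHom := ⟨_, rfl⟩
  have hΞ : ∀ (b : kB) (ω : AlgebraicClosure k₁), Ξ (b ⊗ₜ[κ] ω) =
      ((1 : AlgebraicClosure k₁) ⊗ₜ[k₁] σB b) * (ω ⊗ₜ[k₁] (1 : kW)) := by
    intro b ω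
    rw [hΞdef]
    exact Algebra.TensorProduct.productMap_apply_tmul fB fΩ b ω
  have hvR : VNR ↥Ξ.range :=
    VNR.of_surjective Ξ.rangeRestrict (RingHom.rangeRestrict_surjective Ξ) hvΩ
  have hall : ∀ w : kW, (1 : AlgebraicClosure k₁) ⊗ₜ[k₁] w ∈ Ξ.range := by
    refine hgen (fun w => (1 : AlgebraicClosure k₁) ⊗ₜ[k₁] w ∈ Ξ.range) ?_ ?_ ?_ ?_ ?_
    · intro b
      show (1 : AlgebraicClosure k₁) ⊗ₜ[k₁] σB b ∈ Ξ.range
      refine RingHom.mem_range.mpr ⟨b ⊗ₜ[κ] (1 : AlgebraicClosure k₁), ?_⟩
      rw [hΞ, ← Algebra.TensorProduct.one_def, mul_one]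
    · intro x
      show (1 : AlgebraicClosure k₁) ⊗ₜ[k₁] algebraMap k₁ kW x ∈ Ξ.range
      refine RingHom.mem_range.mpr
        ⟨(1 : kB) ⊗ₜ[κ] (algebraMap k₁ (AlgebraicClosure k₁) x), ?_⟩
      rw [hΞ, map_one, ← Algebra.TensorProduct.one_def, one_mul, e1]
    · intro x y hx hy
      show (1 : AlgebraicClosure k₁) ⊗ₜ[k₁] (x + y) ∈ Ξ.range
      rw [TensorProduct.tmul_add]
      exact Ξ.range.add_mem hx hy
    · intro x y hx hy
      show (1 : AlgebraicClosure k₁) ⊗ₜ[k₁] (x * y) ∈ Ξ.range
      have h1 : (1 : AlgebraicClosure k₁) ⊗ₜ[k₁] (x * y) =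
          ((1 : AlgebraicClosure k₁) ⊗ₜ[k₁] x) * ((1 : AlgebraicClosure k₁) ⊗ₜ[k₁] y) := by
        rw [Algebra.TensorProduct.tmul_mul_tmul, one_mul]
      rw [h1]
      exact Ξ.range.mul_mem hx hy
    · intro x y hx hxy
      show (1 : AlgebraicClosure k₁) ⊗ₜ[k₁] y ∈ Ξ.range
      have hx' : (1 : AlgebraicClosure k₁) ⊗ₜ[k₁] x ∈ Ξ.range := hx
      have hst : ((1 : AlgebraicClosure k₁) ⊗ₜ[k₁] x) * ((1 : AlgebraicClosure k₁) ⊗ₜ[k₁] y) =
          1 := by
        rw [Algebra.TensorProduct.tmul_mul_tmul, one_mul, hxy, Algebra.TensorProduct.one_def]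
      obtain ⟨z, hz⟩ := hvR ⟨_, hx'⟩
      have hz' : ((1 : AlgebraicClosure k₁) ⊗ₜ[k₁] x) * ((1 : AlgebraicClosure k₁) ⊗ₜ[k₁] x) *
          (z : AlgebraicClosure k₁ ⊗[k₁] kW) = (1 : AlgebraicClosure k₁) ⊗ₜ[k₁] x :=
        congrArg Subtype.val hz
      rw [eq_of_vnr_inv _ _ _ hz' hst]
      exact z.2
  have hsurj : Function.Surjective Ξ := by
    intro t
    have ht : t ∈ Ξ.range := by
      induction t using TensorProduct.induction_on with
      | zero => exact Ξ.range.zero_mem
      | tmul ω w =>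
        have h1 : ω ⊗ₜ[k₁] w = (ω ⊗ₜ[k₁] (1 : kW)) * ((1 : AlgebraicClosure k₁) ⊗ₜ[k₁] w) := by
          rw [Algebra.TensorProduct.tmul_mul_tmul, mul_one, one_mul]
        rw [h1]
        refine Ξ.range.mul_mem (RingHom.mem_range.mpr ⟨(1 : kB) ⊗ₜ[κ] ω, ?_⟩) (hall w)
        rw [hΞ, map_one, ← Algebra.TensorProduct.one_def, one_mul]
      | add x y hx hy => exact Ξ.range.add_mem hx hy
    exact RingHom.mem_range.mp ht
  exact (VNR.of_surjective Ξ hsurj hvΩ).isReduced

/-- The local statement: every local extension attached to `K₁/K` is weakly unramified with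
geometrically reduced residue field extension. -/
theorem sol_core (A B K L K₁ M : Type u) [CommRing A] [IsDomain A] [IsDiscreteValuationRing A]
    [CommRing B] [IsDomain B] [IsDiscreteValuationRing B] [Algebra A B]
    [IsLocalHom (algebraMap A B)]
    [Field K] [Field L] [Field K₁] [Field M] [Algebra A K] [IsFractionRing A K] [Algebra B L]
    [IsFractionRing B L]
    [Algebra K L] [Algebra A L] [IsScalarTower A K L] [IsScalarTower A B L]
    [Algebra K K₁] [FiniteDimensional K K₁] [Algebra K M] [Algebra L M] [Algebra K₁ M]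
    [IsScalarTower K L M] [IsScalarTower K K₁ M]
    (hw : EtRam.IsWeaklyUnramified A B)
    [Algebra.IsGeometricallyReduced (ResidueField A) (ResidueField B)]
    (hadj : Algebra.adjoin L (Set.range (algebraMap K₁ M)) = ⊤) (W : ValuationSubring M)
    (hW : EtRam.Dominates B ((algebraMap L M).comp (algebraMap B L)) W) :
    letI : Algebra (W.comap (algebraMap K₁ M)) W :=
      (EtRam.inclOfComap W (algebraMap K₁ M)).toAlgebra
    EtRam.IsWeaklyUnramified (W.comap (algebraMap K₁ M)) W ∧
      @Algebra.IsGeometricallyReduced (ResidueField (W.comap (algebraMap K₁ M)))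
        (ResidueField W) _ _
        (ResidueField.map (EtRam.inclOfComap W (algebraMap K₁ M))).toAlgebra := by
  classical
  have hdomA := dominates_bottom A B K L K₁ M W hW
  letI algAV : Algebra A (W.comap (algebraMap K₁ M)) :=
    (RingHom.codRestrict ((algebraMap K K₁).comp (algebraMap A K)) _ hdomA.1).toAlgebra
  haveI locAV : IsLocalHom (algebraMap A (W.comap (algebraMap K₁ M))) :=
    isLocalHom_of_dominates _ _ hdomA
  haveI dvrV : IsDiscreteValuationRing (W.comap (algebraMap K₁ M)) :=
    isDVR_of_dominates A K K₁ _ hdomA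
  haveI intκ : Algebra.IsIntegral (ResidueField A)
      (ResidueField (W.comap (algebraMap K₁ M))) :=
    residue_isIntegral A K K₁ _ hdomA locAV
  obtain ⟨πA, hπA⟩ := IsDiscreteValuationRing.exists_irreducible A
  obtain ⟨π₁, hπ₁⟩ := IsDiscreteValuationRing.exists_irreducible (W.comap (algebraMap K₁ M))
  have hw' : (maximalIdeal A).map (algebraMap A B) = maximalIdeal B := hw
  have hπB : Irreducible (algebraMap A B πA) := by
    rw [IsDiscreteValuationRing.irreducible_iff_uniformizer, ← hw', hπA.maximalIdeal_eq,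
      Ideal.map_span, Set.image_singleton]
  -- the two maps to `W`
  obtain ⟨θ₁, hθ₁⟩ : ∃ θ₁ : B →+* W,
      θ₁ = RingHom.codRestrict ((algebraMap L M).comp (algebraMap B L)) W hW.1 := ⟨_, rfl⟩
  obtain ⟨θ₂, hθ₂⟩ : ∃ θ₂ : (W.comap (algebraMap K₁ M)) →+* W,
      θ₂ = EtRam.inclOfComap W (algebraMap K₁ M) := ⟨_, rfl⟩
  haveI locθ₂ : IsLocalHom θ₂ := by rw [hθ₂]; infer_instance
  haveI locθ₁ : IsLocalHom θ₁ := by rw [hθ₁]; exact isLocalHom_of_dominates _ _ hW
  have hθ₁v : ∀ b : B, ((θ₁ b : W) : M) = algebraMap L M (algebraMap B L b) := by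
    intro b; rw [hθ₁]; rfl
  have hθ₂v : ∀ v : W.comap (algebraMap K₁ M), ((θ₂ v : W) : M) = algebraMap K₁ M (v : K₁) := by
    intro v; rw [hθ₂]; rfl
  have hcompat : ∀ a : A, θ₁ (algebraMap A B a) =
      θ₂ (algebraMap A (W.comap (algebraMap K₁ M)) a) := by
    intro a
    apply Subtype.ext
    rw [hθ₁v, hθ₂v]
    exact (compat_apply A B K L K₁ M a).symm
  have hθ₁inj : Function.Injective θ₁ := by
    intro x y hxy
    have h1 : algebraMap L M (algebraMap B L x) = algebraMap L M (algebraMap B L y) := by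
      rw [← hθ₁v, ← hθ₁v, hxy]
    exact IsFractionRing.injective B L ((algebraMap L M).injective h1)
  have hθ₂inj : Function.Injective θ₂ := by
    intro x y hxy
    have h1 : algebraMap K₁ M (x : K₁) = algebraMap K₁ M (y : K₁) := by
      rw [← hθ₂v, ← hθ₂v, hxy]
    exact Subtype.ext ((algebraMap K₁ M).injective h1)
  have hπAmem : πA ∈ maximalIdeal A := (mem_maximalIdeal _).mpr hπA.not_isUnit
  have hπBmem : algebraMap A B πA ∈ maximalIdeal B := map_nonunit (algebraMap A B) πA hπAmem
  have hπBm : θ₁ (algebraMap A B πA) ∈ maximalIdeal W := map_nonunit θ₁ _ hπBmem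
  have hπ₁mem : π₁ ∈ maximalIdeal (W.comap (algebraMap K₁ M)) :=
    (mem_maximalIdeal _).mpr hπ₁.not_isUnit
  have hπm : θ₂ π₁ ∈ maximalIdeal W := map_nonunit θ₂ π₁ hπ₁mem
  have hπ0 : θ₂ π₁ ≠ 0 := fun h0 => hπ₁.ne_zero (hθ₂inj (by rw [h0, map_zero]))
  have hsepB : ∀ w : W, w ≠ 0 → ∃ n : ℕ, ¬ (θ₁ (algebraMap A B πA)) ^ n ∣ w := by
    apply sep_of_dvd W θ₁ hθ₁inj _ (algebraMap A B πA) hπB hπBm
    intro w hw0
    rw [hθ₁]
    exact exists_dvd B K L K₁ M hadj W hW w hw0
  have hinjAV : Function.Injective (algebraMap A (W.comap (algebraMap K₁ M))) :=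
    injective_codRestrict A K K₁ _ hdomA
  have hne : algebraMap A (W.comap (algebraMap K₁ M)) πA ≠ 0 := fun h0 =>
    hπA.ne_zero ((map_eq_zero_iff _ hinjAV).mp h0)
  obtain ⟨e, u, hu⟩ := IsDiscreteValuationRing.associated_pow_irreducible hne hπ₁
  have hrel : θ₁ (algebraMap A B πA) * θ₂ (u : W.comap (algebraMap K₁ M)) = (θ₂ π₁) ^ e := by
    rw [hcompat, ← map_mul, hu, map_pow]
  have hsep : ∀ w : W, w ≠ 0 → ∃ n : ℕ, ¬ (θ₂ π₁) ^ n ∣ w := by
    intro w hw0
    obtain ⟨n, hn⟩ := hsepB w hw0
    refine ⟨e * n, fun hdiv => hn ?_⟩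
    have h1 : (θ₂ π₁) ^ (e * n) =
        (θ₁ (algebraMap A B πA)) ^ n * (θ₂ (u : W.comap (algebraMap K₁ M))) ^ n := by
      rw [pow_mul, ← hrel, mul_pow]
    rw [h1] at hdiv
    exact dvd_of_mul_right_dvd hdiv
  haveI hredE : IsReduced (ResidueField B ⊗[ResidueField A]
      ResidueField (W.comap (algebraMap K₁ M))) :=
    isReduced_of_injective (Algebra.TensorProduct.comm (ResidueField A) (ResidueField B)
      (ResidueField (W.comap (algebraMap K₁ M)))) (AlgEquiv.injective _)
  have hE : VNR (ResidueField B ⊗[ResidueField A]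
      ResidueField (W.comap (algebraMap K₁ M))) :=
    VNR.of_reduced_integral (ResidueField B) _
  obtain ⟨hC1, hC2⟩ := CT A B (W.comap (algebraMap K₁ M)) M W θ₁ θ₂ hcompat hw π₁
    hπ₁.maximalIdeal_eq hπm hπ0 hE hsep (fun S h1 h2 hinv =>
      gen_comp B L K₁ M hadj W S (fun b => by rw [← hθ₁v]; exact h1 b)
        (fun k hk => by
          have h3 := h2 ⟨k, hk⟩
          rw [hθ₂v] at h3
          exact h3) hinv)
  refine ⟨?_, ?_⟩
  · -- weakly unramified
    letI algVW : Algebra (W.comap (algebraMap K₁ M)) W :=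
      (EtRam.inclOfComap W (algebraMap K₁ M)).toAlgebra
    have hθ₂alg : ∀ v, algebraMap (W.comap (algebraMap K₁ M)) W v = θ₂ v := by
      intro v; rw [hθ₂]; rfl
    show (maximalIdeal (W.comap (algebraMap K₁ M))).map
      (algebraMap (W.comap (algebraMap K₁ M)) W) = maximalIdeal W
    apply le_antisymm
    · refine Ideal.map_le_iff_le_comap.mpr (fun v hv => ?_)
      rw [Ideal.mem_comap, hθ₂alg]
      exact map_nonunit θ₂ v hv
    · intro w hw0
      obtain ⟨c, hc⟩ := hC1 w hw0
      rw [hc, ← hθ₂alg]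
      exact Ideal.mul_mem_right _ _ (Ideal.mem_map_of_mem _ hπ₁mem)
  · -- geometrically reduced residue field extension
    letI algk : Algebra (ResidueField (W.comap (algebraMap K₁ M))) (ResidueField W) :=
      (ResidueField.map (EtRam.inclOfComap W (algebraMap K₁ M))).toAlgebra
    show Algebra.IsGeometricallyReduced (ResidueField (W.comap (algebraMap K₁ M)))
      (ResidueField W)
    refine geomRed_of_gen (ResidueField A) (ResidueField (W.comap (algebraMap K₁ M)))
      (ResidueField B) (ResidueField W) (ResidueField.map θ₁) ?_ ?_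
    · intro c
      obtain ⟨a, rfl⟩ := residue_surjective c
      show residue W (θ₁ (algebraMap A B a)) =
        residue W (EtRam.inclOfComap W (algebraMap K₁ M)
          (algebraMap A (W.comap (algebraMap K₁ M)) a))
      rw [hcompat, hθ₂]
    · intro P h1 h2 hadd hmul hinv z
      obtain ⟨w, rfl⟩ := residue_surjective z
      refine hC2 (fun w => P (residue W w)) ?_ ?_ ?_ ?_ ?_ w
      · intro b
        exact h1 (residue B b)
      · intro v
        show P (residue W (θ₂ v))
        have h3 := h2 (residue _ v)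
        rw [hθ₂]
        exact h3
      · intro x y hx hy
        show P (residue W (x + y))
        rw [map_add]; exact hadd _ _ hx hy
      · intro x y hx hy
        show P (residue W (x * y))
        rw [map_mul]; exact hmul _ _ hx hy
      · intro x y hx hxy
        exact hinv (residue W x) (residue W y) hx (by rw [← map_mul, hxy, map_one])

theorem main (A B K L : Type u) [CommRing A] [IsDomain A] [IsDiscreteValuationRing A]
    [CommRing B] [IsDomain B] [IsDiscreteValuationRing B] [Algebra A B]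
    [IsLocalHom (algebraMap A B)]
    [Field K] [Field L] [Algebra A K] [IsFractionRing A K] [Algebra B L] [IsFractionRing B L]
    [Algebra K L] [Algebra A L] [IsScalarTower A K L] [IsScalarTower A B L]
    (hw : EtRam.IsWeaklyUnramified A B)
    [Algebra.IsGeometricallyReduced (ResidueField A) (ResidueField B)]
    (K₁ : Type u) [Field K₁] [Algebra K K₁] [FiniteDimensional K K₁] :
    EtRam.IsSolution B K L K₁ := by
  intro M _ _ _ _ _ _ hadj W hW
  exact sol_core A B K L K₁ M hw hadj W hW

end Groth.Agent.Helper22.WUSep
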