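import Mathlib
import Groth.Prelude.Def_EtRam
import Groth.Agent.Lib.Helper22.WUSep

/-!
# Generic lemmas on valuation subrings dominating a DVR (helper library)

* `GT'`: a variant of `WUGen.GT` where von Neumann regularity modulo `π` is replaced by the
  elementwise "step" property.
* `span_of_star`: if the powers `1, y, …, y^(N-1)` span `L` over `K` and are independent modulo `π`
  inside a valuation subring `V`, then `V` is spanned over `A` by these powers.
* `unique_of_span`: in that case `V` is the only valuation subring dominating `A`.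
-/

set_option autoImplicit false
universe u

open IsLocalRing Polynomial

namespace Groth.Agent.Helper22.ASGen

open Groth.Agent.Helper22.SolTower Groth.Agent.Helper22.WUGen Groth.Agent.Helper22.WUSep

/-! ### small polynomial lemmas -/

theorem exists_C_mul_of_coeff_mem {A : Type*} [CommRing A] [IsLocalRing A] (π : A)
    (hπ : maximalIdeal A = Ideal.span {π}) (q : A[X]) (h : ∀ i, q.coeff i ∈ maximalIdeal A) :
    ∃ q' : A[X], q = C π * q' := by
  have h1 : q ∈ Ideal.map (C : A →+* A[X]) (maximalIdeal A) := Ideal.mem_map_C_iff.mpr h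
  rw [hπ, Ideal.map_span, Set.image_singleton, Ideal.mem_span_singleton'] at h1
  obtain ⟨a, ha⟩ := h1
  exact ⟨a, by rw [← ha, mul_comm]⟩

theorem coeff_mem_of_map_eq_zero {A : Type*} [CommRing A] [IsLocalRing A] (q : A[X])
    (h : q.map (residue A) = 0) : ∀ i, q.coeff i ∈ maximalIdeal A := by
  intro i
  have h1 : (q.map (residue A)).coeff i = 0 := by rw [h, coeff_zero]
  rw [coeff_map] at h1
  exact (residue_eq_zero_iff _).mp h1

theorem residue_aeval {A B : Type*} [CommRing A] [IsLocalRing A] [CommRing B] [IsLocalRing B]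
    [Algebra A B] [IsLocalHom (algebraMap A B)] (y : B) (q : A[X]) :
    aeval (residue B y) (q.map (residue A)) = residue B (aeval y q) := by
  rw [aeval_def, eval₂_map]
  have hcomp : (algebraMap (ResidueField A) (ResidueField B)).comp (residue A) =
      (residue B).comp (algebraMap A B) := RingHom.ext (fun a => rfl)
  rw [hcomp, ← hom_eval₂, ← aeval_def]

theorem coe_aeval {A L : Type*} [CommRing A] [Field L] [Algebra A L] (V : ValuationSubring L)
    [Algebra A V] [IsScalarTower A V L] (y : V) (q : A[X]) :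
    ((aeval y q : V) : L) = aeval (y : L) q :=
  (aeval_algebraMap_apply L y q).symm

/-! ### the general theorem for a ring mapping to a valuation ring, "step" version -/

section GT
variable {T₀ M : Type*} [CommRing T₀] [Field M] {W : ValuationSubring M} {θ : T₀ →+* W}

theorem claimA' (π : T₀)
    (hstep : ∀ t : T₀, θ t ∈ maximalIdeal W → ∃ s c : T₀, IsUnit (θ s) ∧ θ t * θ s = θ π * θ c)
    (w : W) (hw : InD W θ w) : IsUnit w ∨ ∃ w', InD W θ w' ∧ w = θ π * w' := by
  obtain ⟨a, b, hb, hab⟩ := hw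
  by_cases ha : IsUnit (θ a)
  · left
    have h1 : IsUnit (w * θ b) := by rw [hab]; exact ha
    exact isUnit_of_mul_isUnit_left h1
  · right
    have ham : θ a ∈ maximalIdeal W := (mem_maximalIdeal _).mpr ha
    obtain ⟨s, c, hs, hsc⟩ := hstep a ham
    obtain ⟨u, hu⟩ := hb.mul hs
    refine ⟨θ c * ((u⁻¹ : Wˣ) : W), ⟨c, b * s, ?_, ?_⟩, ?_⟩
    · rw [map_mul]; exact hb.mul hs
    · rw [map_mul, ← hu, mul_assoc, Units.inv_mul, mul_one]
    · have h1 : w * (u : W) = θ π * θ c := by
        rw [hu, ← mul_assoc, hab, hsc]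
      calc w = w * (u : W) * ((u⁻¹ : Wˣ) : W) := by rw [mul_assoc, Units.mul_inv, mul_one]
        _ = θ π * (θ c * ((u⁻¹ : Wˣ) : W)) := by rw [h1, mul_assoc]

theorem claimB' (π : T₀)
    (hstep : ∀ t : T₀, θ t ∈ maximalIdeal W → ∃ s c : T₀, IsUnit (θ s) ∧ θ t * θ s = θ π * θ c) :
    ∀ (N : ℕ) (w : W), InD W θ w → ¬ (θ π) ^ N ∣ w →
      ∃ (n : ℕ) (u : Wˣ), InD W θ (u : W) ∧ w = (θ π) ^ n * u := by
  intro N
  induction N with
  | zero =>
    intro w _ h
    exact absurd (by rw [pow_zero]; exact one_dvd w) h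
  | succ N ih =>
    intro w hw hN
    rcases claimA' π hstep w hw with hu | ⟨w', hw', hww'⟩
    · obtain ⟨u, rfl⟩ := hu
      exact ⟨0, u, hw, by rw [pow_zero, one_mul]⟩
    · have hN' : ¬ (θ π) ^ N ∣ w' := by
        rintro ⟨d, hd⟩
        apply hN
        exact ⟨d, by rw [hww', hd, pow_succ]; ring⟩
      obtain ⟨n, u, hDu, hwu⟩ := ih w' hw' hN'
      exact ⟨n + 1, u, hDu, by rw [hww', hwu, pow_succ]; ring⟩

theorem GT' (π : T₀) (hπm : θ π ∈ maximalIdeal W) (hπ0 : θ π ≠ 0)
    (hstep : ∀ t : T₀, θ t ∈ maximalIdeal W → ∃ s c : T₀, IsUnit (θ s) ∧ θ t * θ s = θ π * θ c)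
    (hsep : ∀ w : W, w ≠ 0 → ∃ n : ℕ, ¬ (θ π) ^ n ∣ w)
    (hgen : ∀ x : M, ∃ a b : T₀, θ b ≠ 0 ∧ x * ((θ b : W) : M) = ((θ a : W) : M)) :
    (∀ w : W, w ∈ maximalIdeal W → θ π ∣ w) ∧ (∀ w : W, InD W θ w) := by
  have hD : ∀ w : W, w ≠ 0 → ∃ (n : ℕ) (u : Wˣ), InD W θ (u : W) ∧ w = (θ π) ^ n * u := by
    intro w hw0
    obtain ⟨a, b, hb0, hab⟩ := hgen (w : M)
    have hab' : w * θ b = θ a := Subtype.ext hab
    have ha0 : θ a ≠ 0 := by rw [← hab']; exact mul_ne_zero hw0 hb0
    obtain ⟨Na, hNa⟩ := hsep (θ a) ha0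
    obtain ⟨Nb, hNb⟩ := hsep (θ b) hb0
    obtain ⟨i, u, hDu, hau⟩ := claimB' π hstep Na (θ a) (inD_map a) hNa
    obtain ⟨j, v, hDv, hbv⟩ := claimB' π hstep Nb (θ b) (inD_map b) hNb
    rw [hau, hbv] at hab'
    rcases le_or_gt j i with hji | hij
    · refine ⟨i - j, u * v⁻¹, ?_, ?_⟩
      · rw [Units.val_mul]; exact inD_mul hDu (inD_inv v hDv)
      · have hne : (θ π) ^ j * (v : W) ≠ 0 := mul_ne_zero (pow_ne_zero _ hπ0) v.ne_zero
        apply mul_right_cancel₀ hne
        rw [hab', Units.val_mul]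
        have e1 : (θ π) ^ (i - j) * (θ π) ^ j = (θ π) ^ i := by
          rw [← pow_add, Nat.sub_add_cancel hji]
        have e2 : ((v⁻¹ : Wˣ) : W) * (v : W) = 1 := Units.inv_mul v
        calc (θ π) ^ i * (u : W)
            = ((θ π) ^ (i - j) * (θ π) ^ j) * u * (((v⁻¹ : Wˣ) : W) * v) := by
              rw [e1, e2, mul_one]
          _ = (θ π) ^ (i - j) * ((u : W) * ((v⁻¹ : Wˣ) : W)) * ((θ π) ^ j * (v : W)) := by ring
    · exfalso
      obtain ⟨k, rfl⟩ : ∃ k, j = i + k + 1 := ⟨j - i - 1, by omega⟩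
      have hne : (θ π) ^ i ≠ 0 := pow_ne_zero _ hπ0
      have h1 : (θ π) ^ i * (θ π * (w * (θ π) ^ k * v)) = (θ π) ^ i * u := by
        rw [← hab']; ring
      have h2 := mul_left_cancel₀ hne h1
      have h3 : (u : W) ∈ maximalIdeal W := by rw [← h2]; exact Ideal.mul_mem_right _ _ hπm
      exact (mem_maximalIdeal _).mp h3 u.isUnit
  refine ⟨?_, ?_⟩
  · intro w hw
    by_cases hw0 : w = 0
    · rw [hw0]; exact dvd_zero _
    · obtain ⟨n, u, -, hwu⟩ := hD w hw0
      cases n with
      | zero =>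
        exfalso
        rw [pow_zero, one_mul] at hwu
        exact (mem_maximalIdeal _).mp hw (hwu ▸ u.isUnit)
      | succ n => exact ⟨(θ π) ^ n * u, by rw [hwu, pow_succ']; ring⟩
  · intro w
    by_cases hw0 : w = 0
    · exact ⟨0, 1, by rw [map_one]; exact isUnit_one, by rw [hw0, map_zero, zero_mul]⟩
    · obtain ⟨n, u, hDu, hwu⟩ := hD w hw0
      rw [hwu, ← map_pow]
      exact inD_mul (inD_map _) hDu

end GT

/-! ### spanning a valuation subring by powers -/

section Span
variable (A K L : Type u) [CommRing A] [IsDomain A] [IsDiscreteValuationRing A] [Field K]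
  [Algebra A K] [IsFractionRing A K] [Field L] [Algebra K L] [Algebra A L] [IsScalarTower A K L]

include K in
theorem injective_algebraMap : Function.Injective (algebraMap A L) := by
  rw [IsScalarTower.algebraMap_eq A K L]
  exact (algebraMap K L).injective.comp (IsFractionRing.injective A K)

theorem span_of_star (π : A) (hπ : maximalIdeal A = Ideal.span {π}) (V : ValuationSubring L)
    (hAV : ∀ a : A, algebraMap A L a ∈ V) (y : L) (N : ℕ)
    (hgenL : ∀ x : L, ∃ q : K[X], q.natDegree < N ∧ x = aeval y q)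
    (hstar : ∀ q : A[X], q.natDegree < N →
      (∃ v ∈ V, aeval y q = algebraMap A L π * v) → ∀ i, q.coeff i ∈ maximalIdeal A)
    (x : L) (hx : x ∈ V) : ∃ q : A[X], q.natDegree < N ∧ x = aeval y q := by
  have hπirr : Irreducible π := (IsDiscreteValuationRing.irreducible_iff_uniformizer π).mpr hπ
  have hginj : Function.Injective (algebraMap A L) := injective_algebraMap A K L
  obtain ⟨q, hqdeg, hxq⟩ := hgenL x
  have hN : 0 < N := lt_of_le_of_lt (Nat.zero_le _) hqdeg
  by_cases hq0 : q = 0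
  · refine ⟨0, by rw [natDegree_zero]; exact hN, ?_⟩
    rw [hxq, hq0, map_zero, map_zero]
  obtain ⟨b, hbM, hb⟩ := IsLocalization.integerNormalization_spec (nonZeroDivisors A) q
  obtain ⟨q₀, hq₀⟩ : ∃ q₀, q₀ = IsLocalization.integerNormalization (nonZeroDivisors A) q :=
    ⟨_, rfl⟩
  rw [← hq₀] at hb
  have hb0 : b ≠ 0 := nonZeroDivisors.ne_zero hbM
  have hq₀deg : q₀.natDegree < N := by
    have h1 : (q₀.map (algebraMap A K)).natDegree = q₀.natDegree :=
      natDegree_map_eq_of_injective (IsFractionRing.injective A K) q₀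
    rw [← h1, hb]
    exact lt_of_le_of_lt (natDegree_smul_le b q) hqdeg
  have hq₀0 : q₀ ≠ 0 := by
    intro h0
    rw [h0, Polynomial.map_zero] at hb
    have h1 : (algebraMap A K b) • q = 0 := by rw [IsScalarTower.algebraMap_smul]; exact hb.symm
    rcases smul_eq_zero.mp h1 with h | h
    · exact hb0 ((map_eq_zero_iff _ (IsFractionRing.injective A K)).mp h)
    · exact hq0 h
  have hval : aeval y q₀ = algebraMap A L b * x := by
    calc aeval y q₀ = aeval y (q₀.map (algebraMap A K)) := (aeval_map_algebraMap K y q₀).symm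
      _ = aeval y ((algebraMap A K b) • q) := by rw [hb, IsScalarTower.algebraMap_smul]
      _ = algebraMap K L (algebraMap A K b) * aeval y q := by rw [map_smul, Algebra.smul_def]
      _ = algebraMap A L b * x := by rw [← IsScalarTower.algebraMap_apply, ← hxq]
  obtain ⟨c, q₁, hc0, hq₀eq, i₀, hi₀⟩ := exists_unit_coeff A q₀ hq₀0
  have hq₁deg : q₁.natDegree < N := by
    have h1 : q₀.natDegree = q₁.natDegree := by rw [hq₀eq, natDegree_C_mul hc0]
    omega
  obtain ⟨x₁, hx₁⟩ : ∃ x₁, x₁ = aeval y q₁ := ⟨_, rfl⟩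
  have hrel : algebraMap A L b * x = algebraMap A L c * x₁ := by
    rw [← hval, hq₀eq, map_mul, aeval_C, hx₁]
  obtain ⟨i, ub, hub⟩ := IsDiscreteValuationRing.associated_pow_irreducible hb0 hπirr
  obtain ⟨j, uc, huc⟩ := IsDiscreteValuationRing.associated_pow_irreducible hc0 hπirr
  have hrel2 : algebraMap A L π ^ i * (algebraMap A L uc * x) =
      algebraMap A L π ^ j * (algebraMap A L ub * x₁) := by
    rw [← map_pow, ← map_pow, ← hub, ← huc, map_mul, map_mul]
    linear_combination (algebraMap A L ub * algebraMap A L uc) * hrel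
  have hgπ0 : algebraMap A L π ≠ 0 := fun h0 => hπirr.ne_zero (hginj (by rw [h0, map_zero]))
  have hucinv' : algebraMap A L ((uc⁻¹ : Aˣ) : A) * algebraMap A L uc = 1 := by
    rw [← map_mul, Units.inv_mul, map_one]
  have hubinv' : algebraMap A L ((ub⁻¹ : Aˣ) : A) * algebraMap A L ub = 1 := by
    rw [← map_mul, Units.inv_mul, map_one]
  rcases le_or_gt i j with hij | hji
  · refine ⟨C (π ^ (j - i) * ub * ((uc⁻¹ : Aˣ) : A)) * q₁,
      lt_of_le_of_lt (natDegree_C_mul_le _ _) hq₁deg, ?_⟩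
    rw [map_mul, aeval_C, ← hx₁]
    have h3 : algebraMap A L π ^ i * (algebraMap A L uc * x) =
        algebraMap A L π ^ i * (algebraMap A L π ^ (j - i) * (algebraMap A L ub * x₁)) := by
      rw [hrel2, ← mul_assoc (algebraMap A L π ^ i), ← pow_add, Nat.add_sub_cancel' hij]
    have h4 := mul_left_cancel₀ (pow_ne_zero i hgπ0) h3
    rw [map_mul, map_mul, map_pow]
    calc x = algebraMap A L ((uc⁻¹ : Aˣ) : A) * (algebraMap A L uc * x) := by
          rw [← mul_assoc, hucinv', one_mul]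
      _ = _ := by rw [h4]; ring
  · exfalso
    obtain ⟨d, rfl⟩ : ∃ d, i = j + d + 1 := ⟨i - j - 1, by omega⟩
    have h3 : algebraMap A L π ^ j *
        (algebraMap A L π * (algebraMap A L π ^ d * (algebraMap A L uc * x))) =
        algebraMap A L π ^ j * (algebraMap A L ub * x₁) := by
      rw [← hrel2]; ring
    have h4 := mul_left_cancel₀ (pow_ne_zero j hgπ0) h3
    have h5 : x₁ = algebraMap A L π *
        (algebraMap A L ((ub⁻¹ : Aˣ) : A) * (algebraMap A L π ^ d * (algebraMap A L uc * x))) := by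
      calc x₁ = algebraMap A L ((ub⁻¹ : Aˣ) : A) * (algebraMap A L ub * x₁) := by
            rw [← mul_assoc, hubinv', one_mul]
        _ = _ := by rw [← h4]; ring
    have hmem : algebraMap A L ((ub⁻¹ : Aˣ) : A) *
        (algebraMap A L π ^ d * (algebraMap A L uc * x)) ∈ V :=
      mul_mem (hAV _) (mul_mem (pow_mem (hAV _) d) (mul_mem (hAV _) hx))
    have h6 := hstar q₁ hq₁deg ⟨_, hmem, by rw [← hx₁]; exact h5⟩
    exact (mem_maximalIdeal _).mp (h6 i₀) hi₀

theorem unique_of_span (π : A) (hπ : maximalIdeal A = Ideal.span {π}) (V : ValuationSubring L)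
    (y : L) (hyV : y ∈ V) (N : ℕ)
    (hspan : ∀ x ∈ V, ∃ q : A[X], q.natDegree < N ∧ x = aeval y q)
    (M : ℕ) (hpow : ∀ x ∈ V, x⁻¹ ∉ V → ∃ v ∈ V, x ^ M = algebraMap A L π * v)
    (V' : ValuationSubring L) (hdom' : EtRam.Dominates A (algebraMap A L) V') : V = V' := by
  obtain ⟨q₀, hq₀deg, hq₀⟩ := hspan (y ^ N) (pow_mem hyV N)
  have hyint : IsIntegral A y := by
    refine ⟨X ^ N - q₀, monic_X_pow_sub (lt_of_le_of_lt degree_le_natDegree
      (by exact_mod_cast hq₀deg)), ?_⟩
    rw [← aeval_def, map_sub, map_pow, aeval_X, hq₀, sub_self]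
  have hint : ∀ x ∈ V, IsIntegral A x := by
    intro x hx
    obtain ⟨q, -, rfl⟩ := hspan x hx
    have h1 : aeval y q ∈ Algebra.adjoin A {y} := aeval_mem_adjoin_singleton A y
    have h2 : Algebra.adjoin A {y} ≤ integralClosure A L :=
      Algebra.adjoin_le (Set.singleton_subset_iff.mpr hyint)
    exact h2 h1
  letI algAV' : Algebra A V' := (RingHom.codRestrict (algebraMap A L) V' hdom'.1).toAlgebra
  haveI : IsScalarTower A V' L := IsScalarTower.of_algebraMap_eq (fun _ => rfl)
  have hle : ∀ x ∈ V, x ∈ V' := by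
    intro x hx
    have h1 : IsIntegral V' x := (hint x hx).tower_top
    obtain ⟨y', hy'⟩ := IsIntegrallyClosed.isIntegral_iff.mp h1
    rw [← hy']; exact y'.2
  have hge : ∀ x ∈ V', x ∈ V := by
    intro x hx'
    by_contra hxV
    have hx0 : x ≠ 0 := fun h0 => hxV (h0 ▸ zero_mem V)
    have htV : x⁻¹ ∈ V := (V.mem_or_inv_mem x).resolve_left hxV
    have htinv : (x⁻¹)⁻¹ ∉ V := by rw [inv_inv]; exact hxV
    obtain ⟨v, hv, hvM⟩ := hpow x⁻¹ htV htinv
    have hπm : π ∈ maximalIdeal A := by rw [hπ]; exact Ideal.subset_span rfl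
    have hlt := hdom'.2 π hπm
    have hgπ0 : algebraMap A L π ≠ 0 := by
      intro h0
      exact pow_ne_zero M (inv_ne_zero hx0) (by rw [hvM, h0, zero_mul])
    have h1 : algebraMap A L π * (v * x ^ M) = 1 := by
      rw [← mul_assoc, ← hvM, inv_pow, inv_mul_cancel₀ (pow_ne_zero M hx0)]
    have h2 : (algebraMap A L π)⁻¹ ∈ V' := by
      rw [inv_eq_of_mul_eq_one_right h1]
      exact mul_mem (hle v hv) (pow_mem hx' M)
    exact (val_lt_one_iff V' hgπ0).mp hlt h2
  exact SetLike.ext (fun x => ⟨hle x, hge x⟩)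

end Span

end Groth.Agent.Helper22.ASGen
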