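import Mathlib
import Groth.Prelude.Def_EtRam
import Groth.Agent.Lib.Helper22.WUSep

/-!
# Kummer extensions of von Neumann regular rings and the criterion with an extra root
(Abhyankar-type statements: S1982, S9307)
-/

set_option autoImplicit false
universe u

open TensorProduct IsLocalRing Polynomial

namespace Groth.Agent.Helper22.KummerCT

open Groth.Agent.Helper22.SolTower Groth.Agent.Helper22.WUGen Groth.Agent.Helper22.CompCtx
  Groth.Agent.Helper22.WUSep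

/-! ### `R[X]/(X^g - c)` is reduced for reduced `R`, `g` and `c` invertible -/

theorem coeff_mem_of_prime {R : Type*} [CommRing R] (g : ℕ) (hg : 0 < g)
    (hgR : IsUnit ((g : ℕ) : R)) (c : R) (hc : IsUnit c)
    (r : R[X]) (hrdeg : r.degree < (X ^ g - C c : R[X]).degree) (N : ℕ)
    (hdvd : (X ^ g - C c : R[X]) ∣ r ^ (N + 1))
    (𝔭 : Ideal R) [h𝔭 : 𝔭.IsPrime] (i : ℕ) : r.coeff i ∈ 𝔭 := by
  haveI : Nontrivial R := nontrivial_of_ne (0 : R) 1 (fun h =>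
    h𝔭.ne_top ((Ideal.eq_top_iff_one 𝔭).mpr (h ▸ 𝔭.zero_mem)))
  obtain ⟨ψ, hψ⟩ : ∃ ψ : R →+* FractionRing (R ⧸ 𝔭),
      ψ = (algebraMap (R ⧸ 𝔭) (FractionRing (R ⧸ 𝔭))).comp (Ideal.Quotient.mk 𝔭) := ⟨_, rfl⟩
  have hker : ∀ x, ψ x = 0 → x ∈ 𝔭 := by
    intro x hx
    rw [hψ, RingHom.comp_apply] at hx
    have h1 : Ideal.Quotient.mk 𝔭 x = 0 :=
      (IsFractionRing.injective (R ⧸ 𝔭) (FractionRing (R ⧸ 𝔭))) (by rw [hx, map_zero])
    exact Ideal.Quotient.eq_zero_iff_mem.mp h1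
  have hmap : (X ^ g - C c : R[X]).map ψ = X ^ g - C (ψ c) := by
    rw [Polynomial.map_sub, Polynomial.map_pow, Polynomial.map_X, Polynomial.map_C]
  have hgF : ((g : ℕ) : FractionRing (R ⧸ 𝔭)) ≠ 0 := by
    have h1 : IsUnit (ψ ((g : ℕ) : R)) := hgR.map ψ
    rw [map_natCast] at h1
    exact h1.ne_zero
  have hcF : ψ c ≠ 0 := (hc.map ψ).ne_zero
  have hsepF : (X ^ g - C (ψ c) : (FractionRing (R ⧸ 𝔭))[X]).Separable :=
    separable_X_pow_sub_C (ψ c) hgF hcF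
  have hdvd' : (X ^ g - C (ψ c) : (FractionRing (R ⧸ 𝔭))[X]) ∣ (r.map ψ) ^ (N + 1) := by
    rw [← hmap, ← Polynomial.map_pow]
    exact Polynomial.map_dvd ψ hdvd
  have hdvd'' : (X ^ g - C (ψ c) : (FractionRing (R ⧸ 𝔭))[X]) ∣ r.map ψ :=
    (hsepF.squarefree.dvd_pow_iff_dvd (Nat.succ_ne_zero N)).mp hdvd'
  have hdeg' : (r.map ψ).degree < (X ^ g - C (ψ c) : (FractionRing (R ⧸ 𝔭))[X]).degree := by
    rw [degree_X_pow_sub_C hg]
    rw [degree_X_pow_sub_C hg] at hrdeg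
    exact lt_of_le_of_lt degree_map_le hrdeg
  have h0 : r.map ψ = 0 := eq_zero_of_dvd_of_degree_lt hdvd'' hdeg'
  apply hker
  rw [← Polynomial.coeff_map, h0, coeff_zero]

theorem reduced_adjoinRoot_kummer (R : Type*) [CommRing R] [IsReduced R] (g : ℕ) (hg : 0 < g)
    (hgR : IsUnit ((g : ℕ) : R)) (c : R) (hc : IsUnit c) :
    IsReduced (AdjoinRoot (X ^ g - C c : R[X])) := by
  rcases subsingleton_or_nontrivial R with hR | hR
  · haveI : Subsingleton (AdjoinRoot (X ^ g - C c : R[X])) := Module.subsingleton R _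
    exact ⟨fun x _ => Subsingleton.elim x 0⟩
  have hmonic : (X ^ g - C c : R[X]).Monic := monic_X_pow_sub_C c hg.ne'
  constructor
  intro s hs
  obtain ⟨N, hN⟩ := hs
  obtain ⟨q, rfl⟩ := AdjoinRoot.mk_surjective s
  obtain ⟨r, hr⟩ : ∃ r, r = q %ₘ (X ^ g - C c : R[X]) := ⟨_, rfl⟩
  have hqr : AdjoinRoot.mk (X ^ g - C c : R[X]) q = AdjoinRoot.mk (X ^ g - C c : R[X]) r := by
    rw [AdjoinRoot.mk_eq_mk]
    refine ⟨q /ₘ (X ^ g - C c : R[X]), ?_⟩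
    rw [hr, sub_eq_iff_eq_add, add_comm]
    exact (modByMonic_add_div q (X ^ g - C c : R[X])).symm
  have hrdeg : r.degree < (X ^ g - C c : R[X]).degree := by
    rw [hr]; exact degree_modByMonic_lt q hmonic
  have hdvd : (X ^ g - C c : R[X]) ∣ r ^ (N + 1) := by
    rw [← AdjoinRoot.mk_eq_zero, map_pow, ← hqr, pow_succ, hN, zero_mul]
  have hr0 : r = 0 := by
    ext i
    rw [coeff_zero]
    have h1 : r.coeff i ∈ nilradical R := by
      rw [nilradical_eq_sInf, Ideal.mem_sInf]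
      intro 𝔭 h𝔭
      haveI : 𝔭.IsPrime := h𝔭
      exact coeff_mem_of_prime g hg hgR c hc r hrdeg N hdvd 𝔭 i
    rw [nilradical_eq_zero, Ideal.zero_eq_bot, Ideal.mem_bot] at h1
    exact h1
  rw [hqr, hr0, map_zero]

theorem vnr_adjoinRoot_kummer (k R : Type*) [Field k] [CommRing R] [Algebra k R]
    [Algebra.IsIntegral k R] [IsReduced R] (g : ℕ) (hg : 0 < g) (hgk : ((g : ℕ) : k) ≠ 0)
    (c : R) (hc : IsUnit c) : VNR (AdjoinRoot (X ^ g - C c : R[X])) := by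
  have hgR : IsUnit ((g : ℕ) : R) := by
    have h1 : IsUnit (algebraMap k R ((g : ℕ) : k)) := (IsUnit.mk0 _ hgk).map (algebraMap k R)
    rwa [map_natCast] at h1
  haveI := reduced_adjoinRoot_kummer R g hg hgR c hc
  have hmonic : (X ^ g - C c : R[X]).Monic := monic_X_pow_sub_C c hg.ne'
  haveI : Module.Finite R (AdjoinRoot (X ^ g - C c : R[X])) := hmonic.finite_adjoinRoot
  haveI : Algebra.IsIntegral R (AdjoinRoot (X ^ g - C c : R[X])) :=
    Algebra.IsIntegral.of_finite R _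
  haveI : Algebra.IsIntegral k (AdjoinRoot (X ^ g - C c : R[X])) := Algebra.IsIntegral.trans R
  exact VNR.of_reduced_integral k _

/-! ### the criterion with an extra root -/

section GKT
variable (A R₁ R₂ M : Type u) [CommRing A] [IsLocalRing A] [CommRing R₁] [IsLocalRing R₁]
  [CommRing R₂] [IsLocalRing R₂] [Algebra A R₁] [Algebra A R₂] [IsLocalHom (algebraMap A R₁)]
  [IsLocalHom (algebraMap A R₂)] [Field M]

theorem GKT (W : ValuationSubring M) (θ₁ : R₁ →+* W) (θ₂ : R₂ →+* W)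
    (hcompat : ∀ x : A, θ₁ (algebraMap A R₁ x) = θ₂ (algebraMap A R₂ x))
    (ϖ₁ : R₁) (hϖ₁ : maximalIdeal R₁ = Ideal.span {ϖ₁})
    (ϖ₂ : R₂) (hϖ₂ : maximalIdeal R₂ = Ideal.span {ϖ₂})
    (τ ϖ : W) (g : ℕ) (hg : 0 < g) (hgκ : ((g : ℕ) : ResidueField A) ≠ 0)
    (a : R₁) (ha : IsUnit a) (b : R₂) (hb : IsUnit b) (hτ : τ ^ g = θ₁ a * θ₂ b)
    (h1 : ∃ s ∈ Subring.closure (Set.range θ₁ ∪ Set.range θ₂ ∪ {τ, ϖ}), θ₁ ϖ₁ = ϖ * s)
    (h2 : ∃ s ∈ Subring.closure (Set.range θ₁ ∪ Set.range θ₂ ∪ {τ, ϖ}), θ₂ ϖ₂ = ϖ * s)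
    (hϖm : ϖ ∈ maximalIdeal W) (hϖ0 : ϖ ≠ 0)
    [Algebra.IsIntegral (ResidueField A) (ResidueField R₂)]
    [IsReduced (ResidueField R₁ ⊗[ResidueField A] ResidueField R₂)]
    (hsep : ∀ w : W, w ≠ 0 → ∃ n : ℕ, ¬ ϖ ^ n ∣ w)
    (hgen : ∀ S : Subring M, (∀ r, ((θ₁ r : W) : M) ∈ S) → (∀ r, ((θ₂ r : W) : M) ∈ S) →
      (∀ x ∈ S, x⁻¹ ∈ S) → S = ⊤) :
    (∀ w ∈ maximalIdeal W, ϖ ∣ w) ∧
    ∀ P : W → Prop, (∀ r, P (θ₁ r)) → (∀ r, P (θ₂ r)) → P τ → P ϖ →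
      (∀ x y, P x → P y → P (x + y)) → (∀ x y, P x → P y → P (x * y)) →
      (∀ x y, P x → x * y = 1 → P y) → ∀ w, P w := by
  classical
  obtain ⟨T', hT'⟩ : ∃ T' : Subring W,
      T' = Subring.closure (Set.range θ₁ ∪ Set.range θ₂ ∪ {τ, ϖ}) := ⟨_, rfl⟩
  rw [← hT'] at h1 h2
  have hsub : Set.range θ₁ ∪ Set.range θ₂ ∪ {τ, ϖ} ⊆ (T' : Set W) := by
    rw [hT']; exact Subring.subset_closure
  have hθ₁T : ∀ r, θ₁ r ∈ T' := fun r =>
    hsub (Set.mem_union_left _ (Set.mem_union_left _ ⟨r, rfl⟩))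
  have hθ₂T : ∀ r, θ₂ r ∈ T' := fun r =>
    hsub (Set.mem_union_left _ (Set.mem_union_right _ ⟨r, rfl⟩))
  have hτT : τ ∈ T' := hsub (Set.mem_union_right _ (Set.mem_insert _ _))
  have hϖT : ϖ ∈ T' :=
    hsub (Set.mem_union_right _ (Set.mem_insert_of_mem _ (Set.mem_singleton _)))
  obtain ⟨ϖ', hϖ'⟩ : ∃ ϖ' : T', ϖ' = ⟨ϖ, hϖT⟩ := ⟨_, rfl⟩
  have hϖ'v : (ϖ' : W) = ϖ := by rw [hϖ']
  obtain ⟨τ', hτ'⟩ : ∃ τ' : T', τ' = ⟨τ, hτT⟩ := ⟨_, rfl⟩
  have hτ'v : (τ' : W) = τ := by rw [hτ']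
  obtain ⟨I, hI⟩ : ∃ I : Ideal T', I = Ideal.span {ϖ'} := ⟨_, rfl⟩
  have hmemI : ∀ x : T', (∃ s ∈ T', (x : W) = ϖ * s) → Ideal.Quotient.mk I x = 0 := by
    rintro x ⟨s, hs, hxs⟩
    rw [Ideal.Quotient.eq_zero_iff_mem, hI, Ideal.mem_span_singleton']
    refine ⟨⟨s, hs⟩, Subtype.ext ?_⟩
    show s * (ϖ' : W) = (x : W)
    rw [hxs, hϖ'v, mul_comm]
  obtain ⟨ι₁, hι₁⟩ : ∃ ι₁ : R₁ →+* T', ι₁ = θ₁.codRestrict T' hθ₁T := ⟨_, rfl⟩
  obtain ⟨ι₂, hι₂⟩ : ∃ ι₂ : R₂ →+* T', ι₂ = θ₂.codRestrict T' hθ₂T := ⟨_, rfl⟩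
  have hι₁v : ∀ r, ((ι₁ r : T') : W) = θ₁ r := by intro r; rw [hι₁]; rfl
  have hι₂v : ∀ r, ((ι₂ r : T') : W) = θ₂ r := by intro r; rw [hι₂]; rfl
  let g₁ : R₁ →+* T' ⧸ I := (Ideal.Quotient.mk I).comp ι₁
  let g₂ : R₂ →+* T' ⧸ I := (Ideal.Quotient.mk I).comp ι₂
  have hg₁ : ∀ r, g₁ r = Ideal.Quotient.mk I (ι₁ r) := fun r => rfl
  have hg₂ : ∀ r, g₂ r = Ideal.Quotient.mk I (ι₂ r) := fun r => rfl
  have h₁ : ∀ r ∈ maximalIdeal R₁, g₁ r = 0 := by
    intro r hr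
    rw [hϖ₁, Ideal.mem_span_singleton'] at hr
    obtain ⟨c, rfl⟩ := hr
    obtain ⟨s, hs, hss⟩ := h1
    rw [hg₁]
    apply hmemI
    refine ⟨θ₁ c * s, T'.mul_mem (hθ₁T c) hs, ?_⟩
    rw [hι₁v, map_mul, hss]; ring
  have h₂ : ∀ r ∈ maximalIdeal R₂, g₂ r = 0 := by
    intro r hr
    rw [hϖ₂, Ideal.mem_span_singleton'] at hr
    obtain ⟨c, rfl⟩ := hr
    obtain ⟨s, hs, hss⟩ := h2
    rw [hg₂]
    apply hmemI
    refine ⟨θ₂ c * s, T'.mul_mem (hθ₂T c) hs, ?_⟩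
    rw [hι₂v, map_mul, hss]; ring
  have hcompat' : ∀ x : A, g₁ (algebraMap A R₁ x) = g₂ (algebraMap A R₂ x) := by
    intro x
    rw [hg₁, hg₂]
    have e : ι₁ (algebraMap A R₁ x) = ι₂ (algebraMap A R₂ x) := by
      apply Subtype.ext
      rw [hι₁v, hι₂v, hcompat]
    rw [e]
  let φ₁ : ResidueField R₁ →+* T' ⧸ I := Ideal.Quotient.lift (maximalIdeal R₁) g₁ h₁
  let φ₂ : ResidueField R₂ →+* T' ⧸ I := Ideal.Quotient.lift (maximalIdeal R₂) g₂ h₂
  have hφ₁ : ∀ r, φ₁ (residue R₁ r) = g₁ r := fun r => rfl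
  have hφ₂ : ∀ r, φ₂ (residue R₂ r) = g₂ r := fun r => rfl
  letI algκQ : Algebra (ResidueField A) (T' ⧸ I) :=
    (φ₁.comp (algebraMap (ResidueField A) (ResidueField R₁))).toAlgebra
  let f₁ : ResidueField R₁ →ₐ[ResidueField A] T' ⧸ I :=
    { toRingHom := φ₁
      commutes' := fun x => rfl }
  let f₂ : ResidueField R₂ →ₐ[ResidueField A] T' ⧸ I :=
    { toRingHom := φ₂
      commutes' := fun x => by
        obtain ⟨x₀, rfl⟩ := residue_surjective x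
        show φ₂ (algebraMap (ResidueField A) (ResidueField R₂) (residue A x₀)) =
          φ₁ (algebraMap (ResidueField A) (ResidueField R₁) (residue A x₀))
        rw [ResidueField.algebraMap_residue, ResidueField.algebraMap_residue, hφ₁, hφ₂,
          hcompat'] }
  obtain ⟨i, hidef⟩ : ∃ i : ResidueField R₁ ⊗[ResidueField A] ResidueField R₂ →+* T' ⧸ I,
      i = (Algebra.TensorProduct.productMap f₁ f₂).toRingHom := ⟨_, rfl⟩
  have hi : ∀ x y, i (x ⊗ₜ[ResidueField A] y) = φ₁ x * φ₂ y := by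
    intro x y
    rw [hidef]
    exact Algebra.TensorProduct.productMap_apply_tmul f₁ f₂ x y
  obtain ⟨c, hc⟩ : ∃ c : ResidueField R₁ ⊗[ResidueField A] ResidueField R₂,
      c = (residue R₁ a) ⊗ₜ[ResidueField A] (residue R₂ b) := ⟨_, rfl⟩
  have hcu : IsUnit c := by
    have e : c = (Algebra.TensorProduct.includeLeftRingHom (residue R₁ a)) *
        ((Algebra.TensorProduct.includeRight : ResidueField R₂ →ₐ[ResidueField A]
          ResidueField R₁ ⊗[ResidueField A] ResidueField R₂) (residue R₂ b)) := by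
      rw [hc]
      show _ = ((residue R₁ a) ⊗ₜ[ResidueField A] (1 : ResidueField R₂)) *
        ((1 : ResidueField R₁) ⊗ₜ[ResidueField A] (residue R₂ b))
      rw [Algebra.TensorProduct.tmul_mul_tmul, mul_one, one_mul]
    rw [e]
    exact ((ha.map (residue R₁)).map _).mul ((hb.map (residue R₂)).map _)
  have hgk₁ : ((g : ℕ) : ResidueField R₁) ≠ 0 := by
    have h3 : algebraMap (ResidueField A) (ResidueField R₁) ((g : ℕ) : ResidueField A) ≠ 0 :=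
      (_root_.map_ne_zero _).mpr hgκ
    rwa [map_natCast] at h3
  have hvS : VNR (AdjoinRoot
      (X ^ g - C c : (ResidueField R₁ ⊗[ResidueField A] ResidueField R₂)[X])) :=
    vnr_adjoinRoot_kummer (ResidueField R₁) _ g hg hgk₁ c hcu
  have hτ'g : τ' ^ g = ι₁ a * ι₂ b := by
    apply Subtype.ext
    show (τ' : W) ^ g = (ι₁ a : W) * (ι₂ b : W)
    rw [hτ'v, hι₁v, hι₂v, hτ]
  have hic : i c = Ideal.Quotient.mk I (ι₁ a * ι₂ b) := by
    rw [hc, hi, hφ₁, hφ₂, hg₁, hg₂, ← map_mul]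
  have hΨ0 : (X ^ g - C c : (ResidueField R₁ ⊗[ResidueField A] ResidueField R₂)[X]).eval₂ i
      (Ideal.Quotient.mk I τ') = 0 := by
    rw [eval₂_sub, eval₂_pow, eval₂_X, eval₂_C, hic, ← map_pow, hτ'g, sub_self]
  obtain ⟨Ψ, hΨdef⟩ : ∃ Ψ : AdjoinRoot
      (X ^ g - C c : (ResidueField R₁ ⊗[ResidueField A] ResidueField R₂)[X]) →+* T' ⧸ I,
      Ψ = AdjoinRoot.lift i (Ideal.Quotient.mk I τ') hΨ0 := ⟨_, rfl⟩
  have hΨof : ∀ x, Ψ (AdjoinRoot.of _ x) = i x := by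
    intro x; rw [hΨdef]; exact AdjoinRoot.lift_of hΨ0
  have hΨroot : Ψ (AdjoinRoot.root _) = Ideal.Quotient.mk I τ' := by
    rw [hΨdef]; exact AdjoinRoot.lift_root hΨ0
  have hsurjQ : ∀ (x : W), x ∈ Subring.closure (Set.range θ₁ ∪ Set.range θ₂ ∪ {τ, ϖ}) →
      ∀ hx' : x ∈ T', Ideal.Quotient.mk I ⟨x, hx'⟩ ∈ Ψ.range := by
    intro x hx
    induction hx using Subring.closure_induction with
    | mem x hxs =>
      intro hx'
      rcases hxs with (⟨r, rfl⟩ | ⟨r, rfl⟩) | hx3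
      · refine RingHom.mem_range.mpr ⟨AdjoinRoot.of _ ((residue R₁ r) ⊗ₜ 1), ?_⟩
        rw [hΨof, hi, map_one, mul_one, hφ₁, hg₁]
        congr 1
        exact Subtype.ext (hι₁v r)
      · refine RingHom.mem_range.mpr ⟨AdjoinRoot.of _ (1 ⊗ₜ (residue R₂ r)), ?_⟩
        rw [hΨof, hi, map_one, one_mul, hφ₂, hg₂]
        congr 1
        exact Subtype.ext (hι₂v r)
      · rcases hx3 with rfl | rfl
        · refine RingHom.mem_range.mpr ⟨AdjoinRoot.root _, ?_⟩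
          rw [hΨroot, hτ']
        · refine RingHom.mem_range.mpr ⟨0, ?_⟩
          rw [map_zero]
          symm
          exact hmemI _ ⟨1, T'.one_mem, (mul_one _).symm⟩
    | zero =>
      intro hx'
      exact RingHom.mem_range.mpr ⟨0, by rw [map_zero]; rfl⟩
    | one =>
      intro hx'
      exact RingHom.mem_range.mpr ⟨1, by rw [map_one]; rfl⟩
    | add x y hx hy ihx ihy =>
      intro hx'
      have hxT : x ∈ T' := by rw [hT']; exact hx
      have hyT : y ∈ T' := by rw [hT']; exact hy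
      have e : (⟨x + y, hx'⟩ : T') = ⟨x, hxT⟩ + ⟨y, hyT⟩ := rfl
      rw [e, map_add]
      exact Ψ.range.add_mem (ihx hxT) (ihy hyT)
    | neg x hx ih =>
      intro hx'
      have hxT : x ∈ T' := by rw [hT']; exact hx
      have e : (⟨-x, hx'⟩ : T') = -⟨x, hxT⟩ := rfl
      rw [e, map_neg]
      exact Ψ.range.neg_mem (ih hxT)
    | mul x y hx hy ihx ihy =>
      intro hx'
      have hxT : x ∈ T' := by rw [hT']; exact hx
      have hyT : y ∈ T' := by rw [hT']; exact hy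
      have e : (⟨x * y, hx'⟩ : T') = ⟨x, hxT⟩ * ⟨y, hyT⟩ := rfl
      rw [e, map_mul]
      exact Ψ.range.mul_mem (ihx hxT) (ihy hyT)
  have hΨsurj : Function.Surjective Ψ := by
    intro q
    obtain ⟨y, rfl⟩ := Ideal.Quotient.mk_surjective q
    exact RingHom.mem_range.mp (hsurjQ (y : W) (by rw [← hT']; exact y.2) y.2)
  have hvQ : VNR (T' ⧸ I) := VNR.of_surjective Ψ hΨsurj hvS
  have hvnr : ∀ t : T', ∃ z c' : T', t - t * t * z = ϖ' * c' := by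
    intro t
    obtain ⟨z', hz'⟩ := hvQ (Ideal.Quotient.mk I t)
    obtain ⟨z, rfl⟩ := Ideal.Quotient.mk_surjective z'
    have h0 : Ideal.Quotient.mk I (t - t * t * z) = 0 := by
      rw [map_sub, map_mul, map_mul, hz', sub_self]
    rw [Ideal.Quotient.eq_zero_iff_mem, hI] at h0
    obtain ⟨c', hc'⟩ := Ideal.mem_span_singleton'.mp h0
    exact ⟨z, c', by rw [← hc', mul_comm]⟩
  obtain ⟨θ, hθdef⟩ : ∃ θ : T' →+* W, θ = T'.subtype := ⟨_, rfl⟩
  have hθv : ∀ t : T', θ t = (t : W) := by intro t; rw [hθdef]; rfl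
  have hθϖ : θ ϖ' = ϖ := by rw [hθv, hϖ'v]
  have hgen' : ∀ x : M, ∃ p q : T', θ q ≠ 0 ∧ x * ((θ q : W) : M) = ((θ p : W) : M) := by
    let S : Subring M :=
      { carrier := {x | ∃ p q : T', θ q ≠ 0 ∧ x * ((θ q : W) : M) = ((θ p : W) : M)}
        zero_mem' := ⟨0, 1, by rw [map_one]; exact one_ne_zero, by rw [map_zero, zero_mul]; rfl⟩
        one_mem' := ⟨1, 1, by rw [map_one]; exact one_ne_zero, by rw [one_mul]⟩
        add_mem' := by
          rintro x y ⟨p, q, hq, hpq⟩ ⟨p', q', hq', hpq'⟩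
          refine ⟨p * q' + p' * q, q * q', by rw [map_mul]; exact mul_ne_zero hq hq', ?_⟩
          rw [map_mul, map_add, map_mul, map_mul]
          push_cast
          rw [← hpq, ← hpq']; ring
        mul_mem' := by
          rintro x y ⟨p, q, hq, hpq⟩ ⟨p', q', hq', hpq'⟩
          refine ⟨p * p', q * q', by rw [map_mul]; exact mul_ne_zero hq hq', ?_⟩
          rw [map_mul, map_mul]
          push_cast
          rw [← hpq, ← hpq']; ring
        neg_mem' := by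
          rintro x ⟨p, q, hq, hpq⟩
          refine ⟨-p, q, hq, ?_⟩
          rw [map_neg]
          push_cast
          rw [← hpq]; ring }
    have hS : S = ⊤ := by
      apply hgen S
      · intro r
        refine ⟨ι₁ r, 1, by rw [map_one]; exact one_ne_zero, ?_⟩
        rw [map_one, hθv, hι₁v]
        push_cast
        rw [mul_one]
      · intro r
        refine ⟨ι₂ r, 1, by rw [map_one]; exact one_ne_zero, ?_⟩
        rw [map_one, hθv, hι₂v]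
        push_cast
        rw [mul_one]
      · rintro x ⟨p, q, hq, hpq⟩
        by_cases hx0 : x = 0
        · rw [hx0, inv_zero]; exact S.zero_mem
        · have hq' : ((θ q : W) : M) ≠ 0 := fun h => hq (Subtype.ext h)
          have hp : θ p ≠ 0 := by
            intro h
            have h1 : ((θ p : W) : M) = 0 := by rw [h]; rfl
            rw [h1] at hpq
            exact (mul_ne_zero hx0 hq') hpq
          refine ⟨q, p, hp, ?_⟩
          rw [← hpq, ← mul_assoc, inv_mul_cancel₀ hx0, one_mul]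
    intro x
    have hx : x ∈ S := by rw [hS]; exact Subring.mem_top x
    exact hx
  obtain ⟨hC1, hC2⟩ := GT (W := W) (θ := θ) ϖ' (by rw [hθϖ]; exact hϖm)
    (by rw [hθϖ]; exact hϖ0) hvnr (by rw [hθϖ]; exact hsep) hgen'
  refine ⟨by rw [hθϖ] at hC1; exact hC1, ?_⟩
  intro P hP1 hP2 hPτ hPϖ hadd hmul hinv w
  have hPT : ∀ (x : W), x ∈ Subring.closure (Set.range θ₁ ∪ Set.range θ₂ ∪ {τ, ϖ}) → P x := by
    intro x hx
    induction hx using Subring.closure_induction with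
    | mem x hxs =>
      rcases hxs with (⟨r, rfl⟩ | ⟨r, rfl⟩) | hx3
      · exact hP1 r
      · exact hP2 r
      · rcases hx3 with rfl | rfl
        · exact hPτ
        · exact hPϖ
    | zero =>
      have h3 := hP1 0
      rwa [map_zero] at h3
    | one =>
      have h3 := hP1 1
      rwa [map_one] at h3
    | add x y _ _ ihx ihy => exact hadd _ _ ihx ihy
    | neg x _ ih =>
      have e : -x = θ₁ (-1) * x := by rw [map_neg, map_one, neg_one_mul]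
      rw [e]; exact hmul _ _ (hP1 _) ih
    | mul x y _ _ ihx ihy => exact hmul _ _ ihx ihy
  have hPθ : ∀ t : T', P (θ t) := by
    intro t
    rw [hθv]
    exact hPT _ (by rw [← hT']; exact t.2)
  obtain ⟨p, q, hq, hpq⟩ := hC2 w
  obtain ⟨u, hu⟩ := hq
  have hPinv : P ((u⁻¹ : Wˣ) : W) := hinv (θ q) _ (hPθ q) (by rw [← hu]; exact Units.mul_inv u)
  have hw : w = θ p * ((u⁻¹ : Wˣ) : W) := by
    rw [← hpq, ← hu, mul_assoc, Units.mul_inv, mul_one]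
  rw [hw]; exact hmul _ _ (hPθ p) hPinv

end GKT

/-! ### geometric reducedness of a residue field generated with an extra root -/

theorem geomRed_kummer (κ k₁ kB kW : Type u) [Field κ] [Field k₁] [Field kB] [Field kW]
    [Algebra κ k₁] [Algebra κ kB] [Algebra k₁ kW] [Algebra.IsIntegral κ k₁]
    [Algebra.IsGeometricallyReduced κ kB] (σB : kB →+* kW)
    (hcomm : ∀ c : κ, σB (algebraMap κ kB c) = algebraMap k₁ kW (algebraMap κ k₁ c))
    (g : ℕ) (hg : 0 < g) (hgκ : ((g : ℕ) : κ) ≠ 0) (a₀ : kB) (ha₀ : a₀ ≠ 0) (b₀ : k₁)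
    (hb₀ : b₀ ≠ 0) (τ : kW) (hτ : τ ^ g = σB a₀ * algebraMap k₁ kW b₀)
    (hgen : ∀ P : kW → Prop, (∀ b, P (σB b)) → (∀ x, P (algebraMap k₁ kW x)) → P τ →
      (∀ x y, P x → P y → P (x + y)) → (∀ x y, P x → P y → P (x * y)) →
      (∀ x y, P x → x * y = 1 → P y) → ∀ w, P w) :
    Algebra.IsGeometricallyReduced k₁ kW := by
  rw [Algebra.isGeometricallyReduced_field_iff]
  haveI : Algebra.IsAlgebraic κ k₁ := inferInstance
  haveI : Algebra.IsAlgebraic κ (AlgebraicClosure k₁) := Algebra.IsAlgebraic.trans κ k₁ _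
  haveI : Algebra.IsIntegral κ (AlgebraicClosure k₁) := inferInstance
  haveI hred : IsReduced (kB ⊗[κ] AlgebraicClosure k₁) :=
    isReduced_of_injective (Algebra.TensorProduct.comm κ kB (AlgebraicClosure k₁))
      (AlgEquiv.injective _)
  have e1 : ∀ x : k₁, (algebraMap k₁ (AlgebraicClosure k₁) x) ⊗ₜ[k₁] (1 : kW) =
      (1 : AlgebraicClosure k₁) ⊗ₜ[k₁] (algebraMap k₁ kW x) := by
    intro x
    have h1 : algebraMap k₁ (AlgebraicClosure k₁) x = x • (1 : AlgebraicClosure k₁) :=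
      Algebra.algebraMap_eq_smul_one x
    have h2 : algebraMap k₁ kW x = x • (1 : kW) := Algebra.algebraMap_eq_smul_one x
    rw [h1, h2, TensorProduct.smul_tmul]
  let fΩ : AlgebraicClosure k₁ →ₐ[κ] AlgebraicClosure k₁ ⊗[k₁] kW :=
    Algebra.TensorProduct.includeLeft
  let fB : kB →ₐ[κ] AlgebraicClosure k₁ ⊗[k₁] kW :=
    { toRingHom := (Algebra.TensorProduct.includeRight :
          kW →ₐ[k₁] AlgebraicClosure k₁ ⊗[k₁] kW).toRingHom.comp σB
      commutes' := fun c => by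
        show (1 : AlgebraicClosure k₁) ⊗ₜ[k₁] σB (algebraMap κ kB c) =
          algebraMap κ (AlgebraicClosure k₁ ⊗[k₁] kW) c
        rw [Algebra.TensorProduct.algebraMap_apply,
          IsScalarTower.algebraMap_apply κ k₁ (AlgebraicClosure k₁), e1, hcomm] }
  obtain ⟨Ξ₀, hΞ₀def⟩ : ∃ Ξ₀ : kB ⊗[κ] AlgebraicClosure k₁ →+* AlgebraicClosure k₁ ⊗[k₁] kW,
      Ξ₀ = (Algebra.TensorProduct.productMap fB fΩ).toRingHom := ⟨_, rfl⟩
  have hΞ₀ : ∀ (b : kB) (ω : AlgebraicClosure k₁), Ξ₀ (b ⊗ₜ[κ] ω) =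
      ((1 : AlgebraicClosure k₁) ⊗ₜ[k₁] σB b) * (ω ⊗ₜ[k₁] (1 : kW)) := by
    intro b ω
    rw [hΞ₀def]
    exact Algebra.TensorProduct.productMap_apply_tmul fB fΩ b ω
  obtain ⟨c, hc⟩ : ∃ c : kB ⊗[κ] AlgebraicClosure k₁,
      c = a₀ ⊗ₜ[κ] (algebraMap k₁ (AlgebraicClosure k₁) b₀) := ⟨_, rfl⟩
  have hcu : IsUnit c := by
    have e : c = (Algebra.TensorProduct.includeLeftRingHom a₀) *
        ((Algebra.TensorProduct.includeRight : AlgebraicClosure k₁ →ₐ[κ]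
          kB ⊗[κ] AlgebraicClosure k₁) (algebraMap k₁ (AlgebraicClosure k₁) b₀)) := by
      rw [hc]
      show _ = (a₀ ⊗ₜ[κ] (1 : AlgebraicClosure k₁)) *
        ((1 : kB) ⊗ₜ[κ] (algebraMap k₁ (AlgebraicClosure k₁) b₀))
      rw [Algebra.TensorProduct.tmul_mul_tmul, mul_one, one_mul]
    rw [e]
    exact ((IsUnit.mk0 _ ha₀).map _).mul
      ((IsUnit.mk0 _ ((_root_.map_ne_zero (algebraMap k₁ (AlgebraicClosure k₁))).mpr hb₀)).map _)
  have hgkB : ((g : ℕ) : kB) ≠ 0 := by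
    have h3 : algebraMap κ kB ((g : ℕ) : κ) ≠ 0 := (_root_.map_ne_zero _).mpr hgκ
    rwa [map_natCast] at h3
  have hvS : VNR (AdjoinRoot (X ^ g - C c : (kB ⊗[κ] AlgebraicClosure k₁)[X])) :=
    vnr_adjoinRoot_kummer kB _ g hg hgkB c hcu
  have hΞ₀c : Ξ₀ c = ((1 : AlgebraicClosure k₁) ⊗ₜ[k₁] τ) ^ g := by
    rw [hc, hΞ₀, e1, Algebra.TensorProduct.tmul_mul_tmul, one_mul, ← hτ,
      Algebra.TensorProduct.tmul_pow, one_pow]
  have hΞ0 : (X ^ g - C c : (kB ⊗[κ] AlgebraicClosure k₁)[X]).eval₂ Ξ₀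
      ((1 : AlgebraicClosure k₁) ⊗ₜ[k₁] τ) = 0 := by
    rw [eval₂_sub, eval₂_pow, eval₂_X, eval₂_C, hΞ₀c, sub_self]
  obtain ⟨Ξ, hΞdef⟩ : ∃ Ξ : AdjoinRoot (X ^ g - C c : (kB ⊗[κ] AlgebraicClosure k₁)[X]) →+*
      AlgebraicClosure k₁ ⊗[k₁] kW,
      Ξ = AdjoinRoot.lift Ξ₀ ((1 : AlgebraicClosure k₁) ⊗ₜ[k₁] τ) hΞ0 := ⟨_, rfl⟩
  have hΞof : ∀ x, Ξ (AdjoinRoot.of _ x) = Ξ₀ x := by
    intro x; rw [hΞdef]; exact AdjoinRoot.lift_of hΞ0
  have hΞroot : Ξ (AdjoinRoot.root _) = (1 : AlgebraicClosure k₁) ⊗ₜ[k₁] τ := by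
    rw [hΞdef]; exact AdjoinRoot.lift_root hΞ0
  have hvR : VNR ↥Ξ.range :=
    VNR.of_surjective Ξ.rangeRestrict (RingHom.rangeRestrict_surjective Ξ) hvS
  have hall : ∀ w : kW, (1 : AlgebraicClosure k₁) ⊗ₜ[k₁] w ∈ Ξ.range := by
    refine hgen (fun w => (1 : AlgebraicClosure k₁) ⊗ₜ[k₁] w ∈ Ξ.range) ?_ ?_ ?_ ?_ ?_ ?_
    · intro b
      show (1 : AlgebraicClosure k₁) ⊗ₜ[k₁] σB b ∈ Ξ.range
      refine RingHom.mem_range.mpr
        ⟨AdjoinRoot.of _ (b ⊗ₜ[κ] (1 : AlgebraicClosure k₁)), ?_⟩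
      rw [hΞof, hΞ₀, ← Algebra.TensorProduct.one_def, mul_one]
    · intro x
      show (1 : AlgebraicClosure k₁) ⊗ₜ[k₁] algebraMap k₁ kW x ∈ Ξ.range
      refine RingHom.mem_range.mpr
        ⟨AdjoinRoot.of _ ((1 : kB) ⊗ₜ[κ] (algebraMap k₁ (AlgebraicClosure k₁) x)), ?_⟩
      rw [hΞof, hΞ₀, map_one, ← Algebra.TensorProduct.one_def, one_mul, e1]
    · show (1 : AlgebraicClosure k₁) ⊗ₜ[k₁] τ ∈ Ξ.range
      exact RingHom.mem_range.mpr ⟨AdjoinRoot.root _, hΞroot⟩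
    · intro x y hx hy
      show (1 : AlgebraicClosure k₁) ⊗ₜ[k₁] (x + y) ∈ Ξ.range
      rw [TensorProduct.tmul_add]
      exact Ξ.range.add_mem hx hy
    · intro x y hx hy
      show (1 : AlgebraicClosure k₁) ⊗ₜ[k₁] (x * y) ∈ Ξ.range
      have h1 : (1 : AlgebraicClosure k₁) ⊗ₜ[k₁] (x * y) =
          ((1 : AlgebraicClosure k₁) ⊗ₜ[k₁] x) * ((1 : AlgebraicClosure k₁) ⊗ₜ[k₁] y) := by
        rw [Algebra.TensorProduct.tmul_mul_tmul, one_mul]
      rw [h1]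
      exact Ξ.range.mul_mem hx hy
    · intro x y hx hxy
      show (1 : AlgebraicClosure k₁) ⊗ₜ[k₁] y ∈ Ξ.range
      have hx' : (1 : AlgebraicClosure k₁) ⊗ₜ[k₁] x ∈ Ξ.range := hx
      have hst : ((1 : AlgebraicClosure k₁) ⊗ₜ[k₁] x) * ((1 : AlgebraicClosure k₁) ⊗ₜ[k₁] y) =
          1 := by
        rw [Algebra.TensorProduct.tmul_mul_tmul, one_mul, hxy, Algebra.TensorProduct.one_def]
      obtain ⟨z, hz⟩ := hvR ⟨_, hx'⟩
      have hz' : ((1 : AlgebraicClosure k₁) ⊗ₜ[k₁] x) * ((1 : AlgebraicClosure k₁) ⊗ₜ[k₁] x) *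
          (z : AlgebraicClosure k₁ ⊗[k₁] kW) = (1 : AlgebraicClosure k₁) ⊗ₜ[k₁] x :=
        congrArg Subtype.val hz
      rw [eq_of_vnr_inv _ _ _ hz' hst]
      exact z.2
  have hsurj : Function.Surjective Ξ := by
    intro t
    have ht : t ∈ Ξ.range := by
      induction t using TensorProduct.induction_on with
      | zero => exact Ξ.range.zero_mem
      | tmul ω w =>
        have h1 : ω ⊗ₜ[k₁] w = (ω ⊗ₜ[k₁] (1 : kW)) * ((1 : AlgebraicClosure k₁) ⊗ₜ[k₁] w) := by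
          rw [Algebra.TensorProduct.tmul_mul_tmul, mul_one, one_mul]
        rw [h1]
        refine Ξ.range.mul_mem
          (RingHom.mem_range.mpr ⟨AdjoinRoot.of _ ((1 : kB) ⊗ₜ[κ] ω), ?_⟩) (hall w)
        rw [hΞof, hΞ₀, map_one, ← Algebra.TensorProduct.one_def, one_mul]
      | add x y hx hy => exact Ξ.range.add_mem hx hy
    exact RingHom.mem_range.mp ht
  exact (VNR.of_surjective Ξ hsurj hvS).isReduced

end Groth.Agent.Helper22.KummerCT
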