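import Mathlib
import Groth.Prelude.Def_EtRam
import Groth.Agent.Lib.Helper22.KummerCT

/-!
# Abhyankar's lemma in the form: ramification index divides, then the local extension is
weakly unramified with separable residue field extension (S1982)
-/

set_option autoImplicit false
universe u

open TensorProduct IsLocalRing

namespace Groth.Agent.Helper22.Abh

open Groth.Agent.Helper22.SolTower Groth.Agent.Helper22.WUGen Groth.Agent.Helper22.CompCtx
  Groth.Agent.Helper22.WUSep Groth.Agent.Helper22.KummerCT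

theorem ramIdx_eq {R S : Type*} [CommRing R] [IsDomain R] [IsDiscreteValuationRing R]
    [CommRing S] [IsDomain S] [IsDiscreteValuationRing S] [Algebra R S]
    (πR : R) (hπR : Irreducible πR) (πS : S) (hπS : Irreducible πS) (n : ℕ) (u : Sˣ)
    (h : algebraMap R S πR * (u : S) = πS ^ n) :
    Ideal.ramificationIdx' (maximalIdeal R) (maximalIdeal S) = n := by
  have hmap : Ideal.map (algebraMap R S) (maximalIdeal R) = (maximalIdeal S) ^ n := by
    rw [hπR.maximalIdeal_eq, hπS.maximalIdeal_eq, Ideal.map_span, Set.image_singleton,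
      Ideal.span_singleton_pow, Ideal.span_singleton_eq_span_singleton]
    exact ⟨u, h⟩
  apply Ideal.ramificationIdx'_spec
  · rw [hmap]
  · rw [hmap, hπS.maximalIdeal_eq, Ideal.span_singleton_pow, Ideal.span_singleton_pow,
      Ideal.span_singleton_le_span_singleton, pow_dvd_pow_iff hπS.ne_zero hπS.not_isUnit]
    omega

theorem geomRed_of_charZero (κ kB : Type u) [Field κ] [Field kB] [Algebra κ kB] [CharZero κ] :
    Algebra.IsGeometricallyReduced κ kB := by
  rw [Algebra.isGeometricallyReduced_field_iff]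
  exact (vnr_of_separable κ (AlgebraicClosure κ) kB).isReduced

theorem abh_core (A B K L K₁ M : Type u) [CommRing A] [IsDomain A] [IsDiscreteValuationRing A]
    [CommRing B] [IsDomain B] [IsDiscreteValuationRing B] [Algebra A B]
    [IsLocalHom (algebraMap A B)] (hinj : Function.Injective (algebraMap A B))
    [Field K] [Field L] [Field K₁] [Field M] [Algebra A K] [IsFractionRing A K] [Algebra B L]
    [IsFractionRing B L]
    [Algebra K L] [Algebra A L] [IsScalarTower A K L] [IsScalarTower A B L]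
    [Algebra K K₁] [FiniteDimensional K K₁] [Algebra K M] [Algebra L M] [Algebra K₁ M]
    [IsScalarTower K L M] [IsScalarTower K K₁ M]
    [Algebra.IsGeometricallyReduced (ResidueField A) (ResidueField B)]
    (hchar : CharZero (ResidueField A) ∨ ∃ p : ℕ, p.Prime ∧ CharP (ResidueField A) p ∧
      ¬ p ∣ Ideal.ramificationIdx' (maximalIdeal A) (maximalIdeal B))
    (hadj : Algebra.adjoin L (Set.range (algebraMap K₁ M)) = ⊤) (W : ValuationSubring M)
    (hW : EtRam.Dominates B ((algebraMap L M).comp (algebraMap B L)) W)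
    (hA : ∀ a : A, (algebraMap K K₁) (algebraMap A K a) ∈ W.comap (algebraMap K₁ M))
    (hdvd : letI : Algebra A (W.comap (algebraMap K₁ M)) :=
        (RingHom.codRestrict ((algebraMap K K₁).comp (algebraMap A K))
          (W.comap (algebraMap K₁ M)) hA).toAlgebra
      Ideal.ramificationIdx' (maximalIdeal A) (maximalIdeal B) ∣
        Ideal.ramificationIdx' (maximalIdeal A)
          (maximalIdeal (W.comap (algebraMap K₁ M)))) :
    letI : Algebra (W.comap (algebraMap K₁ M)) W :=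
      (EtRam.inclOfComap W (algebraMap K₁ M)).toAlgebra
    EtRam.IsWeaklyUnramified (W.comap (algebraMap K₁ M)) W ∧
      @Algebra.IsGeometricallyReduced (ResidueField (W.comap (algebraMap K₁ M)))
        (ResidueField W) _ _
        (ResidueField.map (EtRam.inclOfComap W (algebraMap K₁ M))).toAlgebra := by
  classical
  have hdomA := dominates_bottom A B K L K₁ M W hW
  letI algAV : Algebra A (W.comap (algebraMap K₁ M)) :=
    (RingHom.codRestrict ((algebraMap K K₁).comp (algebraMap A K)) _ hdomA.1).toAlgebra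
  haveI locAV : IsLocalHom (algebraMap A (W.comap (algebraMap K₁ M))) :=
    isLocalHom_of_dominates _ _ hdomA
  haveI dvrV : IsDiscreteValuationRing (W.comap (algebraMap K₁ M)) :=
    isDVR_of_dominates A K K₁ _ hdomA
  haveI intκ : Algebra.IsIntegral (ResidueField A)
      (ResidueField (W.comap (algebraMap K₁ M))) :=
    residue_isIntegral A K K₁ _ hdomA locAV
  obtain ⟨πA, hπA⟩ := IsDiscreteValuationRing.exists_irreducible A
  obtain ⟨πB, hπB⟩ := IsDiscreteValuationRing.exists_irreducible B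
  obtain ⟨π₁, hπ₁⟩ := IsDiscreteValuationRing.exists_irreducible (W.comap (algebraMap K₁ M))
  have hπAmem : πA ∈ maximalIdeal A := (mem_maximalIdeal _).mpr hπA.not_isUnit
  have hneB : algebraMap A B πA ≠ 0 := fun h0 => hπA.ne_zero ((map_eq_zero_iff _ hinj).mp h0)
  obtain ⟨eB, wB, hB⟩ := IsDiscreteValuationRing.associated_pow_irreducible hneB hπB
  have hramB : Ideal.ramificationIdx' (maximalIdeal A) (maximalIdeal B) = eB :=
    ramIdx_eq πA hπA πB hπB eB wB hB
  have hinjAV : Function.Injective (algebraMap A (W.comap (algebraMap K₁ M))) :=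
    injective_codRestrict A K K₁ _ hdomA
  have hne : algebraMap A (W.comap (algebraMap K₁ M)) πA ≠ 0 := fun h0 =>
    hπA.ne_zero ((map_eq_zero_iff _ hinjAV).mp h0)
  obtain ⟨e₁, u₁, h₁⟩ := IsDiscreteValuationRing.associated_pow_irreducible hne hπ₁
  have hram₁ : Ideal.ramificationIdx' (maximalIdeal A)
      (maximalIdeal (W.comap (algebraMap K₁ M))) = e₁ :=
    ramIdx_eq πA hπA π₁ hπ₁ e₁ u₁ h₁
  have hdvd' : eB ∣ e₁ := by
    rw [← hramB, ← hram₁]
    exact hdvd
  obtain ⟨d, hd⟩ := hdvd'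
  have heB0 : 0 < eB := by
    rcases Nat.eq_zero_or_pos eB with h | h
    · exfalso
      rw [h, pow_zero] at hB
      have hu : IsUnit (algebraMap A B πA) := IsUnit.of_mul_eq_one _ hB
      exact (mem_maximalIdeal _).mp (map_nonunit (algebraMap A B) πA hπAmem) hu
    · exact h
  have he₁0 : 0 < e₁ := by
    rcases Nat.eq_zero_or_pos e₁ with h | h
    · exfalso
      rw [h, pow_zero] at h₁
      have hu : IsUnit (algebraMap A (W.comap (algebraMap K₁ M)) πA) :=
        IsUnit.of_mul_eq_one _ h₁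
      exact (mem_maximalIdeal _).mp
        (map_nonunit (algebraMap A (W.comap (algebraMap K₁ M))) πA hπAmem) hu
    · exact h
  have hd0 : 0 < d := by
    rcases Nat.eq_zero_or_pos d with h | h
    · rw [h, mul_zero] at hd; omega
    · exact h
  have hgκ : ((eB : ℕ) : ResidueField A) ≠ 0 := by
    rcases hchar with h0 | ⟨p, hp, hcp, hnd⟩
    · haveI := h0
      exact Nat.cast_ne_zero.mpr heB0.ne'
    · haveI := hcp
      rw [hramB] at hnd
      intro h
      exact hnd ((CharP.cast_eq_zero_iff (ResidueField A) p eB).mp h)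
  -- the two maps to `W`
  obtain ⟨θ₁, hθ₁⟩ : ∃ θ₁ : B →+* W,
      θ₁ = RingHom.codRestrict ((algebraMap L M).comp (algebraMap B L)) W hW.1 := ⟨_, rfl⟩
  obtain ⟨θ₂, hθ₂⟩ : ∃ θ₂ : (W.comap (algebraMap K₁ M)) →+* W,
      θ₂ = EtRam.inclOfComap W (algebraMap K₁ M) := ⟨_, rfl⟩
  haveI locθ₂ : IsLocalHom θ₂ := by rw [hθ₂]; infer_instance
  haveI locθ₁ : IsLocalHom θ₁ := by rw [hθ₁]; exact isLocalHom_of_dominates _ _ hW
  have hθ₁v : ∀ b : B, ((θ₁ b : W) : M) = algebraMap L M (algebraMap B L b) := by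
    intro b; rw [hθ₁]; rfl
  have hθ₂v : ∀ v : W.comap (algebraMap K₁ M), ((θ₂ v : W) : M) = algebraMap K₁ M (v : K₁) := by
    intro v; rw [hθ₂]; rfl
  have hcompat : ∀ a : A, θ₁ (algebraMap A B a) =
      θ₂ (algebraMap A (W.comap (algebraMap K₁ M)) a) := by
    intro a
    apply Subtype.ext
    rw [hθ₁v, hθ₂v]
    exact (compat_apply A B K L K₁ M a).symm
  have hθ₁inj : Function.Injective θ₁ := by
    intro x y hxy
    have h1 : algebraMap L M (algebraMap B L x) = algebraMap L M (algebraMap B L y) := by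
      rw [← hθ₁v, ← hθ₁v, hxy]
    exact IsFractionRing.injective B L ((algebraMap L M).injective h1)
  have hθ₂inj : Function.Injective θ₂ := by
    intro x y hxy
    have h1 : algebraMap K₁ M (x : K₁) = algebraMap K₁ M (y : K₁) := by
      rw [← hθ₂v, ← hθ₂v, hxy]
    exact Subtype.ext ((algebraMap K₁ M).injective h1)
  have hπBmem : πB ∈ maximalIdeal B := (mem_maximalIdeal _).mpr hπB.not_isUnit
  have hπBm : θ₁ πB ∈ maximalIdeal W := map_nonunit θ₁ _ hπBmem
  have hπB0 : θ₁ πB ≠ 0 := fun h0 => hπB.ne_zero (hθ₁inj (by rw [h0, map_zero]))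
  have hπ₁mem : π₁ ∈ maximalIdeal (W.comap (algebraMap K₁ M)) :=
    (mem_maximalIdeal _).mpr hπ₁.not_isUnit
  have hπm : θ₂ π₁ ∈ maximalIdeal W := map_nonunit θ₂ π₁ hπ₁mem
  have hπ0 : θ₂ π₁ ≠ 0 := fun h0 => hπ₁.ne_zero (hθ₂inj (by rw [h0, map_zero]))
  have hsepB : ∀ w : W, w ≠ 0 → ∃ n : ℕ, ¬ (θ₁ πB) ^ n ∣ w := by
    apply sep_of_dvd W θ₁ hθ₁inj _ πB hπB hπBm
    intro w hw0
    rw [hθ₁]
    exact exists_dvd B K L K₁ M hadj W hW w hw0
  -- elements of `M`
  obtain ⟨x, hx⟩ : ∃ x : M, x = ((θ₁ πB : W) : M) := ⟨_, rfl⟩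
  obtain ⟨y, hy⟩ : ∃ y : M, y = ((θ₂ π₁ : W) : M) := ⟨_, rfl⟩
  have hx0 : x ≠ 0 := by rw [hx]; exact fun h => hπB0 (Subtype.ext h)
  have hy0 : y ≠ 0 := by rw [hy]; exact fun h => hπ0 (Subtype.ext h)
  obtain ⟨P', hP'⟩ : ∃ P' : M, P' = ((θ₁ (algebraMap A B πA) : W) : M) := ⟨_, rfl⟩
  have hP'0 : P' ≠ 0 := by
    rw [hP']
    intro h
    exact hneB (hθ₁inj (by rw [map_zero]; exact Subtype.ext h))
  obtain ⟨wB', hwB'⟩ : ∃ wB' : M, wB' = ((θ₁ (wB : B) : W) : M) := ⟨_, rfl⟩
  obtain ⟨u', hu'⟩ : ∃ u' : M,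
      u' = ((θ₂ (u₁ : W.comap (algebraMap K₁ M)) : W) : M) := ⟨_, rfl⟩
  obtain ⟨b', hb'⟩ : ∃ b' : M,
      b' = ((θ₂ ((u₁⁻¹ : (W.comap (algebraMap K₁ M))ˣ) : W.comap (algebraMap K₁ M)) : W) : M) :=
    ⟨_, rfl⟩
  have hu'b' : u' * b' = 1 := by
    rw [hu', hb']
    have h3 : θ₂ (u₁ : W.comap (algebraMap K₁ M)) *
        θ₂ ((u₁⁻¹ : (W.comap (algebraMap K₁ M))ˣ) : W.comap (algebraMap K₁ M)) = 1 := by
      rw [← map_mul, Units.mul_inv, map_one]
    exact congrArg Subtype.val h3
  have hu'0 : u' ≠ 0 := left_ne_zero_of_mul_eq_one hu'b'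
  have E1 : P' * wB' = x ^ eB := by
    rw [hP', hwB', hx]
    have h3 : θ₁ (algebraMap A B πA) * θ₁ (wB : B) = (θ₁ πB) ^ eB := by
      rw [← map_mul, hB, map_pow]
    exact congrArg Subtype.val h3
  have E2 : P' * u' = y ^ (eB * d) := by
    rw [hP', hu', hy]
    have h3 : θ₁ (algebraMap A B πA) * θ₂ (u₁ : W.comap (algebraMap K₁ M)) =
        (θ₂ π₁) ^ (eB * d) := by
      rw [hcompat, ← map_mul, h₁, map_pow, hd]
    exact congrArg Subtype.val h3
  obtain ⟨t, ht⟩ : ∃ t : M, t = x / y ^ d := ⟨_, rfl⟩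
  have hyd0 : y ^ d ≠ 0 := pow_ne_zero d hy0
  have ht0 : t ≠ 0 := by rw [ht]; exact div_ne_zero hx0 hyd0
  have htx : x = t * y ^ d := by rw [ht, div_mul_cancel₀ _ hyd0]
  have hteB : t ^ eB = wB' * b' := by
    have hyp : (y ^ d) ^ eB = P' * u' := by rw [← pow_mul, mul_comm d eB, E2]
    rw [ht, div_pow, ← E1, hyp, div_eq_iff (mul_ne_zero hP'0 hu'0)]
    linear_combination (-(P' * wB')) * hu'b'
  have hcW : wB' * b' ∈ W := by
    rw [hwB', hb']
    exact mul_mem (θ₁ (wB : B)).2 (θ₂ _).2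
  have htW : t ∈ W := by
    rcases W.mem_or_inv_mem t with h | h
    · exact h
    · obtain ⟨k, hk⟩ : ∃ k, eB = k + 1 := ⟨eB - 1, by omega⟩
      have e : t = t ^ eB * (t⁻¹) ^ k := by
        rw [hk, inv_pow, pow_succ, mul_assoc, mul_comm t, ← mul_assoc,
          mul_inv_cancel₀ (pow_ne_zero k ht0), one_mul]
      rw [e, hteB]
      exact mul_mem hcW (pow_mem h k)
  obtain ⟨τ, hτdef⟩ : ∃ τ : W, τ = ⟨t, htW⟩ := ⟨_, rfl⟩
  have hτv : (τ : M) = t := by rw [hτdef]
  have hτ : τ ^ eB = θ₁ (wB : B) *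
      θ₂ ((u₁⁻¹ : (W.comap (algebraMap K₁ M))ˣ) : W.comap (algebraMap K₁ M)) := by
    apply Subtype.ext
    show (τ : M) ^ eB = ((θ₁ (wB : B) : W) : M) *
      ((θ₂ ((u₁⁻¹ : (W.comap (algebraMap K₁ M))ˣ) : W.comap (algebraMap K₁ M)) : W) : M)
    rw [hτv, hteB, hwB', hb']
  have hθ₁πB : θ₁ πB = τ * (θ₂ π₁) ^ d := by
    apply Subtype.ext
    show ((θ₁ πB : W) : M) = (τ : M) * ((θ₂ π₁ : W) : M) ^ d
    rw [hτv, ← hx, ← hy, htx]
  have hτu : IsUnit τ := by
    have h3 : IsUnit (τ ^ eB) := by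
      rw [hτ]
      exact (wB.isUnit.map θ₁).mul ((u₁⁻¹).isUnit.map θ₂)
    exact (isUnit_pow_iff heB0.ne').mp h3
  have hsep : ∀ w : W, w ≠ 0 → ∃ n : ℕ, ¬ (θ₂ π₁) ^ n ∣ w := by
    intro w hw0
    obtain ⟨n, hn⟩ := hsepB w hw0
    refine ⟨d * n, fun hdiv => hn ?_⟩
    have h3 : (θ₁ πB) ^ n = τ ^ n * (θ₂ π₁) ^ (d * n) := by rw [hθ₁πB, mul_pow, ← pow_mul]
    have h4 : (θ₁ πB) ^ n ∣ τ ^ n * w := by rw [h3]; exact mul_dvd_mul_left _ hdiv
    exact ((hτu.pow n).dvd_mul_left).mp h4
  haveI hredE : IsReduced (ResidueField B ⊗[ResidueField A]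
      ResidueField (W.comap (algebraMap K₁ M))) :=
    isReduced_of_injective (Algebra.TensorProduct.comm (ResidueField A) (ResidueField B)
      (ResidueField (W.comap (algebraMap K₁ M)))) (AlgEquiv.injective _)
  have h1 : ∃ s ∈ Subring.closure (Set.range θ₁ ∪ Set.range θ₂ ∪ {τ, θ₂ π₁}),
      θ₁ πB = θ₂ π₁ * s := by
    refine ⟨τ * (θ₂ π₁) ^ (d - 1), ?_, ?_⟩
    · exact Subring.mul_mem _
        (Subring.subset_closure (Set.mem_union_right _ (Set.mem_insert _ _)))
        (Subring.pow_mem _ (Subring.subset_closure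
          (Set.mem_union_right _ (Set.mem_insert_of_mem _ (Set.mem_singleton _)))) _)
    · rw [hθ₁πB]
      have e : (θ₂ π₁) ^ d = θ₂ π₁ * (θ₂ π₁) ^ (d - 1) := (mul_pow_sub_one hd0.ne' _).symm
      rw [e]; ring
  have h2 : ∃ s ∈ Subring.closure (Set.range θ₁ ∪ Set.range θ₂ ∪ {τ, θ₂ π₁}),
      θ₂ π₁ = θ₂ π₁ * s := ⟨1, Subring.one_mem _, (mul_one _).symm⟩
  obtain ⟨hC1, hC2⟩ := GKT A B (W.comap (algebraMap K₁ M)) M W θ₁ θ₂ hcompat πB
    hπB.maximalIdeal_eq π₁ hπ₁.maximalIdeal_eq τ (θ₂ π₁) eB heB0 hgκ (wB : B) wB.isUnit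
    ((u₁⁻¹ : (W.comap (algebraMap K₁ M))ˣ) : W.comap (algebraMap K₁ M)) (u₁⁻¹).isUnit hτ h1 h2
    hπm hπ0 hsep (fun S h1 h2 hinv =>
      gen_comp B L K₁ M hadj W S (fun b => by rw [← hθ₁v]; exact h1 b)
        (fun k hk => by
          have h3 := h2 ⟨k, hk⟩
          rw [hθ₂v] at h3
          exact h3) hinv)
  refine ⟨?_, ?_⟩
  · -- weakly unramified
    letI algVW : Algebra (W.comap (algebraMap K₁ M)) W :=
      (EtRam.inclOfComap W (algebraMap K₁ M)).toAlgebra
    have hθ₂alg : ∀ v, algebraMap (W.comap (algebraMap K₁ M)) W v = θ₂ v := by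
      intro v; rw [hθ₂]; rfl
    show (maximalIdeal (W.comap (algebraMap K₁ M))).map
      (algebraMap (W.comap (algebraMap K₁ M)) W) = maximalIdeal W
    apply le_antisymm
    · refine Ideal.map_le_iff_le_comap.mpr (fun v hv => ?_)
      rw [Ideal.mem_comap, hθ₂alg]
      exact map_nonunit θ₂ v hv
    · intro w hw0
      obtain ⟨c, hc⟩ := hC1 w hw0
      rw [hc, ← hθ₂alg]
      exact Ideal.mul_mem_right _ _ (Ideal.mem_map_of_mem _ hπ₁mem)
  · -- geometrically reduced residue field extension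
    letI algk : Algebra (ResidueField (W.comap (algebraMap K₁ M))) (ResidueField W) :=
      (ResidueField.map (EtRam.inclOfComap W (algebraMap K₁ M))).toAlgebra
    show Algebra.IsGeometricallyReduced (ResidueField (W.comap (algebraMap K₁ M)))
      (ResidueField W)
    refine geomRed_kummer (ResidueField A) (ResidueField (W.comap (algebraMap K₁ M)))
      (ResidueField B) (ResidueField W) (ResidueField.map θ₁) ?_ eB heB0 hgκ
      (residue B (wB : B)) ?_
      (residue (W.comap (algebraMap K₁ M))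
        ((u₁⁻¹ : (W.comap (algebraMap K₁ M))ˣ) : W.comap (algebraMap K₁ M))) ?_
      (residue W τ) ?_ ?_
    · intro c
      obtain ⟨a, rfl⟩ := residue_surjective c
      show residue W (θ₁ (algebraMap A B a)) =
        residue W (EtRam.inclOfComap W (algebraMap K₁ M)
          (algebraMap A (W.comap (algebraMap K₁ M)) a))
      rw [hcompat, hθ₂]
    · exact (wB.isUnit.map (residue B)).ne_zero
    · exact ((u₁⁻¹).isUnit.map (residue (W.comap (algebraMap K₁ M)))).ne_zero
    · show (residue W τ) ^ eB = residue W (θ₁ (wB : B)) *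
        residue W (EtRam.inclOfComap W (algebraMap K₁ M)
          ((u₁⁻¹ : (W.comap (algebraMap K₁ M))ˣ) : W.comap (algebraMap K₁ M)))
      rw [← map_pow, hτ, map_mul, hθ₂]
    · intro P h1' h2' hPτ hadd hmul hinv z
      obtain ⟨w, rfl⟩ := residue_surjective z
      refine hC2 (fun w => P (residue W w)) ?_ ?_ hPτ ?_ ?_ ?_ ?_ w
      · intro b
        exact h1' (residue B b)
      · intro v
        show P (residue W (θ₂ v))
        have h3 := h2' (residue _ v)
        rw [hθ₂]
        exact h3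
      · show P (residue W (θ₂ π₁))
        have h3 := h2' (residue _ π₁)
        rw [hθ₂]
        exact h3
      · intro x y hx hy
        show P (residue W (x + y))
        rw [map_add]; exact hadd _ _ hx hy
      · intro x y hx hy
        show P (residue W (x * y))
        rw [map_mul]; exact hmul _ _ hx hy
      · intro x y hx hxy
        exact hinv (residue W x) (residue W y) hx (by rw [← map_mul, hxy, map_one])

theorem main (A B K L : Type u) [CommRing A] [IsDomain A] [IsDiscreteValuationRing A]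
    [CommRing B] [IsDomain B] [IsDiscreteValuationRing B] [Algebra A B]
    [IsLocalHom (algebraMap A B)]
    (hinj : Function.Injective (algebraMap A B))
    [Field K] [Field L] [Algebra A K] [IsFractionRing A K] [Algebra B L] [IsFractionRing B L]
    [Algebra K L] [Algebra A L] [IsScalarTower A K L] [IsScalarTower A B L]
    (htame : CharZero (IsLocalRing.ResidueField A) ∨
      ∃ p : ℕ, p.Prime ∧ CharP (IsLocalRing.ResidueField A) p ∧
        ¬ p ∣ Ideal.ramificationIdx' (IsLocalRing.maximalIdeal A) (IsLocalRing.maximalIdeal B) ∧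
        Algebra.IsGeometricallyReduced (IsLocalRing.ResidueField A) (IsLocalRing.ResidueField B))
    (K₁ : Type u) [Field K₁] [Algebra K K₁] [FiniteDimensional K K₁] :
    EtRam.ForallLocalExt B K L K₁ (fun M _ W f =>
      ∀ hA : ∀ a : A, (algebraMap K K₁) (algebraMap A K a) ∈ W.comap f,
        letI : Algebra A (W.comap f) := (RingHom.codRestrict ((algebraMap K K₁).comp (algebraMap A K)) (W.comap f) hA).toAlgebra
        letI : Algebra (W.comap f) W := (EtRam.inclOfComap W f).toAlgebra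
        Ideal.ramificationIdx' (IsLocalRing.maximalIdeal A) (IsLocalRing.maximalIdeal B) ∣
          Ideal.ramificationIdx' (IsLocalRing.maximalIdeal A) (IsLocalRing.maximalIdeal (W.comap f)) →
        EtRam.IsWeaklyUnramified (W.comap f) W ∧
          @Algebra.IsGeometricallyReduced (IsLocalRing.ResidueField (W.comap f)) (IsLocalRing.ResidueField W) _ _
            (IsLocalRing.ResidueField.map (EtRam.inclOfComap W f)).toAlgebra) := by
  intro M _ _ _ _ _ _ hadj W hW hA hdvd
  rcases htame with h0 | ⟨p, hp, hcp, hnd, hGR⟩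
  · haveI := h0
    haveI : Algebra.IsGeometricallyReduced (ResidueField A) (ResidueField B) :=
      geomRed_of_charZero _ _
    exact abh_core A B K L K₁ M hinj (Or.inl h0) hadj W hW hA hdvd
  · haveI := hGR
    exact abh_core A B K L K₁ M hinj (Or.inr ⟨p, hp, hcp, hnd⟩) hadj W hW hA hdvd

end Groth.Agent.Helper22.Abh
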