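import Mathlib

/-!
# Index of the twisted diagonal hypersurface `x_0^d = Σ ϖ^i x_i^d` over a discretely valued field
(for S17785)
-/

set_option autoImplicit false

namespace Groth.Agent.Helper22.TwistDiag

universe u

open Polynomial

/-- The arithmetic invariant `I(d, N)`. -/
def idx (d N : ℕ) : ℕ := ((Finset.Icc 1 N).filter (fun δ => δ ∣ d)).gcd (fun δ => d / δ)

theorem idx_dvd_of_dvd_mul (d N : ℕ) (k M : ℕ) (hk : 0 < k) (hkN : k ≤ N)
    (h : d ∣ k * M) : idx d N ∣ M := by
  obtain ⟨g, hgdef⟩ : ∃ g, g = Nat.gcd d k := ⟨_, rfl⟩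
  have hg : 0 < g := by rw [hgdef]; exact Nat.gcd_pos_of_pos_right d hk
  have hgd : g ∣ d := by rw [hgdef]; exact Nat.gcd_dvd_left d k
  have hgk : g ∣ k := by rw [hgdef]; exact Nat.gcd_dvd_right d k
  have hgle : g ≤ N := le_trans (Nat.le_of_dvd hk hgk) hkN
  have hmem : g ∈ (Finset.Icc 1 N).filter (fun δ => δ ∣ d) :=
    Finset.mem_filter.mpr ⟨Finset.mem_Icc.mpr ⟨hg, hgle⟩, hgd⟩
  have h1 : idx d N ∣ d / g := Finset.gcd_dvd hmem
  refine h1.trans ?_
  have hcop : Nat.Coprime (d / g) (k / g) := by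
    rw [hgdef]; exact Nat.coprime_div_gcd_div_gcd (by rw [← hgdef]; exact hg)
  have hd1 : g * (d / g) = d := Nat.mul_div_cancel' hgd
  have hk1 : g * (k / g) = k := Nat.mul_div_cancel' hgk
  have h2 : g * (d / g) ∣ g * ((k / g) * M) := by rw [hd1, ← mul_assoc, hk1]; exact h
  have h3 : d / g ∣ (k / g) * M := Nat.dvd_of_mul_dvd_mul_left hg h2
  exact hcop.dvd_of_dvd_mul_left h3

theorem gcd_mem (H : AddSubgroup ℤ) (s : Finset ℕ) (f : ℕ → ℕ)
    (h : ∀ δ ∈ s, ((f δ : ℕ) : ℤ) ∈ H) : ((s.gcd f : ℕ) : ℤ) ∈ H := by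
  classical
  induction s using Finset.induction_on with
  | empty => simp
  | insert a s ha ih =>
    rw [Finset.gcd_insert]
    have h1 : ((f a : ℕ) : ℤ) ∈ H := h a (Finset.mem_insert_self a s)
    have h2 : ((s.gcd f : ℕ) : ℤ) ∈ H := ih (fun δ hδ => h δ (Finset.mem_insert_of_mem hδ))
    show ((Nat.gcd (f a) (s.gcd f) : ℕ) : ℤ) ∈ H
    rw [Nat.gcd_eq_gcd_ab]
    refine H.add_mem ?_ ?_
    · have h3 := H.zsmul_mem h1 (Nat.gcdA (f a) (s.gcd f))
      rwa [zsmul_eq_mul, Int.cast_id, mul_comm] at h3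
    · have h3 := H.zsmul_mem h2 (Nat.gcdB (f a) (s.gcd f))
      rwa [zsmul_eq_mul, Int.cast_id, mul_comm] at h3

theorem exists_ne_map_eq_of_sum_eq_zero {F : Type*} [Field F] {Γ : Type*}
    [LinearOrderedCommGroupWithZero Γ] (w : Valuation F Γ) {ι : Type*} [DecidableEq ι]
    (s : Finset ι) (b : ι → F) (hsum : ∑ j ∈ s, b j = 0) (hne : ∃ j ∈ s, b j ≠ 0) :
    ∃ j ∈ s, ∃ j' ∈ s, j ≠ j' ∧ b j ≠ 0 ∧ b j' ≠ 0 ∧ w (b j) = w (b j') := by
  obtain ⟨j1, hj1, hb1⟩ := hne
  obtain ⟨j0, hj0, hmax⟩ := Finset.exists_max_image s (fun j => w (b j)) ⟨j1, hj1⟩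
  have hw0 : w (b j0) ≠ 0 := by
    have h1 : w (b j1) ≠ 0 := (Valuation.ne_zero_iff w).mpr hb1
    have h2 : w (b j1) ≤ w (b j0) := hmax j1 hj1
    intro h0
    rw [h0] at h2
    exact h1 (le_antisymm h2 zero_le')
  have hb0 : b j0 ≠ 0 := (Valuation.ne_zero_iff w).mp hw0
  by_contra hcon
  push_neg at hcon
  have hlt : ∀ j ∈ s.erase j0, w (b j) < w (b j0) := by
    intro j hj
    obtain ⟨hjne, hjs⟩ := Finset.mem_erase.mp hj
    refine lt_of_le_of_ne (hmax j hjs) ?_
    intro heq
    by_cases hbj : b j = 0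
    · rw [hbj, map_zero] at heq; exact hw0 heq.symm
    · exact hcon j0 hj0 j hjs (Ne.symm hjne) hb0 hbj heq.symm
  have h1 : w (∑ j ∈ s.erase j0, b j) < w (b j0) := Valuation.map_sum_lt w hw0 hlt
  have h2 : w (b j0 + ∑ j ∈ s.erase j0, b j) = w (b j0) := Valuation.map_add_eq_of_lt_left w h1
  rw [Finset.add_sum_erase s b hj0, hsum, map_zero] at h2
  exact hw0 h2.symm

theorem exists_shift_dvd {F : Type*} [Field F] (w : Valuation F (WithZero (Multiplicative ℤ)))
    (πF : F) (E : ℤ) (hπ : w πF = WithZero.exp (-E)) (d N q : ℕ) (hd : 1 ≤ d)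
    (y : Fin (N + 1) → F) (hy : y ≠ 0)
    (heq : y 0 ^ d = ∑ i : Fin N, πF ^ (((i : ℕ) + 1) * q) * y i.succ ^ d) :
    ∃ k : ℕ, 0 < k ∧ k ≤ N ∧ (d : ℤ) ∣ (k : ℤ) * ((q : ℤ) * E) := by
  classical
  have hwπ0 : w πF ≠ 0 := by rw [hπ]; exact WithZero.exp_ne_zero
  obtain ⟨b, hb0, hbs⟩ : ∃ b : Fin (N + 1) → F, b 0 = y 0 ^ d ∧
      ∀ i : Fin N, b i.succ = -(πF ^ (((i : ℕ) + 1) * q) * y i.succ ^ d) :=
    ⟨fun j => if j = 0 then y 0 ^ d else -(πF ^ ((j : ℕ) * q) * y j ^ d), by simp,
      fun i => by simp [Fin.succ_ne_zero]⟩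
  have hsum : ∑ j, b j = 0 := by
    rw [Fin.sum_univ_succ, hb0, Finset.sum_congr rfl (fun i _ => hbs i), Finset.sum_neg_distrib,
      heq, add_neg_cancel]
  have hwb : ∀ j : Fin (N + 1), w (b j) = w πF ^ ((j : ℕ) * q) * w (y j) ^ d := by
    intro j
    refine Fin.cases ?_ (fun i => ?_) j
    · rw [hb0, map_pow, Fin.val_zero, zero_mul, pow_zero, one_mul]
    · rw [hbs i, Valuation.map_neg, map_mul, map_pow, map_pow, Fin.val_succ]
  have hbne : ∀ j : Fin (N + 1), b j ≠ 0 ↔ y j ≠ 0 := by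
    intro j
    rw [← Valuation.ne_zero_iff w, ← Valuation.ne_zero_iff w (x := y j), hwb j]
    constructor
    · intro h hy0
      apply h
      rw [hy0, zero_pow (show d ≠ 0 by omega), mul_zero]
    · intro h
      exact mul_ne_zero (pow_ne_zero _ hwπ0) (pow_ne_zero _ h)
  obtain ⟨j1, hj1⟩ := Function.ne_iff.mp hy
  have hne : ∃ j ∈ (Finset.univ : Finset (Fin (N + 1))), b j ≠ 0 :=
    ⟨j1, Finset.mem_univ _, (hbne j1).mpr hj1⟩
  obtain ⟨j, -, j', -, hjj', hbj, hbj', hweq⟩ :=
    exists_ne_map_eq_of_sum_eq_zero w Finset.univ b hsum hne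
  have hlog : ∀ j : Fin (N + 1), y j ≠ 0 →
      (w (b j)).log = -(((j : ℕ) : ℤ) * (q : ℤ)) * E + (d : ℤ) * (w (y j)).log := by
    intro j hyj
    have h1 : w (y j) ≠ 0 := (Valuation.ne_zero_iff w).mpr hyj
    rw [hwb j, WithZero.log_mul (pow_ne_zero _ hwπ0) (pow_ne_zero _ h1), WithZero.log_pow,
      WithZero.log_pow, hπ, WithZero.log_exp, nsmul_eq_mul, nsmul_eq_mul]
    push_cast
    ring
  have e := congrArg WithZero.log hweq
  rw [hlog j ((hbne j).mp hbj), hlog j' ((hbne j').mp hbj')] at e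
  rcases lt_or_gt_of_ne (fun h : (j : ℕ) = (j' : ℕ) => hjj' (Fin.ext h)) with hlt | hgt
  · refine ⟨(j' : ℕ) - (j : ℕ), by omega, by have := j'.2; omega,
      ⟨(w (y j')).log - (w (y j)).log, ?_⟩⟩
    rw [Nat.cast_sub hlt.le]
    linear_combination e
  · refine ⟨(j : ℕ) - (j' : ℕ), by omega, by have := j.2; omega,
      ⟨(w (y j)).log - (w (y j')).log, ?_⟩⟩
    rw [Nat.cast_sub hgt.le]
    linear_combination (-1 : ℤ) * e

theorem intValuation_eq_exp_neg_multiplicity {S : Type*} [CommRing S] [IsDedekindDomain S]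
    (v : IsDedekindDomain.HeightOneSpectrum S) (r : S) (hr : r ≠ 0) :
    v.intValuation r =
      WithZero.exp (-((multiplicity v.asIdeal (Ideal.span {r}) : ℕ) : ℤ)) := by
  have hfin : FiniteMultiplicity v.asIdeal (Ideal.span {r}) := by
    apply FiniteMultiplicity.of_not_isUnit
    · rw [Ideal.isUnit_iff]; exact v.isPrime.ne_top
    · intro h
      rw [Ideal.zero_eq_bot, Ideal.span_singleton_eq_bot] at h
      exact hr h
  obtain ⟨E, hE⟩ : ∃ E : ℕ, E = multiplicity v.asIdeal (Ideal.span {r}) := ⟨_, rfl⟩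
  rw [← hE]
  have h1 : v.intValuation r ≤ WithZero.exp (-((E : ℕ) : ℤ)) := by
    rw [v.intValuation_le_pow_iff_dvd r E, hE]
    exact pow_multiplicity_dvd _ _
  have h2 : ¬ v.intValuation r ≤ WithZero.exp (-(((E + 1 : ℕ)) : ℤ)) := by
    rw [v.intValuation_le_pow_iff_dvd r (E + 1)]
    exact hfin.not_pow_dvd_of_multiplicity_lt (by rw [← hE]; exact Nat.lt_succ_self _)
  have h0 : v.intValuation r ≠ 0 := v.intValuation_ne_zero r hr
  obtain ⟨l, hl⟩ : ∃ l : ℤ, v.intValuation r = WithZero.exp l :=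
    ⟨_, (WithZero.exp_log h0).symm⟩
  rw [hl] at h1 h2 ⊢
  rw [WithZero.exp_le_exp] at h1 h2
  push_cast at h2
  have : l = -(E : ℤ) := by omega
  rw [this]

theorem exists_sepClosure_solution {K L : Type u} [Field K] [Field L] [Algebra K L]
    [FiniteDimensional K L] (d N : ℕ) (c : Fin N → K) (x : Fin (N + 1) → L) (hx : x ≠ 0)
    (heq : x 0 ^ d = ∑ i : Fin N, algebraMap K L (c i) * x i.succ ^ d) :
    ∃ y : Fin (N + 1) → separableClosure K L, y ≠ 0 ∧
      y 0 ^ d = ∑ i : Fin N, (algebraMap K (separableClosure K L) (c i)) ^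
        (Module.finrank (separableClosure K L) L) * y i.succ ^ d := by
  obtain ⟨p, hp⟩ := ExpChar.exists K
  haveI := hp
  haveI : ExpChar (separableClosure K L) p :=
    expChar_of_injective_algebraMap (algebraMap K (separableClosure K L)).injective p
  haveI : ExpChar L p := expChar_of_injective_algebraMap (algebraMap K L).injective p
  haveI : IsPurelyInseparable (separableClosure K L) L := separableClosure.isPurelyInseparable K L
  obtain ⟨m, hm⟩ := IsPurelyInseparable.finrank_eq_pow (separableClosure K L) L p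
  obtain ⟨q, hq⟩ : ∃ q, q = Module.finrank (separableClosure K L) L := ⟨_, rfl⟩
  rw [← hq] at hm ⊢
  have hq0 : q ≠ 0 := by rw [hm]; exact (expChar_pow_pos K p m).ne'
  have hpow : ∀ z : L, ∃ y : separableClosure K L,
      algebraMap (separableClosure K L) L y = z ^ q := by
    intro z
    obtain ⟨n, y, hmin⟩ := IsPurelyInseparable.minpoly_eq_X_pow_sub_C (separableClosure K L) p z
    have hint : IsIntegral (separableClosure K L) z := Algebra.IsIntegral.isIntegral z
    have hdvd : p ^ n ∣ q := by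
      have h1 := minpoly.degree_dvd hint
      rw [hmin, natDegree_X_pow_sub_C, ← hq] at h1
      exact h1
    obtain ⟨c', hc'⟩ := hdvd
    have hz : z ^ (p ^ n) = algebraMap (separableClosure K L) L y := by
      have h1 := minpoly.aeval (separableClosure K L) z
      rw [hmin, map_sub, map_pow, aeval_X, aeval_C, sub_eq_zero] at h1
      exact h1
    exact ⟨y ^ c', by rw [map_pow, ← hz, ← pow_mul, ← hc']⟩
  choose yf hyf using hpow
  refine ⟨fun j => yf (x j), ?_, ?_⟩
  · obtain ⟨j, hj⟩ := Function.ne_iff.mp hx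
    intro h0
    have h1 : yf (x j) = 0 := congrFun h0 j
    have h2 := hyf (x j)
    rw [h1, map_zero] at h2
    exact hj ((pow_eq_zero_iff hq0).mp h2.symm)
  · apply (algebraMap (separableClosure K L) L).injective
    have hF := congrArg (iterateFrobenius L p m) heq
    rw [map_pow, map_sum] at hF
    simp only [map_mul, map_pow, iterateFrobenius_def, ← hm] at hF
    beta_reduce
    rw [map_pow, map_sum, hyf, hF]
    refine Finset.sum_congr rfl fun i _ => ?_
    rw [map_mul, map_pow, map_pow, hyf, ← IsScalarTower.algebraMap_apply]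

set_option maxHeartbeats 1000000 in
theorem core (R : Type u) [CommRing R] [IsDomain R] [IsDiscreteValuationRing R] (K : Type u)
    [Field K] [Algebra R K] [IsFractionRing R K] (ϖ : R) (hϖ : Irreducible ϖ) (d N : ℕ)
    (hd : 1 ≤ d) (F : Type u) [Field F] [Algebra K F] [FiniteDimensional K F]
    [Algebra.IsSeparable K F] (q : ℕ) (y : Fin (N + 1) → F) (hy : y ≠ 0)
    (heq : y 0 ^ d = ∑ i : Fin N,
      (algebraMap K F (algebraMap R K ϖ)) ^ (((i : ℕ) + 1) * q) * y i.succ ^ d) :
    idx d N ∣ q * Module.finrank K F := by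
  classical
  letI algRF : Algebra R F := ((algebraMap K F).comp (algebraMap R K)).toAlgebra
  haveI tower : IsScalarTower R K F := IsScalarTower.of_algebraMap_eq (fun _ => rfl)
  have hinjF : Function.Injective (algebraMap R F) :=
    (algebraMap K F).injective.comp (IsFractionRing.injective R K)
  haveI : Module.IsTorsionFree R F := Module.isTorsionFree_iff_algebraMap_injective.mpr hinjF
  haveI : IsDedekindDomain (integralClosure R F) :=
    IsIntegralClosure.isDedekindDomain R K F (integralClosure R F)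
  haveI : Module.Finite R (integralClosure R F) :=
    IsIntegralClosure.finite R K F (integralClosure R F)
  haveI : IsFractionRing (integralClosure R F) F :=
    IsIntegralClosure.isFractionRing_of_finite_extension R K F (integralClosure R F)
  have hrank : Module.finrank K F = Module.finrank R (integralClosure R F) :=
    IsFractionRing.finrank_eq R K (integralClosure R F) F
  haveI : Module.Free R (integralClosure R F) := Module.free_of_finite_type_torsion_free'
  haveI : Fintype ((IsLocalRing.maximalIdeal R).primesOver (integralClosure R F)) :=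
    (Algebra.QuasiFinite.finite_primesOver (IsLocalRing.maximalIdeal R)).fintype
  have hsum := Ideal.sum_ramification_inertia_eq_finrank (IsLocalRing.maximalIdeal R)
    (integralClosure R F)
  rw [hrank, ← hsum, Finset.mul_sum]
  refine Finset.dvd_sum fun P _ => ?_
  rw [← mul_assoc]
  refine Dvd.dvd.mul_right ?_ _
  haveI hPprime : P.1.IsPrime := P.2.1
  haveI hPlies : P.1.LiesOver (IsLocalRing.maximalIdeal R) := P.2.2
  have hϖmem : ϖ ∈ IsLocalRing.maximalIdeal R := by
    rw [hϖ.maximalIdeal_eq]; exact Ideal.mem_span_singleton_self ϖ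
  have hmap : (IsLocalRing.maximalIdeal R).map (algebraMap R (integralClosure R F)) =
      Ideal.span {algebraMap R (integralClosure R F) ϖ} := by
    rw [hϖ.maximalIdeal_eq, Ideal.map_span, Set.image_singleton]
  have hπS0 : algebraMap R (integralClosure R F) ϖ ≠ 0 := by
    intro h
    have h1 : algebraMap R F ϖ = 0 := by
      have h2 := congrArg (algebraMap (integralClosure R F) F) h
      rw [map_zero] at h2
      exact h2
    exact hϖ.ne_zero (hinjF (h1.trans (map_zero _).symm))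
  have hmapne : (IsLocalRing.maximalIdeal R).map (algebraMap R (integralClosure R F)) ≠ ⊥ := by
    rw [hmap, Ne, Ideal.span_singleton_eq_bot]; exact hπS0
  have hPne : P.1 ≠ ⊥ := by
    intro h
    have h1 : ϖ ∈ P.1.under R := by rw [← hPlies.over]; exact hϖmem
    have h2 : algebraMap R (integralClosure R F) ϖ ∈ P.1 := h1
    rw [h, Ideal.mem_bot] at h2
    exact hπS0 h2
  obtain ⟨v, hv_as⟩ : ∃ v : IsDedekindDomain.HeightOneSpectrum (integralClosure R F),
      v.asIdeal = P.1 := ⟨⟨P.1, hPprime, hPne⟩, rfl⟩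
  have he : P.1.ramificationIdx R =
      multiplicity v.asIdeal (Ideal.span {algebraMap R (integralClosure R F) ϖ}) := by
    rw [hv_as, ← hmap]
    exact Ideal.IsDedekindDomain.ramificationIdx_eq_multiplicity (IsLocalRing.maximalIdeal R) P.1
      hmapne
  have hv : v.intValuation (algebraMap R (integralClosure R F) ϖ) =
      WithZero.exp (-((P.1.ramificationIdx R : ℕ) : ℤ)) := by
    rw [he]; exact intValuation_eq_exp_neg_multiplicity v _ hπS0
  have hvF : v.valuation F (algebraMap K F (algebraMap R K ϖ)) =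
      WithZero.exp (-((P.1.ramificationIdx R : ℕ) : ℤ)) := by
    have h1 := v.valuation_of_algebraMap (K := F) (algebraMap R (integralClosure R F) ϖ)
    exact h1.trans hv
  obtain ⟨k, hk0, hkN, hdvd⟩ := exists_shift_dvd (v.valuation F) _ _ hvF d N q hd y hy heq
  have hdvd' : d ∣ k * (q * P.1.ramificationIdx R) := by exact_mod_cast hdvd
  exact idx_dvd_of_dvd_mul d N k _ hk0 hkN hdvd'

theorem dvd_finrank (R : Type u) [CommRing R] [IsDomain R] [IsDiscreteValuationRing R]
    (K : Type u) [Field K] [Algebra R K] [IsFractionRing R K] (ϖ : R) (hϖ : Irreducible ϖ)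
    (d N : ℕ) (hd : 1 ≤ d) (L : Type u) [Field L] [Algebra K L] [FiniteDimensional K L]
    (x : Fin (N + 1) → L) (hx : x ≠ 0)
    (heq : x 0 ^ d = ∑ i : Fin N,
      algebraMap K L (algebraMap R K (ϖ ^ ((i : ℕ) + 1))) * x i.succ ^ d) :
    idx d N ∣ Module.finrank K L := by
  obtain ⟨y, hy, hyeq⟩ := exists_sepClosure_solution d N
    (fun i => algebraMap R K (ϖ ^ ((i : ℕ) + 1))) x hx heq
  haveI : Algebra.IsSeparable K (separableClosure K L) := separableClosure.isSeparable K L
  have h := core R K ϖ hϖ d N hd (separableClosure K L)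
    (Module.finrank (separableClosure K L) L) y hy (by
      rw [hyeq]
      refine Finset.sum_congr rfl fun i _ => ?_
      rw [map_pow, map_pow, ← pow_mul])
  rw [mul_comm, Module.finrank_mul_finrank] at h
  exact h

set_option maxHeartbeats 1000000 in
theorem exists_ext_solution (R : Type u) [CommRing R] [IsDomain R] [IsDiscreteValuationRing R]
    (K : Type u) [Field K] [Algebra R K] [IsFractionRing R K] (ϖ : R) (hϖ : Irreducible ϖ)
    (d N δ : ℕ) (hd : 1 ≤ d) (hδ1 : 1 ≤ δ) (hδN : δ ≤ N) (hδd : δ ∣ d) :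
    ∃ (L : Type u) (_ : Field L) (_ : Algebra K L), FiniteDimensional K L ∧
      ((d / δ : ℕ) : ℤ) = (Module.finrank K L : ℤ) ∧
      ∃ x : Fin (N + 1) → L, x ≠ 0 ∧
        x 0 ^ d = ∑ i : Fin N,
          algebraMap K L (algebraMap R K (ϖ ^ ((i : ℕ) + 1))) * x i.succ ^ d := by
  classical
  obtain ⟨e, hedef⟩ : ∃ e, e = d / δ := ⟨_, rfl⟩
  rw [← hedef]
  have heδ : e * δ = d := by rw [hedef]; exact Nat.div_mul_cancel hδd
  have he1 : 1 ≤ e := by
    rcases Nat.eq_zero_or_pos e with h | h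
    · rw [h, zero_mul] at heδ; omega
    · exact h
  have hπ : IsLocalRing.maximalIdeal R = Ideal.span {ϖ} := hϖ.maximalIdeal_eq
  have hϖmem : ϖ ∈ IsLocalRing.maximalIdeal R := by
    rw [hπ]; exact Ideal.mem_span_singleton_self ϖ
  have hϖ0 : ϖ ≠ 0 := hϖ.ne_zero
  have hmonic : (X ^ e - C ϖ : R[X]).Monic := monic_X_pow_sub_C ϖ (by omega)
  have hnd : (X ^ e - C ϖ : R[X]).natDegree = e := natDegree_X_pow_sub_C
  have hcoeff : ∀ i, (X ^ e - C ϖ : R[X]).coeff i =
      (if i = e then 1 else 0) - (if i = 0 then ϖ else 0) := by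
    intro i; rw [coeff_sub, coeff_X_pow, coeff_C]
  have heis : (X ^ e - C ϖ : R[X]).IsEisensteinAt (IsLocalRing.maximalIdeal R) := by
    refine ⟨?_, ?_, ?_⟩
    · rw [hmonic.leadingCoeff]
      exact (Ideal.ne_top_iff_one _).mp (IsLocalRing.maximalIdeal.isMaximal R).ne_top
    · intro i hi
      rw [hnd] at hi
      rw [hcoeff, if_neg (show ¬ (i = e) by omega), zero_sub]
      refine neg_mem ?_
      split_ifs
      · exact hϖmem
      · exact Ideal.zero_mem _
    · rw [hcoeff, if_neg (show ¬ (0 = e) by omega), if_pos rfl, zero_sub, hπ,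
        Ideal.span_singleton_pow, Ideal.mem_span_singleton, dvd_neg]
      intro hdvd
      have h1 : ϖ ∣ 1 := by
        have h2 : ϖ * ϖ ∣ ϖ * 1 := by rw [mul_one, ← pow_two]; exact hdvd
        exact (mul_dvd_mul_iff_left hϖ0).mp h2
      exact hϖ.not_isUnit (isUnit_of_dvd_one h1)
  have hirr : Irreducible (X ^ e - C ϖ : R[X]) :=
    heis.irreducible (IsLocalRing.maximalIdeal.isMaximal R).isPrime hmonic.isPrimitive
      (by rw [hnd]; omega)
  have hgirr : Irreducible ((X ^ e - C ϖ : R[X]).map (algebraMap R K)) :=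
    (hmonic.irreducible_iff_irreducible_map_fraction_map (K := K)).mp hirr
  obtain ⟨g, hg⟩ : ∃ g : K[X], g = (X ^ e - C ϖ : R[X]).map (algebraMap R K) := ⟨_, rfl⟩
  rw [← hg] at hgirr
  haveI : Fact (Irreducible g) := ⟨hgirr⟩
  have hg0 : g ≠ 0 := hgirr.ne_zero
  have hgnd : g.natDegree = e := by rw [hg, hmonic.natDegree_map, hnd]
  have hg' : g = X ^ e - C (algebraMap R K ϖ) := by
    rw [hg, Polynomial.map_sub, Polynomial.map_pow, Polynomial.map_X, Polynomial.map_C]
  obtain ⟨t, htdef⟩ : ∃ t : AdjoinRoot g, t = AdjoinRoot.root g := ⟨_, rfl⟩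
  have ht : t ^ e = algebraMap K (AdjoinRoot g) (algebraMap R K ϖ) := by
    have h1 : Polynomial.aeval t g = 0 := by rw [htdef, AdjoinRoot.aeval_eq, AdjoinRoot.mk_self]
    have h2 : Polynomial.aeval t (X ^ e - C (algebraMap R K ϖ) : K[X]) = 0 :=
      (congrArg (Polynomial.aeval t) hg').symm.trans h1
    rw [map_sub, map_pow, aeval_X, aeval_C, sub_eq_zero] at h2
    exact h2
  have hι0 : algebraMap K (AdjoinRoot g) (algebraMap R K ϖ) ≠ 0 := by
    intro h
    have h1 := (algebraMap K (AdjoinRoot g)).injective (h.trans (map_zero _).symm)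
    exact hϖ0 ((IsFractionRing.injective R K) (h1.trans (map_zero _).symm))
  have ht0 : t ≠ 0 := by
    intro h; rw [h, zero_pow (show e ≠ 0 by omega)] at ht; exact hι0 ht.symm
  refine ⟨AdjoinRoot g, inferInstance, inferInstance, (AdjoinRoot.powerBasis hg0).finite, ?_, ?_⟩
  · rw [(AdjoinRoot.powerBasis hg0).finrank, AdjoinRoot.powerBasis_dim, hgnd]
  · obtain ⟨x, hx0, hxs⟩ : ∃ x : Fin (N + 1) → AdjoinRoot g, x 0 = t ∧
        ∀ i : Fin N, x i.succ = if (i : ℕ) + 1 = δ then 1 else 0 :=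
      ⟨fun j => if j = 0 then t else if (j : ℕ) = δ then 1 else 0, by simp,
        fun i => by simp [Fin.succ_ne_zero]⟩
    have hi0 : δ - 1 < N := by omega
    have hx_i0 : x (⟨δ - 1, hi0⟩ : Fin N).succ = 1 := by
      rw [hxs]; exact if_pos (by show δ - 1 + 1 = δ; omega)
    have hx_other : ∀ i : Fin N, i ≠ ⟨δ - 1, hi0⟩ → x i.succ = 0 := by
      intro i hi
      rw [hxs]
      refine if_neg ?_
      intro hcon
      apply hi
      apply Fin.ext
      show (i : ℕ) = δ - 1
      omega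
    refine ⟨x, ?_, ?_⟩
    · intro h
      apply ht0
      rw [← hx0, h]; rfl
    · rw [hx0, Finset.sum_eq_single (⟨δ - 1, hi0⟩ : Fin N)]
      · rw [hx_i0, one_pow, mul_one]
        show t ^ d = algebraMap K (AdjoinRoot g) (algebraMap R K (ϖ ^ (δ - 1 + 1)))
        rw [Nat.sub_add_cancel hδ1, map_pow, map_pow, ← ht, ← pow_mul, heδ]
      · intro i _ hi
        rw [hx_other i hi, zero_pow (show d ≠ 0 by omega), mul_zero]
      · intro h; exact absurd (Finset.mem_univ _) h

theorem main (R : Type u) [CommRing R] [IsDomain R] [IsDiscreteValuationRing R] (K : Type u)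
    [Field K] [Algebra R K] [IsFractionRing R K] (ϖ : R) (hϖ : Irreducible ϖ) (d N : ℕ)
    (hd : 1 ≤ d) :
    AddSubgroup.closure {m : ℤ | ∃ (L : Type u) (_ : Field L) (_ : Algebra K L),
        FiniteDimensional K L ∧ m = (Module.finrank K L : ℤ) ∧
        ∃ x : Fin (N + 1) → L, x ≠ 0 ∧
          x 0 ^ d = ∑ i : Fin N,
            algebraMap K L (algebraMap R K (ϖ ^ ((i : ℕ) + 1))) * x i.succ ^ d} =
      AddSubgroup.zmultiples ((idx d N : ℕ) : ℤ) := by
  apply le_antisymm
  · rw [AddSubgroup.closure_le]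
    rintro m ⟨L, iF, iA, hfd, rfl, x, hx, heq⟩
    haveI := hfd
    rw [SetLike.mem_coe, Int.mem_zmultiples_iff]
    exact Int.natCast_dvd_natCast.mpr (dvd_finrank R K ϖ hϖ d N hd L x hx heq)
  · apply AddSubgroup.zmultiples_le_of_mem
    unfold idx
    apply gcd_mem
    intro δ hδ
    obtain ⟨hδIcc, hδd⟩ := Finset.mem_filter.mp hδ
    obtain ⟨hδ1, hδN⟩ := Finset.mem_Icc.mp hδIcc
    apply AddSubgroup.subset_closure
    obtain ⟨L, iF, iA, hfd, hdeg, x, hx, heq⟩ :=
      exists_ext_solution R K ϖ hϖ d N δ hd hδ1 hδN hδd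
    exact ⟨L, iF, iA, hfd, hdeg, x, hx, heq⟩

end Groth.Agent.Helper22.TwistDiag
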