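import Mathlib
import Groth.Prelude.Def_EtRam
import Groth.Agent.Lib.Helper22.WUSep
import Groth.Agent.Lib.Helper22.TwistDiag

/-!
# Totally ramified finite separable extensions and weakly unramified extensions of DVRs (S1984)
-/

set_option autoImplicit false
set_option linter.deprecated false
universe u

open TensorProduct IsLocalRing

namespace Groth.Agent.Helper22.TotRam

open Groth.Agent.Helper22.SolTower Groth.Agent.Helper22.WUGen Groth.Agent.Helper22.CompCtx
  Groth.Agent.Helper22.WUSep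

theorem vnr_field (F : Type*) [Field F] : VNR F := by
  intro y
  by_cases hy : y = 0
  · exact ⟨0, by rw [hy, mul_zero]⟩
  · exact ⟨y⁻¹, by rw [mul_assoc, mul_inv_cancel₀ hy, mul_one]⟩

/-- Every local ring mapping to a field is dominated by a valuation subring. -/
theorem exists_dominating {B F : Type u} [CommRing B] [IsLocalRing B] [Field F] (g : B →+* F) :
    ∃ W : ValuationSubring F, EtRam.Dominates B g W := by
  obtain ⟨W, hmem, hloc⟩ := IsLocalRing.exists_factor_valuationRing g
  refine ⟨W, fun b => hmem b, fun b hb => ?_⟩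
  by_cases h0 : g b = 0
  · rw [h0, map_zero]; exact zero_lt_iff.mpr one_ne_zero
  · rw [val_lt_one_iff W h0]
    intro hinv
    have hu : IsUnit (g.codRestrict W.toSubring hmem b) :=
      isUnit_iff_exists_inv.mpr ⟨⟨(g b)⁻¹, hinv⟩, Subtype.ext (mul_inv_cancel₀ h0)⟩
    exact (mem_maximalIdeal _).mp hb (hloc.map_nonunit _ hu)

section Bottom2
variable (A K K₁ : Type u) [CommRing A] [IsDomain A] [IsDiscreteValuationRing A] [Field K]
  [Field K₁] [Algebra A K] [IsFractionRing A K] [Algebra K K₁] [FiniteDimensional K K₁]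
  [Algebra.IsSeparable K K₁]

variable
  (hu : ∀ V V' : ValuationSubring K₁, EtRam.Dominates A ((algebraMap K K₁).comp (algebraMap A K)) V → EtRam.Dominates A ((algebraMap K K₁).comp (algebraMap A K)) V' → V = V')
  (V : ValuationSubring K₁) (hdom : EtRam.Dominates A ((algebraMap K K₁).comp (algebraMap A K)) V)

include hu hdom in
/-- If `V` is the only valuation subring dominating `A`, its elements are integral over `A`. -/
theorem isIntegral_of_mem (y : K₁) (hy : y ∈ V) :
    letI : Algebra A K₁ := ((algebraMap K K₁).comp (algebraMap A K)).toAlgebra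
    IsIntegral A y := by
  letI algAK₁ : Algebra A K₁ := ((algebraMap K K₁).comp (algebraMap A K)).toAlgebra
  haveI : IsScalarTower A K K₁ := IsScalarTower.of_algebraMap_eq (fun _ => rfl)
  show IsIntegral A y
  by_contra hnot
  have hyR : y ∉ (integralClosure A K₁).toSubring := fun h => hnot h
  obtain ⟨V', hle, hyV'⟩ := Subring.exists_le_valuationSubring_of_isIntegrallyClosedIn hyR
  have hAV' : ∀ a : A, ((algebraMap K K₁).comp (algebraMap A K)) a ∈ V' := fun a =>
    hle (show algebraMap A K₁ a ∈ (integralClosure A K₁).toSubring from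
      (isIntegral_algebraMap : IsIntegral A (algebraMap A K₁ a)))
  obtain ⟨πA, hπA⟩ := IsDiscreteValuationRing.exists_irreducible A
  have hginj : Function.Injective ((algebraMap K K₁).comp (algebraMap A K)) := by
    intro x y h
    exact IsFractionRing.injective A K ((algebraMap K K₁).injective h)
  have hgπ0 : ((algebraMap K K₁).comp (algebraMap A K)) πA ≠ 0 := fun h0 => hπA.ne_zero (hginj (by rw [h0, map_zero]))
  by_cases hinv : (((algebraMap K K₁).comp (algebraMap A K)) πA)⁻¹ ∈ V'
  · -- `K ⊆ V'`, so `y ∈ V'`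
    have halg : IsAlgebraic A y :=
      (IsFractionRing.isAlgebraic_iff A K K₁).mpr
        (Algebra.IsIntegral.isIntegral (R := K) y).isAlgebraic
    obtain ⟨c, hc0, hcy⟩ := halg.exists_integral_multiple
    obtain ⟨k, w, hw⟩ := IsDiscreteValuationRing.associated_pow_irreducible hc0 hπA
    have hcyV' : ((algebraMap K K₁).comp (algebraMap A K)) c * y ∈ V' := by
      have h1 : c • y ∈ (integralClosure A K₁).toSubring := hcy
      have h2 := hle h1
      rw [Algebra.smul_def] at h2
      exact h2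
    have h1 : ((algebraMap K K₁).comp (algebraMap A K)) c * ((algebraMap K K₁).comp (algebraMap A K)) (w : A) = (((algebraMap K K₁).comp (algebraMap A K)) πA) ^ k := by
      rw [← map_mul, hw, map_pow]
    have h2 : (((algebraMap K K₁).comp (algebraMap A K)) πA) ^ k * ((((algebraMap K K₁).comp (algebraMap A K)) πA)⁻¹) ^ k = 1 := by
      rw [← mul_pow, mul_inv_cancel₀ hgπ0, one_pow]
    have key : y = ((algebraMap K K₁).comp (algebraMap A K)) c * y * ((algebraMap K K₁).comp (algebraMap A K)) (w : A) * ((((algebraMap K K₁).comp (algebraMap A K)) πA)⁻¹) ^ k := by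
      calc y = y * ((((algebraMap K K₁).comp (algebraMap A K)) πA) ^ k * ((((algebraMap K K₁).comp (algebraMap A K)) πA)⁻¹) ^ k) := by rw [h2, mul_one]
        _ = ((algebraMap K K₁).comp (algebraMap A K)) c * y * ((algebraMap K K₁).comp (algebraMap A K)) (w : A) * ((((algebraMap K K₁).comp (algebraMap A K)) πA)⁻¹) ^ k := by rw [← h1]; ring
    apply hyV'
    rw [key]
    exact mul_mem (mul_mem hcyV' (hAV' _)) (pow_mem hinv k)
  · -- `V'` dominates `A`, hence equals `V`
    have hdom' : EtRam.Dominates A ((algebraMap K K₁).comp (algebraMap A K)) V' := by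
      refine ⟨hAV', fun a ha => ?_⟩
      by_cases ha0 : ((algebraMap K K₁).comp (algebraMap A K)) a = 0
      · rw [ha0, map_zero]; exact zero_lt_iff.mpr one_ne_zero
      · rw [val_lt_one_iff V' ha0]
        intro hainv
        apply hinv
        rw [hπA.maximalIdeal_eq, Ideal.mem_span_singleton] at ha
        obtain ⟨c, rfl⟩ := ha
        have h3 : (((algebraMap K K₁).comp (algebraMap A K)) πA)⁻¹ = (((algebraMap K K₁).comp (algebraMap A K)) (πA * c))⁻¹ * ((algebraMap K K₁).comp (algebraMap A K)) c := by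
          rw [map_mul, mul_inv, mul_assoc, inv_mul_cancel₀, mul_one]
          intro hc0
          apply ha0
          rw [map_mul, hc0, mul_zero]
        rw [h3]
        exact mul_mem hainv (hAV' c)
    have hVV' : V = V' := hu V V' hdom hdom'
    exact hyV' (hVV' ▸ hy)

include hu hdom in
theorem finite_of_unique :
    letI : Algebra A V := (RingHom.codRestrict ((algebraMap K K₁).comp (algebraMap A K)) V hdom.1).toAlgebra
    Module.Finite A V := by
  letI algAV : Algebra A V := (RingHom.codRestrict ((algebraMap K K₁).comp (algebraMap A K)) V hdom.1).toAlgebra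
  letI algAK₁ : Algebra A K₁ := ((algebraMap K K₁).comp (algebraMap A K)).toAlgebra
  haveI : IsScalarTower A K K₁ := IsScalarTower.of_algebraMap_eq (fun _ => rfl)
  haveI : IsScalarTower A V K₁ := IsScalarTower.of_algebraMap_eq (fun _ => rfl)
  show Module.Finite A V
  haveI : IsIntegralClosure V A K₁ :=
    { algebraMap_injective := Subtype.val_injective
      isIntegral_iff := by
        intro x
        constructor
        · intro hx
          have h1 : IsIntegral V x := hx.tower_top
          exact IsIntegrallyClosed.isIntegral_iff.mp h1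
        · rintro ⟨y, rfl⟩
          exact isIntegral_of_mem A K K₁ hu V hdom y.1 y.2 }
  exact IsIntegralClosure.finite A K K₁ V

include hu hdom in
/-- The ramification index of the unique extension is the degree. -/
theorem ram_eq
    (hres : Function.Surjective (fun a : A => residue V (RingHom.codRestrict ((algebraMap K K₁).comp (algebraMap A K)) V hdom.1 a)))
    (πA : A) (hπA : Irreducible πA) (π₁ : V) (hπ₁ : Irreducible π₁) (e : ℕ) (w : Vˣ)
    (hrel : RingHom.codRestrict ((algebraMap K K₁).comp (algebraMap A K)) V hdom.1 πA * (w : V) = π₁ ^ e) :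
    e = Module.finrank K K₁ := by
  letI algAV : Algebra A V := (RingHom.codRestrict ((algebraMap K K₁).comp (algebraMap A K)) V hdom.1).toAlgebra
  letI algAK₁ : Algebra A K₁ := ((algebraMap K K₁).comp (algebraMap A K)).toAlgebra
  haveI : IsScalarTower A K K₁ := IsScalarTower.of_algebraMap_eq (fun _ => rfl)
  haveI : IsScalarTower A V K₁ := IsScalarTower.of_algebraMap_eq (fun _ => rfl)
  haveI locAV : IsLocalHom (algebraMap A V) := isLocalHom_of_dominates _ _ hdom
  haveI dvrV : IsDiscreteValuationRing V := isDVR_of_dominates A K K₁ V hdom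
  haveI finV : Module.Finite A V := finite_of_unique A K K₁ hu V hdom
  have hef := Ideal.ramificationIdx_mul_inertiaDeg_of_isLocalRing (R := A) V K K₁
    (p := maximalIdeal A) (IsDiscreteValuationRing.not_a_field A)
  have hmap : Ideal.map (algebraMap A V) (maximalIdeal A) = (maximalIdeal V) ^ e := by
    rw [hπA.maximalIdeal_eq, hπ₁.maximalIdeal_eq, Ideal.map_span, Set.image_singleton,
      Ideal.span_singleton_pow, Ideal.span_singleton_eq_span_singleton]
    exact ⟨w, hrel⟩
  have hram : Ideal.ramificationIdx' (maximalIdeal A) (maximalIdeal V) = e := by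
    apply Ideal.ramificationIdx'_spec
    · rw [hmap]
    · rw [hmap, hπ₁.maximalIdeal_eq, Ideal.span_singleton_pow, Ideal.span_singleton_pow,
        Ideal.span_singleton_le_span_singleton, pow_dvd_pow_iff hπ₁.ne_zero hπ₁.not_isUnit]
      omega
  have hf : Ideal.inertiaDeg' (maximalIdeal A) (maximalIdeal V) ≤ 1 := by
    rw [Ideal.inertiaDeg'_algebraMap]
    refine finrank_le_one (1 : V ⧸ maximalIdeal V) (fun z => ?_)
    obtain ⟨a, ha⟩ := hres z
    refine ⟨Ideal.Quotient.mk (maximalIdeal A) a, ?_⟩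
    rw [Algebra.smul_def, mul_one]
    exact ha
  rw [hram] at hef
  have hn : 0 < Module.finrank K K₁ := Module.finrank_pos
  have hf1 : Ideal.inertiaDeg' (maximalIdeal A) (maximalIdeal V) = 1 := by
    rcases Nat.lt_or_ge (Ideal.inertiaDeg' (maximalIdeal A) (maximalIdeal V)) 1 with h | h
    · have h0 : Ideal.inertiaDeg' (maximalIdeal A) (maximalIdeal V) = 0 := by omega
      rw [h0, mul_zero] at hef
      omega
    · omega
  rw [hf1, mul_one] at hef
  exact hef

end Bottom2

/-! ### linear independence of powers of a uniformizer -/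

theorem val_pow_ne {M : Type*} [Field M] (W : ValuationSubring M) (ϖ : W) (h0 : ϖ ≠ 0)
    (hnu : ¬ IsUnit ϖ) {a b : ℕ} (hab : a < b) :
    W.valuation (ϖ : M) ^ a ≠ W.valuation (ϖ : M) ^ b := by
  intro h
  obtain ⟨c, rfl⟩ := Nat.exists_eq_add_of_lt hab
  have hv0 : W.valuation (ϖ : M) ≠ 0 :=
    (Valuation.ne_zero_iff _).mpr (fun h => h0 (Subtype.ext h))
  have h2 : W.valuation (ϖ : M) ^ a * 1 =
      W.valuation (ϖ : M) ^ a * W.valuation (ϖ : M) ^ (c + 1) := by
    rw [mul_one, ← pow_add, ← add_assoc]; exact h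
  have h1 : W.valuation (ϖ : M) ^ (c + 1) = 1 :=
    (mul_left_cancel₀ (pow_ne_zero _ hv0) h2).symm
  have h3 : W.valuation ((ϖ ^ (c + 1) : W) : M) = 1 := by
    have e : ((ϖ ^ (c + 1) : W) : M) = (ϖ : M) ^ (c + 1) := rfl
    rw [e, map_pow, h1]
  have h4 : IsUnit (ϖ ^ (c + 1)) := (W.valuation_eq_one_iff _).mpr h3
  exact hnu ((isUnit_pow_iff (by omega : c + 1 ≠ 0)).mp h4)

theorem linIndep_pow (B L M : Type u) [CommRing B] [IsDomain B] [IsDiscreteValuationRing B]
    [Field L] [Field M] [Algebra B L] [IsFractionRing B L] [Algebra L M]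
    (W : ValuationSubring M) (θ : B →+* W)
    (hθ : ∀ b : B, ((θ b : W) : M) = algebraMap L M (algebraMap B L b))
    (ϖ : W) (hϖ0 : ϖ ≠ 0) (hϖnu : ¬ IsUnit ϖ) (πB : B) (hπB : Irreducible πB) (n : ℕ) (u : W)
    (hu : IsUnit u) (hrel : θ πB * u = ϖ ^ n) :
    LinearIndependent L (fun i : Fin n => ((ϖ : W) : M) ^ (i : ℕ)) := by
  classical
  obtain ⟨q, hq⟩ : ∃ q, q = W.valuation (ϖ : M) := ⟨_, rfl⟩
  have hqinj : ∀ a b : ℕ, q ^ a = q ^ b → a = b := by
    intro a b h
    rw [hq] at h
    rcases lt_trichotomy a b with hlt | heq | hgt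
    · exact absurd h (val_pow_ne W ϖ hϖ0 hϖnu hlt)
    · exact heq
    · exact absurd h.symm (val_pow_ne W ϖ hϖ0 hϖnu hgt)
  have hvunit : ∀ b : B, IsUnit b → W.valuation (algebraMap L M (algebraMap B L b)) = 1 := by
    intro b hb
    rw [← hθ]
    exact (W.valuation_eq_one_iff _).mp (hb.map θ)
  have hvπ : W.valuation (algebraMap L M (algebraMap B L πB)) = q ^ n := by
    have h1 : ((θ πB : W) : M) * (u : M) = (ϖ : M) ^ n := congrArg Subtype.val hrel
    have h2 := congrArg W.valuation h1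
    rw [map_mul, map_pow, (W.valuation_eq_one_iff u).mp hu, mul_one, hθ, ← hq] at h2
    exact h2
  have hvb : ∀ b : B, b ≠ 0 → ∃ s : ℕ,
      W.valuation (algebraMap L M (algebraMap B L b)) = q ^ (n * s) := by
    intro b hb
    obtain ⟨s, w, hw⟩ := IsDiscreteValuationRing.associated_pow_irreducible hb hπB
    refine ⟨s, ?_⟩
    have h1 : algebraMap L M (algebraMap B L b) * algebraMap L M (algebraMap B L (w : B)) =
        (algebraMap L M (algebraMap B L πB)) ^ s := by
      rw [← map_mul, ← map_mul, hw, map_pow, map_pow]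
    have h2 := congrArg W.valuation h1
    rw [map_mul, map_pow, hvunit _ w.isUnit, mul_one, hvπ, ← pow_mul] at h2
    exact h2
  have hvl : ∀ l : L, l ≠ 0 → ∃ s t : ℕ,
      W.valuation (algebraMap L M l) * q ^ (n * t) = q ^ (n * s) := by
    intro l hl
    obtain ⟨b₁, b₂, hb₂, rfl⟩ := IsFractionRing.div_surjective B l
    have hb₂0 : b₂ ≠ 0 := nonZeroDivisors.ne_zero hb₂
    have hb₂L : algebraMap B L b₂ ≠ 0 := fun h =>
      hb₂0 (IsFractionRing.injective B L (by rw [h, map_zero]))
    have hb₁0 : b₁ ≠ 0 := by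
      rintro rfl
      apply hl
      rw [map_zero, zero_div]
    obtain ⟨s, hs⟩ := hvb b₁ hb₁0
    obtain ⟨t, ht⟩ := hvb b₂ hb₂0
    refine ⟨s, t, ?_⟩
    rw [← hs, ← ht, ← map_mul, ← map_mul, div_mul_cancel₀ _ hb₂L]
  rw [Fintype.linearIndependent_iff]
  intro g hsum
  by_contra hcon
  push_neg at hcon
  obtain ⟨i₀, hi₀⟩ := hcon
  have hϖM : (ϖ : M) ≠ 0 := fun h => hϖ0 (Subtype.ext h)
  have hx : ∀ i : Fin n, g i • (ϖ : M) ^ (i : ℕ) = algebraMap L M (g i) * (ϖ : M) ^ (i : ℕ) :=
    fun i => Algebra.smul_def _ _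
  have hxne : ∀ i : Fin n, g i • (ϖ : M) ^ (i : ℕ) ≠ 0 → g i ≠ 0 := by
    intro i h hg
    apply h
    rw [hg, zero_smul]
  obtain ⟨i, -, j, -, hij, hxi, hxj, hv⟩ :=
    Groth.Agent.Helper22.TwistDiag.exists_ne_map_eq_of_sum_eq_zero W.valuation Finset.univ
      (fun i : Fin n => g i • (ϖ : M) ^ (i : ℕ)) hsum
      ⟨i₀, Finset.mem_univ _, by
        show g i₀ • (ϖ : M) ^ (i₀ : ℕ) ≠ 0
        rw [hx]
        exact mul_ne_zero ((map_ne_zero _).mpr hi₀) (pow_ne_zero _ hϖM)⟩
  have hgi : g i ≠ 0 := hxne i hxi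
  have hgj : g j ≠ 0 := hxne j hxj
  obtain ⟨si, ti, hi⟩ := hvl (g i) hgi
  obtain ⟨sj, tj, hj⟩ := hvl (g j) hgj
  have hv' : W.valuation (algebraMap L M (g i)) * q ^ (i : ℕ) =
      W.valuation (algebraMap L M (g j)) * q ^ (j : ℕ) := by
    have h1 : W.valuation (g i • (ϖ : M) ^ (i : ℕ)) = W.valuation (g j • (ϖ : M) ^ (j : ℕ)) := hv
    rw [hx, hx, map_mul, map_mul, map_pow, map_pow, ← hq] at h1
    exact h1
  have hE : q ^ (n * si + (i : ℕ) + n * tj) = q ^ (n * sj + (j : ℕ) + n * ti) := by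
    rw [pow_add, pow_add, pow_add, pow_add, ← hi, ← hj]
    calc W.valuation (algebraMap L M (g i)) * q ^ (n * ti) * q ^ (i : ℕ) * q ^ (n * tj)
        = (W.valuation (algebraMap L M (g i)) * q ^ (i : ℕ)) *
            (q ^ (n * ti) * q ^ (n * tj)) := by ac_rfl
      _ = (W.valuation (algebraMap L M (g j)) * q ^ (j : ℕ)) *
            (q ^ (n * ti) * q ^ (n * tj)) := by rw [hv']
      _ = W.valuation (algebraMap L M (g j)) * q ^ (n * tj) * q ^ (j : ℕ) * q ^ (n * ti) := by
        ac_rfl
  have hexp := hqinj _ _ hE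
  have e1 : n * si + (i : ℕ) + n * tj = (i : ℕ) + n * (si + tj) := by ring
  have e2 : n * sj + (j : ℕ) + n * ti = (j : ℕ) + n * (sj + ti) := by ring
  rw [e1, e2] at hexp
  have h3 : ((i : ℕ) + n * (si + tj)) % n = ((j : ℕ) + n * (sj + ti)) % n := by rw [hexp]
  rw [Nat.add_mul_mod_self_left, Nat.add_mul_mod_self_left, Nat.mod_eq_of_lt i.2,
    Nat.mod_eq_of_lt j.2] at h3
  exact hij (Fin.ext h3)

/-! ### the compositum context -/

section Ctx
variable (A B K L K₁ M : Type u) [CommRing A] [IsDomain A] [IsDiscreteValuationRing A]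
    [CommRing B] [IsDomain B] [IsDiscreteValuationRing B] [Algebra A B]
    [IsLocalHom (algebraMap A B)]
    [Field K] [Field L] [Field K₁] [Field M] [Algebra A K] [IsFractionRing A K] [Algebra B L]
    [IsFractionRing B L]
    [Algebra K L] [Algebra A L] [IsScalarTower A K L] [IsScalarTower A B L]
    [Algebra K K₁] [FiniteDimensional K K₁] [Algebra K M] [Algebra L M] [Algebra K₁ M]
    [IsScalarTower K L M] [IsScalarTower K K₁ M]

theorem weak_core (hw : EtRam.IsWeaklyUnramified A B)
    (hres : ∀ (V : ValuationSubring K₁)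
      (h : EtRam.Dominates A ((algebraMap K K₁).comp (algebraMap A K)) V),
      Function.Surjective (fun a : A =>
        residue V (RingHom.codRestrict ((algebraMap K K₁).comp (algebraMap A K)) V h.1 a)))
    (hadj : Algebra.adjoin L (Set.range (algebraMap K₁ M)) = ⊤) (W : ValuationSubring M)
    (hW : EtRam.Dominates B ((algebraMap L M).comp (algebraMap B L)) W)
    (π₁ : W.comap (algebraMap K₁ M)) (hπ₁ : Irreducible π₁) :
    ∀ w ∈ maximalIdeal W, EtRam.inclOfComap W (algebraMap K₁ M) π₁ ∣ w := by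
  classical
  have hdomA := dominates_bottom A B K L K₁ M W hW
  letI algAV : Algebra A (W.comap (algebraMap K₁ M)) :=
    (RingHom.codRestrict ((algebraMap K K₁).comp (algebraMap A K)) _ hdomA.1).toAlgebra
  haveI locAV : IsLocalHom (algebraMap A (W.comap (algebraMap K₁ M))) :=
    isLocalHom_of_dominates _ _ hdomA
  haveI dvrV : IsDiscreteValuationRing (W.comap (algebraMap K₁ M)) :=
    isDVR_of_dominates A K K₁ _ hdomA
  obtain ⟨πA, hπA⟩ := IsDiscreteValuationRing.exists_irreducible A
  have hw' : (maximalIdeal A).map (algebraMap A B) = maximalIdeal B := hw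
  have hπB : Irreducible (algebraMap A B πA) := by
    rw [IsDiscreteValuationRing.irreducible_iff_uniformizer, ← hw', hπA.maximalIdeal_eq,
      Ideal.map_span, Set.image_singleton]
  obtain ⟨θ₁, hθ₁⟩ : ∃ θ₁ : B →+* W,
      θ₁ = RingHom.codRestrict ((algebraMap L M).comp (algebraMap B L)) W hW.1 := ⟨_, rfl⟩
  obtain ⟨θ₂, hθ₂⟩ : ∃ θ₂ : (W.comap (algebraMap K₁ M)) →+* W,
      θ₂ = EtRam.inclOfComap W (algebraMap K₁ M) := ⟨_, rfl⟩
  haveI locθ₂ : IsLocalHom θ₂ := by rw [hθ₂]; infer_instance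
  haveI locθ₁ : IsLocalHom θ₁ := by rw [hθ₁]; exact isLocalHom_of_dominates _ _ hW
  have hθ₁v : ∀ b : B, ((θ₁ b : W) : M) = algebraMap L M (algebraMap B L b) := by
    intro b; rw [hθ₁]; rfl
  have hθ₂v : ∀ v : W.comap (algebraMap K₁ M), ((θ₂ v : W) : M) = algebraMap K₁ M (v : K₁) := by
    intro v; rw [hθ₂]; rfl
  have hcompat : ∀ a : A, θ₁ (algebraMap A B a) =
      θ₂ (algebraMap A (W.comap (algebraMap K₁ M)) a) := by
    intro a
    apply Subtype.ext
    rw [hθ₁v, hθ₂v]
    exact (compat_apply A B K L K₁ M a).symm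
  have hθ₁inj : Function.Injective θ₁ := by
    intro x y hxy
    have h1 : algebraMap L M (algebraMap B L x) = algebraMap L M (algebraMap B L y) := by
      rw [← hθ₁v, ← hθ₁v, hxy]
    exact IsFractionRing.injective B L ((algebraMap L M).injective h1)
  have hθ₂inj : Function.Injective θ₂ := by
    intro x y hxy
    have h1 : algebraMap K₁ M (x : K₁) = algebraMap K₁ M (y : K₁) := by
      rw [← hθ₂v, ← hθ₂v, hxy]
    exact Subtype.ext ((algebraMap K₁ M).injective h1)
  have hπAmem : πA ∈ maximalIdeal A := (mem_maximalIdeal _).mpr hπA.not_isUnit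
  have hπBmem : algebraMap A B πA ∈ maximalIdeal B := map_nonunit (algebraMap A B) πA hπAmem
  have hπBm : θ₁ (algebraMap A B πA) ∈ maximalIdeal W := map_nonunit θ₁ _ hπBmem
  have hπ₁mem : π₁ ∈ maximalIdeal (W.comap (algebraMap K₁ M)) :=
    (mem_maximalIdeal _).mpr hπ₁.not_isUnit
  have hπm : θ₂ π₁ ∈ maximalIdeal W := map_nonunit θ₂ π₁ hπ₁mem
  have hπ0 : θ₂ π₁ ≠ 0 := fun h0 => hπ₁.ne_zero (hθ₂inj (by rw [h0, map_zero]))
  have hsepB : ∀ w : W, w ≠ 0 → ∃ n : ℕ, ¬ (θ₁ (algebraMap A B πA)) ^ n ∣ w := by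
    apply sep_of_dvd W θ₁ hθ₁inj _ (algebraMap A B πA) hπB hπBm
    intro w hw0
    rw [hθ₁]
    exact exists_dvd B K L K₁ M hadj W hW w hw0
  have hinjAV : Function.Injective (algebraMap A (W.comap (algebraMap K₁ M))) :=
    injective_codRestrict A K K₁ _ hdomA
  have hne : algebraMap A (W.comap (algebraMap K₁ M)) πA ≠ 0 := fun h0 =>
    hπA.ne_zero ((map_eq_zero_iff _ hinjAV).mp h0)
  obtain ⟨e, u, hu⟩ := IsDiscreteValuationRing.associated_pow_irreducible hne hπ₁
  have hrel : θ₁ (algebraMap A B πA) * θ₂ (u : W.comap (algebraMap K₁ M)) = (θ₂ π₁) ^ e := by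
    rw [hcompat, ← map_mul, hu, map_pow]
  have hsep : ∀ w : W, w ≠ 0 → ∃ n : ℕ, ¬ (θ₂ π₁) ^ n ∣ w := by
    intro w hw0
    obtain ⟨n, hn⟩ := hsepB w hw0
    refine ⟨e * n, fun hdiv => hn ?_⟩
    have h1 : (θ₂ π₁) ^ (e * n) =
        (θ₁ (algebraMap A B πA)) ^ n * (θ₂ (u : W.comap (algebraMap K₁ M))) ^ n := by
      rw [pow_mul, ← hrel, mul_pow]
    rw [h1] at hdiv
    exact dvd_of_mul_right_dvd hdiv
  have hsurjκ : Function.Surjective (algebraMap (ResidueField A)
      (ResidueField (W.comap (algebraMap K₁ M)))) := by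
    intro z
    obtain ⟨a, ha⟩ := hres _ hdomA z
    exact ⟨residue A a, ha⟩
  have hE : VNR (ResidueField B ⊗[ResidueField A]
      ResidueField (W.comap (algebraMap K₁ M))) := by
    refine VNR.of_surjective (Algebra.TensorProduct.includeLeftRingHom :
      ResidueField B →+* ResidueField B ⊗[ResidueField A]
        ResidueField (W.comap (algebraMap K₁ M))) ?_ (vnr_field (ResidueField B))
    intro t
    induction t using TensorProduct.induction_on with
    | zero => exact ⟨0, map_zero _⟩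
    | tmul b x =>
      obtain ⟨c, rfl⟩ := hsurjκ x
      refine ⟨c • b, ?_⟩
      show (c • b) ⊗ₜ[ResidueField A] (1 : ResidueField (W.comap (algebraMap K₁ M))) =
        b ⊗ₜ[ResidueField A] (algebraMap (ResidueField A)
          (ResidueField (W.comap (algebraMap K₁ M))) c)
      rw [Algebra.algebraMap_eq_smul_one, TensorProduct.smul_tmul]
    | add x y hx hy =>
      obtain ⟨x', rfl⟩ := hx
      obtain ⟨y', rfl⟩ := hy
      exact ⟨x' + y', map_add _ _ _⟩
  obtain ⟨hC1, -⟩ := CT A B (W.comap (algebraMap K₁ M)) M W θ₁ θ₂ hcompat hw π₁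
    hπ₁.maximalIdeal_eq hπm hπ0 hE hsep (fun S h1 h2 hinv =>
      gen_comp B L K₁ M hadj W S (fun b => by rw [← hθ₁v]; exact h1 b)
        (fun k hk => by
          have h3 := h2 ⟨k, hk⟩
          rw [hθ₂v] at h3
          exact h3) hinv)
  rw [hθ₂] at hC1
  exact hC1

theorem weak_full (hw : EtRam.IsWeaklyUnramified A B)
    (hres : ∀ (V : ValuationSubring K₁)
      (h : EtRam.Dominates A ((algebraMap K K₁).comp (algebraMap A K)) V),
      Function.Surjective (fun a : A =>
        residue V (RingHom.codRestrict ((algebraMap K K₁).comp (algebraMap A K)) V h.1 a)))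
    (hadj : Algebra.adjoin L (Set.range (algebraMap K₁ M)) = ⊤) (W : ValuationSubring M)
    (hW : EtRam.Dominates B ((algebraMap L M).comp (algebraMap B L)) W) :
    letI : Algebra (W.comap (algebraMap K₁ M)) W :=
      (EtRam.inclOfComap W (algebraMap K₁ M)).toAlgebra
    EtRam.IsWeaklyUnramified (W.comap (algebraMap K₁ M)) W := by
  have hdomA := dominates_bottom A B K L K₁ M W hW
  haveI dvrV : IsDiscreteValuationRing (W.comap (algebraMap K₁ M)) :=
    isDVR_of_dominates A K K₁ _ hdomA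
  obtain ⟨π₁, hπ₁⟩ := IsDiscreteValuationRing.exists_irreducible (W.comap (algebraMap K₁ M))
  have hC1 := weak_core A B K L K₁ M hw hres hadj W hW π₁ hπ₁
  have hπ₁mem : π₁ ∈ maximalIdeal (W.comap (algebraMap K₁ M)) :=
    (mem_maximalIdeal _).mpr hπ₁.not_isUnit
  letI algVW : Algebra (W.comap (algebraMap K₁ M)) W :=
    (EtRam.inclOfComap W (algebraMap K₁ M)).toAlgebra
  show (maximalIdeal (W.comap (algebraMap K₁ M))).map
    (algebraMap (W.comap (algebraMap K₁ M)) W) = maximalIdeal W
  apply le_antisymm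
  · refine Ideal.map_le_iff_le_comap.mpr (fun v hv => ?_)
    rw [Ideal.mem_comap]
    exact map_nonunit (EtRam.inclOfComap W (algebraMap K₁ M)) v hv
  · intro w hw0
    obtain ⟨c, hc⟩ := hC1 w hw0
    rw [hc]
    exact Ideal.mul_mem_right _ _
      (Ideal.mem_map_of_mem (algebraMap (W.comap (algebraMap K₁ M)) W) hπ₁mem)

theorem finrank_ge [Algebra.IsSeparable K K₁] [FiniteDimensional L M]
    (hw : EtRam.IsWeaklyUnramified A B)
    (ht : EtRam.IsTotallyRamified A ((algebraMap K K₁).comp (algebraMap A K)))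
    (W : ValuationSubring M)
    (hW : EtRam.Dominates B ((algebraMap L M).comp (algebraMap B L)) W) :
    Module.finrank K K₁ ≤ Module.finrank L M := by
  classical
  obtain ⟨-, hu, hres⟩ := ht
  have hdomA := dominates_bottom A B K L K₁ M W hW
  letI algAV : Algebra A (W.comap (algebraMap K₁ M)) :=
    (RingHom.codRestrict ((algebraMap K K₁).comp (algebraMap A K)) _ hdomA.1).toAlgebra
  haveI locAV : IsLocalHom (algebraMap A (W.comap (algebraMap K₁ M))) :=
    isLocalHom_of_dominates _ _ hdomA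
  haveI dvrV : IsDiscreteValuationRing (W.comap (algebraMap K₁ M)) :=
    isDVR_of_dominates A K K₁ _ hdomA
  obtain ⟨πA, hπA⟩ := IsDiscreteValuationRing.exists_irreducible A
  obtain ⟨π₁, hπ₁⟩ := IsDiscreteValuationRing.exists_irreducible (W.comap (algebraMap K₁ M))
  have hw' : (maximalIdeal A).map (algebraMap A B) = maximalIdeal B := hw
  have hπB : Irreducible (algebraMap A B πA) := by
    rw [IsDiscreteValuationRing.irreducible_iff_uniformizer, ← hw', hπA.maximalIdeal_eq,
      Ideal.map_span, Set.image_singleton]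
  have hinjAV : Function.Injective (algebraMap A (W.comap (algebraMap K₁ M))) :=
    injective_codRestrict A K K₁ _ hdomA
  have hne : algebraMap A (W.comap (algebraMap K₁ M)) πA ≠ 0 := fun h0 =>
    hπA.ne_zero ((map_eq_zero_iff _ hinjAV).mp h0)
  obtain ⟨e, u, hu'⟩ := IsDiscreteValuationRing.associated_pow_irreducible hne hπ₁
  have he : e = Module.finrank K K₁ :=
    ram_eq A K K₁ hu (W.comap (algebraMap K₁ M)) hdomA (hres _ hdomA) πA hπA π₁ hπ₁ e u hu'
  obtain ⟨θ₁, hθ₁⟩ : ∃ θ₁ : B →+* W,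
      θ₁ = RingHom.codRestrict ((algebraMap L M).comp (algebraMap B L)) W hW.1 := ⟨_, rfl⟩
  obtain ⟨θ₂, hθ₂⟩ : ∃ θ₂ : (W.comap (algebraMap K₁ M)) →+* W,
      θ₂ = EtRam.inclOfComap W (algebraMap K₁ M) := ⟨_, rfl⟩
  haveI locθ₂ : IsLocalHom θ₂ := by rw [hθ₂]; infer_instance
  have hθ₁v : ∀ b : B, ((θ₁ b : W) : M) = algebraMap L M (algebraMap B L b) := by
    intro b; rw [hθ₁]; rfl
  have hθ₂v : ∀ v : W.comap (algebraMap K₁ M), ((θ₂ v : W) : M) = algebraMap K₁ M (v : K₁) := by
    intro v; rw [hθ₂]; rfl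
  have hcompat : ∀ a : A, θ₁ (algebraMap A B a) =
      θ₂ (algebraMap A (W.comap (algebraMap K₁ M)) a) := by
    intro a
    apply Subtype.ext
    rw [hθ₁v, hθ₂v]
    exact (compat_apply A B K L K₁ M a).symm
  have hθ₂inj : Function.Injective θ₂ := by
    intro x y hxy
    have h1 : algebraMap K₁ M (x : K₁) = algebraMap K₁ M (y : K₁) := by
      rw [← hθ₂v, ← hθ₂v, hxy]
    exact Subtype.ext ((algebraMap K₁ M).injective h1)
  have hπ₁mem : π₁ ∈ maximalIdeal (W.comap (algebraMap K₁ M)) :=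
    (mem_maximalIdeal _).mpr hπ₁.not_isUnit
  have hπm : θ₂ π₁ ∈ maximalIdeal W := map_nonunit θ₂ π₁ hπ₁mem
  have hπ0 : θ₂ π₁ ≠ 0 := fun h0 => hπ₁.ne_zero (hθ₂inj (by rw [h0, map_zero]))
  have hrel : θ₁ (algebraMap A B πA) * θ₂ (u : W.comap (algebraMap K₁ M)) = (θ₂ π₁) ^ e := by
    rw [hcompat, ← map_mul, hu', map_pow]
  have hlin := linIndep_pow B L M W θ₁ hθ₁v (θ₂ π₁) hπ0 ((mem_maximalIdeal _).mp hπm)
    (algebraMap A B πA) hπB e (θ₂ (u : W.comap (algebraMap K₁ M))) (u.isUnit.map θ₂) hrel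
  have hcard := hlin.fintype_card_le_finrank
  rw [Fintype.card_fin] at hcard
  rw [← he]
  exact hcard

end Ctx

/-! ### the tensor product is a field -/

section Field
variable (A B K L : Type u) [CommRing A] [IsDomain A] [IsDiscreteValuationRing A]
    [CommRing B] [IsDomain B] [IsDiscreteValuationRing B] [Algebra A B]
    [IsLocalHom (algebraMap A B)]
    [Field K] [Field L] [Algebra A K] [IsFractionRing A K] [Algebra B L] [IsFractionRing B L]
    [Algebra K L] [Algebra A L] [IsScalarTower A K L] [IsScalarTower A B L]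
    (hw : EtRam.IsWeaklyUnramified A B) (K₁ : Type u) [Field K₁] [Algebra K K₁]
    [FiniteDimensional K K₁] [Algebra.IsSeparable K K₁]
    (ht : EtRam.IsTotallyRamified A ((algebraMap K K₁).comp (algebraMap A K)))

include hw ht in
theorem inj_of_surj (F : Type u) [Field F] [Algebra (L ⊗[K] K₁) F]
    (hF : Function.Surjective (algebraMap (L ⊗[K] K₁) F)) :
    Function.Injective (algebraMap (L ⊗[K] K₁) F) := by
  letI algLF : Algebra L F := ((algebraMap (L ⊗[K] K₁) F).comp
    (Algebra.TensorProduct.includeLeftRingHom : L →+* L ⊗[K] K₁)).toAlgebra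
  letI algK₁F : Algebra K₁ F := ((algebraMap (L ⊗[K] K₁) F).comp
    (Algebra.TensorProduct.includeRight : K₁ →ₐ[K] L ⊗[K] K₁).toRingHom).toAlgebra
  letI algKF : Algebra K F := ((algebraMap L F).comp (algebraMap K L)).toAlgebra
  haveI : IsScalarTower K L F := IsScalarTower.of_algebraMap_eq (fun _ => rfl)
  haveI : IsScalarTower K K₁ F := IsScalarTower.of_algebraMap_eq (fun k => by
    show algebraMap (L ⊗[K] K₁) F ((algebraMap K L k) ⊗ₜ[K] (1 : K₁)) =
      algebraMap (L ⊗[K] K₁) F ((1 : L) ⊗ₜ[K] algebraMap K K₁ k)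
    have e : (algebraMap K L k) ⊗ₜ[K] (1 : K₁) = (1 : L) ⊗ₜ[K] algebraMap K K₁ k := by
      rw [Algebra.algebraMap_eq_smul_one, Algebra.algebraMap_eq_smul_one, TensorProduct.smul_tmul]
    rw [e])
  haveI : IsScalarTower L (L ⊗[K] K₁) F := IsScalarTower.of_algebraMap_eq (fun _ => rfl)
  have hLF : ∀ l : L, algebraMap L F l = algebraMap (L ⊗[K] K₁) F (l ⊗ₜ[K] (1 : K₁)) :=
    fun l => rfl
  have hK₁F : ∀ k : K₁, algebraMap K₁ F k = algebraMap (L ⊗[K] K₁) F ((1 : L) ⊗ₜ[K] k) :=
    fun k => rfl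
  have hadj : Algebra.adjoin L (Set.range (algebraMap K₁ F)) = ⊤ := by
    have key : ∀ t : L ⊗[K] K₁, algebraMap (L ⊗[K] K₁) F t ∈
        Algebra.adjoin L (Set.range (algebraMap K₁ F)) := by
      intro t
      induction t using TensorProduct.induction_on with
      | zero => rw [map_zero]; exact Subalgebra.zero_mem _
      | tmul l k =>
        have h1 : l ⊗ₜ[K] k = (l ⊗ₜ[K] (1 : K₁)) * ((1 : L) ⊗ₜ[K] k) := by
          rw [Algebra.TensorProduct.tmul_mul_tmul, mul_one, one_mul]
        rw [h1, map_mul, ← hLF, ← hK₁F]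
        exact Subalgebra.mul_mem _ (Subalgebra.algebraMap_mem _ l)
          (Algebra.subset_adjoin ⟨k, rfl⟩)
      | add x y hx hy => rw [map_add]; exact Subalgebra.add_mem _ hx hy
    apply eq_top_iff.mpr
    intro x _
    obtain ⟨t, rfl⟩ := hF x
    exact key t
  haveI : FiniteDimensional L F :=
    Module.Finite.of_surjective (IsScalarTower.toAlgHom L (L ⊗[K] K₁) F).toLinearMap hF
  obtain ⟨W, hW⟩ := exists_dominating ((algebraMap L F).comp (algebraMap B L))
  have hge := finrank_ge A B K L K₁ F hw ht W hW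
  have hle : Module.finrank L F ≤ Module.finrank L (L ⊗[K] K₁) :=
    LinearMap.finrank_le_finrank_of_surjective
      (f := (IsScalarTower.toAlgHom L (L ⊗[K] K₁) F).toLinearMap) hF
  have hT : Module.finrank L (L ⊗[K] K₁) = Module.finrank K K₁ := Module.finrank_baseChange
  have heq : Module.finrank L (L ⊗[K] K₁) = Module.finrank L F := by omega
  exact (LinearMap.injective_iff_surjective_of_finrank_eq_finrank heq
    (f := (IsScalarTower.toAlgHom L (L ⊗[K] K₁) F).toLinearMap)).mpr hF

include hw ht in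
theorem isField_tensor : IsField (L ⊗[K] K₁) := by
  haveI : Nontrivial (L ⊗[K] K₁) := by
    apply Module.nontrivial_of_finrank_pos (R := L)
    rw [Module.finrank_baseChange]
    exact Module.finrank_pos
  obtain ⟨𝔪, h𝔪⟩ := Ideal.exists_maximal (L ⊗[K] K₁)
  haveI := h𝔪
  letI : Field ((L ⊗[K] K₁) ⧸ 𝔪) := Ideal.Quotient.field 𝔪
  have hsurj : Function.Surjective (algebraMap (L ⊗[K] K₁) ((L ⊗[K] K₁) ⧸ 𝔪)) :=
    Ideal.Quotient.mk_surjective
  have hinj := inj_of_surj A B K L hw K₁ ht ((L ⊗[K] K₁) ⧸ 𝔪) hsurj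
  exact (RingEquiv.ofBijective (algebraMap (L ⊗[K] K₁) ((L ⊗[K] K₁) ⧸ 𝔪))
    ⟨hinj, hsurj⟩).toMulEquiv.isField (Field.toIsField _)

include hw ht in
theorem main : IsField (L ⊗[K] K₁) ∧ EtRam.IsWeakSolution B K L K₁ := by
  refine ⟨isField_tensor A B K L hw K₁ ht, ?_⟩
  intro M _ _ _ _ _ _ hadj W hW
  exact weak_full A B K L K₁ M hw ht.2.2 hadj W hW

end Field

end Groth.Agent.Helper22.TotRam
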