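import Mathlib
import Groth.Prelude.Def_EtRam
import Groth.Agent.Lib.Helper22.ASGen
import Groth.Agent.Lib.Helper22.TotRam
import Groth.Agent.Lib.Helper22.Abh
import Groth.Agent.S7132

/-!
# Ramification cases for degree `p` extensions given by a monic polynomial (helper library)

For a DVR `A` with fraction field `K` and a finite extension `L = K(z)`:

* `unram_of_sep`: if `z` is a root of a monic `f ∈ A[X]` which is separable modulo the maximal
  ideal, then `L` is unramified with respect to `A`;
* `totRam_of_pole`: if `P(z) = a / π ^ n` with `P` monic of prime degree `p`, `p ∤ n`, `n > 0` and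
  `a` a unit, then `L` is totally ramified of degree `p`;
* `case4_of_insep`: if `w` is a root of a monic `h ∈ A[X]` reducing to `X ^ p - ā` with `ā` not a
  `p`-th power, then there is a unique valuation ring of `L` dominating `A`, weakly unramified with
  purely inseparable residue extension of degree `p`.
-/

set_option autoImplicit false
universe u

open IsLocalRing Polynomial

namespace Groth.Agent.Helper22.ASCases

open Groth.Agent.Helper22.SolTower Groth.Agent.Helper22.WUGen Groth.Agent.Helper22.WUSep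
  Groth.Agent.Helper22.ASGen Groth.Agent.Helper22.TotRam

/-! ### generic lemmas -/

theorem genL_of_adjoin (K L : Type*) [Field K] [Field L] [Algebra K L] (w : L)
    (hadj : Algebra.adjoin K {w} = ⊤) (h : K[X]) (hmonic : h.Monic) (hroot : aeval w h = 0) :
    ∀ x : L, ∃ q : K[X], q.natDegree < h.natDegree ∧ x = aeval w q := by
  intro x
  have hx : x ∈ Algebra.adjoin K {w} := by rw [hadj]; exact Algebra.mem_top
  rw [Algebra.adjoin_singleton_eq_range_aeval] at hx
  obtain ⟨q₀, hq₀⟩ := (AlgHom.mem_range _).mp hx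
  have hne1 : h ≠ 1 := by
    intro h1
    rw [h1, map_one] at hroot
    exact one_ne_zero hroot
  exact ⟨q₀ %ₘ h, natDegree_modByMonic_lt q₀ hmonic hne1,
    by rw [aeval_modByMonic_eq_self_of_root hroot, ← hq₀]⟩

theorem monic_eval_inv {A L : Type*} [CommRing A] [Field L] [Algebra A L] (V : ValuationSubring L)
    (hAV : ∀ a : A, algebraMap A L a ∈ V) (P : A[X]) (hmonic : P.Monic) (z : L) (hz0 : z ≠ 0)
    (htV : z⁻¹ ∈ V) : ∃ v ∈ V, aeval z P * z⁻¹ ^ P.natDegree = 1 + z⁻¹ * v := by
  obtain ⟨d, hd⟩ : ∃ d, d = P.natDegree := ⟨_, rfl⟩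
  rw [← hd]
  rw [aeval_eq_sum_range' (show P.natDegree < d + 1 by omega) z, Finset.sum_range_succ, add_mul,
    Finset.sum_mul]
  have hlast : P.coeff d • z ^ d * z⁻¹ ^ d = 1 := by
    have h1 : P.coeff d = 1 := by rw [hd]; exact hmonic.coeff_natDegree
    rw [h1, one_smul, ← mul_pow, mul_inv_cancel₀ hz0, one_pow]
  rw [hlast, add_comm]
  refine ⟨∑ i ∈ Finset.range d, algebraMap A L (P.coeff i) * z⁻¹ ^ (d - 1 - i), ?_, ?_⟩
  · exact sum_mem (fun i _ => mul_mem (hAV _) (pow_mem htV _))
  · congr 1
    rw [Finset.mul_sum]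
    apply Finset.sum_congr rfl
    intro i hi
    have hi' : i < d := Finset.mem_range.mp hi
    rw [Algebra.smul_def]
    have e : z ^ i * z⁻¹ ^ d = z⁻¹ * z⁻¹ ^ (d - 1 - i) := by
      have hd' : d = i + (1 + (d - 1 - i)) := by omega
      conv_lhs => rw [hd', pow_add, ← mul_assoc, ← mul_pow, mul_inv_cancel₀ hz0, one_pow, one_mul,
        pow_add, pow_one]
    calc algebraMap A L (P.coeff i) * z ^ i * z⁻¹ ^ d
        = algebraMap A L (P.coeff i) * (z ^ i * z⁻¹ ^ d) := by ring
      _ = _ := by rw [e]; ring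

theorem eis_star {A V : Type*} [CommRing A] [IsLocalRing A] [CommRing V] [IsDomain V]
    [IsLocalRing V] [Algebra A V] (π : A) (hπ : maximalIdeal A = Ideal.span {π}) (ϖ : V)
    (hϖ0 : ϖ ≠ 0) (hϖm : ϖ ∈ maximalIdeal V) (p : ℕ) (u' : V)
    (hπϖ : algebraMap A V π = ϖ ^ p * u') :
    ∀ m ≤ p, ∀ q : A[X], (∀ i, m ≤ i → q.coeff i = 0) → (∃ v : V, aeval ϖ q = ϖ ^ m * v) →
      ∀ i, q.coeff i ∈ maximalIdeal A := by
  intro m
  induction m with
  | zero =>
    intro _ q hq _ i
    rw [hq i (Nat.zero_le i)]; exact zero_mem _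
  | succ m ih =>
    intro hm q hq ⟨v, hv⟩
    obtain ⟨c₀, hc₀⟩ : ∃ c₀, c₀ = q.coeff 0 := ⟨_, rfl⟩
    have hdecomp : aeval ϖ q = aeval ϖ q.divX * ϖ + algebraMap A V c₀ := by
      conv_lhs => rw [← divX_mul_X_add q]
      rw [map_add, map_mul, aeval_X, aeval_C, hc₀]
    have hc₀V : algebraMap A V c₀ = ϖ * (ϖ ^ m * v - aeval ϖ q.divX) := by
      have h1 : algebraMap A V c₀ = aeval ϖ q - aeval ϖ q.divX * ϖ := by rw [hdecomp]; ring
      rw [h1, hv]; ring
    have hc₀m : c₀ ∈ maximalIdeal A := by
      by_contra hnm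
      have hu : IsUnit c₀ := by
        by_contra hnu; exact hnm ((mem_maximalIdeal _).mpr hnu)
      have h1 : IsUnit (algebraMap A V c₀) := hu.map _
      rw [hc₀V] at h1
      have h2 : IsUnit ϖ := isUnit_of_mul_isUnit_left h1
      exact (mem_maximalIdeal _).mp hϖm h2
    have hc₀' := hc₀m
    rw [hπ, Ideal.mem_span_singleton'] at hc₀'
    obtain ⟨c₀', hc₀'eq⟩ := hc₀'
    obtain ⟨d, hd⟩ : ∃ d, p = m + 1 + d := ⟨p - (m + 1), by omega⟩
    have hIH : aeval ϖ q.divX = ϖ ^ m * (v - ϖ ^ d * u' * algebraMap A V c₀') := by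
      have h1 : ϖ * aeval ϖ q.divX = ϖ * (ϖ ^ m * (v - ϖ ^ d * u' * algebraMap A V c₀')) := by
        have h2 : algebraMap A V c₀ = ϖ ^ (m + 1 + d) * u' * algebraMap A V c₀' := by
          rw [← hc₀'eq, map_mul, hπϖ, hd]; ring
        have h3 : aeval ϖ q.divX * ϖ = ϖ ^ (m + 1) * v - algebraMap A V c₀ := by
          rw [← hv, hdecomp]; ring
        rw [mul_comm ϖ (aeval ϖ q.divX), h3, h2]; ring
      exact mul_left_cancel₀ hϖ0 h1
    have hcoef : ∀ i, m ≤ i → q.divX.coeff i = 0 := by
      intro i hi; rw [coeff_divX]; exact hq (i + 1) (by omega)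
    have hall := ih (by omega) q.divX hcoef ⟨_, hIH⟩
    intro i
    cases i with
    | zero => rw [← hc₀]; exact hc₀m
    | succ j => rw [← coeff_divX]; exact hall j

section Ctx
variable (A K L : Type u) [CommRing A] [IsDomain A] [IsDiscreteValuationRing A] [Field K]
  [Algebra A K] [IsFractionRing A K] [Field L] [Algebra K L] [Algebra A L] [IsScalarTower A K L]

include K in
theorem dvr_of_dominates [FiniteDimensional K L] (V : ValuationSubring L)
    (h : EtRam.Dominates A (algebraMap A L) V) : IsDiscreteValuationRing V := by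
  have h' : EtRam.Dominates A ((algebraMap K L).comp (algebraMap A K)) V := by
    rw [← IsScalarTower.algebraMap_eq A K L]; exact h
  exact isDVR_of_dominates A K L V h'

/-! ### the purely inseparable residue case -/

theorem insep_core (p : ℕ) (hp : p.Prime) [CharP (ResidueField A) p]
    (π : A) (hπ : maximalIdeal A = Ideal.span {π}) (a : A)
    (ha : ∀ r : A, residue A a ≠ residue A r ^ p)
    (w : L) (h : A[X]) (hmonic : h.Monic) (hroot : aeval w h = 0)
    (hred : h.map (residue A) = X ^ p - C (residue A a))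
    (hadj : Algebra.adjoin K {w} = ⊤)
    (V : ValuationSubring L) [Algebra A V] [IsScalarTower A V L] [IsLocalHom (algebraMap A V)] :
    EtRam.IsWeaklyUnramified A V ∧
      IsPurelyInseparable (ResidueField A) (ResidueField V) ∧
      Module.finrank (ResidueField A) (ResidueField V) = p ∧
      ∀ V' : ValuationSubring L, EtRam.Dominates A (algebraMap A L) V' → V = V' := by
  have hAV : ∀ a : A, algebraMap A L a ∈ V := fun a => by
    rw [IsScalarTower.algebraMap_apply A V L]; exact (algebraMap A V a).2
  have hπm : π ∈ maximalIdeal A := by rw [hπ]; exact Ideal.subset_span rfl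
  have hdeg : h.natDegree = p := by
    have h1 : (h.map (residue A)).natDegree = h.natDegree := hmonic.natDegree_map (residue A)
    rw [← h1, hred, natDegree_X_pow_sub_C]
  have hwint : IsIntegral A w := ⟨h, hmonic, by rw [← aeval_def]; exact hroot⟩
  have hwV : w ∈ V := by
    have h1 : IsIntegral V w := hwint.tower_top
    obtain ⟨y', hy'⟩ := IsIntegrallyClosed.isIntegral_iff.mp h1
    rw [← hy']; exact y'.2
  obtain ⟨wV, hwV'⟩ : ∃ wV : V, (wV : L) = w := ⟨⟨w, hwV⟩, rfl⟩
  have hrootV : aeval wV h = 0 := by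
    apply Subtype.ext
    rw [coe_aeval, hwV', hroot]; rfl
  obtain ⟨wbar, hwbar⟩ : ∃ wbar, wbar = residue V wV := ⟨_, rfl⟩
  have hres : ∀ q : A[X], aeval wbar (q.map (residue A)) = residue V (aeval wV q) := by
    intro q; rw [hwbar]; exact residue_aeval wV q
  have hwbar_root : aeval wbar (X ^ p - C (residue A a) : (ResidueField A)[X]) = 0 := by
    rw [← hred, hres, hrootV, map_zero]
  have hirr : Irreducible (X ^ p - C (residue A a) : (ResidueField A)[X]) := by
    apply X_pow_sub_C_irreducible_of_prime hp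
    intro b hb
    obtain ⟨r, rfl⟩ := residue_surjective b
    exact ha r hb.symm
  have hmp : (X ^ p - C (residue A a) : (ResidueField A)[X]) = minpoly (ResidueField A) wbar :=
    minpoly.eq_of_irreducible_of_monic hirr hwbar_root (monic_X_pow_sub_C _ hp.ne_zero)
  have hindep : ∀ Q : (ResidueField A)[X], Q.natDegree < p → aeval wbar Q = 0 → Q = 0 := by
    intro Q hQdeg hQ
    by_contra hQ0
    have h1 : minpoly (ResidueField A) wbar ∣ Q := minpoly.dvd _ _ hQ
    have h2 := natDegree_le_of_dvd h1 hQ0
    rw [← hmp, natDegree_X_pow_sub_C] at h2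
    omega
  have hss : ∀ q : A[X], q.natDegree < p → aeval wV q ∈ maximalIdeal V →
      ∀ i, q.coeff i ∈ maximalIdeal A := by
    intro q hqdeg hq
    apply coeff_mem_of_map_eq_zero
    apply hindep
    · exact lt_of_le_of_lt natDegree_map_le hqdeg
    · rw [hres]; exact (residue_eq_zero_iff _).mpr hq
  have hstar : ∀ q : A[X], q.natDegree < p →
      (∃ v ∈ V, aeval w q = algebraMap A L π * v) → ∀ i, q.coeff i ∈ maximalIdeal A := by
    intro q hqdeg ⟨v, hv, hqv⟩
    apply hss q hqdeg
    have h1 : aeval wV q = algebraMap A V π * ⟨v, hv⟩ := by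
      apply Subtype.ext
      rw [coe_aeval, hwV', hqv, IsScalarTower.algebraMap_apply A V L π]; rfl
    rw [h1]
    exact Ideal.mul_mem_right _ _ (map_nonunit (algebraMap A V) π hπm)
  have hgenL : ∀ x : L, ∃ q : K[X], q.natDegree < p ∧ x = aeval w q := by
    have h1 := genL_of_adjoin K L w hadj (h.map (algebraMap A K)) (hmonic.map _)
      (by rw [aeval_map_algebraMap, hroot])
    rw [hmonic.natDegree_map (algebraMap A K), hdeg] at h1
    exact h1
  have hspan := span_of_star A K L π hπ V hAV w p hgenL hstar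
  have hmV : ∀ x : V, x ∈ maximalIdeal V → ∃ x' : V, x = algebraMap A V π * x' := by
    intro x hx
    obtain ⟨q, hqdeg, hxq⟩ := hspan (x : L) x.2
    have h1 : x = aeval wV q := by apply Subtype.ext; rw [coe_aeval, hwV']; exact hxq
    have h2 := hss q hqdeg (by rw [← h1]; exact hx)
    obtain ⟨q', hq'⟩ := exists_C_mul_of_coeff_mem π hπ q h2
    exact ⟨aeval wV q', by rw [h1, hq', map_mul, aeval_C]⟩
  have hwu : EtRam.IsWeaklyUnramified A V := by
    show (maximalIdeal A).map (algebraMap A V) = maximalIdeal V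
    apply le_antisymm
    · rw [Ideal.map_le_iff_le_comap]
      intro c hc
      exact map_nonunit (algebraMap A V) c hc
    · intro x hx
      obtain ⟨x', rfl⟩ := hmV x hx
      exact Ideal.mul_mem_right _ _ (Ideal.mem_map_of_mem _ hπm)
  have hgenres : ∀ xbar : ResidueField V, ∃ Q : (ResidueField A)[X], xbar = aeval wbar Q := by
    intro xbar
    obtain ⟨x, rfl⟩ := residue_surjective xbar
    obtain ⟨q, -, hxq⟩ := hspan (x : L) x.2
    have h1 : x = aeval wV q := by apply Subtype.ext; rw [coe_aeval, hwV']; exact hxq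
    exact ⟨q.map (residue A), by rw [hres, ← h1]⟩
  have hwp : wbar ^ p = algebraMap (ResidueField A) (ResidueField V) (residue A a) := by
    have h1 := hwbar_root
    rw [map_sub, map_pow, aeval_X, aeval_C, sub_eq_zero] at h1
    exact h1
  haveI : ExpChar (ResidueField A) p := ExpChar.prime hp
  haveI : CharP (ResidueField V) p :=
    charP_of_injective_algebraMap (algebraMap (ResidueField A) (ResidueField V)).injective p
  haveI : Fact p.Prime := ⟨hp⟩
  have hpi : IsPurelyInseparable (ResidueField A) (ResidueField V) := by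
    rw [isPurelyInseparable_iff_pow_mem (ResidueField A) p]
    intro xbar
    refine ⟨1, ?_⟩
    rw [pow_one]
    obtain ⟨Q, rfl⟩ := hgenres xbar
    have key : ∀ Q : (ResidueField A)[X],
        aeval wbar Q ^ p ∈ (algebraMap (ResidueField A) (ResidueField V)).range := by
      intro Q
      exact Polynomial.induction_on' Q
        (fun P Q hP hQ => by
          rw [map_add, add_pow_char]
          exact add_mem hP hQ)
        (fun n c => by
          rw [aeval_monomial, mul_pow, ← pow_mul, mul_comm n p, pow_mul, hwp, ← map_pow, ← map_pow,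
            ← map_mul]
          exact ⟨_, rfl⟩)
    exact key Q
  have hfr : Module.finrank (ResidueField A) (ResidueField V) = p := by
    have hint : IsIntegral (ResidueField A) wbar :=
      ⟨_, monic_X_pow_sub_C _ hp.ne_zero, by rw [← aeval_def]; exact hwbar_root⟩
    have htop : IntermediateField.adjoin (ResidueField A) {wbar} = ⊤ := by
      rw [eq_top_iff]
      intro xbar _
      obtain ⟨Q, rfl⟩ := hgenres xbar
      exact IntermediateField.algebra_adjoin_le_adjoin _ _ (aeval_mem_adjoin_singleton _ wbar)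
    rw [← IntermediateField.finrank_top', ← htop, IntermediateField.adjoin.finrank hint, ← hmp,
      natDegree_X_pow_sub_C]
  have hpow : ∀ x ∈ V, x⁻¹ ∉ V → ∃ v ∈ V, x ^ 1 = algebraMap A L π * v := by
    intro x hx hxinv
    have hxm : (⟨x, hx⟩ : V) ∈ maximalIdeal V := by
      rw [mem_max_iff]; right; exact hxinv
    obtain ⟨x', hx'⟩ := hmV _ hxm
    refine ⟨x', x'.2, ?_⟩
    rw [pow_one]
    have h1 := congrArg Subtype.val hx'
    rw [IsScalarTower.algebraMap_apply A V L π]
    exact h1
  exact ⟨hwu, hpi, hfr, fun V' hV' => unique_of_span A L π hπ V w hwV p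
    (fun x hx => hspan x hx) 1 hpow V' hV'⟩

theorem case4_of_insep (p : ℕ) (hp : p.Prime) [CharP (ResidueField A) p]
    (π : A) (hπ : maximalIdeal A = Ideal.span {π}) (a : A)
    (ha : ∀ r : A, residue A a ≠ residue A r ^ p)
    (w : L) (h : A[X]) (hmonic : h.Monic) (hroot : aeval w h = 0)
    (hred : h.map (residue A) = X ^ p - C (residue A a))
    (hadj : Algebra.adjoin K {w} = ⊤) :
    (∃ V : ValuationSubring L, EtRam.Dominates A (algebraMap A L) V) ∧
    (∀ V V' : ValuationSubring L, EtRam.Dominates A (algebraMap A L) V →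
      EtRam.Dominates A (algebraMap A L) V' → V = V') ∧
    ∀ (V : ValuationSubring L) (hV : EtRam.Dominates A (algebraMap A L) V),
      letI : Algebra A V := (RingHom.codRestrict (algebraMap A L) V hV.1).toAlgebra
      ∀ [IsLocalHom (algebraMap A V)],
        EtRam.IsWeaklyUnramified A V ∧
          IsPurelyInseparable (ResidueField A) (ResidueField V) ∧
          Module.finrank (ResidueField A) (ResidueField V) = p := by
  refine ⟨exists_dominating (algebraMap A L), ?_, ?_⟩
  · intro V V' hV hV'
    letI algAV : Algebra A V := (RingHom.codRestrict (algebraMap A L) V hV.1).toAlgebra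
    haveI : IsScalarTower A V L := IsScalarTower.of_algebraMap_eq (fun _ => rfl)
    haveI : IsLocalHom (algebraMap A V) := isLocalHom_of_dominates _ _ hV
    exact (insep_core A K L p hp π hπ a ha w h hmonic hroot hred hadj V).2.2.2 V' hV'
  · intro V hV
    intro instLoc
    letI algAV : Algebra A V := (RingHom.codRestrict (algebraMap A L) V hV.1).toAlgebra
    haveI : IsScalarTower A V L := IsScalarTower.of_algebraMap_eq (fun _ => rfl)
    haveI := instLoc
    obtain ⟨h1, h2, h3, -⟩ := insep_core A K L p hp π hπ a ha w h hmonic hroot hred hadj V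
    exact ⟨h1, h2, h3⟩

end Ctx

end Groth.Agent.Helper22.ASCases
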