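import Mathlib
import Groth.Prelude.Def_EtRam
import Groth.Agent.Lib.Helper22.ASCases

/-!
# Ramification cases, continued: the totally ramified and the unramified case (helper library)
-/

set_option autoImplicit false
universe u

open IsLocalRing Polynomial

namespace Groth.Agent.Helper22.ASCases

open Groth.Agent.Helper22.SolTower Groth.Agent.Helper22.WUGen Groth.Agent.Helper22.WUSep
  Groth.Agent.Helper22.ASGen Groth.Agent.Helper22.TotRam

section Ctx
variable (A K L : Type u) [CommRing A] [IsDomain A] [IsDiscreteValuationRing A] [Field K]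
  [Algebra A K] [IsFractionRing A K] [Field L] [Algebra K L] [Algebra A L] [IsScalarTower A K L]

/-! ### the totally ramified case -/

theorem totRam_core (p : ℕ) (hp : p.Prime) [FiniteDimensional K L]
    (hfr : Module.finrank K L ≤ p)
    (π : A) (hπ : maximalIdeal A = Ideal.span {π}) (P : A[X]) (hmonic : P.Monic)
    (hdeg : P.natDegree = p) (z : L) (n : ℕ) (hn : 0 < n) (hpn : ¬ p ∣ n) (a : Aˣ)
    (hz : aeval z P * algebraMap A L π ^ n = algebraMap A L a)
    (V : ValuationSubring L) [Algebra A V] [IsScalarTower A V L] [IsLocalHom (algebraMap A V)]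
    [IsDiscreteValuationRing V] :
    Module.finrank K L = p ∧
      Function.Surjective (fun c : A => residue V (algebraMap A V c)) ∧
      ∀ V' : ValuationSubring L, EtRam.Dominates A (algebraMap A L) V' → V = V' := by
  have hAV : ∀ a : A, algebraMap A L a ∈ V := fun a => by
    rw [IsScalarTower.algebraMap_apply A V L]; exact (algebraMap A V a).2
  have hginj : Function.Injective (algebraMap A L) := injective_algebraMap A K L
  have hinjAV : Function.Injective (algebraMap A V) := by
    intro x y hxy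
    apply hginj
    rw [IsScalarTower.algebraMap_apply A V L, IsScalarTower.algebraMap_apply A V L, hxy]
  have hπm : π ∈ maximalIdeal A := by rw [hπ]; exact Ideal.subset_span rfl
  have hπirr : Irreducible π := (IsDiscreteValuationRing.irreducible_iff_uniformizer π).mpr hπ
  have hθπm : algebraMap A V π ∈ maximalIdeal V := map_nonunit _ _ hπm
  have hθπ0 : algebraMap A V π ≠ 0 := fun h0 => hπirr.ne_zero (hinjAV (by rw [h0, map_zero]))
  have e1 : ((algebraMap A V π : V) : L) = algebraMap A L π :=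
    (IsScalarTower.algebraMap_apply A V L π).symm
  have e2 : ((algebraMap A V (a : A) : V) : L) = algebraMap A L a :=
    (IsScalarTower.algebraMap_apply A V L a).symm
  have hzV : z ∉ V := by
    intro hz'
    have h1 : aeval (⟨z, hz'⟩ : V) P * algebraMap A V π ^ n = algebraMap A V a := by
      apply Subtype.ext
      show ((aeval (⟨z, hz'⟩ : V) P : V) : L) * ((algebraMap A V π : V) : L) ^ n =
        ((algebraMap A V (a : A) : V) : L)
      rw [coe_aeval, e1, e2]; exact hz
    have hu : IsUnit (algebraMap A V (a : A)) := a.isUnit.map _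
    have h2 : IsUnit (algebraMap A V π ^ n) := by
      rw [← h1] at hu; exact isUnit_of_mul_isUnit_right hu
    have h3 : IsUnit (algebraMap A V π) := (isUnit_pow_iff hn.ne').mp h2
    exact (mem_maximalIdeal _).mp hθπm h3
  have hz0 : z ≠ 0 := fun h0 => hzV (h0 ▸ zero_mem V)
  have htV : z⁻¹ ∈ V := (V.mem_or_inv_mem z).resolve_left hzV
  obtain ⟨t, ht⟩ : ∃ t : V, (t : L) = z⁻¹ := ⟨⟨z⁻¹, htV⟩, rfl⟩
  have htm : t ∈ maximalIdeal V := by
    rw [mem_max_iff]; right; rw [ht, inv_inv]; exact hzV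
  have ht0 : t ≠ 0 := by
    intro h0
    apply inv_ne_zero hz0
    rw [← ht, h0]; rfl
  obtain ⟨v, hv, hPv⟩ := monic_eval_inv V hAV P hmonic z hz0 htV
  rw [hdeg] at hPv
  obtain ⟨u₀, hu₀⟩ : ∃ u₀ : V, u₀ = 1 + t * ⟨v, hv⟩ := ⟨_, rfl⟩
  have hu₀unit : IsUnit u₀ := by
    by_contra hnu
    have h1 : u₀ ∈ maximalIdeal V := (mem_maximalIdeal _).mpr hnu
    have h2 : t * ⟨v, hv⟩ ∈ maximalIdeal V := Ideal.mul_mem_right _ _ htm
    have h3 : (1 : V) ∈ maximalIdeal V := by
      have h4 := Ideal.sub_mem _ h1 h2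
      rwa [hu₀, add_sub_cancel_right] at h4
    exact (Ideal.ne_top_iff_one _).mp (maximalIdeal.isMaximal V).ne_top h3
  have hu₀L : (u₀ : L) = 1 + z⁻¹ * v := by rw [hu₀, ← ht]; rfl
  have hkey : algebraMap A V π ^ n * u₀ = algebraMap A V (a : A) * t ^ p := by
    apply Subtype.ext
    show ((algebraMap A V π : V) : L) ^ n * (u₀ : L) =
      ((algebraMap A V (a : A) : V) : L) * (t : L) ^ p
    rw [e1, e2, hu₀L, ht, ← hPv, ← hz]; ring
  obtain ⟨ϖ, hϖ⟩ := IsDiscreteValuationRing.exists_irreducible V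
  obtain ⟨e, u, hrel⟩ := IsDiscreteValuationRing.associated_pow_irreducible hθπ0 hϖ
  obtain ⟨k, u₁, hrel₁⟩ := IsDiscreteValuationRing.associated_pow_irreducible ht0 hϖ
  obtain ⟨uu, huu⟩ := hu₀unit
  obtain ⟨ua, hua⟩ : IsUnit (algebraMap A V (a : A)) := a.isUnit.map _
  have hθπ : algebraMap A V π = ((u⁻¹ : Vˣ) : V) * ϖ ^ e := by
    rw [← hrel, mul_left_comm, Units.inv_mul, mul_one]
  have htk : t = ((u₁⁻¹ : Vˣ) : V) * ϖ ^ k := by
    rw [← hrel₁, mul_left_comm, Units.inv_mul, mul_one]
  have hen : e * n = k * p := by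
    have h1 : ((u⁻¹ ^ n * uu : Vˣ) : V) * ϖ ^ (e * n) =
        ((ua * u₁⁻¹ ^ p : Vˣ) : V) * ϖ ^ (k * p) := by
      rw [Units.val_mul, Units.val_mul, Units.val_pow_eq_pow_val, Units.val_pow_eq_pow_val, huu,
        hua, pow_mul, pow_mul]
      calc ((u⁻¹ : Vˣ) : V) ^ n * u₀ * (ϖ ^ e) ^ n
          = (((u⁻¹ : Vˣ) : V) * ϖ ^ e) ^ n * u₀ := by ring
        _ = algebraMap A V (a : A) * (((u₁⁻¹ : Vˣ) : V) * ϖ ^ k) ^ p := by
            rw [← hθπ, ← htk, hkey]
        _ = _ := by ring
    exact IsDiscreteValuationRing.unit_mul_pow_congr_pow hϖ hϖ _ _ _ _ h1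
  have hpe : p ∣ e := by
    have h1 : p ∣ e * n := ⟨k, by rw [hen, mul_comm]⟩
    exact Nat.Coprime.dvd_of_dvd_mul_right ((Nat.Prime.coprime_iff_not_dvd hp).mpr hpn) h1
  have he0 : e ≠ 0 := by
    intro h0
    rw [h0, pow_zero] at hrel
    exact (mem_maximalIdeal _).mp hθπm (IsUnit.of_mul_eq_one _ hrel)
  obtain ⟨hfin, hle⟩ := Groth.Agent.S7132.result A V K L hinjAV
  have hram : Ideal.ramificationIdx' (maximalIdeal A) (maximalIdeal V) = e :=
    Groth.Agent.Helper22.Abh.ramIdx_eq π hπirr ϖ hϖ e u hrel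
  rw [hram] at hle
  haveI := hfin
  obtain ⟨f, hf⟩ : ∃ f, f = Module.finrank (ResidueField A) (ResidueField V) := ⟨_, rfl⟩
  rw [← hf] at hle
  have hf1 : 1 ≤ f := by rw [hf]; exact Module.finrank_pos
  have hpe' : p ≤ e := Nat.le_of_dvd (Nat.pos_of_ne_zero he0) hpe
  have h1 : e ≤ e * f := Nat.le_mul_of_pos_right e hf1
  have hep : e = p := le_antisymm (le_trans h1 (le_trans hle hfr)) hpe'
  have hKL : Module.finrank K L = p :=
    le_antisymm hfr (by rw [← hep]; exact le_trans h1 hle)
  have hfone : f = 1 := by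
    have h2 : e * f ≤ e * 1 := by rw [mul_one]; exact le_trans (le_trans hle hfr) hpe'
    have h3 := Nat.le_of_mul_le_mul_left h2 (Nat.pos_of_ne_zero he0)
    omega
  have hsurj : Function.Surjective (fun c : A => residue V (algebraMap A V c)) := by
    intro xbar
    have h2 : Module.finrank (ResidueField A) (ResidueField V) = 1 := by rw [← hf, hfone]
    obtain ⟨c, hc⟩ :=
      (finrank_eq_one_iff_of_nonzero' (1 : ResidueField V) one_ne_zero).mp h2 xbar
    obtain ⟨c', rfl⟩ := residue_surjective c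
    refine ⟨c', ?_⟩
    rw [← hc, Algebra.smul_def, mul_one]; rfl
  -- uniqueness
  have hrelp : algebraMap A V π * (u : V) = ϖ ^ p := by rw [← hep]; exact hrel
  have hθ : ∀ b : A, ((algebraMap A V b : V) : L) = algebraMap K L (algebraMap A K b) := fun b =>
    (IsScalarTower.algebraMap_apply A V L b).symm.trans (IsScalarTower.algebraMap_apply A K L b)
  have hli : LinearIndependent K (fun i : Fin p => ((ϖ : V) : L) ^ (i : ℕ)) :=
    linIndep_pow A K L V (algebraMap A V) hθ ϖ hϖ.ne_zero hϖ.not_isUnit π hπirr p (u : V)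
      u.isUnit hrelp
  have hspanK : Submodule.span K (Set.range (fun i : Fin p => ((ϖ : V) : L) ^ (i : ℕ))) = ⊤ :=
    hli.span_eq_top_of_card_eq_finrank' (by rw [Fintype.card_fin, hKL])
  have hgenL : ∀ x : L, ∃ q : K[X], q.natDegree < p ∧ x = aeval ((ϖ : V) : L) q := by
    intro x
    have hx : x ∈ Submodule.span K (Set.range (fun i : Fin p => ((ϖ : V) : L) ^ (i : ℕ))) := by
      rw [hspanK]; exact Submodule.mem_top
    obtain ⟨c, hc⟩ := (Submodule.mem_span_range_iff_exists_fun K).mp hx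
    refine ⟨∑ i : Fin p, C (c i) * X ^ (i : ℕ), ?_, ?_⟩
    · have h2 : (∑ i : Fin p, C (c i) * X ^ (i : ℕ)).natDegree ≤ p - 1 :=
        natDegree_sum_le_of_forall_le _ _ (fun i _ =>
          le_trans (natDegree_C_mul_X_pow_le _ _) (by have := i.2; omega))
      have h3 := hp.pos
      omega
    · rw [← hc, map_sum]
      apply Finset.sum_congr rfl
      intro i _
      rw [map_mul, aeval_C, map_pow, aeval_X, Algebra.smul_def]
  have hϖm : ϖ ∈ maximalIdeal V := (mem_maximalIdeal _).mpr hϖ.not_isUnit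
  have hπϖ : algebraMap A V π = ϖ ^ p * ((u⁻¹ : Vˣ) : V) := by
    rw [← hrelp, mul_assoc, Units.mul_inv, mul_one]
  have hstar : ∀ q : A[X], q.natDegree < p →
      (∃ v ∈ V, aeval ((ϖ : V) : L) q = algebraMap A L π * v) →
      ∀ i, q.coeff i ∈ maximalIdeal A := by
    intro q hqdeg ⟨v', hv', hqv⟩
    refine eis_star π hπ ϖ hϖ.ne_zero hϖm p ((u⁻¹ : Vˣ) : V) hπϖ p le_rfl q ?_ ?_
    · intro i hi; exact coeff_eq_zero_of_natDegree_lt (lt_of_lt_of_le hqdeg hi)
    · refine ⟨((u⁻¹ : Vˣ) : V) * ⟨v', hv'⟩, ?_⟩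
      have h2 : aeval ϖ q = algebraMap A V π * ⟨v', hv'⟩ := by
        apply Subtype.ext
        rw [coe_aeval, hqv, ← e1]; rfl
      rw [h2, hπϖ]; ring
  have hspan := span_of_star A K L π hπ V hAV ((ϖ : V) : L) p hgenL hstar
  have hpow : ∀ x ∈ V, x⁻¹ ∉ V → ∃ v ∈ V, x ^ p = algebraMap A L π * v := by
    intro x hx hxinv
    have hxm : (⟨x, hx⟩ : V) ∈ maximalIdeal V := by
      rw [mem_max_iff]; right; exact hxinv
    rw [hϖ.maximalIdeal_eq, Ideal.mem_span_singleton'] at hxm
    obtain ⟨x', hx'⟩ := hxm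
    refine ⟨(((u : V) * x' ^ p : V) : L), ((u : V) * x' ^ p : V).2, ?_⟩
    have h2 : (⟨x, hx⟩ : V) ^ p = algebraMap A V π * ((u : V) * x' ^ p) := by
      rw [← hx', mul_pow, ← mul_assoc, hrelp]; ring
    have h3 := congrArg Subtype.val h2
    rw [← e1]
    exact h3
  exact ⟨hKL, hsurj, fun V' hV' => unique_of_span A L π hπ V ((ϖ : V) : L) ϖ.2 p
    (fun x hx => hspan x hx) p hpow V' hV'⟩

theorem totRam_of_pole (p : ℕ) (hp : p.Prime) [FiniteDimensional K L]
    (hfr : Module.finrank K L ≤ p)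
    (π : A) (hπ : maximalIdeal A = Ideal.span {π}) (P : A[X]) (hmonic : P.Monic)
    (hdeg : P.natDegree = p) (z : L) (n : ℕ) (hn : 0 < n) (hpn : ¬ p ∣ n) (a : Aˣ)
    (hz : aeval z P * algebraMap A L π ^ n = algebraMap A L a) :
    EtRam.IsTotallyRamified A (algebraMap A L) ∧ Module.finrank K L = p := by
  obtain ⟨V₀, hV₀⟩ := exists_dominating (algebraMap A L)
  have core : ∀ (V : ValuationSubring L) (hV : EtRam.Dominates A (algebraMap A L) V),
      Module.finrank K L = p ∧
      Function.Surjective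
        (fun c : A => residue V (RingHom.codRestrict (algebraMap A L) V hV.1 c)) ∧
      ∀ V' : ValuationSubring L, EtRam.Dominates A (algebraMap A L) V' → V = V' := by
    intro V hV
    letI algAV : Algebra A V := (RingHom.codRestrict (algebraMap A L) V hV.1).toAlgebra
    haveI : IsScalarTower A V L := IsScalarTower.of_algebraMap_eq (fun _ => rfl)
    haveI : IsLocalHom (algebraMap A V) := isLocalHom_of_dominates _ _ hV
    haveI : IsDiscreteValuationRing V := dvr_of_dominates A K L V hV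
    exact totRam_core A K L p hp hfr π hπ P hmonic hdeg z n hn hpn a hz V
  exact ⟨⟨⟨V₀, hV₀⟩, fun V V' hV hV' => (core V hV).2.2 V' hV', fun V hV => (core V hV).2.1⟩,
    (core V₀ hV₀).1⟩

/-! ### the unramified case -/

theorem unram_core [FiniteDimensional K L]
    (π : A) (hπ : maximalIdeal A = Ideal.span {π}) (f : A[X]) (hmonic : f.Monic) (z : L)
    (hroot : aeval z f = 0) (hsepf : (f.map (residue A)).Separable)
    (hadj : Algebra.adjoin K {z} = ⊤)
    (V : ValuationSubring L) [Algebra A V] [IsScalarTower A V L] [IsLocalHom (algebraMap A V)]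
    [IsDiscreteValuationRing V] :
    EtRam.IsWeaklyUnramified A V ∧
      Algebra.IsSeparable (ResidueField A) (ResidueField V) := by
  have hginj : Function.Injective (algebraMap A L) := injective_algebraMap A K L
  have hinjAV : Function.Injective (algebraMap A V) := by
    intro x y hxy
    apply hginj
    rw [IsScalarTower.algebraMap_apply A V L, IsScalarTower.algebraMap_apply A V L, hxy]
  have hπm : π ∈ maximalIdeal A := by rw [hπ]; exact Ideal.subset_span rfl
  have hπirr : Irreducible π := (IsDiscreteValuationRing.irreducible_iff_uniformizer π).mpr hπ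
  have hθπm : algebraMap A V π ∈ maximalIdeal V := map_nonunit _ _ hπm
  have hθπ0 : algebraMap A V π ≠ 0 := fun h0 => hπirr.ne_zero (hinjAV (by rw [h0, map_zero]))
  have hzint : IsIntegral A z := ⟨f, hmonic, by rw [← aeval_def]; exact hroot⟩
  have hzV : z ∈ V := by
    have h1 : IsIntegral V z := hzint.tower_top
    obtain ⟨y', hy'⟩ := IsIntegrallyClosed.isIntegral_iff.mp h1
    rw [← hy']; exact y'.2
  obtain ⟨zV, hzV'⟩ : ∃ zV : V, (zV : L) = z := ⟨⟨z, hzV⟩, rfl⟩
  have hrootV : aeval zV f = 0 := by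
    apply Subtype.ext
    rw [coe_aeval, hzV', hroot]; rfl
  obtain ⟨zbar, hzbar⟩ : ∃ zbar, zbar = residue V zV := ⟨_, rfl⟩
  have hres : ∀ q : A[X], aeval zbar (q.map (residue A)) = residue V (aeval zV q) := by
    intro q; rw [hzbar]; exact residue_aeval zV q
  obtain ⟨fbar, hfbar⟩ : ∃ fbar, fbar = f.map (residue A) := ⟨_, rfl⟩
  have hfbar_root : aeval zbar fbar = 0 := by rw [hfbar, hres, hrootV, map_zero]
  have hfbar_monic : fbar.Monic := by rw [hfbar]; exact hmonic.map _
  have hfbar_sep : fbar.Separable := by rw [hfbar]; exact hsepf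
  have hzbar_int : IsIntegral (ResidueField A) zbar :=
    ⟨fbar, hfbar_monic, by rw [← aeval_def]; exact hfbar_root⟩
  obtain ⟨hbar, hhbar⟩ : ∃ hbar, hbar = minpoly (ResidueField A) zbar := ⟨_, rfl⟩
  have hdvd : hbar ∣ fbar := by rw [hhbar]; exact minpoly.dvd _ _ hfbar_root
  obtain ⟨rbar, hrbar⟩ := hdvd
  have hhirr : Irreducible hbar := by rw [hhbar]; exact minpoly.irreducible hzbar_int
  have hrbar_ne : aeval zbar rbar ≠ 0 := by
    intro h0
    have h1 : hbar ∣ rbar := by rw [hhbar]; exact minpoly.dvd _ _ h0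
    obtain ⟨s, hs⟩ := h1
    have h2 : hbar * hbar ∣ fbar := ⟨s, by rw [hrbar, hs]; ring⟩
    exact hhirr.not_isUnit (hfbar_sep.squarefree hbar h2)
  obtain ⟨θ', hθ'⟩ : ∃ θ' : A[X] →+* V, ∀ t, θ' t = aeval zV t :=
    ⟨(aeval zV : A[X] →ₐ[A] V).toRingHom, fun t => rfl⟩
  have hstep : ∀ t : A[X], θ' t ∈ maximalIdeal V →
      ∃ s c : A[X], IsUnit (θ' s) ∧ θ' t * θ' s = θ' (C π) * θ' c := by
    intro t ht
    rw [hθ'] at ht
    have htbar : aeval zbar (t.map (residue A)) = 0 := by
      rw [hres]; exact (residue_eq_zero_iff _).mpr ht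
    have h1 : hbar ∣ t.map (residue A) := by rw [hhbar]; exact minpoly.dvd _ _ htbar
    obtain ⟨qbar, hqbar⟩ := h1
    obtain ⟨r, hr⟩ := map_surjective (residue A) residue_surjective rbar
    obtain ⟨q₁, hq₁⟩ := map_surjective (residue A) residue_surjective qbar
    have hD : (t * r - f * q₁).map (residue A) = 0 := by
      rw [Polynomial.map_sub, Polynomial.map_mul, Polynomial.map_mul, hr, hq₁, ← hfbar, hqbar,
        hrbar]
      ring
    obtain ⟨c, hc⟩ := exists_C_mul_of_coeff_mem π hπ _ (coeff_mem_of_map_eq_zero _ hD)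
    refine ⟨r, c, ?_, ?_⟩
    · rw [hθ']
      by_contra hnu
      have h2 : aeval zV r ∈ maximalIdeal V := (mem_maximalIdeal _).mpr hnu
      apply hrbar_ne
      rw [← hr, hres]; exact (residue_eq_zero_iff _).mpr h2
    · rw [← map_mul, ← map_mul, ← hc, map_sub, map_mul, map_mul, hθ' f, hrootV, zero_mul, sub_zero]
  have hsepV : ∀ w : V, w ≠ 0 → ∃ n : ℕ, ¬ (θ' (C π)) ^ n ∣ w := by
    intro w hw0
    have hnu : ¬ IsUnit (θ' (C π)) := by
      rw [hθ', aeval_C]; exact (mem_maximalIdeal _).mp hθπm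
    obtain ⟨n, hn⟩ := FiniteMultiplicity.of_not_isUnit hnu hw0
    exact ⟨n + 1, hn⟩
  have hgen : ∀ x : L, ∃ a b : A[X], θ' b ≠ 0 ∧ x * ((θ' b : V) : L) = ((θ' a : V) : L) := by
    intro x
    have hx : x ∈ Algebra.adjoin K {z} := by rw [hadj]; exact Algebra.mem_top
    rw [Algebra.adjoin_singleton_eq_range_aeval] at hx
    obtain ⟨q, hq⟩ := (AlgHom.mem_range _).mp hx
    obtain ⟨b, hbM, hb⟩ := IsLocalization.integerNormalization_spec (nonZeroDivisors A) q
    obtain ⟨q₀, hq₀⟩ : ∃ q₀, q₀ = IsLocalization.integerNormalization (nonZeroDivisors A) q :=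
      ⟨_, rfl⟩
    rw [← hq₀] at hb
    have hb0 : b ≠ 0 := nonZeroDivisors.ne_zero hbM
    refine ⟨q₀, C b, ?_, ?_⟩
    · rw [hθ', aeval_C]; exact fun h0 => hb0 (hinjAV (by rw [h0, map_zero]))
    · rw [hθ', hθ', coe_aeval, coe_aeval, hzV', aeval_C, ← hq]
      calc aeval z q * algebraMap A L b
          = algebraMap K L (algebraMap A K b) * aeval z q := by
            rw [← IsScalarTower.algebraMap_apply, mul_comm]
        _ = aeval z ((algebraMap A K b) • q) := by rw [map_smul, Algebra.smul_def]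
        _ = aeval z (q₀.map (algebraMap A K)) := by rw [hb, IsScalarTower.algebraMap_smul]
        _ = aeval z q₀ := aeval_map_algebraMap K z q₀
  obtain ⟨hdiv, hInD⟩ := GT' (θ := θ') (C π) (by rw [hθ', aeval_C]; exact hθπm)
    (by rw [hθ', aeval_C]; exact hθπ0) hstep hsepV hgen
  have hwu : EtRam.IsWeaklyUnramified A V := by
    show (maximalIdeal A).map (algebraMap A V) = maximalIdeal V
    apply le_antisymm
    · rw [Ideal.map_le_iff_le_comap]
      intro c hc
      exact map_nonunit (algebraMap A V) c hc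
    · intro x hx
      obtain ⟨x', hx'⟩ := hdiv x hx
      rw [hθ', aeval_C] at hx'
      rw [hx']
      exact Ideal.mul_mem_right _ _ (Ideal.mem_map_of_mem _ hπm)
  have hzsep : IsSeparable (ResidueField A) zbar := by
    show (minpoly (ResidueField A) zbar).Separable
    exact hfbar_sep.of_dvd (minpoly.dvd _ _ hfbar_root)
  have hsepall : Algebra.IsSeparable (ResidueField A) (ResidueField V) := by
    rw [Algebra.isSeparable_def]
    intro xbar
    obtain ⟨x, rfl⟩ := residue_surjective xbar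
    obtain ⟨a', b', hb'u, hab'⟩ := hInD x
    rw [hθ'] at hb'u
    rw [hθ', hθ'] at hab'
    have h1 : residue V x * aeval zbar (b'.map (residue A)) = aeval zbar (a'.map (residue A)) := by
      rw [hres, hres, ← map_mul, hab']
    have hb'ne : aeval zbar (b'.map (residue A)) ≠ 0 := by
      rw [hres]
      intro h0
      exact (mem_maximalIdeal _).mp ((residue_eq_zero_iff _).mp h0) hb'u
    have h2 : residue V x =
        aeval zbar (a'.map (residue A)) * (aeval zbar (b'.map (residue A)))⁻¹ := by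
      rw [← h1, mul_assoc, mul_inv_cancel₀ hb'ne, mul_one]
    rw [h2, ← mem_separableClosure_iff]
    have hzmem : zbar ∈ separableClosure (ResidueField A) (ResidueField V) :=
      mem_separableClosure_iff.mpr hzsep
    have hpoly : ∀ Q : (ResidueField A)[X],
        aeval zbar Q ∈ separableClosure (ResidueField A) (ResidueField V) := by
      intro Q
      have h3 : Algebra.adjoin (ResidueField A) {zbar} ≤
          (separableClosure (ResidueField A) (ResidueField V)).toSubalgebra :=
        Algebra.adjoin_le (Set.singleton_subset_iff.mpr hzmem)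
      exact h3 (aeval_mem_adjoin_singleton _ zbar)
    exact mul_mem (hpoly _) (inv_mem (hpoly _))
  exact ⟨hwu, hsepall⟩

theorem unram_of_sep [FiniteDimensional K L]
    (π : A) (hπ : maximalIdeal A = Ideal.span {π}) (f : A[X]) (hmonic : f.Monic) (z : L)
    (hroot : aeval z f = 0) (hsepf : (f.map (residue A)).Separable)
    (hadj : Algebra.adjoin K {z} = ⊤) : EtRam.IsUnramifiedExt A (algebraMap A L) := by
  intro V hV
  intro instLoc
  letI algAV : Algebra A V := (RingHom.codRestrict (algebraMap A L) V hV.1).toAlgebra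
  haveI : IsScalarTower A V L := IsScalarTower.of_algebraMap_eq (fun _ => rfl)
  haveI := instLoc
  haveI : IsDiscreteValuationRing V := dvr_of_dominates A K L V hV
  exact unram_core A K L π hπ f hmonic z hroot hsepf hadj V

end Ctx

end Groth.Agent.Helper22.ASCases
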