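import Mathlib
import Groth.Prelude.Def_EtRam

/-!
# Artin–Schreier extensions: Galois and degree `1` or `p` (helper library)
-/

set_option autoImplicit false
universe u

open Polynomial

namespace Groth.Agent.Helper22.ASGal

theorem as_separable (p : ℕ) (F : Type*) [Field F] [CharP F p] (c : F) :
    (X ^ p - (X + C c) : F[X]).Separable := by
  rw [separable_def]
  have hder : derivative (X ^ p - (X + C c) : F[X]) = -1 := by
    rw [derivative_sub, derivative_X_pow, derivative_add, derivative_X, derivative_C, add_zero,
      CharP.cast_eq_zero F p, C_0, zero_mul, zero_sub]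
  rw [hder]
  exact isCoprime_one_right.neg_right

theorem charP_residue (p : ℕ) (hp : p.Prime) (A : Type*) [CommRing A] [IsLocalRing A] [CharP A p] :
    CharP (IsLocalRing.ResidueField A) p := by
  obtain ⟨q, hq⟩ := CharP.exists (IsLocalRing.ResidueField A)
  haveI := hq
  have h1 : ((p : ℕ) : IsLocalRing.ResidueField A) = 0 := by
    have h2 : ((p : ℕ) : A) = 0 := CharP.cast_eq_zero A p
    have h3 := congrArg (IsLocalRing.residue A) h2
    rwa [map_natCast, map_zero] at h3
  have h4 : q ∣ p := (CharP.cast_eq_zero_iff (IsLocalRing.ResidueField A) q p).mp h1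
  rcases (Nat.dvd_prime hp).mp h4 with h5 | h5
  · exfalso
    exact CharP.char_ne_one (IsLocalRing.ResidueField A) q h5
  · rw [← h5]; exact hq

theorem as_galois (p : ℕ) [hpf : Fact p.Prime] (K L : Type u) [Field K] [Field L] [Algebra K L]
    [CharP K p] (ξ : K) (z : L) (hz : z ^ p - z = algebraMap K L ξ)
    (hgen : IntermediateField.adjoin K {z} = ⊤) :
    IsGalois K L ∧ FiniteDimensional K L ∧
      (Module.finrank K L = 1 ∨ Module.finrank K L = p) ∧ Module.finrank K L ≤ p ∧
      Algebra.adjoin K {z} = ⊤ := by
  have hp : p.Prime := hpf.out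
  haveI : CharP L p := charP_of_injective_algebraMap (algebraMap K L).injective p
  haveI : ExpChar L p := ExpChar.prime hp
  obtain ⟨f, hf⟩ : ∃ f : K[X], f = X ^ p - (X + C ξ) := ⟨_, rfl⟩
  have h1p : (1 : WithBot ℕ) < (p : WithBot ℕ) := by exact_mod_cast hp.one_lt
  have hfmonic : f.Monic := by
    rw [hf]; apply monic_X_pow_sub
    rw [degree_X_add_C]; exact h1p
  have hfdeg : f.natDegree = p := by
    rw [hf, natDegree_sub_eq_left_of_natDegree_lt
      (by rw [natDegree_X_add_C, natDegree_X_pow]; exact hp.one_lt), natDegree_X_pow]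
  have hroot : aeval z f = 0 := by
    rw [hf, map_sub, map_pow, aeval_X, map_add, aeval_X, aeval_C, ← hz]; ring
  have hzint : IsIntegral K z := ⟨f, hfmonic, by rw [← aeval_def]; exact hroot⟩
  have hadj : Algebra.adjoin K {z} = ⊤ := by
    rw [← IntermediateField.adjoin_simple_toSubalgebra_of_isAlgebraic hzint.isAlgebraic, hgen,
      IntermediateField.top_toSubalgebra]
  haveI hfin : FiniteDimensional K L := by
    have h1 : FiniteDimensional K (IntermediateField.adjoin K {z}) :=
      IntermediateField.adjoin.finiteDimensional hzint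
    rw [hgen] at h1
    exact Module.Finite.equiv (IntermediateField.topEquiv (F := K) (E := L)).toLinearEquiv
  have hle : Module.finrank K L ≤ p := by
    rw [← IntermediateField.finrank_top', ← hgen, IntermediateField.adjoin.finrank hzint, ← hfdeg]
    exact natDegree_le_of_dvd (minpoly.dvd K z hroot) hfmonic.ne_zero
  have hfsep : f.Separable := by rw [hf]; exact as_separable p K ξ
  have hfL : f.map (algebraMap K L) = X ^ p - (X + C (algebraMap K L ξ)) := by
    rw [hf]
    simp only [Polynomial.map_sub, Polynomial.map_pow, Polynomial.map_X, Polynomial.map_add,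
      Polynomial.map_C]
  have hrootsL : ∀ i : ℕ, (f.map (algebraMap K L)).IsRoot (z + (i : L)) := by
    intro i
    have hi : ((i : L)) ^ p = i := by
      have h1 := map_natCast (frobenius L p) i
      rwa [frobenius_def] at h1
    rw [IsRoot.def, hfL, eval_sub, eval_pow, eval_X, eval_add, eval_X, eval_C, add_pow_char, ← hz,
      hi]
    ring
  have hfLne : f.map (algebraMap K L) ≠ 0 := (hfmonic.map _).ne_zero
  have hdegL : (f.map (algebraMap K L)).natDegree = p := by
    rw [hfmonic.natDegree_map, hfdeg]
  have hsplits : (f.map (algebraMap K L)).Splits := by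
    rw [splits_iff_card_roots]
    apply le_antisymm (card_roots' _)
    rw [hdegL]
    classical
    obtain ⟨S, hS⟩ : ∃ S : Finset L, S = (Finset.range p).image (fun i : ℕ => z + (i : L)) :=
      ⟨_, rfl⟩
    have hScard : S.card = p := by
      rw [hS, Finset.card_image_of_injOn, Finset.card_range]
      intro i hi j hj hij
      have h1 : (i : L) = (j : L) := add_left_cancel hij
      exact CharP.natCast_injOn_Iio L p (by simpa using hi) (by simpa using hj) h1
    have hSsub : S ⊆ (f.map (algebraMap K L)).roots.toFinset := by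
      intro x hx
      rw [hS] at hx
      obtain ⟨i, -, rfl⟩ := Finset.mem_image.mp hx
      rw [Multiset.mem_toFinset, mem_roots hfLne]
      exact hrootsL i
    calc p = S.card := hScard.symm
      _ ≤ (f.map (algebraMap K L)).roots.toFinset.card := Finset.card_le_card hSsub
      _ ≤ (f.map (algebraMap K L)).roots.card := Multiset.toFinset_card_le _
  haveI : IsSplittingField K L f := by
    refine IsSplittingField.mk hsplits ?_
    rw [eq_top_iff, ← hadj]
    apply Algebra.adjoin_mono
    rw [Set.singleton_subset_iff, mem_rootSet]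
    exact ⟨hfmonic.ne_zero, hroot⟩
  have hgal : IsGalois K L := IsGalois.of_separable_splitting_field hfsep
  have hcases : Module.finrank K L = 1 ∨ Module.finrank K L = p := by
    haveI := hgal
    have hσ : ∀ σ : L ≃ₐ[K] L, σ ^ p = 1 := by
      intro σ
      obtain ⟨c, hc⟩ : ∃ c, c = σ z - z := ⟨_, rfl⟩
      have hσz : σ z = z + c := by rw [hc]; ring
      have hcp : c ^ p = c := by
        have h1 : (σ z) ^ p - σ z = z ^ p - z := by
          rw [← map_pow, ← map_sub, hz, AlgEquiv.commutes]
        rw [hc, sub_pow_char]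
        linear_combination h1
      have hcbot : c ∈ (⊥ : Subfield L) := (Subfield.mem_bot_iff_pow_eq_self L p).mpr hcp
      have hτc : ∀ τ : L ≃ₐ[K] L, τ c = c := by
        intro τ
        have hle' : (⊥ : Subfield L) ≤ RingHom.eqLocusField (τ : L →+* L) (RingHom.id L) := bot_le
        exact hle' hcbot
      have hpow : ∀ n : ℕ, (σ ^ n) z = z + n • c := by
        intro n
        induction n with
        | zero => simp
        | succ n ih =>
          rw [pow_succ', AlgEquiv.mul_apply, ih, map_add, map_nsmul, hτc σ, hσz, succ_nsmul]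
          abel
      have h2 : ((σ ^ p : L ≃ₐ[K] L) : L →ₐ[K] L) = ((1 : L ≃ₐ[K] L) : L →ₐ[K] L) := by
        apply AlgHom.ext_of_adjoin_eq_top hadj
        intro x hx
        rw [Set.mem_singleton_iff] at hx
        rw [hx]
        show (σ ^ p) z = (1 : L ≃ₐ[K] L) z
        rw [hpow p, AlgEquiv.one_apply]
        have h3 : p • c = 0 := by rw [nsmul_eq_mul, CharP.cast_eq_zero L p, zero_mul]
        rw [h3, add_zero]
      exact AlgEquiv.coe_toAlgHom_injective h2
    have hpg : IsPGroup p (L ≃ₐ[K] L) := fun σ => ⟨1, by rw [pow_one]; exact hσ σ⟩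
    obtain ⟨n, hn⟩ := IsPGroup.iff_card.mp hpg
    rw [IsGalois.card_aut_eq_finrank] at hn
    rw [hn] at hle ⊢
    rcases n with _ | _ | n
    · left; simp
    · right; simp
    · exfalso
      have h2 := hp.two_le
      have h3 : p * p ≤ p ^ (n + 1 + 1) := by
        calc p * p = p ^ 2 := by ring
          _ ≤ p ^ (n + 1 + 1) := Nat.pow_le_pow_right hp.pos (by omega)
      nlinarith
  exact ⟨hgal, hfin, hcases, hle, hadj⟩

end Groth.Agent.Helper22.ASGal
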