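import Mathlib

/-!
# Artin–Schreier normal form for totally ramified degree `p` Galois extensions of `K((t))`
(helper22)

* `exists_translate`: additive Hilbert 90 for a Galois extension of degree `p` in characteristic `p`:
  some `σ`, `x` with `σ x = x + 1`, and the fixed points of `σ` are the base field.
* `exists_residue_lift`: if `e(M) = rank`, every residue class of `B` mod `M` comes from `A`.
* `not_integral_case`: in the totally ramified case `b ^ p - b ∈ A` forces `b ∈ A`.
* `reduce`: pole order reduction.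
* `main`: the normal form.
-/

set_option autoImplicit false
set_option linter.style.haveILetI false

namespace Groth.Agent.Helper22.ASNormal

open IsLocalRing Polynomial

universe u

theorem exists_translate (F E : Type*) [Field F] [Field E] [Algebra F E] [IsGalois F E]
    [FiniteDimensional F E] (p : ℕ) [hp : Fact p.Prime] [CharP F p]
    (hdeg : Module.finrank F E = p) :
    ∃ (σ : E ≃ₐ[F] E) (x : E), σ x = x + 1 ∧
      ∀ y : E, σ y = y → y ∈ Set.range (algebraMap F E) := by
  classical
  have hcard : Nat.card (E ≃ₐ[F] E) = p := by rw [IsGalois.card_aut_eq_finrank, hdeg]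
  obtain ⟨σ, hσ⟩ : ∃ σ : E ≃ₐ[F] E, σ ≠ 1 := by
    haveI : Nontrivial (E ≃ₐ[F] E) := by
      rw [← Finite.one_lt_card_iff_nontrivial, hcard]; exact hp.out.one_lt
    exact exists_ne 1
  have htop : Subgroup.zpowers σ = ⊤ := zpowers_eq_top_of_prime_card hcard hσ
  have hfix : ∀ y : E, σ y = y → y ∈ Set.range (algebraMap F E) := by
    intro y hy
    rw [IsGalois.mem_range_algebraMap_iff_fixed]
    intro g
    have hle : Subgroup.zpowers σ ≤ MulAction.stabilizer (E ≃ₐ[F] E) y := by
      rw [Subgroup.zpowers_le]; exact MulAction.mem_stabilizer_iff.mpr hy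
    have hg : g ∈ MulAction.stabilizer (E ≃ₐ[F] E) y := hle (htop ▸ Subgroup.mem_top g)
    exact MulAction.mem_stabilizer_iff.mp hg
  let N : E →ₗ[F] E := σ.toLinearMap - LinearMap.id
  have hN : ∀ y, N y = σ y - y := fun y => rfl
  have hker : LinearMap.ker N = Submodule.span F {(1 : E)} := by
    ext y
    rw [LinearMap.mem_ker, hN, sub_eq_zero, Submodule.mem_span_singleton]
    constructor
    · intro hy
      obtain ⟨c, hc⟩ := hfix y hy
      exact ⟨c, by rw [Algebra.smul_def, mul_one, hc]⟩
    · rintro ⟨c, rfl⟩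
      rw [Algebra.smul_def, mul_one, AlgEquiv.commutes]
  have hkerdim : Module.finrank F (LinearMap.ker N) = 1 := by
    rw [hker]; exact finrank_span_singleton one_ne_zero
  have hrk := LinearMap.finrank_range_add_finrank_ker N
  let T : E →ₗ[F] F := Algebra.trace F E
  have hT1 : LinearMap.range T = ⊤ := LinearMap.range_eq_top.mpr (Algebra.trace_surjective F E)
  have hrkT := LinearMap.finrank_range_add_finrank_ker T
  rw [hT1, finrank_top, Module.finrank_self] at hrkT
  have hle : LinearMap.range N ≤ LinearMap.ker T := by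
    rintro _ ⟨y, rfl⟩
    rw [LinearMap.mem_ker, hN, map_sub]
    show Algebra.trace F E (σ y) - Algebra.trace F E y = 0
    rw [Algebra.trace_eq_of_algEquiv, sub_self]
  have heq : LinearMap.range N = LinearMap.ker T := by
    apply Submodule.eq_of_le_of_finrank_eq hle
    rw [hkerdim, hdeg] at hrk
    rw [hdeg] at hrkT
    omega
  have h1 : (1 : E) ∈ LinearMap.ker T := by
    rw [LinearMap.mem_ker]
    show Algebra.trace F E (1 : E) = 0
    rw [← map_one (algebraMap F E), Algebra.trace_algebraMap, hdeg, nsmul_eq_mul, mul_one]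
    exact CharP.cast_eq_zero F p
  rw [← heq] at h1
  obtain ⟨x, hx⟩ := h1
  refine ⟨σ, x, ?_, hfix⟩
  rw [hN] at hx
  exact sub_eq_iff_eq_add'.mp hx

theorem exists_residue_lift (A B : Type u) [CommRing A] [IsDomain A] [IsDiscreteValuationRing A]
    [CommRing B] [IsDedekindDomain B] [Algebra A B] [Module.Finite A B] [Module.IsTorsionFree A B]
    (M : Ideal B) [M.IsMaximal] (hram : M.ramificationIdx A = Module.finrank A B) :
    M.under A = maximalIdeal A ∧ ∀ b : B, ∃ a : A, algebraMap A B a - b ∈ M := by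
  classical
  obtain ⟨m, hmdef⟩ : ∃ m, Module.finrank A B = m := ⟨_, rfl⟩
  rw [hmdef] at hram
  haveI : Module.Free A B := Module.free_of_finite_type_torsion_free'
  haveI : Algebra.IsIntegral A B := inferInstance
  haveI hMu : (M.under A).IsMaximal := Ideal.IsMaximal.under A M
  have hMp : M.under A = maximalIdeal A := IsLocalRing.eq_maximalIdeal hMu
  haveI : M.LiesOver (maximalIdeal A) := ⟨hMp.symm⟩
  haveI : Fintype ((maximalIdeal A).primesOver B) :=
    (Algebra.QuasiFinite.finite_primesOver (maximalIdeal A)).fintype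
  have hsum := Ideal.sum_ramification_inertia_eq_finrank (maximalIdeal A) B
  rw [hmdef] at hsum
  have hmpos : 0 < m := by rw [← hram]; exact Ideal.ramificationIdx_pos M A
  let q₀ : (maximalIdeal A).primesOver B := ⟨M, ⟨inferInstance, inferInstance⟩⟩
  have hle : M.ramificationIdx A * M.inertiaDeg A ≤ m := by
    rw [← hsum]
    exact Finset.single_le_sum
      (f := fun q : (maximalIdeal A).primesOver B => q.1.ramificationIdx A * q.1.inertiaDeg A)
      (fun _ _ => Nat.zero_le _) (Finset.mem_univ q₀)
  have hf1 : M.inertiaDeg A = 1 := by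
    have h1 : 0 < M.inertiaDeg A := Ideal.inertiaDeg_pos M A
    rw [hram] at hle
    have h2 : M.inertiaDeg A ≤ 1 := Nat.le_of_mul_le_mul_left (by simpa using hle) hmpos
    omega
  have hMtop : M ≠ ⊤ := Ideal.IsMaximal.ne_top inferInstance
  have hfin : Module.finrank (A ⧸ maximalIdeal A) (B ⧸ M) = 1 := by
    rw [← Ideal.inertiaDeg_eq_of_isMaximal (maximalIdeal A) M]; exact hf1
  letI : Field (A ⧸ maximalIdeal A) := Ideal.Quotient.field (maximalIdeal A)
  have hone : (1 : B ⧸ M) ≠ 0 := by
    haveI : Nontrivial (B ⧸ M) := Ideal.Quotient.nontrivial_iff.mpr hMtop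
    exact one_ne_zero
  have hsurj := (finrank_eq_one_iff_of_nonzero' (1 : B ⧸ M) hone).mp hfin
  refine ⟨hMp, fun b => ?_⟩
  obtain ⟨cbar, hcbar⟩ := hsurj (Ideal.Quotient.mk M b)
  obtain ⟨c, rfl⟩ := Ideal.Quotient.mk_surjective cbar
  refine ⟨c, ?_⟩
  rw [← Ideal.Quotient.eq, ← hcbar, Algebra.smul_def, mul_one,
    Ideal.Quotient.algebraMap_mk_of_liesOver]

theorem not_integral_case (p : ℕ) [hp : Fact p.Prime] (K : Type u) [Field K] [CharP K p]
    (B : Type u) [CommRing B] [IsDedekindDomain B] [Algebra (PowerSeries K) B]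
    [Module.Finite (PowerSeries K) B] [Module.IsTorsionFree (PowerSeries K) B]
    (M : Ideal B) [M.IsMaximal]
    (hram : M.ramificationIdx (PowerSeries K) = Module.finrank (PowerSeries K) B)
    (b : B) (a : PowerSeries K) (hb : b ^ p - b = algebraMap (PowerSeries K) B a) :
    b ∈ Set.range (algebraMap (PowerSeries K) B) := by
  classical
  haveI : CharP B p := charP_of_injective_ringHom
    (f := (algebraMap (PowerSeries K) B).comp (PowerSeries.C (R := K))) (RingHom.injective _) p
  haveI : CharP (PowerSeries K) p := charP_of_injective_ringHom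
    (f := (PowerSeries.C (R := K))) (RingHom.injective _) p
  obtain ⟨hMp, hres⟩ := exists_residue_lift (PowerSeries K) B M hram
  obtain ⟨a₀, ha₀⟩ := hres b
  obtain ⟨b', hb'⟩ : ∃ b' : B, b' = b - algebraMap (PowerSeries K) B a₀ := ⟨_, rfl⟩
  have hb'M : b' ∈ M := by
    have h1 : b' = -(algebraMap (PowerSeries K) B a₀ - b) := by rw [hb']; ring
    rw [h1]; exact neg_mem ha₀
  obtain ⟨a', ha'def⟩ : ∃ a' : PowerSeries K, a' = a - (a₀ ^ p - a₀) := ⟨_, rfl⟩
  have hb'p : b' ^ p - b' = algebraMap (PowerSeries K) B a' := by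
    rw [ha'def, hb', sub_pow_char, map_sub, map_sub, map_pow, ← hb]; ring
  have ha' : a' ∈ Ideal.span {(PowerSeries.X : PowerSeries K)} := by
    rw [← PowerSeries.maximalIdeal_eq_span_X, ← hMp]
    show algebraMap (PowerSeries K) B a' ∈ M
    rw [← hb'p]
    exact sub_mem (Ideal.pow_mem_of_mem M hb'M p hp.out.pos) hb'M
  have hpoly_monic : (X ^ p - (X + C a') : (PowerSeries K)[X]).Monic := by
    apply monic_X_pow_sub
    rw [degree_X_add_C]
    exact_mod_cast hp.out.one_lt
  have hev : eval 0 (X ^ p - (X + C a') : (PowerSeries K)[X]) ∈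
      Ideal.span {(PowerSeries.X : PowerSeries K)} := by
    rw [eval_sub, eval_pow, eval_X, eval_add, eval_X, eval_C, zero_pow hp.out.ne_zero, zero_add,
      zero_sub]
    exact neg_mem ha'
  have hp0 : ((p : ℕ) : PowerSeries K) = 0 := CharP.cast_eq_zero _ p
  have hder : eval 0 (derivative (X ^ p - (X + C a') : (PowerSeries K)[X])) = -1 := by
    simp [derivative_X_pow, hp0]
  obtain ⟨y, hy, hy0⟩ := HenselianRing.is_henselian (R := PowerSeries K)
    (I := Ideal.span {(PowerSeries.X : PowerSeries K)}) _ hpoly_monic 0 hev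
    (by rw [hder]; exact (isUnit_one.neg).map _)
  have hyp : y ^ p - y = a' := by
    have h0 : eval y (X ^ p - (X + C a') : (PowerSeries K)[X]) = 0 := hy
    rw [eval_sub, eval_pow, eval_X, eval_add, eval_X, eval_C] at h0
    linear_combination h0
  have hyM : algebraMap (PowerSeries K) B y ∈ M := by
    have h1 : y ∈ M.under (PowerSeries K) := by
      rw [hMp, PowerSeries.maximalIdeal_eq_span_X]; simpa using hy0
    exact h1
  obtain ⟨z, hz⟩ : ∃ z : B, z = b' - algebraMap (PowerSeries K) B y := ⟨_, rfl⟩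
  have hzM : z ∈ M := by rw [hz]; exact sub_mem hb'M hyM
  have hzp : z ^ p = z := by
    have h1 : z ^ p - z = 0 := by
      rw [hz, sub_pow_char, ← map_pow]
      have h2 : b' ^ p - algebraMap (PowerSeries K) B (y ^ p) -
          (b' - algebraMap (PowerSeries K) B y) =
          (b' ^ p - b') - algebraMap (PowerSeries K) B (y ^ p - y) := by rw [map_sub]; ring
      rw [h2, hb'p, hyp, sub_self]
    exact sub_eq_zero.mp h1
  have hz0 : z = 0 := by
    by_contra hne
    have h1 : z * z ^ (p - 1) = z * 1 := by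
      rw [mul_one, ← pow_succ', Nat.sub_add_cancel hp.out.one_le]; exact hzp
    have h2 : z ^ (p - 1) = 1 := mul_left_cancel₀ hne h1
    have h3 : (1 : B) ∈ M := by
      rw [← h2]; exact Ideal.pow_mem_of_mem M hzM _ (Nat.sub_pos_of_lt hp.out.one_lt)
    exact (Ideal.IsMaximal.ne_top inferInstance : M ≠ ⊤) ((Ideal.eq_top_iff_one M).mpr h3)
  refine ⟨a₀ + y, ?_⟩
  rw [map_add]
  have h1 : b' - algebraMap (PowerSeries K) B y = 0 := by rw [← hz, hz0]
  rw [hb'] at h1
  linear_combination -h1

theorem reduce (p : ℕ) [hp : Fact p.Prime] (K : Type u) [Field K] [CharP K p] [PerfectField K]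
    (E : Type u) [Field E] [CharP E p] (ι : PowerSeries K →+* E) (hι : Function.Injective ι)
    (S : Set E)
    (hS : ∀ (c : K) (k : ℕ) (x : E),
      x - ι (PowerSeries.C c) / ι PowerSeries.X ^ k ∈ S → x ∈ S)
    (h0 : ∀ (a : PowerSeries K) (x : E), x ^ p - x = ι a → x ∈ S) :
    ∀ (N : ℕ) (a : PowerSeries K) (x : E), x ^ p - x = ι a / ι PowerSeries.X ^ N → x ∉ S →
      ∃ (x' : E) (m : ℕ) (a' : PowerSeries K), x' ∉ S ∧ 0 < m ∧ ¬ p ∣ m ∧
        PowerSeries.constantCoeff a' ≠ 0 ∧ x' ^ p - x' + ι a' / ι PowerSeries.X ^ m = 0 := by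
  have hT : ι PowerSeries.X ≠ 0 := by
    rw [Ne, map_eq_zero_iff ι hι]; exact PowerSeries.X_ne_zero
  intro N
  induction N with
  | zero =>
    intro a x hx hxS
    rw [pow_zero, div_one] at hx
    exact absurd (h0 a x hx) hxS
  | succ N ih =>
    intro a x hx hxS
    by_cases hc : PowerSeries.constantCoeff a = 0
    · obtain ⟨a₁, ha₁⟩ := PowerSeries.X_dvd_iff.mpr hc
      refine ih a₁ x ?_ hxS
      rw [hx, ha₁, map_mul, pow_succ, mul_comm (ι PowerSeries.X) (ι a₁), mul_div_mul_right _ _ hT]
    · by_cases hpN : p ∣ N + 1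
      · obtain ⟨k, hk⟩ := hpN
        have hkpos : 0 < k := by
          rcases Nat.eq_zero_or_pos k with h | h
          · rw [h, mul_zero] at hk; omega
          · exact h
        obtain ⟨d, hd⟩ := surjective_frobenius K p (PowerSeries.constantCoeff a)
        rw [frobenius_def] at hd
        have hNk : k ≤ N + 1 := by rw [hk]; exact Nat.le_mul_of_pos_left k hp.out.pos
        have hNk1 : 0 < N + 1 - k := by
          have h2 := hp.out.two_le
          have h3 : 2 * k ≤ p * k := Nat.mul_le_mul_right k h2
          omega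
        have hc2 : PowerSeries.constantCoeff (a - PowerSeries.C (PowerSeries.constantCoeff a) +
            PowerSeries.C d * PowerSeries.X ^ (N + 1 - k)) = 0 := by
          simp only [map_add, map_sub, map_mul, map_pow, PowerSeries.constantCoeff_C,
            PowerSeries.constantCoeff_X, zero_pow hNk1.ne', mul_zero, sub_self, add_zero]
        obtain ⟨a₁, ha₁⟩ := PowerSeries.X_dvd_iff.mpr hc2
        obtain ⟨y, hy⟩ : ∃ y : E, y = ι (PowerSeries.C d) / ι PowerSeries.X ^ k := ⟨_, rfl⟩
        have hxy : x - y ∉ S := fun h => hxS (hS d k x (hy ▸ h))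
        refine ih a₁ (x - y) ?_ hxy
        have hu : ι PowerSeries.X ^ k ≠ 0 := pow_ne_zero _ hT
        have h2 : y * ι PowerSeries.X ^ k = ι (PowerSeries.C d) := by
          rw [hy, div_mul_cancel₀ _ hu]
        have hur : ι PowerSeries.X ^ k * ι PowerSeries.X ^ (N + 1 - k) =
            (ι PowerSeries.X ^ k) ^ p := by
          rw [← pow_add, ← pow_mul, Nat.add_sub_cancel' hNk, hk, mul_comm]
        have h1 : (x ^ p - x) * (ι PowerSeries.X ^ k * ι PowerSeries.X ^ (N + 1 - k)) = ι a := by
          rw [← pow_add, Nat.add_sub_cancel' hNk, hx, div_mul_cancel₀ _ (pow_ne_zero _ hT)]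
        have h5 : ι (PowerSeries.C d) ^ p = ι (PowerSeries.C (PowerSeries.constantCoeff a)) := by
          rw [← map_pow, ← map_pow, hd]
        have h7 : y ^ p * (ι PowerSeries.X ^ k) ^ p =
            ι (PowerSeries.C (PowerSeries.constantCoeff a)) := by
          rw [← mul_pow, h2, h5]
        have h6 : ι a - ι (PowerSeries.C (PowerSeries.constantCoeff a)) +
            ι (PowerSeries.C d) * ι PowerSeries.X ^ (N + 1 - k) = ι PowerSeries.X * ι a₁ := by
          rw [← map_mul, ← ha₁, map_add, map_sub, map_mul, map_pow]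
        obtain ⟨Z, hZdef⟩ : ∃ Z : E, Z = (x - y) ^ p - (x - y) := ⟨_, rfl⟩
        have hZ : Z = (x ^ p - y ^ p) - (x - y) := by rw [hZdef, sub_pow_char]
        have h8 : Z * (ι PowerSeries.X ^ k * ι PowerSeries.X ^ (N + 1 - k)) =
            ι PowerSeries.X * ι a₁ := by
          linear_combination (ι PowerSeries.X ^ k * ι PowerSeries.X ^ (N + 1 - k)) * hZ + h1 -
            y ^ p * hur - h7 + ι PowerSeries.X ^ (N + 1 - k) * h2 + h6
        rw [← pow_add, Nat.add_sub_cancel' hNk, pow_succ] at h8
        rw [← hZdef, eq_div_iff (pow_ne_zero N hT)]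
        have h9 : Z * ι PowerSeries.X ^ N * ι PowerSeries.X = ι a₁ * ι PowerSeries.X := by
          linear_combination h8
        exact mul_right_cancel₀ hT h9
      · refine ⟨x, N + 1, -a, hxS, Nat.succ_pos N, hpN, ?_, ?_⟩
        · rw [map_neg, neg_ne_zero]; exact hc
        · rw [hx, map_neg, neg_div, add_neg_cancel]

theorem main (p : ℕ) [hp : Fact p.Prime] (K : Type u) [Field K] [CharP K p] [PerfectField K]
    (B : Type u) [CommRing B] [IsDedekindDomain B] [Algebra (PowerSeries K) B]
    [Module.Finite (PowerSeries K) B] [Module.IsTorsionFree (PowerSeries K) B]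
    (F E : Type u) [Field F] [Field E] [Algebra (PowerSeries K) F]
    [IsFractionRing (PowerSeries K) F] [Algebra B E] [IsFractionRing B E] [Algebra F E]
    [Algebra (PowerSeries K) E] [IsScalarTower (PowerSeries K) F E]
    [IsScalarTower (PowerSeries K) B E] [IsGalois F E]
    (hdeg : Module.finrank F E = p) (M : Ideal B) [M.IsMaximal]
    (hram : M.ramificationIdx (PowerSeries K) = p) :
    ∃ x : E, ∃ m : ℕ, ∃ a : PowerSeries K,
      IntermediateField.adjoin F {x} = ⊤ ∧ 0 < m ∧ ¬ p ∣ m ∧
      PowerSeries.constantCoeff a ≠ 0 ∧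
      x ^ p - x + algebraMap F E (algebraMap (PowerSeries K) F a /
        algebraMap (PowerSeries K) F (PowerSeries.X ^ m)) = 0 := by
  classical
  haveI : Module.Finite F E := Module.finite_of_finrank_pos (by rw [hdeg]; exact hp.out.pos)
  have hιF : Function.Injective (algebraMap (PowerSeries K) F) := IsFractionRing.injective _ _
  haveI : CharP F p := charP_of_injective_ringHom
    (f := (algebraMap (PowerSeries K) F).comp (PowerSeries.C (R := K))) (RingHom.injective _) p
  haveI : CharP E p := charP_of_injective_algebraMap (algebraMap F E).injective p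
  have hrank : Module.finrank (PowerSeries K) B = p := by
    rw [← IsFractionRing.finrank_eq (PowerSeries K) F B E, hdeg]
  obtain ⟨σ, x, hσx, hfix⟩ := exists_translate F E p hdeg
  have hαfix : σ (x ^ p - x) = x ^ p - x := by
    rw [map_sub, map_pow, hσx, add_pow_char, one_pow]; ring
  obtain ⟨α, hα⟩ := hfix _ hαfix
  have hxS : x ∉ Set.range (algebraMap F E) := by
    rintro ⟨c, rfl⟩
    rw [AlgEquiv.commutes] at hσx
    exact one_ne_zero (α := E) (by linear_combination -hσx)
  obtain ⟨a, s, hs, has⟩ := IsFractionRing.div_surjective (PowerSeries K) α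
  have hs0 : s ≠ 0 := nonZeroDivisors.ne_zero hs
  have hXirr : Irreducible (PowerSeries.X : PowerSeries K) := PowerSeries.X_prime.irreducible
  obtain ⟨N, u, hu⟩ := IsDiscreteValuationRing.associated_pow_irreducible hs0 hXirr
  have hιdef : ∀ r, algebraMap (PowerSeries K) E r =
      algebraMap F E (algebraMap (PowerSeries K) F r) :=
    fun r => IsScalarTower.algebraMap_apply _ F E r
  have hι : Function.Injective (algebraMap (PowerSeries K) E) := by
    intro r₁ r₂ h
    rw [hιdef, hιdef] at h
    exact hιF ((algebraMap F E).injective h)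
  have hιu : algebraMap (PowerSeries K) E (u : PowerSeries K) ≠ 0 := by
    rw [Ne, map_eq_zero_iff _ hι]; exact u.ne_zero
  have hx0 : x ^ p - x = algebraMap (PowerSeries K) E (a * u) /
      algebraMap (PowerSeries K) E PowerSeries.X ^ N := by
    rw [← hα, ← has, map_div₀, ← hιdef, ← hιdef, ← map_pow, ← hu, map_mul, map_mul,
      mul_div_mul_right _ _ hιu]
  have hS : ∀ (c : K) (k : ℕ) (x : E),
      x - algebraMap (PowerSeries K) E (PowerSeries.C c) /
        algebraMap (PowerSeries K) E PowerSeries.X ^ k ∈ Set.range (algebraMap F E) →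
      x ∈ Set.range (algebraMap F E) := by
    rintro c k x ⟨w, hw⟩
    refine ⟨w + algebraMap (PowerSeries K) F (PowerSeries.C c) /
      algebraMap (PowerSeries K) F PowerSeries.X ^ k, ?_⟩
    rw [map_add, map_div₀, map_pow, ← hιdef, ← hιdef, hw]; ring
  have h0 : ∀ (a : PowerSeries K) (x : E), x ^ p - x = algebraMap (PowerSeries K) E a →
      x ∈ Set.range (algebraMap F E) := by
    intro a x hx
    have hint : IsIntegral (PowerSeries K) x := by
      refine ⟨X ^ p - (X + C a), ?_, ?_⟩
      · apply monic_X_pow_sub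
        rw [degree_X_add_C]
        exact_mod_cast hp.out.one_lt
      · rw [eval₂_sub, eval₂_pow, eval₂_X, eval₂_add, eval₂_X, eval₂_C]
        linear_combination hx
    obtain ⟨b, rfl⟩ := IsIntegrallyClosed.isIntegral_iff.mp (hint.tower_top (A := B))
    have hb : b ^ p - b = algebraMap (PowerSeries K) B a := by
      apply IsFractionRing.injective B E
      rw [map_sub, map_pow, hx, ← IsScalarTower.algebraMap_apply]
    obtain ⟨r, rfl⟩ := not_integral_case p K B M (hram.trans hrank.symm) b a hb
    exact ⟨algebraMap (PowerSeries K) F r,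
      (IsScalarTower.algebraMap_apply (PowerSeries K) F E r).symm.trans
        (IsScalarTower.algebraMap_apply (PowerSeries K) B E r)⟩
  obtain ⟨x', m, a', hx'S, hm0, hpm, ha'0, hx'⟩ :=
    reduce p K E (algebraMap (PowerSeries K) E) hι _ hS h0 N (a * u) x hx0 hxS
  refine ⟨x', m, a', ?_, hm0, hpm, ha'0, ?_⟩
  · haveI := IntermediateField.isSimpleOrder_of_finrank_prime F E (by rw [hdeg]; exact hp.out)
    rcases eq_bot_or_eq_top (IntermediateField.adjoin F {x'}) with h | h
    · exfalso
      rw [IntermediateField.adjoin_simple_eq_bot_iff, IntermediateField.mem_bot] at h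
      exact hx'S h
    · exact h
  · rw [map_div₀, ← hιdef, ← hιdef, map_pow]; exact hx'

end Groth.Agent.Helper22.ASNormal
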