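import Mathlib

/-!
# Helper22: highest-weight / root-string lemmas for `LieAlgebra.Basis` (adjoint variety family)
-/

set_option autoImplicit false
universe u v w
open LieAlgebra LieModule

namespace Groth.Agent.Helper22.AdjVar

variable {ι : Type u} {K : Type v} {L : Type w} [Fintype ι] [Field K] [CharZero K]
    [IsAlgClosed K] [LieRing L] [LieAlgebra K L] [FiniteDimensional K L] [LieAlgebra.IsSimple K L]
    {H : LieSubalgebra K L} [H.IsCartanSubalgebra] (b : LieAlgebra.Basis ι H)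

lemma mem_rs_of_eq {χ₁ χ₂ : H → K} {w : L} (hw : w ∈ rootSpace H χ₁) (h : ∀ x, χ₁ x = χ₂ x) :
    w ∈ rootSpace H χ₂ := by
  have : χ₁ = χ₂ := funext h
  rwa [← this]

lemma rs_ne_bot_of_eq {χ₁ χ₂ : H → K} (hw : rootSpace H χ₁ ≠ ⊥) (h : ∀ x, χ₁ x = χ₂ x) :
    rootSpace H χ₂ ≠ ⊥ := by
  have : χ₁ = χ₂ := funext h
  rwa [← this]

lemma e_mem (i : ι) : b.e i ∈ rootSpace H (b.baseSupp i : H → K) :=
  (mem_genWeightSpace _ _ _).mpr fun x ↦ ⟨1, by simp⟩

lemma f_mem (i : ι) : b.f i ∈ rootSpace H ((-b.baseSupp i : Module.Dual K H) : H → K) :=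
  (mem_genWeightSpace _ _ _).mpr fun x ↦ ⟨1, by simp [← eq_neg_iff_add_eq_zero]⟩

lemma lie_e_mem (i : ι) {χ : Module.Dual K H} {w : L} (hw : w ∈ rootSpace H (χ : H → K)) :
    ⁅b.e i, w⁆ ∈ rootSpace H ((χ + b.baseSupp i : Module.Dual K H) : H → K) :=
  mem_rs_of_eq (lie_mem_genWeightSpace_of_mem_genWeightSpace (e_mem b i) hw)
    (fun x => by simp [add_comm])

lemma lie_f_mem (i : ι) {χ : Module.Dual K H} {w : L} (hw : w ∈ rootSpace H (χ : H → K)) :
    ⁅b.f i, w⁆ ∈ rootSpace H ((χ - b.baseSupp i : Module.Dual K H) : H → K) :=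
  mem_rs_of_eq (lie_mem_genWeightSpace_of_mem_genWeightSpace (f_mem b i) hw)
    (fun x => by simp [sub_eq_add_neg, add_comm])

lemma lie_h_eq {χ : Module.Dual K H} {w : L} (hw : w ∈ rootSpace H (χ : H → K)) (h : H) :
    ⁅(h : L), w⁆ = χ h • w := by
  have := LieAlgebra.IsKilling.lie_eq_smul_of_mem_rootSpace hw h
  simpa using this

lemma exists_omega [DecidableEq ι] :
    ∃ ω : ι → H, ∀ i k, b.baseSupp k (ω i) = if k = i then 1 else 0 := by
  let AK : Matrix ι ι K := (Int.castRingHom K).mapMatrix b.A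
  have hdet : IsUnit AK.det := by
    have h1 : AK.det = ((b.A.det : ℤ) : K) := by
      simp only [AK, ← RingHom.map_det]; simp
    rw [h1, isUnit_iff_ne_zero]
    exact_mod_cast b.nondegen.det_ne_zero
  refine ⟨fun i => ∑ k, AK⁻¹ k i • b.h' k, fun i m => ?_⟩
  have h1 : (AK * AK⁻¹) m i = if m = i then 1 else 0 := by
    rw [Matrix.mul_nonsing_inv _ hdet, Matrix.one_apply]
  rw [← h1, Matrix.mul_apply]
  simp only [map_sum, map_smul, b.baseSupp_apply_h', smul_eq_mul]
  exact Finset.sum_congr rfl fun k _ => by simp [AK, mul_comm]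


lemma exists_mem_ne_zero {χ : H → K} (h : rootSpace H χ ≠ ⊥) : ∃ v ∈ rootSpace H χ, v ≠ 0 := by
  by_contra hcon
  push_neg at hcon
  exact h ((LieSubmodule.eq_bot_iff _).mpr hcon)

lemma rs_ne_bot_of_mem {χ : H → K} {v : L} (hv : v ∈ rootSpace H χ) (hv0 : v ≠ 0) :
    rootSpace H χ ≠ ⊥ := by
  intro h
  rw [h] at hv
  exact hv0 ((LieSubmodule.mem_bot v).mp hv)

set_option maxHeartbeats 800000 in
/-- Highest weight vectors generate: if `v` is a nonzero weight vector of weight `χ₀` killed by all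
`e i`, then every weight of `L` is `χ₀` minus a natural combination of simple roots. -/
theorem hw_all_le {χ₀ : Module.Dual K H} {v : L} (hv : v ∈ rootSpace H (χ₀ : H → K)) (hv0 : v ≠ 0)
    (he : ∀ i, ⁅b.e i, v⁆ = 0) (χ : Module.Dual K H) (hχ : rootSpace H (χ : H → K) ≠ ⊥) :
    ∃ n : ι → ℕ, χ = χ₀ - ∑ i, n i • b.baseSupp i := by
  classical
  let g : List ι → L := fun l => l.foldr (fun i x => ⁅b.f i, x⁆) v
  have hg_cons : ∀ i l, g (i :: l) = ⁅b.f i, g l⁆ := fun i l => rfl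
  let N : Submodule K L := Submodule.span K (Set.range g)
  have hgN : ∀ l, g l ∈ N := fun l => Submodule.subset_span ⟨l, rfl⟩
  have hg_wt : ∀ l : List ι, ∃ n : ι → ℕ,
      g l ∈ rootSpace H ((χ₀ - ∑ i, n i • b.baseSupp i : Module.Dual K H) : H → K) := by
    intro l
    induction l with
    | nil => exact ⟨0, mem_rs_of_eq hv (fun x => by simp)⟩
    | cons i l ih =>
      obtain ⟨n, hn⟩ := ih
      refine ⟨n + Pi.single i 1, ?_⟩
      rw [hg_cons]
      refine mem_rs_of_eq (lie_f_mem b i hn) (fun x => ?_)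
      have hs : ∑ k, (n + Pi.single i 1 : ι → ℕ) k • b.baseSupp k
          = ∑ k, n k • b.baseSupp k + b.baseSupp i := by
        simp [add_smul, Finset.sum_add_distrib, Pi.single_apply, ite_smul]
      rw [hs, sub_sub]
  have hNf : ∀ i, ∀ m ∈ N, ⁅b.f i, m⁆ ∈ N := by
    intro i m hm
    induction hm using Submodule.span_induction with
    | mem x hx => obtain ⟨l, rfl⟩ := hx; exact hgN (i :: l)
    | zero => simp
    | add x y _ _ hx hy => rw [lie_add]; exact add_mem hx hy
    | smul t x _ hx => rw [lie_smul]; exact Submodule.smul_mem _ _ hx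
  have hNh : ∀ h : H, ∀ m ∈ N, ⁅(h : L), m⁆ ∈ N := by
    intro h m hm
    induction hm using Submodule.span_induction with
    | mem x hx =>
      obtain ⟨l, rfl⟩ := hx
      obtain ⟨n, hn⟩ := hg_wt l
      rw [lie_h_eq hn h]
      exact Submodule.smul_mem _ _ (hgN l)
    | zero => simp
    | add x y _ _ hx hy => rw [lie_add]; exact add_mem hx hy
    | smul t x _ hx => rw [lie_smul]; exact Submodule.smul_mem _ _ hx
  have hNe_gen : ∀ k, ∀ l : List ι, ⁅b.e k, g l⁆ ∈ N := by
    intro k l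
    induction l with
    | nil =>
      have : g [] = v := rfl
      rw [this, he k]; exact zero_mem _
    | cons i l ih =>
      rw [hg_cons, leibniz_lie]
      refine add_mem ?_ (hNf i _ ih)
      by_cases hki : k = i
      · subst hki
        rw [(b.sl2 k).lie_e_f]
        exact hNh (b.h' k) _ (hgN l)
      · rw [b.lie_e_f_ne k i hki, zero_lie]; exact zero_mem _
  have hNe : ∀ k, ∀ m ∈ N, ⁅b.e k, m⁆ ∈ N := by
    intro k m hm
    induction hm using Submodule.span_induction with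
    | mem x hx => obtain ⟨l, rfl⟩ := hx; exact hNe_gen k l
    | zero => simp
    | add x y _ _ hx hy => rw [lie_add]; exact add_mem hx hy
    | smul t x _ hx => rw [lie_smul]; exact Submodule.smul_mem _ _ hx
  have hNall : ∀ x : L, ∀ m ∈ N, ⁅x, m⁆ ∈ N := by
    intro x
    have hx : x ∈ LieSubalgebra.lieSpan K L (Set.range b.e ∪ Set.range b.f) := by
      rw [b.span_ef]; exact LieSubalgebra.mem_top x
    induction hx using LieSubalgebra.lieSpan_induction with
    | mem u hu =>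
      rcases hu with ⟨k, rfl⟩ | ⟨k, rfl⟩
      · exact hNe k
      · exact hNf k
    | zero => intro m _; simp
    | add u v _ _ hu hv => intro m hm; rw [add_lie]; exact add_mem (hu m hm) (hv m hm)
    | smul t u _ hu => intro m hm; rw [smul_lie]; exact Submodule.smul_mem _ _ (hu m hm)
    | lie u v _ _ hu hv =>
      intro m hm; rw [lie_lie]; exact sub_mem (hu _ (hv m hm)) (hv _ (hu m hm))
  let I : LieIdeal K L := { N with lie_mem := fun {x m} hm => hNall x m hm }
  have hI : I = ⊤ := by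
    rcases LieAlgebra.IsSimple.eq_bot_or_eq_top I with h | h
    · exfalso
      have hvI : v ∈ I := hgN []
      rw [h] at hvI
      exact hv0 ((LieSubmodule.mem_bot v).mp hvI)
    · exact h
  let s : Set (H → K) :=
    {φ | ∃ n : ι → ℕ, φ = ((χ₀ - ∑ i, n i • b.baseSupp i : Module.Dual K H) : H → K)}
  have hs : ⨆ φ ∈ s, rootSpace H φ = ⊤ := by
    rw [eq_top_iff]
    intro x hx0
    clear hx0
    have hx : x ∈ N := by
      have : x ∈ I := by rw [hI]; exact LieSubmodule.mem_top x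
      exact this
    induction hx using Submodule.span_induction with
    | mem y hy =>
      obtain ⟨l, rfl⟩ := hy
      obtain ⟨n, hn⟩ := hg_wt l
      exact LieSubmodule.mem_iSup_of_mem _ (LieSubmodule.mem_iSup_of_mem ⟨n, rfl⟩ hn)
    | zero => exact zero_mem _
    | add y z _ _ hy hz => exact add_mem hy hz
    | smul t y _ hy => exact SMulMemClass.smul_mem t hy
  obtain ⟨n, hn⟩ := (LieModule.iSupIndep_genWeightSpace K H L).mem_of_biSup_eq_top hs hχ
  exact ⟨n, DFunLike.coe_injective hn⟩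

/-- Root strings along a simple root, in a convenient form. -/
lemma chain (i : ι) (χ : Module.Dual K H) (hχ : rootSpace H (χ : H → K) ≠ ⊥) :
    ∃ p q : ℕ, χ (b.h' i) = (q : K) - (p : K) ∧
      ∀ n : ℤ, rootSpace H ((χ + n • b.baseSupp i : Module.Dual K H) : H → K) ≠ ⊥ ↔
        (-(q : ℤ) ≤ n ∧ n ≤ (p : ℤ)) := by
  let α : Weight K H L := (b.baseSupp' i).1
  have hα : α.IsNonZero := LieSubalgebra.isNonZero_coe_root (b.baseSupp' i)
  let β : Weight K H L := ⟨χ, hχ⟩
  refine ⟨LieModule.chainTopCoeff (α : H → K) β, LieModule.chainBotCoeff (α : H → K) β, ?_,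
    fun n => ?_⟩
  · have h1 := LieAlgebra.IsKilling.apply_coroot_eq_cast α β
    have hc : LieAlgebra.IsKilling.coroot α = b.h' i := b.coroot_eq_h' i
    rw [hc] at h1
    have h2 : χ (b.h' i) = β (b.h' i) := rfl
    rw [h2, h1, Int.cast_sub, Int.cast_natCast, Int.cast_natCast]
  · have h1 := LieAlgebra.IsKilling.rootSpace_zsmul_add_ne_bot_iff α β hα n
    have this : ∀ x, ((χ + n • b.baseSupp i : Module.Dual K H) : H → K) x =
        (n • (α : H → K) + (β : H → K)) x := by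
      intro x
      have e1 : ((χ + n • b.baseSupp i : Module.Dual K H) : H → K) x =
          χ x + n • (b.baseSupp i x) := rfl
      have e2 : (n • (α : H → K) + (β : H → K)) x = n • (b.baseSupp i x) + χ x := rfl
      rw [e1, e2, add_comm]
    have h2 : rootSpace H ((χ + n • b.baseSupp i : Module.Dual K H) : H → K) ≠ ⊥ ↔
        rootSpace H (n • (α : H → K) + (β : H → K)) ≠ ⊥ :=
      ⟨fun h => rs_ne_bot_of_eq h this, fun h => rs_ne_bot_of_eq h (fun x => (this x).symm)⟩
    rw [h2, h1]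
    constructor
    · rintro ⟨h3, h4⟩; exact ⟨by omega, h3⟩
    · rintro ⟨h3, h4⟩; exact ⟨h4, by omega⟩

section rho

variable (ρ : Module.Dual K H) (hρ : rootSpace H (ρ : H → K) ≠ ⊥)
  (htop : ∀ i, rootSpace H ((ρ + b.baseSupp i : Module.Dual K H) : H → K) = ⊥)

include hρ htop

lemma ne_zero_of_sub_ne_bot (i : ι)
    (h : rootSpace H ((ρ - b.baseSupp i : Module.Dual K H) : H → K) ≠ ⊥) :
    ρ (b.h' i) ≠ 0 := by
  obtain ⟨p, q, hpq, hch⟩ := chain b i ρ hρ
  have hp : p = 0 := by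
    by_contra hp
    have h1 := (hch 1).mpr ⟨by omega, by omega⟩
    rw [one_zsmul] at h1
    exact h1 (htop i)
  have hq : 1 ≤ q := by
    have h1 : rootSpace H ((ρ + (-1 : ℤ) • b.baseSupp i : Module.Dual K H) : H → K) ≠ ⊥ := by
      rw [neg_one_zsmul, ← sub_eq_add_neg]; exact h
    have := (hch (-1)).mp h1
    omega
  rw [hpq, hp, Nat.cast_zero, sub_zero]
  exact Nat.cast_ne_zero.mpr (by omega)

lemma le_rho (χ : Module.Dual K H) (hχ : rootSpace H (χ : H → K) ≠ ⊥) :
    ∃ n : ι → ℕ, χ = ρ - ∑ i, n i • b.baseSupp i := by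
  obtain ⟨v, hv, hv0⟩ := exists_mem_ne_zero hρ
  refine hw_all_le b hv hv0 (fun i => ?_) χ hχ
  have := lie_e_mem b i hv
  rw [htop i] at this
  exact (LieSubmodule.mem_bot _).mp this

lemma eq_rho_of_hw {χ : Module.Dual K H} {v : L} (hv : v ∈ rootSpace H (χ : H → K)) (hv0 : v ≠ 0)
    (he : ∀ i, ⁅b.e i, v⁆ = 0) : χ = ρ := by
  classical
  obtain ⟨n, hn⟩ := le_rho b ρ hρ htop χ (rs_ne_bot_of_mem hv hv0)
  obtain ⟨m, hm⟩ := hw_all_le b hv hv0 he ρ hρ
  have h0 : ∑ i, ((n i + m i : ℕ) : K) • b.baseSupp i = 0 := by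
    have h1 : ρ = ρ - ∑ i, n i • b.baseSupp i - ∑ i, m i • b.baseSupp i := by
      conv_lhs => rw [hm, hn]
    have h2 : ∑ i, n i • b.baseSupp i + ∑ i, m i • b.baseSupp i = 0 := by
      rw [sub_sub] at h1
      exact sub_eq_self.mp h1.symm
    rw [← h2, ← Finset.sum_add_distrib]
    refine Finset.sum_congr rfl fun i _ => ?_
    rw [Nat.cast_add, add_smul, Nat.cast_smul_eq_nsmul K, Nat.cast_smul_eq_nsmul K]
  have h3 := Fintype.linearIndependent_iff.mp b.linearIndependent_baseSupp _ h0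
  have hn0 : ∀ i, n i = 0 := fun i => by
    have h4 := h3 i
    have h5 : (n i + m i : ℕ) = 0 := by exact_mod_cast h4
    omega
  rw [hn]; simp [hn0]

lemma exists_height : ∃ h₀ : H, (∀ k, b.baseSupp k h₀ = 1) ∧
    ∀ χ : Module.Dual K H, rootSpace H (χ : H → K) ≠ ⊥ → ∃ m : ℕ, χ h₀ + m = ρ h₀ := by
  classical
  obtain ⟨ω, hω⟩ := exists_omega b
  have hk : ∀ k, b.baseSupp k (∑ i, ω i) = 1 := by
    intro k
    rw [map_sum]
    simp [hω]
  refine ⟨∑ i, ω i, hk, fun χ hχ => ?_⟩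
  obtain ⟨n, hn⟩ := le_rho b ρ hρ htop χ hχ
  refine ⟨∑ i, n i, ?_⟩
  have e : χ (∑ i, ω i) = ρ (∑ i, ω i) - ∑ i, (n i : K) := by
    rw [hn, LinearMap.sub_apply, LinearMap.sum_apply]
    congr 1
    refine Finset.sum_congr rfl fun i _ => ?_
    rw [LinearMap.smul_apply, hk, nsmul_eq_mul, mul_one]
  rw [e, Nat.cast_sum, sub_add_cancel]

lemma not_wt_sub_add {i j : ι} (hij : i ≠ j) :
    rootSpace H ((ρ - b.baseSupp j + b.baseSupp i : Module.Dual K H) : H → K) = ⊥ := by
  classical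
  by_contra h
  obtain ⟨ω, hω⟩ := exists_omega b
  obtain ⟨n, hn⟩ := le_rho b ρ hρ htop _ h
  have h2 : ρ (ω i) + 1 = ρ (ω i) - (n i : K) := by
    have e1 : (ρ - b.baseSupp j + b.baseSupp i : Module.Dual K H) (ω i) = ρ (ω i) + 1 := by
      simp [hω, hij.symm]
    have e2 : (ρ - ∑ k, n k • b.baseSupp k : Module.Dual K H) (ω i) = ρ (ω i) - (n i : K) := by
      simp [hω, LinearMap.sum_apply, Finset.sum_ite_eq']
    rw [← e1, ← e2, hn]
  have h3 : (n i : K) + 1 = 0 := by linear_combination h2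
  exact Nat.cast_add_one_ne_zero (n i) h3

end rho

end Groth.Agent.Helper22.AdjVar
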