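import Mathlib
import Groth.Agent.Lib.Helper22.AdjVar1

/-!
# Helper22: Borel-stable subspaces (adjoint variety family), part 2
-/

set_option autoImplicit false
universe u v w
open LieAlgebra LieModule

namespace Groth.Agent.Helper22.AdjVar

variable {ι : Type u} {K : Type v} {L : Type w} [Fintype ι] [Field K] [CharZero K]
    [IsAlgClosed K] [LieRing L] [LieAlgebra K L] [FiniteDimensional K L] [LieAlgebra.IsSimple K L]
    {H : LieSubalgebra K L} [H.IsCartanSubalgebra] (b : LieAlgebra.Basis ι H)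

lemma wt_nonzero {χ : Module.Dual K H} (hχ0 : χ ≠ 0) (hχ : rootSpace H (χ : H → K) ≠ ⊥) :
    (⟨χ, hχ⟩ : Weight K H L).IsNonZero := by
  intro h
  apply hχ0
  ext x
  exact congrFun h x

lemma exists_smul_of_mem {χ : Module.Dual K H} (hχ0 : χ ≠ 0) {v w : L}
    (hv : v ∈ rootSpace H (χ : H → K)) (hv0 : v ≠ 0) (hw : w ∈ rootSpace H (χ : H → K)) :
    ∃ c : K, w = c • v := by
  have hχ := rs_ne_bot_of_mem hv hv0
  have h1 := LieAlgebra.IsKilling.finrank_rootSpace_eq_one (⟨χ, hχ⟩ : Weight K H L)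
    (wt_nonzero hχ0 hχ)
  obtain ⟨c, hc⟩ := (finrank_eq_one_iff_of_nonzero' (⟨v, hv⟩ : rootSpace H (χ : H → K))
    (by intro h; exact hv0 (congrArg Subtype.val h))).mp h1 ⟨w, hw⟩
  exact ⟨c, (congrArg Subtype.val hc).symm⟩

lemma rs_le_of_mem {χ : Module.Dual K H} (hχ0 : χ ≠ 0) {W : Submodule K L} {v : L}
    (hvW : v ∈ W) (hv : v ∈ rootSpace H (χ : H → K)) (hv0 : v ≠ 0) :
    (rootSpace H (χ : H → K) : Submodule K L) ≤ W := by
  intro w hw
  obtain ⟨c, rfl⟩ := exists_smul_of_mem hχ0 hv hv0 hw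
  exact W.smul_mem c hvW

lemma finrank_rs {χ : Module.Dual K H} (hχ0 : χ ≠ 0) (hχ : rootSpace H (χ : H → K) ≠ ⊥) :
    Module.finrank K (rootSpace H (χ : H → K) : Submodule K L) = 1 :=
  LieAlgebra.IsKilling.finrank_rootSpace_eq_one (⟨χ, hχ⟩ : Weight K H L) (wt_nonzero hχ0 hχ)

lemma finrank_sup_two {χ₁ χ₂ : Module.Dual K H} (h₁0 : χ₁ ≠ 0) (h₂0 : χ₂ ≠ 0)
    (h₁ : rootSpace H (χ₁ : H → K) ≠ ⊥) (h₂ : rootSpace H (χ₂ : H → K) ≠ ⊥) (h12 : χ₁ ≠ χ₂) :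
    Module.finrank K ((rootSpace H (χ₁ : H → K) : Submodule K L) ⊔
      (rootSpace H (χ₂ : H → K) : Submodule K L) : Submodule K L) = 2 := by
  have hd : Disjoint (rootSpace H (χ₁ : H → K) : Submodule K L)
      (rootSpace H (χ₂ : H → K) : Submodule K L) := by
    rw [LieSubmodule.disjoint_toSubmodule]
    exact LieModule.disjoint_genWeightSpace K H L (fun h => h12 (DFunLike.coe_injective h))
  have := Submodule.finrank_sup_add_finrank_inf_eq (rootSpace H (χ₁ : H → K) : Submodule K L)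
    (rootSpace H (χ₂ : H → K) : Submodule K L)
  rw [hd.eq_bot, finrank_bot, finrank_rs h₁0 h₁, finrank_rs h₂0 h₂] at this
  omega

lemma disjoint_sup_two {χ₁ χ₂ χ₃ : Module.Dual K H} (h13 : χ₁ ≠ χ₃) (h23 : χ₂ ≠ χ₃) :
    Disjoint ((rootSpace H (χ₁ : H → K) : Submodule K L) ⊔
      (rootSpace H (χ₂ : H → K) : Submodule K L)) (rootSpace H (χ₃ : H → K) : Submodule K L) := by
  have key := LieModule.iSupIndep_genWeightSpace K H L
  have h := key (χ₃ : H → K)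
  have hle : rootSpace H (χ₁ : H → K) ⊔ rootSpace H (χ₂ : H → K) ≤
      ⨆ φ, ⨆ (_ : φ ≠ (χ₃ : H → K)), genWeightSpace L φ := by
    refine sup_le ?_ ?_
    · exact le_iSup₂_of_le (χ₁ : H → K) (fun h => h13 (DFunLike.coe_injective h)) le_rfl
    · exact le_iSup₂_of_le (χ₂ : H → K) (fun h => h23 (DFunLike.coe_injective h)) le_rfl
  have h' := (h.mono_right hle).symm
  rw [← LieSubmodule.disjoint_toSubmodule, LieSubmodule.sup_toSubmodule] at h'
  exact h'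

lemma finrank_sup_three {χ₁ χ₂ χ₃ : Module.Dual K H} (h₁0 : χ₁ ≠ 0) (h₂0 : χ₂ ≠ 0) (h₃0 : χ₃ ≠ 0)
    (h₁ : rootSpace H (χ₁ : H → K) ≠ ⊥) (h₂ : rootSpace H (χ₂ : H → K) ≠ ⊥)
    (h₃ : rootSpace H (χ₃ : H → K) ≠ ⊥) (h12 : χ₁ ≠ χ₂) (h13 : χ₁ ≠ χ₃) (h23 : χ₂ ≠ χ₃) :
    Module.finrank K ((rootSpace H (χ₁ : H → K) : Submodule K L) ⊔
      (rootSpace H (χ₂ : H → K) : Submodule K L) ⊔
      (rootSpace H (χ₃ : H → K) : Submodule K L) : Submodule K L) = 3 := by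
  have hd := disjoint_sup_two (L := L) h13 h23
  have := Submodule.finrank_sup_add_finrank_inf_eq
    ((rootSpace H (χ₁ : H → K) : Submodule K L) ⊔ (rootSpace H (χ₂ : H → K) : Submodule K L))
    (rootSpace H (χ₃ : H → K) : Submodule K L)
  rw [hd.eq_bot, finrank_bot, finrank_sup_two h₁0 h₂0 h₁ h₂ h12, finrank_rs h₃0 h₃] at this
  omega

/-- An `H`-stable subspace not contained in `U` contains a weight vector outside `U`. -/
lemma exists_wt_not_mem (W : Submodule K L) (hWH : ∀ h : H, ∀ w ∈ W, ⁅(h : L), w⁆ ∈ W)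
    (U : Submodule K L) (hWU : ¬ W ≤ U) :
    ∃ (χ : Module.Dual K H) (w : L), w ∈ W ∧ w ∈ rootSpace H (χ : H → K) ∧ w ∉ U := by
  by_contra hcon
  push_neg at hcon
  apply hWU
  have hlm : ∀ (x : H) (m : L), m ∈ W → ⁅x, m⁆ ∈ W := fun x m hm => by
    rw [LieSubalgebra.coe_bracket_of_module]
    exact hWH x m hm
  let W' : LieSubmodule K H L := { W with lie_mem := fun {x m} hm => hlm x m hm }
  have h2 := LieModule.eq_iSup_inf_genWeightSpace K H L W'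
  have h3 : (W' : Submodule K L) ≤ U := by
    rw [h2, LieSubmodule.iSup_toSubmodule]
    refine iSup_le fun χ => ?_
    intro w hw
    rw [LieSubmodule.inf_toSubmodule] at hw
    exact hcon (Weight.toLinear K H L χ) w (Submodule.mem_inf.mp hw).1 (Submodule.mem_inf.mp hw).2
  exact h3

section rho

variable (ρ : Module.Dual K H) (hρ : rootSpace H (ρ : H → K) ≠ ⊥)
  (htop : ∀ i, rootSpace H ((ρ + b.baseSupp i : Module.Dual K H) : H → K) = ⊥)

include hρ htop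

/-- Climbing lemma. -/
theorem climb (W : Submodule K L) (hWe : ∀ i, ∀ w ∈ W, ⁅b.e i, w⁆ ∈ W)
    (P : Module.Dual K H → Prop)
    {χ : Module.Dual K H} {w : L} (hwW : w ∈ W) (hwχ : w ∈ rootSpace H (χ : H → K)) (hw0 : w ≠ 0)
    (hP : ¬ P χ) :
    ∃ (χ' : Module.Dual K H) (w' : L), w' ∈ W ∧ w' ∈ rootSpace H (χ' : H → K) ∧ w' ≠ 0 ∧ ¬ P χ' ∧
      ∀ i, ⁅b.e i, w'⁆ = 0 ∨ P (χ' + b.baseSupp i) := by
  classical
  obtain ⟨h₀, hk, hht⟩ := exists_height b ρ hρ htop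
  let T : ℕ → Prop := fun m => ∃ (χ' : Module.Dual K H) (w' : L), w' ∈ W ∧
    w' ∈ rootSpace H (χ' : H → K) ∧ w' ≠ 0 ∧ ¬ P χ' ∧ χ' h₀ + m = ρ h₀
  have hT : ∃ m, T m := by
    obtain ⟨m, hm⟩ := hht χ (rs_ne_bot_of_mem hwχ hw0)
    exact ⟨m, χ, w, hwW, hwχ, hw0, hP, hm⟩
  obtain ⟨χ', w', hw'W, hw'χ, hw'0, hP', hm⟩ := Nat.find_spec hT
  refine ⟨χ', w', hw'W, hw'χ, hw'0, hP', fun i => ?_⟩
  by_contra hcon
  push_neg at hcon
  obtain ⟨hne, hnP⟩ := hcon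
  have h1 := lie_e_mem b i hw'χ
  obtain ⟨m', hm'⟩ := hht _ (rs_ne_bot_of_mem h1 hne)
  have hTm' : T m' := ⟨_, _, hWe i w' hw'W, h1, hne, hnP, hm'⟩
  have hle := Nat.find_min' hT hTm'
  have h2 : ((m' + 1 : ℕ) : K) = (Nat.find hT : ℕ) := by
    have e : (χ' + b.baseSupp i) h₀ = χ' h₀ + 1 := by rw [LinearMap.add_apply, hk]
    rw [e] at hm'
    push_cast
    linear_combination hm' - hm
  have h3 : m' + 1 = Nat.find hT := by exact_mod_cast h2
  omega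

end rho

end Groth.Agent.Helper22.AdjVar
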