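import Mathlib
import Groth.Agent.Lib.Helper22.AdjVar2

/-!
# Helper22: Borel-stable subspaces (adjoint variety family), part 3: dimension 2 and 3
-/

set_option autoImplicit false
universe u v w
open LieAlgebra LieModule

namespace Groth.Agent.Helper22.AdjVar

variable {ι : Type u} {K : Type v} {L : Type w} [Fintype ι] [Field K] [CharZero K]
    [IsAlgClosed K] [LieRing L] [LieAlgebra K L] [FiniteDimensional K L] [LieAlgebra.IsSimple K L]
    {H : LieSubalgebra K L} [H.IsCartanSubalgebra] (b : LieAlgebra.Basis ι H)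

lemma alpha_self (j : ι) : b.baseSupp j (b.h' j) = 2 := by
  have : IsAddTorsionFree L := .of_isTorsionFree K L
  rw [b.baseSupp_apply_h', b.A_diag_eq_two]; norm_num

lemma e_mem_borel (i : ι) : b.e i ∈ (b.borelUpper : Submodule K L) :=
  LieSubalgebra.subset_lieSpan ⟨i, rfl⟩

lemma lie_e_ne_zero_of {χ : Module.Dual K H} (hχ0 : χ ≠ 0) {i : ι} {w' : L}
    (hw' : w' ∈ rootSpace H (χ : H → K)) (hne : ⁅b.e i, w'⁆ ≠ 0) {v : L}
    (hv : v ∈ rootSpace H (χ : H → K)) (hv0 : v ≠ 0) : ⁅b.e i, v⁆ ≠ 0 := by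
  obtain ⟨c, rfl⟩ := exists_smul_of_mem hχ0 hv hv0 hw'
  intro h
  apply hne
  rw [lie_smul, h, smul_zero]

/-- Stability under `H` and the `e i` gives stability under the Borel subalgebra. -/
lemma borel_stable_of (U : Submodule K L) (hH : ∀ h : H, ∀ w ∈ U, ⁅(h : L), w⁆ ∈ U)
    (hE : ∀ i, ∀ w ∈ U, ⁅b.e i, w⁆ ∈ U) :
    ∀ x ∈ H.toSubmodule ⊔ (b.borelUpper : Submodule K L), ∀ w ∈ U, ⁅x, w⁆ ∈ U := by
  have hB : ∀ z ∈ LieSubalgebra.lieSpan K L (Set.range b.e), ∀ w ∈ U, ⁅z, w⁆ ∈ U := by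
    intro z hz
    induction hz using LieSubalgebra.lieSpan_induction with
    | mem u hu => obtain ⟨k, rfl⟩ := hu; exact hE k
    | zero => intro m _; simp
    | add u v _ _ hu hv => intro m hm; rw [add_lie]; exact add_mem (hu m hm) (hv m hm)
    | smul t u _ hu => intro m hm; rw [smul_lie]; exact Submodule.smul_mem _ _ (hu m hm)
    | lie u v _ _ hu hv =>
      intro m hm; rw [lie_lie]; exact sub_mem (hu _ (hv m hm)) (hv _ (hu m hm))
  intro x hx w hw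
  obtain ⟨y, hy, z, hz, rfl⟩ := Submodule.mem_sup.mp hx
  rw [add_lie]
  exact add_mem (hH ⟨y, hy⟩ w hw) (hB z hz w hw)

lemma stable_H {W : Submodule K L}
    (hst : ∀ x ∈ H.toSubmodule ⊔ (b.borelUpper : Submodule K L), ∀ w ∈ W, ⁅x, w⁆ ∈ W) :
    ∀ h : H, ∀ w ∈ W, ⁅(h : L), w⁆ ∈ W :=
  fun h w hw => hst h (Submodule.mem_sup_left h.2) w hw

lemma stable_e {W : Submodule K L}
    (hst : ∀ x ∈ H.toSubmodule ⊔ (b.borelUpper : Submodule K L), ∀ w ∈ W, ⁅x, w⁆ ∈ W) :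
    ∀ i, ∀ w ∈ W, ⁅b.e i, w⁆ ∈ W :=
  fun i w hw => hst (b.e i) (Submodule.mem_sup_right (e_mem_borel b i)) w hw

section rho

variable (ρ : Module.Dual K H) (hρ : rootSpace H (ρ : H → K) ≠ ⊥)
  (htop : ∀ i, rootSpace H ((ρ + b.baseSupp i : Module.Dual K H) : H → K) = ⊥)

include hρ htop

lemma rho_chain (i : ι) : ∃ q : ℕ, ρ (b.h' i) = (q : K) ∧
    ∀ n : ℤ, rootSpace H ((ρ + n • b.baseSupp i : Module.Dual K H) : H → K) ≠ ⊥ ↔
      (-(q : ℤ) ≤ n ∧ n ≤ 0) := by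
  obtain ⟨p, q, hpq, hch⟩ := chain b i ρ hρ
  have hp : p = 0 := by
    by_contra hp
    have h1 := (hch 1).mpr ⟨by omega, by omega⟩
    rw [one_zsmul] at h1
    exact h1 (htop i)
  subst hp
  refine ⟨q, by rw [hpq, Nat.cast_zero, sub_zero], fun n => ?_⟩
  rw [hch n, Nat.cast_zero]

lemma lie_e_rho {v : L} (hv : v ∈ rootSpace H (ρ : H → K)) (i : ι) : ⁅b.e i, v⁆ = 0 := by
  have := lie_e_mem b i hv
  rw [htop i] at this
  exact (LieSubmodule.mem_bot _).mp this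

variable (j : ι) (hN : ∀ i, ρ (b.h' i) ≠ 0 ↔ i = j) (hj : ρ (b.h' j) = 1)

include hN hj

lemma rho_ne_zero : ρ ≠ 0 := by
  intro h
  rw [h] at hj
  simp at hj

lemma rho_sub_ne_zero : ρ - b.baseSupp j ≠ 0 := by
  intro h
  have h1 := congrArg (fun φ : Module.Dual K H => φ (b.h' j)) h
  simp only [LinearMap.sub_apply, hj, alpha_self, LinearMap.zero_apply] at h1
  norm_num at h1

lemma rho_sub_wt : rootSpace H ((ρ - b.baseSupp j : Module.Dual K H) : H → K) ≠ ⊥ := by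
  obtain ⟨q, hq, hch⟩ := rho_chain b ρ hρ htop j
  have hq1 : q = 1 := by
    rw [hj] at hq
    exact_mod_cast hq.symm
  have h1 := (hch (-1)).mpr ⟨by omega, by omega⟩
  rw [neg_one_zsmul, ← sub_eq_add_neg] at h1
  exact h1

lemma eq_j_of_sub_wt (i : ι)
    (h : rootSpace H ((ρ - b.baseSupp i : Module.Dual K H) : H → K) ≠ ⊥) : i = j :=
  (hN i).mp (ne_zero_of_sub_ne_bot b ρ hρ htop i h)

lemma rho_le (W : Submodule K L) (hWH : ∀ h : H, ∀ w ∈ W, ⁅(h : L), w⁆ ∈ W)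
    (hWe : ∀ i, ∀ w ∈ W, ⁅b.e i, w⁆ ∈ W) (hW0 : W ≠ ⊥) :
    (rootSpace H (ρ : H → K) : Submodule K L) ≤ W := by
  have h1 : ¬ W ≤ ⊥ := fun h => hW0 (le_bot_iff.mp h)
  obtain ⟨χ, w, hwW, hwχ, hwU⟩ := exists_wt_not_mem W hWH ⊥ h1
  have hw0 : w ≠ 0 := fun h => hwU (by rw [h]; exact zero_mem _)
  obtain ⟨χ', w', hw'W, hw'χ, hw'0, -, hstep⟩ :=
    climb b ρ hρ htop W hWe (fun _ => False) hwW hwχ hw0 (fun h => h)
  have he : ∀ i, ⁅b.e i, w'⁆ = 0 := fun i => (hstep i).resolve_right (fun h => h)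
  have hχ' : χ' = ρ := eq_rho_of_hw b ρ hρ htop hw'χ hw'0 he
  subst hχ'
  exact rs_le_of_mem (rho_ne_zero b χ' hρ htop j hN hj) hw'W hw'χ hw'0

lemma second_le (W : Submodule K L) (hWH : ∀ h : H, ∀ w ∈ W, ⁅(h : L), w⁆ ∈ W)
    (hWe : ∀ i, ∀ w ∈ W, ⁅b.e i, w⁆ ∈ W)
    (hW1 : ¬ W ≤ (rootSpace H (ρ : H → K) : Submodule K L)) :
    (rootSpace H ((ρ - b.baseSupp j : Module.Dual K H) : H → K) : Submodule K L) ≤ W ∧
      ∀ v ∈ rootSpace H ((ρ - b.baseSupp j : Module.Dual K H) : H → K), v ≠ 0 →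
        ⁅b.e j, v⁆ ≠ 0 := by
  obtain ⟨χ, w, hwW, hwχ, hwU⟩ := exists_wt_not_mem W hWH _ hW1
  have hw0 : w ≠ 0 := fun h => hwU (by rw [h]; exact zero_mem _)
  have hχρ : ¬ (χ = ρ) := fun h => hwU (by rw [h] at hwχ; exact hwχ)
  obtain ⟨χ', w', hw'W, hw'χ, hw'0, hP', hstep⟩ :=
    climb b ρ hρ htop W hWe (fun φ => φ = ρ) hwW hwχ hw0 hχρ
  have hex : ∃ i, ⁅b.e i, w'⁆ ≠ 0 := by
    by_contra hcon
    push_neg at hcon
    exact hP' (eq_rho_of_hw b ρ hρ htop hw'χ hw'0 hcon)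
  obtain ⟨i, hi⟩ := hex
  have h1 : χ' + b.baseSupp i = ρ := (hstep i).resolve_left hi
  have hχ' : χ' = ρ - b.baseSupp i := eq_sub_of_add_eq h1
  have hij : i = j := eq_j_of_sub_wt b ρ hρ htop j hN hj i
    (by rw [← hχ']; exact rs_ne_bot_of_mem hw'χ hw'0)
  rw [hij] at hχ' hi
  rw [hχ'] at hw'χ
  have h20 := rho_sub_ne_zero b ρ hρ htop j hN hj
  exact ⟨rs_le_of_mem h20 hw'W hw'χ hw'0,
    fun v hv hv0 => lie_e_ne_zero_of b h20 hw'χ hi hv hv0⟩

lemma third (W : Submodule K L) (hWH : ∀ h : H, ∀ w ∈ W, ⁅(h : L), w⁆ ∈ W)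
    (hWe : ∀ i, ∀ w ∈ W, ⁅b.e i, w⁆ ∈ W)
    (hW2 : ¬ W ≤ (rootSpace H (ρ : H → K) : Submodule K L) ⊔
      (rootSpace H ((ρ - b.baseSupp j : Module.Dual K H) : H → K) : Submodule K L)) :
    ∃ i, i ≠ j ∧ b.A i j ≠ 0 ∧ (ρ - b.baseSupp j - b.baseSupp i ≠ 0) ∧
      rootSpace H ((ρ - b.baseSupp j - b.baseSupp i : Module.Dual K H) : H → K) ≠ ⊥ ∧
      (rootSpace H ((ρ - b.baseSupp j - b.baseSupp i : Module.Dual K H) : H → K) :
        Submodule K L) ≤ W ∧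
      ∀ v ∈ rootSpace H ((ρ - b.baseSupp j - b.baseSupp i : Module.Dual K H) : H → K), v ≠ 0 →
        ⁅b.e i, v⁆ ≠ 0 := by
  obtain ⟨χ, w, hwW, hwχ, hwU⟩ := exists_wt_not_mem W hWH _ hW2
  have hw0 : w ≠ 0 := fun h => hwU (by rw [h]; exact zero_mem _)
  have hP : ¬ (χ = ρ ∨ χ = ρ - b.baseSupp j) := by
    rintro (h | h)
    · exact hwU (Submodule.mem_sup_left (by rw [h] at hwχ; exact hwχ))
    · exact hwU (Submodule.mem_sup_right (by rw [h] at hwχ; exact hwχ))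
  obtain ⟨χ', w', hw'W, hw'χ, hw'0, hP', hstep⟩ :=
    climb b ρ hρ htop W hWe (fun φ => φ = ρ ∨ φ = ρ - b.baseSupp j) hwW hwχ hw0 hP
  have hex : ∃ i, ⁅b.e i, w'⁆ ≠ 0 := by
    by_contra hcon
    push_neg at hcon
    exact hP' (Or.inl (eq_rho_of_hw b ρ hρ htop hw'χ hw'0 hcon))
  obtain ⟨i, hi⟩ := hex
  have hχ'wt := rs_ne_bot_of_mem hw'χ hw'0
  rcases (hstep i).resolve_left hi with h1 | h1
  · have hχ' : χ' = ρ - b.baseSupp i := eq_sub_of_add_eq h1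
    have hij : i = j := eq_j_of_sub_wt b ρ hρ htop j hN hj i (by rw [← hχ']; exact hχ'wt)
    exact absurd (Or.inr (by rw [hχ', hij])) hP'
  · have hχ' : χ' = ρ - b.baseSupp j - b.baseSupp i := eq_sub_of_add_eq h1
    rw [hχ'] at hw'χ hχ'wt
    have hij : i ≠ j := by
      intro hij
      rw [hij] at hχ'wt
      obtain ⟨q, hq, hch⟩ := rho_chain b ρ hρ htop j
      have hq1 : q = 1 := by
        rw [hj] at hq
        exact_mod_cast hq.symm
      have e : (ρ - b.baseSupp j - b.baseSupp j : Module.Dual K H) =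
          ρ + (-2 : ℤ) • b.baseSupp j := by module
      rw [e] at hχ'wt
      have := (hch (-2)).mp hχ'wt
      omega
    have hA : b.A i j ≠ 0 := by
      intro hA
      obtain ⟨p', q', hpq', hch'⟩ := chain b j _ hχ'wt
      have hval : (ρ - b.baseSupp j - b.baseSupp i : Module.Dual K H) (b.h' j) = -1 := by
        rw [LinearMap.sub_apply, LinearMap.sub_apply, hj, alpha_self b j, b.baseSupp_apply_h', hA]
        norm_num
      rw [hval] at hpq'
      have hp' : 1 ≤ p' := by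
        by_contra hp0
        have hp0' : p' = 0 := by omega
        rw [hp0', Nat.cast_zero, sub_zero] at hpq'
        have h3 : (q' : K) + 1 = 0 := by linear_combination -hpq'
        exact Nat.cast_add_one_ne_zero q' h3
      have h2 := (hch' 1).mpr ⟨by omega, by omega⟩
      have e : (ρ - b.baseSupp j - b.baseSupp i + (1 : ℤ) • b.baseSupp j : Module.Dual K H) =
          ρ - b.baseSupp i := by module
      rw [e] at h2
      exact hij (eq_j_of_sub_wt b ρ hρ htop j hN hj i h2)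
    have h30 : ρ - b.baseSupp j - b.baseSupp i ≠ 0 := by
      intro h
      have e : ρ = b.baseSupp j + b.baseSupp i := by
        rw [sub_sub] at h
        exact sub_eq_zero.mp h
      have h2 : rootSpace H ((ρ - b.baseSupp i : Module.Dual K H) : H → K) ≠ ⊥ := by
        rw [e, add_sub_cancel_right]
        exact rs_ne_bot_of_mem (e_mem b j) (b.sl2 j).e_ne_zero
      exact hij (eq_j_of_sub_wt b ρ hρ htop j hN hj i h2)
    exact ⟨i, hij, hA, h30, hχ'wt, rs_le_of_mem h30 hw'W hw'χ hw'0,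
      fun v hv hv0 => lie_e_ne_zero_of b h30 hw'χ hi hv hv0⟩

end rho

end Groth.Agent.Helper22.AdjVar
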