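import Mathlib
import Groth.Agent.Lib.Helper22.AdjVar3

/-!
# Helper22: Borel-stable subspaces (adjoint variety family), part 4: main structure theorems
-/

set_option autoImplicit false
universe u v w
open LieAlgebra LieModule

namespace Groth.Agent.Helper22.AdjVar

variable {ι : Type u} {K : Type v} {L : Type w} [Fintype ι] [Field K] [CharZero K]
    [IsAlgClosed K] [LieRing L] [LieAlgebra K L] [FiniteDimensional K L] [LieAlgebra.IsSimple K L]
    {H : LieSubalgebra K L} [H.IsCartanSubalgebra] (b : LieAlgebra.Basis ι H)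

variable (ρ : Module.Dual K H) (hρ : rootSpace H (ρ : H → K) ≠ ⊥)
  (htop : ∀ i, rootSpace H ((ρ + b.baseSupp i : Module.Dual K H) : H → K) = ⊥)
  (j : ι) (hN : ∀ i, ρ (b.h' i) ≠ 0 ↔ i = j) (hj : ρ (b.h' j) = 1)

include hρ htop hN hj

lemma U2_stable : ∀ x ∈ H.toSubmodule ⊔ (b.borelUpper : Submodule K L),
    ∀ w ∈ (rootSpace H (ρ : H → K) : Submodule K L) ⊔
      (rootSpace H ((ρ - b.baseSupp j : Module.Dual K H) : H → K) : Submodule K L),
    ⁅x, w⁆ ∈ (rootSpace H (ρ : H → K) : Submodule K L) ⊔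
      (rootSpace H ((ρ - b.baseSupp j : Module.Dual K H) : H → K) : Submodule K L) := by
  apply borel_stable_of b
  · intro h w hw
    obtain ⟨w₁, hw₁, w₂, hw₂, rfl⟩ := Submodule.mem_sup.mp hw
    have hw₁' : w₁ ∈ rootSpace H (ρ : H → K) := hw₁
    have hw₂' : w₂ ∈ rootSpace H ((ρ - b.baseSupp j : Module.Dual K H) : H → K) := hw₂
    rw [lie_add, lie_h_eq hw₁' h, lie_h_eq hw₂' h]
    exact add_mem (Submodule.mem_sup_left (Submodule.smul_mem _ _ hw₁))
      (Submodule.mem_sup_right (Submodule.smul_mem _ _ hw₂))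
  · intro i w hw
    obtain ⟨w₁, hw₁, w₂, hw₂, rfl⟩ := Submodule.mem_sup.mp hw
    have hw₁' : w₁ ∈ rootSpace H (ρ : H → K) := hw₁
    have hw₂' : w₂ ∈ rootSpace H ((ρ - b.baseSupp j : Module.Dual K H) : H → K) := hw₂
    rw [lie_add, lie_e_rho b ρ hρ htop hw₁' i, zero_add]
    have h2 := lie_e_mem b i hw₂'
    by_cases hij : i = j
    · rw [hij] at h2 ⊢
      refine Submodule.mem_sup_left ?_
      exact mem_rs_of_eq h2 (fun x => by simp)
    · rw [not_wt_sub_add b ρ hρ htop hij] at h2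
      rw [(LieSubmodule.mem_bot _).mp h2]
      exact zero_mem _

lemma rho_ne_rho_sub : ρ ≠ ρ - b.baseSupp j := by
  intro h
  have h1 : b.baseSupp j = 0 := sub_eq_self.mp h.symm
  exact b.linearIndependent_baseSupp.ne_zero j h1

lemma finrank_U2 : Module.finrank K ((rootSpace H (ρ : H → K) : Submodule K L) ⊔
      (rootSpace H ((ρ - b.baseSupp j : Module.Dual K H) : H → K) : Submodule K L) :
        Submodule K L) = 2 :=
  finrank_sup_two (rho_ne_zero b ρ hρ htop j hN hj) (rho_sub_ne_zero b ρ hρ htop j hN hj) hρ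
    (rho_sub_wt b ρ hρ htop j hN hj) (rho_ne_rho_sub b ρ hρ htop j hN hj)

theorem twoDim_iff (W : Submodule K L) :
    (Module.finrank K W = 2 ∧
        ∀ x ∈ H.toSubmodule ⊔ (b.borelUpper : Submodule K L), ∀ w ∈ W, ⁅x, w⁆ ∈ W) ↔
      W = (rootSpace H (ρ : H → K) : Submodule K L) ⊔
        (rootSpace H ((ρ - b.baseSupp j : Module.Dual K H) : H → K) : Submodule K L) := by
  have h10 := rho_ne_zero b ρ hρ htop j hN hj
  have hfr := finrank_U2 b ρ hρ htop j hN hj
  constructor
  · rintro ⟨hW, hst⟩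
    have hWH := stable_H b hst
    have hWe := stable_e b hst
    have hW0 : W ≠ ⊥ := by
      intro h; rw [h, finrank_bot] at hW; omega
    have hle1 := rho_le b ρ hρ htop j hN hj W hWH hWe hW0
    have hW1 : ¬ W ≤ (rootSpace H (ρ : H → K) : Submodule K L) := by
      intro h
      have := Submodule.finrank_mono h
      rw [finrank_rs h10 hρ, hW] at this
      omega
    have hle2 := (second_le b ρ hρ htop j hN hj W hWH hWe hW1).1
    exact (Submodule.eq_of_le_of_finrank_eq (sup_le hle1 hle2) (by rw [hfr, hW])).symm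
  · rintro rfl
    exact ⟨hfr, U2_stable b ρ hρ htop j hN hj⟩

theorem threeDim_struct (W : Submodule K L) (hW : Module.finrank K W = 3)
    (hst : ∀ x ∈ H.toSubmodule ⊔ (b.borelUpper : Submodule K L), ∀ w ∈ W, ⁅x, w⁆ ∈ W) :
    (rootSpace H (ρ : H → K) : Submodule K L) ⊔
        (rootSpace H ((ρ - b.baseSupp j : Module.Dual K H) : H → K) : Submodule K L) ≤ W ∧
      ∃ i : ι, i ≠ j ∧ b.A i j ≠ 0 ∧ (ρ - b.baseSupp j - b.baseSupp i ≠ 0) ∧
        rootSpace H ((ρ - b.baseSupp j - b.baseSupp i : Module.Dual K H) : H → K) ≠ ⊥ ∧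
        W = (rootSpace H (ρ : H → K) : Submodule K L) ⊔
          (rootSpace H ((ρ - b.baseSupp j : Module.Dual K H) : H → K) : Submodule K L) ⊔
          (rootSpace H ((ρ - b.baseSupp j - b.baseSupp i : Module.Dual K H) : H → K) :
            Submodule K L) ∧
        (∀ v ∈ rootSpace H ((ρ - b.baseSupp j : Module.Dual K H) : H → K), v ≠ 0 →
          ⁅b.e j, v⁆ ≠ 0) ∧
        (∀ v ∈ rootSpace H ((ρ - b.baseSupp j - b.baseSupp i : Module.Dual K H) : H → K), v ≠ 0 →
          ⁅b.e i, v⁆ ≠ 0) := by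
  classical
  have h10 := rho_ne_zero b ρ hρ htop j hN hj
  have h20 := rho_sub_ne_zero b ρ hρ htop j hN hj
  have h2wt := rho_sub_wt b ρ hρ htop j hN hj
  have h12 := rho_ne_rho_sub b ρ hρ htop j hN hj
  have hfr := finrank_U2 b ρ hρ htop j hN hj
  have hWH := stable_H b hst
  have hWe := stable_e b hst
  have hW0 : W ≠ ⊥ := by
    intro h; rw [h, finrank_bot] at hW; omega
  have hle1 := rho_le b ρ hρ htop j hN hj W hWH hWe hW0
  have hW1 : ¬ W ≤ (rootSpace H (ρ : H → K) : Submodule K L) := by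
    intro h
    have := Submodule.finrank_mono h
    rw [finrank_rs h10 hρ, hW] at this
    omega
  obtain ⟨hle2, hne2⟩ := second_le b ρ hρ htop j hN hj W hWH hWe hW1
  have hW2 : ¬ W ≤ (rootSpace H (ρ : H → K) : Submodule K L) ⊔
      (rootSpace H ((ρ - b.baseSupp j : Module.Dual K H) : H → K) : Submodule K L) := by
    intro h
    have := Submodule.finrank_mono h
    rw [hfr, hW] at this
    omega
  obtain ⟨i, hij, hA, h30, h3wt, hle3, hne3⟩ := third b ρ hρ htop j hN hj W hWH hWe hW2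
  refine ⟨sup_le hle1 hle2, i, hij, hA, h30, h3wt, ?_, hne2, hne3⟩
  have h23 : ρ - b.baseSupp j ≠ ρ - b.baseSupp j - b.baseSupp i := by
    intro h
    have h1 : b.baseSupp i = 0 := sub_eq_self.mp h.symm
    exact b.linearIndependent_baseSupp.ne_zero i h1
  have h13 : ρ ≠ ρ - b.baseSupp j - b.baseSupp i := by
    intro h
    rw [sub_sub] at h
    have h0 : b.baseSupp j + b.baseSupp i = 0 := sub_eq_self.mp h.symm
    obtain ⟨ω, hω⟩ := exists_omega b
    have h1 := congrArg (fun φ : Module.Dual K H => φ (ω j)) h0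
    simp [hω, hij] at h1
  have hfr3 := finrank_sup_three (L := L) h10 h20 h30 hρ h2wt h3wt h12 h13 h23
  exact (Submodule.eq_of_le_of_finrank_eq (sup_le (sup_le hle1 hle2) hle3)
    (by rw [hfr3, hW])).symm

end Groth.Agent.Helper22.AdjVar
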