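import Mathlib
import Groth.Agent.Lib.Helper22.AdjVar4

/-!
# Helper22: Borel semi-invariant quadratic forms on Borel-stable 3-dimensional subspaces
-/

set_option autoImplicit false
universe u v w
open LieAlgebra LieModule

namespace Groth.Agent.Helper22.AdjVar

section qf

variable {K : Type v} [Field K] [CharZero K]

lemma qf_aux (A B C Pab Pac Pbc lam κ : K) (hlam : lam ≠ 0)
    (E1 : 0 = κ * A) (E2 : 0 = κ * C) (E3 : lam * Pab = κ * B)
    (E4 : lam * (2 * A + Pab) = κ * (A + B + Pab))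
    (E5 : lam * (Pab + Pac) = κ * (B + C + Pbc))
    (E6 : 0 = κ * (A + C + Pac)) : A = 0 ∧ Pab = 0 ∧ Pac = 0 := by
  have F1 : 2 * lam * A = κ * Pab := by linear_combination E4 - E3 - E1
  by_cases hκ : κ = 0
  · subst hκ
    have hA : A = 0 := by
      have h1 : 2 * lam * A = 0 := by rw [F1]; ring
      have h2 : (2 : K) * lam ≠ 0 := mul_ne_zero two_ne_zero hlam
      exact (mul_eq_zero.mp h1).resolve_left h2
    have hPab : Pab = 0 := by
      have h1 : lam * Pab = 0 := by rw [E3]; ring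
      exact (mul_eq_zero.mp h1).resolve_left hlam
    have hPac : Pac = 0 := by
      have h1 : lam * (Pab + Pac) = 0 := by rw [E5]; ring
      have h2 := (mul_eq_zero.mp h1).resolve_left hlam
      rw [hPab, zero_add] at h2
      exact h2
    exact ⟨hA, hPab, hPac⟩
  · have hA : A = 0 := (mul_eq_zero.mp E1.symm).resolve_left hκ
    have hC : C = 0 := (mul_eq_zero.mp E2.symm).resolve_left hκ
    have hPab : Pab = 0 := by
      have h1 : κ * Pab = 0 := by rw [← F1, hA]; ring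
      exact (mul_eq_zero.mp h1).resolve_left hκ
    have hPac : Pac = 0 := by
      have h1 := (mul_eq_zero.mp E6.symm).resolve_left hκ
      rw [hA, hC, zero_add, zero_add] at h1
      exact h1
    exact ⟨hA, hPab, hPac⟩

lemma qf_rad {V : Type*} [AddCommGroup V] [Module K V] (q : QuadraticForm K V) (a b c : V)
    (lam κ : K) (hlam : lam ≠ 0)
    (E : ∀ (s t r : K), (lam * t) * QuadraticMap.polar q a (s • a + t • b + r • c) =
      κ * q (s • a + t • b + r • c)) :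
    q a = 0 ∧ QuadraticMap.polar q a b = 0 ∧ QuadraticMap.polar q a c = 0 := by
  have E1 := E 1 0 0
  have E2 := E 0 0 1
  have E3 := E 0 1 0
  have E4 := E 1 1 0
  have E5 := E 0 1 1
  have E6 := E 1 0 1
  simp only [one_smul, zero_smul, add_zero, zero_add, mul_zero, mul_one, zero_mul]
    at E1 E2 E3 E4 E5 E6
  rw [QuadraticMap.map_add (⇑q) a b, QuadraticMap.polar_add_right, QuadraticMap.polar_self] at E4
  rw [QuadraticMap.map_add (⇑q) b c, QuadraticMap.polar_add_right] at E5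
  rw [QuadraticMap.map_add (⇑q) a c] at E6
  refine qf_aux (q a) (q b) (q c) (QuadraticMap.polar q a b) (QuadraticMap.polar q a c)
    (QuadraticMap.polar q b c) lam κ hlam E1 E2 E3 ?_ E5 E6
  rw [← E4]
  simp only [nsmul_eq_mul, Nat.cast_ofNat]

end qf

variable {ι : Type u} {K : Type v} {L : Type w} [Fintype ι] [Field K] [CharZero K]
    [IsAlgClosed K] [LieRing L] [LieAlgebra K L] [FiniteDimensional K L] [LieAlgebra.IsSimple K L]
    {H : LieSubalgebra K L} [H.IsCartanSubalgebra] (b : LieAlgebra.Basis ι H)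

variable (ρ : Module.Dual K H) (hρ : rootSpace H (ρ : H → K) ≠ ⊥)
  (htop : ∀ i, rootSpace H ((ρ + b.baseSupp i : Module.Dual K H) : H → K) = ⊥)
  (j : ι) (hN : ∀ i, ρ (b.h' i) ≠ 0 ↔ i = j) (hj : ρ (b.h' j) = 1)

include hρ htop hN hj

set_option maxHeartbeats 800000 in
theorem quad_main (W : Submodule K L) (hW : Module.finrank K W = 3)
    (hst : ∀ x ∈ H.toSubmodule ⊔ (b.borelUpper : Submodule K L), ∀ w ∈ W, ⁅x, w⁆ ∈ W)
    (q : QuadraticForm K W)
    (hq : ∀ (x : L) (hx : x ∈ H.toSubmodule ⊔ (b.borelUpper : Submodule K L)), ∃ c : K, ∀ w : W,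
      QuadraticMap.polar q ⟨⁅x, (w : L)⁆, hst x hx w w.property⟩ w = c * q w) :
    ∃ (ℓ : Module.Dual K W) (c : K), ∀ w : W, q w = c * ℓ w ^ 2 := by
  classical
  obtain ⟨hU2le, i, hij, hA, h30, h3wt, hWeq, hne2, hne3⟩ :=
    threeDim_struct b ρ hρ htop j hN hj W hW hst
  have h10 := rho_ne_zero b ρ hρ htop j hN hj
  have h20 := rho_sub_ne_zero b ρ hρ htop j hN hj
  have h2wt := rho_sub_wt b ρ hρ htop j hN hj
  obtain ⟨v₁, hv₁, hv₁0⟩ := exists_mem_ne_zero hρ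
  obtain ⟨v₂, hv₂, hv₂0⟩ := exists_mem_ne_zero h2wt
  obtain ⟨v₃, hv₃, hv₃0⟩ := exists_mem_ne_zero h3wt
  have hv₁W : v₁ ∈ W := hU2le (Submodule.mem_sup_left hv₁)
  have hv₂W : v₂ ∈ W := hU2le (Submodule.mem_sup_right hv₂)
  have hv₃W : v₃ ∈ W := by rw [hWeq]; exact Submodule.mem_sup_right hv₃
  -- brackets with e_j
  have ej1 : ⁅b.e j, v₁⁆ = 0 := lie_e_rho b ρ hρ htop hv₁ j
  obtain ⟨lam, hlam⟩ : ∃ lam : K, ⁅b.e j, v₂⁆ = lam • v₁ := by
    have h := lie_e_mem b j hv₂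
    have h' : ⁅b.e j, v₂⁆ ∈ rootSpace H (ρ : H → K) := mem_rs_of_eq h (fun x => by simp)
    exact exists_smul_of_mem h10 hv₁ hv₁0 h'
  have hlam0 : lam ≠ 0 := by
    intro h0; exact hne2 v₂ hv₂ hv₂0 (by rw [hlam, h0, zero_smul])
  have ej3 : ⁅b.e j, v₃⁆ = 0 := by
    have h := lie_e_mem b j hv₃
    have h' : ⁅b.e j, v₃⁆ ∈ rootSpace H ((ρ - b.baseSupp i : Module.Dual K H) : H → K) :=
      mem_rs_of_eq h (fun x => by
        simp only [LinearMap.sub_apply, LinearMap.add_apply]; ring)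
    by_contra hne
    exact hij (eq_j_of_sub_wt b ρ hρ htop j hN hj i (rs_ne_bot_of_mem h' hne))
  -- brackets with e_i
  have ei1 : ⁅b.e i, v₁⁆ = 0 := lie_e_rho b ρ hρ htop hv₁ i
  have ei2 : ⁅b.e i, v₂⁆ = 0 := by
    have h := lie_e_mem b i hv₂
    rw [not_wt_sub_add b ρ hρ htop hij] at h
    exact (LieSubmodule.mem_bot _).mp h
  obtain ⟨mu, hmu⟩ : ∃ mu : K, ⁅b.e i, v₃⁆ = mu • v₂ := by
    have h := lie_e_mem b i hv₃
    have h' : ⁅b.e i, v₃⁆ ∈ rootSpace H ((ρ - b.baseSupp j : Module.Dual K H) : H → K) :=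
      mem_rs_of_eq h (fun x => by simp)
    exact exists_smul_of_mem h20 hv₂ hv₂0 h'
  have hmu0 : mu ≠ 0 := by
    intro h0; exact hne3 v₃ hv₃ hv₃0 (by rw [hmu, h0, zero_smul])
  -- elements of W
  let u₁ : W := ⟨v₁, hv₁W⟩
  let u₂ : W := ⟨v₂, hv₂W⟩
  let u₃ : W := ⟨v₃, hv₃W⟩
  have hdec : ∀ w : W, ∃ x₁ x₂ x₃ : K, w = x₁ • u₁ + x₂ • u₂ + x₃ • u₃ := by
    intro w
    have hw : (w : L) ∈ (rootSpace H (ρ : H → K) : Submodule K L) ⊔
          (rootSpace H ((ρ - b.baseSupp j : Module.Dual K H) : H → K) : Submodule K L) ⊔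
          (rootSpace H ((ρ - b.baseSupp j - b.baseSupp i : Module.Dual K H) : H → K) :
            Submodule K L) := by
      rw [← hWeq]; exact w.2
    obtain ⟨w12, hw12, w3, hw3, hsum⟩ := Submodule.mem_sup.mp hw
    obtain ⟨w1, hw1, w2, hw2, rfl⟩ := Submodule.mem_sup.mp hw12
    obtain ⟨x₁, rfl⟩ := exists_smul_of_mem h10 hv₁ hv₁0 hw1
    obtain ⟨x₂, rfl⟩ := exists_smul_of_mem h20 hv₂ hv₂0 hw2
    obtain ⟨x₃, rfl⟩ := exists_smul_of_mem h30 hv₃ hv₃0 hw3
    exact ⟨x₁, x₂, x₃, Subtype.ext hsum.symm⟩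
  have key : ∀ (x : L) (hx : x ∈ H.toSubmodule ⊔ (b.borelUpper : Submodule K L)) (w u : W)
      (_ : ⁅x, (w : L)⁆ = (u : L)) (c : K),
      (∀ w' : W, QuadraticMap.polar q ⟨⁅x, (w' : L)⁆, hst x hx w' w'.property⟩ w' = c * q w') →
      QuadraticMap.polar q u w = c * q w := by
    intro x hx w u hu c hc
    have h1 := hc w
    have e : (⟨⁅x, (w : L)⁆, hst x hx w w.property⟩ : W) = u := Subtype.ext hu
    rw [e] at h1
    exact h1
  -- semi-invariance under e_j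
  have hxj : b.e j ∈ H.toSubmodule ⊔ (b.borelUpper : Submodule K L) :=
    Submodule.mem_sup_right (e_mem_borel b j)
  obtain ⟨κ, hκ⟩ := hq (b.e j) hxj
  have Ej : ∀ s t r : K, (lam * t) * QuadraticMap.polar q u₁ (s • u₁ + t • u₂ + r • u₃) =
      κ * q (s • u₁ + t • u₂ + r • u₃) := by
    intro s t r
    have h1 := key (b.e j) hxj (s • u₁ + t • u₂ + r • u₃) ((lam * t) • u₁) (by
      show ⁅b.e j, s • v₁ + t • v₂ + r • v₃⁆ = (lam * t) • v₁
      rw [lie_add, lie_add, lie_smul, lie_smul, lie_smul, ej1, hlam, ej3, smul_zero, smul_zero,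
        zero_add, add_zero, smul_smul, mul_comm]) κ hκ
    rw [QuadraticMap.polar_smul_left, smul_eq_mul] at h1
    exact h1
  obtain ⟨hq1, hP12, hP13⟩ := qf_rad q u₁ u₂ u₃ lam κ hlam0 Ej
  -- semi-invariance under e_i
  have hxi : b.e i ∈ H.toSubmodule ⊔ (b.borelUpper : Submodule K L) :=
    Submodule.mem_sup_right (e_mem_borel b i)
  obtain ⟨κ', hκ'⟩ := hq (b.e i) hxi
  have Ei : ∀ s t r : K, (mu * t) * QuadraticMap.polar q u₂ (s • u₂ + t • u₃ + r • u₁) =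
      κ' * q (s • u₂ + t • u₃ + r • u₁) := by
    intro s t r
    have h1 := key (b.e i) hxi (s • u₂ + t • u₃ + r • u₁) ((mu * t) • u₂) (by
      show ⁅b.e i, s • v₂ + t • v₃ + r • v₁⁆ = (mu * t) • v₂
      rw [lie_add, lie_add, lie_smul, lie_smul, lie_smul, ei2, hmu, ei1, smul_zero, smul_zero,
        zero_add, add_zero, smul_smul, mul_comm]) κ' hκ'
    rw [QuadraticMap.polar_smul_left, smul_eq_mul] at h1
    exact h1
  obtain ⟨hq2, hP23, hP21⟩ := qf_rad q u₂ u₃ u₁ mu κ' hmu0 Ei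
  -- the basis
  have hspan : ⊤ ≤ Submodule.span K (Set.range ![u₁, u₂, u₃]) := by
    intro w _
    obtain ⟨x₁, x₂, x₃, rfl⟩ := hdec w
    refine add_mem (add_mem ?_ ?_) ?_
    · exact Submodule.smul_mem _ _ (Submodule.subset_span ⟨0, rfl⟩)
    · exact Submodule.smul_mem _ _ (Submodule.subset_span ⟨1, rfl⟩)
    · exact Submodule.smul_mem _ _ (Submodule.subset_span ⟨2, rfl⟩)
  let B := basisOfTopLeSpanOfCardEqFinrank ![u₁, u₂, u₃] hspan (by rw [hW]; simp)
  have hB : ⇑B = ![u₁, u₂, u₃] := coe_basisOfTopLeSpanOfCardEqFinrank _ _ _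
  have hB0 : B 0 = u₁ := by rw [hB]; rfl
  have hB1 : B 1 = u₂ := by rw [hB]; rfl
  have hB2 : B 2 = u₃ := by rw [hB]; rfl
  refine ⟨B.coord 2, q u₃, fun w => ?_⟩
  obtain ⟨x₁, x₂, x₃, rfl⟩ := hdec w
  have hℓ : B.coord 2 (x₁ • u₁ + x₂ • u₂ + x₃ • u₃) = x₃ := by
    rw [← hB0, ← hB1, ← hB2]
    simp [Module.Basis.coord_apply, Module.Basis.repr_self, Finsupp.single_apply]
  rw [hℓ]
  rw [QuadraticMap.map_add (⇑q) (x₁ • u₁ + x₂ • u₂) (x₃ • u₃),
    QuadraticMap.map_add (⇑q) (x₁ • u₁) (x₂ • u₂)]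
  simp only [QuadraticMap.map_smul, QuadraticMap.polar_add_left, QuadraticMap.polar_smul_left,
    QuadraticMap.polar_smul_right, hq1, hq2, hP12, hP13, hP23, smul_eq_mul, mul_zero, add_zero,
    zero_add]
  ring

end Groth.Agent.Helper22.AdjVar
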