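import Mathlib

/-!
# The five-dimensional Lie algebra `sl₂ ⋉ V(1)`: radical (abstract part)
-/

set_option autoImplicit false
set_option linter.unusedSectionVars false
set_option linter.unusedVariables false

namespace Groth.Agent.Helper22.AdjVar

section SpanClosed

variable {K : Type*} [CommRing K] {L : Type*} [LieRing L] [LieAlgebra K L]

lemma span_lie_closed {ι' : Type*} (v : ι' → L)
    (h : ∀ a c, ⁅v a, v c⁆ ∈ Submodule.span K (Set.range v)) :
    ∀ x ∈ Submodule.span K (Set.range v), ∀ y ∈ Submodule.span K (Set.range v),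
      ⁅x, y⁆ ∈ Submodule.span K (Set.range v) := by
  intro x hx y hy
  induction hx using Submodule.span_induction with
  | mem x hx =>
    obtain ⟨a, rfl⟩ := hx
    induction hy using Submodule.span_induction with
    | mem y hy =>
      obtain ⟨c, rfl⟩ := hy
      exact h a c
    | zero => rw [lie_zero]; exact Submodule.zero_mem _
    | add y z _ _ hy hz => rw [lie_add]; exact Submodule.add_mem _ hy hz
    | smul r y _ hy => rw [lie_smul]; exact Submodule.smul_mem _ r hy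
  | zero => rw [zero_lie]; exact Submodule.zero_mem _
  | add x z _ _ hx hz => rw [add_lie]; exact Submodule.add_mem _ hx hz
  | smul r x _ hx => rw [smul_lie]; exact Submodule.smul_mem _ r hx

end SpanClosed

section Abstract5

variable {K : Type*} [Field K] [CharZero K] {M : Type*} [LieRing M] [LieAlgebra K M]

/-- an `sl₂`-triple inside an ideal persists in its derived series -/
lemma sl2_mem_derived (I : LieIdeal K M) (e f h : M)
    (h1 : ⁅h, e⁆ = (2 : K) • e) (h2 : ⁅h, f⁆ = -((2 : K) • f)) (h3 : ⁅e, f⁆ = h)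
    (he : e ∈ I) (hf : f ∈ I) (hh : h ∈ I) (k : ℕ) :
    e ∈ LieAlgebra.derivedSeriesOfIdeal K M k I ∧ f ∈ LieAlgebra.derivedSeriesOfIdeal K M k I ∧
      h ∈ LieAlgebra.derivedSeriesOfIdeal K M k I := by
  induction k with
  | zero => exact ⟨he, hf, hh⟩
  | succ k ih =>
    obtain ⟨ie, iff, ihh⟩ := ih
    rw [LieAlgebra.derivedSeriesOfIdeal_succ]
    have e1 : e = (2 : K)⁻¹ • ⁅h, e⁆ := by
      rw [h1, smul_smul, inv_mul_cancel₀ (two_ne_zero), one_smul]
    have e2 : f = (-(2 : K)⁻¹) • ⁅h, f⁆ := by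
      rw [h2, smul_neg, neg_smul, neg_neg, smul_smul, inv_mul_cancel₀ (two_ne_zero), one_smul]
    refine ⟨?_, ?_, ?_⟩
    · rw [e1]
      exact SMulMemClass.smul_mem _ (LieSubmodule.lie_mem_lie ihh ie)
    · rw [e2]
      exact SMulMemClass.smul_mem _ (LieSubmodule.lie_mem_lie ihh iff)
    · rw [← h3]
      exact LieSubmodule.lie_mem_lie ie iff

variable [IsNoetherian K M]

theorem radical_eq_span (v1 v2 v3 v4 v5 : M)
    (hspan : ∀ x : M, ∃ c1 c2 c3 c4 c5 : K,
      x = c1 • v1 + c2 • v2 + c3 • v3 + c4 • v4 + c5 • v5)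
    (hv1 : v1 ≠ 0)
    (T12 : ⁅v1, v2⁆ = v3) (T13 : ⁅v1, v3⁆ = -((2 : K) • v1)) (T14 : ⁅v1, v4⁆ = 0)
    (T15 : ⁅v1, v5⁆ = v4) (T23 : ⁅v2, v3⁆ = (2 : K) • v2) (T24 : ⁅v2, v4⁆ = v5)
    (T25 : ⁅v2, v5⁆ = 0) (T34 : ⁅v3, v4⁆ = v4) (T35 : ⁅v3, v5⁆ = -v5) (T45 : ⁅v4, v5⁆ = 0) :
    (LieAlgebra.radical K M).toSubmodule = Submodule.span K {v4, v5} := by
  have T21 : ⁅v2, v1⁆ = -v3 := by rw [← lie_skew, T12]
  have T31 : ⁅v3, v1⁆ = (2 : K) • v1 := by rw [← lie_skew, T13, neg_neg]
  have T41 : ⁅v4, v1⁆ = 0 := by rw [← lie_skew, T14, neg_zero]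
  have T51 : ⁅v5, v1⁆ = -v4 := by rw [← lie_skew, T15]
  have T32 : ⁅v3, v2⁆ = -((2 : K) • v2) := by rw [← lie_skew, T23]
  have T42 : ⁅v4, v2⁆ = -v5 := by rw [← lie_skew, T24]
  have T52 : ⁅v5, v2⁆ = 0 := by rw [← lie_skew, T25, neg_zero]
  have T43 : ⁅v4, v3⁆ = -v4 := by rw [← lie_skew, T34]
  have T53 : ⁅v5, v3⁆ = v5 := by rw [← lie_skew, T35, neg_neg]
  have T54 : ⁅v5, v4⁆ = 0 := by rw [← lie_skew, T45, neg_zero]
  -- the ideal
  have hI : ∀ (x m : M), m ∈ Submodule.span K {v4, v5} → ⁅x, m⁆ ∈ Submodule.span K {v4, v5} := by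
    intro x m hm
    obtain ⟨d4, d5, rfl⟩ := Submodule.mem_span_pair.1 hm
    obtain ⟨c1, c2, c3, c4, c5, rfl⟩ := hspan x
    rw [Submodule.mem_span_pair]
    refine ⟨c1 * d5 + c3 * d4, c2 * d4 - c3 * d5, ?_⟩
    simp only [add_lie, lie_add, smul_lie, lie_smul, T14, T15, T24, T25, T34, T35, T45, T54,
      lie_self, smul_zero, smul_neg, lie_zero, zero_lie, neg_zero, add_zero, zero_add]
    module
  let I : LieIdeal K M :=
    { (Submodule.span K {v4, v5} : Submodule K M) with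
      lie_mem := fun {x m} hm => hI x m hm }
  have hImem : ∀ y : M, y ∈ I ↔ y ∈ Submodule.span K {v4, v5} := fun y => Iff.rfl
  have hD1 : LieAlgebra.derivedSeriesOfIdeal K M 1 I = ⊥ := by
    rw [LieAlgebra.derivedSeriesOfIdeal_succ, LieAlgebra.derivedSeriesOfIdeal_zero,
      LieSubmodule.lie_eq_bot_iff]
    intro x hx m hm
    obtain ⟨a4, a5, rfl⟩ := Submodule.mem_span_pair.1 ((hImem x).1 hx)
    obtain ⟨d4, d5, rfl⟩ := Submodule.mem_span_pair.1 ((hImem m).1 hm)
    simp only [add_lie, lie_add, smul_lie, lie_smul, T45, T54, lie_self, smul_zero, add_zero]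
  have hsol : LieAlgebra.IsSolvable I :=
    LieAlgebra.IsSolvable.mk ((LieIdeal.derivedSeries_eq_bot_iff I 1).2 hD1)
  have hIle : I ≤ LieAlgebra.radical K M := (LieAlgebra.LieIdeal.solvable_iff_le_radical K M I).1 hsol
  -- the radical contains no part of the sl₂
  have hsm : ∀ (c : K) (y : M), c ≠ 0 → c • y ∈ LieAlgebra.radical K M →
      y ∈ LieAlgebra.radical K M := by
    intro c y hc hy
    have : y = c⁻¹ • (c • y) := by rw [smul_smul, inv_mul_cancel₀ hc, one_smul]
    rw [this]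
    exact SMulMemClass.smul_mem _ hy
  have hall : v1 ∈ LieAlgebra.radical K M → v2 ∈ LieAlgebra.radical K M →
      v3 ∈ LieAlgebra.radical K M → False := by
    intro m1 m2 m3
    obtain ⟨k, hk⟩ := LieAlgebra.IsSolvable.solvable K (LieAlgebra.radical K M)
    have hk' := (LieIdeal.derivedSeries_eq_bot_iff (LieAlgebra.radical K M) k).1 hk
    have h5 := (sl2_mem_derived (LieAlgebra.radical K M) v1 v2 v3 T31 T32 T12 m1 m2 m3 k).1
    rw [hk'] at h5
    exact hv1 ((LieSubmodule.mem_bot _).1 h5)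
  have hno1 : v1 ∉ LieAlgebra.radical K M := by
    intro m1
    have m3 : v3 ∈ LieAlgebra.radical K M := by
      rw [← T12]; exact lie_mem_left K M _ v1 v2 m1
    have m2 : v2 ∈ LieAlgebra.radical K M := by
      have h6 : ⁅v3, v2⁆ ∈ LieAlgebra.radical K M := lie_mem_left K M _ v3 v2 m3
      rw [T32, ← neg_smul] at h6
      exact hsm _ _ (neg_ne_zero.2 two_ne_zero) h6
    exact hall m1 m2 m3
  have hno2 : v2 ∉ LieAlgebra.radical K M := by
    intro m2
    have m3 : v3 ∈ LieAlgebra.radical K M := by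
      rw [← T12]; exact lie_mem_right K M _ v1 v2 m2
    have m1 : v1 ∈ LieAlgebra.radical K M := by
      have h6 : ⁅v3, v1⁆ ∈ LieAlgebra.radical K M := lie_mem_left K M _ v3 v1 m3
      rw [T31] at h6
      exact hsm _ _ two_ne_zero h6
    exact hno1 m1
  have hno3 : v3 ∉ LieAlgebra.radical K M := by
    intro m3
    have m1 : v1 ∈ LieAlgebra.radical K M := by
      have h6 : ⁅v3, v1⁆ ∈ LieAlgebra.radical K M := lie_mem_left K M _ v3 v1 m3
      rw [T31] at h6
      exact hsm _ _ two_ne_zero h6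
    exact hno1 m1
  apply le_antisymm
  · intro y hy
    have hy' : y ∈ LieAlgebra.radical K M := hy
    obtain ⟨c1, c2, c3, c4, c5, rfl⟩ := hspan y
    have hc2 : c2 = 0 := by
      by_contra hne
      have h7 : ⁅v1, ⁅v1, c1 • v1 + c2 • v2 + c3 • v3 + c4 • v4 + c5 • v5⁆⁆ ∈
          LieAlgebra.radical K M :=
        lie_mem_right K M _ _ _ (lie_mem_right K M _ _ _ hy')
      have h8 : ⁅v1, ⁅v1, c1 • v1 + c2 • v2 + c3 • v3 + c4 • v4 + c5 • v5⁆⁆ =
          (-(2 * c2)) • v1 := by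
        simp only [lie_add, lie_smul, T12, T13, T14, T15, lie_self, smul_zero, smul_neg,
          lie_neg, lie_zero, zero_lie, neg_zero, add_zero, zero_add]
        module
      rw [h8] at h7
      exact hno1 (hsm _ _ (neg_ne_zero.2 (mul_ne_zero two_ne_zero hne)) h7)
    have hc1 : c1 = 0 := by
      by_contra hne
      have h7 : ⁅v2, ⁅v2, c1 • v1 + c2 • v2 + c3 • v3 + c4 • v4 + c5 • v5⁆⁆ ∈
          LieAlgebra.radical K M :=
        lie_mem_right K M _ _ _ (lie_mem_right K M _ _ _ hy')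
      have h8 : ⁅v2, ⁅v2, c1 • v1 + c2 • v2 + c3 • v3 + c4 • v4 + c5 • v5⁆⁆ =
          (-(2 * c1)) • v2 := by
        simp only [lie_add, lie_smul, T21, T23, T24, T25, lie_self, smul_zero, smul_neg,
          lie_neg, lie_zero, zero_lie, neg_zero, add_zero, zero_add]
        module
      rw [h8] at h7
      exact hno2 (hsm _ _ (neg_ne_zero.2 (mul_ne_zero two_ne_zero hne)) h7)
    subst hc1 hc2
    have hc3 : c3 = 0 := by
      by_contra hne
      have h7 : ⁅v3, ⁅v3, (0 : K) • v1 + (0 : K) • v2 + c3 • v3 + c4 • v4 + c5 • v5⁆⁆ ∈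
          LieAlgebra.radical K M :=
        lie_mem_right K M _ _ _ (lie_mem_right K M _ _ _ hy')
      have h8 : ((0 : K) • v1 + (0 : K) • v2 + c3 • v3 + c4 • v4 + c5 • v5) -
          ⁅v3, ⁅v3, (0 : K) • v1 + (0 : K) • v2 + c3 • v3 + c4 • v4 + c5 • v5⁆⁆ = c3 • v3 := by
        simp only [lie_add, lie_smul, T31, T32, T34, T35, lie_self, smul_zero, smul_neg,
          lie_neg, zero_smul, lie_zero, zero_lie, neg_zero, add_zero, zero_add]
        module
      have h9 : c3 • v3 ∈ LieAlgebra.radical K M := by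
        rw [← h8]
        exact (LieAlgebra.radical K M).sub_mem hy' h7
      exact hno3 (hsm _ _ hne h9)
    subst hc3
    rw [Submodule.mem_span_pair]
    exact ⟨c4, c5, by simp only [zero_smul, zero_add]⟩
  · intro y hy
    exact hIle ((hImem y).2 hy)

end Abstract5

end Groth.Agent.Helper22.AdjVar
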