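import Mathlib
import Groth.Agent.Lib.Helper22.AdjVar4
import Groth.Agent.Lib.Helper22.AdjVar6

/-!
# Helper22: adjoint variety family, part 7: root-string facts around the highest root
-/

set_option autoImplicit false
set_option linter.unusedSectionVars false
set_option linter.unusedVariables false
universe u v w
open LieAlgebra LieModule

namespace Groth.Agent.Helper22.AdjVar

variable {ι : Type u} {K : Type v} {L : Type w} [Fintype ι] [Field K] [CharZero K]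
    [IsAlgClosed K] [LieRing L] [LieAlgebra K L] [FiniteDimensional K L] [LieAlgebra.IsSimple K L]
    {H : LieSubalgebra K L} [H.IsCartanSubalgebra] (b : LieAlgebra.Basis ι H)

lemma neg_wt {χ : Module.Dual K H} (hχ : rootSpace H (χ : H → K) ≠ ⊥) :
    rootSpace H ((-χ : Module.Dual K H) : H → K) ≠ ⊥ := by
  have h1 := LieModule.Weight.genWeightSpace_ne_bot L (-(⟨χ, hχ⟩ : Weight K H L))
  exact rs_ne_bot_of_eq h1 (fun x => rfl)

lemma lie_eq_zero_of_bot {χ₁ χ₂ χ₃ : H → K} {u v : L} (hu : u ∈ rootSpace H χ₁)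
    (hv : v ∈ rootSpace H χ₂) (h3 : rootSpace H χ₃ = ⊥) (h : ∀ x, χ₁ x + χ₂ x = χ₃ x) :
    ⁅u, v⁆ = 0 := by
  have h1 : ⁅u, v⁆ ∈ rootSpace H (χ₁ + χ₂) := lie_mem_genWeightSpace_of_mem_genWeightSpace hu hv
  have h2 : ⁅u, v⁆ ∈ rootSpace H χ₃ := mem_rs_of_eq h1 (fun x => h x)
  rw [h3] at h2
  exact (LieSubmodule.mem_bot _).1 h2

lemma alpha_wt (j : ι) : rootSpace H ((b.baseSupp j : Module.Dual K H) : H → K) ≠ ⊥ :=
  rs_ne_bot_of_mem (e_mem b j) (b.sl2 j).e_ne_zero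

lemma alpha_ne_zero (j : ι) : b.baseSupp j ≠ 0 := by
  intro h0
  have h1 := alpha_self b j
  rw [h0] at h1
  simp at h1

variable (ρ : Module.Dual K H) (hρ : rootSpace H (ρ : H → K) ≠ ⊥)
  (htop : ∀ i, rootSpace H ((ρ + b.baseSupp i : Module.Dual K H) : H → K) = ⊥)
  (j : ι) (hN : ∀ i, ρ (b.h' i) ≠ 0 ↔ i = j) (hj : ρ (b.h' j) = 1)

include hρ htop hN hj

lemma two_rho_sub_bot :
    rootSpace H ((ρ + ρ - b.baseSupp j : Module.Dual K H) : H → K) = ⊥ := by
  classical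
  by_contra hne
  obtain ⟨ω, hω⟩ := exists_omega b
  have hαw := alpha_wt b j
  obtain ⟨n, hn⟩ := le_rho b ρ hρ htop _ hne
  obtain ⟨m, hm⟩ := le_rho b ρ hρ htop _ hαw
  have key : ∀ k, (n k : K) + (m k : K) = 0 := by
    intro k
    have e1 : (ρ + ρ - b.baseSupp j : Module.Dual K H) (ω k) =
        ρ (ω k) + ρ (ω k) - (if j = k then 1 else 0) := by
      rw [LinearMap.sub_apply, LinearMap.add_apply, hω k j]
    have e2 : (ρ - ∑ i, n i • b.baseSupp i : Module.Dual K H) (ω k) = ρ (ω k) - (n k : K) := by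
      simp [hω, LinearMap.sum_apply, Finset.sum_ite_eq']
    have e3 : (b.baseSupp j : Module.Dual K H) (ω k) = (if j = k then 1 else 0) := hω k j
    have e4 : (ρ - ∑ i, m i • b.baseSupp i : Module.Dual K H) (ω k) = ρ (ω k) - (m k : K) := by
      simp [hω, LinearMap.sum_apply, Finset.sum_ite_eq']
    have h1 : ρ (ω k) + ρ (ω k) - (if j = k then (1 : K) else 0) = ρ (ω k) - (n k : K) := by
      rw [← e1, ← e2, hn]
    have h2 : (if j = k then (1 : K) else 0) = ρ (ω k) - (m k : K) := by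
      rw [← e3, ← e4, ← hm]
    linear_combination h1 + h2
  have hm0 : ∀ k, m k = 0 := by
    intro k
    have h3 : ((n k + m k : ℕ) : K) = 0 := by
      push_cast
      exact key k
    have h4 : n k + m k = 0 := by exact_mod_cast h3
    omega
  have hαρ : b.baseSupp j = ρ := by
    rw [hm, Finset.sum_eq_zero (fun k _ => by rw [hm0 k, zero_smul]), sub_zero]
  have h5 := alpha_self b j
  rw [hαρ, hj] at h5
  norm_num at h5

lemma neg_rho_sub_bot :
    rootSpace H ((-ρ - b.baseSupp j : Module.Dual K H) : H → K) = ⊥ := by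
  by_contra hne
  have h1 := neg_wt hne
  exact (rs_ne_bot_of_eq h1 (fun x => by
    simp only [LinearMap.neg_apply, LinearMap.sub_apply, LinearMap.add_apply]; ring)) (htop j)

lemma rho_sub_two_bot :
    rootSpace H ((ρ - b.baseSupp j - b.baseSupp j : Module.Dual K H) : H → K) = ⊥ := by
  obtain ⟨q, hq, hq2⟩ := rho_chain b ρ hρ htop j
  rw [hj] at hq
  have hq1 : q = 1 := by exact_mod_cast hq.symm
  by_contra hne
  have h1 : rootSpace H ((ρ + (-2 : ℤ) • b.baseSupp j : Module.Dual K H) : H → K) ≠ ⊥ :=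
    rs_ne_bot_of_eq hne (fun x => by
      simp only [LinearMap.sub_apply, LinearMap.add_apply, LinearMap.smul_apply, zsmul_eq_mul]
      push_cast
      ring)
  have h2 := (hq2 (-2)).1 h1
  omega

lemma alpha_coroot_rho :
    b.baseSupp j (LieAlgebra.IsKilling.coroot (⟨ρ, hρ⟩ : Weight K H L)) = 1 := by
  have hρnz : (⟨ρ, hρ⟩ : Weight K H L).IsNonZero :=
    wt_nonzero (rho_ne_zero b ρ hρ htop j hN hj) hρ
  have hαw := alpha_wt b j
  have h1 := LieAlgebra.IsKilling.apply_coroot_eq_cast (⟨ρ, hρ⟩ : Weight K H L)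
    (⟨b.baseSupp j, hαw⟩ : Weight K H L)
  have h2 := LieAlgebra.IsKilling.rootSpace_zsmul_add_ne_bot_iff (⟨ρ, hρ⟩ : Weight K H L)
    (⟨b.baseSupp j, hαw⟩ : Weight K H L) hρnz
  -- n = 1
  have c1 : ¬ ((1 : ℤ) ≤ chainTopCoeff ((⟨ρ, hρ⟩ : Weight K H L) : H → K)
        (⟨b.baseSupp j, hαw⟩ : Weight K H L) ∧
      -(1 : ℤ) ≤ chainBotCoeff ((⟨ρ, hρ⟩ : Weight K H L) : H → K)
        (⟨b.baseSupp j, hαw⟩ : Weight K H L)) := by
    rw [← h2 1]
    intro hne
    exact (rs_ne_bot_of_eq hne (fun x => by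
      show (1 : ℤ) • ρ x + b.baseSupp j x = ρ x + b.baseSupp j x
      rw [one_smul])) (htop j)
  -- n = -1
  have c2 : ((-1 : ℤ) ≤ chainTopCoeff ((⟨ρ, hρ⟩ : Weight K H L) : H → K)
        (⟨b.baseSupp j, hαw⟩ : Weight K H L) ∧
      -(-1 : ℤ) ≤ chainBotCoeff ((⟨ρ, hρ⟩ : Weight K H L) : H → K)
        (⟨b.baseSupp j, hαw⟩ : Weight K H L)) := by
    rw [← h2 (-1)]
    have hβ := neg_wt (rho_sub_wt b ρ hρ htop j hN hj)
    exact rs_ne_bot_of_eq hβ (fun x => by
      show -(ρ x - b.baseSupp j x) = (-1 : ℤ) • ρ x + b.baseSupp j x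
      rw [neg_one_smul]
      ring)
  -- n = -2
  have c3 : ¬ ((-2 : ℤ) ≤ chainTopCoeff ((⟨ρ, hρ⟩ : Weight K H L) : H → K)
        (⟨b.baseSupp j, hαw⟩ : Weight K H L) ∧
      -(-2 : ℤ) ≤ chainBotCoeff ((⟨ρ, hρ⟩ : Weight K H L) : H → K)
        (⟨b.baseSupp j, hαw⟩ : Weight K H L)) := by
    rw [← h2 (-2)]
    intro hne
    have h3 : rootSpace H ((-(ρ + ρ - b.baseSupp j) : Module.Dual K H) : H → K) ≠ ⊥ :=
      rs_ne_bot_of_eq hne (fun x => by
        show (-2 : ℤ) • ρ x + b.baseSupp j x = -(ρ x + ρ x - b.baseSupp j x)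
        rw [zsmul_eq_mul]
        push_cast
        ring)
    have h4 := neg_wt h3
    rw [neg_neg] at h4
    exact h4 (two_rho_sub_bot b ρ hρ htop j hN hj)
  have hp : chainTopCoeff ((⟨ρ, hρ⟩ : Weight K H L) : H → K)
      (⟨b.baseSupp j, hαw⟩ : Weight K H L) = 0 := by omega
  have hq : chainBotCoeff ((⟨ρ, hρ⟩ : Weight K H L) : H → K)
      (⟨b.baseSupp j, hαw⟩ : Weight K H L) = 1 := by omega
  have h3 : b.baseSupp j (LieAlgebra.IsKilling.coroot (⟨ρ, hρ⟩ : Weight K H L)) =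
      (⟨b.baseSupp j, hαw⟩ : Weight K H L)
        (LieAlgebra.IsKilling.coroot (⟨ρ, hρ⟩ : Weight K H L)) := rfl
  rw [h3, h1, hp, hq]
  simp

end Groth.Agent.Helper22.AdjVar
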