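import Mathlib
import Groth.Agent.Lib.Helper22.AdjVar7

/-!
# Helper22: adjoint variety family, part 8: the Lie algebra generated by the conic and the line
-/

set_option autoImplicit false
set_option linter.unusedSectionVars false
set_option linter.unusedVariables false
universe u v w
open LieAlgebra LieModule

namespace Groth.Agent.Helper22.AdjVar

variable {ι : Type u} {K : Type v} {L : Type w} [Fintype ι] [Field K] [CharZero K]
    [IsAlgClosed K] [LieRing L] [LieAlgebra K L] [FiniteDimensional K L] [LieAlgebra.IsSimple K L]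
    {H : LieSubalgebra K L} [H.IsCartanSubalgebra] (b : LieAlgebra.Basis ι H)

variable (ρ : Module.Dual K H) (hρ : rootSpace H (ρ : H → K) ≠ ⊥)
  (htop : ∀ i, rootSpace H ((ρ + b.baseSupp i : Module.Dual K H) : H → K) = ⊥)
  (j : ι) (hN : ∀ i, ρ (b.h' i) ≠ 0 ↔ i = j) (hj : ρ (b.h' j) = 1)

include hρ htop hN hj

set_option maxHeartbeats 1600000 in
theorem five_main (A : LieSubalgebra K L)
    (hA : A = LieSubalgebra.lieSpan K L
      ((rootSpace H (ρ : H → K) : Set L) ∪
        (rootSpace H ((-ρ : Module.Dual K H) : H → K) : Set L) ∪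
        (rootSpace H ((ρ - b.baseSupp j : Module.Dual K H) : H → K) : Set L))) :
    Module.finrank K A = 5 ∧ Module.finrank K (LieAlgebra.radical K A) = 2 ∧
      (LieAlgebra.radical K A).toSubmodule.map (A.incl : A →ₗ⁅K⁆ L).toLinearMap =
        (rootSpace H ((ρ - b.baseSupp j : Module.Dual K H) : H → K) : Submodule K L) ⊔
          (rootSpace H ((-b.baseSupp j : Module.Dual K H) : H → K) : Submodule K L) := by
  classical
  have hρ0 := rho_ne_zero b ρ hρ htop j hN hj
  have hβ0 := rho_sub_ne_zero b ρ hρ htop j hN hj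
  have hα0 := alpha_ne_zero b j
  have hρnz : (⟨ρ, hρ⟩ : Weight K H L).IsNonZero := wt_nonzero hρ0 hρ
  obtain ⟨h, e, f, ht, heρ, hfρ⟩ :=
    LieAlgebra.IsKilling.exists_isSl2Triple_of_weight_isNonZero hρnz
  have hcor : h = ((LieAlgebra.IsKilling.coroot (⟨ρ, hρ⟩ : Weight K H L) : H) : L) :=
    ht.h_eq_coroot hρnz heρ hfρ
  subst hcor
  have hρh : ρ (LieAlgebra.IsKilling.coroot (⟨ρ, hρ⟩ : Weight K H L)) = 2 :=
    LieAlgebra.IsKilling.root_apply_coroot hρnz
  have hαh : b.baseSupp j (LieAlgebra.IsKilling.coroot (⟨ρ, hρ⟩ : Weight K H L)) = 1 :=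
    alpha_coroot_rho b ρ hρ htop j hN hj
  generalize LieAlgebra.IsKilling.coroot (⟨ρ, hρ⟩ : Weight K H L) = hc at ht hρh hαh
  have he' : e ∈ rootSpace H (ρ : H → K) := heρ
  have hf' : f ∈ rootSpace H ((-ρ : Module.Dual K H) : H → K) := hfρ
  obtain ⟨x, hx, hx0⟩ := exists_mem_ne_zero (rho_sub_wt b ρ hρ htop j hN hj)
  obtain ⟨w, hw⟩ : ∃ w : L, w = ⁅f, x⁆ := ⟨_, rfl⟩
  have hwmem : w ∈ rootSpace H ((-b.baseSupp j : Module.Dual K H) : H → K) := by
    rw [hw]
    exact mem_rs_of_eq (lie_mem_genWeightSpace_of_mem_genWeightSpace hf' hx) (fun y => by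
      simp only [Pi.add_apply, LinearMap.neg_apply, LinearMap.sub_apply]; ring)
  -- the bracket table
  have T12 : ⁅e, f⁆ = (hc : L) := ht.lie_e_f
  have Thh_e : ⁅(hc : L), e⁆ = (2 : K) • e := ht.lie_h_e_smul K
  have Thh_f : ⁅(hc : L), f⁆ = -((2 : K) • f) := ht.lie_lie_smul_f K
  have T13 : ⁅e, (hc : L)⁆ = -((2 : K) • e) := by rw [← lie_skew, Thh_e]
  have T23 : ⁅f, (hc : L)⁆ = (2 : K) • f := by rw [← lie_skew, Thh_f, neg_neg]
  have T14 : ⁅e, x⁆ = 0 :=
    lie_eq_zero_of_bot he' hx (two_rho_sub_bot b ρ hρ htop j hN hj) (fun y => by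
      simp only [LinearMap.add_apply, LinearMap.sub_apply]; ring)
  have T34 : ⁅(hc : L), x⁆ = x := by
    rw [lie_h_eq hx hc, LinearMap.sub_apply, hρh, hαh]
    norm_num
  have T35 : ⁅(hc : L), w⁆ = -w := by
    rw [lie_h_eq hwmem hc, LinearMap.neg_apply, hαh, neg_one_smul]
  have T15 : ⁅e, w⁆ = x := by
    rw [hw, leibniz_lie, T12, T14, lie_zero, add_zero, T34]
  have T24 : ⁅f, x⁆ = w := hw.symm
  have T25 : ⁅f, w⁆ = 0 :=
    lie_eq_zero_of_bot hf' hwmem (neg_rho_sub_bot b ρ hρ htop j hN hj) (fun y => by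
      simp only [LinearMap.neg_apply, LinearMap.sub_apply]; ring)
  have T45 : ⁅x, w⁆ = 0 :=
    lie_eq_zero_of_bot hx hwmem (rho_sub_two_bot b ρ hρ htop j hN hj) (fun y => by
      simp only [LinearMap.neg_apply, LinearMap.sub_apply]; ring)
  have hw0 : w ≠ 0 := by
    intro h0
    rw [h0, lie_zero] at T15
    exact hx0 T15.symm
  -- linear independence
  have hli : LinearIndependent K ![e, f, (hc : L), x, w] := by
    apply Module.End.eigenvectors_linearIndependent' (LieAlgebra.ad K L (hc : L))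
      ![(2 : K), -2, 0, 1, -1]
    · intro a c hac
      fin_cases a <;> fin_cases c <;>
        first
        | rfl
        | (exfalso; simp at hac; try norm_num at hac)
    · intro i
      rw [Module.End.hasEigenvector_iff, Module.End.mem_eigenspace_iff]
      fin_cases i
      · refine ⟨?_, ht.e_ne_zero⟩
        show (LieAlgebra.ad K L (hc : L)) e = (2 : K) • e
        rw [LieAlgebra.ad_apply, Thh_e]
      · refine ⟨?_, ht.f_ne_zero⟩
        show (LieAlgebra.ad K L (hc : L)) f = (-2 : K) • f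
        rw [LieAlgebra.ad_apply, Thh_f, neg_smul]
      · refine ⟨?_, ht.h_ne_zero⟩
        show (LieAlgebra.ad K L (hc : L)) (hc : L) = (0 : K) • (hc : L)
        rw [LieAlgebra.ad_apply, lie_self, zero_smul]
      · refine ⟨?_, hx0⟩
        show (LieAlgebra.ad K L (hc : L)) x = (1 : K) • x
        rw [LieAlgebra.ad_apply, T34, one_smul]
      · refine ⟨?_, hw0⟩
        show (LieAlgebra.ad K L (hc : L)) w = (-1 : K) • w
        rw [LieAlgebra.ad_apply, T35, neg_one_smul]
  -- the span
  have hvW : ∀ i, ![e, f, (hc : L), x, w] i ∈ Submodule.span K (Set.range ![e, f, (hc : L), x, w]) :=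
    fun i => Submodule.subset_span ⟨i, rfl⟩
  have heW : e ∈ Submodule.span K (Set.range ![e, f, (hc : L), x, w]) := hvW 0
  have hfW : f ∈ Submodule.span K (Set.range ![e, f, (hc : L), x, w]) := hvW 1
  have hhW : (hc : L) ∈ Submodule.span K (Set.range ![e, f, (hc : L), x, w]) := hvW 2
  have hxW : x ∈ Submodule.span K (Set.range ![e, f, (hc : L), x, w]) := hvW 3
  have hwW : w ∈ Submodule.span K (Set.range ![e, f, (hc : L), x, w]) := hvW 4
  have m01 : ⁅e, f⁆ ∈ Submodule.span K (Set.range ![e, f, (hc : L), x, w]) := by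
    rw [T12]; exact hhW
  have m02 : ⁅e, (hc : L)⁆ ∈ Submodule.span K (Set.range ![e, f, (hc : L), x, w]) := by
    rw [T13]; exact Submodule.neg_mem _ (Submodule.smul_mem _ _ heW)
  have m03 : ⁅e, x⁆ ∈ Submodule.span K (Set.range ![e, f, (hc : L), x, w]) := by
    rw [T14]; exact Submodule.zero_mem _
  have m04 : ⁅e, w⁆ ∈ Submodule.span K (Set.range ![e, f, (hc : L), x, w]) := by
    rw [T15]; exact hxW
  have m12 : ⁅f, (hc : L)⁆ ∈ Submodule.span K (Set.range ![e, f, (hc : L), x, w]) := by
    rw [T23]; exact Submodule.smul_mem _ _ hfW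
  have m13 : ⁅f, x⁆ ∈ Submodule.span K (Set.range ![e, f, (hc : L), x, w]) := by
    rw [T24]; exact hwW
  have m14 : ⁅f, w⁆ ∈ Submodule.span K (Set.range ![e, f, (hc : L), x, w]) := by
    rw [T25]; exact Submodule.zero_mem _
  have m23 : ⁅(hc : L), x⁆ ∈ Submodule.span K (Set.range ![e, f, (hc : L), x, w]) := by
    rw [T34]; exact hxW
  have m24 : ⁅(hc : L), w⁆ ∈ Submodule.span K (Set.range ![e, f, (hc : L), x, w]) := by
    rw [T35]; exact Submodule.neg_mem _ hwW
  have m34 : ⁅x, w⁆ ∈ Submodule.span K (Set.range ![e, f, (hc : L), x, w]) := by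
    rw [T45]; exact Submodule.zero_mem _
  have hlt : ∀ a c : Fin 5, a < c → ⁅![e, f, (hc : L), x, w] a, ![e, f, (hc : L), x, w] c⁆ ∈
      Submodule.span K (Set.range ![e, f, (hc : L), x, w]) := by
    intro a c hac
    fin_cases a <;> fin_cases c <;>
      first
      | exact absurd hac (by decide)
      | exact m01
      | exact m02
      | exact m03
      | exact m04
      | exact m12
      | exact m13
      | exact m14
      | exact m23
      | exact m24
      | exact m34
  have hpair : ∀ a c : Fin 5, ⁅![e, f, (hc : L), x, w] a, ![e, f, (hc : L), x, w] c⁆ ∈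
      Submodule.span K (Set.range ![e, f, (hc : L), x, w]) := by
    intro a c
    rcases lt_trichotomy a c with h | h | h
    · exact hlt a c h
    · rw [h, lie_self]; exact Submodule.zero_mem _
    · rw [← lie_skew]; exact Submodule.neg_mem _ (hlt c a h)
  have hclosed := span_lie_closed (K := K) ![e, f, (hc : L), x, w] hpair
  -- generators in A
  have heA : e ∈ A := by
    rw [hA]; exact LieSubalgebra.subset_lieSpan (Or.inl (Or.inl he'))
  have hfA : f ∈ A := by
    rw [hA]; exact LieSubalgebra.subset_lieSpan (Or.inl (Or.inr hf'))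
  have hxA : x ∈ A := by
    rw [hA]; exact LieSubalgebra.subset_lieSpan (Or.inr hx)
  have hhA : (hc : L) ∈ A := by
    rw [← T12]; exact A.lie_mem heA hfA
  have hwA : w ∈ A := by
    rw [hw]; exact A.lie_mem hfA hxA
  -- A as a submodule
  have hAW : A.toSubmodule = Submodule.span K (Set.range ![e, f, (hc : L), x, w]) := by
    apply le_antisymm
    · let WL : LieSubalgebra K L :=
        { (Submodule.span K (Set.range ![e, f, (hc : L), x, w]) : Submodule K L) with
          lie_mem' := fun {y z} hy hz => hclosed y hy z hz }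
      have hle : A ≤ WL := by
        rw [hA, LieSubalgebra.lieSpan_le]
        rintro y ((hy | hy) | hy)
        · exact rs_le_of_mem hρ0 heW he' ht.e_ne_zero hy
        · exact rs_le_of_mem (neg_ne_zero.2 hρ0) hfW hf' ht.f_ne_zero hy
        · exact rs_le_of_mem hβ0 hxW hx hx0 hy
      intro y hy
      exact hle hy
    · rw [Submodule.span_le]
      rintro _ ⟨i, rfl⟩
      fin_cases i
      · exact heA
      · exact hfA
      · exact hhA
      · exact hxA
      · exact hwA
  have hfr5 : Module.finrank K A = 5 := by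
    have h1 : Module.finrank K A = Module.finrank K A.toSubmodule := rfl
    rw [h1, hAW, finrank_span_eq_card hli, Fintype.card_fin]
  -- the radical
  have hspanA : ∀ y : A, ∃ c1 c2 c3 c4 c5 : K,
      y = c1 • (⟨e, heA⟩ : A) + c2 • (⟨f, hfA⟩ : A) + c3 • (⟨(hc : L), hhA⟩ : A) +
        c4 • (⟨x, hxA⟩ : A) + c5 • (⟨w, hwA⟩ : A) := by
    intro y
    have hy : (y : L) ∈ Submodule.span K (Set.range ![e, f, (hc : L), x, w]) := by
      rw [← hAW]; exact y.2
    obtain ⟨c, hc'⟩ := (Submodule.mem_span_range_iff_exists_fun K).1 hy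
    rw [Fin.sum_univ_five] at hc'
    refine ⟨c 0, c 1, c 2, c 3, c 4, Subtype.ext ?_⟩
    exact hc'.symm
  have hrad := radical_eq_span (K := K) (M := A) (⟨e, heA⟩ : A) ⟨f, hfA⟩ ⟨(hc : L), hhA⟩
    ⟨x, hxA⟩ ⟨w, hwA⟩ hspanA (fun h0 => ht.e_ne_zero (congrArg Subtype.val h0))
    (Subtype.ext T12) (Subtype.ext T13) (Subtype.ext T14) (Subtype.ext T15) (Subtype.ext T23)
    (Subtype.ext T24) (Subtype.ext T25) (Subtype.ext T34) (Subtype.ext T35) (Subtype.ext T45)
  have himage : (LieAlgebra.radical K A).toSubmodule.map (A.incl : A →ₗ⁅K⁆ L).toLinearMap =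
      (rootSpace H ((ρ - b.baseSupp j : Module.Dual K H) : H → K) : Submodule K L) ⊔
        (rootSpace H ((-b.baseSupp j : Module.Dual K H) : H → K) : Submodule K L) := by
    rw [hrad, Submodule.map_span, Set.image_pair]
    have e4 : (A.incl : A →ₗ⁅K⁆ L).toLinearMap (⟨x, hxA⟩ : A) = x := rfl
    have e5 : (A.incl : A →ₗ⁅K⁆ L).toLinearMap (⟨w, hwA⟩ : A) = w := rfl
    rw [e4, e5]
    apply le_antisymm
    · rw [Submodule.span_le]
      rintro y (rfl | rfl)
      · exact (le_sup_left : (rootSpace H ((ρ - b.baseSupp j : Module.Dual K H) : H → K) :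
          Submodule K L) ≤ _) hx
      · exact (le_sup_right : (rootSpace H ((-b.baseSupp j : Module.Dual K H) : H → K) :
          Submodule K L) ≤ _) hwmem
    · refine sup_le ?_ ?_
      · exact rs_le_of_mem hβ0 (Submodule.subset_span (Set.mem_insert _ _)) hx hx0
      · exact rs_le_of_mem (neg_ne_zero.2 hα0)
          (Submodule.subset_span (Set.mem_insert_of_mem _ (Set.mem_singleton _))) hwmem hw0
  refine ⟨hfr5, ?_, himage⟩
  have hinj : Function.Injective (A.incl : A →ₗ⁅K⁆ L).toLinearMap := Subtype.val_injective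
  have h1 : Module.finrank K (LieAlgebra.radical K A) =
      Module.finrank K (LieAlgebra.radical K A).toSubmodule := rfl
  have h2 := (Submodule.equivMapOfInjective (A.incl : A →ₗ⁅K⁆ L).toLinearMap hinj
    (LieAlgebra.radical K A).toSubmodule).finrank_eq
  rw [h1, h2, himage]
  refine finrank_sup_two hβ0 (neg_ne_zero.2 hα0) (rho_sub_wt b ρ hρ htop j hN hj)
    (neg_wt (alpha_wt b j)) ?_
  intro h3
  apply hρ0
  have h4 := congrArg (fun χ : Module.Dual K H => χ + b.baseSupp j) h3
  simpa using h4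

end Groth.Agent.Helper22.AdjVar
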