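import Mathlib

/-!
# Embedding an extension into an adic completion at a prime with `e = f = 1` (helper22)
-/

set_option autoImplicit false

open WithZero IsDedekindDomain IsDedekindDomain.HeightOneSpectrum Topology Filter

namespace Groth.Agent.Helper22.LocEmb

section Valued

variable {F : Type*} [Field F] {Γ₀ : Type*} [LinearOrderedCommGroupWithZero Γ₀] [hv : Valued F Γ₀]

theorem mem_nhds_iff' {s : Set F} {x : F} :
    s ∈ 𝓝 x ↔ ∃ c : F, c ≠ 0 ∧ {y | (Valued.v (y - x) : Γ₀) < Valued.v c} ⊆ s := by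
  rw [Valued.mem_nhds]
  constructor
  · rintro ⟨γ, hγ⟩
    obtain ⟨r, t, hr, ht, hrt⟩ := Valuation.exists_div_eq_of_unit (Valued.v : Valuation F Γ₀) γ
    have hr' : r ≠ 0 := fun h => by simp [h] at hr
    have ht' : t ≠ 0 := fun h => by simp [h] at ht
    refine ⟨r / t, div_ne_zero hr' ht', fun y hy => hγ ?_⟩
    simp only [Set.mem_ofPred_eq] at hy ⊢
    rw [← hrt, Valuation.restrict_lt_iff_lt_embedding, map_div₀, Valuation.embedding_restrict,
      Valuation.embedding_restrict]
    rwa [map_div₀] at hy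
  · rintro ⟨c, hc, hcs⟩
    have hc' : (Valued.v : Valuation F Γ₀).restrict c ≠ 0 := by
      rw [Ne, Valuation.restrict_eq_zero_iff]
      exact (Valuation.ne_zero_iff _).mpr hc
    refine ⟨Units.mk0 _ hc', fun y hy => hcs ?_⟩
    simpa [Valuation.restrict_lt_iff] using hy

end Valued

section Extend

variable {F₁ F₂ C : Type*} [Field F₁] [Field F₂] {Γ₀ : Type*}
  [LinearOrderedCommGroupWithZero Γ₀] [Valued F₁ Γ₀] [Valued F₂ Γ₀]
  [UniformSpace C] [Ring C] [IsTopologicalRing C] [T2Space C] [CompleteSpace C]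

theorem exists_extend (i : F₁ →+* F₂) (hv : ∀ x, (Valued.v (i x) : Γ₀) = Valued.v x)
    (hd : ∀ (y c : F₂), c ≠ 0 → ∃ x : F₁, (Valued.v (y - i x) : Γ₀) < Valued.v c)
    (f : F₁ →+* C) (hf : UniformContinuous f) :
    ∃ g : F₂ →+* C, ∀ x, g (i x) = f x := by
  have hind : IsInducing i := by
    rw [IsTopologicalAddGroup.isInducing_iff_nhds_zero]
    ext s
    rw [mem_nhds_iff', Filter.mem_comap]
    constructor
    · rintro ⟨c, hc, hcs⟩
      refine ⟨{y | (Valued.v (y - 0) : Γ₀) < Valued.v (i c)},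
        mem_nhds_iff'.mpr ⟨i c, (map_ne_zero i).mpr hc, subset_rfl⟩, fun x hx => hcs ?_⟩
      simp only [Set.mem_preimage, Set.mem_ofPred_eq, sub_zero, hv] at hx ⊢
      exact hx
    · rintro ⟨t, ht, hts⟩
      obtain ⟨z, hz, hzt⟩ := mem_nhds_iff'.mp ht
      obtain ⟨x, hx⟩ := hd z z hz
      have hxz : (Valued.v (i x) : Γ₀) = Valued.v z := by
        have h1 := Valuation.map_sub_eq_of_lt_left (Valued.v : Valuation F₂ Γ₀) hx
        rwa [sub_sub_cancel] at h1
      have hx0 : x ≠ 0 := by
        rintro rfl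
        rw [map_zero, map_zero] at hxz
        exact (Valuation.ne_zero_iff _).mpr hz hxz.symm
      refine ⟨x, hx0, fun y hy => hts ?_⟩
      apply hzt
      simp only [Set.mem_ofPred_eq, sub_zero] at hy ⊢
      rw [hv, ← hxz, hv]
      exact hy
  have ue : IsUniformInducing i := AddMonoidHom.isUniformInducing_of_isInducing hind
  have dr : DenseRange i := by
    intro y
    rw [mem_closure_iff_nhds]
    intro t ht
    obtain ⟨c, hc, hct⟩ := mem_nhds_iff'.mp ht
    obtain ⟨x, hx⟩ := hd y c hc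
    refine ⟨i x, hct ?_, ⟨x, rfl⟩⟩
    simp only [Set.mem_ofPred_eq]
    rwa [Valuation.map_sub_swap]
  refine ⟨IsDenseInducing.extendRingHom ue dr hf, fun x => ?_⟩
  exact IsDenseInducing.extend_eq (ue.isDenseInducing dr) hf.continuous x

end Extend

section Dedekind

variable {A K : Type*} (L : Type*) {B : Type*}
variable [CommRing A] [IsDedekindDomain A] [CommRing B] [IsDedekindDomain B] [Algebra A B]
variable [Field K] [Field L] [Algebra K L]
variable [Algebra A K] [IsFractionRing A K] [Algebra A L] [IsScalarTower A K L]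
variable [Algebra B L] [IsFractionRing B L] [IsScalarTower A B L]
variable (w : HeightOneSpectrum A) (P : HeightOneSpectrum B)

theorem dense_of_ef1
    (he : ∀ x : K, P.valuation L (algebraMap K L x) = w.valuation K x)
    (hf : ∀ a : B, ∃ d : A, a - algebraMap A B d ∈ P.asIdeal)
    (y c : L) (hc : c ≠ 0) :
    ∃ x : K, P.valuation L (y - algebraMap K L x) < P.valuation L c := by
  set v := P.valuation L with hvdef
  obtain ⟨π, hπ⟩ := w.valuation_exists_uniformizer K
  have hπL : v (algebraMap K L π) = exp (-1 : ℤ) := by rw [he, hπ]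
  set ϖ := algebraMap K L π with hϖ
  have hπ0 : ϖ ≠ 0 := by
    intro h
    rw [h, map_zero] at hπL
    exact exp_ne_zero hπL.symm
  have hv0 : v ϖ ≠ 0 := (Valuation.ne_zero_iff _).mpr hπ0
  have hlt1 : v ϖ < 1 := by
    rw [hπL, ← exp_zero, exp_lt_exp]
    norm_num
  -- base step
  have base : ∀ c : L, v c ≤ 1 → ∃ d : K, v (c - algebraMap K L d) ≤ v ϖ := by
    intro c hc1
    obtain ⟨a, ha⟩ := P.exists_valuation_sub_lt_of_integer (K := L) hc1 1
    obtain ⟨d, hd⟩ := hf a
    have h1 : v (algebraMap B L (a - algebraMap A B d)) < 1 :=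
      (P.valuation_lt_one_iff_mem _).mpr hd
    refine ⟨algebraMap A K d, ?_⟩
    have hlt : v (c - algebraMap K L (algebraMap A K d)) < 1 := by
      have e1 : c - algebraMap K L (algebraMap A K d) =
          -(algebraMap B L a - c) + algebraMap B L (a - algebraMap A B d) := by
        rw [map_sub, ← IsScalarTower.algebraMap_apply A B L, ← IsScalarTower.algebraMap_apply A K L]
        ring
      rw [e1]
      refine lt_of_le_of_lt (v.map_add _ _) (max_lt ?_ h1)
      rw [Valuation.map_neg]
      simpa using ha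
    rw [hπL]
    refine (WithZero.lt_mul_exp_iff_le (y := exp (-1 : ℤ)) exp_ne_zero).mp ?_
    rw [← exp_add]
    simpa using hlt
  have claim : ∀ n : ℕ, ∀ c : L, v c ≤ 1 →
      ∃ x : K, v (c - algebraMap K L x) ≤ v ϖ ^ n := by
    intro n
    induction n with
    | zero => intro c hc1; exact ⟨0, by simpa using hc1⟩
    | succ n ih =>
      intro c hc1
      obtain ⟨x, hx⟩ := ih c hc1
      obtain ⟨d, hd⟩ := base ((c - algebraMap K L x) / ϖ ^ n) (by
        rw [map_div₀, map_pow]
        exact (div_le_one₀ (pow_pos (zero_lt_iff.mpr hv0) n)).mpr hx)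
      refine ⟨x + π ^ n * d, ?_⟩
      have e2 : c - algebraMap K L (x + π ^ n * d) =
          ϖ ^ n * ((c - algebraMap K L x) / ϖ ^ n - algebraMap K L d) := by
        rw [map_add, map_mul, map_pow]
        field_simp
        ring
      rw [e2, map_mul, map_pow, pow_succ]
      gcongr
  -- general `y`
  obtain ⟨m, hm⟩ : ∃ m : ℕ, v ϖ ^ m * v y ≤ 1 := by
    by_cases hy : v y = 0
    · exact ⟨0, by simp [hy]⟩
    · obtain ⟨m, hm⟩ := exists_pow_lt₀ hlt1 (Units.mk0 (v y)⁻¹ (inv_ne_zero hy))
      refine ⟨m, ?_⟩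
      rw [Units.val_mk0] at hm
      refine (le_div_iff₀ (zero_lt_iff.mpr hy)).mp ?_
      rw [one_div]
      exact hm.le
  have hvc : v c ≠ 0 := (Valuation.ne_zero_iff _).mpr hc
  obtain ⟨n, hn⟩ := exists_pow_lt₀ hlt1
    (Units.mk0 (v c * v ϖ ^ m) (mul_ne_zero hvc (pow_ne_zero _ hv0)))
  rw [Units.val_mk0] at hn
  obtain ⟨x', hx'⟩ := claim n (ϖ ^ m * y) (by rw [map_mul, map_pow]; exact hm)
  refine ⟨x' / π ^ m, ?_⟩
  have e3 : y - algebraMap K L (x' / π ^ m) = (ϖ ^ m * y - algebraMap K L x') / ϖ ^ m := by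
    rw [map_div₀, map_pow, ← hϖ]
    field_simp
  rw [e3, map_div₀, map_pow, div_lt_iff₀ (pow_pos (zero_lt_iff.mpr hv0) m)]
  exact lt_of_le_of_lt hx' hn

theorem nonempty_algHom_adicCompletion
    (he : ∀ x : K, P.valuation L (algebraMap K L x) = w.valuation K x)
    (hf : ∀ a : B, ∃ d : A, a - algebraMap A B d ∈ P.asIdeal) :
    Nonempty (L →ₐ[K] w.adicCompletion K) := by
  let i : WithVal (w.valuation K) →+* WithVal (P.valuation L) :=
    WithVal.map (w.valuation K) (P.valuation L) (algebraMap K L)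
  let f : WithVal (w.valuation K) →+* w.adicCompletion K :=
    (algebraMap K (w.adicCompletion K)).comp (WithVal.equiv (w.valuation K)).toRingHom
  have hf' : UniformContinuous f :=
    (adicCompletion.isUniformInducing_toCompletion K w).uniformContinuous_iff.mpr
      (UniformSpace.Completion.uniformContinuous_coe _)
  obtain ⟨g, hg⟩ := exists_extend i (fun x => he x.ofVal)
    (fun y c hc => by
      obtain ⟨x, hx⟩ := dense_of_ef1 L w P he hf y.ofVal c.ofVal (by simpa using hc)
      exact ⟨WithVal.toVal _ x, hx⟩) f hf'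
  exact ⟨{ toRingHom := g.comp (WithVal.equiv (P.valuation L)).symm.toRingHom
           commutes' := fun k => hg (WithVal.toVal _ k) }⟩

end Dedekind

end Groth.Agent.Helper22.LocEmb
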