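import Mathlib
import Groth.Agent.Lib.Helper22.LocEmb

/-!
# Hilbert theory lemmas for number fields used for S19284 (helper22)
-/

set_option autoImplicit false

open NumberField IsDedekindDomain IsDedekindDomain.HeightOneSpectrum Pointwise

namespace Groth.Agent.Helper22.HilbLoc

variable {K N : Type*} [Field K] [NumberField K] [Field N] [NumberField N] [Algebra K N]
  [IsGalois K N]

/-- The decomposition field of `Q` embeds into the completion at the prime below. -/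
theorem nonempty_decomp_algHom (w : HeightOneSpectrum (𝓞 K)) (Q : Ideal (𝓞 N)) [Q.IsPrime]
    [Q.LiesOver w.asIdeal] :
    Nonempty ((FixedPoints.intermediateField (MulAction.stabilizer Gal(N/K) Q) :
      IntermediateField K N) →ₐ[K] w.adicCompletion K) := by
  set Z : IntermediateField K N :=
    FixedPoints.intermediateField (MulAction.stabilizer Gal(N/K) Q) with hZ
  have hp : w.asIdeal ≠ ⊥ := w.ne_bot
  have hQ0 : Q ≠ ⊥ := Ideal.ne_bot_of_liesOver_of_ne_bot hp Q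
  haveI : Q.IsMaximal := Ideal.IsPrime.isMaximal inferInstance hQ0
  let 𝓟 : Ideal (𝓞 Z) := Q.under (𝓞 Z)
  haveI : 𝓟.LiesOver w.asIdeal := Ideal.LiesOver.tower_bot Q 𝓟 w.asIdeal
  haveI : 𝓟.IsMaximal := Ideal.IsMaximal.under (𝓞 Z) Q
  have he1 : 𝓟.ramificationIdx (𝓞 K) = 1 :=
    IsDecompositionField.ramificationIdx_eq (𝓞 K) K N Q Z (𝓞 Z) 𝓟 hp
  have hf1 : 𝓟.inertiaDeg (𝓞 K) = 1 :=
    IsDecompositionField.inertiaDeg_eq (𝓞 K) K N Q Z (𝓞 Z) 𝓟 hp
  have h𝓟0 : 𝓟 ≠ ⊥ := Ideal.ne_bot_of_liesOver_of_ne_bot hp 𝓟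
  let P : HeightOneSpectrum (𝓞 Z) := ⟨𝓟, inferInstance, h𝓟0⟩
  haveI : P.asIdeal.LiesOver w.asIdeal := ‹𝓟.LiesOver w.asIdeal›
  apply LocEmb.nonempty_algHom_adicCompletion Z w P
  · intro x
    have h := valuation_liesOver Z w P x
    rw [Ideal.ramificationIdx'_eq_ramificationIdx w.asIdeal P.asIdeal hp] at h
    rw [show P.asIdeal.ramificationIdx (𝓞 K) = 1 from he1, pow_one] at h
    exact h.symm
  · intro a
    haveI : w.asIdeal.IsMaximal := w.isMaximal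
    have hfin : Module.finrank (𝓞 K ⧸ w.asIdeal) (𝓞 Z ⧸ 𝓟) = 1 := by
      rw [← Ideal.inertiaDeg_eq_of_isMaximal w.asIdeal 𝓟]
      exact hf1
    letI := Ideal.Quotient.field w.asIdeal
    letI := Ideal.Quotient.field 𝓟
    have hsurj : Function.Surjective (algebraMap (𝓞 K ⧸ w.asIdeal) (𝓞 Z ⧸ 𝓟)) :=
      Algebra.surjective_algebraMap_iff.mpr (Subalgebra.bot_eq_top_of_finrank_eq_one hfin).symm
    obtain ⟨d, hd⟩ := hsurj (Ideal.Quotient.mk 𝓟 a)
    obtain ⟨d, rfl⟩ := Ideal.Quotient.mk_surjective d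
    refine ⟨d, ?_⟩
    rw [← Ideal.Quotient.eq, ← hd, Ideal.Quotient.algebraMap_mk_of_liesOver]

/-- Inertia acts trivially on an intermediate field which is unramified below `Q`. -/
theorem inertia_fixes {L : Type*} [Field L] [NumberField L] [Algebra K L] [Algebra L N]
    [IsScalarTower K L N] (p : Ideal (𝓞 K)) [p.IsPrime] (hp0 : p ≠ ⊥)
    (Q : Ideal (𝓞 N)) [Q.IsPrime] [Q.LiesOver p]
    (g : Gal(N/K)) (hg : g ∈ Q.inertia Gal(N/K))
    (he : (Q.under (𝓞 L)).ramificationIdx (𝓞 K) = 1) (x : L) :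
    g (algebraMap L N x) = algebraMap L N x := by
  haveI : IsGalois L N := IsGalois.tower_top_of_isGalois K L N
  let q : Ideal (𝓞 L) := Q.under (𝓞 L)
  haveI : q.LiesOver p := Ideal.LiesOver.tower_bot Q q p
  have hq0 : q ≠ ⊥ := Ideal.ne_bot_of_liesOver_of_ne_bot hp0 q
  haveI : Finite (𝓞 K ⧸ p) := Ring.HasFiniteQuotients.finiteQuotient hp0
  haveI : Finite (𝓞 L ⧸ q) := Ring.HasFiniteQuotients.finiteQuotient hq0
  have c1 : Nat.card (Q.inertia Gal(N/K)) = Q.ramificationIdx (𝓞 K) := by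
    rw [Ideal.card_inertia_eq_ramificationIdxIn p Q,
      Ideal.ramificationIdxIn_eq_ramificationIdx p Q Gal(N/K)]
  have c2 : Nat.card (Q.inertia Gal(N/L)) = Q.ramificationIdx (𝓞 L) := by
    rw [Ideal.card_inertia_eq_ramificationIdxIn q Q,
      Ideal.ramificationIdxIn_eq_ramificationIdx q Q Gal(N/L)]
  have c3 : Q.ramificationIdx (𝓞 K) = Q.ramificationIdx (𝓞 L) := by
    rw [Ideal.ramificationIdx_tower (R := 𝓞 K) q Q, he, one_mul]
  let ι : Gal(N/L) →* Gal(N/K) := AlgEquiv.restrictScalarsHom K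
  let φ : Q.inertia Gal(N/L) → Q.inertia Gal(N/K) := fun h => ⟨ι h.1, fun y => h.2 y⟩
  have φinj : Function.Injective φ := by
    intro h1 h2 h12
    apply Subtype.ext
    apply AlgEquiv.ext
    intro y
    exact congrArg (fun t : Q.inertia Gal(N/K) => t.1 y) h12
  have φbij : Function.Bijective φ :=
    φinj.bijective_of_nat_card_le (by rw [c1, c2, c3])
  obtain ⟨h, hh⟩ := φbij.2 ⟨g, hg⟩
  have hgh : g = ι h.1 := (congrArg Subtype.val hh).symm
  rw [hgh]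
  exact h.1.commutes x

/-- The decomposition group is generated by one element modulo inertia. -/
theorem exists_stabilizer_generator (p : Ideal (𝓞 K)) [p.IsMaximal]
    (Q : Ideal (𝓞 N)) [Q.IsMaximal] (hQ0 : Q ≠ ⊥) [Q.LiesOver p] :
    ∃ σ₀ ∈ MulAction.stabilizer Gal(N/K) Q, ∀ g ∈ MulAction.stabilizer Gal(N/K) Q,
      ∃ k : ℤ, ∃ i ∈ Q.inertia Gal(N/K), g = σ₀ ^ k * i := by
  letI := Ideal.Quotient.field p
  letI := Ideal.Quotient.field Q
  haveI : Finite (𝓞 N ⧸ Q) := Ring.HasFiniteQuotients.finiteQuotient hQ0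
  let φ := Ideal.Quotient.stabilizerHom Q p Gal(N/K)
  have hφ : Function.Surjective φ := Ideal.Quotient.stabilizerHom_surjective Gal(N/K) p Q
  obtain ⟨τ, hτ⟩ := IsCyclic.exists_generator (α := (𝓞 N ⧸ Q) ≃ₐ[𝓞 K ⧸ p] (𝓞 N ⧸ Q))
  obtain ⟨σ₀, hσ₀⟩ := hφ τ
  refine ⟨σ₀.1, σ₀.2, fun g hg => ?_⟩
  obtain ⟨k, hk⟩ := Subgroup.mem_zpowers_iff.mp (hτ (φ ⟨g, hg⟩))
  have hker : σ₀⁻¹ ^ k * ⟨g, hg⟩ ∈ φ.ker := by
    rw [MonoidHom.mem_ker, map_mul, map_zpow, map_inv, hσ₀, ← hk, inv_zpow, inv_mul_cancel]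
  rw [Ideal.Quotient.ker_stabilizerHom] at hker
  refine ⟨k, (σ₀⁻¹ ^ k * ⟨g, hg⟩ : MulAction.stabilizer Gal(N/K) Q).1,
    Ideal.coe_mem_inertia.mpr hker, ?_⟩
  simp [inv_zpow]

end Groth.Agent.Helper22.HilbLoc
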