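import Mathlib
import Groth.Agent.Lib.Helper22.HilbLoc

/-!
# Affine Galois action on embeddings: cyclic subextension (helper22, for S19284)
-/

set_option autoImplicit false

open NumberField IsDedekindDomain IsDedekindDomain.HeightOneSpectrum Pointwise

namespace Groth.Agent.Helper22.AffGal

section Group

variable {K L N : Type*} [Field K] [Field L] [Field N] [Algebra K L] [Algebra K N]
variable {p : ℕ} [Fact p.Prime] (e : (L →ₐ[K] N) ≃ ZMod p)

/-- linear part of the affine action -/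
noncomputable def A (σ : N ≃ₐ[K] N) : ZMod p :=
  e (σ.toAlgHom.comp (e.symm 1)) - e (σ.toAlgHom.comp (e.symm 0))

/-- translation part of the affine action -/
noncomputable def Bc (σ : N ≃ₐ[K] N) : ZMod p := e (σ.toAlgHom.comp (e.symm 0))

theorem comp_mul (σ τ : N ≃ₐ[K] N) (φ : L →ₐ[K] N) :
    (σ * τ).toAlgHom.comp φ = σ.toAlgHom.comp (τ.toAlgHom.comp φ) := by
  ext x; rfl

theorem comp_one (φ : L →ₐ[K] N) : (1 : N ≃ₐ[K] N).toAlgHom.comp φ = φ := by
  ext x; rfl

theorem A_one : A e (1 : N ≃ₐ[K] N) = 1 := by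
  unfold A
  rw [comp_one, comp_one, Equiv.apply_symm_apply, Equiv.apply_symm_apply, sub_zero]

/-- stabilizer of an embedding -/
def stab (φ : L →ₐ[K] N) : Subgroup (N ≃ₐ[K] N) where
  carrier := {σ | σ.toAlgHom.comp φ = φ}
  one_mem' := comp_one φ
  mul_mem' := fun {a b} ha hb => by
    simp only [Set.mem_ofPred_eq] at ha hb ⊢
    rw [comp_mul, hb, ha]
  inv_mem' := fun {a} ha => by
    simp only [Set.mem_ofPred_eq] at ha ⊢
    conv_lhs => rw [← ha]
    rw [← comp_mul, inv_mul_cancel, comp_one]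

theorem mem_stab {φ : L →ₐ[K] N} {σ : N ≃ₐ[K] N} : σ ∈ stab φ ↔ σ.toAlgHom.comp φ = φ := Iff.rfl

/-- `L` is isomorphic to the field range of an embedding. -/
noncomputable def equivFieldRange (ψ : L →ₐ[K] N) : L ≃ₐ[K] ψ.fieldRange :=
  AlgEquiv.ofBijective (ψ.codRestrict ψ.fieldRange.toSubalgebra
      (fun x => show ψ x ∈ ψ.fieldRange from AlgHom.mem_fieldRange.mpr ⟨x, rfl⟩))
    ⟨fun a b h => ψ.toRingHom.injective (congrArg Subtype.val h),
      fun ⟨y, hy⟩ => by
        obtain ⟨x, hx⟩ := AlgHom.mem_fieldRange.mp hy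
        exact ⟨x, Subtype.ext hx⟩⟩

variable (haff : ∀ σ : N ≃ₐ[K] N, ∃ a b : ZMod p, a ≠ 0 ∧
      ∀ φ : L →ₐ[K] N, e (σ.toAlgHom.comp φ) = a * e φ + b)
include haff

theorem aff (σ : N ≃ₐ[K] N) (φ : L →ₐ[K] N) :
    e (σ.toAlgHom.comp φ) = A e σ * e φ + Bc e σ := by
  obtain ⟨a, b, ha, h⟩ := haff σ
  have h0 := h (e.symm 0)
  have h1 := h (e.symm 1)
  rw [Equiv.apply_symm_apply] at h0 h1
  have hA : A e σ = a := by unfold A; rw [h1, h0]; ring
  have hB : Bc e σ = b := by unfold Bc; rw [h0]; ring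
  rw [hA, hB, h]

theorem A_ne_zero (σ : N ≃ₐ[K] N) : A e σ ≠ 0 := by
  obtain ⟨a, b, ha, h⟩ := haff σ
  have h0 := h (e.symm 0)
  have h1 := h (e.symm 1)
  rw [Equiv.apply_symm_apply] at h0 h1
  have hA : A e σ = a := by unfold A; rw [h1, h0]; ring
  rwa [hA]

theorem A_mul (σ τ : N ≃ₐ[K] N) : A e (σ * τ) = A e σ * A e τ := by
  have h1 := aff e haff σ (τ.toAlgHom.comp (e.symm 1))
  have h0 := aff e haff σ (τ.toAlgHom.comp (e.symm 0))
  show e ((σ * τ).toAlgHom.comp (e.symm 1)) - e ((σ * τ).toAlgHom.comp (e.symm 0)) =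
    A e σ * (e (τ.toAlgHom.comp (e.symm 1)) - e (τ.toAlgHom.comp (e.symm 0)))
  rw [comp_mul, comp_mul, h1, h0]
  ring

/-- the linear part as a group homomorphism -/
noncomputable def AHom : (N ≃ₐ[K] N) →* (ZMod p)ˣ :=
  MonoidHom.toHomUnits { toFun := A e, map_one' := A_one e, map_mul' := A_mul e haff }

theorem AHom_apply (σ : N ≃ₐ[K] N) : ((AHom e haff σ : (ZMod p)ˣ) : ZMod p) = A e σ :=
  MonoidHom.coe_toHomUnits _ _

theorem mem_ker (σ : N ≃ₐ[K] N) : σ ∈ (AHom e haff).ker ↔ A e σ = 1 := by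
  rw [MonoidHom.mem_ker, Units.ext_iff, AHom_apply, Units.val_one]

theorem exists_fixed (σ : N ≃ₐ[K] N) (hσ : A e σ ≠ 1) :
    ∃ φ : L →ₐ[K] N, σ.toAlgHom.comp φ = φ := by
  have h1 : (1 : ZMod p) - A e σ ≠ 0 := sub_ne_zero.mpr (Ne.symm hσ)
  refine ⟨e.symm (Bc e σ / (1 - A e σ)), e.injective ?_⟩
  rw [aff e haff, Equiv.apply_symm_apply]
  field_simp
  ring

end Group

section NF

variable {K L N : Type*} [Field K] [Field L] [Field N] [Algebra K L] [Algebra K N]
  [NumberField K] [NumberField L] [NumberField N] [IsGalois K N]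
variable {p : ℕ} [Fact p.Prime] (e : (L →ₐ[K] N) ≃ ZMod p)
variable (haff : ∀ σ : N ≃ₐ[K] N, ∃ a b : ZMod p, a ≠ 0 ∧
      ∀ φ : L →ₐ[K] N, e (σ.toAlgHom.comp φ) = a * e φ + b)
include haff

theorem false_of_A_eq_one
    (hnab : IsGalois K L → ∃ σ τ : L ≃ₐ[K] L, σ * τ ≠ τ * σ)
    (hA1 : ∀ σ : N ≃ₐ[K] N, A e σ = 1) : False := by
  have F1 : ∀ (σ : N ≃ₐ[K] N) (ψ φ : L →ₐ[K] N),
      σ.toAlgHom.comp ψ = ψ → σ.toAlgHom.comp φ = φ := by
    intro σ ψ φ h
    have h1 := aff e haff σ ψ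
    rw [h, hA1, one_mul] at h1
    have hB : Bc e σ = 0 := left_eq_add.mp h1
    apply e.injective
    rw [aff e haff σ φ, hA1, hB, one_mul, add_zero]
  have F2 : ∀ ψ φ : L →ₐ[K] N, φ.fieldRange ≤ ψ.fieldRange := by
    intro ψ φ
    rw [← IsGalois.fixedField_fixingSubgroup ψ.fieldRange]
    rintro _ ⟨x, rfl⟩
    rw [IntermediateField.mem_fixedField_iff]
    intro g hg
    have hgψ : g.toAlgHom.comp ψ = ψ := by
      ext y
      exact (IntermediateField.mem_fixingSubgroup_iff _ g).mp hg (ψ y)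
        (AlgHom.mem_fieldRange.mpr ⟨y, rfl⟩)
    exact DFunLike.congr_fun (F1 g ψ φ hgψ) x
  let ψ₀ : L →ₐ[K] N := e.symm 0
  haveI hnorm : Normal K ψ₀.fieldRange := by
    rw [IntermediateField.normal_iff_forall_map_le']
    intro σ
    rw [AlgHom.map_fieldRange]
    exact F2 ψ₀ _
  have hL : IsGalois K L := by
    haveI : Normal K L := Normal.of_algEquiv (equivFieldRange ψ₀).symm
    exact IsGalois.mk
  obtain ⟨σ, τ, hστ⟩ := hnab hL
  apply hστ
  letI : Algebra L N := ψ₀.toRingHom.toAlgebra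
  haveI : IsScalarTower K L N := IsScalarTower.of_algebraMap_eq (fun x => (ψ₀.commutes x).symm)
  have hgσ : ∀ x, (σ.liftNormal N) (ψ₀ x) = ψ₀ (σ x) := fun x => σ.liftNormal_commutes N x
  have hgτ : ∀ x, (τ.liftNormal N) (ψ₀ x) = ψ₀ (τ x) := fun x => τ.liftNormal_commutes N x
  have key : (σ.liftNormal N * τ.liftNormal N).toAlgHom.comp ψ₀ =
      (τ.liftNormal N * σ.liftNormal N).toAlgHom.comp ψ₀ := by
    apply e.injective
    rw [comp_mul, comp_mul, aff e haff (σ.liftNormal N) ((τ.liftNormal N).toAlgHom.comp ψ₀),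
      aff e haff (τ.liftNormal N) ψ₀,
      aff e haff (τ.liftNormal N) ((σ.liftNormal N).toAlgHom.comp ψ₀),
      aff e haff (σ.liftNormal N) ψ₀]
    simp only [hA1]
    ring
  ext x
  apply ψ₀.toRingHom.injective
  have h3 : (σ.liftNormal N) ((τ.liftNormal N) (ψ₀ x)) =
      (τ.liftNormal N) ((σ.liftNormal N) (ψ₀ x)) := DFunLike.congr_fun key x
  rw [hgτ, hgσ, hgσ, hgτ] at h3
  exact h3

theorem local_part (w : HeightOneSpectrum (𝓞 K))
    (hunr : ∀ P : Ideal (𝓞 L), P.IsPrime → P.LiesOver w.asIdeal →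
      P.ramificationIdx (𝓞 K) = 1) :
    Nonempty (IntermediateField.fixedField (AHom e haff).ker →ₐ[K] w.adicCompletion K) ∨
      Nonempty (L →ₐ[K] w.adicCompletion K) := by
  obtain ⟨⟨Q, hQ1, hQ2⟩⟩ := (inferInstance : Nonempty (w.asIdeal.primesOver (𝓞 N)))
  haveI := hQ1
  haveI := hQ2
  have hp : w.asIdeal ≠ ⊥ := w.ne_bot
  haveI : w.asIdeal.IsMaximal := w.isMaximal
  have hQ0 : Q ≠ ⊥ := Ideal.ne_bot_of_liesOver_of_ne_bot hp Q
  haveI : Q.IsMaximal := Ideal.IsPrime.isMaximal hQ1 hQ0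
  have h2a : ∀ g ∈ Q.inertia Gal(N/K), ∀ ψ : L →ₐ[K] N, g.toAlgHom.comp ψ = ψ := by
    intro g hg ψ
    letI : Algebra L N := ψ.toRingHom.toAlgebra
    haveI : IsScalarTower K L N :=
      IsScalarTower.of_algebraMap_eq (fun x => (ψ.commutes x).symm)
    haveI : (Q.under (𝓞 L)).LiesOver w.asIdeal :=
      Ideal.LiesOver.tower_bot Q (Q.under (𝓞 L)) w.asIdeal
    have he := hunr (Q.under (𝓞 L)) inferInstance inferInstance
    ext x
    exact HilbLoc.inertia_fixes w.asIdeal hp Q g hg he x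
  obtain ⟨σ₀, hσ₀, hgen⟩ := HilbLoc.exists_stabilizer_generator w.asIdeal Q hQ0
  obtain ⟨ι⟩ := HilbLoc.nonempty_decomp_algHom w Q
  have hAi : ∀ i ∈ Q.inertia Gal(N/K), A e i = 1 := by
    intro i hi
    unfold A
    rw [h2a i hi, h2a i hi, Equiv.apply_symm_apply, Equiv.apply_symm_apply, sub_zero]
  by_cases hA : A e σ₀ = 1
  · left
    have hDT : ∀ g ∈ MulAction.stabilizer Gal(N/K) Q, g ∈ (AHom e haff).ker := by
      intro g hg
      obtain ⟨k, i, hi, rfl⟩ := hgen g hg
      have h1 : σ₀ ∈ (AHom e haff).ker := (mem_ker e haff σ₀).mpr hA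
      have h2 : i ∈ (AHom e haff).ker := (mem_ker e haff i).mpr (hAi i hi)
      exact Subgroup.mul_mem _ (Subgroup.zpow_mem _ h1 k) h2
    have hle : IntermediateField.fixedField (AHom e haff).ker ≤
        (FixedPoints.intermediateField (MulAction.stabilizer Gal(N/K) Q) :
          IntermediateField K N) := by
      intro x hx
      rw [FixedPoints.mem_intermediateField_iff]
      intro m
      exact (IntermediateField.mem_fixedField_iff _ x).mp hx m.1 (hDT m.1 m.2)
    exact ⟨ι.comp (IntermediateField.inclusion hle)⟩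
  · right
    obtain ⟨φ, hφ⟩ := exists_fixed e haff σ₀ hA
    have hDS : ∀ g ∈ MulAction.stabilizer Gal(N/K) Q, g.toAlgHom.comp φ = φ := by
      intro g hg
      obtain ⟨k, i, hi, rfl⟩ := hgen g hg
      have h1 : σ₀ ∈ stab φ := hφ
      have h2 : i ∈ stab φ := h2a i hi φ
      exact Subgroup.mul_mem _ (Subgroup.zpow_mem _ h1 k) h2
    have hmem : ∀ x, φ x ∈ ((FixedPoints.intermediateField (MulAction.stabilizer Gal(N/K) Q) :
        IntermediateField K N)).toSubalgebra := by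
      intro x
      show φ x ∈ (FixedPoints.intermediateField (MulAction.stabilizer Gal(N/K) Q) :
        IntermediateField K N)
      rw [FixedPoints.mem_intermediateField_iff]
      intro m
      exact DFunLike.congr_fun (hDS m.1 m.2) x
    exact ⟨ι.comp (φ.codRestrict _ hmem)⟩

theorem main (hnab : IsGalois K L → ∃ σ τ : L ≃ₐ[K] L, σ * τ ≠ τ * σ) :
    ∃ E : IntermediateField K N, IsGalois K E ∧ IsCyclic (E ≃ₐ[K] E) ∧
      1 < Module.finrank K E ∧
      ∀ w : HeightOneSpectrum (𝓞 K),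
        (∀ P : Ideal (𝓞 L), P.IsPrime → P.LiesOver w.asIdeal →
          P.ramificationIdx (𝓞 K) = 1) →
        Nonempty (E →ₐ[K] w.adicCompletion K) ∨ Nonempty (L →ₐ[K] w.adicCompletion K) := by
  haveI : (AHom e haff).ker.Normal := MonoidHom.normal_ker _
  refine ⟨IntermediateField.fixedField (AHom e haff).ker,
    IsGalois.of_fixedField_normal_subgroup _, ?_, ?_, fun w hunr => local_part e haff w hunr⟩
  · have e1 := QuotientGroup.quotientKerEquivRange (AHom e haff)
    have e2 := IsGalois.normalAutEquivQuotient (AHom e haff).ker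
    haveI : IsCyclic ((N ≃ₐ[K] N) ⧸ (AHom e haff).ker) :=
      isCyclic_of_surjective e1.symm.toMonoidHom e1.symm.surjective
    exact isCyclic_of_surjective e2.toMonoidHom e2.surjective
  · by_contra hle
    have h1 : Module.finrank K (IntermediateField.fixedField (AHom e haff).ker) = 1 := by
      have := Module.finrank_pos (R := K) (M := IntermediateField.fixedField (AHom e haff).ker)
      omega
    have hbot : IntermediateField.fixedField (AHom e haff).ker = ⊥ :=
      IntermediateField.finrank_eq_one_iff.mp h1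
    have hTtop : (AHom e haff).ker = ⊤ := by
      rw [← IntermediateField.fixingSubgroup_fixedField (AHom e haff).ker, hbot,
        IntermediateField.fixingSubgroup_bot]
    have hA1 : ∀ σ : N ≃ₐ[K] N, A e σ = 1 := fun σ =>
      (mem_ker e haff σ).mp (hTtop ▸ Subgroup.mem_top σ)
    exact false_of_A_eq_one e haff hnab hA1

end NF

end Groth.Agent.Helper22.AffGal
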