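import Mathlib
import Groth.Agent.Lib.Helper6.HopfFG
import Groth.Agent.Lib.Helper6.HopfSubInst
import Groth.Agent.Lib.Helper6.HopfFlat

/-!
# Helper22: extension of rational points of commutative Hopf algebras over an algebraically closed
field from a Hopf subalgebra to the whole Hopf algebra (no finiteness assumption)

* `exists_algHom_ne_zero`: Nullstellensatz form for finite type algebras.
* `IsPt C M`: `M` is the kernel of a `k`-point of the subalgebra `C`.
* `exists_algHom_extension`: every `k`-point of a Hopf subalgebra extends to the Hopf algebra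
  (Takeuchi's faithful flatness + Zorn).
-/

set_option autoImplicit false
universe u v

namespace Groth.Agent.Helper22.PtExt

open TensorProduct Groth.Agent.Lib.Helper6.HopfSub

section Null

/-- Nullstellensatz: a non-nilpotent element of a finite type algebra over an algebraically closed
field is nonzero at some rational point. -/
theorem exists_algHom_ne_zero (k : Type u) [Field k] [IsAlgClosed k] (R : Type v) [CommRing R]
    [Algebra k R] [Algebra.FiniteType k R] (a : R) (ha : ¬ IsNilpotent a) :
    ∃ g : R →ₐ[k] k, g a ≠ 0 := by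
  haveI : IsJacobsonRing R := isJacobsonRing_of_finiteType (A := k)
  have h1 : a ∉ (⊥ : Ideal R).jacobson := by
    rw [← Ideal.radical_eq_jacobson]
    intro h
    exact ha (mem_nilradical.mp h)
  rw [Ideal.jacobson, Ideal.mem_sInf] at h1
  push_neg at h1
  obtain ⟨m, ⟨-, hm⟩, ham⟩ := h1
  haveI := hm
  letI : Field (R ⧸ m) := Ideal.Quotient.field m
  haveI : Algebra.FiniteType k (R ⧸ m) :=
    Algebra.FiniteType.of_surjective (Ideal.Quotient.mkₐ k m) (Ideal.Quotient.mkₐ_surjective k m)
  haveI : Module.Finite k (R ⧸ m) := finite_of_finite_type_of_isJacobsonRing k (R ⧸ m)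
  have hbij : Function.Bijective (algebraMap k (R ⧸ m)) :=
    IsAlgClosed.algebraMap_bijective_of_isIntegral
  let e : k ≃ₐ[k] (R ⧸ m) := AlgEquiv.ofBijective (Algebra.ofId k (R ⧸ m)) hbij
  refine ⟨(e.symm : (R ⧸ m) →ₐ[k] k).comp (Ideal.Quotient.mkₐ k m), ?_⟩
  intro h0
  have h2 : e.symm (Ideal.Quotient.mk m a) = 0 := h0
  rw [map_eq_zero_iff _ e.symm.injective, Ideal.Quotient.eq_zero_iff_mem] at h2
  exact ham h2

theorem exists_algHom_of_nontrivial (k : Type u) [Field k] [IsAlgClosed k] (R : Type v)
    [CommRing R] [Algebra k R] [Algebra.FiniteType k R] [Nontrivial R] :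
    Nonempty (R →ₐ[k] k) := by
  obtain ⟨g, -⟩ := exists_algHom_ne_zero k R 1 (fun h => by
    obtain ⟨n, hn⟩ := h
    rw [one_pow] at hn
    exact one_ne_zero hn)
  exact ⟨g⟩

end Null

section Pt

variable {k : Type u} [Field k] {A : Type v} [CommRing A] [Algebra k A]

/-- `M` is the kernel of a `k`-rational point of the subalgebra `C` of `A`. -/
structure IsPt (C : Subalgebra k A) (M : Submodule k A) : Prop where
  le : ∀ x ∈ M, x ∈ C
  one_notMem : (1 : A) ∉ M
  exists_sub : ∀ x ∈ C, ∃ c : k, x - algebraMap k A c ∈ M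
  mul_mem : ∀ x ∈ C, ∀ y ∈ M, x * y ∈ M

/-- the kernel of a point of `C`, as a subspace of `A` -/
noncomputable def ptKer (C : Subalgebra k A) (g : C →ₐ[k] k) : Submodule k A :=
  Submodule.map C.val.toLinearMap (LinearMap.ker g.toLinearMap)

theorem mem_ptKer {C : Subalgebra k A} {g : C →ₐ[k] k} {x : A} :
    x ∈ ptKer C g ↔ ∃ y : C, g y = 0 ∧ (y : A) = x := by
  rw [ptKer, Submodule.mem_map]
  constructor
  · rintro ⟨y, hy, rfl⟩
    exact ⟨y, LinearMap.mem_ker.mp hy, rfl⟩
  · rintro ⟨y, hy, rfl⟩
    exact ⟨y, LinearMap.mem_ker.mpr hy, rfl⟩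

theorem isPt_ptKer (C : Subalgebra k A) (g : C →ₐ[k] k) : IsPt C (ptKer C g) where
  le := by
    intro x hx
    obtain ⟨y, -, rfl⟩ := mem_ptKer.mp hx
    exact y.2
  one_notMem := by
    intro h
    obtain ⟨y, hy, hy1⟩ := mem_ptKer.mp h
    have : y = 1 := Subtype.ext hy1
    rw [this, map_one] at hy
    exact one_ne_zero hy
  exists_sub := by
    intro x hx
    refine ⟨g ⟨x, hx⟩, mem_ptKer.mpr ⟨⟨x, hx⟩ - algebraMap k C (g ⟨x, hx⟩), ?_, rfl⟩⟩
    rw [map_sub, AlgHom.commutes, Algebra.algebraMap_self_apply, sub_self]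
  mul_mem := by
    intro x hx y hy
    obtain ⟨y', hy', rfl⟩ := mem_ptKer.mp hy
    refine mem_ptKer.mpr ⟨⟨x, hx⟩ * y', ?_, rfl⟩
    rw [map_mul, hy', mul_zero]

theorem IsPt.unique {C : Subalgebra k A} {M : Submodule k A} (h : IsPt C M) {x : A} {c c' : k}
    (hc : x - algebraMap k A c ∈ M) (hc' : x - algebraMap k A c' ∈ M) : c = c' := by
  by_contra hne
  have h1 : algebraMap k A (c' - c) ∈ M := by
    have := M.sub_mem hc hc'
    rwa [sub_sub_sub_cancel_left, ← map_sub] at this
  have h2 : (c' - c)⁻¹ • algebraMap k A (c' - c) ∈ M := M.smul_mem _ h1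
  rw [Algebra.algebraMap_eq_smul_one, smul_smul, inv_mul_cancel₀ (sub_ne_zero.mpr (Ne.symm hne)),
    one_smul] at h2
  exact h.one_notMem h2

/-- the value of the point at an element of `C` -/
noncomputable def IsPt.val {C : Subalgebra k A} {M : Submodule k A} (h : IsPt C M) (y : C) : k :=
  Classical.choose (h.exists_sub y y.2)

theorem IsPt.val_spec {C : Subalgebra k A} {M : Submodule k A} (h : IsPt C M) (y : C) :
    (y : A) - algebraMap k A (h.val y) ∈ M :=
  Classical.choose_spec (h.exists_sub y y.2)

theorem IsPt.val_eq {C : Subalgebra k A} {M : Submodule k A} (h : IsPt C M) (y : C) {c : k}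
    (hc : (y : A) - algebraMap k A c ∈ M) : h.val y = c :=
  h.unique (h.val_spec y) hc

/-- the point of `C` with kernel `M` -/
noncomputable def IsPt.algHom {C : Subalgebra k A} {M : Submodule k A} (h : IsPt C M) :
    C →ₐ[k] k where
  toFun := h.val
  map_one' := h.val_eq 1 (by simp)
  map_mul' := by
    intro x y
    apply h.val_eq
    have h1 : ((x * y : C) : A) - algebraMap k A (h.val x * h.val y) =
        (x : A) * ((y : A) - algebraMap k A (h.val y)) +
          h.val y • ((x : A) - algebraMap k A (h.val x)) := by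
      rw [Algebra.smul_def, map_mul]
      push_cast
      ring
    rw [h1]
    exact M.add_mem (h.mul_mem _ x.2 _ (h.val_spec y)) (M.smul_mem _ (h.val_spec x))
  map_zero' := h.val_eq 0 (by simp)
  map_add' := by
    intro x y
    apply h.val_eq
    have h1 : ((x + y : C) : A) - algebraMap k A (h.val x + h.val y) =
        ((x : A) - algebraMap k A (h.val x)) + ((y : A) - algebraMap k A (h.val y)) := by
      rw [map_add]
      push_cast
      ring
    rw [h1]
    exact M.add_mem (h.val_spec x) (h.val_spec y)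
  commutes' := by
    intro c
    apply h.val_eq
    simp

theorem IsPt.algHom_apply {C : Subalgebra k A} {M : Submodule k A} (h : IsPt C M) (y : C) :
    h.algHom y = h.val y := rfl

end Pt

end Groth.Agent.Helper22.PtExt
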