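import Mathlib
import Groth.Agent.Lib.Helper22.PtExt1

/-!
# Helper22: Hopf subalgebras — suprema and directed unions; extension of points
-/

set_option autoImplicit false
universe u v

namespace Groth.Agent.Helper22.PtExt

open TensorProduct Groth.Agent.Lib.Helper6.HopfSub

section HopfSub

variable {k : Type u} [Field k] {A : Type v} [CommRing A] [HopfAlgebra k A]

theorem range_map_val_mono {C C' : Subalgebra k A} (h : C ≤ C') :
    LinearMap.range (TensorProduct.map C.val.toLinearMap C.val.toLinearMap) ≤
      LinearMap.range (TensorProduct.map C'.val.toLinearMap C'.val.toLinearMap) := by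
  rintro _ ⟨z, rfl⟩
  refine ⟨TensorProduct.map (Subalgebra.inclusion h).toLinearMap
    (Subalgebra.inclusion h).toLinearMap z, ?_⟩
  rw [← LinearMap.comp_apply, ← TensorProduct.map_comp]
  rfl

/-- the elements whose coproduct lies in `C ⊗ C` form a subalgebra -/
noncomputable def comulSub (C : Subalgebra k A) : Subalgebra k A where
  carrier := {a | Coalgebra.comul (R := k) a ∈
    LinearMap.range (TensorProduct.map C.val.toLinearMap C.val.toLinearMap)}
  mul_mem' := by
    rintro a b ⟨z₁, h₁⟩ ⟨z₂, h₂⟩
    refine ⟨z₁ * z₂, ?_⟩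
    have hmul : TensorProduct.map C.val.toLinearMap C.val.toLinearMap (z₁ * z₂) =
        TensorProduct.map C.val.toLinearMap C.val.toLinearMap z₁ *
          TensorProduct.map C.val.toLinearMap C.val.toLinearMap z₂ :=
      map_mul (Algebra.TensorProduct.map C.val C.val) z₁ z₂
    rw [hmul, h₁, h₂, Bialgebra.comul_mul]
  add_mem' := by
    rintro a b ⟨z₁, h₁⟩ ⟨z₂, h₂⟩
    exact ⟨z₁ + z₂, by rw [map_add, h₁, h₂, map_add]⟩
  algebraMap_mem' := by
    intro r
    refine ⟨algebraMap k (C ⊗[k] C) r, ?_⟩
    rw [Bialgebra.comul_algebraMap]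
    exact (Algebra.TensorProduct.map C.val C.val).commutes r
  one_mem' := by
    refine ⟨1, ?_⟩
    rw [Bialgebra.comul_one]
    exact map_one (Algebra.TensorProduct.map C.val C.val)
  zero_mem' := ⟨0, by simp⟩

theorem mem_comulSub {C : Subalgebra k A} {a : A} : a ∈ comulSub C ↔
    Coalgebra.comul (R := k) a ∈
      LinearMap.range (TensorProduct.map C.val.toLinearMap C.val.toLinearMap) := Iff.rfl

theorem isHopfSub_sup {C D : Subalgebra k A} (hC : IsHopfSub k A C) (hD : IsHopfSub k A D) :
    IsHopfSub k A (C ⊔ D) where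
  comul_mem := by
    have h : C ⊔ D ≤ comulSub (C ⊔ D) := by
      refine sup_le ?_ ?_
      · intro x hx
        exact range_map_val_mono le_sup_left (hC.comul_mem x hx)
      · intro x hx
        exact range_map_val_mono le_sup_right (hD.comul_mem x hx)
    exact fun b hb => h hb
  antipode_mem := by
    have h : C ⊔ D ≤ Subalgebra.comap (HopfAlgebra.antipodeAlgHom k A) (C ⊔ D) := by
      refine sup_le ?_ ?_
      · intro x hx
        exact (le_sup_left : C ≤ C ⊔ D) (hC.antipode_mem x hx)
      · intro x hx
        exact (le_sup_right : D ≤ C ⊔ D) (hD.antipode_mem x hx)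
    exact fun b hb => h hb

theorem isHopfSub_iSup_of_directed {ι : Type*} [Nonempty ι] (C : ι → Subalgebra k A)
    (hdir : Directed (· ≤ ·) C) (hC : ∀ i, IsHopfSub k A (C i)) : IsHopfSub k A (iSup C) where
  comul_mem := by
    intro b hb
    have hb' : b ∈ ((iSup C : Subalgebra k A) : Set A) := hb
    rw [Subalgebra.coe_iSup_of_directed hdir, Set.mem_iUnion] at hb'
    obtain ⟨i, hi⟩ := hb'
    exact range_map_val_mono (le_iSup C i) ((hC i).comul_mem b hi)
  antipode_mem := by
    intro b hb
    have hb' : b ∈ ((iSup C : Subalgebra k A) : Set A) := hb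
    rw [Subalgebra.coe_iSup_of_directed hdir, Set.mem_iUnion] at hb'
    obtain ⟨i, hi⟩ := hb'
    exact (le_iSup C i) ((hC i).antipode_mem b hi)

end HopfSub

end Groth.Agent.Helper22.PtExt
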