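import Mathlib
import Groth.Agent.Lib.Helper22.PtExt2

/-!
# Helper22: extension of rational points from Hopf subalgebras (algebraically closed base field)
-/

set_option autoImplicit false
universe u v

namespace Groth.Agent.Helper22.PtExt

open TensorProduct Groth.Agent.Lib.Helper6.HopfSub

section Ext

variable {k : Type u} [Field k] [IsAlgClosed k] {A : Type v} [CommRing A] [HopfAlgebra k A]

/-- one extension step: enlarge a pointed Hopf subalgebra so as to contain a given element -/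
theorem exists_step {C : Subalgebra k A} {M : Submodule k A} (hC : IsHopfSub k A C)
    (hM : IsPt C M) (x : A) :
    ∃ (C' : Subalgebra k A) (M' : Submodule k A), IsHopfSub k A C' ∧ IsPt C' M' ∧ C ≤ C' ∧
      M ≤ M' ∧ x ∈ C' := by
  classical
  obtain ⟨D, hxD, hDfg, hD⟩ :=
    Groth.Agent.Lib.Helper6.HopfFG.exists_fg_hopfSub (k := k) ({x} : Finset A)
  have hxD' : x ∈ D := hxD x (Finset.mem_singleton_self x)
  set J : Ideal A := Ideal.span (M : Set A) with hJ
  have hJ1 : (1 : A) ∉ J := by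
    haveI := Groth.Agent.Lib.Helper6.HopfFlat.faithfullyFlat hC
    let m : Ideal C :=
      { carrier := {y | (y : A) ∈ M}
        add_mem' := fun {a b} ha hb => M.add_mem ha hb
        zero_mem' := M.zero_mem
        smul_mem' := fun c y hy => hM.mul_mem _ c.2 _ hy }
    have hm : m.map (algebraMap C A) = J := by
      rw [Ideal.map, hJ]
      congr 1
      ext y
      constructor
      · rintro ⟨z, hz, rfl⟩
        exact hz
      · intro hy
        exact ⟨⟨y, hM.le y hy⟩, hy, rfl⟩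
    intro h1
    have h2 : (1 : C) ∈ (m.map (algebraMap C A)).comap (algebraMap C A) := by
      rw [Ideal.mem_comap, hm, map_one]
      exact h1
    rw [Ideal.comap_map_eq_self_of_faithfullyFlat] at h2
    exact hM.one_notMem h2
  haveI : Nontrivial (A ⧸ J) :=
    Ideal.Quotient.nontrivial_iff.mpr ((Ideal.ne_top_iff_one J).mpr hJ1)
  let π : A →ₐ[k] (A ⧸ J) := Ideal.Quotient.mkₐ k J
  let R : Subalgebra k (A ⧸ J) := D.map π
  have hRfg : R.FG := hDfg.map π
  haveI : Algebra.FiniteType k R := (Subalgebra.fg_iff_finiteType R).mp hRfg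
  haveI : Nontrivial R := ⟨⟨0, 1, fun h => zero_ne_one (congrArg Subtype.val h)⟩⟩
  obtain ⟨χ⟩ := exists_algHom_of_nontrivial k R
  have hπM : ∀ y ∈ M, π y = 0 := fun y hy =>
    Ideal.Quotient.eq_zero_iff_mem.mpr (Ideal.subset_span hy)
  have hπC : ∀ y ∈ C, π y ∈ R := by
    intro y hy
    obtain ⟨c, hc⟩ := hM.exists_sub y hy
    have h1 : π y = algebraMap k (A ⧸ J) c := by
      have := hπM _ hc
      rw [map_sub, sub_eq_zero, AlgHom.commutes] at this
      exact this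
    rw [h1]
    exact R.algebraMap_mem c
  have hπC' : ∀ y ∈ C ⊔ D, π y ∈ R := by
    have h : C ⊔ D ≤ R.comap π :=
      sup_le (fun y hy => hπC y hy) (fun y hy => Subalgebra.mem_map.mpr ⟨y, hy, rfl⟩)
    exact fun y hy => h hy
  let ρ : (C ⊔ D : Subalgebra k A) →ₐ[k] R :=
    (π.comp (C ⊔ D : Subalgebra k A).val).codRestrict R (fun y => hπC' y y.2)
  let g' : (C ⊔ D : Subalgebra k A) →ₐ[k] k := χ.comp ρ
  refine ⟨C ⊔ D, ptKer (C ⊔ D) g', isHopfSub_sup hC hD, isPt_ptKer _ _, le_sup_left, ?_,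
    (le_sup_right : D ≤ C ⊔ D) hxD'⟩
  intro y hy
  refine mem_ptKer.mpr ⟨⟨y, (le_sup_left : C ≤ C ⊔ D) (hM.le y hy)⟩, ?_, rfl⟩
  have h0 : ρ ⟨y, (le_sup_left : C ≤ C ⊔ D) (hM.le y hy)⟩ = 0 :=
    Subtype.ext (hπM y hy)
  show χ (ρ _) = 0
  rw [h0, map_zero]

/-- **Extension of rational points**: over an algebraically closed field, every `k`-point of a
Hopf subalgebra of a commutative Hopf algebra extends to a `k`-point of the whole Hopf algebra. -/
theorem exists_algHom_extension {B : Subalgebra k A} (hB : IsHopfSub k A B) (g₀ : B →ₐ[k] k) :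
    ∃ g : A →ₐ[k] k, ∀ b : B, g b = g₀ b := by
  classical
  let S : Set (Subalgebra k A × Submodule k A) := {p | IsHopfSub k A p.1 ∧ IsPt p.1 p.2}
  have hchain : ∀ c ⊆ S, IsChain (· ≤ ·) c → ∀ y ∈ c, ∃ ub ∈ S, ∀ z ∈ c, z ≤ ub := by
    intro c hcS hc y hy
    haveI : Nonempty c := ⟨⟨y, hy⟩⟩
    have hdir1 : Directed (· ≤ ·) (fun p : c => p.1.1) := by
      intro p q
      rcases hc.total p.2 q.2 with h | h
      · exact ⟨q, h.1, le_rfl⟩
      · exact ⟨p, le_rfl, h.1⟩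
    have hdir2 : Directed (· ≤ ·) (fun p : c => p.1.2) := by
      intro p q
      rcases hc.total p.2 q.2 with h | h
      · exact ⟨q, h.2, le_rfl⟩
      · exact ⟨p, le_rfl, h.2⟩
    have memC : ∀ x, x ∈ (⨆ p : c, p.1.1 : Subalgebra k A) ↔ ∃ p : c, x ∈ p.1.1 := by
      intro x
      rw [← SetLike.mem_coe, Subalgebra.coe_iSup_of_directed hdir1, Set.mem_iUnion]
      rfl
    have memM : ∀ x, x ∈ (⨆ p : c, p.1.2 : Submodule k A) ↔ ∃ p : c, x ∈ p.1.2 :=
      fun x => Submodule.mem_iSup_of_directed _ hdir2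
    refine ⟨(⨆ p : c, p.1.1, ⨆ p : c, p.1.2), ⟨?_, ?_⟩, ?_⟩
    · exact isHopfSub_iSup_of_directed _ hdir1 (fun p => (hcS p.2).1)
    · refine ⟨?_, ?_, ?_, ?_⟩
      · intro x hx
        obtain ⟨p, hp⟩ := (memM x).mp hx
        exact (memC x).mpr ⟨p, (hcS p.2).2.le x hp⟩
      · intro h1
        obtain ⟨p, hp⟩ := (memM 1).mp h1
        exact (hcS p.2).2.one_notMem hp
      · intro x hx
        obtain ⟨p, hp⟩ := (memC x).mp hx
        obtain ⟨a, ha⟩ := (hcS p.2).2.exists_sub x hp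
        exact ⟨a, (memM _).mpr ⟨p, ha⟩⟩
      · intro x hx y hy
        obtain ⟨p, hp⟩ := (memC x).mp hx
        obtain ⟨q, hq⟩ := (memM y).mp hy
        rcases hc.total p.2 q.2 with h | h
        · exact (memM _).mpr ⟨q, (hcS q.2).2.mul_mem x (h.1 hp) y hq⟩
        · exact (memM _).mpr ⟨p, (hcS p.2).2.mul_mem x hp y (h.2 hq)⟩
    · intro z hz
      exact ⟨le_iSup (fun p : c => p.1.1) ⟨z, hz⟩, le_iSup (fun p : c => p.1.2) ⟨z, hz⟩⟩
  obtain ⟨⟨C, M⟩, hle, hmax⟩ :=
    zorn_le_nonempty₀ S hchain (B, ptKer B g₀) ⟨hB, isPt_ptKer B g₀⟩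
  have hCtop : C = ⊤ := by
    by_contra hne
    obtain ⟨x, -, hx⟩ := SetLike.exists_of_lt (lt_top_iff_ne_top.mpr hne)
    obtain ⟨C', M', hC', hM', hCC', hMM', hxC'⟩ := exists_step hmax.1.1 hmax.1.2 x
    have h1 : ((C', M') : Subalgebra k A × Submodule k A) ≤ (C, M) :=
      hmax.2 (show (C', M') ∈ S from ⟨hC', hM'⟩) ⟨hCC', hMM'⟩
    exact hx (h1.1 hxC')
  subst hCtop
  have hM : IsPt (⊤ : Subalgebra k A) M := hmax.1.2
  refine ⟨hM.algHom.comp (Subalgebra.topEquiv (R := k) (A := A)).symm.toAlgHom, ?_⟩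
  intro b
  show hM.val _ = g₀ b
  apply hM.val_eq
  apply hle.2
  refine mem_ptKer.mpr ⟨b - algebraMap k B (g₀ b), ?_, ?_⟩
  · rw [map_sub, AlgHom.commutes, Algebra.algebraMap_self_apply, sub_self]
  · rfl

end Ext

end Groth.Agent.Helper22.PtExt
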