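import Mathlib
import Groth.Agent.Lib.Helper22.PtExt3

/-!
# Helper22: rational points of a commutative Hopf algebra over an algebraically closed field detect
non-nilpotent elements (any characteristic, no finiteness assumption)
-/

set_option autoImplicit false
universe u v

namespace Groth.Agent.Helper22.PtExt

open TensorProduct Groth.Agent.Lib.Helper6.HopfSub

variable {k : Type u} [Field k] [IsAlgClosed k] {A : Type v} [CommRing A] [HopfAlgebra k A]

/-- for `a` not nilpotent there is a rational point of `A` not vanishing at `a` -/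
theorem exists_algHom_apply_ne_zero_of_not_isNilpotent {a : A} (ha : ¬ IsNilpotent a) :
    ∃ g : A →ₐ[k] k, g a ≠ 0 := by
  classical
  obtain ⟨B, haB, hBfg, hB⟩ :=
    Groth.Agent.Lib.Helper6.HopfFG.exists_fg_hopfSub (k := k) ({a} : Finset A)
  have haB' : a ∈ B := haB a (Finset.mem_singleton_self a)
  haveI : Algebra.FiniteType k B := (Subalgebra.fg_iff_finiteType B).mp hBfg
  have hnil : ¬ IsNilpotent (⟨a, haB'⟩ : B) := by
    rintro ⟨n, hn⟩
    exact ha ⟨n, by simpa using congrArg Subtype.val hn⟩
  obtain ⟨g₀, hg₀⟩ := exists_algHom_ne_zero k B ⟨a, haB'⟩ hnil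
  obtain ⟨g, hg⟩ := exists_algHom_extension hB g₀
  refine ⟨g, ?_⟩
  have := hg ⟨a, haB'⟩
  rw [show g ((⟨a, haB'⟩ : B) : A) = g a from rfl] at this
  rw [this]
  exact hg₀

end Groth.Agent.Helper22.PtExt
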