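import Mathlib
import Groth.Agent.Lib.Helper22.PtExt5

/-!
# Helper22: affine group schemes over a field, in `Over (Spec k)` form, and their Hopf algebras of
global sections; rational points from algebra maps; density of rational points
-/

set_option autoImplicit false
universe u
open CategoryTheory MonoidalCategory CartesianMonoidalCategory MonObj GrpObj AlgebraicGeometry

namespace Groth.Agent.Helper22.AffGrp

section
variable {k : Type u} [Field k] (G : Over (Spec (CommRingCat.of k)))

/-- the structure morphism of an object of `Over (Spec k)` as an `OverClass` instance -/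
@[reducible] noncomputable def ovr : G.left.Over (Spec (CommRingCat.of k)) := ⟨G.hom⟩

attribute [local instance] ovr

@[reducible] noncomputable def grpAs [GrpObj G] :
    GrpObj (G.left.asOver (Spec (CommRingCat.of k))) :=
  inferInstanceAs (GrpObj G)

attribute [local instance] grpAs

/-- the Hopf algebra structure on the global sections of an affine group scheme over a field -/
@[reducible] noncomputable def hopfΓ [GrpObj G] [IsAffine G.left] : HopfAlgebra k Γ(G.left, ⊤) :=
  @instHopfAlgebraCarrierObjOppositeOpensCarrierCarrierCommRingCatPresheafOpOpensTopOfGrpObjOverSchemeSpecAsOverOfIsAffine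
    (CommRingCat.of k) G.left _ _ _

attribute [local instance] hopfΓ

/-- `Spec` of the structure map of global sections is the structure morphism -/
theorem isoSpec_inv_hom [GrpObj G] [IsAffine G.left] :
    G.left.isoSpec.inv ≫ G.hom =
      Spec.map (CommRingCat.ofHom (algebraMap k Γ(G.left, ⊤))) := by
  have h1 : algebraMap k Γ(G.left, ⊤) =
    CommRingCat.Hom.hom (Spec.fullyFaithful.preimage
      (G.left.isoSpec.inv ≫ G.left ↘ Spec (CommRingCat.of k))).unop := rfl
  rw [h1]
  have := Spec.fullyFaithful.map_preimage (G.left.isoSpec.inv ≫ G.left ↘ Spec (CommRingCat.of k))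
  exact this.symm

/-- the rational point of `G` attached to a `k`-algebra map on global sections -/
noncomputable def ptOf [GrpObj G] [IsAffine G.left] (χ : Γ(G.left, ⊤) →ₐ[k] k) :
    𝟙_ (Over (Spec (CommRingCat.of k))) ⟶ G :=
  Over.homMk (Spec.map (CommRingCat.ofHom χ.toRingHom) ≫ G.left.isoSpec.inv) (by
    have h2 : χ.toRingHom.comp (algebraMap k Γ(G.left, ⊤)) = RingHom.id k := by
      ext x
      simp
    rw [Category.assoc, isoSpec_inv_hom, ← Spec.map_comp, ← CommRingCat.ofHom_comp, h2]
    simp)

theorem ptOf_left [GrpObj G] [IsAffine G.left] (χ : Γ(G.left, ⊤) →ₐ[k] k) :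
    (ptOf G χ).left = Spec.map (CommRingCat.ofHom χ.toRingHom) ≫ G.left.isoSpec.inv := rfl

theorem ptOf_mem_basicOpen [GrpObj G] [IsAffine G.left] (χ : Γ(G.left, ⊤) →ₐ[k] k)
    (a : Γ(G.left, ⊤)) (h : χ a ≠ 0) :
    (ptOf G χ).left.base (IsLocalRing.closedPoint k) ∈ G.left.basicOpen a := by
  have hmem : (Spec.map (CommRingCat.ofHom χ.toRingHom)).base (IsLocalRing.closedPoint k) ∈
      (isAffineOpen_top G.left).fromSpec ⁻¹ᵁ G.left.basicOpen a := by
    rw [IsAffineOpen.fromSpec_preimage_basicOpen]
    show a ∉ ((Spec.map (CommRingCat.ofHom χ.toRingHom)).base (IsLocalRing.closedPoint k)).asIdeal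
    intro ha
    apply h
    have h1 : χ a ∈ IsLocalRing.maximalIdeal k := ha
    rw [IsLocalRing.maximalIdeal_eq_bot] at h1
    exact h1
  rw [IsAffineOpen.fromSpec_top] at hmem
  rw [ptOf_left]
  exact hmem

/-- the rational points of an affine group scheme over an algebraically closed field are dense -/
theorem dense_rationalPoints [IsAlgClosed k] [GrpObj G] [IsAffine G.left] :
    Dense {x : ↥G.left | ∃ g : 𝟙_ (Over (Spec (CommRingCat.of k))) ⟶ G,
      g.left.base (IsLocalRing.closedPoint k) = x} := by
  rw [dense_iff_inter_open]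
  rintro U hU ⟨x, hx⟩
  obtain ⟨a, haU, hxa⟩ :=
    (isAffineOpen_top G.left).exists_basicOpen_le (V := ⟨U, hU⟩) ⟨x, hx⟩ trivial
  have hnil : ¬ IsNilpotent a := by
    rintro ⟨n, hn⟩
    have h0 : a ^ (n + 1) = 0 := by rw [pow_succ, hn, zero_mul]
    have h1 : G.left.basicOpen a = ⊥ := by
      rw [← Scheme.basicOpen_pow _ a (Nat.succ_pos n), h0, Scheme.basicOpen_zero]
    rw [h1] at hxa
    exact hxa
  obtain ⟨χ, hχ⟩ :=
    Groth.Agent.Helper22.PtExt.exists_algHom_apply_ne_zero_of_not_isNilpotent (k := k) hnil
  exact ⟨(ptOf G χ).left.base (IsLocalRing.closedPoint k), haU (ptOf_mem_basicOpen G χ a hχ),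
    ⟨ptOf G χ, rfl⟩⟩

end

end Groth.Agent.Helper22.AffGrp
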