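import Mathlib
import Groth.Agent.Lib.Helper22.PtExt3
import Groth.Agent.Lib.Helper6.HopfRange

/-!
# Helper22: lifting rational points along a bialgebra map inducing a surjection on spectra
-/

set_option autoImplicit false
universe u v w

namespace Groth.Agent.Helper22.PtExt

open TensorProduct Groth.Agent.Lib.Helper6.HopfSub

variable {k : Type u} [Field k] [IsAlgClosed k] {A : Type v} {B : Type w} [CommRing A] [CommRing B]
  [HopfAlgebra k A] [HopfAlgebra k B]

/-- If a bialgebra map `φ : A → B` of commutative Hopf algebras over an algebraically closed field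
induces a surjection `Spec B → Spec A`, then every rational point of `A` lifts to `B`. -/
theorem exists_algHom_comp_eq (φ : A →ₐc[k] B)
    (hφ : Function.Surjective (PrimeSpectrum.comap (φ : A →+* B))) (χ' : A →ₐ[k] k) :
    ∃ χ : B →ₐ[k] k, χ.comp (φ : A →ₐ[k] B) = χ' := by
  have hker : ∀ a : A, φ a = 0 → χ' a = 0 := by
    intro a ha
    let p' : PrimeSpectrum A := ⟨RingHom.ker (χ' : A →+* k), RingHom.ker_isPrime _⟩
    obtain ⟨q, hq⟩ := hφ p'
    have h1 : a ∈ (PrimeSpectrum.comap (φ : A →+* B) q).asIdeal := by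
      show (φ : A →+* B) a ∈ q.asIdeal
      have : (φ : A →+* B) a = 0 := ha
      rw [this]
      exact q.asIdeal.zero_mem
    rw [hq] at h1
    exact h1
  have hB := Groth.Agent.Lib.Helper6.HopfRange.isHopfSub_range φ
  -- the point of the range
  let ρ : A →ₐ[k] (φ : A →ₐ[k] B).range := (φ : A →ₐ[k] B).rangeRestrict
  have hρ : Function.Surjective ρ := (φ : A →ₐ[k] B).rangeRestrict_surjective
  have hkerρ : ∀ a : A, a ∈ RingHom.ker (ρ : A →+* (φ : A →ₐ[k] B).range) → χ' a = 0 := by
    intro a ha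
    apply hker
    have : ρ a = 0 := ha
    exact congrArg Subtype.val this
  let g₀ : (φ : A →ₐ[k] B).range →ₐ[k] k :=
    (Ideal.Quotient.liftₐ (RingHom.ker (ρ : A →+* (φ : A →ₐ[k] B).range)) χ' hkerρ).comp
      (Ideal.quotientKerAlgEquivOfSurjective hρ).symm.toAlgHom
  have hg₀ : ∀ a : A, g₀ (ρ a) = χ' a := by
    intro a
    show Ideal.Quotient.liftₐ _ χ' hkerρ ((Ideal.quotientKerAlgEquivOfSurjective hρ).symm (ρ a)) = _
    have h1 : (Ideal.quotientKerAlgEquivOfSurjective hρ).symm (ρ a) =
        Ideal.Quotient.mk _ a := by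
      rw [AlgEquiv.symm_apply_eq]
      rfl
    rw [h1]
    rfl
  obtain ⟨χ, hχ⟩ := exists_algHom_extension hB g₀
  refine ⟨χ, ?_⟩
  ext a
  have := hχ (ρ a)
  rw [hg₀] at this
  exact this

end Groth.Agent.Helper22.PtExt
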