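import Mathlib
import Groth.Agent.Lib.Helper22.PtExt6

/-!
# Helper22: affine group schemes over a field as `Spec` of Hopf algebras; rational points of
`Spec B`; surjective homomorphisms of affine group schemes over an algebraically closed field are
surjective on rational points
-/

set_option autoImplicit false
universe u
open CategoryTheory MonoidalCategory CartesianMonoidalCategory MonObj GrpObj AlgebraicGeometry
  Opposite

namespace Groth.Agent.Helper22.AffGrp2

section
variable {k : Type u} [Field k]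

/-- every affine group scheme over `Spec k` is isomorphic, as a group object, to `Spec` of a Hopf
algebra -/
theorem exists_hopf (G : Over (Spec (CommRingCat.of k))) [GrpObj G] [IsAffine G.left] :
    ∃ (H : CommHopfAlgCat.{u} (CommRingCat.of k)),
      Nonempty ((hopfSpec (CommRingCat.of k)).obj (op H) ≅ Grp.mk G) := by
  have h : (hopfSpec (CommRingCat.of k)).essImage (Grp.mk G) :=
    essImage_hopfSpec.mpr (show IsAffine G.left from inferInstance)
  exact ⟨h.witness.unop, ⟨h.getIso⟩⟩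

/-- rational point of `Spec B` from an algebra map `B → k` -/
noncomputable def ptSpec (B : Type u) [CommRing B] [Algebra k B] (χ : B →ₐ[k] k) :
    𝟙_ (Over (Spec (CommRingCat.of k))) ⟶
      (Spec (CommRingCat.of B)).asOver (Spec (CommRingCat.of k)) :=
  Over.homMk (Spec.map (CommRingCat.ofHom χ.toRingHom)) (by
    have h2 : χ.toRingHom.comp (algebraMap k B) = RingHom.id k := by
      ext x
      simp
    show Spec.map (CommRingCat.ofHom χ.toRingHom) ≫
      Spec.map (CommRingCat.ofHom (algebraMap k B)) = 𝟙 _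
    rw [← Spec.map_comp, ← CommRingCat.ofHom_comp, h2]
    simp)

theorem ptSpec_left (B : Type u) [CommRing B] [Algebra k B] (χ : B →ₐ[k] k) :
    (ptSpec B χ).left = Spec.map (CommRingCat.ofHom χ.toRingHom) := rfl

theorem exists_eq_ptSpec (B : Type u) [CommRing B] [Algebra k B]
    (x : 𝟙_ (Over (Spec (CommRingCat.of k))) ⟶
      (Spec (CommRingCat.of B)).asOver (Spec (CommRingCat.of k))) :
    ∃ χ : B →ₐ[k] k, ptSpec B χ = x := by
  let r : B →+* k := (Spec.preimage x.left).hom
  have hr : Spec.map (CommRingCat.ofHom r) = x.left := by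
    show Spec.map (CommRingCat.ofHom (Spec.preimage x.left).hom) = x.left
    rw [CommRingCat.ofHom_hom]
    exact Spec.map_preimage _
  have hw : x.left ≫ Spec.map (CommRingCat.ofHom (algebraMap k B)) = 𝟙 _ := Over.w x
  have hcomm : r.comp (algebraMap k B) = RingHom.id k := by
    have h1 : Spec.map (CommRingCat.ofHom (r.comp (algebraMap k B))) =
        Spec.map (CommRingCat.ofHom (RingHom.id k)) := by
      rw [CommRingCat.ofHom_comp, Spec.map_comp, hr]
      refine Eq.trans hw ?_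
      show 𝟙 (Spec (CommRingCat.of k)) = _
      rw [CommRingCat.ofHom_id, Spec.map_id]
    have h2 := Spec.map_injective h1
    exact congrArg CommRingCat.Hom.hom h2
  refine ⟨{ r with commutes' := fun c => ?_ }, ?_⟩
  · exact congrFun (congrArg DFunLike.coe hcomm) c
  · ext : 1
    exact hr

theorem ptSpec_comp {A B : Type u} [CommRing A] [CommRing B] [Algebra k A] [Algebra k B]
    (φ : A →ₐ[k] B) (χ : B →ₐ[k] k)
    (m : (Spec (CommRingCat.of B)).asOver (Spec (CommRingCat.of k)) ⟶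
      (Spec (CommRingCat.of A)).asOver (Spec (CommRingCat.of k)))
    (hm : m.left = Spec.map (CommRingCat.ofHom φ.toRingHom)) :
    ptSpec B χ ≫ m = ptSpec A (χ.comp φ) := by
  ext : 1
  have h1 : (ptSpec B χ ≫ m).left = Spec.map (CommRingCat.ofHom χ.toRingHom) ≫
      Spec.map (CommRingCat.ofHom φ.toRingHom) :=
    congrArg (fun t => Spec.map (CommRingCat.ofHom χ.toRingHom) ≫ t) hm
  refine h1.trans ?_
  rw [← Spec.map_comp, ← CommRingCat.ofHom_comp]
  rfl

theorem step1 
    (G G' : Over (Spec (CommRingCat.of k))) [GrpObj G] [GrpObj G'] 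
    (h : G ⟶ G') [IsMonHom h] 
    (H H' : CommHopfAlgCat.{u} (CommRingCat.of k))
    (e : (hopfSpec (CommRingCat.of k)).obj (op H) ≅ Grp.mk G)
    (e' : (hopfSpec (CommRingCat.of k)).obj (op H') ≅ Grp.mk G') :
    ∃ φ : H' →ₐc[CommRingCat.of k] H, ∃ m : (Spec (CommRingCat.of H)).asOver (Spec (CommRingCat.of k)) ⟶
      (Spec (CommRingCat.of H')).asOver (Spec (CommRingCat.of k)), 
      m = e.hom.hom.hom ≫ h ≫ e'.inv.hom.hom ∧ m.left = Spec.map (CommRingCat.ofHom (φ : H' →ₐ[CommRingCat.of k] H).toRingHom) := by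
  let ψ : (hopfSpec (CommRingCat.of k)).obj (op H) ⟶ (hopfSpec (CommRingCat.of k)).obj (op H') :=
    e.hom ≫ Grp.ofHom h ≫ e'.inv
  let f : op H ⟶ op H' := hopfSpec.fullyFaithful.preimage ψ
  have hf : (hopfSpec (CommRingCat.of k)).map f = ψ :=
    hopfSpec.fullyFaithful.map_preimage ψ
  refine ⟨f.unop.hom, ψ.hom.hom, rfl, ?_⟩
  rw [← hf]
  rfl

theorem step2
    (G G' : Over (Spec (CommRingCat.of k))) [GrpObj G] [GrpObj G'] 
    (h : G ⟶ G') (hs : Surjective h.left)
    (H H' : CommHopfAlgCat.{u} (CommRingCat.of k))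
    (e : (hopfSpec (CommRingCat.of k)).obj (op H) ≅ Grp.mk G)
    (e' : (hopfSpec (CommRingCat.of k)).obj (op H') ≅ Grp.mk G') :
    Surjective (e.hom.hom.hom ≫ h ≫ e'.inv.hom.hom).left := by
  have i1 : IsIso e.hom.hom.hom.left :=
    (inferInstance : IsIso ((Grp.forget _ ⋙ Over.forget _).mapIso e).hom)
  have i2 : IsIso e'.inv.hom.hom.left :=
    (inferInstance : IsIso ((Grp.forget _ ⋙ Over.forget _).mapIso e').inv)
  have := hs
  have hsurj0 : Surjective (e.hom.hom.hom.left ≫ h.left ≫ e'.inv.hom.hom.left) := inferInstance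
  exact hsurj0

theorem cancel_aux {C : Type*} [Category C] {U A G G' B : C} (a : A ⟶ G) (h : G ⟶ G')
    (b : G' ⟶ B) (b' : B ⟶ G') (hb : b ≫ b' = 𝟙 G') (p : U ⟶ A) (x : U ⟶ G')
    (hp : p ≫ (a ≫ h ≫ b) = x ≫ b) : (p ≫ a) ≫ h = x := by
  have := congrArg (· ≫ b') hp
  simp only [Category.assoc, hb, Category.comp_id] at this
  simpa using this

theorem points_surjective [IsAlgClosed k]
    (G G' : Over (Spec (CommRingCat.of k))) [GrpObj G] [GrpObj G'] [IsAffine G.left]
    [IsAffine G'.left] (h : G ⟶ G') [IsMonHom h] (hs : Surjective h.left)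
    (x : 𝟙_ (Over (Spec (CommRingCat.of k))) ⟶ G') :
    ∃ g : 𝟙_ (Over (Spec (CommRingCat.of k))) ⟶ G, g ≫ h = x := by
  obtain ⟨H, ⟨e⟩⟩ := exists_hopf G
  obtain ⟨H', ⟨e'⟩⟩ := exists_hopf G'
  obtain ⟨φ, m, hm, hml⟩ := step1 G G' h H H' e e'
  have hsurj1 : Surjective (Spec.map (CommRingCat.ofHom
      (φ : H' →ₐ[CommRingCat.of k] H).toRingHom)) := by
    rw [← hml, hm]
    exact step2 G G' h hs H H' e e'
  have hsurj : Function.Surjective (PrimeSpectrum.comap (φ : H' →+* H)) := fun p =>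
    hsurj1.surj p
  -- points
  let x' : 𝟙_ (Over (Spec (CommRingCat.of k))) ⟶
      (Spec (CommRingCat.of H')).asOver (Spec (CommRingCat.of k)) := x ≫ e'.inv.hom.hom
  obtain ⟨χ', hχ'⟩ := exists_eq_ptSpec H' x'
  obtain ⟨χ, hχ⟩ := Groth.Agent.Helper22.PtExt.exists_algHom_comp_eq φ hsurj χ'
  have h1 : ptSpec H χ ≫ m = x' := by
    rw [ptSpec_comp (φ : H' →ₐ[CommRingCat.of k] H) χ m hml, hχ, hχ']
  have he' : e'.inv.hom.hom ≫ e'.hom.hom.hom = 𝟙 _ :=
    congrArg (fun t => t.hom.hom) e'.inv_hom_id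
  subst hm
  exact ⟨ptSpec H χ ≫ e.hom.hom.hom,
    cancel_aux e.hom.hom.hom h e'.inv.hom.hom e'.hom.hom.hom he' (ptSpec H χ) x h1⟩

end

end Groth.Agent.Helper22.AffGrp2
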