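import Mathlib
import Groth.Prelude.Def_Coh

/-!
# Helper22: `H^0(X, O_X) = Γ(X, ⊤)`, and maps from a scheme with only constant functions to affines
-/

set_option autoImplicit false
open CategoryTheory Opposite AlgebraicGeometry TopologicalSpace Limits MonoidalCategory
  CartesianMonoidalCategory
universe u
namespace Groth.Agent.Helper22.AlbTriv

section H0
variable (X : Scheme.{u})

/-- `H^0(X, O_X) ≃ Γ(X, ⊤)`, additive -/
noncomputable def h0Equiv : Coh.HH X (Coh.structureModule X) 0 ≃+ Coh.Γtop X :=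
  Sheaf.H.equiv₀ (Coh.toAb (Coh.structureModule X)) (isTerminalTop : IsTerminal (⊤ : Opens X))

theorem resTop_top (r : Coh.Γtop X) : Coh.resTop X (op ⊤) r = r := by
  have h : (homOfLE (le_top (a := (op (⊤ : Opens X)).unop))).op = 𝟙 (op (⊤ : Opens X)) :=
    Subsingleton.elim _ _
  change (X.ringCatSheaf.obj.map (homOfLE (le_top (a := (op (⊤ : Opens X)).unop))).op).hom r = r
  rw [h, X.ringCatSheaf.obj.map_id]
  rfl

theorem h0Equiv_smul (r : Coh.Γtop X) (x : Coh.HH X (Coh.structureModule X) 0) :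
    h0Equiv X (r • x) = r * h0Equiv X x := by
  have h := Sheaf.H.equiv₀_naturality (Coh.smulAb (Coh.structureModule X) r)
    (hT := (isTerminalTop : IsTerminal (⊤ : Opens X))) x
  have h2 : h0Equiv X (r • x) =
      (Coh.smulAb (Coh.structureModule X) r).hom.app (op ⊤) (h0Equiv X x) := h.symm
  rw [h2]
  have h3 := Coh.smulAb_app (Coh.structureModule X) r (op ⊤) (h0Equiv X x)
  refine h3.trans ?_
  change Coh.resTop X (op ⊤) r * (h0Equiv X x) = r * h0Equiv X x
  rw [resTop_top]

theorem toGlobal_surjective {k : Type u} [Field k] [X.Over (Spec (CommRingCat.of k))]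
    (h0 : Module.finrank k (Coh.HH X (Coh.structureModule X) 0) = 1) :
    Function.Surjective (Coh.toGlobal (X ↘ Spec (CommRingCat.of k))) := by
  have hsmul : ∀ (c : k) (x : Coh.HH X (Coh.structureModule X) 0),
      h0Equiv X (c • x) = Coh.toGlobal (X ↘ Spec (CommRingCat.of k)) c * h0Equiv X x :=
    fun c x => h0Equiv_smul X _ x
  have hune : (h0Equiv X).symm 1 ≠ 0 := by
    intro hu0
    have h10 : (1 : Coh.Γtop X) = 0 := by
      have := congrArg (h0Equiv X) hu0
      rwa [AddEquiv.apply_symm_apply, map_zero] at this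
    haveI : Subsingleton (Coh.Γtop X) := subsingleton_of_zero_eq_one h10.symm
    haveI : Subsingleton (Coh.HH X (Coh.structureModule X) 0) :=
      (h0Equiv X).injective.subsingleton
    rw [Module.finrank_zero_of_subsingleton] at h0
    exact zero_ne_one h0
  intro a
  obtain ⟨c, hc⟩ := (finrank_eq_one_iff_of_nonzero' _ hune).1 h0 ((h0Equiv X).symm a)
  refine ⟨c, ?_⟩
  have := congrArg (h0Equiv X) hc
  rw [hsmul, AddEquiv.apply_symm_apply, AddEquiv.apply_symm_apply, mul_one] at this
  exact this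

end H0

/-- A scheme with a section over `S` whose functions all come from `S` maps to affine schemes
through `S`. -/
theorem factor_of_affine {S X U : Scheme.{u}} [IsAffine U] (s : X ⟶ S) (σ : S ⟶ X)
    (hσ : σ ≫ s = 𝟙 S) (hs : Function.Surjective s.appTop.hom) (g : X ⟶ U) :
    g = s ≫ σ ≫ g := by
  apply ext_of_isAffine
  rw [Scheme.Hom.comp_appTop, Scheme.Hom.comp_appTop]
  have h1 : s.appTop ≫ σ.appTop = 𝟙 _ := by
    rw [← Scheme.Hom.comp_appTop, hσ]
    rfl
  have h2 : σ.appTop ≫ s.appTop = 𝟙 _ := by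
    apply CommRingCat.hom_ext
    apply RingHom.ext
    intro a
    obtain ⟨b, rfl⟩ := hs a
    have h1b : σ.appTop.hom (s.appTop.hom b) = b := by
      have := congrArg (fun φ => φ.hom b) h1
      simpa using this
    rw [CommRingCat.hom_comp, RingHom.comp_apply, h1b]
    rfl
  rw [Category.assoc, h2, Category.comp_id]

/-- If `H^0(X, O_X) = k` and `X` has a rational point, a morphism over `k` from `X` with
set-theoretically constant image is constant. -/
theorem alb_const {k : Type u} [Field k] (X : Scheme.{u}) [X.Over (Spec (CommRingCat.of k))]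
    (h0 : Module.finrank k (Coh.HH X (Coh.structureModule X) 0) = 1)
    (x₀ : 𝟙_ (Over (Spec (CommRingCat.of k))) ⟶ Over.mk (X ↘ Spec (CommRingCat.of k)))
    (A : Over (Spec (CommRingCat.of k))) (alb : Over.mk (X ↘ Spec (CommRingCat.of k)) ⟶ A)
    (hsub : (Set.range alb.left.base).Subsingleton) :
    alb = toUnit _ ≫ x₀ ≫ alb := by
  apply Over.OverMorphism.ext
  have hσ : x₀.left ≫ (X ↘ Spec (CommRingCat.of k)) = 𝟙 (Spec (CommRingCat.of k)) := Over.w x₀
  have hs : Function.Surjective (X ↘ Spec (CommRingCat.of k)).appTop.hom := by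
    have h := toGlobal_surjective X h0
    intro a
    obtain ⟨c, hc⟩ := h a
    exact ⟨(Scheme.ΓSpecIso (CommRingCat.of k)).inv.hom c, hc⟩
  obtain ⟨pt⟩ : Nonempty ↥(Spec (CommRingCat.of k)) := inferInstance
  obtain ⟨U, hU, ha₀, -⟩ := exists_isAffineOpen_mem_and_subset
    (x := alb.left.base (x₀.left.base pt)) (U := ⊤) trivial
  have hrange : Set.range ⇑alb.left ⊆ Set.range ⇑U.ι := by
    rw [Scheme.Opens.range_ι]
    rintro _ ⟨x, rfl⟩
    have : alb.left.base x = alb.left.base (x₀.left.base pt) := hsub ⟨x, rfl⟩ ⟨_, rfl⟩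
    change alb.left.base x ∈ U
    rw [this]
    exact ha₀
  haveI : IsAffine U.toScheme := hU
  have hg := IsOpenImmersion.lift_fac U.ι alb.left hrange
  have hfac := factor_of_affine (X ↘ Spec (CommRingCat.of k)) x₀.left hσ hs
    (IsOpenImmersion.lift U.ι alb.left hrange)
  change alb.left = (X ↘ Spec (CommRingCat.of k)) ≫ x₀.left ≫ alb.left
  calc alb.left = IsOpenImmersion.lift U.ι alb.left hrange ≫ U.ι := hg.symm
    _ = ((X ↘ Spec (CommRingCat.of k)) ≫ x₀.left ≫ IsOpenImmersion.lift U.ι alb.left hrange) ≫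
        U.ι := congrArg (· ≫ U.ι) hfac
    _ = (X ↘ Spec (CommRingCat.of k)) ≫ x₀.left ≫ alb.left := by
      rw [Category.assoc, Category.assoc, hg]

end Groth.Agent.Helper22.AlbTriv
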