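import Mathlib

/-!
# Amitsur complex of a faithfully flat ring map is exact in positive degrees

Realised through the Čech conerve in `CommRingCat`; the proof base-changes to `A`, where the
cosimplicial ring acquires an extra codegeneracy.
-/

set_option autoImplicit false
universe u
open CategoryTheory CategoryTheory.Limits TensorProduct

namespace Groth.Agent.Helper22.Amitsur

noncomputable section

variable (R A : Type u) [CommRing R] [CommRing A] [Algebra R A]

abbrev arr : Arrow CommRingCat.{u} := Arrow.mk (CommRingCat.ofHom (algebraMap R A))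

abbrev X : CosimplicialObject CommRingCat.{u} := (arr R A).cechConerve

abbrev Cn (n : ℕ) : CommRingCat.{u} := (X R A).obj (SimplexCategory.mk n)

def hd (n : ℕ) : CommRingCat.of R ⟶ Cn R A n :=
  WidePushout.head (fun _ : Fin (n + 1) => (arr R A).hom)

def io (n : ℕ) (j : Fin (n + 1)) : CommRingCat.of A ⟶ Cn R A n :=
  WidePushout.ι (fun _ : Fin (n + 1) => (arr R A).hom) j

lemma arr_io (n : ℕ) (j : Fin (n + 1)) :
    CommRingCat.ofHom (algebraMap R A) ≫ io R A n j = hd R A n :=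
  WidePushout.arrow_ι (fun _ : Fin (n + 1) => (arr R A).hom) j

lemma hom_ext' {n : ℕ} {Y : CommRingCat.{u}} (g1 g2 : Cn R A n ⟶ Y)
    (h : ∀ j, io R A n j ≫ g1 = io R A n j ≫ g2) : g1 = g2 := by
  refine WidePushout.hom_ext (fun _ : Fin (n + 1) => (arr R A).hom) g1 g2 h ?_
  change hd R A n ≫ g1 = hd R A n ≫ g2
  rw [← arr_io R A n 0, Category.assoc, Category.assoc, h 0]

lemma io_δ (n : ℕ) (i : Fin (n + 2)) (j : Fin (n + 1)) :
    io R A n j ≫ (X R A).δ i = io R A (n + 1) (i.succAbove j) :=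
  WidePushout.ι_desc _ _ _ _ j

lemma hd_δ (n : ℕ) (i : Fin (n + 2)) : hd R A n ≫ (X R A).δ i = hd R A (n + 1) :=
  WidePushout.head_desc _ _ _ _

instance algC (n : ℕ) : Algebra R (Cn R A n) := (hd R A n).hom.toAlgebra

lemma algebraMap_C (n : ℕ) (r : R) : algebraMap R (Cn R A n) r = (hd R A n).hom r := rfl

def δa (n : ℕ) (i : Fin (n + 2)) : Cn R A n →ₐ[R] Cn R A (n + 1) :=
  { ((X R A).δ i).hom with
    commutes' := fun r => by
      change ((X R A).δ i).hom ((hd R A n).hom r) = (hd R A (n + 1)).hom r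
      rw [← hd_δ R A n i]; rfl }

lemma δa_apply (n : ℕ) (i : Fin (n + 2)) (c : Cn R A n) :
    δa R A n i c = ((X R A).δ i).hom c := rfl

def inl (n : ℕ) : CommRingCat.of A ⟶ CommRingCat.of (A ⊗[R] Cn R A n) :=
  CommRingCat.ofHom (Algebra.TensorProduct.includeLeftRingHom)

def inr (n : ℕ) : Cn R A n ⟶ CommRingCat.of (A ⊗[R] Cn R A n) :=
  CommRingCat.ofHom
    (Algebra.TensorProduct.includeRight (R := R) (A := A) (B := Cn R A n)).toRingHom

def tδa (n : ℕ) (i : Fin (n + 2)) : A ⊗[R] Cn R A n →ₐ[A] A ⊗[R] Cn R A (n + 1) :=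
  Algebra.TensorProduct.map (AlgHom.id A A) (δa R A n i)

def tδ (n : ℕ) (i : Fin (n + 2)) :
    CommRingCat.of (A ⊗[R] Cn R A n) ⟶ CommRingCat.of (A ⊗[R] Cn R A (n + 1)) :=
  CommRingCat.ofHom (tδa R A n i).toRingHom

lemma inl_tδ (n : ℕ) (i : Fin (n + 2)) : inl R A n ≫ tδ R A n i = inl R A (n + 1) := by
  apply CommRingCat.hom_ext; apply RingHom.ext; intro a
  change tδa R A n i (a ⊗ₜ[R] (1 : Cn R A n)) = a ⊗ₜ[R] (1 : Cn R A (n + 1))
  rw [tδa, Algebra.TensorProduct.map_tmul, map_one]; rfl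

lemma inr_tδ (n : ℕ) (i : Fin (n + 2)) :
    inr R A n ≫ tδ R A n i = (X R A).δ i ≫ inr R A (n + 1) := by
  apply CommRingCat.hom_ext; apply RingHom.ext; intro c
  change tδa R A n i ((1 : A) ⊗ₜ[R] c) = (1 : A) ⊗ₜ[R] (((X R A).δ i).hom c)
  rw [tδa, Algebra.TensorProduct.map_tmul]; rfl

lemma hd_inr (n : ℕ) :
    hd R A n ≫ inr R A n = CommRingCat.ofHom (algebraMap R (A ⊗[R] Cn R A n)) := by
  apply CommRingCat.hom_ext; apply RingHom.ext; intro r
  change (Algebra.TensorProduct.includeRight (R := R) (A := A) (B := Cn R A n))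
    (algebraMap R (Cn R A n) r) = algebraMap R (A ⊗[R] Cn R A n) r
  exact (Algebra.TensorProduct.includeRight (R := R) (A := A) (B := Cn R A n)).commutes r

lemma arr_inl (n : ℕ) :
    CommRingCat.ofHom (algebraMap R A) ≫ inl R A n =
      CommRingCat.ofHom (algebraMap R (A ⊗[R] Cn R A n)) := by
  apply CommRingCat.hom_ext; apply RingHom.ext; intro r
  change (algebraMap R A r) ⊗ₜ[R] (1 : Cn R A n) = algebraMap R (A ⊗[R] Cn R A n) r
  rw [Algebra.TensorProduct.algebraMap_apply]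

/-- the extra codegeneracy, on the `C (n+1)` factor -/
def σc (n : ℕ) : Cn R A (n + 1) ⟶ CommRingCat.of (A ⊗[R] Cn R A n) :=
  WidePushout.desc (CommRingCat.ofHom (algebraMap R (A ⊗[R] Cn R A n)))
    (fun j : Fin (n + 2) =>
      (Fin.cases (inl R A n) (fun j' => io R A n j' ≫ inr R A n) j :
        CommRingCat.of A ⟶ CommRingCat.of (A ⊗[R] Cn R A n)))
    (fun j => by
      refine Fin.cases ?_ (fun j' => ?_) j
      · exact arr_inl R A n
      · change CommRingCat.ofHom (algebraMap R A) ≫ (io R A n j' ≫ inr R A n) = _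
        rw [← Category.assoc, arr_io, hd_inr])

lemma io_σc_zero (n : ℕ) : io R A (n + 1) 0 ≫ σc R A n = inl R A n :=
  WidePushout.ι_desc _ _ _ _ (0 : Fin (n + 2))

lemma io_σc_succ (n : ℕ) (j : Fin (n + 1)) :
    io R A (n + 1) j.succ ≫ σc R A n = io R A n j ≫ inr R A n :=
  WidePushout.ι_desc _ _ _ _ j.succ

lemma hd_σc (n : ℕ) :
    hd R A (n + 1) ≫ σc R A n = CommRingCat.ofHom (algebraMap R (A ⊗[R] Cn R A n)) :=
  WidePushout.head_desc _ _ _ _

lemma δ_zero_σc (n : ℕ) : (X R A).δ 0 ≫ σc R A n = inr R A n := by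
  apply hom_ext'
  intro j
  rw [← Category.assoc, io_δ, Fin.succAbove_zero, io_σc_succ]

lemma δ_succ_σc (n : ℕ) (i : Fin (n + 2)) :
    (X R A).δ i.succ ≫ σc R A (n + 1) = σc R A n ≫ tδ R A n i := by
  apply hom_ext'
  intro j
  refine Fin.cases ?_ (fun j' => ?_) j
  · rw [← Category.assoc, io_δ, Fin.succ_succAbove_zero, io_σc_zero, ← Category.assoc,
      io_σc_zero, inl_tδ]
  · rw [← Category.assoc, io_δ, Fin.succ_succAbove_succ, io_σc_succ, ← Category.assoc,
      io_σc_succ, Category.assoc, inr_tδ, ← Category.assoc, io_δ]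

def σa (n : ℕ) : Cn R A (n + 1) →ₐ[R] A ⊗[R] Cn R A n :=
  { (σc R A n).hom with
    commutes' := fun r => by
      change (σc R A n).hom ((hd R A (n + 1)).hom r) = _
      have := hd_σc R A n
      exact congrArg (fun f => f.hom r) this }

lemma σa_apply (n : ℕ) (c : Cn R A (n + 1)) : σa R A n c = (σc R A n).hom c := rfl

def sA (n : ℕ) : A ⊗[R] Cn R A (n + 1) →ₐ[A] A ⊗[R] Cn R A n :=
  AlgHom.liftEquiv R A (Cn R A (n + 1)) (A ⊗[R] Cn R A n) (σa R A n)

lemma sA_one_tmul (n : ℕ) (c : Cn R A (n + 1)) :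
    sA R A n ((1 : A) ⊗ₜ[R] c) = (σc R A n).hom c := by
  rw [sA, AlgHom.liftEquiv_tmul, one_smul]; rfl

lemma sA_comp_tδa_zero (n : ℕ) :
    (sA R A n).comp (tδa R A n 0) = AlgHom.id A (A ⊗[R] Cn R A n) := by
  apply Algebra.TensorProduct.ext_ring
  apply AlgHom.ext
  intro c
  change sA R A n (tδa R A n 0 ((1 : A) ⊗ₜ[R] c)) = (1 : A) ⊗ₜ[R] c
  rw [tδa, Algebra.TensorProduct.map_tmul, AlgHom.id_apply, sA_one_tmul, δa_apply]
  exact congrArg (fun f => f.hom c) (δ_zero_σc R A n)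

lemma sA_comp_tδa_succ (n : ℕ) (i : Fin (n + 2)) :
    (sA R A (n + 1)).comp (tδa R A (n + 1) i.succ) = (tδa R A n i).comp (sA R A n) := by
  apply Algebra.TensorProduct.ext_ring
  apply AlgHom.ext
  intro c
  change sA R A (n + 1) (tδa R A (n + 1) i.succ ((1 : A) ⊗ₜ[R] c)) =
    tδa R A n i (sA R A n ((1 : A) ⊗ₜ[R] c))
  rw [tδa, Algebra.TensorProduct.map_tmul, AlgHom.id_apply, sA_one_tmul, δa_apply, sA_one_tmul]
  exact congrArg (fun f => f.hom c) (δ_succ_σc R A n i)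

/-- the Amitsur differential, as an `R`-linear map -/
def dl (n : ℕ) : Cn R A n →ₗ[R] Cn R A (n + 1) :=
  ∑ i : Fin (n + 2), ((-1 : ℤ) ^ (i : ℕ)) • (δa R A n i).toLinearMap

def tdl (n : ℕ) : A ⊗[R] Cn R A n →ₗ[R] A ⊗[R] Cn R A (n + 1) := (dl R A n).lTensor A

lemma lTensor_δa (n : ℕ) (i : Fin (n + 2)) (t : A ⊗[R] Cn R A n) :
    (δa R A n i).toLinearMap.lTensor A t = tδa R A n i t := by
  induction t using TensorProduct.induction_on with
  | zero => simp
  | tmul a c => rw [LinearMap.lTensor_tmul, tδa, Algebra.TensorProduct.map_tmul]; rfl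
  | add x y hx hy => rw [map_add, map_add, hx, hy]

lemma tdl_apply (n : ℕ) (t : A ⊗[R] Cn R A n) :
    tdl R A n t = ∑ i : Fin (n + 2), ((-1 : ℤ) ^ (i : ℕ)) • tδa R A n i t := by
  have h : tdl R A n = ∑ i : Fin (n + 2),
      ((-1 : ℤ) ^ (i : ℕ)) • (δa R A n i).toLinearMap.lTensor A := by
    rw [tdl, dl, ← LinearMap.coe_lTensorHom, map_sum]
    refine Finset.sum_congr rfl (fun i _ => ?_)
    rw [map_zsmul]
  rw [h, LinearMap.sum_apply]
  refine Finset.sum_congr rfl (fun i _ => ?_)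
  rw [LinearMap.smul_apply, lTensor_δa]

lemma homotopy (m : ℕ) (t : A ⊗[R] Cn R A (m + 1)) :
    tdl R A m (sA R A m t) + sA R A (m + 1) (tdl R A (m + 1) t) = t := by
  have h0 : sA R A (m + 1) (tδa R A (m + 1) 0 t) = t :=
    congrArg (fun f => f t) (sA_comp_tδa_zero R A (m + 1))
  have h1 : ∀ i : Fin (m + 2),
      sA R A (m + 1) (tδa R A (m + 1) i.succ t) = tδa R A m i (sA R A m t) := fun i =>
    congrArg (fun f => f t) (sA_comp_tδa_succ R A m i)
  have e2 : sA R A (m + 1) (tdl R A (m + 1) t) =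
      t + ∑ i : Fin (m + 2), ((-1 : ℤ) ^ ((i : ℕ) + 1)) • tδa R A m i (sA R A m t) := by
    rw [tdl_apply, map_sum, Fin.sum_univ_succ]
    congr 1
    · rw [Fin.val_zero, pow_zero, one_smul, h0]
    · refine Finset.sum_congr rfl (fun i _ => ?_)
      rw [map_zsmul, h1, Fin.val_succ]
  rw [e2, tdl_apply, add_left_comm, ← Finset.sum_add_distrib]
  have : ∀ i : Fin (m + 2), ((-1 : ℤ) ^ (i : ℕ)) • tδa R A m i (sA R A m t) +
      ((-1 : ℤ) ^ ((i : ℕ) + 1)) • tδa R A m i (sA R A m t) = 0 := by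
    intro i
    rw [pow_succ, mul_neg, mul_one, neg_smul, add_neg_cancel]
  rw [Finset.sum_congr rfl (fun i _ => this i), Finset.sum_const_zero, add_zero]

lemma exact_tdl (m : ℕ) (hd2 : ∀ y, dl R A (m + 1) (dl R A m y) = 0) :
    Function.Exact (tdl R A m) (tdl R A (m + 1)) := by
  intro t
  constructor
  · intro ht
    refine ⟨sA R A m t, ?_⟩
    have := homotopy R A m t
    rw [ht, map_zero, add_zero] at this
    exact this
  · rintro ⟨s, rfl⟩
    have h : (dl R A (m + 1)).comp (dl R A m) = 0 := LinearMap.ext hd2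
    rw [tdl, tdl, ← LinearMap.comp_apply, ← LinearMap.lTensor_comp, h, LinearMap.lTensor_zero,
      LinearMap.zero_apply]

theorem exact_dl [Module.FaithfullyFlat R A] (m : ℕ)
    (hd2 : ∀ y, dl R A (m + 1) (dl R A m y) = 0) :
    Function.Exact (dl R A m) (dl R A (m + 1)) :=
  (Module.FaithfullyFlat.lTensor_exact_iff_exact R A _ _).1 (exact_tdl R A m hd2)

end

end Groth.Agent.Helper22.Amitsur
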