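import Mathlib
import Groth.Prelude.Def_Disc

/-!
# Associated primes of `Hom_A(B, A)` for a finite ring map
-/

namespace Groth.Agent.Helper22.AssOmega

open Submodule

/-- A finite faithful domain extension `D → E` admits a `D`-linear functional `E → D` which is
nonzero at `1`. -/
theorem exists_functional_one_ne_zero (D E : Type*) [CommRing D] [IsDomain D] [CommRing E]
    [IsDomain E] [Algebra D E] [Module.Finite D E] [FaithfulSMul D E] :
    ∃ ψ : E →ₗ[D] D, ψ 1 ≠ 0 := by
  classical
  let K := FractionRing D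
  let L := FractionRing E
  haveI : FaithfulSMul D L := by
    rw [faithfulSMul_iff_algebraMap_injective, IsScalarTower.algebraMap_eq D E L]
    exact (IsFractionRing.injective E L).comp (FaithfulSMul.algebraMap_injective D E)
  letI : Algebra K L := FractionRing.liftAlgebra D L
  haveI : IsScalarTower D K L := FractionRing.isScalarTower_liftAlgebra D L
  obtain ⟨f, hf⟩ := Module.Projective.exists_dual_ne_zero K (one_ne_zero : (1 : L) ≠ 0)
  let g : E →ₗ[D] K := (f.restrictScalars D) ∘ₗ (IsScalarTower.toAlgHom D E L).toLinearMap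
  have hg1 : g 1 = f 1 := by
    change f (algebraMap E L 1) = f 1
    rw [map_one]
  obtain ⟨n, e, he⟩ := Module.Finite.exists_fin (R := D) (M := E)
  obtain ⟨d, hd⟩ := IsLocalization.exist_integer_multiples_of_finite (nonZeroDivisors D)
    (fun i => g (e i))
  have hall : ∀ x : E, ∃ r : D, algebraMap D K r = (d : D) • g x := by
    intro x
    have hx : x ∈ Submodule.span D (Set.range e) := he ▸ Submodule.mem_top
    induction hx using Submodule.span_induction with
    | mem x hx =>
      obtain ⟨i, rfl⟩ := hx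
      exact hd i
    | zero => exact ⟨0, by rw [map_zero, map_zero, smul_zero]⟩
    | add u v _ _ hu hv =>
      obtain ⟨r, hr⟩ := hu
      obtain ⟨s, hs⟩ := hv
      exact ⟨r + s, by rw [map_add, map_add, smul_add, hr, hs]⟩
    | smul c u _ hu =>
      obtain ⟨r, hr⟩ := hu
      exact ⟨c * r, by rw [map_mul, hr, map_smul, smul_comm, Algebra.smul_def c]⟩
  choose ψ hψ using hall
  have hinj : Function.Injective (algebraMap D K) := IsFractionRing.injective D K
  let Ψ : E →ₗ[D] D :=
    { toFun := ψ
      map_add' := fun x y => hinj (by rw [map_add, hψ, hψ, hψ, map_add, smul_add])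
      map_smul' := fun c x => hinj (by
        rw [RingHom.id_apply, smul_eq_mul, map_mul, hψ, hψ, map_smul, smul_comm,
          Algebra.smul_def c]) }
  refine ⟨Ψ, fun h0 => ?_⟩
  have h1 : algebraMap D K (ψ 1) = (d : D) • g 1 := hψ 1
  change ψ 1 = 0 at h0
  rw [h0, map_zero, hg1, Algebra.smul_def] at h1
  rcases mul_eq_zero.1 h1.symm with h2 | h2
  · exact nonZeroDivisors.ne_zero d.2 (hinj (by rw [h2, map_zero]))
  · exact hf h2

variable {A : Type*} {B : Type*} [CommRing A] [CommRing B] [Algebra A B]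

theorem mem_ass_omega_of_comap_mem [IsNoetherianRing A] [IsNoetherianRing B] [Module.Finite A B]
    (q : Ideal B) [hq : q.IsPrime]
    (hp : q.comap (algebraMap A B) ∈ associatedPrimes A A) :
    q ∈ associatedPrimes B (Disc.Omega A B) := by
  classical
  set p : Ideal A := q.comap (algebraMap A B) with hpdef
  haveI hpp : p.IsPrime := Ideal.comap_isPrime _ _
  haveI : q.LiesOver p := ⟨rfl⟩
  obtain ⟨-, a₀, ha₀⟩ := (isAssociatedPrime_iff).1 hp
  have hpa : ∀ a : A, a ∈ p ↔ a * a₀ = 0 := by
    intro a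
    rw [ha₀, mem_colon_singleton, mem_bot, smul_eq_mul]
  obtain ⟨ψ, hψ⟩ := exists_functional_one_ne_zero (A ⧸ p) (B ⧸ q)
  -- multiplication by `a₀` on `A ⧸ p`
  have hle : p ≤ LinearMap.ker (LinearMap.toSpanSingleton A A a₀) := by
    intro a ha
    rw [LinearMap.mem_ker, LinearMap.toSpanSingleton_apply, smul_eq_mul]
    exact (hpa a).1 ha
  let μ : (A ⧸ p) →ₗ[A] A := Submodule.liftQ p (LinearMap.toSpanSingleton A A a₀) hle
  have hμ : Function.Injective μ := by
    rw [← LinearMap.ker_eq_bot]
    apply Submodule.ker_liftQ_eq_bot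
    intro a ha
    rw [LinearMap.mem_ker, LinearMap.toSpanSingleton_apply, smul_eq_mul] at ha
    exact (hpa a).2 ha
  let π : B →ₗ[A] (B ⧸ q) := (IsScalarTower.toAlgHom A B (B ⧸ q)).toLinearMap
  have hπ : ∀ b, π b = Ideal.Quotient.mk q b := fun b => rfl
  let φ₀ : B →ₗ[A] A := μ ∘ₗ (ψ.restrictScalars A) ∘ₗ π
  let φ : Disc.Omega A B := Disc.Omega.mk φ₀
  have hφ : ∀ b x, (b • φ).toLinearMap x = μ (ψ (Ideal.Quotient.mk q (b * x))) := fun b x => rfl
  rw [AssociatedPrimes.mem_iff, isAssociatedPrime_iff]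
  refine ⟨hq, φ, ?_⟩
  ext b
  rw [mem_colon_singleton, mem_bot]
  constructor
  · intro hb
    apply Disc.Omega.ext
    refine LinearMap.ext fun x => ?_
    rw [hφ]
    have : Ideal.Quotient.mk q (b * x) = 0 :=
      Ideal.Quotient.eq_zero_iff_mem.2 (q.mul_mem_right _ hb)
    rw [this, map_zero, map_zero]
    rfl
  · intro hb
    by_contra hbq
    have hb0 : Ideal.Quotient.mk q b ≠ 0 := fun h => hbq (Ideal.Quotient.eq_zero_iff_mem.1 h)
    have halg : IsAlgebraic (A ⧸ p) (Ideal.Quotient.mk q b) :=
      (Algebra.IsIntegral.isIntegral (R := A ⧸ p) (Ideal.Quotient.mk q b)).isAlgebraic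
    obtain ⟨δ, hδ, c', hc'⟩ := halg.exists_nonzero_dvd (mem_nonZeroDivisors_of_ne_zero hb0)
    obtain ⟨c, rfl⟩ := Ideal.Quotient.mk_surjective c'
    have h1 : (b • φ).toLinearMap c = 0 := by rw [hb]; rfl
    rw [hφ, map_mul, ← hc', Algebra.algebraMap_eq_smul_one, map_smul, smul_eq_mul] at h1
    have h2 : δ * ψ 1 = 0 := hμ (by rw [h1, map_zero])
    rcases mul_eq_zero.1 h2 with h | h
    · exact hδ h
    · exact hψ h

theorem comap_mem_of_mem_ass_omega [IsNoetherianRing A] [IsNoetherianRing B] [Module.Finite A B]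
    (q : Ideal B) (hq : q ∈ associatedPrimes B (Disc.Omega A B)) :
    q.IsPrime ∧ q.comap (algebraMap A B) ∈ associatedPrimes A A := by
  classical
  obtain ⟨hqp, φ, hφ⟩ := (isAssociatedPrime_iff).1 hq
  refine ⟨hqp, ?_⟩
  set p : Ideal A := q.comap (algebraMap A B) with hpdef
  haveI hpp : p.IsPrime := Ideal.comap_isPrime _ _
  have hmem : ∀ b, b ∈ q ↔ b • φ = 0 := by
    intro b
    rw [hφ, mem_colon_singleton, mem_bot]
  obtain ⟨n, e, he⟩ := Module.Finite.exists_fin (R := A) (M := B)
  have hsm : ∀ (a : A) (x : B), (algebraMap A B a • φ).toLinearMap x = a * φ.toLinearMap x := by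
    intro a x
    change φ.toLinearMap (algebraMap A B a * x) = a * φ.toLinearMap x
    rw [← Algebra.smul_def, map_smul, smul_eq_mul]
  have hpa : ∀ a : A, a ∈ p ↔ ∀ i, a * φ.toLinearMap (e i) = 0 := by
    intro a
    rw [hpdef, Ideal.mem_comap, hmem]
    constructor
    · intro h i
      rw [← hsm, h]
      rfl
    · intro h
      apply Disc.Omega.ext
      refine LinearMap.ext fun x => ?_
      rw [hsm]
      have hx : x ∈ Submodule.span A (Set.range e) := he ▸ Submodule.mem_top
      obtain ⟨c, rfl⟩ := (Submodule.mem_span_range_iff_exists_fun A).1 hx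
      rw [map_sum, Finset.mul_sum]
      change _ = (0 : A)
      refine Finset.sum_eq_zero fun i _ => ?_
      rw [map_smul, smul_eq_mul, mul_left_comm, h i, mul_zero]
  have hinf : p = Finset.univ.inf (fun i => colon (⊥ : Submodule A A) {φ.toLinearMap (e i)}) := by
    ext a
    rw [hpa, Submodule.mem_finsetInf]
    constructor
    · intro h i _
      rw [mem_colon_singleton, mem_bot, smul_eq_mul]
      exact h i
    · intro h i
      have := h i (Finset.mem_univ i)
      rwa [mem_colon_singleton, mem_bot, smul_eq_mul] at this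
  obtain ⟨i, -, hi⟩ := (Ideal.IsPrime.inf_le' hpp).1 (le_of_eq hinf.symm)
  rw [AssociatedPrimes.mem_iff, isAssociatedPrime_iff]
  refine ⟨hpp, φ.toLinearMap (e i), le_antisymm ?_ hi⟩
  rw [hinf]
  exact Finset.inf_le (Finset.mem_univ i)

end Groth.Agent.Helper22.AssOmega
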