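import Mathlib
import Groth.Prelude.Def_QFDual
import Groth.Agent.Lib.Helper22.AssOmega

/-!
# Associated primes of `B ⊗_{B'} Hom_A(B', A)` for a quasi-finite factorisation
-/

namespace Groth.Agent.Helper22.AssQF

open TensorProduct AlgebraicGeometry

universe u

/-- Stalk maps of an open immersion of affine schemes are bijective. -/
theorem bijective_localRingHom_of_isOpenImmersion {B' B : Type u} [CommRing B'] [CommRing B]
    [Algebra B' B]
    (h : IsOpenImmersion (Spec.map (CommRingCat.ofHom (algebraMap B' B))))
    (q : Ideal B) [q.IsPrime] :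
    Function.Bijective
      (Localization.localRingHom (q.comap (algebraMap B' B)) q (algebraMap B' B) rfl) := by
  have h1 : stalkwise (fun f => Function.Bijective f)
      (Spec.map (CommRingCat.ofHom (algebraMap B' B))) := by
    intro x
    have := (IsOpenImmersion.iff_isIso_stalkMap.1 h).2 x
    exact (CategoryTheory.ConcreteCategory.isIso_iff_bijective _).1 this
  exact (stalkwise_SpecMap_iff RingHom.Bijective.respectsIso _).1 h1 q inferInstance

/-- If the local homomorphism `B'_{q ∩ B'} → B_q` is bijective then `B_q` is a localization of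
`B'` at `q ∩ B'`. -/
theorem isLocalization_atPrime_comap {B' B : Type*} [CommRing B'] [CommRing B] [Algebra B' B]
    (q : Ideal B) [q.IsPrime]
    (hb : Function.Bijective
      (Localization.localRingHom (q.comap (algebraMap B' B)) q (algebraMap B' B) rfl)) :
    IsLocalization (q.comap (algebraMap B' B)).primeCompl (Localization.AtPrime q) := by
  let φ := Localization.localRingHom (q.comap (algebraMap B' B)) q (algebraMap B' B) rfl
  let ψ : Localization.AtPrime (q.comap (algebraMap B' B)) →ₐ[B'] Localization.AtPrime q :=
    { φ with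
      commutes' := fun x => by
        change φ (algebraMap B' _ x) = algebraMap B' (Localization.AtPrime q) x
        rw [Localization.localRingHom_to_map,
          IsScalarTower.algebraMap_apply B' B (Localization.AtPrime q)] }
  exact IsLocalization.isLocalization_of_algEquiv _ (AlgEquiv.ofBijective ψ hb)

/-- Transfer of associated primes along a ring map `R' → R` which is a local isomorphism at `q`. -/
theorem mem_ass_tensor_iff {R' R : Type*} [CommRing R'] [CommRing R] [Algebra R' R]
    [IsNoetherianRing R'] [IsNoetherianRing R]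
    (M : Type*) [AddCommGroup M] [Module R' M]
    (q : Ideal R) [q.IsPrime]
    (Rq : Type*) [CommRing Rq] [Algebra R Rq] [Algebra R' Rq] [IsScalarTower R' R Rq]
    [IsLocalization.AtPrime Rq q]
    [IsLocalization (q.comap (algebraMap R' R)).primeCompl Rq] :
    q ∈ associatedPrimes R (R ⊗[R'] M) ↔
      q.comap (algebraMap R' R) ∈ associatedPrimes R' M := by
  classical
  let g : (R ⊗[R'] M) →ₗ[R] Rq ⊗[R] (R ⊗[R'] M) := TensorProduct.mk R Rq (R ⊗[R'] M) 1
  have hg : IsBaseChange Rq g := TensorProduct.isBaseChange R (R ⊗[R'] M) Rq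
  let f0 : M →ₗ[R'] R ⊗[R'] M := TensorProduct.mk R' R M 1
  have hf0 : IsBaseChange R f0 := TensorProduct.isBaseChange R' M R
  let f : M →ₗ[R'] Rq ⊗[R] (R ⊗[R'] M) := (g.restrictScalars R').comp f0
  have hf : IsBaseChange Rq f := hf0.comp hg
  haveI : IsLocalizedModule q.primeCompl g :=
    (isLocalizedModule_iff_isBaseChange q.primeCompl Rq g).mpr hg
  haveI : IsLocalizedModule (q.comap (algebraMap R' R)).primeCompl f :=
    (isLocalizedModule_iff_isBaseChange (q.comap (algebraMap R' R)).primeCompl Rq f).mpr hf
  have h1 := Module.associatedPrimes.preimage_comap_associatedPrimes_eq_associatedPrimes_of_isLocalizedModule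
    q.primeCompl Rq g
  have h2 := Module.associatedPrimes.preimage_comap_associatedPrimes_eq_associatedPrimes_of_isLocalizedModule
    (q.comap (algebraMap R' R)).primeCompl Rq f
  haveI : IsLocalRing Rq := IsLocalization.AtPrime.isLocalRing Rq q
  have hP1 : (IsLocalRing.maximalIdeal Rq).comap (algebraMap R Rq) = q :=
    IsLocalization.AtPrime.under_maximalIdeal Rq q
  have hP2 : (IsLocalRing.maximalIdeal Rq).comap (algebraMap R' Rq) =
      q.comap (algebraMap R' R) := by
    rw [IsScalarTower.algebraMap_eq R' R Rq, ← Ideal.comap_comap, hP1]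
  have e1 : q ∈ associatedPrimes R (R ⊗[R'] M) ↔
      IsLocalRing.maximalIdeal Rq ∈ associatedPrimes Rq (Rq ⊗[R] (R ⊗[R'] M)) := by
    rw [← h1, Set.mem_preimage, hP1]
  have e2 : q.comap (algebraMap R' R) ∈ associatedPrimes R' M ↔
      IsLocalRing.maximalIdeal Rq ∈ associatedPrimes Rq (Rq ⊗[R] (R ⊗[R'] M)) := by
    rw [← h2, Set.mem_preimage, hP2]
  exact e1.trans e2.symm

theorem main (A B' B : Type u) [CommRing A] [CommRing B'] [CommRing B] [IsNoetherianRing A]
    [IsNoetherianRing B] [Algebra A B'] [Algebra B' B] [Algebra A B] [IsScalarTower A B' B]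
    (hf : QFDual.IsQFFactor A B' B) :
    associatedPrimes B (QFDual.omega A B' B) =
      {q : Ideal B | q.IsPrime ∧ q.comap (algebraMap A B) ∈ associatedPrimes A A} := by
  haveI := hf.finite
  haveI : IsNoetherianRing B' := IsNoetherianRing.of_finite A B'
  have key : ∀ q : Ideal B, q.comap (algebraMap A B) =
      (q.comap (algebraMap B' B)).comap (algebraMap A B') := by
    intro q
    rw [Ideal.comap_comap, ← IsScalarTower.algebraMap_eq]
  ext q
  simp only [Set.mem_setOf_eq]
  constructor
  · intro hq
    have hqp : q.IsPrime := hq.isPrime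
    haveI := hqp
    have hb := bijective_localRingHom_of_isOpenImmersion hf.isOpenImmersion q
    haveI := isLocalization_atPrime_comap q hb
    have h1 := (mem_ass_tensor_iff (Disc.Omega A B') q (Localization.AtPrime q)).1 hq
    have h2 := AssOmega.comap_mem_of_mem_ass_omega _ h1
    refine ⟨hqp, ?_⟩
    rw [key]
    exact h2.2
  · rintro ⟨hqp, hp⟩
    haveI := hqp
    have hb := bijective_localRingHom_of_isOpenImmersion hf.isOpenImmersion q
    haveI := isLocalization_atPrime_comap q hb
    haveI : (q.comap (algebraMap B' B)).IsPrime := Ideal.comap_isPrime _ _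
    have h1 : q.comap (algebraMap B' B) ∈ associatedPrimes B' (Disc.Omega A B') :=
      AssOmega.mem_ass_omega_of_comap_mem _ (by rw [← key]; exact hp)
    exact (mem_ass_tensor_iff (Disc.Omega A B') q (Localization.AtPrime q)).2 h1

end Groth.Agent.Helper22.AssQF
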