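import Groth.Agent.Lib.Helper12.Comod
import Mathlib

/-!
Comodules over a coalgebra which is projective as a module over the base ring (helper22):
coefficient expansion of tensors, slice criterion, smallest subcomodule containing a submodule.
-/

set_option autoImplicit false
universe u v w

open scoped TensorProduct

namespace Groth.Agent.Helper22.ProjComod
open Groth.Agent.Helper12

section Coef
variable {k : Type u} [CommRing k] {C : Type v} [AddCommGroup C] [Module k C]
variable {V : Type w} [AddCommGroup V] [Module k V]

attribute [local instance] Classical.propDecidable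

/-- coefficient family of a tensor with respect to a projective splitting -/
noncomputable def coef (s : C →ₗ[k] (C →₀ k)) (z : V ⊗[k] C) : C →₀ V :=
  TensorProduct.finsuppScalarRight k k V C (LinearMap.lTensor V s z)

theorem coef_apply (s : C →ₗ[k] (C →₀ k)) (z : V ⊗[k] C) (i : C) :
    coef s z i = slice ((Finsupp.lapply i) ∘ₗ s) z := by
  unfold coef
  induction z using TensorProduct.induction_on with
  | zero => simp
  | tmul v c => simp
  | add a b ha hb => simp only [map_add, Finsupp.add_apply, ha, hb]

theorem lc_symm (F : C →₀ V) :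
    LinearMap.lTensor V (Finsupp.linearCombination k (id : C → C))
      ((TensorProduct.finsuppScalarRight k k V C).symm F) = ∑ i ∈ F.support, F i ⊗ₜ[k] i := by
  conv_lhs => rw [← Finsupp.sum_single F]
  rw [Finsupp.sum, map_sum, map_sum]
  refine Finset.sum_congr rfl fun i _ => ?_
  rw [TensorProduct.finsuppScalarRight_symm_apply_single, LinearMap.lTensor_tmul,
    Finsupp.linearCombination_single, one_smul]
  rfl

theorem eq_sum_coef (s : C →ₗ[k] (C →₀ k))
    (hs : Finsupp.linearCombination k (id : C → C) ∘ₗ s = LinearMap.id) (z : V ⊗[k] C) :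
    z = ∑ i ∈ (coef s z).support, (coef s z i) ⊗ₜ[k] i := by
  have h1 : LinearMap.lTensor V s z =
      (TensorProduct.finsuppScalarRight k k V C).symm (coef s z) := by
    unfold coef
    rw [LinearEquiv.symm_apply_apply]
  have h2 : z = LinearMap.lTensor V (Finsupp.linearCombination k (id : C → C))
      (LinearMap.lTensor V s z) := by
    rw [← LinearMap.comp_apply, ← LinearMap.lTensor_comp, hs, LinearMap.lTensor_id,
      LinearMap.id_apply]
  conv_lhs => rw [h2, h1]
  exact lc_symm (coef s z)

/-- slice criterion for membership in `W ⊗ C` when `C` is projective -/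
theorem mem_range_rTensor_of_slice_mem [Module.Projective k C] (W : Submodule k V)
    (z : V ⊗[k] C) (h : ∀ l : C →ₗ[k] k, slice l z ∈ W) :
    z ∈ LinearMap.range (W.subtype.rTensor C) := by
  obtain ⟨s, hs⟩ := Module.projective_def'.mp (inferInstance : Module.Projective k C)
  rw [eq_sum_coef s hs z]
  refine Submodule.sum_mem _ fun i _ => ?_
  have hi : coef s z i ∈ W := by rw [coef_apply]; exact h _
  exact ⟨(⟨_, hi⟩ : W) ⊗ₜ[k] i, by simp⟩

theorem slice_mem_span_coef (s : C →ₗ[k] (C →₀ k))
    (hs : Finsupp.linearCombination k (id : C → C) ∘ₗ s = LinearMap.id) (z : V ⊗[k] C)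
    (l : C →ₗ[k] k) :
    slice l z ∈ Submodule.span k ((coef s z) '' ((coef s z).support : Set C)) := by
  have h0 : slice l z = slice l (∑ i ∈ (coef s z).support, (coef s z i) ⊗ₜ[k] i) :=
    congrArg (slice l) (eq_sum_coef s hs z)
  rw [h0, map_sum]
  refine Submodule.sum_mem _ fun i hi => ?_
  rw [slice_tmul]
  exact Submodule.smul_mem _ _ (Submodule.subset_span ⟨i, hi, rfl⟩)

omit [AddCommGroup C] [Module k C] in
theorem slice_lTensor {C : Type v} [AddCommGroup C] [Module k C] (l : C →ₗ[k] k)
    (T : C →ₗ[k] C) (z : V ⊗[k] C) :
    slice l (LinearMap.lTensor V T z) = slice (l ∘ₗ T) z := by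
  unfold slice
  rw [LinearMap.comp_apply, LinearMap.comp_apply, ← LinearMap.comp_apply (LinearMap.lTensor V l),
    ← LinearMap.lTensor_comp]

end Coef

section Main
variable {k : Type u} [CommRing k] {C : Type v} [AddCommGroup C] [Module k C] [Coalgebra k C]
  [Module.Projective k C]
variable {V : Type w} [AddCommGroup V] [Module k V] [HopfRep.Comod k C V]

/-- the subcomodule generated by a submodule -/
noncomputable def genSub (M : Submodule k V) : Submodule k V :=
  Submodule.span k {x | ∃ (l : C →ₗ[k] k) (m : V), m ∈ M ∧
    x = slice l (HopfRep.Comod.coact (k := k) (A := C) m)}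

omit [Module.Projective k C] in
theorem le_genSub (M : Submodule k V) : M ≤ genSub (C := C) M := by
  intro m hm
  apply Submodule.subset_span
  exact ⟨Coalgebra.counit (R := k) (A := C), m, hm, (slice_counit_coact m).symm⟩

omit [Module.Projective k C] in
theorem genSub_le (M W' : Submodule k V) (hW' : HopfRep.IsSubcomod (k := k) (A := C) W')
    (hM : M ≤ W') : genSub (C := C) M ≤ W' := by
  apply Submodule.span_le.mpr
  rintro _ ⟨l, m, hm, rfl⟩
  exact slice_mem_of_mem_range W' l _ (hW' m (hM hm))

theorem genSub_isSubcomod (M : Submodule k V) :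
    HopfRep.IsSubcomod (k := k) (A := C) (genSub (C := C) M) := by
  intro w hw
  unfold genSub at hw
  induction hw using Submodule.span_induction with
  | mem x hx =>
    obtain ⟨l, m, hm, rfl⟩ := hx
    apply mem_range_rTensor_of_slice_mem
    intro l'
    rw [coact_slice_coact, slice_lTensor]
    exact Submodule.subset_span ⟨_, m, hm, rfl⟩
  | zero => rw [map_zero]; exact zero_mem _
  | add x y _ _ hx hy => rw [map_add]; exact add_mem hx hy
  | smul a x _ hx => rw [map_smul]; exact Submodule.smul_mem _ a hx

theorem genSub_fg (M : Submodule k V) (hM : M.FG) : (genSub (C := C) M).FG := by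
  classical
  obtain ⟨S, hS⟩ := hM
  obtain ⟨s, hs⟩ := Module.projective_def'.mp (inferInstance : Module.Projective k C)
  let T : V → Set V := fun m =>
    (coef s (HopfRep.Comod.coact (k := k) (A := C) m)) ''
      ((coef s (HopfRep.Comod.coact (k := k) (A := C) m)).support : Set C)
  have hTfin : (⋃ m ∈ (S : Set V), T m).Finite :=
    Set.Finite.biUnion S.finite_toSet (fun m _ => (Finset.finite_toSet _).image _)
  have heq : genSub (C := C) M = Submodule.span k (⋃ m ∈ (S : Set V), T m) := by
    apply le_antisymm
    · apply Submodule.span_le.mpr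
      rintro _ ⟨l, m, hm, rfl⟩
      rw [← hS] at hm
      induction hm using Submodule.span_induction with
      | mem x hx =>
        have h1 := slice_mem_span_coef s hs (HopfRep.Comod.coact (k := k) (A := C) x) l
        refine Submodule.span_mono ?_ h1
        exact Set.subset_biUnion_of_mem (u := T) hx
      | zero => rw [map_zero, map_zero]; exact zero_mem _
      | add x y _ _ hx hy => rw [map_add, map_add]; exact add_mem hx hy
      | smul a x _ hx => rw [map_smul, map_smul]; exact Submodule.smul_mem _ a hx
    · apply Submodule.span_le.mpr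
      intro x hx
      simp only [Set.mem_iUnion] at hx
      obtain ⟨m, hm, i, -, rfl⟩ := hx
      rw [coef_apply]
      apply Submodule.subset_span
      refine ⟨_, m, ?_, rfl⟩
      rw [← hS]
      exact Submodule.subset_span hm
  rw [heq]
  exact Submodule.fg_span hTfin

end Main

end Groth.Agent.Helper22.ProjComod
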