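import Mathlib

/-!
# Bézout domains: finitely generated submodules of free modules are free (helper22)
-/

namespace Groth.Agent.Helper22.Bezout

universe u v w

variable (R : Type u) [CommRing R]

/-- Every finitely generated submodule is free. -/
def FGFree (M : Type v) [AddCommGroup M] [Module R M] : Prop :=
  ∀ N : Submodule R M, N.FG → Module.Free R N

variable {R}

theorem FGFree.of_injective {M : Type v} {M₂ : Type w} [AddCommGroup M] [Module R M]
    [AddCommGroup M₂] [Module R M₂] (f : M →ₗ[R] M₂) (hf : Function.Injective f)
    (h : FGFree R M₂) : FGFree R M := by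
  intro N hN
  haveI := h (N.map f) (hN.map f)
  exact Module.Free.of_equiv (Submodule.equivMapOfInjective f hf N).symm

theorem FGFree.of_exact {M : Type v} {M'' : Type w} [AddCommGroup M] [Module R M]
    [AddCommGroup M''] [Module R M''] (g : M →ₗ[R] M'')
    (h1 : FGFree R (LinearMap.ker g)) (h2 : FGFree R M'') : FGFree R M := by
  intro N hN
  haveI : Module.Finite R N := Module.Finite.iff_fg.mpr hN
  haveI : Module.Free R (N.map g) := h2 (N.map g) (hN.map g)
  let gN : N →ₗ[R] (N.map g) := (g.domRestrict N).codRestrict (N.map g) (fun x => ⟨x.1, x.2, rfl⟩)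
  have hgN : Function.Surjective gN := by
    rintro ⟨_, x, hx, rfl⟩
    exact ⟨⟨x, hx⟩, rfl⟩
  obtain ⟨σ, hσ⟩ := Module.projective_lifting_property gN LinearMap.id hgN
  have hex : Function.Exact (LinearMap.ker gN).subtype gN := LinearMap.exact_subtype_ker_map gN
  let e := (hex.splitSurjectiveEquiv (Submodule.injective_subtype _) ⟨σ, hσ⟩).1
  haveI : Module.Finite R (LinearMap.ker gN) :=
    Module.Finite.of_surjective ((LinearMap.fst R _ _) ∘ₗ e.toLinearMap) (by
      intro y
      exact ⟨e.symm (y, 0), by simp⟩)
  let K : Submodule R M := (LinearMap.ker gN).map N.subtype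
  have hK : K ≤ LinearMap.ker g := by
    rintro _ ⟨x, hx, rfl⟩
    have := congrArg Subtype.val (LinearMap.mem_ker.mp hx)
    simpa [gN] using this
  let K' : Submodule R (LinearMap.ker g) := K.comap (LinearMap.ker g).subtype
  let e1 : K' ≃ₗ[R] K := Submodule.comapSubtypeEquivOfLe hK
  let e2 : LinearMap.ker gN ≃ₗ[R] K :=
    Submodule.equivMapOfInjective N.subtype N.injective_subtype _
  let e3 : K' ≃ₗ[R] LinearMap.ker gN := e1.trans e2.symm
  haveI : Module.Finite R K' := Module.Finite.equiv e3.symm
  haveI : Module.Free R K' := h1 K' (Module.Finite.iff_fg.mp inferInstance)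
  haveI : Module.Free R (LinearMap.ker gN) := Module.Free.of_equiv e3
  exact Module.Free.of_equiv e.symm

theorem fgFree_self [IsDomain R] [IsBezout R] : FGFree R R := by
  intro N hN
  haveI : Submodule.IsPrincipal N := IsBezout.isPrincipal_of_FG N hN
  obtain ⟨a, rfl⟩ := Submodule.IsPrincipal.principal N
  by_cases ha : a = 0
  · subst ha
    haveI : Subsingleton (Submodule.span R ({0} : Set R)) := by
      rw [Submodule.span_zero_singleton]; infer_instance
    exact Module.Free.of_subsingleton R _
  · exact Module.Free.of_equiv (LinearEquiv.toSpanNonzeroSingleton R R a ha)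

theorem fgFree_fin [IsDomain R] [IsBezout R] : ∀ n : ℕ, FGFree R (Fin n → R) := by
  intro n
  induction n with
  | zero =>
    intro N _
    haveI : Subsingleton N := ⟨fun a b => Subtype.ext (Subsingleton.elim _ _)⟩
    exact Module.Free.of_subsingleton R N
  | succ n ih =>
    let g : (Fin (n + 1) → R) →ₗ[R] R := LinearMap.proj 0
    refine FGFree.of_exact g ?_ fgFree_self
    let tl : (LinearMap.ker g) →ₗ[R] (Fin n → R) :=
      (LinearMap.funLeft R R Fin.succ) ∘ₗ (LinearMap.ker g).subtype
    refine FGFree.of_injective tl ?_ ih
    rw [injective_iff_map_eq_zero]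
    intro x hx
    apply Subtype.ext
    funext i
    refine Fin.cases ?_ (fun j => ?_) i
    · exact LinearMap.mem_ker.mp x.2
    · exact congrFun hx j

theorem fgFree_fintype [IsDomain R] [IsBezout R] (ι : Type v) [Fintype ι] : FGFree R (ι → R) :=
  FGFree.of_injective (LinearEquiv.funCongrLeft R R (Fintype.equivFin ι).symm).toLinearMap
    (LinearEquiv.injective _) (fgFree_fin _)

/-- Over a Bézout domain, a finitely generated submodule of a free module is free. -/
theorem free_of_fg [IsDomain R] [IsBezout R] {F : Type v} [AddCommGroup F] [Module R F]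
    [Module.Free R F] (N : Submodule R F) (hN : N.FG) : Module.Free R N := by
  classical
  let b := Module.Free.chooseBasis R F
  obtain ⟨S, hS⟩ := id hN
  let t : Finset (Module.Free.ChooseBasisIndex R F) := S.biUnion (fun x => (b.repr x).support)
  have hsupp : ∀ x ∈ N, ∀ i, b.repr x i ≠ 0 → i ∈ t := by
    intro x hx
    rw [← hS] at hx
    induction hx using Submodule.span_induction with
    | mem y hy =>
      intro i hi
      exact Finset.mem_biUnion.mpr ⟨y, hy, Finsupp.mem_support_iff.mpr hi⟩
    | zero => intro i hi; simp at hi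
    | add y z _ _ hy hz =>
      intro i hi
      by_contra hit
      apply hi
      have h1 : b.repr y i = 0 := by by_contra h; exact hit (hy i h)
      have h2 : b.repr z i = 0 := by by_contra h; exact hit (hz i h)
      rw [map_add, Finsupp.add_apply, h1, h2, add_zero]
    | smul a y _ hy =>
      intro i hi
      by_contra hit
      apply hi
      have h1 : b.repr y i = 0 := by by_contra h; exact hit (hy i h)
      rw [map_smul, Finsupp.smul_apply, h1, smul_zero]
  let ρ : F →ₗ[R] (t → R) :=
    { toFun := fun x i => b.repr x i
      map_add' := fun x y => by ext i; simp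
      map_smul' := fun a x => by ext i; simp }
  have hinj : Function.Injective (ρ ∘ₗ N.subtype) := by
    rw [injective_iff_map_eq_zero]
    intro x hx
    apply Subtype.ext
    apply b.repr.injective
    rw [Submodule.coe_zero, map_zero]
    ext i
    by_cases hi : i ∈ t
    · exact congrFun hx ⟨i, hi⟩
    · by_contra h
      exact hi (hsupp x.1 x.2 i h)
  have hfree := FGFree.of_injective (ρ ∘ₗ N.subtype) hinj (fgFree_fintype t)
  haveI : Module.Finite R N := Module.Finite.iff_fg.mpr hN
  haveI : Module.Free R (⊤ : Submodule R N) := hfree ⊤ Module.Finite.fg_top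
  exact Module.Free.of_equiv (Submodule.topEquiv (R := R) (M := N))

end Groth.Agent.Helper22.Bezout
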