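import Mathlib

/-!
# Helper22: minimal polynomials of elements with a power in the base field, when the base field
contains all roots of unity (field-theoretic part for S15167).
-/

set_option autoImplicit false

open Polynomial

namespace Groth.Agent.Helper22.CSAMin

universe u v

section FieldPart
variable {K : Type u} [Field K] {Ω : Type v} [Field Ω] [Algebra K Ω]

/-- If `X^m - 1` splits over `K` then every `m`-th root of unity of an extension lies in `K`. -/
theorem root_unity_mem (hK : ∀ n : ℕ, 0 < n → (X ^ n - 1 : K[X]).Splits)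
    (m : ℕ) (hm : 0 < m) (ζ : Ω) (hζ : ζ ^ m = 1) : ∃ z : K, algebraMap K Ω z = ζ := by
  have hmon : (X ^ m - 1 : K[X]).Monic := by
    have h := monic_X_pow_sub_C (1 : K) hm.ne'
    rwa [map_one] at h
  have h1 := (hK m hm).eq_prod_roots_of_monic hmon
  have h2 : aeval ζ ((X ^ m - 1 : K[X]).roots.map (X - C ·)).prod = 0 := by
    rw [← h1]; simp [hζ]
  rw [map_multiset_prod, Multiset.map_map, Multiset.prod_eq_zero_iff] at h2
  obtain ⟨a, -, ha⟩ := Multiset.mem_map.mp h2
  simp only [Function.comp_apply, map_sub, aeval_X, aeval_C] at ha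
  exact ⟨a, (sub_eq_zero.mp ha).symm⟩

theorem exists_mul_of_pow_eq (hK : ∀ n : ℕ, 0 < n → (X ^ n - 1 : K[X]).Splits)
    (m : ℕ) (hm : 0 < m) (α β : Ω) (hα : α ≠ 0) (h : β ^ m = α ^ m) :
    ∃ z : K, z ≠ 0 ∧ β = algebraMap K Ω z * α := by
  have h1 : (β / α) ^ m = 1 := by rw [div_pow, h, div_self (pow_ne_zero m hα)]
  obtain ⟨z, hz⟩ := root_unity_mem hK m hm (β / α) h1
  refine ⟨z, ?_, ?_⟩
  · rintro rfl
    rw [map_zero] at hz
    rw [← hz, zero_pow hm.ne'] at h1
    exact zero_ne_one h1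
  · first
      | rw [hz, div_mul_cancel₀ _ hα]
      | (rw [hz]; field_simp)

theorem prod_of_multiples (α : Ω) (s : Multiset Ω)
    (h : ∀ γ ∈ s, ∃ z : K, z ≠ 0 ∧ γ = algebraMap K Ω z * α) :
    ∃ z : K, z ≠ 0 ∧ s.prod = algebraMap K Ω z * α ^ (Multiset.card s) := by
  induction s using Multiset.induction_on with
  | empty => exact ⟨1, one_ne_zero, by simp⟩
  | cons a s ih =>
    obtain ⟨z1, hz1, e1⟩ := h a (Multiset.mem_cons_self a s)
    obtain ⟨z2, hz2, e2⟩ := ih (fun γ hγ => h γ (Multiset.mem_cons_of_mem hγ))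
    refine ⟨z1 * z2, mul_ne_zero hz1 hz2, ?_⟩
    rw [Multiset.prod_cons, Multiset.card_cons, e2, map_mul, pow_succ, e1]
    ring

/-- The `natDegree`-th power of an `m`-th root `α` of `c` lies in `K`, for monic divisors of
`X^m - c`. -/
theorem pow_natDegree_mem [IsAlgClosed Ω] (hK : ∀ n : ℕ, 0 < n → (X ^ n - 1 : K[X]).Splits)
    (m : ℕ) (hm : 0 < m) (c : K) (α : Ω) (hα0 : α ≠ 0)
    (hα : α ^ m = algebraMap K Ω c) (q : K[X]) (hq : q.Monic) (hqd : q ∣ X ^ m - C c) :
    ∃ b : K, algebraMap K Ω b = α ^ q.natDegree := by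
  obtain ⟨Q, hQ⟩ : ∃ Q : Polynomial Ω, Q = q.map (algebraMap K Ω) := ⟨_, rfl⟩
  have hQs : Q.Splits := IsAlgClosed.splits Q
  have hQm : Q.Monic := by rw [hQ]; exact hq.map _
  have hQd : Q.natDegree = q.natDegree := by rw [hQ]; exact hq.natDegree_map _
  have hroots : ∀ γ ∈ Q.roots, ∃ z' : K, z' ≠ 0 ∧ γ = algebraMap K Ω z' * α := by
    intro γ hγ
    have h1 : Q.eval γ = 0 := (mem_roots hQm.ne_zero).mp hγ
    have hγq : aeval γ q = 0 := by rwa [hQ, eval_map_algebraMap] at h1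
    have hγm : γ ^ m = α ^ m := by
      obtain ⟨t, ht⟩ := hqd
      have h2 : aeval γ (X ^ m - C c : K[X]) = 0 := by rw [ht, map_mul, hγq, zero_mul]
      rw [map_sub, map_pow, aeval_X, aeval_C] at h2
      rw [sub_eq_zero.mp h2, hα]
    exact exists_mul_of_pow_eq hK m hm α γ hα0 hγm
  obtain ⟨z', hz', hprod⟩ := prod_of_multiples α Q.roots hroots
  have hcard : Multiset.card Q.roots = q.natDegree := by
    rw [← hQs.natDegree_eq_card_roots, hQd]
  have hcoeff := hQs.coeff_zero_eq_prod_roots_of_monic hQm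
  rw [hprod, hcard, hQd, hQ, coeff_map] at hcoeff
  have hz'' : algebraMap K Ω z' ≠ 0 := (_root_.map_ne_zero _).mpr hz'
  have hsq : ((-1 : Ω) ^ q.natDegree) * ((-1) ^ q.natDegree) = 1 := by
    rw [← mul_pow, neg_one_mul, neg_neg, one_pow]
  refine ⟨(-1) ^ q.natDegree * q.coeff 0 / z', ?_⟩
  rw [map_div₀, map_mul, map_pow, map_neg, map_one, hcoeff]
  first
    | rw [← mul_assoc, hsq, one_mul, mul_div_cancel_left₀ _ hz'']
    | (rw [div_eq_iff hz'']
       linear_combination (algebraMap K Ω z' * α ^ q.natDegree) * hsq)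

/-- There is a uniform `r` such that all `m`-th roots of `c` have minimal polynomial of the
form `X^r - b`. -/
theorem exists_r [IsAlgClosed Ω] (hK : ∀ n : ℕ, 0 < n → (X ^ n - 1 : K[X]).Splits)
    (m : ℕ) (hm : 0 < m) (c : K) (hc : c ≠ 0) :
    ∃ r : ℕ, 0 < r ∧
      ∀ β : Ω, β ^ m = algebraMap K Ω c → ∃ b : K, minpoly K β = X ^ r - C b := by
  classical
  obtain ⟨α, hα⟩ := IsAlgClosed.exists_pow_nat_eq (algebraMap K Ω c) hm
  have hc' : algebraMap K Ω c ≠ 0 := (_root_.map_ne_zero _).mpr hc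
  have hα0 : α ≠ 0 := by
    rintro rfl
    rw [zero_pow hm.ne'] at hα
    exact hc' hα.symm
  have hex : ∃ j : ℕ, 0 < j ∧ ∃ b : K, algebraMap K Ω b = α ^ j := ⟨m, hm, c, hα.symm⟩
  obtain ⟨r, ⟨hr, b0, hb0⟩, hrmin⟩ : ∃ r : ℕ, (0 < r ∧ ∃ b : K, algebraMap K Ω b = α ^ r) ∧
      ∀ j : ℕ, (0 < j ∧ ∃ b : K, algebraMap K Ω b = α ^ j) → r ≤ j :=
    ⟨Nat.find hex, Nat.find_spec hex, fun j hj => Nat.find_min' hex hj⟩
  refine ⟨r, hr, ?_⟩
  intro β hβ
  have hβα : β ^ m = α ^ m := by rw [hβ, hα]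
  obtain ⟨z, hz, hβz⟩ := exists_mul_of_pow_eq hK m hm α β hα0 hβα
  have hβint : IsIntegral K β := IsIntegral.of_pow hm (by rw [hβ]; exact isIntegral_algebraMap)
  have hβr : β ^ r = algebraMap K Ω (z ^ r * b0) := by
    rw [hβz, mul_pow, ← hb0, map_mul, map_pow]
  have hroot : aeval β (X ^ r - C (z ^ r * b0) : K[X]) = 0 := by
    rw [map_sub, map_pow, aeval_X, aeval_C, hβr, sub_self]
  have hdvd : minpoly K β ∣ X ^ r - C (z ^ r * b0) := minpoly.dvd K β hroot
  have hmonq : (minpoly K β).Monic := minpoly.monic hβint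
  have hmonr : (X ^ r - C (z ^ r * b0) : K[X]).Monic := monic_X_pow_sub_C _ hr.ne'
  have hdm : minpoly K β ∣ X ^ m - C c :=
    minpoly.dvd K β (by rw [map_sub, map_pow, aeval_X, aeval_C, hβ, sub_self])
  have hrle : r ≤ (minpoly K β).natDegree :=
    hrmin _ ⟨minpoly.natDegree_pos hβint,
      pow_natDegree_mem hK m hm c α hα0 hα (minpoly K β) hmonq hdm⟩
  refine ⟨z ^ r * b0, ?_⟩
  exact (eq_of_monic_of_dvd_of_natDegree_le hmonq hmonr hdvd
    (by rw [natDegree_X_pow_sub_C]; exact hrle)).symm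

end FieldPart

section Factor
variable {K : Type u} [Field K]

theorem exists_factor_aux (m : ℕ) (c : K) (r : ℕ)
    (hmin : ∀ β : AlgebraicClosure K, β ^ m = algebraMap K (AlgebraicClosure K) c →
      ∃ b : K, minpoly K β = X ^ r - C b) :
    ∀ (d : ℕ) (p : K[X]), p.natDegree = d → p.Monic → p ∣ X ^ m - C c →
      ∃ s : Multiset K, p = (s.map fun a : K => X ^ r - C a).prod ∧
        ∀ a ∈ s, Irreducible (X ^ r - C a : K[X]) := by
  intro d
  induction d using Nat.strong_induction_on with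
  | _ d ih =>
    intro p hd hp hpd
    by_cases hu : IsUnit p
    · have hp1 : p = 1 := hp.eq_one_of_isUnit hu
      exact ⟨0, by simp [hp1], by simp⟩
    · obtain ⟨g, hgm, hgi, hgd⟩ := Polynomial.exists_monic_irreducible_factor p hu
      obtain ⟨β, hβ⟩ := IsAlgClosed.exists_aeval_eq_zero (AlgebraicClosure K) g
        (degree_pos_of_irreducible hgi).ne'
      have hβm : β ^ m = algebraMap K (AlgebraicClosure K) c := by
        obtain ⟨t, ht⟩ := hgd.trans hpd
        have h2 : aeval β (X ^ m - C c : K[X]) = 0 := by rw [ht, map_mul, hβ, zero_mul]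
        rw [map_sub, map_pow, aeval_X, aeval_C] at h2
        exact sub_eq_zero.mp h2
      obtain ⟨b, hb⟩ := hmin β hβm
      have hge : g = X ^ r - C b := by
        rw [← hb]; exact minpoly.eq_of_irreducible_of_monic hgi hβ hgm
      obtain ⟨p', hp'⟩ := hgd
      have hp'm : p'.Monic := hgm.of_mul_monic_left (by rw [← hp']; exact hp)
      have hdeg : p'.natDegree < d := by
        have h1 := hgm.natDegree_mul hp'm
        rw [← hp', hd] at h1
        have hgpos : 0 < g.natDegree :=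
          natDegree_pos_iff_degree_pos.mpr (degree_pos_of_irreducible hgi)
        omega
      obtain ⟨s', hs', hs'i⟩ := ih p'.natDegree hdeg p' rfl hp'm
        ((Dvd.intro_left g hp'.symm).trans hpd)
      refine ⟨b ::ₘ s', ?_, ?_⟩
      · rw [Multiset.map_cons, Multiset.prod_cons, ← hs', ← hge, hp']
      · intro a ha
        rcases Multiset.mem_cons.mp ha with rfl | ha
        · rw [← hge]; exact hgi
        · exact hs'i a ha

/-- Factorisation of a monic divisor of `X^m - c` into irreducible binomials `X^r - a` of a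
common degree `r`, when `K` contains all roots of unity. -/
theorem exists_factor (hK : ∀ n : ℕ, 0 < n → (X ^ n - 1 : K[X]).Splits)
    (m : ℕ) (hm : 0 < m) (c : K) (hc : c ≠ 0) (p : K[X]) (hp : p.Monic)
    (hpd : p ∣ X ^ m - C c) :
    ∃ r : ℕ, 0 < r ∧ ∃ s : Multiset K, p = (s.map fun a : K => X ^ r - C a).prod ∧
      ∀ a ∈ s, Irreducible (X ^ r - C a : K[X]) := by
  obtain ⟨r, hr, hmin⟩ := exists_r (Ω := AlgebraicClosure K) hK m hm c hc
  exact ⟨r, hr, exists_factor_aux m c r hmin p.natDegree p rfl hp hpd⟩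

end Factor

end Groth.Agent.Helper22.CSAMin
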