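import Mathlib
import Groth.Agent.Lib.Helper17.CSA1
import Groth.Agent.Lib.Helper1.CSAMod

/-!
# Helper22: degrees of irreducible factors of minimal polynomials in central simple algebras
(module-theoretic part for S15167).

If `A` is central simple of dimension `n^2` over `K`, `V` a finite `A`-module, `φ` an `A`-linear
endomorphism killed by a product of irreducible polynomials of degree `r`, then
`r * n ∣ dim_K V`.  Applied to `V = A` and right multiplication by `x`.
-/

set_option autoImplicit false

open Polynomial TensorProduct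

namespace Groth.Agent.Helper22.CSAMin

universe u v w

section Gen
variable {K : Type u} [Field K] {A : Type v} [Ring A] [Algebra K A]
variable {V : Type w} [AddCommGroup V] [Module K V] [Module A V] [IsScalarTower K A V]

theorem pow_restrict_coe (φ : Module.End A V) (N : Submodule A V) (hN : ∀ v ∈ N, φ v ∈ N)
    (n : ℕ) (w : N) : (((φ.restrict hN) ^ n) w : V) = (φ ^ n) (w : V) := by
  induction n generalizing w with
  | zero => simp only [pow_zero, Module.End.one_apply]
  | succ n ih =>
    rw [pow_succ, pow_succ, Module.End.mul_apply, Module.End.mul_apply, ih,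
      LinearMap.restrict_coe_apply]

theorem aeval_restrict_coe (φ : Module.End A V) (N : Submodule A V) (hN : ∀ v ∈ N, φ v ∈ N)
    (P : K[X]) (w : N) : ((aeval (φ.restrict hN) P) w : V) = (aeval φ P) (w : V) := by
  induction P using Polynomial.induction_on' with
  | add p q hp hq =>
    rw [map_add, map_add, LinearMap.add_apply, LinearMap.add_apply, Submodule.coe_add, hp, hq]
  | monomial n a =>
    rw [aeval_monomial, aeval_monomial, Module.End.mul_apply, Module.End.mul_apply,
      Module.algebraMap_end_apply, Module.algebraMap_end_apply, Submodule.coe_smul_of_tower,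
      pow_restrict_coe]

theorem toSpan_pow (x : A) (n : ℕ) (v : A) :
    ((LinearMap.toSpanSingleton A A x) ^ n) v = v * x ^ n := by
  induction n generalizing v with
  | zero => simp only [pow_zero, Module.End.one_apply, mul_one]
  | succ n ih =>
    rw [pow_succ, Module.End.mul_apply, ih, LinearMap.toSpanSingleton_apply, smul_eq_mul,
      pow_succ', mul_assoc]

theorem aeval_toSpan (x : A) (P : K[X]) (v : A) :
    (aeval (LinearMap.toSpanSingleton A A x) P) v = v * aeval x P := by
  induction P using Polynomial.induction_on' with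
  | add p q hp hq => rw [map_add, map_add, LinearMap.add_apply, hp, hq, mul_add]
  | monomial n a =>
    rw [aeval_monomial, aeval_monomial, Module.End.mul_apply, Module.algebraMap_end_apply,
      toSpan_pow, ← Algebra.smul_def, mul_smul_comm]

theorem finrank_range_add_ker [Module.Finite K V] (ψ : V →ₗ[A] V) :
    Module.finrank K (LinearMap.range ψ) + Module.finrank K (LinearMap.ker ψ) =
      Module.finrank K V := by
  have h : Module.finrank K ((LinearMap.range ψ).restrictScalars K) +
      Module.finrank K ((LinearMap.ker ψ).restrictScalars K) = Module.finrank K V :=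
    LinearMap.finrank_range_add_finrank_ker (ψ.restrictScalars K)
  have e1 :=
    ((Submodule.restrictScalarsEquiv K A V (LinearMap.range ψ)).restrictScalars K).finrank_eq
  have e2 :=
    ((Submodule.restrictScalarsEquiv K A V (LinearMap.ker ψ)).restrictScalars K).finrank_eq
  rw [e1, e2] at h
  exact h

/-- the `K`-algebra hom `K[X]/(g) → End_A V` induced by an endomorphism killed by `g`. -/
noncomputable def rhoL (g : K[X]) (φ : Module.End A V) (hφ : aeval φ g = 0) :
    AdjoinRoot g →ₐ[K] Module.End A V :=
  Ideal.Quotient.liftₐ (Ideal.span {g}) (aeval φ) (by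
    intro a ha
    obtain ⟨b, rfl⟩ := Ideal.mem_span_singleton.mp ha
    rw [map_mul, hφ, zero_mul])

/-- Lemma B: an `A`-endomorphism killed by an irreducible `g` forces
`deg g * n ∣ dim_K V`. -/
theorem lemB [Algebra.IsCentral K A] [IsSimpleRing A] [FiniteDimensional K A]
    [Module.Finite K V]
    (n : ℕ) (hn : Module.finrank K A = n ^ 2) (g : K[X]) (hg : Irreducible g)
    (φ : Module.End A V) (hφ : aeval φ g = 0) : g.natDegree * n ∣ Module.finrank K V := by
  classical
  haveI : Fact (Irreducible g) := ⟨hg⟩
  rcases subsingleton_or_nontrivial V with hV | hV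
  · rw [Module.finrank_zero_of_subsingleton]; exact dvd_zero _
  have hg0 : g ≠ 0 := hg.ne_zero
  letI mL : Module (AdjoinRoot g) V :=
    Module.compHom V ((rhoL g φ hφ : AdjoinRoot g →ₐ[K] Module.End A V) :
      AdjoinRoot g →+* Module.End A V)
  haveI t1 : IsScalarTower K (AdjoinRoot g) V := ⟨fun k l v => by
    show (rhoL g φ hφ (k • l)) v = k • (rhoL g φ hφ l) v
    rw [map_smul, LinearMap.smul_apply]⟩
  haveI t2 : SMulCommClass (AdjoinRoot g) A V := ⟨fun l a v => by
    show (rhoL g φ hφ l) (a • v) = a • (rhoL g φ hφ l) v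
    rw [map_smul]⟩
  letI mT : Module (AdjoinRoot g ⊗[K] A) V := TensorProduct.Algebra.module
  haveI t3 : IsScalarTower (AdjoinRoot g) (AdjoinRoot g ⊗[K] A) V := ⟨fun l t v => by
    induction t using TensorProduct.induction_on with
    | zero => rw [smul_zero, zero_smul, smul_zero]
    | tmul l' a =>
      have e : l • (l' ⊗ₜ[K] a : AdjoinRoot g ⊗[K] A) = (l * l') ⊗ₜ[K] a := by
        rw [TensorProduct.smul_tmul', smul_eq_mul]
      rw [e, TensorProduct.Algebra.smul_def, TensorProduct.Algebra.smul_def, mul_smul]
    | add t₁ t₂ h₁ h₂ => rw [smul_add, add_smul, add_smul, h₁, h₂, smul_add]⟩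
  haveI : Module.Finite (AdjoinRoot g) V :=
    Module.Finite.of_restrictScalars_finite K (AdjoinRoot g) V
  haveI : IsSimpleRing (AdjoinRoot g ⊗[K] A) :=
    Groth.Agent.Helper17.isSimpleRing_tensor K (AdjoinRoot g) A
  haveI : IsArtinianRing (AdjoinRoot g ⊗[K] A) := IsArtinianRing.of_finite (AdjoinRoot g) _
  obtain ⟨-, hdim⟩ := Groth.Agent.Helper1.isSimpleRing_end_and_finrank (AdjoinRoot g)
    (AdjoinRoot g ⊗[K] A) V
  have h1 : Module.finrank (AdjoinRoot g) (AdjoinRoot g ⊗[K] A) = n ^ 2 := by
    rw [Module.finrank_baseChange, hn]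
  rw [h1] at hdim
  have h2 : n ^ 2 ∣ (Module.finrank (AdjoinRoot g) V) ^ 2 := by
    rw [sq (Module.finrank (AdjoinRoot g) V)]; exact Dvd.intro_left _ hdim
  have h3 : n ∣ Module.finrank (AdjoinRoot g) V := (Nat.pow_dvd_pow_iff two_ne_zero).mp h2
  have h4 : Module.finrank K (AdjoinRoot g) = g.natDegree := by
    first
      | rw [(AdjoinRoot.powerBasis hg0).finrank, AdjoinRoot.powerBasis_dim]
      | exact finrank_quotient_span_eq_natDegree
  rw [← Module.finrank_mul_finrank K (AdjoinRoot g) V, h4]
  exact Nat.mul_dvd_mul_left _ h3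

/-- Lemma C: an `A`-endomorphism killed by a product of irreducibles of degree `r` forces
`r * n ∣ dim_K V`. -/
theorem lemC [Algebra.IsCentral K A] [IsSimpleRing A] [FiniteDimensional K A]
    (n : ℕ) (hn : Module.finrank K A = n ^ 2) (r : ℕ) (F : Multiset K[X]) :
    (∀ q ∈ F, Irreducible q ∧ q.natDegree = r) →
    ∀ (V : Type w) [AddCommGroup V] [Module K V] [Module A V] [IsScalarTower K A V]
      [Module.Finite K V] (φ : Module.End A V), aeval φ F.prod = 0 →
      r * n ∣ Module.finrank K V := by
  induction F using Multiset.induction_on with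
  | empty =>
    intro _ V _ _ _ _ _ φ h
    rw [Multiset.prod_zero, map_one] at h
    have h0 : ∀ v : V, v = 0 := fun v => by
      have := LinearMap.congr_fun h v
      simpa using this
    haveI : Subsingleton V := ⟨fun a b => by rw [h0 a, h0 b]⟩
    rw [Module.finrank_zero_of_subsingleton]; exact dvd_zero _
  | cons q F ih =>
    intro hF V _ _ _ _ _ φ h
    have hq := hF q (Multiset.mem_cons_self q F)
    have hF' : ∀ q' ∈ F, Irreducible q' ∧ q'.natDegree = r :=
      fun q' hq' => hF q' (Multiset.mem_cons_of_mem hq')
    rw [Multiset.prod_cons] at h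
    obtain ⟨ψ, hψ⟩ : ∃ ψ : Module.End A V, ψ = aeval φ q := ⟨_, rfl⟩
    have hcomm : ∀ v, ψ (φ v) = φ (ψ v) := by
      intro v
      have e : ψ * φ = φ * ψ := by
        have h1 : aeval φ (q * X) = aeval φ (X * q) := by rw [mul_comm]
        rw [map_mul, map_mul, aeval_X] at h1
        rw [hψ]; exact h1
      have := LinearMap.congr_fun e v
      simpa only [Module.End.mul_apply] using this
    have hW : ∀ v ∈ LinearMap.ker ψ, φ v ∈ LinearMap.ker ψ := by
      intro v hv
      rw [LinearMap.mem_ker] at hv ⊢
      rw [hcomm, hv, map_zero]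
    have hR : ∀ v ∈ LinearMap.range ψ, φ v ∈ LinearMap.range ψ := by
      rintro _ ⟨u, rfl⟩
      exact ⟨φ u, hcomm u⟩
    haveI : Module.Finite K (LinearMap.ker ψ) :=
      Module.Finite.of_injective ((LinearMap.ker ψ).subtype.restrictScalars K)
        (LinearMap.ker ψ).subtype_injective
    haveI : Module.Finite K (LinearMap.range ψ) :=
      Module.Finite.of_injective ((LinearMap.range ψ).subtype.restrictScalars K)
        (LinearMap.range ψ).subtype_injective
    have h1 : q.natDegree * n ∣ Module.finrank K (LinearMap.ker ψ) :=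
      lemB n hn q hq.1 (φ.restrict hW) (by
        apply LinearMap.ext
        intro w
        apply Subtype.ext
        rw [aeval_restrict_coe]
        have hw := w.2
        rw [LinearMap.mem_ker] at hw
        rw [← hψ]
        exact hw)
    have h2 : r * n ∣ Module.finrank K (LinearMap.range ψ) :=
      ih hF' (LinearMap.range ψ) (φ.restrict hR) (by
        apply LinearMap.ext
        rintro ⟨_, u, rfl⟩
        apply Subtype.ext
        rw [aeval_restrict_coe]
        show (aeval φ F.prod) (ψ u) = 0
        rw [hψ, ← Module.End.mul_apply, ← map_mul, mul_comm, h, LinearMap.zero_apply])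
    rw [hq.2] at h1
    rw [← finrank_range_add_ker ψ]
    exact dvd_add h2 h1

end Gen

section Final
variable {K : Type u} [Field K] {A : Type v} [Ring A] [Algebra K A]
  [Algebra.IsCentral K A] [IsSimpleRing A] [FiniteDimensional K A]

/-- If the minimal polynomial of `x` in a central simple algebra of dimension `n^2` is a product
of irreducible polynomials `X^r - a`, then `r ∣ n`. -/
theorem dvd_of_minpoly_eq (n : ℕ) (hn : Module.finrank K A = n ^ 2) (x : A) (r : ℕ)
    (s : Multiset K) (hs : ∀ a ∈ s, Irreducible (X ^ r - C a : K[X]))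
    (hp : minpoly K x = (s.map fun a : K => X ^ r - C a).prod) : r ∣ n := by
  have hF : ∀ q ∈ s.map (fun a : K => (X ^ r - C a : K[X])),
      Irreducible q ∧ q.natDegree = r := by
    intro q hq
    obtain ⟨a, ha, rfl⟩ := Multiset.mem_map.mp hq
    exact ⟨hs a ha, natDegree_X_pow_sub_C⟩
  have h0 : aeval (LinearMap.toSpanSingleton A A x)
      (s.map fun a : K => (X ^ r - C a : K[X])).prod = 0 := by
    apply LinearMap.ext
    intro v
    rw [aeval_toSpan, ← hp, minpoly.aeval, mul_zero, LinearMap.zero_apply]
  have hdvd := lemC n hn r _ hF A (LinearMap.toSpanSingleton A A x) h0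
  rcases Nat.eq_zero_or_pos n with rfl | hnpos
  · exact dvd_zero r
  · rw [hn, sq] at hdvd
    exact Nat.dvd_of_mul_dvd_mul_right hnpos hdvd

end Final

end Groth.Agent.Helper22.CSAMin
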