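import Mathlib
import Groth.Prelude.Def_CartDual2
import Groth.Agent.Lib.Helper22.CartEx2

/-!
# The Cartier dual of a short exact sequence: assembly (helper22)
-/

set_option autoImplicit false
universe u

open TensorProduct CartDual

namespace Groth.Agent.Helper22.CartEx

section Hq

variable (R : Type u) [CommRing R] (H N : Type u) [CommRing H] [HopfAlgebra R H] [CommRing N]
  [HopfAlgebra R N] (π : H →ₐ[R] N)

theorem lid_rTensor_map (w : H ⊗[R] H) :
    TensorProduct.lid R N ((Bialgebra.counitAlgHom R H).toLinearMap.rTensor N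
      (Algebra.TensorProduct.map (AlgHom.id R H) π w)) =
      π (TensorProduct.lid R H ((Coalgebra.counit (R := R) (A := H)).rTensor H w)) := by
  induction w using TensorProduct.induction_on with
  | zero => simp
  | tmul a b =>
    rw [Algebra.TensorProduct.map_tmul, LinearMap.rTensor_tmul, LinearMap.rTensor_tmul,
      TensorProduct.lid_tmul, TensorProduct.lid_tmul, map_smul]
    rfl
  | add w₁ w₂ h₁ h₂ => simp only [map_add, h₁, h₂]

theorem hq (x : H) :
    TensorProduct.lid R N ((Bialgebra.counitAlgHom R H).toLinearMap.rTensor N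
      ((HopfQuot.tAlg R H N π).toRingHom x)) = π.toLinearMap x := by
  show TensorProduct.lid R N ((Bialgebra.counitAlgHom R H).toLinearMap.rTensor N
      (HopfQuot.tAlg R H N π x)) = π x
  rw [HopfQuot.tAlg_def, lid_rTensor_map, Coalgebra.rTensor_counit_comul, TensorProduct.lid_tmul,
    one_smul]

end Hq

theorem main (R : Type u) [CommRing R] [IsNoetherianRing R]
    (A' A A'' : Type u) [CommRing A'] [HopfAlgebra R A'] [Coalgebra.IsCocomm R A']
    [Module.Finite R A'] [Module.Projective R A'] [CommRing A] [HopfAlgebra R A]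
    [Coalgebra.IsCocomm R A] [Module.Finite R A] [Module.Projective R A] [CommRing A'']
    [HopfAlgebra R A''] [Coalgebra.IsCocomm R A''] [Module.Finite R A'']
    [Module.Projective R A''] (f : A'' →ₐc[R] A)
    (hf : (f : A'' →ₐ[R] A).toRingHom.FaithfullyFlat)
    (g : A →ₐc[R] A') (hg : Function.Surjective g)
    (hker : RingHom.ker (g : A →ₐ[R] A') =
      Ideal.map (f : A'' →ₐ[R] A) (RingHom.ker (Bialgebra.counitAlgHom R A''))) :
    (CartDual.transpose R g : CartDual.D R A' →ₐ[R] CartDual.D R A).toRingHom.FaithfullyFlat ∧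
      Function.Surjective (CartDual.transpose R f) ∧
      RingHom.ker (CartDual.transpose R f : CartDual.D R A →ₐ[R] CartDual.D R A'') =
        Ideal.map (CartDual.transpose R g : CartDual.D R A' →ₐ[R] CartDual.D R A)
          (RingHom.ker (Bialgebra.counitAlgHom R (CartDual.D R A'))) := by
  obtain ⟨r, hr⟩ := exists_linear_retraction R A A'' (f : A'' →ₐ[R] A) hf
  have hπ : Function.Surjective (transpose R f) := transpose_surjective R f r hr
  let π : D R A →ₐ[R] D R A'' := (transpose R f : D R A →ₐ[R] D R A'')
  have hπ' : Function.Surjective π := hπ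
  have hΔ : ∀ a, CoalgebraStruct.comul (R := R) (π a) =
      TensorProduct.map π.toLinearMap π.toLinearMap (CoalgebraStruct.comul (R := R) a) :=
    fun a => (CoalgHomClass.map_comp_comul_apply (transpose R f) a).symm
  have hε : ∀ a, CoalgebraStruct.counit (R := R) (π a) = CoalgebraStruct.counit (R := R) a :=
    fun a => CoalgHomClass.counit_comp_apply (transpose R f) a
  have hrg := HopfQuot.rg R (D R A) (D R A'') π hΔ hε
  have hs := HopfQuot.hsurj R (D R A) (D R A'') π hπ'
  haveI : Algebra.FinitePresentation R (D R A'') :=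
    Algebra.FinitePresentation.of_finiteType.mp inferInstance
  haveI : Algebra.FinitePresentation (D R A) (D R A ⊗[R] D R A'') :=
    Algebra.FinitePresentation.baseChange (D R A)
  obtain ⟨⟨hfin, hflat, -⟩, -⟩ := Groth.Agent.Helper3.GrpdQ4.RG.main hrg hs
  obtain ⟨θ, hθ⟩ := Groth.Agent.Helper3.GrpdQ4.RG.theta hrg hs
  -- the coinvariants are the range of the transpose of `g`
  have hTmem : ∀ ψ : D R A', (transpose R g : D R A' →ₐ[R] D R A).toRingHom ψ ∈
      RingHom.eqLocus (algebraMap (D R A) (D R A ⊗[R] D R A''))
        (HopfQuot.tAlg R (D R A) (D R A'') π).toRingHom :=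
    fun ψ => transpose_mem_coinv R A A'' f A' g hker ψ
  have hrange : ∀ c ∈ RingHom.eqLocus (algebraMap (D R A) (D R A ⊗[R] D R A''))
      (HopfQuot.tAlg R (D R A) (D R A'') π).toRingHom, ∃ ψ : D R A', transpose R g ψ = c := by
    intro c hc
    have h1 := (mem_coinv_iff R A A'' f c).mp hc
    exact exists_of_vanish R g hg c (fun x hx => vanish_of_coinv R A A'' f A' g hker c h1 x hx)
  refine ⟨?_, hπ, ?_⟩
  · -- faithful flatness
    haveI := hfin
    haveI := hflat
    haveI : FaithfulSMul (RingHom.eqLocus (algebraMap (D R A) (D R A ⊗[R] D R A''))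
        (HopfQuot.tAlg R (D R A) (D R A'') π).toRingHom) (D R A) :=
      (faithfulSMul_iff_algebraMap_injective _ _).mpr Subtype.val_injective
    haveI hff : Module.FaithfullyFlat (RingHom.eqLocus (algebraMap (D R A) (D R A ⊗[R] D R A''))
        (HopfQuot.tAlg R (D R A) (D R A'') π).toRingHom) (D R A) :=
      Module.FaithfullyFlat.of_comap_surjective (Algebra.IsIntegral.comap_surjective _ (D R A))
    have hsub : (algebraMap (RingHom.eqLocus (algebraMap (D R A) (D R A ⊗[R] D R A''))
        (HopfQuot.tAlg R (D R A) (D R A'') π).toRingHom) (D R A)).FaithfullyFlat :=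
      RingHom.faithfullyFlat_algebraMap_iff.mpr hff
    let T' : D R A' →+* (RingHom.eqLocus (algebraMap (D R A) (D R A ⊗[R] D R A''))
        (HopfQuot.tAlg R (D R A) (D R A'') π).toRingHom) :=
      (transpose R g : D R A' →ₐ[R] D R A).toRingHom.codRestrict _ hTmem
    have hT'bij : Function.Bijective T' := by
      constructor
      · intro ψ ψ' h
        apply transpose_injective R g hg
        exact congrArg Subtype.val h
      · intro c
        obtain ⟨ψ, hψ⟩ := hrange c.1 c.2
        exact ⟨ψ, Subtype.ext hψ⟩
    have hcomp : (transpose R g : D R A' →ₐ[R] D R A).toRingHom =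
        (algebraMap (RingHom.eqLocus (algebraMap (D R A) (D R A ⊗[R] D R A''))
          (HopfQuot.tAlg R (D R A) (D R A'') π).toRingHom) (D R A)).comp T' :=
      RingHom.ext fun _ => rfl
    rw [hcomp]
    exact RingHom.FaithfullyFlat.stableUnderComposition T' _
      (RingHom.FaithfullyFlat.of_bijective hT'bij) hsub
  · -- the kernel
    apply le_antisymm
    · intro x hx
      have hx0 : π.toLinearMap x = 0 := hx
      refine mem_of_pi_eq_zero (Bialgebra.counitAlgHom R (D R A))
        (RingHom.eqLocus (algebraMap (D R A) (D R A ⊗[R] D R A''))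
          (HopfQuot.tAlg R (D R A) (D R A'') π).toRingHom) _
        (HopfQuot.tAlg R (D R A) (D R A'') π).toRingHom π.toLinearMap
        (hq R (D R A) (D R A'') π) θ hθ ?_ x hx0
      intro c hc
      obtain ⟨ψ, rfl⟩ := hrange c hc
      have h1 : algebraMap R (D R A') (Coalgebra.counit (R := R) ψ) - ψ ∈
          RingHom.ker (Bialgebra.counitAlgHom R (D R A')) := by
        rw [RingHom.mem_ker, map_sub, AlgHom.commutes, Bialgebra.counitAlgHom_apply]
        simp
      have h2 := Ideal.mem_map_of_mem (transpose R g : D R A' →ₐ[R] D R A) h1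
      rw [map_sub, AlgHom.commutes] at h2
      have h3 : Bialgebra.counitAlgHom R (D R A) (transpose R g ψ) =
          Coalgebra.counit (R := R) ψ :=
        CoalgHomClass.counit_comp_apply (transpose R g) ψ
      rw [h3]
      exact h2
    · rw [Ideal.map_le_iff_le_comap]
      intro ψ hψ
      have hψ1 : ψ.ofConv 1 = 0 := hψ
      show (transpose R f : D R A →ₐ[R] D R A'') ((transpose R g : D R A' →ₐ[R] D R A) ψ) = 0
      apply WithConv.ext
      apply LinearMap.ext
      intro a''
      show ψ.ofConv (g (f a'')) = 0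
      rw [g_f R A A'' f A' g hker, Algebra.algebraMap_eq_smul_one, map_smul, hψ1, smul_zero]

end Groth.Agent.Helper22.CartEx
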