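import Mathlib
import Groth.Prelude.Def_W4c1btstackcountsChain

set_option autoImplicit false

namespace Groth.Agent.Helper22.Chain

open W4c1btstackcounts Module

variable {k : Type*} [Field k] {d : ℕ → ℕ}

/-- the big graded space -/
abbrev Vb (k : Type*) (d : ℕ → ℕ) : Type _ := (j : ℕ) → (Fin (d j) → k)

noncomputable def inc (j : ℕ) : (Fin (d j) → k) →ₗ[k] Vb k d :=
  LinearMap.single k (fun j => Fin (d j) → k) j

theorem inc_same (j : ℕ) (v : Fin (d j) → k) : (inc j v : Vb k d) j = v := by
  simp [inc]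

theorem inc_ne {j m : ℕ} (h : m ≠ j) (v : Fin (d j) → k) : (inc j v : Vb k d) m = 0 := by
  simp [inc, Pi.single_eq_of_ne h]

theorem inc_injective (j : ℕ) : Function.Injective (inc (k := k) (d := d) j) := by
  intro v w h
  have := congrFun h j
  rwa [inc_same, inc_same] at this

noncomputable def bigComp (f : (i : ℕ) → Matrix (Fin (d (i + 1))) (Fin (d i)) k) :
    (j : ℕ) → (Vb k d →ₗ[k] (Fin (d j) → k))
  | 0 => 0
  | (j + 1) => (Matrix.toLin' (f j)).comp (LinearMap.proj j)

noncomputable def bigF (f : (i : ℕ) → Matrix (Fin (d (i + 1))) (Fin (d i)) k) :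
    Vb k d →ₗ[k] Vb k d := LinearMap.pi (bigComp f)

theorem bigF_zero (f : (i : ℕ) → Matrix (Fin (d (i + 1))) (Fin (d i)) k) (x : Vb k d) :
    bigF f x 0 = 0 := rfl

theorem bigF_succ (f : (i : ℕ) → Matrix (Fin (d (i + 1))) (Fin (d i)) k) (x : Vb k d) (j : ℕ) :
    bigF f x (j + 1) = Matrix.toLin' (f j) (x j) := rfl

theorem bigF_inc (f : (i : ℕ) → Matrix (Fin (d (i + 1))) (Fin (d i)) k) (j : ℕ)
    (v : Fin (d j) → k) :
    bigF f (inc j v) = inc (j + 1) (Matrix.toLin' (f j) v) := by
  funext m
  cases m with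
  | zero => rw [bigF_zero, inc_ne (show (0 : ℕ) ≠ j + 1 by omega)]
  | succ m =>
    rw [bigF_succ]
    by_cases h : m = j
    · subst h
      rw [inc_same, inc_same]
    · rw [inc_ne h, map_zero, inc_ne (show m + 1 ≠ j + 1 by omega)]

theorem bigF_comp_inc (f : (i : ℕ) → Matrix (Fin (d (i + 1))) (Fin (d i)) k) (j : ℕ) :
    (bigF f).comp (inc j) = (inc (j + 1)).comp (Matrix.toLin' (f j)) :=
  LinearMap.ext (bigF_inc f j)

noncomputable def Usub (f : (i : ℕ) → Matrix (Fin (d (i + 1))) (Fin (d i)) k) (i n : ℕ) :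
    Submodule k (Vb k d) :=
  Submodule.map ((bigF f) ^ n) (LinearMap.range (inc (k := k) (d := d) i))

theorem Usub_succ (f : (i : ℕ) → Matrix (Fin (d (i + 1))) (Fin (d i)) k) (i n : ℕ) :
    Usub f i (n + 1) = Submodule.map (bigF f) (Usub f i n) := by
  unfold Usub
  rw [pow_succ', Module.End.mul_eq_comp, Submodule.map_comp]

theorem Usub_succ_le (f : (i : ℕ) → Matrix (Fin (d (i + 1))) (Fin (d i)) k) (i n : ℕ) :
    Usub f i (n + 1) ≤ Usub f (i + 1) n := by
  unfold Usub
  rw [pow_succ, Module.End.mul_eq_comp, Submodule.map_comp]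
  apply Submodule.map_mono
  rw [← LinearMap.range_comp, bigF_comp_inc]
  exact LinearMap.range_comp_le_range _ _

instance (f : (i : ℕ) → Matrix (Fin (d (i + 1))) (Fin (d i)) k) (i n : ℕ) :
    Module.Finite k (Usub f i n) := by
  unfold Usub; infer_instance

theorem Usub_eq (f : (i : ℕ) → Matrix (Fin (d (i + 1))) (Fin (d i)) k) (i n : ℕ) :
    Usub f i n = Submodule.map (inc (i + n)) (iterImage f i n) := by
  induction n with
  | zero =>
    unfold Usub
    rw [pow_zero, Module.End.one_eq_id, Submodule.map_id]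
    show _ = Submodule.map (inc i) ⊤
    rw [Submodule.map_top]
  | succ n ih =>
    rw [Usub_succ, ih, ← Submodule.map_comp, bigF_comp_inc, Submodule.map_comp]
    rfl

noncomputable def A (f : (i : ℕ) → Matrix (Fin (d (i + 1))) (Fin (d i)) k) (i n : ℕ) : ℕ :=
  finrank k (Usub f i n)

theorem finrank_iterImage (f : (i : ℕ) → Matrix (Fin (d (i + 1))) (Fin (d i)) k) (i n : ℕ) :
    finrank k (iterImage f i n) = A f i n := by
  unfold A
  rw [Usub_eq]
  exact (Submodule.equivMapOfInjective (inc (i + n)) (inc_injective _) (iterImage f i n)).finrank_eq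

theorem rankArray_eq (f : (i : ℕ) → Matrix (Fin (d (i + 1))) (Fin (d i)) k) {i j : ℕ}
    (h : i ≤ j) : rankArray f i j = A f i (j - i) := by
  unfold rankArray
  rw [if_pos h, finrank_iterImage]

theorem finrank_map_add_inf_ker {V : Type*} [AddCommGroup V] [Module k V] (F : V →ₗ[k] V)
    (U : Submodule k V) [FiniteDimensional k U] :
    finrank k (Submodule.map F U) + finrank k (U ⊓ LinearMap.ker F : Submodule k V) =
      finrank k U := by
  have h1 := LinearMap.finrank_range_add_finrank_ker (F.domRestrict U)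
  rw [LinearMap.range_domRestrict, LinearMap.ker_domRestrict] at h1
  have h2 : finrank k (Submodule.comap U.subtype (LinearMap.ker F)) =
      finrank k (U ⊓ LinearMap.ker F : Submodule k V) := by
    rw [← Submodule.map_comap_subtype]
    exact (Submodule.equivMapOfInjective U.subtype U.injective_subtype _).finrank_eq
  rw [h2] at h1
  exact h1

theorem rank_ineq {V : Type*} [AddCommGroup V] [Module k V] (F : V →ₗ[k] V)
    (U' U : Submodule k V) [FiniteDimensional k U] (h : U' ≤ U) :
    finrank k U' + finrank k (Submodule.map F U) ≤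
      finrank k U + finrank k (Submodule.map F U') := by
  haveI : FiniteDimensional k U' := Submodule.finiteDimensional_of_le h
  have h1 := finrank_map_add_inf_ker F U
  have h2 := finrank_map_add_inf_ker F U'
  have h3 : finrank k (U' ⊓ LinearMap.ker F : Submodule k V) ≤
      finrank k (U ⊓ LinearMap.ker F : Submodule k V) :=
    Submodule.finrank_mono (inf_le_inf_right _ h)
  omega

theorem isRankArray (f : (i : ℕ) → Matrix (Fin (d (i + 1))) (Fin (d i)) k) (r : ℕ) :
    IsRankArray d r (rankArray f) := by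
  refine ⟨?_, ?_, ?_, ?_⟩
  · intro j _ _
    rw [rankArray_eq f le_rfl, Nat.sub_self, ← finrank_iterImage]
    show finrank k (⊤ : Submodule k (Fin (d j) → k)) = d j
    rw [finrank_top, Module.finrank_fin_fun]
  · intro i j _ hij _
    rw [rankArray_eq f hij.le, rankArray_eq f (show i + 1 ≤ j by omega)]
    have e : j - i = (j - (i + 1)) + 1 := by omega
    rw [e]
    exact Submodule.finrank_mono (Usub_succ_le f i _)
  · intro i j _ hij _
    rw [rankArray_eq f (show i ≤ j + 1 by omega), rankArray_eq f hij]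
    have e : j + 1 - i = (j - i) + 1 := by omega
    rw [e]
    unfold A
    rw [Usub_succ]
    exact Submodule.finrank_map_le _ _
  · intro i j hi hij hjr
    obtain ⟨i', rfl⟩ : ∃ i', i = i' + 1 := ⟨i - 1, by omega⟩
    have e0 : i' + 1 - 1 = i' := by omega
    rw [e0, rankArray_eq f (show i' + 1 ≤ j + 1 by omega), rankArray_eq f (show i' ≤ j by omega),
      rankArray_eq f hij, rankArray_eq f (show i' ≤ j + 1 by omega)]
    obtain ⟨n, hn⟩ : ∃ n, n = j - (i' + 1) := ⟨_, rfl⟩
    have e1 : j + 1 - (i' + 1) = n + 1 := by omega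
    have e2 : j - i' = n + 1 := by omega
    have e3 : j + 1 - i' = n + 1 + 1 := by omega
    rw [e1, e2, e3, ← hn]
    have h := rank_ineq (bigF f) (Usub f i' (n + 1)) (Usub f (i' + 1) n) (Usub_succ_le f i' n)
    rw [← Usub_succ, ← Usub_succ] at h
    unfold A
    omega

theorem toLin'_GL_injective {n : ℕ} (g : Matrix.GeneralLinearGroup (Fin n) k) :
    Function.Injective (Matrix.toLin' (g : Matrix (Fin n) (Fin n) k)) := by
  intro v w h
  have e : ∀ v, Matrix.toLin'
      ((g⁻¹ : Matrix.GeneralLinearGroup (Fin n) k) : Matrix (Fin n) (Fin n) k)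
      (Matrix.toLin' (g : Matrix (Fin n) (Fin n) k) v) = v := by
    intro v
    rw [← LinearMap.comp_apply, ← Matrix.toLin'_mul]
    have : ((g⁻¹ : Matrix.GeneralLinearGroup (Fin n) k) : Matrix (Fin n) (Fin n) k) *
        (g : Matrix (Fin n) (Fin n) k) = 1 := by
      rw [← Units.val_mul, inv_mul_cancel, Units.val_one]
    rw [this, Matrix.toLin'_one, LinearMap.id_apply]
  have h2 := congrArg (Matrix.toLin'
    ((g⁻¹ : Matrix.GeneralLinearGroup (Fin n) k) : Matrix (Fin n) (Fin n) k)) h
  rwa [e, e] at h2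

theorem iterImage_conj (g : (j : ℕ) → Matrix.GeneralLinearGroup (Fin (d j)) k)
    (f : (i : ℕ) → Matrix (Fin (d (i + 1))) (Fin (d i)) k) (i n : ℕ) :
    iterImage (conj g f) i n =
      Submodule.map (Matrix.toLin' ((g (i + n) : Matrix.GeneralLinearGroup (Fin (d (i + n))) k) :
        Matrix (Fin (d (i + n))) (Fin (d (i + n))) k)) (iterImage f i n) := by
  induction n with
  | zero =>
    show (⊤ : Submodule k (Fin (d i) → k)) =
      Submodule.map (Matrix.toLin' ((g i : Matrix.GeneralLinearGroup (Fin (d i)) k) :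
        Matrix (Fin (d i)) (Fin (d i)) k)) ⊤
    rw [Submodule.map_top]
    exact (LinearMap.range_eq_top.2
      (LinearMap.injective_iff_surjective.1 (toLin'_GL_injective (g i)))).symm
  | succ n ih =>
    show Submodule.map (Matrix.toLin' (conj g f (i + n))) (iterImage (conj g f) i n) =
      Submodule.map (Matrix.toLin'
        ((g (i + n + 1) : Matrix.GeneralLinearGroup (Fin (d (i + n + 1))) k) :
          Matrix (Fin (d (i + n + 1))) (Fin (d (i + n + 1))) k))
        (Submodule.map (Matrix.toLin' (f (i + n))) (iterImage f i n))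
    have hm : conj g f (i + n) *
        ((g (i + n) : Matrix.GeneralLinearGroup (Fin (d (i + n))) k) :
          Matrix (Fin (d (i + n))) (Fin (d (i + n))) k) =
        ((g (i + n + 1) : Matrix.GeneralLinearGroup (Fin (d (i + n + 1))) k) :
          Matrix (Fin (d (i + n + 1))) (Fin (d (i + n + 1))) k) * f (i + n) := by
      unfold conj
      rw [Matrix.mul_assoc, ← Units.val_mul, inv_mul_cancel, Units.val_one, Matrix.mul_one]
    rw [ih, ← Submodule.map_comp, ← Submodule.map_comp, ← Matrix.toLin'_mul, ← Matrix.toLin'_mul, hm]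

theorem rankArray_conj (g : (j : ℕ) → Matrix.GeneralLinearGroup (Fin (d j)) k)
    (f : (i : ℕ) → Matrix (Fin (d (i + 1))) (Fin (d i)) k) {i j : ℕ} (h : i ≤ j) :
    rankArray (conj g f) i j = rankArray f i j := by
  unfold rankArray
  rw [if_pos h, if_pos h, iterImage_conj]
  exact ((Submodule.equivMapOfInjective _ (toLin'_GL_injective _) _).finrank_eq).symm

end Groth.Agent.Helper22.Chain
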