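import Mathlib
import Groth.Prelude.Def_W4c1btstackcountsChain
import Groth.Agent.Lib.Helper22.Chain1

set_option autoImplicit false

namespace Groth.Agent.Helper22.Chain

open W4c1btstackcounts Module

variable {k : Type*} [Field k] {d : ℕ → ℕ}

section EL

variable {W W' : Type*} [AddCommGroup W] [Module k W] [FiniteDimensional k W]
  [AddCommGroup W'] [Module k W'] [FiniteDimensional k W']

theorem finrank_map_of_injOn (ψ : W →ₗ[k] W') (S : Submodule k W)
    (h : ∀ u ∈ S, ψ u = 0 → u = 0) :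
    finrank k (Submodule.map ψ S) = finrank k S := by
  rw [← LinearMap.range_domRestrict]
  exact LinearMap.finrank_range_of_inj ((injective_iff_map_eq_zero (ψ.domRestrict S)).2
    (fun x hx => Subtype.ext (h x.1 x.2 hx)))

theorem ext_flag_top (hdim : finrank k W = finrank k W') (K : ℕ → Submodule k W)
    (K' : ℕ → Submodule k W') (ψ : W →ₗ[k] W')
    (hinj : ∀ u, ψ u = 0 → u = 0) (hfl : ∀ t u, u ∈ K t ↔ ψ u ∈ K' t) :
    ∃ g : W ≃ₗ[k] W', (∀ u, g u = ψ u) ∧ ∀ t w, w ∈ K t ↔ g w ∈ K' t := by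
  have hi : Function.Injective ψ := (injective_iff_map_eq_zero ψ).2 hinj
  have hs : Function.Surjective ψ :=
    (LinearMap.injective_iff_surjective_of_finrank_eq_finrank hdim).1 hi
  exact ⟨LinearEquiv.ofBijective ψ ⟨hi, hs⟩, fun u => rfl, fun t w => hfl t w⟩

theorem ext_flag (hdim : finrank k W = finrank k W')
    (K : ℕ → Submodule k W) (K' : ℕ → Submodule k W') (hK : Monotone K) (hK' : Monotone K')
    (hKd : ∀ t, finrank k (K t) = finrank k (K' t)) :
    ∀ (n : ℕ) (U : Submodule k W) (ψ : W →ₗ[k] W'), finrank k W - finrank k U ≤ n →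
      (∀ u ∈ U, ψ u = 0 → u = 0) → (∀ t, ∀ u ∈ U, u ∈ K t ↔ ψ u ∈ K' t) →
      ∃ g : W ≃ₗ[k] W', (∀ u ∈ U, g u = ψ u) ∧ ∀ t w, w ∈ K t ↔ g w ∈ K' t := by
  intro n
  induction n with
  | zero =>
    intro U ψ hn hinj hfl
    have hU : U = ⊤ := by
      apply Submodule.eq_top_of_finrank_eq
      have := Submodule.finrank_le U
      omega
    subst hU
    obtain ⟨g, hg1, hg2⟩ := ext_flag_top hdim K K' ψ (fun u => hinj u Submodule.mem_top)
      (fun t u => hfl t u Submodule.mem_top)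
    exact ⟨g, fun u _ => hg1 u, hg2⟩
  | succ n ih =>
    intro U ψ hn hinj hfl
    by_cases hU : U = ⊤
    · subst hU
      obtain ⟨g, hg1, hg2⟩ := ext_flag_top hdim K K' ψ (fun u => hinj u Submodule.mem_top)
        (fun t u => hfl t u Submodule.mem_top)
      exact ⟨g, fun u _ => hg1 u, hg2⟩
    have hrU : finrank k (Submodule.map ψ U) = finrank k U := finrank_map_of_injOn ψ U hinj
    have hA1 : ∀ t, K t ≤ U → K' t ≤ Submodule.map ψ U := by
      intro t ht
      have h1 : Submodule.map ψ (K t) ≤ K' t := by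
        rintro _ ⟨u, hu, rfl⟩
        exact (hfl t u (ht hu)).1 hu
      have h2 : finrank k (Submodule.map ψ (K t)) = finrank k (K' t) := by
        rw [finrank_map_of_injOn ψ (K t) (fun u hu => hinj u (ht hu)), hKd]
      have h3 := Submodule.eq_of_le_of_finrank_eq h1 h2
      rw [← h3]
      exact Submodule.map_mono ht
    have hA2 : ∀ t, K' t ≤ Submodule.map ψ U → K t ≤ U := by
      intro t ht
      have h1 : Submodule.map ψ (U ⊓ K t) = K' t := by
        apply le_antisymm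
        · rintro _ ⟨u, ⟨huU, huK⟩, rfl⟩
          exact (hfl t u huU).1 huK
        · intro w hw
          obtain ⟨u, huU, rfl⟩ := ht hw
          exact ⟨u, ⟨huU, (hfl t u huU).2 hw⟩, rfl⟩
      have h2 : finrank k (U ⊓ K t : Submodule k W) = finrank k (K t) := by
        rw [← finrank_map_of_injOn ψ (U ⊓ K t) (fun u hu => hinj u hu.1), h1, hKd]
      have h3 : U ⊓ K t = K t := Submodule.eq_of_le_of_finrank_eq inf_le_right h2
      rw [← h3]; exact inf_le_left
    obtain ⟨w, w', hw, hw', hQ⟩ : ∃ w w', w ∉ U ∧ w' ∉ Submodule.map ψ U ∧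
        ∀ t, (K t ≤ U ∧ K' t ≤ Submodule.map ψ U) ∨ (w ∈ K t ∧ w' ∈ K' t) := by
      by_cases hall : ∀ t, K t ≤ U
      · obtain ⟨w, hw⟩ : ∃ w, w ∉ U := by
          by_contra hcon
          push_neg at hcon
          exact hU (eq_top_iff.2 (fun x _ => hcon x))
        obtain ⟨w', hw'⟩ : ∃ w', w' ∉ Submodule.map ψ U := by
          by_contra hcon
          push_neg at hcon
          have h1 : Submodule.map ψ U = ⊤ := eq_top_iff.2 (fun x _ => hcon x)
          have h2 := Submodule.finrank_lt hU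
          rw [h1, finrank_top] at hrU
          omega
        exact ⟨w, w', hw, hw', fun t => Or.inl ⟨hall t, hA1 t (hall t)⟩⟩
      · push_neg at hall
        classical
        have ht₀ : ¬ K (Nat.find hall) ≤ U := Nat.find_spec hall
        have hmin : ∀ s, s < Nat.find hall → K s ≤ U :=
          fun s hs => not_not.1 (Nat.find_min hall hs)
        obtain ⟨w, hwK, hw⟩ := SetLike.not_le_iff_exists.1 ht₀
        have ht₀' : ¬ K' (Nat.find hall) ≤ Submodule.map ψ U := fun h => ht₀ (hA2 _ h)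
        obtain ⟨w', hwK', hw'⟩ := SetLike.not_le_iff_exists.1 ht₀'
        refine ⟨w, w', hw, hw', fun t => ?_⟩
        by_cases hts : t < Nat.find hall
        · exact Or.inl ⟨hmin t hts, hA1 t (hmin t hts)⟩
        · exact Or.inr ⟨hK (not_lt.1 hts) hwK, hK' (not_lt.1 hts) hwK'⟩
    obtain ⟨ℓ₀, hℓ₀w, hℓ₀U⟩ := Submodule.exists_dual_map_eq_bot_of_notMem hw inferInstance
    have hℓU : ∀ u ∈ U, ℓ₀ u = 0 := by
      intro u hu
      have : ℓ₀ u ∈ Submodule.map ℓ₀ U := Submodule.mem_map_of_mem hu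
      rw [hℓ₀U] at this
      exact (Submodule.mem_bot k).1 this
    obtain ⟨ψ₂, hψ₂def⟩ : ∃ ψ₂ : W →ₗ[k] W',
        ψ₂ = ψ + LinearMap.smulRight ℓ₀ ((ℓ₀ w)⁻¹ • (w' - ψ w)) := ⟨_, rfl⟩
    have hψ₂ : ∀ u ∈ U, ∀ c : k, ψ₂ (u + c • w) = ψ u + c • w' := by
      intro u hu c
      rw [hψ₂def, LinearMap.add_apply, LinearMap.smulRight_apply, map_add, map_add, map_smul,
        map_smul, hℓU u hu, zero_add, smul_eq_mul, smul_smul, mul_assoc,
        mul_inv_cancel₀ hℓ₀w, mul_one, smul_sub]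
      abel
    have hψ₂U : ∀ u ∈ U, ψ₂ u = ψ u := by
      intro u hu
      have := hψ₂ u hu 0
      rwa [zero_smul, zero_smul, add_zero, add_zero] at this
    have hcU : ∀ c : k, c • w ∈ U → c = 0 := by
      intro c hc
      by_contra hne
      apply hw
      have := U.smul_mem c⁻¹ hc
      rwa [smul_smul, inv_mul_cancel₀ hne, one_smul] at this
    have hcU' : ∀ c : k, c • w' ∈ Submodule.map ψ U → c = 0 := by
      intro c hc
      by_contra hne
      apply hw'
      have := (Submodule.map ψ U).smul_mem c⁻¹ hc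
      rwa [smul_smul, inv_mul_cancel₀ hne, one_smul] at this
    have hdec : ∀ x ∈ U ⊔ Submodule.span k {w}, ∃ u ∈ U, ∃ c : k, x = u + c • w := by
      intro x hx
      obtain ⟨u, hu, z, hz, rfl⟩ := Submodule.mem_sup.1 hx
      obtain ⟨c, rfl⟩ := Submodule.mem_span_singleton.1 hz
      exact ⟨u, hu, c, rfl⟩
    have hinj₂ : ∀ x ∈ U ⊔ Submodule.span k {w}, ψ₂ x = 0 → x = 0 := by
      intro x hx h0
      obtain ⟨u, hu, c, rfl⟩ := hdec x hx
      rw [hψ₂ u hu c] at h0
      have hc : c = 0 := by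
        apply hcU'
        have : c • w' = ψ (-u) := by rw [map_neg]; exact eq_neg_of_add_eq_zero_right h0
        rw [this]; exact Submodule.mem_map_of_mem (U.neg_mem hu)
      rw [hc, zero_smul, add_zero] at h0 ⊢
      exact hinj u hu h0
    have hfl₂ : ∀ t, ∀ x ∈ U ⊔ Submodule.span k {w}, x ∈ K t ↔ ψ₂ x ∈ K' t := by
      intro t x hx
      obtain ⟨u, hu, c, rfl⟩ := hdec x hx
      rw [hψ₂ u hu c]
      rcases hQ t with ⟨h1, h2⟩ | ⟨h1, h2⟩
      · constructor
        · intro hxK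
          have hc : c = 0 := hcU c ((U.add_mem_iff_right hu).1 (h1 hxK))
          rw [hc, zero_smul, add_zero] at hxK ⊢
          exact (hfl t u hu).1 hxK
        · intro hxK
          have hc : c = 0 := hcU' c
            ((Submodule.add_mem_iff_right _ (Submodule.mem_map_of_mem hu)).1 (h2 hxK))
          rw [hc, zero_smul, add_zero] at hxK ⊢
          exact (hfl t u hu).2 hxK
      · rw [(K t).add_mem_iff_left ((K t).smul_mem c h1),
          (K' t).add_mem_iff_left ((K' t).smul_mem c h2)]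
        exact hfl t u hu
    have hlt : U < U ⊔ Submodule.span k {w} := by
      apply lt_of_le_of_ne le_sup_left
      intro h
      apply hw
      rw [h]
      exact Submodule.mem_sup_right (Submodule.mem_span_singleton_self w)
    have hlt2 := Submodule.finrank_lt_finrank_of_lt hlt
    obtain ⟨g, hg1, hg2⟩ := ih (U ⊔ Submodule.span k {w}) ψ₂ (by omega) hinj₂ hfl₂
    exact ⟨g, fun u hu => by rw [hg1 u (le_sup_left (a := U) hu), hψ₂U u hu], hg2⟩

end EL

/-- kernel flags -/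
noncomputable def Kf (f : (i : ℕ) → Matrix (Fin (d (i + 1))) (Fin (d i)) k) (j n : ℕ) :
    Submodule k (Fin (d j) → k) :=
  LinearMap.ker (((bigF f) ^ n).comp (inc j))

theorem mem_Kf (f : (i : ℕ) → Matrix (Fin (d (i + 1))) (Fin (d i)) k) (j n : ℕ)
    (v : Fin (d j) → k) : v ∈ Kf f j n ↔ ((bigF f) ^ n) (inc j v) = 0 := Iff.rfl

theorem Kf_mono (f : (i : ℕ) → Matrix (Fin (d (i + 1))) (Fin (d i)) k) (j : ℕ) :
    Monotone (Kf f j) := by
  apply monotone_nat_of_le_succ
  intro n v hv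
  rw [mem_Kf] at hv ⊢
  rw [pow_succ', Module.End.mul_apply, hv, map_zero]

theorem Kf_succ_iff (f : (i : ℕ) → Matrix (Fin (d (i + 1))) (Fin (d i)) k) (j n : ℕ)
    (v : Fin (d j) → k) :
    v ∈ Kf f j (n + 1) ↔ Matrix.toLin' (f j) v ∈ Kf f (j + 1) n := by
  rw [mem_Kf, mem_Kf, pow_succ, Module.End.mul_apply, bigF_inc]

theorem Kf_one (f : (i : ℕ) → Matrix (Fin (d (i + 1))) (Fin (d i)) k) (j : ℕ)
    (v : Fin (d j) → k) :
    v ∈ Kf f j 1 ↔ Matrix.toLin' (f j) v = 0 := by
  rw [Kf_succ_iff, mem_Kf, pow_zero, Module.End.one_apply]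
  constructor
  · intro h
    apply inc_injective (j + 1)
    rw [h, map_zero]
  · intro h
    rw [h, map_zero]

theorem finrank_Kf (f : (i : ℕ) → Matrix (Fin (d (i + 1))) (Fin (d i)) k) (j n : ℕ) :
    A f j n + finrank k (Kf f j n) = d j := by
  have h := LinearMap.finrank_range_add_finrank_ker (((bigF f) ^ n).comp (inc (k := k) (d := d) j))
  rw [LinearMap.range_comp, Module.finrank_fin_fun] at h
  exact h

theorem step (f f' : (i : ℕ) → Matrix (Fin (d (i + 1))) (Fin (d i)) k)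
    (hA : ∀ j n, A f j n = A f' j n) (j : ℕ)
    (g : (Fin (d j) → k) ≃ₗ[k] (Fin (d j) → k))
    (hg : ∀ n v, v ∈ Kf f j n ↔ g v ∈ Kf f' j n) :
    ∃ g' : (Fin (d (j + 1)) → k) ≃ₗ[k] (Fin (d (j + 1)) → k),
      (∀ n w, w ∈ Kf f (j + 1) n ↔ g' w ∈ Kf f' (j + 1) n) ∧
      ∀ v, g' (Matrix.toLin' (f j) v) = Matrix.toLin' (f' j) (g v) := by
  obtain ⟨s', hs'⟩ := LinearMap.exists_rightInverse_of_surjective
    (Matrix.toLin' (f j)).rangeRestrict (LinearMap.range_rangeRestrict _)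
  obtain ⟨s, hs⟩ := LinearMap.exists_extend s'
  have hs1 : ∀ v, Matrix.toLin' (f j) (s (Matrix.toLin' (f j) v)) = Matrix.toLin' (f j) v := by
    intro v
    have h1 : s (Matrix.toLin' (f j) v) =
        s' ⟨Matrix.toLin' (f j) v, LinearMap.mem_range_self _ v⟩ := by
      rw [← hs]; rfl
    rw [h1]
    have h2 := LinearMap.congr_fun hs' ⟨Matrix.toLin' (f j) v, LinearMap.mem_range_self _ v⟩
    exact congrArg Subtype.val h2
  have hψ : ∀ v, Matrix.toLin' (f' j) (g (s (Matrix.toLin' (f j) v))) =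
      Matrix.toLin' (f' j) (g v) := by
    intro v
    have hx : s (Matrix.toLin' (f j) v) - v ∈ Kf f j 1 := by
      rw [Kf_one, map_sub, hs1, sub_self]
    have hx' := (hg 1 _).1 hx
    rw [Kf_one, map_sub, map_sub, sub_eq_zero] at hx'
    exact hx'
  obtain ⟨ψ, hψdef⟩ : ∃ ψ : (Fin (d (j + 1)) → k) →ₗ[k] (Fin (d (j + 1)) → k),
      ψ = (Matrix.toLin' (f' j)).comp (g.toLinearMap.comp s) := ⟨_, rfl⟩
  have hψ' : ∀ v, ψ (Matrix.toLin' (f j) v) = Matrix.toLin' (f' j) (g v) := by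
    intro v
    rw [hψdef]
    exact hψ v
  have hKd : ∀ t, finrank k (Kf f (j + 1) t) = finrank k (Kf f' (j + 1) t) := by
    intro t
    have h1 := finrank_Kf f (j + 1) t
    have h2 := finrank_Kf f' (j + 1) t
    have h3 := hA (j + 1) t
    omega
  obtain ⟨g', hg'1, hg'2⟩ := ext_flag (k := k) rfl (Kf f (j + 1)) (Kf f' (j + 1)) (Kf_mono f (j + 1))
    (Kf_mono f' (j + 1)) hKd (finrank k (Fin (d (j + 1)) → k))
    (LinearMap.range (Matrix.toLin' (f j))) ψ (Nat.sub_le _ _)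
    (by
      rintro _ ⟨v, rfl⟩ h0
      rw [hψ'] at h0
      have h1 : g v ∈ Kf f' j 1 := (Kf_one f' j _).2 h0
      exact (Kf_one f j v).1 ((hg 1 v).2 h1))
    (by
      rintro t _ ⟨v, rfl⟩
      rw [hψ', ← Kf_succ_iff, ← Kf_succ_iff]
      exact hg (t + 1) v)
  exact ⟨g', hg'2, fun v => by rw [hg'1 _ (LinearMap.mem_range_self _ v), hψ']⟩

theorem exists_seq (f f' : (i : ℕ) → Matrix (Fin (d (i + 1))) (Fin (d i)) k)
    (hA : ∀ j n, A f j n = A f' j n) :
    ∃ G : (j : ℕ) → ((Fin (d j) → k) ≃ₗ[k] (Fin (d j) → k)),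
      ∀ j v, G (j + 1) (Matrix.toLin' (f j) v) = Matrix.toLin' (f' j) (G j v) := by
  have hKd : ∀ t, finrank k (Kf f 0 t) = finrank k (Kf f' 0 t) := by
    intro t
    have h1 := finrank_Kf f 0 t
    have h2 := finrank_Kf f' 0 t
    have h3 := hA 0 t
    omega
  have base : ∃ g : (Fin (d 0) → k) ≃ₗ[k] (Fin (d 0) → k),
      ∀ n v, v ∈ Kf f 0 n ↔ g v ∈ Kf f' 0 n := by
    obtain ⟨g, -, hg⟩ := ext_flag (k := k) rfl (Kf f 0) (Kf f' 0) (Kf_mono f 0) (Kf_mono f' 0) hKd
      (finrank k (Fin (d 0) → k)) ⊥ 0 (Nat.sub_le _ _)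
      (by intro u hu _; exact (Submodule.mem_bot k).1 hu)
      (by intro t u hu; rw [(Submodule.mem_bot k).1 hu]; simp)
    exact ⟨g, hg⟩
  have stp : ∀ j (g : {g : (Fin (d j) → k) ≃ₗ[k] (Fin (d j) → k) //
        ∀ n v, v ∈ Kf f j n ↔ g v ∈ Kf f' j n}),
      ∃ g' : {g' : (Fin (d (j + 1)) → k) ≃ₗ[k] (Fin (d (j + 1)) → k) //
        ∀ n v, v ∈ Kf f (j + 1) n ↔ g' v ∈ Kf f' (j + 1) n},
        ∀ v, g'.1 (Matrix.toLin' (f j) v) = Matrix.toLin' (f' j) (g.1 v) := by
    intro j g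
    obtain ⟨g', h1, h2⟩ := step f f' hA j g.1 g.2
    exact ⟨⟨g', h1⟩, h2⟩
  refine ⟨fun j => (Nat.rec (motive := fun j => {g : (Fin (d j) → k) ≃ₗ[k] (Fin (d j) → k) //
        ∀ n v, v ∈ Kf f j n ↔ g v ∈ Kf f' j n})
      ⟨base.choose, base.choose_spec⟩ (fun j g => (stp j g).choose) j).1, fun j v => ?_⟩
  exact (stp j _).choose_spec v

theorem conj_apply (g : (j : ℕ) → Matrix.GeneralLinearGroup (Fin (d j)) k)
    (f : (i : ℕ) → Matrix (Fin (d (i + 1))) (Fin (d i)) k) (i : ℕ) :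
    conj g f i = ((g (i + 1) : Matrix.GeneralLinearGroup (Fin (d (i + 1))) k) :
      Matrix (Fin (d (i + 1))) (Fin (d (i + 1))) k) * f i *
    (((g i)⁻¹ : Matrix.GeneralLinearGroup (Fin (d i)) k) : Matrix (Fin (d i)) (Fin (d i)) k) :=
  rfl

theorem orbit_sep (f f' : (i : ℕ) → Matrix (Fin (d (i + 1))) (Fin (d i)) k)
    (hA : ∀ j n, A f j n = A f' j n) :
    ∃ g : (j : ℕ) → Matrix.GeneralLinearGroup (Fin (d j)) k, ∀ i, conj g f i = f' i := by
  obtain ⟨G, hG⟩ := exists_seq f f' hA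
  have hinv : ∀ j, LinearMap.toMatrix' (G j).toLinearMap *
      LinearMap.toMatrix' (G j).symm.toLinearMap = 1 := by
    intro j
    rw [← LinearMap.toMatrix'_comp]
    have : (G j).toLinearMap ∘ₗ (G j).symm.toLinearMap = LinearMap.id :=
      LinearMap.ext (fun v => by simp)
    rw [this, LinearMap.toMatrix'_id]
  have hinv' : ∀ j, LinearMap.toMatrix' (G j).symm.toLinearMap *
      LinearMap.toMatrix' (G j).toLinearMap = 1 := by
    intro j
    rw [← LinearMap.toMatrix'_comp]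
    have : (G j).symm.toLinearMap ∘ₗ (G j).toLinearMap = LinearMap.id :=
      LinearMap.ext (fun v => by simp)
    rw [this, LinearMap.toMatrix'_id]
  refine ⟨fun j => ⟨LinearMap.toMatrix' (G j).toLinearMap,
    LinearMap.toMatrix' (G j).symm.toLinearMap, hinv j, hinv' j⟩, fun i => ?_⟩
  rw [conj_apply]
  show LinearMap.toMatrix' (G (i + 1)).toLinearMap * f i *
    LinearMap.toMatrix' (G i).symm.toLinearMap = f' i
  have h1 : LinearMap.toMatrix' (G (i + 1)).toLinearMap * f i =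
      f' i * LinearMap.toMatrix' (G i).toLinearMap := by
    have : (G (i + 1)).toLinearMap ∘ₗ Matrix.toLin' (f i) =
        Matrix.toLin' (f' i) ∘ₗ (G i).toLinearMap :=
      LinearMap.ext (fun v => hG i v)
    have h2 := congrArg LinearMap.toMatrix' this
    rwa [LinearMap.toMatrix'_comp, LinearMap.toMatrix'_comp, LinearMap.toMatrix'_toLin',
      LinearMap.toMatrix'_toLin'] at h2
  rw [h1, Matrix.mul_assoc, hinv, Matrix.mul_one]

noncomputable def trunc (r : ℕ) (f : (i : ℕ) → Matrix (Fin (d (i + 1))) (Fin (d i)) k) :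
    (i : ℕ) → Matrix (Fin (d (i + 1))) (Fin (d i)) k :=
  fun i => if 1 ≤ i ∧ i + 1 ≤ r then f i else 0

theorem iterImage_congr (f f' : (i : ℕ) → Matrix (Fin (d (i + 1))) (Fin (d i)) k) (i n : ℕ)
    (h : ∀ m, i ≤ m → m < i + n → f m = f' m) : iterImage f i n = iterImage f' i n := by
  induction n with
  | zero => rfl
  | succ n ih =>
    show Submodule.map (Matrix.toLin' (f (i + n))) (iterImage f i n) =
      Submodule.map (Matrix.toLin' (f' (i + n))) (iterImage f' i n)
    rw [ih (fun m h1 h2 => h m h1 (by omega)), h (i + n) (by omega) (by omega)]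

theorem iterImage_eq_bot (f : (i : ℕ) → Matrix (Fin (d (i + 1))) (Fin (d i)) k) (i n m : ℕ)
    (h1 : i ≤ m) (h2 : m < i + n) (h0 : f m = 0) : iterImage f i n = ⊥ := by
  induction n with
  | zero => omega
  | succ n ih =>
    show Submodule.map (Matrix.toLin' (f (i + n))) (iterImage f i n) = ⊥
    by_cases hm : m = i + n
    · subst hm
      rw [h0, map_zero]
      exact Submodule.map_zero _
    · rw [ih (by omega), Submodule.map_bot]

theorem A_trunc_eq (r : ℕ) (f f' : (i : ℕ) → Matrix (Fin (d (i + 1))) (Fin (d i)) k)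
    (h : ∀ i j, 1 ≤ i → i ≤ j → j ≤ r → rankArray f i j = rankArray f' i j) (i n : ℕ) :
    A (trunc r f) i n = A (trunc r f') i n := by
  rw [← finrank_iterImage, ← finrank_iterImage]
  by_cases hn : n = 0
  · subst hn; rfl
  by_cases hc : 1 ≤ i ∧ i + n ≤ r
  · have e1 : iterImage (trunc r f) i n = iterImage f i n :=
      iterImage_congr (trunc r f) f i n (fun m h1 h2 => by
        unfold trunc; rw [if_pos ⟨by omega, by omega⟩])
    have e2 : iterImage (trunc r f') i n = iterImage f' i n :=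
      iterImage_congr (trunc r f') f' i n (fun m h1 h2 => by
        unfold trunc; rw [if_pos ⟨by omega, by omega⟩])
    rw [e1, e2]
    have := h i (i + n) hc.1 (by omega) hc.2
    rw [rankArray_eq f (by omega), rankArray_eq f' (by omega), Nat.add_sub_cancel_left] at this
    rw [finrank_iterImage, finrank_iterImage]; exact this
  · have : ∃ m, i ≤ m ∧ m < i + n ∧ ¬ (1 ≤ m ∧ m + 1 ≤ r) := by
      by_cases hi : 1 ≤ i
      · exact ⟨i + n - 1, by omega, by omega, by omega⟩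
      · exact ⟨i, le_rfl, by omega, by omega⟩
    obtain ⟨m, h1, h2, h3⟩ := this
    rw [iterImage_eq_bot (trunc r f) i n m h1 h2 (by unfold trunc; rw [if_neg h3]),
      iterImage_eq_bot (trunc r f') i n m h1 h2 (by unfold trunc; rw [if_neg h3])]

theorem sep (r : ℕ) (f f' : (i : ℕ) → Matrix (Fin (d (i + 1))) (Fin (d i)) k)
    (h : ∀ i j, 1 ≤ i → i ≤ j → j ≤ r → rankArray f i j = rankArray f' i j) :
    ∃ g : (j : ℕ) → Matrix.GeneralLinearGroup (Fin (d j)) k,
      ∀ i, 1 ≤ i → i + 1 ≤ r → conj g f i = f' i := by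
  obtain ⟨g, hg⟩ := orbit_sep (trunc r f) (trunc r f') (A_trunc_eq r f f' h)
  refine ⟨g, fun i h1 h2 => ?_⟩
  have h3 := hg i
  rw [conj_apply] at h3 ⊢
  have e1 : trunc r f i = f i := by unfold trunc; rw [if_pos ⟨h1, h2⟩]
  have e2 : trunc r f' i = f' i := by unfold trunc; rw [if_pos ⟨h1, h2⟩]
  rw [e1, e2] at h3
  exact h3

end Groth.Agent.Helper22.Chain
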