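import Mathlib
import Groth.Prelude.Def_W4c1btstackcountsChain
import Groth.Agent.Lib.Helper22.Chain1

set_option autoImplicit false

namespace Groth.Agent.Helper22.Chain

open W4c1btstackcounts Module

variable {k : Type*} [Field k] {d : ℕ → ℕ}

theorem tele_down (u : ℕ → ℕ) (a b : ℕ) (hab : a ≤ b)
    (h : ∀ l, a ≤ l → l < b → u (l + 1) ≤ u l) :
    ∑ l ∈ Finset.Ico a b, (u l - u (l + 1)) + u b = u a := by
  induction b, hab using Nat.le_induction with
  | base => simp
  | succ b hab ih =>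
    rw [Finset.sum_Ico_succ_top hab]
    have h1 := ih (fun l h1 h2 => h l h1 (by omega))
    have h2 := h b hab (by omega)
    omega

theorem tele_up (v : ℕ → ℕ) (n : ℕ) (h : ∀ l, l < n → v l ≤ v (l + 1)) :
    ∑ l ∈ Finset.range n, (v (l + 1) - v l) + v 0 = v n := by
  induction n with
  | zero => simp
  | succ n ih =>
    rw [Finset.sum_range_succ]
    have h1 := ih (fun l hl => h l (by omega))
    have h2 := h n (by omega)
    omega

section realize

variable (r : ℕ) (a : ℕ → ℕ → ℕ)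

def ah (i l : ℕ) : ℕ := if i = 0 ∨ r < l then 0 else a i l

def wd (l' l : ℕ) : ℕ := ah r a (l' + 1) l - ah r a l' l

def mm (l' l : ℕ) : ℕ := wd r a l' l - wd r a l' (l + 1)

theorem ah_eq {i l : ℕ} (h1 : i ≠ 0) (h2 : l ≤ r) : ah r a i l = a i l := by
  unfold ah
  rw [if_neg]
  omega

theorem ah_zero (l : ℕ) : ah r a 0 l = 0 := by
  unfold ah
  rw [if_pos (Or.inl rfl)]

theorem ah_big {i l : ℕ} (h : r < l) : ah r a i l = 0 := by
  unfold ah
  rw [if_pos (Or.inr h)]

variable {r a}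

theorem wd_anti (hA : IsRankArray d r a) (l' j l : ℕ) (h1 : l' < j) (h2 : j ≤ l) (h3 : l ≤ r) :
    wd r a l' (l + 1) ≤ wd r a l' l := by
  obtain ⟨_, hb, hc, hd⟩ := hA
  unfold wd
  by_cases hl : l = r
  · rw [ah_big r a (show r < l + 1 by omega), ah_big r a (show r < l + 1 by omega)]
    omega
  · have hlr : l < r := by omega
    rw [ah_eq r a (show l' + 1 ≠ 0 by omega) (show l + 1 ≤ r by omega),
      ah_eq r a (show l' + 1 ≠ 0 by omega) h3]
    by_cases h0 : l' = 0
    · subst h0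
      rw [ah_zero, ah_zero]
      have := hc (0 + 1) l (by omega) (by omega) hlr
      omega
    · rw [ah_eq r a h0 (show l + 1 ≤ r by omega), ah_eq r a h0 h3]
      have := hd (l' + 1) l (by omega) (by omega) hlr
      rw [Nat.add_sub_cancel] at this
      omega

theorem sum_mm (hA : IsRankArray d r a) (l' j : ℕ) (h1 : l' < j) (h2 : j ≤ r) :
    ∑ l ∈ Finset.Ico j (r + 1), mm r a l' l = wd r a l' j := by
  have h := tele_down (fun l => wd r a l' l) j (r + 1) (by omega)
    (fun l hl1 hl2 => wd_anti hA l' j l h1 hl1 (by omega))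
  have h0 : wd r a l' (r + 1) = 0 := by
    unfold wd
    rw [ah_big r a (show r < r + 1 by omega), ah_big r a (show r < r + 1 by omega)]
  simp only [h0, add_zero] at h
  exact h

theorem sum_wd (hA : IsRankArray d r a) (i j : ℕ) (h1 : 1 ≤ i) (h2 : i ≤ j) (h3 : j ≤ r) :
    ∑ l' ∈ Finset.range i, wd r a l' j = a i j := by
  obtain ⟨_, hb, _, _⟩ := hA
  have h := tele_up (fun l' => ah r a l' j) i (by
    intro l' hl'
    show ah r a l' j ≤ ah r a (l' + 1) j
    by_cases h0 : l' = 0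
    · subst h0
      rw [ah_zero]
      exact Nat.zero_le _
    · rw [ah_eq r a h0 h3, ah_eq r a (show l' + 1 ≠ 0 by omega) h3]
      exact hb l' j (by omega) (by omega) h3)
  simp only [ah_zero, add_zero] at h
  rw [ah_eq r a (show i ≠ 0 by omega) h3] at h
  exact h

variable (r a)

/-- label sets -/
def BB (i j : ℕ) : Finset (Σ _ : ℕ × ℕ, ℕ) :=
  (Finset.range i ×ˢ Finset.Ico j (r + 1)).sigma (fun p => Finset.range (mm r a p.1 p.2))

theorem mem_BB (i j : ℕ) (x : Σ _ : ℕ × ℕ, ℕ) :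
    x ∈ BB r a i j ↔ x.1.1 < i ∧ j ≤ x.1.2 ∧ x.1.2 < r + 1 ∧ x.2 < mm r a x.1.1 x.1.2 := by
  unfold BB
  rw [Finset.mem_sigma, Finset.mem_product, Finset.mem_range, Finset.mem_Ico, Finset.mem_range]
  tauto

variable {r a}

theorem card_BB (hA : IsRankArray d r a) (i j : ℕ) (h1 : 1 ≤ i) (h2 : i ≤ j) (h3 : j ≤ r) :
    (BB r a i j).card = a i j := by
  unfold BB
  rw [Finset.card_sigma, Finset.sum_product]
  simp only [Finset.card_range]
  rw [← sum_wd hA i j h1 h2 h3]
  apply Finset.sum_congr rfl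
  intro l' hl'
  exact sum_mm hA l' j (by have := Finset.mem_range.1 hl'; omega) h3

theorem exists_lab (hA : IsRankArray d r a) :
    ∃ lam : (j : ℕ) → Fin (d j) → (Σ _ : ℕ × ℕ, ℕ), ∀ j, 1 ≤ j → j ≤ r →
      Function.Injective (lam j) ∧ ∀ x, x ∈ BB r a j j ↔ ∃ p, lam j p = x := by
  have : ∀ j, ∃ l : Fin (d j) → (Σ _ : ℕ × ℕ, ℕ), 1 ≤ j → j ≤ r →
      Function.Injective l ∧ ∀ x, x ∈ BB r a j j ↔ ∃ p, l p = x := by
    intro j
    by_cases h : 1 ≤ j ∧ j ≤ r
    · have hc : (BB r a j j).card = d j := by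
        rw [card_BB hA j j h.1 le_rfl h.2]; exact hA.1 j h.1 h.2
      refine ⟨fun p => ((Finset.equivFinOfCardEq hc).symm p).1, fun _ _ => ⟨?_, ?_⟩⟩
      · intro p q hpq
        exact (Finset.equivFinOfCardEq hc).symm.injective (Subtype.ext hpq)
      · intro x
        constructor
        · intro hx
          exact ⟨(Finset.equivFinOfCardEq hc) ⟨x, hx⟩, by simp⟩
        · rintro ⟨p, rfl⟩
          exact ((Finset.equivFinOfCardEq hc).symm p).2
    · exact ⟨fun _ => ⟨(0, 0), 0⟩, fun h1 h2 => absurd ⟨h1, h2⟩ h⟩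
  choose lam hlam using this
  exact ⟨lam, hlam⟩

end realize

section matrices

variable (lam : (j : ℕ) → Fin (d j) → (Σ _ : ℕ × ℕ, ℕ))

/-- partial permutation matrices matching equal labels -/
def fm (j : ℕ) : Matrix (Fin (d (j + 1))) (Fin (d j)) k :=
  Matrix.of (fun q p => if lam (j + 1) q = lam j p then 1 else 0)

theorem fm_single (j : ℕ) (p : Fin (d j)) :
    Matrix.toLin' (fm (k := k) lam j) (Pi.single p 1) =
      fun q => if lam (j + 1) q = lam j p then (1 : k) else 0 := by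
  rw [Matrix.toLin'_apply, Matrix.mulVec_single_one]
  rfl

def Ssp (j : ℕ) (C : Finset (Σ _ : ℕ × ℕ, ℕ)) : Submodule k (Fin (d j) → k) :=
  Submodule.span k (Set.range (fun q : {q : Fin (d j) // lam j q ∈ C} =>
    (Pi.single q.1 1 : Fin (d j) → k)))

theorem finrank_Ssp (j : ℕ) (C : Finset (Σ _ : ℕ × ℕ, ℕ)) :
    finrank k (Ssp (k := k) lam j C) = Fintype.card {q : Fin (d j) // lam j q ∈ C} := by
  unfold Ssp
  apply finrank_span_eq_card
  have := (Pi.basisFun k (Fin (d j))).linearIndependent.comp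
    (fun q : {q : Fin (d j) // lam j q ∈ C} => q.1) Subtype.val_injective
  convert this using 1
  funext q
  simp

theorem map_Ssp (j : ℕ) (C : Finset (Σ _ : ℕ × ℕ, ℕ))
    (hinj : Function.Injective (lam (j + 1)))
    (hC : ∀ q, lam (j + 1) q ∈ C → ∃ p, lam j p = lam (j + 1) q) :
    Submodule.map (Matrix.toLin' (fm (k := k) lam j)) (Ssp lam j C) = Ssp lam (j + 1) C := by
  have key : ∀ (p : Fin (d j)) (q₀ : Fin (d (j + 1))), lam (j + 1) q₀ = lam j p →
      Matrix.toLin' (fm (k := k) lam j) (Pi.single p 1) = Pi.single q₀ 1 := by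
    intro p q₀ h
    rw [fm_single]
    funext q
    by_cases hq : q = q₀
    · subst hq; rw [if_pos h, Pi.single_eq_same]
    · rw [if_neg (fun h' => hq (hinj (h'.trans h.symm))), Pi.single_eq_of_ne hq]
  have key0 : ∀ (p : Fin (d j)), (∀ q, lam (j + 1) q ≠ lam j p) →
      Matrix.toLin' (fm (k := k) lam j) (Pi.single p 1) = 0 := by
    intro p h
    rw [fm_single]
    funext q
    rw [if_neg (h q)]; rfl
  unfold Ssp
  rw [Submodule.map_span]
  apply le_antisymm
  · apply Submodule.span_le.2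
    rintro _ ⟨_, ⟨⟨p, hp⟩, rfl⟩, rfl⟩
    by_cases hex : ∃ q, lam (j + 1) q = lam j p
    · obtain ⟨q₀, hq₀⟩ := hex
      simp only
      rw [key p q₀ hq₀]
      exact Submodule.subset_span ⟨⟨q₀, by rw [hq₀]; exact hp⟩, rfl⟩
    · push_neg at hex
      simp only
      rw [key0 p hex]
      exact Submodule.zero_mem _
  · apply Submodule.span_le.2
    rintro _ ⟨⟨q, hq⟩, rfl⟩
    obtain ⟨p, hp⟩ := hC q hq
    apply Submodule.subset_span
    refine ⟨Pi.single p 1, ⟨⟨p, by rw [hp]; exact hq⟩, rfl⟩, ?_⟩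
    exact key p q hp.symm

variable {r : ℕ} {a : ℕ → ℕ → ℕ}

theorem iterImage_fm
    (hlam : ∀ j, 1 ≤ j → j ≤ r →
      Function.Injective (lam j) ∧ ∀ x, x ∈ BB r a j j ↔ ∃ p, lam j p = x)
    (i n : ℕ) (h1 : 1 ≤ i) (h2 : i + n ≤ r) :
    iterImage (fm (k := k) lam) i n = Ssp lam (i + n) (BB r a i i) := by
  induction n with
  | zero =>
    show (⊤ : Submodule k (Fin (d i) → k)) = Ssp lam i (BB r a i i)
    symm
    rw [eq_top_iff, ← (Pi.basisFun k (Fin (d i))).span_eq]
    apply Submodule.span_mono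
    rintro _ ⟨q, rfl⟩
    refine ⟨⟨q, ((hlam i h1 (by omega)).2 _).2 ⟨q, rfl⟩⟩, ?_⟩
    simp
  | succ n ih =>
    show Submodule.map (Matrix.toLin' (fm lam (i + n))) (iterImage (fm lam) i n) =
      Ssp lam (i + n + 1) (BB r a i i)
    rw [ih (by omega)]
    apply map_Ssp
    · exact (hlam (i + n + 1) (by omega) (by omega)).1
    · intro q hq
      have hq2 : lam (i + n + 1) q ∈ BB r a (i + n + 1) (i + n + 1) :=
        ((hlam (i + n + 1) (by omega) (by omega)).2 _).2 ⟨q, rfl⟩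
      have hq3 : lam (i + n + 1) q ∈ BB r a (i + n) (i + n) := by
        rw [mem_BB] at hq hq2 ⊢
        omega
      exact ((hlam (i + n) (by omega) (by omega)).2 _).1 hq3

theorem card_lab
    (hlam : ∀ j, 1 ≤ j → j ≤ r →
      Function.Injective (lam j) ∧ ∀ x, x ∈ BB r a j j ↔ ∃ p, lam j p = x)
    (i j : ℕ) (h1 : 1 ≤ i) (h2 : i ≤ j) (h3 : j ≤ r) :
    Fintype.card {q : Fin (d j) // lam j q ∈ BB r a i i} = (BB r a i j).card := by
  rw [Fintype.card_subtype, ← Finset.card_image_of_injective _ (hlam j (by omega) h3).1]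
  congr 1
  ext x
  simp only [Finset.mem_image, Finset.mem_filter, Finset.mem_univ, true_and]
  constructor
  · rintro ⟨q, hq, rfl⟩
    have hq2 : lam j q ∈ BB r a j j := ((hlam j (by omega) h3).2 _).2 ⟨q, rfl⟩
    rw [mem_BB] at hq hq2 ⊢
    omega
  · intro hx
    have hx2 : x ∈ BB r a j j := by
      rw [mem_BB] at hx ⊢
      omega
    obtain ⟨q, rfl⟩ := ((hlam j (by omega) h3).2 _).1 hx2
    exact ⟨q, by rw [mem_BB] at hx ⊢; omega, rfl⟩

end matrices

theorem realize {r : ℕ} {a : ℕ → ℕ → ℕ} (hA : IsRankArray d r a) :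
    ∃ f : (i : ℕ) → Matrix (Fin (d (i + 1))) (Fin (d i)) k,
      ∀ i j, 1 ≤ i → i ≤ j → j ≤ r → rankArray f i j = a i j := by
  obtain ⟨lam, hlam⟩ := exists_lab hA
  refine ⟨fm lam, fun i j h1 h2 h3 => ?_⟩
  obtain ⟨n, rfl⟩ : ∃ n, j = i + n := ⟨j - i, by omega⟩
  rw [rankArray_eq _ (by omega), Nat.add_sub_cancel_left, ← finrank_iterImage,
    iterImage_fm lam hlam i n h1 h3, finrank_Ssp,
    card_lab lam hlam i (i + n) h1 (by omega) h3, card_BB hA i (i + n) h1 (by omega) h3]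

end Groth.Agent.Helper22.Chain
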