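import Mathlib

/-!
# Chevalley-type lemma for filtrations on a finite module over a complete Noetherian local ring
(helper22)

* `krull_mod`: Krull intersection modulo a submodule.
* `exists_limit_of_finite`: a finite module over an `I`-adically precomplete ring is precomplete.
* `isArtinian_quot_pow_smul`: `W / 𝔪ⁿW` is Artinian for `W` finite over Noetherian local `R`.
* `chev_C`, `chev`: an antitone filtration `G` of `W` whose "closures" are trivial is cofinal
  with the `𝔪`-adic one, and `G`-Cauchy sequences converge.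
-/

set_option autoImplicit false
set_option linter.style.haveILetI false

namespace Groth.Agent.Helper22.Chev

open IsLocalRing

theorem krull_mod {A : Type*} [CommRing A] [IsNoetherianRing A] {M : Type*} [AddCommGroup M]
    [Module A M] [Module.Finite A M] (m : Ideal A) (P : Submodule A M) (x : M)
    (hx : ∀ N : ℕ, x ∈ (m ^ N • ⊤ : Submodule A M) ⊔ P) :
    ∃ r ∈ m, x - r • x ∈ P := by
  have h1 : P.mkQ x ∈ (⨅ i : ℕ, m ^ i • ⊤ : Submodule A (M ⧸ P)) := by
    rw [Submodule.mem_iInf]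
    intro N
    obtain ⟨y, hy, p, hp, hyp⟩ := Submodule.mem_sup.mp (hx N)
    have hp0 : P.mkQ p = 0 := by
      rw [← LinearMap.mem_ker, Submodule.ker_mkQ]; exact hp
    have h2 : P.mkQ x = P.mkQ y := by
      rw [← hyp, map_add, hp0, add_zero]
    rw [h2]
    have h3 : P.mkQ y ∈ Submodule.map P.mkQ (m ^ N • ⊤ : Submodule A M) :=
      Submodule.mem_map_of_mem hy
    rw [Submodule.map_smul''] at h3
    exact Submodule.smul_mono le_rfl le_top h3
  obtain ⟨r, hr⟩ := (Ideal.mem_iInf_smul_pow_eq_bot_iff m (P.mkQ x)).mp h1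
  refine ⟨r.1, r.2, ?_⟩
  rw [← Submodule.Quotient.mk_eq_zero P, Submodule.Quotient.mk_sub, Submodule.Quotient.mk_smul]
  exact sub_eq_zero.mpr hr.symm

theorem exists_limit_ring {R : Type*} [CommRing R] (I : Ideal R) [IsPrecomplete I R]
    (f : ℕ → R) (hf : ∀ k, f (k + 1) - f k ∈ I ^ k) :
    ∃ L : R, ∀ k, L - f k ∈ I ^ k := by
  have hcauchy : ∀ {m n}, m ≤ n → f m ≡ f n [SMOD (I ^ m • ⊤ : Submodule R R)] := by
    intro m n hmn
    induction n, hmn using Nat.le_induction with
    | base => exact SModEq.refl _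
    | succ n hmn ih =>
      refine ih.trans ?_
      rw [SModEq.sub_mem, smul_eq_mul, Ideal.mul_top]
      have h1 : f n - f (n + 1) = -(f (n + 1) - f n) := by ring
      rw [h1]
      exact neg_mem (Ideal.pow_le_pow_right hmn (hf n))
  obtain ⟨L, hL⟩ := IsPrecomplete.prec ‹_› hcauchy
  refine ⟨L, fun k => ?_⟩
  have := (hL k).symm
  rwa [SModEq.sub_mem, smul_eq_mul, Ideal.mul_top] at this

theorem exists_limit_of_finite {R : Type*} [CommRing R] (I : Ideal R) [IsPrecomplete I R]
    {W : Type*} [AddCommGroup W] [Module R W] [Module.Finite R W]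
    (z : ℕ → W) (hz : ∀ n, z (n + 1) - z n ∈ (I ^ n • ⊤ : Submodule R W)) :
    ∃ y, ∀ n, y - z n ∈ (I ^ n • ⊤ : Submodule R W) := by
  classical
  obtain ⟨r, v, hv⟩ := Module.Finite.exists_fin (R := R) (M := W)
  have hc : ∀ n, ∃ c : Fin r → R, (∀ i, c i ∈ I ^ n) ∧ z (n + 1) - z n = ∑ i, c i • v i := by
    intro n
    have h1 : z (n + 1) - z n ∈ I ^ n • Submodule.span R (Set.range v) := by
      rw [hv]; exact hz n
    obtain ⟨a, ha, hsum⟩ := (Submodule.mem_ideal_smul_span_iff_exists_sum (I ^ n) v _).mp h1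
    refine ⟨fun i => a i, ha, ?_⟩
    rw [← hsum]
    exact Finsupp.sum_fintype a _ (fun i => zero_smul _ _)
  choose c hcI hcz using hc
  have hS : ∀ i n, (∑ j ∈ Finset.range (n + 1), c j i) - (∑ j ∈ Finset.range n, c j i) ∈ I ^ n := by
    intro i n
    rw [Finset.sum_range_succ, add_sub_cancel_left]
    exact hcI n i
  have hlim : ∀ i, ∃ C : R, ∀ n, C - (∑ j ∈ Finset.range n, c j i) ∈ I ^ n :=
    fun i => exists_limit_ring I (fun n => ∑ j ∈ Finset.range n, c j i) (hS i)
  choose C hC using hlim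
  have hzn : ∀ n, z n = z 0 + ∑ i, (∑ j ∈ Finset.range n, c j i) • v i := by
    intro n
    induction n with
    | zero => simp
    | succ n ih =>
      have h1 : z (n + 1) = z n + ∑ i, c n i • v i := by rw [← hcz n]; abel
      rw [h1, ih]
      simp only [Finset.sum_range_succ, add_smul, Finset.sum_add_distrib]
      abel
  refine ⟨z 0 + ∑ i, C i • v i, fun n => ?_⟩
  rw [hzn n]
  have h2 : z 0 + ∑ i, C i • v i - (z 0 + ∑ i, (∑ j ∈ Finset.range n, c j i) • v i) =
      ∑ i, (C i - ∑ j ∈ Finset.range n, c j i) • v i := by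
    simp only [sub_smul, Finset.sum_sub_distrib]; abel
  rw [h2]
  exact Submodule.sum_mem _ (fun i _ => Submodule.smul_mem_smul (hC i n) Submodule.mem_top)

theorem isArtinianRing_quot_pow (R : Type*) [CommRing R] [IsLocalRing R] [IsNoetherianRing R]
    (n : ℕ) : IsArtinianRing (R ⧸ (maximalIdeal R) ^ (n + 1)) := by
  have hle : maximalIdeal R ^ (n + 1) ≤ maximalIdeal R := Ideal.pow_le_self (Nat.succ_ne_zero n)
  have hne : maximalIdeal R ^ (n + 1) ≠ ⊤ := fun h =>
    (IsLocalRing.maximalIdeal.isMaximal R).ne_top (top_le_iff.1 (h ▸ hle))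
  haveI : Nontrivial (R ⧸ maximalIdeal R ^ (n + 1)) := Ideal.Quotient.nontrivial_iff.mpr hne
  haveI : IsLocalRing (R ⧸ maximalIdeal R ^ (n + 1)) :=
    IsLocalRing.of_surjective' (Ideal.Quotient.mk _) Ideal.Quotient.mk_surjective
  rw [isArtinianRing_iff_isNilpotent_maximalIdeal]
  refine ⟨n + 1, ?_⟩
  have h1 : maximalIdeal (R ⧸ maximalIdeal R ^ (n + 1)) ≤
      (maximalIdeal R).map (Ideal.Quotient.mk (maximalIdeal R ^ (n + 1))) := by
    intro y hy
    obtain ⟨x, rfl⟩ := Ideal.Quotient.mk_surjective y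
    apply Ideal.mem_map_of_mem
    rw [mem_maximalIdeal, mem_nonunits_iff] at hy ⊢
    intro hu
    exact hy (hu.map _)
  rw [Ideal.zero_eq_bot, eq_bot_iff]
  calc maximalIdeal (R ⧸ maximalIdeal R ^ (n + 1)) ^ (n + 1)
      ≤ ((maximalIdeal R).map (Ideal.Quotient.mk (maximalIdeal R ^ (n + 1)))) ^ (n + 1) :=
        Ideal.pow_right_mono h1 _
    _ = (maximalIdeal R ^ (n + 1)).map (Ideal.Quotient.mk _) := (Ideal.map_pow _ _ _).symm
    _ = ⊥ := Ideal.map_quotient_self _
    _ ≤ ⊥ := le_rfl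

theorem isArtinian_quot_pow_smul (R : Type*) [CommRing R] [IsLocalRing R] [IsNoetherianRing R]
    (W : Type*) [AddCommGroup W] [Module R W] [Module.Finite R W] (n : ℕ) :
    IsArtinian R (W ⧸ ((maximalIdeal R) ^ n • ⊤ : Submodule R W)) := by
  cases n with
  | zero =>
    haveI : Subsingleton (W ⧸ ((maximalIdeal R) ^ 0 • ⊤ : Submodule R W)) := by
      rw [Submodule.Quotient.subsingleton_iff, pow_zero, Ideal.one_eq_top,
        Submodule.top_smul]
    exact isArtinian_of_finite
  | succ n =>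
    haveI := isArtinianRing_quot_pow R n
    haveI : IsScalarTower R (R ⧸ maximalIdeal R ^ (n + 1))
        (W ⧸ (maximalIdeal R ^ (n + 1) • ⊤ : Submodule R W)) :=
      (Module.isTorsionBySet_quotient_ideal_smul W (maximalIdeal R ^ (n + 1))).isScalarTower
    haveI : Module.Finite (R ⧸ maximalIdeal R ^ (n + 1))
        (W ⧸ (maximalIdeal R ^ (n + 1) • ⊤ : Submodule R W)) :=
      Module.Finite.of_restrictScalars_finite R _ _
    exact isArtinian_of_surjective_algebraMap (R := R ⧸ maximalIdeal R ^ (n + 1)) (S := R)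
      Ideal.Quotient.mk_surjective

theorem chev_C {R : Type*} [CommRing R] [IsLocalRing R] [IsNoetherianRing R]
    {W : Type*} [AddCommGroup W] [Module R W] [Module.Finite R W]
    (G : ℕ → Submodule R W) (hG : Antitone G)
    (hstar : ∀ (n : ℕ) (w : W), (∀ N, w ∈ G N ⊔ (maximalIdeal R ^ n • ⊤ : Submodule R W)) →
      w ∈ (maximalIdeal R ^ n • ⊤ : Submodule R W)) (n : ℕ) :
    ∃ N, G N ≤ (maximalIdeal R ^ n • ⊤ : Submodule R W) := by
  haveI : IsArtinian R (W ⧸ (maximalIdeal R ^ n • ⊤ : Submodule R W)) :=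
    isArtinian_quot_pow_smul R W n
  let f : ℕ →o (Submodule R (W ⧸ (maximalIdeal R ^ n • ⊤ : Submodule R W)))ᵒᵈ :=
    ⟨fun N => OrderDual.toDual ((G N).map (maximalIdeal R ^ n • ⊤ : Submodule R W).mkQ),
      fun a b hab => OrderDual.toDual_le_toDual.mpr (Submodule.map_mono (hG hab))⟩
  obtain ⟨N₀, hN₀⟩ := IsArtinian.monotone_stabilizes f
  refine ⟨N₀, fun w hw => hstar n w (fun N => ?_)⟩
  rcases le_total N N₀ with h | h
  · exact Submodule.mem_sup_left (hG h hw)
  · have h1 : (G N₀).map (maximalIdeal R ^ n • ⊤ : Submodule R W).mkQ =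
        (G N).map (maximalIdeal R ^ n • ⊤ : Submodule R W).mkQ :=
      congrArg OrderDual.ofDual (hN₀ N h)
    have h2 : (maximalIdeal R ^ n • ⊤ : Submodule R W).mkQ w ∈
        (G N).map (maximalIdeal R ^ n • ⊤ : Submodule R W).mkQ :=
      h1 ▸ Submodule.mem_map_of_mem hw
    obtain ⟨g, hg, hgw⟩ := Submodule.mem_map.mp h2
    have h3 : w - g ∈ (maximalIdeal R ^ n • ⊤ : Submodule R W) := by
      rw [← Submodule.Quotient.mk_eq_zero (maximalIdeal R ^ n • ⊤ : Submodule R W),
        Submodule.Quotient.mk_sub]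
      exact sub_eq_zero.mpr hgw.symm
    have h4 : w = g + (w - g) := by abel
    rw [h4]
    exact Submodule.add_mem_sup hg h3

theorem chev {R : Type*} [CommRing R] [IsLocalRing R] [IsNoetherianRing R]
    [IsPrecomplete (maximalIdeal R) R]
    {W : Type*} [AddCommGroup W] [Module R W] [Module.Finite R W]
    (G : ℕ → Submodule R W) (hG : Antitone G)
    (hdag : ∀ t, (maximalIdeal R ^ t • ⊤ : Submodule R W) ≤ G t)
    (hstar : ∀ (n : ℕ) (w : W), (∀ N, w ∈ G N ⊔ (maximalIdeal R ^ n • ⊤ : Submodule R W)) →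
      w ∈ (maximalIdeal R ^ n • ⊤ : Submodule R W))
    (z : ℕ → W) (hz : ∀ j, z (j + 1) - z j ∈ G j) : ∃ y, ∀ j, y - z j ∈ G j := by
  choose Nn hNn using chev_C G hG hstar
  have hz' : ∀ a b, a ≤ b → z b - z a ∈ G a := by
    intro a b hab
    induction b, hab using Nat.le_induction with
    | base => rw [sub_self]; exact zero_mem _
    | succ b hab ih =>
      have h1 : z (b + 1) - z a = (z (b + 1) - z b) + (z b - z a) := by abel
      rw [h1]
      exact add_mem (hG hab (hz b)) ih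
  let t : ℕ → ℕ := fun n => n + ∑ i ∈ Finset.range (n + 1), Nn i
  have ht1 : ∀ n, n ≤ t n := fun n => Nat.le_add_right _ _
  have ht2 : ∀ n, Nn n ≤ t n := fun n =>
    le_trans (Finset.single_le_sum (f := Nn) (fun i _ => Nat.zero_le _)
      (Finset.mem_range.mpr (Nat.lt_succ_self n))) (Nat.le_add_left _ _)
  have ht3 : ∀ n, t n ≤ t (n + 1) := by
    intro n
    refine add_le_add (Nat.le_succ n) ?_
    exact Finset.sum_le_sum_of_subset (Finset.range_mono (Nat.le_succ _))
  have hz'' : ∀ n, z (t (n + 1)) - z (t n) ∈ (maximalIdeal R ^ n • ⊤ : Submodule R W) :=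
    fun n => hNn n (hG (ht2 n) (hz' _ _ (ht3 n)))
  obtain ⟨y, hy⟩ := exists_limit_of_finite (maximalIdeal R) (fun n => z (t n)) hz''
  refine ⟨y, fun j => ?_⟩
  have h1 : y - z j = (y - z (t j)) + (z (t j) - z j) := by abel
  rw [h1]
  exact add_mem (hdag j (hy j)) (hz' _ _ (ht1 j))

end Groth.Agent.Helper22.Chev
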