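import Mathlib

/-!
# Closed points of fibres between a specialization (part 1)

Valuation ring tools: content of multivariate polynomials, lifting algebraic independence from the
closed fibre, and the choice of an element isolating a closed point of the closed fibre when the
transcendence degree is at most one.
-/

set_option autoImplicit false
universe u

namespace Groth.Agent.Helper22.ClFib

open Polynomial

section Content

variable {A : Type u} [CommRing A] [IsDomain A] [ValuationRing A]

/-- In a valuation ring, a nonempty finset has an element dividing all the others. -/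
theorem exists_dvd_all (s : Finset A) (hs : s.Nonempty) : ∃ a ∈ s, ∀ b ∈ s, a ∣ b := by
  classical
  induction s using Finset.induction_on with
  | empty => exact absurd hs (by simp)
  | insert x s hx ih =>
    by_cases hs' : s.Nonempty
    · obtain ⟨a, has, ha⟩ := ih hs'
      rcases ValuationRing.dvd_total x a with h | h
      · refine ⟨x, Finset.mem_insert_self _ _, fun b hb => ?_⟩
        rcases Finset.mem_insert.mp hb with rfl | hb
        · exact dvd_rfl
        · exact h.trans (ha b hb)
      · refine ⟨a, Finset.mem_insert_of_mem has, fun b hb => ?_⟩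
        rcases Finset.mem_insert.mp hb with rfl | hb
        · exact h
        · exact ha b hb
    · rw [Finset.not_nonempty_iff_eq_empty] at hs'
      subst hs'
      refine ⟨x, by simp, fun b hb => ?_⟩
      simp only [Finset.insert_empty, Finset.mem_singleton] at hb
      subst hb
      exact dvd_rfl

/-- A nonzero multivariate polynomial over a valuation ring is a nonzero constant times a polynomial
having some coefficient equal to one. -/
theorem exists_content {σ : Type*} (P : MvPolynomial σ A) (hP : P ≠ 0) :
    ∃ (a : A) (P₀ : MvPolynomial σ A), a ≠ 0 ∧ P = MvPolynomial.C a * P₀ ∧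
      ∃ s, MvPolynomial.coeff s P₀ = 1 := by
  classical
  have hsupp : P.support.Nonempty :=
    Finset.nonempty_iff_ne_empty.mpr fun h => hP (MvPolynomial.support_eq_empty.mp h)
  have hne : (P.support.image (fun s => MvPolynomial.coeff s P)).Nonempty := hsupp.image _
  obtain ⟨a, ha, hdiv⟩ := exists_dvd_all _ hne
  obtain ⟨s₀, hs₀, rfl⟩ := Finset.mem_image.mp ha
  have ha0 : MvPolynomial.coeff s₀ P ≠ 0 := MvPolynomial.mem_support_iff.mp hs₀
  have hdiv' : ∀ s ∈ P.support, MvPolynomial.coeff s₀ P ∣ MvPolynomial.coeff s P :=
    fun s hs => hdiv _ (Finset.mem_image_of_mem _ hs)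
  let q : (σ →₀ ℕ) → A := fun s => if h : s ∈ P.support then (hdiv' s h).choose else 0
  have hq : ∀ s ∈ P.support, MvPolynomial.coeff s P = MvPolynomial.coeff s₀ P * q s := by
    intro s hs
    simp only [q, dif_pos hs]
    exact (hdiv' s hs).choose_spec
  refine ⟨MvPolynomial.coeff s₀ P, ∑ s ∈ P.support, MvPolynomial.monomial s (q s), ha0, ?_, s₀, ?_⟩
  · rw [Finset.mul_sum]
    conv_lhs => rw [← MvPolynomial.support_sum_monomial_coeff P]
    refine Finset.sum_congr rfl fun s hs => ?_
    rw [MvPolynomial.C_mul_monomial, ← hq s hs]
  · rw [MvPolynomial.coeff_sum]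
    simp only [MvPolynomial.coeff_monomial]
    rw [Finset.sum_ite_eq' P.support s₀ q, if_pos hs₀]
    have h1 : MvPolynomial.coeff s₀ P * q s₀ = MvPolynomial.coeff s₀ P * 1 := by
      rw [mul_one]; exact (hq s₀ hs₀).symm
    exact mul_left_cancel₀ ha0 h1

variable {B : Type u} [CommRing B] [IsDomain B] [Algebra A B] [FaithfulSMul A B]

/-- Algebraic independence over the residue field of a valuation ring, modulo a prime lying over
the maximal ideal, lifts to algebraic independence over the valuation ring. -/
theorem algebraicIndependent_of_quotient (Q : Ideal B) [Q.IsPrime]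
    [Q.LiesOver (IsLocalRing.maximalIdeal A)] {ι : Type*} (x : ι → B)
    (hx : AlgebraicIndependent (A ⧸ IsLocalRing.maximalIdeal A)
      (fun i => Ideal.Quotient.mk Q (x i))) :
    AlgebraicIndependent A x := by
  rw [algebraicIndependent_iff] at hx ⊢
  intro P hP
  by_contra hP0
  obtain ⟨a, P₀, ha, rfl, s, hs⟩ := exists_content P hP0
  rw [map_mul, MvPolynomial.aeval_C] at hP
  have hP₀ : MvPolynomial.aeval x P₀ = 0 := by
    rcases mul_eq_zero.mp hP with h | h
    · exact absurd ((FaithfulSMul.algebraMap_eq_zero_iff A B).mp h) ha
    · exact h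
  have key : MvPolynomial.aeval (fun i => Ideal.Quotient.mk Q (x i))
      (MvPolynomial.map (Ideal.Quotient.mk (IsLocalRing.maximalIdeal A)) P₀) = 0 := by
    rw [MvPolynomial.aeval_def, MvPolynomial.eval₂_map]
    have hcomp : (algebraMap (A ⧸ IsLocalRing.maximalIdeal A) (B ⧸ Q)).comp
        (Ideal.Quotient.mk (IsLocalRing.maximalIdeal A))
        = (Ideal.Quotient.mk Q).comp (algebraMap A B) := by
      ext a; exact Ideal.Quotient.algebraMap_mk_of_liesOver Q (IsLocalRing.maximalIdeal A) a
    rw [hcomp]
    have h2 := MvPolynomial.eval₂_comp_left (Ideal.Quotient.mk Q) (algebraMap A B) x P₀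
    rw [show (fun i => Ideal.Quotient.mk Q (x i)) = (⇑(Ideal.Quotient.mk Q) ∘ x) from rfl, ← h2,
      ← MvPolynomial.aeval_def, hP₀, map_zero]
  have h3 := congrArg (MvPolynomial.coeff s) (hx _ key)
  rw [MvPolynomial.coeff_map, hs, map_one, MvPolynomial.coeff_zero] at h3
  exact one_ne_zero h3

/-- If the transcendence degree is at most one, any two elements are algebraically dependent. -/
theorem not_algebraicIndependent_pair (htr : Algebra.trdeg A B ≤ 1) (u v : B) :
    ¬ AlgebraicIndependent A (fun o : Option PUnit.{u+1} => o.elim v (fun _ => u)) := by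
  intro h
  have h1 := h.cardinalMk_le_trdeg.trans htr
  rw [Cardinal.mk_option, Cardinal.mk_fintype, Fintype.card_punit, Nat.cast_one] at h1
  have h2 : ((2 : ℕ) : Cardinal) ≤ ((1 : ℕ) : Cardinal) := by
    rw [Nat.cast_ofNat, Nat.cast_one, ← one_add_one_eq_two]; exact h1
  exact absurd (Nat.cast_le.mp h2) (by norm_num)

end Content

end Groth.Agent.Helper22.ClFib
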