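import Groth.Agent.Lib.Helper22.ClFib1

/-!
# Closed points of fibres between a specialization (part 2)

The closed fibre of a finite type domain of transcendence degree `≤ 1` over a valuation ring:
primes strictly above a prime of the closed fibre are maximal, existence of an isolating element,
and quasi-finiteness over `A[X]` at the closed point.
-/

set_option autoImplicit false
universe u

namespace Groth.Agent.Helper22.ClFib

open Polynomial

section Fibre

variable {A : Type u} [CommRing A] [IsDomain A] [ValuationRing A]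
variable {B : Type u} [CommRing B] [IsDomain B] [Algebra A B] [FaithfulSMul A B]

omit [IsDomain A] [ValuationRing A] [IsDomain B] [FaithfulSMul A B] in
/-- A proper ideal containing `𝔪 B` lies over `𝔪`. -/
theorem liesOver_of_map_le [IsLocalRing A] (J : Ideal B)
    (hJ : (IsLocalRing.maximalIdeal A).map (algebraMap A B) ≤ J) (hJtop : J ≠ ⊤) :
    J.LiesOver (IsLocalRing.maximalIdeal A) := by
  refine ⟨?_⟩
  refine (IsLocalRing.maximalIdeal.isMaximal A).eq_of_le ?_ (Ideal.map_le_iff_le_comap.mp hJ)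
  rw [Ideal.under_def]
  exact fun h => hJtop (Ideal.comap_eq_top_iff.mp h)

/-- If `Q₀ < Q` are primes of `B` over the maximal ideal of the valuation ring `A` and
`trdeg A B ≤ 1`, then `Q` is a maximal ideal. -/
theorem isMaximal_of_lt (htr : Algebra.trdeg A B ≤ 1) (Q₀ Q : Ideal B) [Q₀.IsPrime] [Q.IsPrime]
    [Q₀.LiesOver (IsLocalRing.maximalIdeal A)] [Q.LiesOver (IsLocalRing.maximalIdeal A)]
    (hlt : Q₀ < Q) : Q.IsMaximal := by
  classical
  letI : Field (A ⧸ IsLocalRing.maximalIdeal A) := Ideal.Quotient.field _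
  apply Ideal.Quotient.maximal_of_isField
  haveI : Algebra.IsIntegral (A ⧸ IsLocalRing.maximalIdeal A) (B ⧸ Q) := by
    refine ⟨fun z => ?_⟩
    obtain ⟨u, rfl⟩ := Ideal.Quotient.mk_surjective z
    obtain ⟨v, hvQ, hvQ₀⟩ := SetLike.exists_of_lt hlt
    let π : B ⧸ Q₀ →+* B ⧸ Q := Ideal.Quotient.factor hlt.le
    have hπ : π.comp (algebraMap (A ⧸ IsLocalRing.maximalIdeal A) (B ⧸ Q₀)) =
        algebraMap (A ⧸ IsLocalRing.maximalIdeal A) (B ⧸ Q) := by
      apply Ideal.Quotient.ringHom_ext
      ext a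
      simp only [RingHom.coe_comp, Function.comp_apply]
      rw [Ideal.Quotient.algebraMap_mk_of_liesOver Q₀ (IsLocalRing.maximalIdeal A) a,
        Ideal.Quotient.algebraMap_mk_of_liesOver Q (IsLocalRing.maximalIdeal A) a]
      exact Ideal.Quotient.factor_mk _ _
    have claim : ∃ p : (A ⧸ IsLocalRing.maximalIdeal A)[X], p ≠ 0 ∧
        π (aeval (Ideal.Quotient.mk Q₀ u) p) = 0 := by
      by_cases hu : Transcendental (A ⧸ IsLocalRing.maximalIdeal A) (Ideal.Quotient.mk Q₀ u)
      · have hind : AlgebraicIndependent (A ⧸ IsLocalRing.maximalIdeal A)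
            (fun _ : PUnit.{u+1} => Ideal.Quotient.mk Q₀ u) :=
          algebraicIndependent_unique_type_iff.mpr hu
        have hdep : ¬ AlgebraicIndependent (A ⧸ IsLocalRing.maximalIdeal A)
            (fun o : Option PUnit.{u+1} =>
              o.elim (Ideal.Quotient.mk Q₀ v) (fun _ => Ideal.Quotient.mk Q₀ u)) := by
          intro h
          refine not_algebraicIndependent_pair htr u v (algebraicIndependent_of_quotient Q₀
            (fun o : Option PUnit.{u+1} => o.elim v (fun _ => u)) ?_)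
          convert h using 1
          ext o; cases o <;> rfl
        have hv : IsAlgebraic (Algebra.adjoin (A ⧸ IsLocalRing.maximalIdeal A)
            (Set.range fun _ : PUnit.{u+1} => Ideal.Quotient.mk Q₀ u))
            (Ideal.Quotient.mk Q₀ v) := by
          by_contra h
          exact hdep (AlgebraicIndependent.option_iff.mpr ⟨hind, h⟩)
        have hv0 : Ideal.Quotient.mk Q₀ v ≠ 0 :=
          fun h => hvQ₀ (Ideal.Quotient.eq_zero_iff_mem.mp h)
        obtain ⟨e, he0, w, hw⟩ := hv.exists_nonzero_dvd (mem_nonZeroDivisors_of_ne_zero hv0)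
        have hemem : (e : B ⧸ Q₀) ∈ Algebra.adjoin (A ⧸ IsLocalRing.maximalIdeal A)
            ({Ideal.Quotient.mk Q₀ u} : Set (B ⧸ Q₀)) := by
          have hr : Set.range (fun _ : PUnit.{u+1} => Ideal.Quotient.mk Q₀ u) =
              {Ideal.Quotient.mk Q₀ u} := Set.range_const
          have hall : ∀ z ∈ Algebra.adjoin (A ⧸ IsLocalRing.maximalIdeal A)
              (Set.range fun _ : PUnit.{u+1} => Ideal.Quotient.mk Q₀ u),
              z ∈ Algebra.adjoin (A ⧸ IsLocalRing.maximalIdeal A)
                ({Ideal.Quotient.mk Q₀ u} : Set (B ⧸ Q₀)) := fun z hz => by rwa [hr] at hz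
          exact hall _ e.2
        rw [Algebra.adjoin_singleton_eq_range_aeval] at hemem
        obtain ⟨p, hp⟩ := hemem
        refine ⟨p, ?_, ?_⟩
        · rintro rfl
          apply he0
          ext
          rw [← hp]; simp
        · have h1 : aeval (Ideal.Quotient.mk Q₀ u) p = Ideal.Quotient.mk Q₀ v * w :=
            hp.trans hw
          have h2 : π (Ideal.Quotient.mk Q₀ v) = 0 := by
            rw [Ideal.Quotient.factor_mk]; exact Ideal.Quotient.eq_zero_iff_mem.mpr hvQ
          rw [h1, map_mul, h2, zero_mul]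
      · rw [Transcendental, not_not] at hu
        obtain ⟨p, hp0, hp⟩ := hu
        exact ⟨p, hp0, by rw [hp, map_zero]⟩
    obtain ⟨p, hp0, hp⟩ := claim
    have h3 : aeval (Ideal.Quotient.mk Q u) p = 0 := by
      rw [← hp, aeval_def, aeval_def, Polynomial.hom_eval₂, hπ, Ideal.Quotient.factor_mk]
    have halg : IsAlgebraic (A ⧸ IsLocalRing.maximalIdeal A) (Ideal.Quotient.mk Q u) :=
      ⟨p, hp0, h3⟩
    exact isAlgebraic_iff_isIntegral.mp halg
  exact isField_of_isIntegral_of_isField' (Field.toIsField (A ⧸ IsLocalRing.maximalIdeal A))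

variable [Algebra.FiniteType A B]

omit [IsDomain A] [ValuationRing A] [IsDomain B] [FaithfulSMul A B] in
/-- Ideals containing `𝔪 B` have finitely many minimal primes. -/
theorem finite_minimalPrimes_of_map_le [IsLocalRing A] (J : Ideal B)
    (hJ : (IsLocalRing.maximalIdeal A).map (algebraMap A B) ≤ J) (hJtop : J ≠ ⊤) :
    J.minimalPrimes.Finite := by
  letI : Field (A ⧸ IsLocalRing.maximalIdeal A) := Ideal.Quotient.field _
  haveI := liesOver_of_map_le J hJ hJtop
  haveI : Algebra.FiniteType A (B ⧸ J) :=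
    Algebra.FiniteType.of_surjective (Ideal.Quotient.mkₐ A J) (Ideal.Quotient.mkₐ_surjective A J)
  haveI : Algebra.FiniteType (A ⧸ IsLocalRing.maximalIdeal A) (B ⧸ J) :=
    Algebra.FiniteType.of_restrictScalars_finiteType A _ _
  haveI : IsNoetherianRing (B ⧸ J) :=
    Algebra.FiniteType.isNoetherianRing (A ⧸ IsLocalRing.maximalIdeal A) _
  rw [Ideal.minimalPrimes_eq_comap]
  exact (Ideal.finite_minimalPrimes_of_isNoetherianRing (B ⧸ J) ⊥).image _

/-- There is an element of `q'` such that `q'` is the only prime of the closed fibre below `q'`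
containing it. -/
theorem exists_isolating_element (htr : Algebra.trdeg A B ≤ 1) (q' : Ideal B) [hq'p : q'.IsPrime]
    (hq' : (IsLocalRing.maximalIdeal A).map (algebraMap A B) ≤ q') :
    ∃ h ∈ q', ∀ Q : Ideal B, Q.IsPrime →
      (IsLocalRing.maximalIdeal A).map (algebraMap A B) ≤ Q → h ∈ Q → Q ≤ q' → Q = q' := by
  classical
  have hfin : ((IsLocalRing.maximalIdeal A).map (algebraMap A B)).minimalPrimes.Finite :=
    finite_minimalPrimes_of_map_le _ le_rfl
      (fun h => hq'p.ne_top (top_le_iff.mp (h ▸ hq')))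
  let T : Finset (Ideal B) := hfin.toFinset.erase q'
  have hTprime : ∀ Q ∈ T, Q.IsPrime :=
    fun Q hQ => ((hfin.mem_toFinset.mp (Finset.mem_of_mem_erase hQ)).1).1
  have hnot : ¬ ((q' : Set B) ⊆ ⋃ Q ∈ (T : Set (Ideal B)), (Q : Set B)) := by
    intro hsub
    obtain ⟨Q, hQT, hle⟩ := (Ideal.subset_union_prime (f := fun Q => Q) q' q'
      (fun Q hQ _ _ => hTprime Q hQ)).mp hsub
    have hQmin := hfin.mem_toFinset.mp (Finset.mem_of_mem_erase hQT)
    have hle' : Q ≤ q' := hQmin.2 ⟨hq'p, hq'⟩ hle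
    exact (Finset.ne_of_mem_erase hQT) (le_antisymm hle' hle)
  obtain ⟨h, hhq, hh⟩ := Set.not_subset.mp hnot
  refine ⟨h, hhq, fun Q hQ hIQ hhQ hQq => ?_⟩
  by_contra hne
  have hQmin : Q ∈ ((IsLocalRing.maximalIdeal A).map (algebraMap A B)).minimalPrimes := by
    obtain ⟨Q₀, hQ₀, hQ₀le⟩ := Ideal.exists_minimalPrimes_le hIQ
    by_cases heq : Q₀ = Q
    · exact heq ▸ hQ₀
    · exfalso
      haveI : Q₀.IsPrime := hQ₀.1.1
      haveI := liesOver_of_map_le Q₀ hQ₀.1.2 (Ideal.IsPrime.ne_top ‹_›)
      haveI := liesOver_of_map_le Q hIQ hQ.ne_top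
      have hmax := isMaximal_of_lt htr Q₀ Q (lt_of_le_of_ne hQ₀le heq)
      exact hne (hmax.eq_of_le hq'p.ne_top hQq)
  apply hh
  exact Set.mem_iUnion₂.mpr ⟨Q, Finset.mem_coe.mpr
    (Finset.mem_erase.mpr ⟨hne, hfin.mem_toFinset.mpr hQmin⟩), hhQ⟩

end Fibre

end Groth.Agent.Helper22.ClFib
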