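import Groth.Agent.Lib.Helper22.ClFib2

/-!
# Closed points of fibres between a specialization (part 3)

Quasi-finiteness over `A[X]` at an isolated point, going-down at a quasi-finite point over an
integrally closed base, and the key lemma over a valuation ring.
-/

set_option autoImplicit false
universe u

namespace Groth.Agent.Helper22.ClFib

open Polynomial

/-- The `A[X]`-algebra structure on `B` sending `X` to `h`. -/
@[reducible] noncomputable def polyAlgebra (A : Type u) {B : Type u} [CommRing A] [CommRing B]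
    [Algebra A B] (h : B) : Algebra A[X] B := (Polynomial.aeval (R := A) h).toRingHom.toAlgebra

section PolyAlg

variable {A B : Type u} [CommRing A] [CommRing B] [Algebra A B] (h : B)

theorem polyAlgebra_algebraMap_X :
    letI := polyAlgebra A h; algebraMap A[X] B X = h := Polynomial.aeval_X h

theorem polyAlgebra_algebraMap_C (a : A) :
    letI := polyAlgebra A h; algebraMap A[X] B (C a) = algebraMap A B a := Polynomial.aeval_C h a

theorem polyAlgebra_isScalarTower : letI := polyAlgebra A h; IsScalarTower A A[X] B := by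
  letI := polyAlgebra A h
  exact IsScalarTower.of_algebraMap_eq fun a => (polyAlgebra_algebraMap_C h a).symm

end PolyAlg

section QF

variable {A : Type u} [CommRing A] [IsDomain A] [ValuationRing A]
variable {B : Type u} [CommRing B] [IsDomain B] [Algebra A B] [FaithfulSMul A B]
  [Algebra.FiniteType A B]

omit [IsDomain A] [ValuationRing A] [IsDomain B] [FaithfulSMul A B] in
/-- If `q'` is a maximal ideal containing `𝔪 B` and `h`, and is the only prime below `q'`
containing them, then `B` is quasi-finite over `A[X]` (with `X ↦ h`) at `q'`. -/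
theorem quasiFiniteAt_of_isolating [IsLocalRing A] (q' : Ideal B) [hmax : q'.IsMaximal]
    (hq' : (IsLocalRing.maximalIdeal A).map (algebraMap A B) ≤ q') (h : B) (hhq : h ∈ q')
    (hstar : ∀ Q : Ideal B, Q.IsPrime →
      (IsLocalRing.maximalIdeal A).map (algebraMap A B) ≤ Q → h ∈ Q → Q ≤ q' → Q = q') :
    letI := polyAlgebra A h
    Algebra.QuasiFiniteAt A[X] q' := by
  classical
  letI : Algebra A[X] B := polyAlgebra A h
  haveI : IsScalarTower A A[X] B := polyAlgebra_isScalarTower h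
  haveI : Algebra.FiniteType A[X] B := Algebra.FiniteType.of_restrictScalars_finiteType A A[X] B
  have halgX : algebraMap A[X] B X = h := polyAlgebra_algebraMap_X h
  have halgC : ∀ a, algebraMap A[X] B (C a) = algebraMap A B a := polyAlgebra_algebraMap_C h
  have hJq : (IsLocalRing.maximalIdeal A).map (algebraMap A B) ⊔ Ideal.span {h} ≤ q' :=
    sup_le hq' ((Ideal.span_singleton_le_iff_mem _).mpr hhq)
  have hfin : ((IsLocalRing.maximalIdeal A).map (algebraMap A B) ⊔
      Ideal.span {h}).minimalPrimes.Finite :=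
    finite_minimalPrimes_of_map_le _ le_sup_left
      (fun e => hmax.ne_top (top_le_iff.mp (e ▸ hJq)))
  have hex : ∀ Q ∈ hfin.toFinset.erase q', ∃ x ∈ Q, x ∉ q' := by
    intro Q hQ
    have hQmin := hfin.mem_toFinset.mp (Finset.mem_of_mem_erase hQ)
    by_contra hcon
    push_neg at hcon
    exact Finset.ne_of_mem_erase hQ (hstar Q hQmin.1.1 (le_sup_left.trans hQmin.1.2)
      (hQmin.1.2 (Ideal.mem_sup_right (Ideal.mem_span_singleton_self h))) hcon)
  let c : Ideal B → B := fun Q =>
    if hQ : Q ∈ hfin.toFinset.erase q' then (hex Q hQ).choose else 1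
  have hc1 : ∀ Q ∈ hfin.toFinset.erase q', c Q ∈ Q := fun Q hQ => by
    simp only [c, dif_pos hQ]; exact (hex Q hQ).choose_spec.1
  have hc2 : ∀ Q ∈ hfin.toFinset.erase q', c Q ∉ q' := fun Q hQ => by
    simp only [c, dif_pos hQ]; exact (hex Q hQ).choose_spec.2
  have hu : (∏ Q ∈ hfin.toFinset.erase q', c Q) ∉ q' := by
    intro hmem
    obtain ⟨Q, hQ, hcQ⟩ := (Ideal.IsPrime.prod_mem_iff (hp := hmax.isPrime)).mp hmem
    exact hc2 Q hQ hcQ
  have huQ : ∀ Q ∈ hfin.toFinset.erase q', (∏ Q ∈ hfin.toFinset.erase q', c Q) ∈ Q :=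
    fun Q hQ => Ideal.mem_of_dvd _ (Finset.dvd_prod_of_mem c hQ) (hc1 Q hQ)
  let q : PrimeSpectrum B := ⟨q', hmax.isPrime⟩
  refine Algebra.QuasiFiniteAt.of_isOpen_singleton_fiber q ?_
  convert (PrimeSpectrum.basicOpen (∏ Q ∈ hfin.toFinset.erase q', c Q)).isOpen.preimage
    continuous_subtype_val using 1
  ext ⟨Q, hQ⟩
  simp only [Set.mem_singleton_iff, Subtype.mk.injEq, Set.mem_preimage, SetLike.mem_coe,
    PrimeSpectrum.mem_basicOpen]
  constructor
  · rintro rfl; exact hu
  · intro huQ'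
    have hQ' : Q.asIdeal.comap (algebraMap A[X] B) = q'.comap (algebraMap A[X] B) :=
      congrArg PrimeSpectrum.asIdeal hQ
    have hJQ : (IsLocalRing.maximalIdeal A).map (algebraMap A B) ⊔ Ideal.span {h} ≤
        Q.asIdeal := by
      refine sup_le (Ideal.map_le_iff_le_comap.mpr fun a ha => ?_)
        ((Ideal.span_singleton_le_iff_mem _).mpr ?_)
      · have h1 : C a ∈ Q.asIdeal.comap (algebraMap A[X] B) := by
          rw [hQ', Ideal.mem_comap, halgC]; exact hq' (Ideal.mem_map_of_mem _ ha)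
        rw [Ideal.mem_comap, halgC] at h1; exact h1
      · have h1 : (X : A[X]) ∈ Q.asIdeal.comap (algebraMap A[X] B) := by
          rw [hQ', Ideal.mem_comap, halgX]; exact hhq
        rw [Ideal.mem_comap, halgX] at h1; exact h1
    obtain ⟨Qm, hQm, hQmle⟩ := Ideal.exists_minimalPrimes_le hJQ
    have hQmq : Qm = q' := by
      by_contra hne
      exact huQ' (hQmle (huQ Qm (Finset.mem_erase.mpr ⟨hne, hfin.mem_toFinset.mpr hQm⟩)))
    have h2 : q' = Q.asIdeal := hmax.eq_of_le Q.2.ne_top (hQmq ▸ hQmle)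
    exact PrimeSpectrum.ext h2.symm

end QF

/-- Going-down at a quasi-finite point over an integrally closed base. -/
theorem exists_prime_le_of_quasiFiniteAt {R B : Type u} [CommRing R] [IsDomain R]
    [IsIntegrallyClosed R] [CommRing B] [IsDomain B] [Algebra R B] [FaithfulSMul R B]
    [Algebra.FiniteType R B] (q' : Ideal B) [hq'p : q'.IsPrime] [Algebra.QuasiFiniteAt R q']
    (P : Ideal R) [P.IsPrime] (hP : P ≤ q'.under R) :
    ∃ Q : Ideal B, Q.IsPrime ∧ Q ≤ q' ∧ Q.under R = P := by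
  classical
  obtain ⟨r, hrq, hrint, hr⟩ := Algebra.zariskisMainProperty_iff.mp
    (Algebra.ZariskisMainProperty.of_finiteType (R := R) q')
  let S' : Subalgebra R B := integralClosure R B
  haveI : FaithfulSMul R S' := (faithfulSMul_iff_algebraMap_injective R S').mpr
    (fun x y hxy => FaithfulSMul.algebraMap_injective R B (congrArg Subtype.val hxy))
  let r' : S' := ⟨r, hrint⟩
  have hr'coe : (r' : B) = r := rfl
  let q₀ : Ideal S' := q'.comap (algebraMap S' B)
  haveI : q₀.IsPrime := Ideal.comap_isPrime _ _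
  haveI : q₀.LiesOver (q'.under R) := ⟨by
    rw [Ideal.under_def, Ideal.under_def, Ideal.comap_comap]; rfl⟩
  obtain ⟨Q₀, hQ₀le, hQ₀p, hQ₀over⟩ :=
    Ideal.exists_ideal_le_liesOver_of_le (p := P) (q := q'.under R) q₀ hP
  have hr'Q₀ : r' ∉ Q₀ := fun hmem => hrq (hQ₀le hmem)
  have hpow : ∀ n : ℕ, r' ^ n ∉ Q₀ := fun n hmem => hr'Q₀ (hQ₀p.mem_of_pow_mem n hmem)
  have hint : ∀ x : B, ∃ n : ℕ, ∃ s : S', (s : B) = r ^ n * x := fun x => by
    obtain ⟨n, hn⟩ := hr x; exact ⟨n, ⟨_, hn⟩, rfl⟩
  let Q : Ideal B :=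
    { carrier := {x | ∃ n : ℕ, ∃ y ∈ Q₀, r ^ n * x = (y : B)}
      add_mem' := by
        rintro x₁ x₂ ⟨n₁, y₁, hy₁, e₁⟩ ⟨n₂, y₂, hy₂, e₂⟩
        refine ⟨n₁ + n₂, r' ^ n₂ * y₁ + r' ^ n₁ * y₂,
          Q₀.add_mem (Q₀.mul_mem_left _ hy₁) (Q₀.mul_mem_left _ hy₂), ?_⟩
        push_cast
        rw [hr'coe, ← e₁, ← e₂]; ring
      zero_mem' := ⟨0, 0, Q₀.zero_mem, by simp⟩
      smul_mem' := by
        rintro c x ⟨n, y, hy, e⟩
        obtain ⟨k, s, hs⟩ := hint c
        refine ⟨n + k, s * y, Q₀.mul_mem_left _ hy, ?_⟩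
        push_cast
        rw [hs, ← e, smul_eq_mul]; ring }
  have hQprime : Q.IsPrime := by
    refine ⟨?_, ?_⟩
    · rw [Ideal.ne_top_iff_one]
      rintro ⟨n, y, hy, e⟩
      apply hpow n
      have h1 : r' ^ n = y := Subtype.ext (by rw [← e]; push_cast; rw [hr'coe, mul_one])
      rwa [h1]
    · rintro x x' ⟨n, y, hy, e⟩
      obtain ⟨k, s, hs⟩ := hint x
      obtain ⟨k', s', hs'⟩ := hint x'
      have hmem : s * s' * r' ^ n ∈ Q₀ := by
        have h1 : s * s' * r' ^ n = r' ^ (k + k') * y :=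
          Subtype.ext (by push_cast; rw [hs, hs', hr'coe, ← e]; ring)
        rw [h1]; exact Q₀.mul_mem_left _ hy
      rcases hQ₀p.mem_or_mem hmem with h1 | h1
      · rcases hQ₀p.mem_or_mem h1 with h2 | h2
        · exact Or.inl ⟨k, s, h2, hs.symm⟩
        · exact Or.inr ⟨k', s', h2, hs'.symm⟩
      · exact absurd h1 (hpow n)
  have hQle : Q ≤ q' := by
    rintro x ⟨n, y, hy, e⟩
    have hyq : (y : B) ∈ q' := hQ₀le hy
    rw [← e] at hyq
    rcases hq'p.mem_or_mem hyq with h1 | h1
    · exact absurd (hq'p.mem_of_pow_mem n h1) hrq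
    · exact h1
  have hQunder : Q.under R = P := by
    ext c
    rw [Ideal.under_def, Ideal.mem_comap, hQ₀over.over, Ideal.under_def, Ideal.mem_comap]
    constructor
    · rintro ⟨n, y, hy, e⟩
      have h1 : r' ^ n * algebraMap R S' c = y :=
        Subtype.ext (by push_cast; rw [hr'coe, ← e])
      have hmem : r' ^ n * algebraMap R S' c ∈ Q₀ := h1 ▸ hy
      exact (hQ₀p.mem_or_mem hmem).resolve_left (hpow n)
    · intro hc
      exact ⟨0, algebraMap R S' c, hc, by simp⟩
  exact ⟨Q, hQprime, hQle, hQunder⟩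

end Groth.Agent.Helper22.ClFib
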