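import Groth.Agent.Lib.Helper22.ClFib3

/-!
# Closed points of fibres between a specialization (part 4)

The key lemma over a valuation ring: a finite type domain of transcendence degree one over a
valuation ring (not a field) has, below any closed point of the closed fibre, infinitely many
"horizontal" primes; in particular one avoiding a given nonzero element.
-/

set_option autoImplicit false
universe u

namespace Groth.Agent.Helper22.ClFib

open Polynomial

theorem exists_horizontal_prime_valuationRing
    {A B : Type u} [CommRing A] [IsDomain A] [ValuationRing A] [CommRing B] [IsDomain B]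
    [Algebra A B] [FaithfulSMul A B] [Algebra.FiniteType A B]
    (hm : IsLocalRing.maximalIdeal A ≠ ⊥) (htr : Algebra.trdeg A B = 1)
    (q' : Ideal B) [hmax : q'.IsMaximal]
    (hq' : (IsLocalRing.maximalIdeal A).map (algebraMap A B) ≤ q')
    (g : B) (hg : g ≠ 0) :
    ∃ Q : Ideal B, Q.IsPrime ∧ Q ≠ ⊥ ∧ Q ≤ q' ∧ Q.comap (algebraMap A B) = ⊥ ∧ g ∉ Q := by
  classical
  haveI hq'p : q'.IsPrime := hmax.isPrime
  obtain ⟨h, hhq, hstar⟩ := exists_isolating_element htr.le q' hq'
  letI : Algebra A[X] B := polyAlgebra A h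
  haveI : IsScalarTower A A[X] B := polyAlgebra_isScalarTower h
  haveI : Algebra.FiniteType A[X] B := Algebra.FiniteType.of_restrictScalars_finiteType A A[X] B
  have halgX : algebraMap A[X] B X = h := polyAlgebra_algebraMap_X h
  have halgC : ∀ a, algebraMap A[X] B (C a) = algebraMap A B a := polyAlgebra_algebraMap_C h
  haveI qf : Algebra.QuasiFiniteAt A[X] q' := quasiFiniteAt_of_isolating q' hq' h hhq hstar
  obtain ⟨r, hrq, hrint, hr⟩ := Algebra.zariskisMainProperty_iff.mp
    (Algebra.ZariskisMainProperty.of_finiteType (R := A[X]) q')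
  have hr0 : r ≠ 0 := fun e => hrq (e ▸ q'.zero_mem)
  -- `h` is transcendental over `A`
  have htrans : Transcendental A h := by
    by_contra hcon
    rw [Transcendental, not_not] at hcon
    haveI hE : Algebra.IsAlgebraic A (Algebra.adjoin A {h}) :=
      (Subalgebra.isAlgebraic_iff _).mp (Algebra.isAlgebraic_adjoin_singleton_iff.mpr hcon)
    let φ : A[X] →+* Algebra.adjoin A {h} :=
      (Polynomial.aeval (⟨h, Algebra.self_mem_adjoin_singleton A h⟩ :
        Algebra.adjoin A {h})).toRingHom
    have hφ : (algebraMap (Algebra.adjoin A {h}) B).comp φ =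
        (RingHom.id B).comp (algebraMap A[X] B) := by
      apply Polynomial.ringHom_ext
      · intro a
        show ((Polynomial.aeval (⟨h, Algebra.self_mem_adjoin_singleton A h⟩ :
          Algebra.adjoin A {h}) (C a) : Algebra.adjoin A {h}) : B) = algebraMap A[X] B (C a)
        rw [Polynomial.aeval_C, halgC]; rfl
      · show ((Polynomial.aeval (⟨h, Algebra.self_mem_adjoin_singleton A h⟩ :
          Algebra.adjoin A {h}) X : Algebra.adjoin A {h}) : B) = algebraMap A[X] B X
        rw [Polynomial.aeval_X, halgX]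
    have halg_of_int : ∀ y : B, IsIntegral A[X] y → IsAlgebraic A y := by
      intro y hy
      have h1 : IsIntegral (Algebra.adjoin A {h}) y := by
        have h2 := hy.map_of_comp_eq φ (RingHom.id B) hφ
        simpa using h2
      exact (h1.isAlgebraic).restrictScalars A
    have hall : Algebra.IsAlgebraic A B := ⟨fun x => by
      obtain ⟨n, hn⟩ := hr x
      have hrn : IsAlgebraic A (r ^ n) := (halg_of_int r hrint).pow n
      exact IsAlgebraic.of_mul (mem_nonZeroDivisors_of_ne_zero (pow_ne_zero n hr0)) hrn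
        (halg_of_int _ hn)⟩
    have h0 := trdeg_eq_zero_iff.mpr hall
    rw [htr] at h0
    exact one_ne_zero h0
  have hinj : Function.Injective (algebraMap A[X] B) := transcendental_iff_injective.mp htrans
  haveI : FaithfulSMul A[X] B := (faithfulSMul_iff_algebraMap_injective A[X] B).mpr hinj
  -- `g` divides a nonzero polynomial in `h`
  have hgalg : IsAlgebraic A[X] g := by
    obtain ⟨n, hn⟩ := hr g
    exact IsAlgebraic.of_mul (mem_nonZeroDivisors_of_ne_zero (pow_ne_zero n hr0))
      ((hrint.isAlgebraic).pow n) hn.isAlgebraic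
  obtain ⟨c, hc0, hcdvd⟩ := hgalg.exists_nonzero_dvd (mem_nonZeroDivisors_of_ne_zero hg)
  -- choose `a ∈ 𝔪` which is not a root of `c`
  obtain ⟨a₀, ha₀m, ha₀0⟩ : ∃ a₀ ∈ IsLocalRing.maximalIdeal A, a₀ ≠ 0 :=
    Submodule.exists_mem_ne_zero_of_ne_bot hm
  have hex : ∃ a ∈ IsLocalRing.maximalIdeal A, ¬ c.IsRoot a := by
    by_contra hcon
    push_neg at hcon
    apply hc0
    apply Polynomial.eq_zero_of_infinite_isRoot
    have hinj' : Function.Injective (fun n : ℕ => a₀ ^ (n + 1)) := by
      intro n₁ n₂ he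
      have h1 := pow_injective_of_not_isUnit
        ((IsLocalRing.mem_maximalIdeal _).mp ha₀m) ha₀0 he
      omega
    exact Set.infinite_of_injective_forall_mem hinj'
      (fun n => hcon _ (Ideal.pow_mem_of_mem _ ha₀m _ (Nat.succ_pos n)))
  obtain ⟨a, ham, haroot⟩ := hex
  -- the prime `(X - a)` of `A[X]`
  haveI hPprime : (Ideal.span {(X - C a : A[X])}).IsPrime :=
    (Ideal.span_singleton_prime (X_sub_C_ne_zero a)).mpr (prime_X_sub_C a)
  have hPle : Ideal.span {(X - C a : A[X])} ≤ q'.under A[X] := by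
    rw [Ideal.span_singleton_le_iff_mem, Ideal.under_def, Ideal.mem_comap, map_sub, halgX, halgC]
    exact q'.sub_mem hhq (hq' (Ideal.mem_map_of_mem _ ham))
  obtain ⟨Q, hQp, hQle, hQunder⟩ :=
    exists_prime_le_of_quasiFiniteAt (R := A[X]) q' (Ideal.span {(X - C a : A[X])}) hPle
  have hmemQ : ∀ p : A[X], algebraMap A[X] B p ∈ Q ↔ (X - C a) ∣ p := by
    intro p
    rw [← Ideal.mem_comap, ← Ideal.under_def, hQunder, Ideal.mem_span_singleton]
  refine ⟨Q, hQp, ?_, hQle, ?_, ?_⟩
  · intro hbot
    have h1 : algebraMap A[X] B (X - C a) ∈ Q := (hmemQ _).mpr dvd_rfl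
    rw [hbot, Ideal.mem_bot] at h1
    exact X_sub_C_ne_zero a (hinj (h1.trans (map_zero _).symm))
  · rw [eq_bot_iff]
    intro c' hc'
    rw [Ideal.mem_comap, ← halgC, hmemQ, dvd_iff_isRoot, IsRoot.def, eval_C] at hc'
    rw [Ideal.mem_bot]; exact hc'
  · intro hgQ
    have h1 : algebraMap A[X] B c ∈ Q := Ideal.mem_of_dvd _ hcdvd hgQ
    rw [hmemQ, dvd_iff_isRoot] at h1
    exact haroot h1

end Groth.Agent.Helper22.ClFib
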