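import Groth.Agent.Lib.Helper22.ClFib4

/-!
# Closed points of fibres between a specialization (part 5)

Reduction of the key lemma to the case of a valuation ring base: for a finite type extension of
domains `R ⊆ B` of transcendence degree one and a prime `q'` of `B` whose residue field is
algebraic over that of `q' ∩ R ≠ 0`, there are nonzero primes `Q ⊆ q'` with `Q ∩ R = 0` avoiding
a given nonzero element.
-/

set_option autoImplicit false
universe u

namespace Groth.Agent.Helper22.ClFib

open Polynomial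

/-- A valuation ring of the fraction field dominating the localization at a prime. -/
theorem exists_valuationSubring_dominating {B : Type u} [CommRing B] [IsDomain B] (q' : Ideal B)
    [q'.IsPrime] :
    ∃ V : ValuationSubring (FractionRing B), ∃ hV : ∀ b : B, algebraMap B (FractionRing B) b ∈ V,
      ∀ b : B, IsUnit (⟨algebraMap B (FractionRing B) b, hV b⟩ : V) ↔ b ∉ q' := by
  classical
  have hunit : ∀ y : q'.primeCompl, IsUnit (algebraMap B (FractionRing B) y) := fun y =>
    IsUnit.mk0 _ ((map_ne_zero_iff _ (IsFractionRing.injective B (FractionRing B))).mpr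
      (fun h0 => y.2 (h0 ▸ q'.zero_mem)))
  let f : Localization.AtPrime q' →+* FractionRing B := IsLocalization.lift hunit
  obtain ⟨V, hV, hloc⟩ := IsLocalRing.exists_factor_valuationRing f
  have hf : ∀ b : B, f (algebraMap B (Localization.AtPrime q') b) =
      algebraMap B (FractionRing B) b := fun b => IsLocalization.lift_eq hunit b
  have hVb : ∀ b : B, algebraMap B (FractionRing B) b ∈ V := fun b => hf b ▸ hV _
  refine ⟨V, hVb, fun b => ⟨fun hu hb => ?_, fun hb => ?_⟩⟩
  · obtain ⟨c, hc⟩ := isUnit_iff_exists_inv.mp hu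
    have hc' : algebraMap B (FractionRing B) b * (c : FractionRing B) = 1 := by
      simpa using congrArg Subtype.val hc
    have hu' : IsUnit ((f.codRestrict V.toSubring hV)
        (algebraMap B (Localization.AtPrime q') b)) := by
      refine isUnit_iff_exists_inv.mpr ⟨⟨c.1, c.2⟩, Subtype.ext ?_⟩
      show f (algebraMap B (Localization.AtPrime q') b) * (c : FractionRing B) = 1
      rw [hf]; exact hc'
    have h1 := hloc.map_nonunit _ hu'
    rw [IsLocalization.AtPrime.isUnit_to_map_iff (Localization.AtPrime q') q'] at h1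
    exact h1 hb
  · have h1 : IsUnit (algebraMap B (Localization.AtPrime q') b) :=
      (IsLocalization.AtPrime.isUnit_to_map_iff _ q' b).mpr hb
    obtain ⟨c, hc⟩ := isUnit_iff_exists_inv.mp h1
    refine isUnit_iff_exists_inv.mpr ⟨⟨f c, hV c⟩, Subtype.ext ?_⟩
    show algebraMap B (FractionRing B) b * f c = 1
    rw [← hf b, ← map_mul, hc, map_one]


/-- The key lemma in transcendence degree one, reduced to the valuation ring case. -/
theorem exists_horizontal_prime_of_trdeg_one
    {R B : Type u} [CommRing R] [IsDomain R] [CommRing B] [IsDomain B] [Algebra R B]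
    [FaithfulSMul R B] [Algebra.FiniteType R B] (htr : Algebra.trdeg R B = 1)
    (q' : Ideal B) [hq'p : q'.IsPrime] (hp' : q'.comap (algebraMap R B) ≠ ⊥)
    (halg : ∀ b : B, ∃ p : R[X], (∃ i, p.coeff i ∉ q'.comap (algebraMap R B)) ∧ aeval b p ∈ q')
    (g : B) (hg : g ≠ 0) :
    ∃ Q : Ideal B, Q.IsPrime ∧ Q ≠ ⊥ ∧ Q ≤ q' ∧ Q.comap (algebraMap R B) = ⊥ ∧ g ∉ Q := by
  classical
  obtain ⟨V, hVb, hVunit⟩ := exists_valuationSubring_dominating q'
  have hinjBL : Function.Injective (algebraMap B (FractionRing B)) :=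
    IsFractionRing.injective B (FractionRing B)
  have hRBL : ∀ a : R, algebraMap R (FractionRing B) a =
      algebraMap B (FractionRing B) (algebraMap R B a) :=
    fun a => IsScalarTower.algebraMap_apply R B (FractionRing B) a
  have hinjRL : Function.Injective (algebraMap R (FractionRing B)) := by
    intro a a' h
    rw [hRBL, hRBL] at h
    exact FaithfulSMul.algebraMap_injective R B (hinjBL h)
  -- the valuation ring `A₀`
  let A₀ : Subring (FractionRing B) :=
    V.toSubring ⊓ (Subalgebra.algebraicClosure R (FractionRing B)).toSubring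
  have hA₀mk : ∀ x : FractionRing B, x ∈ V → IsAlgebraic R x → x ∈ A₀ :=
    fun x h1 h2 => ⟨h1, h2⟩
  have hA₀V : ∀ x : A₀, (x : FractionRing B) ∈ V := fun x => x.2.1
  have hA₀alg : ∀ x : A₀, IsAlgebraic R (x : FractionRing B) := fun x => x.2.2
  haveI : PreValuationRing A₀ := ⟨fun x y => by
    by_cases hy : (y : FractionRing B) = 0
    · exact ⟨0, Or.inl (Subtype.ext (by simp [hy]))⟩
    by_cases hx : (x : FractionRing B) = 0
    · exact ⟨0, Or.inr (Subtype.ext (by simp [hx]))⟩
    have halgdiv : IsAlgebraic R ((y : FractionRing B) / x) := by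
      rw [div_eq_mul_inv]; exact (hA₀alg y).mul (hA₀alg x).inv
    have halgdiv' : IsAlgebraic R ((x : FractionRing B) / y) := by
      rw [div_eq_mul_inv]; exact (hA₀alg x).mul (hA₀alg y).inv
    rcases V.mem_or_inv_mem ((y : FractionRing B) / x) with h | h
    · exact ⟨⟨_, hA₀mk _ h halgdiv⟩, Or.inl (Subtype.ext (by
        show (x : FractionRing B) * ((y : FractionRing B) / x) = y
        field_simp))⟩
    · rw [inv_div] at h
      exact ⟨⟨_, hA₀mk _ h halgdiv'⟩, Or.inr (Subtype.ext (by
        show (y : FractionRing B) * ((x : FractionRing B) / y) = x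
        field_simp))⟩⟩
  haveI : ValuationRing A₀ := ValuationRing.mk
  have hVR : ∀ a : R, algebraMap R (FractionRing B) a ∈ V := fun a => by
    rw [hRBL]; exact hVb _
  let ρ : R →+* A₀ := (algebraMap R (FractionRing B)).codRestrict A₀
    (fun a => hA₀mk _ (hVR a) (isAlgebraic_algebraMap a))
  letI algRA₀ : Algebra R A₀ := ρ.toAlgebra
  haveI : IsScalarTower R A₀ (FractionRing B) := IsScalarTower.of_algebraMap_eq fun _ => rfl
  haveI : Algebra.IsAlgebraic R A₀ :=
    ⟨fun x => (isAlgebraic_algebraMap_iff (A := FractionRing B) Subtype.val_injective).mp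
      (hA₀alg x)⟩
  have hρinj : Function.Injective ρ := fun a a' h => hinjRL (congrArg Subtype.val h)
  haveI : FaithfulSMul R A₀ := (faithfulSMul_iff_algebraMap_injective R A₀).mpr hρinj
  -- nonunits of `A₀` are nonunits of `V`
  have hN : ∀ x : A₀, x ∈ IsLocalRing.maximalIdeal A₀ →
      ¬ IsUnit (⟨(x : FractionRing B), hA₀V x⟩ : V) := by
    intro x hx hu
    obtain ⟨c, hc⟩ := isUnit_iff_exists_inv.mp hu
    have hc' : (x : FractionRing B) * (c : FractionRing B) = 1 := by
      simpa using congrArg Subtype.val hc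
    have hcalg : IsAlgebraic R (c : FractionRing B) := by
      have : (c : FractionRing B) = (x : FractionRing B)⁻¹ := (eq_inv_of_mul_eq_one_right hc')
      rw [this]; exact (hA₀alg x).inv
    have hxu : IsUnit x :=
      isUnit_iff_exists_inv.mpr ⟨⟨c, hA₀mk _ c.2 hcalg⟩, Subtype.ext hc'⟩
    exact ((IsLocalRing.mem_maximalIdeal x).mp hx) hxu
  have hρmem : ∀ a : R, ρ a ∈ IsLocalRing.maximalIdeal A₀ → a ∈ q'.comap (algebraMap R B) := by
    intro a ha
    have h1 := hN _ ha
    by_contra hcon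
    apply h1
    have h2 := (hVunit (algebraMap R B a)).mpr hcon
    convert h2 using 2
    exact hRBL a
  have hρmem' : ∀ a : R, a ∈ q'.comap (algebraMap R B) → ρ a ∈ IsLocalRing.maximalIdeal A₀ := by
    intro a ha
    rw [IsLocalRing.mem_maximalIdeal, mem_nonunits_iff]
    intro hu
    obtain ⟨c, hc⟩ := isUnit_iff_exists_inv.mp hu
    have hc' : algebraMap R (FractionRing B) a * (c : FractionRing B) = 1 :=
      congrArg Subtype.val hc
    have h2 : IsUnit (⟨algebraMap B (FractionRing B) (algebraMap R B a), hVb _⟩ : V) := by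
      refine isUnit_iff_exists_inv.mpr ⟨⟨c, hA₀V c⟩, Subtype.ext ?_⟩
      show algebraMap B (FractionRing B) (algebraMap R B a) * (c : FractionRing B) = 1
      rw [← hRBL]; exact hc'
    exact (hVunit _).mp h2 ha
  have hm₀ : IsLocalRing.maximalIdeal A₀ ≠ ⊥ := by
    obtain ⟨a, ha, ha0⟩ := Submodule.exists_mem_ne_zero_of_ne_bot hp'
    intro hbot
    have h1 := hρmem' a ha
    rw [hbot, Ideal.mem_bot] at h1
    exact ha0 (hρinj (h1.trans (map_zero ρ).symm))
  -- the finite type `A₀`-algebra `B₁`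
  let B₁ : Subalgebra A₀ (FractionRing B) :=
    Algebra.adjoin A₀ (Set.range (algebraMap B (FractionRing B)))
  let ψ : B →+* B₁ := (algebraMap B (FractionRing B)).codRestrict B₁
    (fun b => Algebra.subset_adjoin ⟨b, rfl⟩)
  have hψinj : Function.Injective ψ := fun b b' h => hinjBL (congrArg Subtype.val h)
  have hψρ : ∀ a : R, ψ (algebraMap R B a) = algebraMap A₀ B₁ (ρ a) :=
    fun a => Subtype.ext (hRBL a).symm
  haveI : Algebra.FiniteType A₀ B₁ := by
    obtain ⟨s, hs⟩ := (Algebra.FiniteType.out : (⊤ : Subalgebra R B).FG)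
    rw [← Subalgebra.fg_iff_finiteType]
    have heq : Algebra.adjoin A₀ (Set.range (algebraMap B (FractionRing B))) =
        Algebra.adjoin A₀ ((s.image (algebraMap B (FractionRing B)) : Finset (FractionRing B)) :
          Set (FractionRing B)) := by
      apply le_antisymm
      · apply Algebra.adjoin_le
        rintro _ ⟨b, rfl⟩
        have hb : b ∈ Algebra.adjoin R (s : Set B) := hs ▸ Algebra.mem_top
        induction hb using Algebra.adjoin_induction with
        | mem x hx =>
          exact Algebra.subset_adjoin (Finset.mem_coe.mpr (Finset.mem_image_of_mem _ hx))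
        | algebraMap a =>
          rw [← hRBL]
          exact Subalgebra.algebraMap_mem _ (ρ a)
        | add x y _ _ hx hy => rw [map_add]; exact Subalgebra.add_mem _ hx hy
        | mul x y _ _ hx hy => rw [map_mul]; exact Subalgebra.mul_mem _ hx hy
      · apply Algebra.adjoin_mono
        intro x hx
        obtain ⟨b, _, rfl⟩ := Finset.mem_image.mp (Finset.mem_coe.mp hx)
        exact ⟨b, rfl⟩
    show (Algebra.adjoin A₀ (Set.range (algebraMap B (FractionRing B)))).FG
    rw [heq]; exact Subalgebra.fg_adjoin_finset _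
  haveI : FaithfulSMul A₀ B₁ := (faithfulSMul_iff_algebraMap_injective A₀ B₁).mpr
    (fun x y h => Subtype.ext (by
      have h' := congrArg (fun z : B₁ => (z : FractionRing B)) h
      exact h'))
  letI algRB₁ : Algebra R B₁ := ((algebraMap A₀ B₁).comp ρ).toAlgebra
  haveI : IsScalarTower R A₀ B₁ := IsScalarTower.of_algebraMap_eq fun _ => rfl
  letI algBB₁ : Algebra B B₁ := ψ.toAlgebra
  haveI : IsScalarTower R B B₁ := IsScalarTower.of_algebraMap_eq fun a => (hψρ a).symm
  haveI : FaithfulSMul B B₁ := (faithfulSMul_iff_algebraMap_injective B B₁).mpr hψinj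
  haveI : Algebra.IsAlgebraic B B₁ := ⟨fun x => by
    obtain ⟨b, b', hb', e⟩ := IsFractionRing.div_surjective B (x : FractionRing B)
    have hb'0 : b' ≠ 0 := nonZeroDivisors.ne_zero hb'
    have hb'L : algebraMap B (FractionRing B) b' ≠ 0 := (map_ne_zero_iff _ hinjBL).mpr hb'0
    refine ⟨C b' * X - C b, fun h => hb'0 ?_, ?_⟩
    · have := congrArg (fun p => p.coeff 1) h
      simpa using this
    · rw [map_sub, map_mul, aeval_C, aeval_C, aeval_X]
      apply Subtype.ext
      show algebraMap B (FractionRing B) b' * (x : FractionRing B) -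
        algebraMap B (FractionRing B) b = 0
      rw [← e]; field_simp; ring⟩
  have htr₁ : Algebra.trdeg A₀ B₁ = 1 := by
    have h1 : Algebra.trdeg R A₀ + Algebra.trdeg A₀ B₁ = Algebra.trdeg R B₁ := trdeg_add_eq R A₀
    have h2 : Algebra.trdeg R B + Algebra.trdeg B B₁ = Algebra.trdeg R B₁ := trdeg_add_eq R B
    rw [trdeg_eq_zero_iff.mpr (inferInstance : Algebra.IsAlgebraic R A₀), zero_add] at h1
    rw [trdeg_eq_zero_iff.mpr (inferInstance : Algebra.IsAlgebraic B B₁), add_zero, htr] at h2
    exact h1.trans h2.symm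
  -- the closed point
  have hB₁V : ∀ y ∈ B₁, y ∈ V := by
    intro y hy
    induction hy using Algebra.adjoin_induction with
    | mem y hy => obtain ⟨b, rfl⟩ := hy; exact hVb b
    | algebraMap a => exact hA₀V a
    | add x y _ _ hx hy => exact V.add_mem _ _ hx hy
    | mul x y _ _ hx hy => exact V.mul_mem _ _ hx hy
  let ι₁ : B₁ →+* V := (B₁.val : B₁ →+* FractionRing B).codRestrict V (fun x => hB₁V _ x.2)
  let q₁ : Ideal B₁ := (IsLocalRing.maximalIdeal V).comap ι₁
  haveI hq₁p : q₁.IsPrime := Ideal.comap_isPrime _ _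
  have hq₁mem : ∀ x : B₁, x ∈ q₁ ↔ ¬ IsUnit (⟨(x : FractionRing B), hB₁V _ x.2⟩ : V) := by
    intro x
    show ι₁ x ∈ IsLocalRing.maximalIdeal V ↔ _
    rw [IsLocalRing.mem_maximalIdeal, mem_nonunits_iff]; rfl
  have hψq₁ : ∀ b : B, ψ b ∈ q₁ ↔ b ∈ q' := by
    intro b
    rw [hq₁mem]
    constructor
    · intro h
      by_contra hb
      exact h ((hVunit b).mpr hb)
    · intro hb hu
      exact (hVunit b).mp hu hb
  have hmap : (IsLocalRing.maximalIdeal A₀).map (algebraMap A₀ B₁) ≤ q₁ := by
    rw [Ideal.map_le_iff_le_comap]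
    intro x hx
    rw [Ideal.mem_comap, hq₁mem]
    exact hN x hx
  haveI hlies : q₁.LiesOver (IsLocalRing.maximalIdeal A₀) :=
    liesOver_of_map_le q₁ hmap hq₁p.ne_top
  letI : Field (A₀ ⧸ IsLocalRing.maximalIdeal A₀) := Ideal.Quotient.field _
  haveI hint : Algebra.IsIntegral (A₀ ⧸ IsLocalRing.maximalIdeal A₀) (B₁ ⧸ q₁) := by
    refine ⟨fun z => ?_⟩
    obtain ⟨⟨y, hy⟩, rfl⟩ := Ideal.Quotient.mk_surjective z
    induction hy using Algebra.adjoin_induction with
    | mem y hy =>
      obtain ⟨b, rfl⟩ := hy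
      obtain ⟨p, ⟨i, hi⟩, hp⟩ := halg b
      let θ : R →+* A₀ ⧸ IsLocalRing.maximalIdeal A₀ :=
        (Ideal.Quotient.mk (IsLocalRing.maximalIdeal A₀)).comp ρ
      have hθ : (algebraMap (A₀ ⧸ IsLocalRing.maximalIdeal A₀) (B₁ ⧸ q₁)).comp θ =
          ((Ideal.Quotient.mk q₁).comp ψ).comp (algebraMap R B) := by
        ext a
        simp only [RingHom.coe_comp, Function.comp_apply, θ]
        rw [Ideal.Quotient.algebraMap_mk_of_liesOver q₁ (IsLocalRing.maximalIdeal A₀), hψρ]
      have hpne : p.map θ ≠ 0 := by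
        intro h0
        have h1 := congrArg (fun r => r.coeff i) h0
        simp only [coeff_map, coeff_zero] at h1
        exact hi (hρmem _ (Ideal.Quotient.eq_zero_iff_mem.mp h1))
      have hroot : aeval (Ideal.Quotient.mk q₁ (ψ b)) (p.map θ) = 0 := by
        rw [aeval_def, eval₂_map, hθ]
        have h1 := Polynomial.hom_eval₂ p (algebraMap R B) ((Ideal.Quotient.mk q₁).comp ψ) b
        have h2 : eval₂ (((Ideal.Quotient.mk q₁).comp ψ).comp (algebraMap R B))
            ((Ideal.Quotient.mk q₁) (ψ b)) p = (Ideal.Quotient.mk q₁) (ψ (aeval b p)) := h1.symm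
        rw [h2]
        exact Ideal.Quotient.eq_zero_iff_mem.mpr ((hψq₁ _).mpr hp)
      have halg' : IsAlgebraic (A₀ ⧸ IsLocalRing.maximalIdeal A₀)
          (Ideal.Quotient.mk q₁ (ψ b)) := ⟨p.map θ, hpne, hroot⟩
      exact isAlgebraic_iff_isIntegral.mp halg'
    | algebraMap a =>
      have h1 := isIntegral_algebraMap (R := A₀ ⧸ IsLocalRing.maximalIdeal A₀) (A := B₁ ⧸ q₁)
        (x := Ideal.Quotient.mk (IsLocalRing.maximalIdeal A₀) a)
      rw [Ideal.Quotient.algebraMap_mk_of_liesOver q₁ (IsLocalRing.maximalIdeal A₀)] at h1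
      exact h1
    | add x y hx hy ihx ihy =>
      have h1 : (⟨x + y, Subalgebra.add_mem _ hx hy⟩ : B₁) = ⟨x, hx⟩ + ⟨y, hy⟩ := rfl
      rw [h1, map_add]
      exact IsIntegral.add (R := A₀ ⧸ IsLocalRing.maximalIdeal A₀) (A := B₁ ⧸ q₁) ihx ihy
    | mul x y hx hy ihx ihy =>
      have h1 : (⟨x * y, Subalgebra.mul_mem _ hx hy⟩ : B₁) = ⟨x, hx⟩ * ⟨y, hy⟩ := rfl
      rw [h1, map_mul]
      exact IsIntegral.mul (R := A₀ ⧸ IsLocalRing.maximalIdeal A₀) (A := B₁ ⧸ q₁) ihx ihy
  haveI hq₁max : q₁.IsMaximal := Ideal.Quotient.maximal_of_isField _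
    (isField_of_isIntegral_of_isField' (R := A₀ ⧸ IsLocalRing.maximalIdeal A₀) (S := B₁ ⧸ q₁)
      (Field.toIsField (A₀ ⧸ IsLocalRing.maximalIdeal A₀)))
  have hψg : ψ g ≠ 0 := fun h0 => hg (hψinj (h0.trans (map_zero ψ).symm))
  obtain ⟨Q₁, hQ₁p, hQ₁ne, hQ₁le, hQ₁bot, hQ₁g⟩ :=
    exists_horizontal_prime_valuationRing (A := A₀) (B := B₁) hm₀ htr₁ q₁ hmap (ψ g) hψg
  refine ⟨Q₁.comap ψ, Ideal.comap_isPrime _ _, ?_, ?_, ?_, hQ₁g⟩
  · obtain ⟨x, hx, hx0⟩ := Submodule.exists_mem_ne_zero_of_ne_bot hQ₁ne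
    obtain ⟨b, b', hb', e⟩ := IsFractionRing.div_surjective B (x : FractionRing B)
    have hb'0 : b' ≠ 0 := nonZeroDivisors.ne_zero hb'
    have hb'L : algebraMap B (FractionRing B) b' ≠ 0 := (map_ne_zero_iff _ hinjBL).mpr hb'0
    have hxb : ψ b = x * ψ b' := Subtype.ext (by
      show algebraMap B (FractionRing B) b = (x : FractionRing B) * algebraMap B (FractionRing B) b'
      rw [← e]; field_simp)
    have hbQ : b ∈ Q₁.comap ψ := by
      rw [Ideal.mem_comap, hxb]; exact Q₁.mul_mem_right _ hx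
    have hb0 : b ≠ 0 := by
      rintro rfl
      rw [map_zero] at hxb
      rcases mul_eq_zero.mp hxb.symm with h | h
      · exact hx0 h
      · exact hb'0 (hψinj (h.trans (map_zero ψ).symm))
    intro hbot
    rw [hbot, Ideal.mem_bot] at hbQ
    exact hb0 hbQ
  · intro b hb
    exact (hψq₁ b).mp (hQ₁le hb)
  · rw [eq_bot_iff]
    intro a ha
    rw [Ideal.mem_comap, Ideal.mem_comap, hψρ, ← Ideal.mem_comap, hQ₁bot, Ideal.mem_bot] at ha
    rw [Ideal.mem_bot]
    exact hρinj (ha.trans (map_zero ρ).symm)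

end Groth.Agent.Helper22.ClFib
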