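import Groth.Agent.Lib.Helper22.ClFib5

/-!
# Closed points of fibres between a specialization (part 6)

The key lemma for arbitrary positive transcendence degree, and (by Zorn's lemma) the existence of
closed points of the generic fibre below a given closed point of a special fibre.
-/

set_option autoImplicit false
universe u

namespace Groth.Agent.Helper22.ClFib

open Polynomial

/-- The key lemma: if `A ⊆ B` is a finite type, non-algebraic extension of domains and `q'` is a
prime of `B` with `q' ∩ A ≠ 0` whose residue ring is algebraic over `A / (q' ∩ A)`, then there is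
a nonzero prime `Q ⊆ q'` with `Q ∩ A = 0` avoiding a given nonzero element. -/
theorem exists_horizontal_prime
    {A B : Type u} [CommRing A] [IsDomain A] [CommRing B] [IsDomain B] [Algebra A B]
    [FaithfulSMul A B] [Algebra.FiniteType A B] (hnalg : ¬ Algebra.IsAlgebraic A B)
    (q' : Ideal B) [q'.IsPrime] (hp' : q'.comap (algebraMap A B) ≠ ⊥)
    (halg : ∀ b : B, ∃ p : A[X], (∃ i, p.coeff i ∉ q'.comap (algebraMap A B)) ∧ aeval b p ∈ q')
    (g : B) (hg : g ≠ 0) :
    ∃ Q : Ideal B, Q.IsPrime ∧ Q ≠ ⊥ ∧ Q ≤ q' ∧ Q.comap (algebraMap A B) = ⊥ ∧ g ∉ Q := by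
  classical
  obtain ⟨ι, x, hx⟩ := exists_isTranscendenceBasis' A B
  have hne : Nonempty ι := by
    by_contra h
    rw [not_nonempty_iff] at h
    exact hnalg (hx.isEmpty_iff_isAlgebraic.mp h)
  obtain ⟨i₀⟩ := hne
  let A₁ : Subalgebra A B := Algebra.adjoin A (x '' {i₀}ᶜ)
  have htrans : Transcendental A₁ (x i₀) :=
    hx.1.transcendental_adjoin (s := {i₀}ᶜ) (i := i₀) (by simp)
  haveI halgB : Algebra.IsAlgebraic (Algebra.adjoin A₁ {x i₀}) B := by
    haveI := hx.isAlgebraic
    refine ⟨fun b => ?_⟩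
    have h1 : IsAlgebraic (Algebra.adjoin A (Set.range x)) b := Algebra.IsAlgebraic.isAlgebraic b
    have hle : Algebra.adjoin A (Set.range x) ≤
        (Algebra.adjoin A₁ {x i₀}).restrictScalars A := by
      rw [← Algebra.adjoin_union_eq_adjoin_adjoin]
      apply Algebra.adjoin_mono
      rintro _ ⟨i, rfl⟩
      by_cases hi : i = i₀
      · right; rw [hi]; rfl
      · left; exact ⟨i, hi, rfl⟩
    exact IsAlgebraic.tower_top_of_subalgebra_le hle h1
  have htr : Algebra.trdeg A₁ B = 1 := by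
    apply le_antisymm
    · have h1 := Algebra.IsAlgebraic.trdeg_le_cardinalMk A₁ ({x i₀} : Set B)
      rwa [Cardinal.mk_singleton] at h1
    · have hind : AlgebraicIndependent A₁ (fun _ : PUnit.{u+1} => x i₀) :=
        algebraicIndependent_unique_type_iff.mpr htrans
      have h1 := hind.cardinalMk_le_trdeg
      rwa [Cardinal.mk_fintype, Fintype.card_punit, Nat.cast_one] at h1
  haveI : FaithfulSMul A₁ B := (faithfulSMul_iff_algebraMap_injective A₁ B).mpr
    Subtype.val_injective
  haveI : Algebra.FiniteType A₁ B := Algebra.FiniteType.of_restrictScalars_finiteType A A₁ B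
  have hcomp : ∀ a : A, algebraMap A₁ B (algebraMap A A₁ a) = algebraMap A B a :=
    fun a => (IsScalarTower.algebraMap_apply A A₁ B a).symm
  have hinjAA₁ : Function.Injective (algebraMap A A₁) := fun a a' h =>
    FaithfulSMul.algebraMap_injective A B (by rw [← hcomp, ← hcomp, h])
  have hp₁' : q'.comap (algebraMap A₁ B) ≠ ⊥ := by
    obtain ⟨a, ha, ha0⟩ := Submodule.exists_mem_ne_zero_of_ne_bot hp'
    intro hbot
    have h1 : algebraMap A A₁ a ∈ q'.comap (algebraMap A₁ B) := by
      rw [Ideal.mem_comap, hcomp]; exact ha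
    rw [hbot, Ideal.mem_bot] at h1
    exact ha0 (hinjAA₁ (h1.trans (map_zero _).symm))
  have halg₁ : ∀ b : B, ∃ p : A₁[X],
      (∃ i, p.coeff i ∉ q'.comap (algebraMap A₁ B)) ∧ aeval b p ∈ q' := by
    intro b
    obtain ⟨p, ⟨i, hi⟩, hp⟩ := halg b
    refine ⟨p.map (algebraMap A A₁), ⟨i, ?_⟩, ?_⟩
    · rw [coeff_map, Ideal.mem_comap, hcomp]; exact hi
    · rw [aeval_map_algebraMap]; exact hp
  obtain ⟨Q, hQp, hQne, hQle, hQbot, hQg⟩ :=
    exists_horizontal_prime_of_trdeg_one (R := A₁) htr q' hp₁' halg₁ g hg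
  refine ⟨Q, hQp, hQne, hQle, ?_, hQg⟩
  rw [eq_bot_iff]
  intro a ha
  have h1 : algebraMap A A₁ a ∈ Q.comap (algebraMap A₁ B) := by
    rw [Ideal.mem_comap, hcomp]; exact ha
  rw [hQbot, Ideal.mem_bot] at h1
  rw [Ideal.mem_bot]
  exact hinjAA₁ (h1.trans (map_zero _).symm)

end Groth.Agent.Helper22.ClFib
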