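import Groth.Agent.Lib.Helper22.ClFib6

/-!
# Closed points of fibres between a specialization (part 7)

Closed points of the generic fibre below a closed point of a special fibre (Zorn's lemma on top of
the key lemma), a relative form of Zariski's lemma, and the general algebraic statement.
-/

set_option autoImplicit false
universe u

namespace Groth.Agent.Helper22.ClFib

open Polynomial

/-- Domain case: below a prime `q'` over a nonzero prime with algebraic residue ring there is a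
prime `Q` over `0`, avoiding `g`, which is maximal among primes over `0`. -/
theorem exists_closedPoint_genericFibre
    {A B : Type u} [CommRing A] [IsDomain A] [CommRing B] [IsDomain B] [Algebra A B]
    [FaithfulSMul A B] [Algebra.FiniteType A B]
    (q' : Ideal B) [hq'p : q'.IsPrime] (hp' : q'.comap (algebraMap A B) ≠ ⊥)
    (halg : ∀ b : B, ∃ p : A[X], (∃ i, p.coeff i ∉ q'.comap (algebraMap A B)) ∧ aeval b p ∈ q')
    (g : B) (hg : g ≠ 0) :
    ∃ Q : Ideal B, Q.IsPrime ∧ Q ≤ q' ∧ Q.comap (algebraMap A B) = ⊥ ∧ g ∉ Q ∧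
      ∀ Q' : Ideal B, Q'.IsPrime → Q ≤ Q' → Q'.comap (algebraMap A B) = ⊥ → Q' = Q := by
  classical
  let S : Set (Ideal B) := {Q | Q.IsPrime ∧ Q ≤ q' ∧ Q.comap (algebraMap A B) = ⊥ ∧ g ∉ Q}
  have hbot : (⊥ : Ideal B) ∈ S :=
    ⟨Ideal.isPrime_bot, bot_le,
      Ideal.comap_bot_of_injective _ (FaithfulSMul.algebraMap_injective A B),
      fun h => hg ((Ideal.mem_bot).mp h)⟩
  have hchain : ∀ c ⊆ S, IsChain (· ≤ ·) c → ∀ y ∈ c, ∃ ub ∈ S, ∀ z ∈ c, z ≤ ub := by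
    intro c hcS hc y hy
    have hne : c.Nonempty := ⟨y, hy⟩
    have hdir : DirectedOn (· ≤ ·) c := hc.directedOn
    have hmem : ∀ z : B, z ∈ sSup c ↔ ∃ I ∈ c, z ∈ I :=
      fun z => Submodule.mem_sSup_of_directed hne hdir
    refine ⟨sSup c, ⟨⟨?_, ?_⟩, ?_, ?_, ?_⟩, fun z hz => le_sSup hz⟩
    · rw [Ideal.ne_top_iff_one, hmem]
      rintro ⟨I, hI, h1⟩
      exact (hcS hI).1.ne_top ((Ideal.eq_top_iff_one I).mpr h1)
    · intro a b hab
      obtain ⟨I, hI, habI⟩ := (hmem _).mp hab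
      rcases (hcS hI).1.mem_or_mem habI with h | h
      · exact Or.inl ((hmem _).mpr ⟨I, hI, h⟩)
      · exact Or.inr ((hmem _).mpr ⟨I, hI, h⟩)
    · exact sSup_le fun I hI => (hcS hI).2.1
    · rw [eq_bot_iff]
      intro a ha
      obtain ⟨I, hI, haI⟩ := (hmem _).mp (Ideal.mem_comap.mp ha)
      have h1 : a ∈ I.comap (algebraMap A B) := haI
      rwa [(hcS hI).2.2.1] at h1
    · intro hgs
      obtain ⟨I, hI, hgI⟩ := (hmem _).mp hgs
      exact (hcS hI).2.2.2 hgI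
  obtain ⟨Q, -, hQmax⟩ := zorn_le_nonempty₀ S hchain ⊥ hbot
  obtain ⟨hQp, hQle, hQbot, hQg⟩ := hQmax.1
  refine ⟨Q, hQp, hQle, hQbot, hQg, fun Q' hQ'p hQQ' hQ'bot => ?_⟩
  by_contra hne
  -- the quotient domain `D = B ⧸ Q`
  haveI := hQp
  haveI : IsDomain (B ⧸ Q) := Ideal.Quotient.isDomain Q
  have hmkA : ∀ a : A, algebraMap A (B ⧸ Q) a = Ideal.Quotient.mk Q (algebraMap A B a) :=
    fun a => rfl
  have hinjD : Function.Injective (algebraMap A (B ⧸ Q)) := by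
    rw [injective_iff_map_eq_zero]
    intro a ha
    rw [hmkA, Ideal.Quotient.eq_zero_iff_mem] at ha
    have h1 : a ∈ Q.comap (algebraMap A B) := ha
    rwa [hQbot, Ideal.mem_bot] at h1
  haveI : FaithfulSMul A (B ⧸ Q) := (faithfulSMul_iff_algebraMap_injective A (B ⧸ Q)).mpr hinjD
  haveI : Algebra.FiniteType A (B ⧸ Q) :=
    Algebra.FiniteType.of_surjective (Ideal.Quotient.mkₐ A Q) (Ideal.Quotient.mkₐ_surjective A Q)
  -- `D` is not algebraic over `A`
  have hnalg : ¬ Algebra.IsAlgebraic A (B ⧸ Q) := by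
    intro halgD
    obtain ⟨b, hbQ', hbQ⟩ := SetLike.exists_of_lt (lt_of_le_of_ne hQQ' (Ne.symm hne))
    have hd0 : Ideal.Quotient.mk Q b ≠ 0 := fun h => hbQ (Ideal.Quotient.eq_zero_iff_mem.mp h)
    obtain ⟨a, ha0, hdvd⟩ := (Algebra.IsAlgebraic.isAlgebraic (R := A)
      (Ideal.Quotient.mk Q b)).exists_nonzero_dvd (mem_nonZeroDivisors_of_ne_zero hd0)
    have h1 : algebraMap A (B ⧸ Q) a ∈ Q'.map (Ideal.Quotient.mk Q) :=
      Ideal.mem_of_dvd _ hdvd (Ideal.mem_map_of_mem _ hbQ')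
    rw [hmkA, Ideal.mem_quotient_iff_mem hQQ'] at h1
    have h2 : a ∈ Q'.comap (algebraMap A B) := h1
    rw [hQ'bot, Ideal.mem_bot] at h2
    exact ha0 h2
  -- the image of `q'`
  haveI hqbp : (q'.map (Ideal.Quotient.mk Q)).IsPrime :=
    Ideal.map_isPrime_of_surjective Ideal.Quotient.mk_surjective (by rw [Ideal.mk_ker]; exact hQle)
  have hcomap : (q'.map (Ideal.Quotient.mk Q)).comap (algebraMap A (B ⧸ Q)) =
      q'.comap (algebraMap A B) := by
    ext a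
    rw [Ideal.mem_comap, hmkA, Ideal.mem_quotient_iff_mem hQle, Ideal.mem_comap]
  have hpb' : (q'.map (Ideal.Quotient.mk Q)).comap (algebraMap A (B ⧸ Q)) ≠ ⊥ := by
    rw [hcomap]; exact hp'
  have halgb : ∀ d : B ⧸ Q, ∃ p : A[X],
      (∃ i, p.coeff i ∉ (q'.map (Ideal.Quotient.mk Q)).comap (algebraMap A (B ⧸ Q))) ∧
        aeval d p ∈ q'.map (Ideal.Quotient.mk Q) := by
    intro d
    obtain ⟨b, rfl⟩ := Ideal.Quotient.mk_surjective d
    obtain ⟨p, hi, hp⟩ := halg b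
    refine ⟨p, by rwa [hcomap], ?_⟩
    have h1 : aeval (Ideal.Quotient.mk Q b) p = Ideal.Quotient.mk Q (aeval b p) :=
      aeval_algHom_apply (Ideal.Quotient.mkₐ A Q) b p
    rw [h1]
    exact Ideal.mem_map_of_mem _ hp
  have hgb : Ideal.Quotient.mk Q g ≠ 0 := fun h => hQg (Ideal.Quotient.eq_zero_iff_mem.mp h)
  obtain ⟨Q₂, hQ₂p, hQ₂ne, hQ₂le, hQ₂bot, hQ₂g⟩ :=
    exists_horizontal_prime hnalg (q'.map (Ideal.Quotient.mk Q)) hpb' halgb _ hgb
  have hmemS : Q₂.comap (Ideal.Quotient.mk Q) ∈ S := by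
    refine ⟨Ideal.comap_isPrime _ _, ?_, ?_, hQ₂g⟩
    · intro b hb
      exact (Ideal.mem_quotient_iff_mem hQle).mp (hQ₂le hb)
    · rw [eq_bot_iff]
      intro a ha
      have h1 : a ∈ Q₂.comap (algebraMap A (B ⧸ Q)) := ha
      rwa [hQ₂bot] at h1
  have hle : Q ≤ Q₂.comap (Ideal.Quotient.mk Q) := by
    intro b hb
    rw [Ideal.mem_comap, Ideal.Quotient.eq_zero_iff_mem.mpr hb]
    exact Q₂.zero_mem
  have hle' := hQmax.2 hmemS hle
  apply hQ₂ne
  rw [eq_bot_iff]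
  intro d hd
  obtain ⟨b, rfl⟩ := Ideal.Quotient.mk_surjective d
  rw [Ideal.mem_bot, Ideal.Quotient.eq_zero_iff_mem]
  exact hle' hd

end Groth.Agent.Helper22.ClFib
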