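import Groth.Agent.Lib.Helper22.ClFib7

/-!
# Closed points of fibres between a specialization (part 8)

A relative form of Zariski's lemma and the general algebraic statement on primes between a
specialization `q ⊆ q'` in a finite type algebra.
-/

set_option autoImplicit false
universe u

namespace Groth.Agent.Helper22.ClFib

open Polynomial

/-- Relative Zariski lemma: a finite type extension of domains `A ⊆ D` in which every prime of `D`
lying over `0` is zero, is algebraic. -/
theorem isAlgebraic_of_forall_prime_comap_eq_bot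
    {A D : Type u} [CommRing A] [IsDomain A] [CommRing D] [IsDomain D] [Algebra A D]
    [FaithfulSMul A D] [Algebra.FiniteType A D]
    (H : ∀ P : Ideal D, P.IsPrime → P.comap (algebraMap A D) = ⊥ → P = ⊥) :
    Algebra.IsAlgebraic A D := by
  classical
  have hM : Algebra.algebraMapSubmonoid D (nonZeroDivisors A) ≤ nonZeroDivisors D := by
    rintro _ ⟨a, ha, rfl⟩
    exact mem_nonZeroDivisors_of_ne_zero
      ((map_ne_zero_iff _ (FaithfulSMul.algebraMap_injective A D)).mpr (nonZeroDivisors.ne_zero ha))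
  haveI : IsDomain (Localization (Algebra.algebraMapSubmonoid D (nonZeroDivisors A))) :=
    IsLocalization.isDomain_localization hM
  have hinj : Function.Injective
      (algebraMap D (Localization (Algebra.algebraMapSubmonoid D (nonZeroDivisors A)))) :=
    IsLocalization.injective _ hM
  have hfield : IsField (Localization (Algebra.algebraMapSubmonoid D (nonZeroDivisors A))) := by
    by_contra hnf
    obtain ⟨P', hP'ne, hP'p⟩ := Ring.not_isField_iff_exists_prime.mp hnf
    have hP : P'.comap (algebraMap D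
        (Localization (Algebra.algebraMapSubmonoid D (nonZeroDivisors A)))) = ⊥ := by
      apply H _ (Ideal.comap_isPrime _ _)
      rw [eq_bot_iff]
      intro a ha
      rw [Ideal.mem_bot]
      by_contra ha0
      have hu : IsUnit (algebraMap D
          (Localization (Algebra.algebraMapSubmonoid D (nonZeroDivisors A)))
          (algebraMap A D a)) :=
        IsLocalization.map_units _ (⟨algebraMap A D a,
          ⟨a, mem_nonZeroDivisors_of_ne_zero ha0, rfl⟩⟩ :
          Algebra.algebraMapSubmonoid D (nonZeroDivisors A))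
      exact hP'p.ne_top (Ideal.eq_top_of_isUnit_mem _ ha hu)
    apply hP'ne
    have h1 := IsLocalization.map_under (Algebra.algebraMapSubmonoid D (nonZeroDivisors A))
      (Localization (Algebra.algebraMapSubmonoid D (nonZeroDivisors A))) P'
    rw [← h1, Ideal.under_def, hP, Ideal.map_bot]
  letI : Field (Localization (Algebra.algebraMapSubmonoid D (nonZeroDivisors A))) :=
    hfield.toField
  haveI : Algebra.FiniteType (FractionRing A)
      (Localization (Algebra.algebraMapSubmonoid D (nonZeroDivisors A))) := by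
    rw [← RingHom.finiteType_algebraMap]
    haveI : IsLocalization (Submonoid.map (algebraMap A D) (nonZeroDivisors A))
        (Localization (Algebra.algebraMapSubmonoid D (nonZeroDivisors A))) :=
      inferInstanceAs (IsLocalization (Algebra.algebraMapSubmonoid D (nonZeroDivisors A)) _)
    exact RingHom.finiteType_localizationPreserves (algebraMap A D) (nonZeroDivisors A)
      (FractionRing A) (Localization (Algebra.algebraMapSubmonoid D (nonZeroDivisors A)))
      (RingHom.finiteType_algebraMap.mpr inferInstance)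
  haveI : Module.Finite (FractionRing A)
      (Localization (Algebra.algebraMapSubmonoid D (nonZeroDivisors A))) :=
    finite_of_finite_type_of_isJacobsonRing _ _
  refine ⟨fun d => ?_⟩
  have h1 : IsAlgebraic (FractionRing A) (algebraMap D
      (Localization (Algebra.algebraMapSubmonoid D (nonZeroDivisors A))) d) :=
    Algebra.IsAlgebraic.isAlgebraic _
  have h2 : IsAlgebraic A (algebraMap D
      (Localization (Algebra.algebraMapSubmonoid D (nonZeroDivisors A))) d) :=
    (IsFractionRing.isAlgebraic_iff A (FractionRing A) _).mpr h1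
  exact (isAlgebraic_algebraMap_iff hinj).mp h2


/-- If `q'` is maximal among the primes of the finite type `A`-algebra `B` with the same
contraction to `A`, then `B ⧸ q'` is algebraic over `A ⧸ (q' ∩ A)`, in polynomial form. -/
theorem exists_polynomial_of_closed
    {A B : Type u} [CommRing A] [CommRing B] [Algebra A B] [Algebra.FiniteType A B]
    (q' : Ideal B) [hq'p : q'.IsPrime]
    (hcl : ∀ Q : Ideal B, Q.IsPrime → q' ≤ Q →
      Q.comap (algebraMap A B) = q'.comap (algebraMap A B) → Q = q') (b : B) :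
    ∃ P : A[X], (∃ i, P.coeff i ∉ q'.comap (algebraMap A B)) ∧ aeval b P ∈ q' := by
  classical
  haveI hp'p : (q'.comap (algebraMap A B)).IsPrime := Ideal.comap_isPrime _ _
  haveI : q'.LiesOver (q'.comap (algebraMap A B)) := ⟨rfl⟩
  haveI : IsDomain (A ⧸ q'.comap (algebraMap A B)) := Ideal.Quotient.isDomain _
  haveI : IsDomain (B ⧸ q') := Ideal.Quotient.isDomain _
  have hmk : ∀ a : A, algebraMap (A ⧸ q'.comap (algebraMap A B)) (B ⧸ q')
      (Ideal.Quotient.mk _ a) = Ideal.Quotient.mk q' (algebraMap A B a) :=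
    fun a => Ideal.Quotient.algebraMap_mk_of_liesOver q' (q'.comap (algebraMap A B)) a
  have hinj : Function.Injective (algebraMap (A ⧸ q'.comap (algebraMap A B)) (B ⧸ q')) := by
    rw [injective_iff_map_eq_zero]
    intro z hz
    obtain ⟨a, rfl⟩ := Ideal.Quotient.mk_surjective z
    rw [hmk, Ideal.Quotient.eq_zero_iff_mem] at hz
    exact Ideal.Quotient.eq_zero_iff_mem.mpr hz
  haveI : FaithfulSMul (A ⧸ q'.comap (algebraMap A B)) (B ⧸ q') :=
    (faithfulSMul_iff_algebraMap_injective _ _).mpr hinj
  haveI : Algebra.FiniteType A (B ⧸ q') :=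
    Algebra.FiniteType.of_surjective (Ideal.Quotient.mkₐ A q') (Ideal.Quotient.mkₐ_surjective A q')
  haveI : Algebra.FiniteType (A ⧸ q'.comap (algebraMap A B)) (B ⧸ q') :=
    Algebra.FiniteType.of_restrictScalars_finiteType A _ _
  haveI halgD : Algebra.IsAlgebraic (A ⧸ q'.comap (algebraMap A B)) (B ⧸ q') := by
    apply isAlgebraic_of_forall_prime_comap_eq_bot
    intro P hPp hP
    have hQ : P.comap (Ideal.Quotient.mk q') = q' := by
      apply hcl _ (Ideal.comap_isPrime _ _)
      · intro x hx
        rw [Ideal.mem_comap, Ideal.Quotient.eq_zero_iff_mem.mpr hx]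
        exact P.zero_mem
      · ext a
        rw [Ideal.mem_comap, Ideal.mem_comap, ← hmk, ← Ideal.mem_comap, hP, Ideal.mem_bot,
          Ideal.Quotient.eq_zero_iff_mem]
    rw [eq_bot_iff]
    intro d hd
    obtain ⟨x, rfl⟩ := Ideal.Quotient.mk_surjective d
    have hx : x ∈ P.comap (Ideal.Quotient.mk q') := hd
    rw [hQ] at hx
    rw [Ideal.mem_bot]
    exact Ideal.Quotient.eq_zero_iff_mem.mpr hx
  obtain ⟨Pt, hPt0, hPt⟩ := halgD.isAlgebraic (Ideal.Quotient.mk q' b)
  obtain ⟨P, rfl⟩ := Polynomial.map_surjective (Ideal.Quotient.mk (q'.comap (algebraMap A B)))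
    Ideal.Quotient.mk_surjective Pt
  refine ⟨P, ?_, ?_⟩
  · by_contra hcon
    push_neg at hcon
    apply hPt0
    ext i
    rw [coeff_map, coeff_zero]
    exact Ideal.Quotient.eq_zero_iff_mem.mpr (hcon i)
  · have h1 : aeval (Ideal.Quotient.mk q' b)
        (P.map (algebraMap A (A ⧸ q'.comap (algebraMap A B)))) =
        Ideal.Quotient.mk q' (aeval b P) := by
      rw [aeval_map_algebraMap]
      exact aeval_algHom_apply (Ideal.Quotient.mkₐ A q') b P
    have h2 : Ideal.Quotient.mk q' (aeval b P) = 0 := by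
      rw [← h1]; exact hPt
    exact Ideal.Quotient.eq_zero_iff_mem.mp h2

/-- The algebraic form of the density of closed points of the fibre between a specialization. -/
theorem exists_prime_between
    {A B : Type u} [CommRing A] [CommRing B] [Algebra A B] [Algebra.FiniteType A B]
    (q q' : Ideal B) [hqp : q.IsPrime] [hq'p : q'.IsPrime] (hle : q ≤ q')
    (hne : q.comap (algebraMap A B) ≠ q'.comap (algebraMap A B))
    (hcl : ∀ Q : Ideal B, Q.IsPrime → q' ≤ Q →
      Q.comap (algebraMap A B) = q'.comap (algebraMap A B) → Q = q')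
    (g : B) (hg : g ∉ q) :
    ∃ q₁ : Ideal B, q₁.IsPrime ∧ q ≤ q₁ ∧ q₁ ≤ q' ∧
      q₁.comap (algebraMap A B) = q.comap (algebraMap A B) ∧ g ∉ q₁ ∧
      ∀ Q : Ideal B, Q.IsPrime → q₁ ≤ Q →
        Q.comap (algebraMap A B) = q.comap (algebraMap A B) → Q = q₁ := by
  classical
  have halg' := exists_polynomial_of_closed q' hcl
  haveI hpp : (q.comap (algebraMap A B)).IsPrime := Ideal.comap_isPrime _ _
  haveI : q.LiesOver (q.comap (algebraMap A B)) := ⟨rfl⟩
  haveI : IsDomain (A ⧸ q.comap (algebraMap A B)) := Ideal.Quotient.isDomain _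
  haveI : IsDomain (B ⧸ q) := Ideal.Quotient.isDomain _
  have hmk : ∀ a : A, algebraMap (A ⧸ q.comap (algebraMap A B)) (B ⧸ q)
      (Ideal.Quotient.mk _ a) = Ideal.Quotient.mk q (algebraMap A B a) :=
    fun a => Ideal.Quotient.algebraMap_mk_of_liesOver q (q.comap (algebraMap A B)) a
  have hinj : Function.Injective (algebraMap (A ⧸ q.comap (algebraMap A B)) (B ⧸ q)) := by
    rw [injective_iff_map_eq_zero]
    intro z hz
    obtain ⟨a, rfl⟩ := Ideal.Quotient.mk_surjective z
    rw [hmk, Ideal.Quotient.eq_zero_iff_mem] at hz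
    exact Ideal.Quotient.eq_zero_iff_mem.mpr hz
  haveI : FaithfulSMul (A ⧸ q.comap (algebraMap A B)) (B ⧸ q) :=
    (faithfulSMul_iff_algebraMap_injective _ _).mpr hinj
  haveI : Algebra.FiniteType A (B ⧸ q) :=
    Algebra.FiniteType.of_surjective (Ideal.Quotient.mkₐ A q) (Ideal.Quotient.mkₐ_surjective A q)
  haveI : Algebra.FiniteType (A ⧸ q.comap (algebraMap A B)) (B ⧸ q) :=
    Algebra.FiniteType.of_restrictScalars_finiteType A _ _
  haveI hqbp : (q'.map (Ideal.Quotient.mk q)).IsPrime :=
    Ideal.map_isPrime_of_surjective Ideal.Quotient.mk_surjective (by rw [Ideal.mk_ker]; exact hle)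
  -- membership in the contraction of the image of an ideal containing `q`
  have hmemc : ∀ (J : Ideal B), q ≤ J → ∀ a : A,
      Ideal.Quotient.mk (q.comap (algebraMap A B)) a ∈
        (J.map (Ideal.Quotient.mk q)).comap (algebraMap (A ⧸ q.comap (algebraMap A B)) (B ⧸ q)) ↔
      a ∈ J.comap (algebraMap A B) := by
    intro J hJ a
    rw [Ideal.mem_comap, hmk, Ideal.mem_quotient_iff_mem hJ, Ideal.mem_comap]
  have hpb' : (q'.map (Ideal.Quotient.mk q)).comap
      (algebraMap (A ⧸ q.comap (algebraMap A B)) (B ⧸ q)) ≠ ⊥ := by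
    have hpp' : q.comap (algebraMap A B) ≤ q'.comap (algebraMap A B) := Ideal.comap_mono hle
    obtain ⟨a, hap', hap⟩ := SetLike.exists_of_lt (lt_of_le_of_ne hpp' hne)
    intro hbot
    have h1 := (hmemc q' hle a).mpr hap'
    rw [hbot, Ideal.mem_bot, Ideal.Quotient.eq_zero_iff_mem] at h1
    exact hap h1
  have halgb : ∀ d : B ⧸ q, ∃ P : (A ⧸ q.comap (algebraMap A B))[X],
      (∃ i, P.coeff i ∉ (q'.map (Ideal.Quotient.mk q)).comap
        (algebraMap (A ⧸ q.comap (algebraMap A B)) (B ⧸ q))) ∧
      aeval d P ∈ q'.map (Ideal.Quotient.mk q) := by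
    intro d
    obtain ⟨b, rfl⟩ := Ideal.Quotient.mk_surjective d
    obtain ⟨P, ⟨i, hi⟩, hP⟩ := halg' b
    refine ⟨P.map (Ideal.Quotient.mk (q.comap (algebraMap A B))), ⟨i, ?_⟩, ?_⟩
    · rw [coeff_map, hmemc q' hle]; exact hi
    · have h1 : aeval (Ideal.Quotient.mk q b)
          (P.map (algebraMap A (A ⧸ q.comap (algebraMap A B)))) =
          Ideal.Quotient.mk q (aeval b P) := by
        rw [aeval_map_algebraMap]
        exact aeval_algHom_apply (Ideal.Quotient.mkₐ A q) b P
      have h2 : aeval (Ideal.Quotient.mk q b)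
          (P.map (Ideal.Quotient.mk (q.comap (algebraMap A B)))) =
          Ideal.Quotient.mk q (aeval b P) := h1
      rw [h2]
      exact Ideal.mem_map_of_mem _ hP
  have hgb : Ideal.Quotient.mk q g ≠ 0 := fun h => hg (Ideal.Quotient.eq_zero_iff_mem.mp h)
  obtain ⟨Qb, hQbp, hQble, hQbbot, hQbg, hQbmax⟩ :=
    exists_closedPoint_genericFibre (q'.map (Ideal.Quotient.mk q)) hpb' halgb _ hgb
  have hqle₁ : q ≤ Qb.comap (Ideal.Quotient.mk q) := by
    intro x hx
    rw [Ideal.mem_comap, Ideal.Quotient.eq_zero_iff_mem.mpr hx]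
    exact Qb.zero_mem
  have hmapcomap : (Qb.comap (Ideal.Quotient.mk q)).map (Ideal.Quotient.mk q) = Qb :=
    Ideal.map_comap_of_surjective _ Ideal.Quotient.mk_surjective _
  have hcomap₁ : (Qb.comap (Ideal.Quotient.mk q)).comap (algebraMap A B) =
      q.comap (algebraMap A B) := by
    ext a
    rw [← hmemc _ hqle₁, hmapcomap, hQbbot, Ideal.mem_bot, Ideal.Quotient.eq_zero_iff_mem]
  refine ⟨Qb.comap (Ideal.Quotient.mk q), Ideal.comap_isPrime _ _, hqle₁, ?_, hcomap₁, hQbg, ?_⟩
  · intro x hx
    exact (Ideal.mem_quotient_iff_mem hle).mp (hQble hx)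
  · intro Q hQp hQ₁Q hQcomap
    have hqQ : q ≤ Q := hqle₁.trans hQ₁Q
    haveI hQmp : (Q.map (Ideal.Quotient.mk q)).IsPrime :=
      Ideal.map_isPrime_of_surjective Ideal.Quotient.mk_surjective (by rw [Ideal.mk_ker]; exact hqQ)
    have hle' : Qb ≤ Q.map (Ideal.Quotient.mk q) := by
      rw [← hmapcomap]; exact Ideal.map_mono hQ₁Q
    have hbot' : (Q.map (Ideal.Quotient.mk q)).comap
        (algebraMap (A ⧸ q.comap (algebraMap A B)) (B ⧸ q)) = ⊥ := by
      rw [eq_bot_iff]
      intro z hz
      obtain ⟨a, rfl⟩ := Ideal.Quotient.mk_surjective z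
      rw [hmemc Q hqQ, hQcomap] at hz
      rw [Ideal.mem_bot]
      exact Ideal.Quotient.eq_zero_iff_mem.mpr hz
    have heq := hQbmax _ hQmp hle' hbot'
    have h1 : (Q.map (Ideal.Quotient.mk q)).comap (Ideal.Quotient.mk q) = Q := by
      rw [Ideal.comap_map_of_surjective _ Ideal.Quotient.mk_surjective, ← RingHom.ker_eq_comap_bot,
        Ideal.mk_ker, sup_eq_left]
      exact hqQ
    rw [← h1, heq]

end Groth.Agent.Helper22.ClFib
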