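import Mathlib

/-!
# Closed subalgebras of `k⟦X⟧` over which `k⟦X⟧` is finite: modules containing elements of all
large orders contain all power series of large order (Nakayama + closedness).
-/

namespace Groth.Agent.Helper22.ClosedSub

open PowerSeries

variable {k : Type*} [Field k]

theorem not_finite_powerSeries : ¬ Module.Finite k (PowerSeries k) := by
  intro h
  haveI : IsNoetherian k (PowerSeries k) := IsNoetherian.iff_fg.mpr h
  have hinj : Function.Injective (Polynomial.coeToPowerSeries.algHom (R := k) k).toLinearMap := by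
    intro p q hpq
    apply Polynomial.coe_injective k
    have h1 : Polynomial.coeToPowerSeries.algHom (R := k) k p =
        Polynomial.coeToPowerSeries.algHom (R := k) k q := hpq
    simpa [Polynomial.coeToPowerSeries.algHom_apply] using h1
  have : Module.Finite k (Polynomial k) := Module.Finite.of_injective _ hinj
  exact Polynomial.not_finite this

variable {A : Subalgebra k (PowerSeries k)}

theorem exists_pos_order (hA : Module.Finite ↥A (PowerSeries k)) :
    ∃ a ∈ A, ∃ e : ℕ, 1 ≤ e ∧ PowerSeries.order a = e := by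
  by_contra hcon
  push Not at hcon
  have hconst : ∀ a ∈ A, a = C (constantCoeff a) := by
    intro a ha
    by_contra hne
    have hbA : a - C (constantCoeff a) ∈ A := A.sub_mem ha (A.algebraMap_mem _)
    have hb0 : a - C (constantCoeff a) ≠ 0 := fun h => hne (sub_eq_zero.mp h)
    have hord : order (a - C (constantCoeff a)) = ((order (a - C (constantCoeff a))).toNat : ℕ∞) :=
      (coe_toNat_order hb0).symm
    have h1 : 1 ≤ (order (a - C (constantCoeff a))).toNat := by
      have h2 : constantCoeff (a - C (constantCoeff a)) = 0 := by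
        rw [map_sub, constantCoeff_C, sub_self]
      have h3 := one_le_order_iff_constCoeff_eq_zero.mpr h2
      rw [hord] at h3
      exact_mod_cast h3
    exact hcon _ hbA _ h1 hord
  have hAbot : A = ⊥ := by
    rw [eq_bot_iff]
    intro a ha
    rw [hconst a ha]
    exact Subalgebra.algebraMap_mem ⊥ _
  subst hAbot
  haveI : Module.Finite k (⊥ : Subalgebra k (PowerSeries k)) := Subalgebra.finite_bot
  exact not_finite_powerSeries
    (Module.Finite.trans (⊥ : Subalgebra k (PowerSeries k)) (PowerSeries k))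

theorem mem_jacobson
    (hcl : ∀ f : PowerSeries k,
      (∀ n : ℕ, ∃ g ∈ A, (n : ℕ∞) ≤ PowerSeries.order (f - g)) → f ∈ A)
    {a : PowerSeries k} (ha : a ∈ A) (ha0 : constantCoeff a = 0) :
    (⟨a, ha⟩ : ↥A) ∈ Ideal.jacobson (⊥ : Ideal ↥A) := by
  rw [Ideal.mem_jacobson_bot]
  intro y
  have hwA : a * (y : PowerSeries k) ∈ A := A.mul_mem ha y.2
  have hw0 : constantCoeff (a * (y : PowerSeries k)) = 0 := by rw [map_mul, ha0, zero_mul]
  have hu : constantCoeff (1 + a * (y : PowerSeries k)) ≠ 0 := by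
    rw [map_add, map_one, hw0, add_zero]; exact one_ne_zero
  have hz1 : (1 + a * (y : PowerSeries k)) * (1 + a * (y : PowerSeries k))⁻¹ = 1 :=
    PowerSeries.mul_inv_cancel _ hu
  have hzA : (1 + a * (y : PowerSeries k))⁻¹ ∈ A := by
    apply hcl
    intro n
    refine ⟨∑ i ∈ Finset.range n, (-(a * (y : PowerSeries k))) ^ i,
      A.sum_mem (fun i _ => A.pow_mem (A.neg_mem hwA) i), ?_⟩
    have hg : (1 + a * (y : PowerSeries k)) * ∑ i ∈ Finset.range n, (-(a * (y : PowerSeries k))) ^ i =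
        1 - (-(a * (y : PowerSeries k))) ^ n := by
      have := mul_neg_geom_sum (-(a * (y : PowerSeries k))) n
      rwa [sub_neg_eq_add] at this
    have hdiff : (1 + a * (y : PowerSeries k))⁻¹ -
        ∑ i ∈ Finset.range n, (-(a * (y : PowerSeries k))) ^ i =
        (1 + a * (y : PowerSeries k))⁻¹ * (-(a * (y : PowerSeries k))) ^ n := by
      have h1 : (1 + a * (y : PowerSeries k))⁻¹ -
          ∑ i ∈ Finset.range n, (-(a * (y : PowerSeries k))) ^ i =
          (1 + a * (y : PowerSeries k))⁻¹ * (1 - (1 + a * (y : PowerSeries k)) *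
            ∑ i ∈ Finset.range n, (-(a * (y : PowerSeries k))) ^ i) := by
        rw [mul_sub, mul_one, ← mul_assoc, mul_comm _ (1 + a * (y : PowerSeries k)), hz1, one_mul]
      rw [h1, hg]
      ring
    rw [hdiff]
    have h1 : (n : ℕ∞) ≤ order ((-(a * (y : PowerSeries k))) ^ n) :=
      le_order_pow_of_constantCoeff_eq_zero n (by rw [map_neg, hw0, neg_zero])
    exact le_trans (le_trans h1 le_add_self) (le_order_mul _ _)
  refine IsUnit.of_mul_eq_one (⟨(1 + a * (y : PowerSeries k))⁻¹, hzA⟩ : ↥A) ?_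
  apply Subtype.ext
  show (a * (y : PowerSeries k) + 1) * (1 + a * (y : PowerSeries k))⁻¹ = 1
  rw [add_comm]
  exact hz1

theorem approx (N : Submodule ↥A (PowerSeries k)) (c : ℕ)
    (hN : ∀ n : ℕ, c ≤ n → ∃ h ∈ N, PowerSeries.order h = n) (f : PowerSeries k)
    (hf : (c : ℕ∞) ≤ order f) (j : ℕ) :
    ∃ h ∈ N, ((c + j : ℕ) : ℕ∞) ≤ order (f - h) := by
  induction j with
  | zero => exact ⟨0, N.zero_mem, by rw [sub_zero]; exact hf⟩
  | succ j ih =>
    obtain ⟨h, hhN, hh⟩ := ih
    by_cases hlt : ((c + (j + 1) : ℕ) : ℕ∞) ≤ order (f - h)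
    · exact ⟨h, hhN, hlt⟩
    · obtain ⟨h₁, h₁N, h₁ord⟩ := hN (c + j) (Nat.le_add_right c j)
      obtain ⟨hne, hlow⟩ := order_eq_nat.mp h₁ord
      set lam : k := coeff (c + j) (f - h) / coeff (c + j) h₁ with hlam
      have hsm : lam • h₁ ∈ N := by
        have : lam • h₁ = (algebraMap k ↥A lam) • h₁ := (algebraMap_smul ↥A lam h₁).symm
        rw [this]
        exact N.smul_mem _ h₁N
      refine ⟨h + lam • h₁, N.add_mem hhN hsm, ?_⟩
      have e : f - (h + lam • h₁) = (f - h) - lam • h₁ := by abel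
      rw [e]
      have hc : ((c + (j + 1) : ℕ) : ℕ∞) = ((c + j + 1 : ℕ) : ℕ∞) := by rw [add_assoc]
      rw [hc]
      apply nat_le_order
      intro i hi
      rw [map_sub, coeff_smul, smul_eq_mul]
      rcases Nat.lt_succ_iff_lt_or_eq.mp hi with hi' | rfl
      · rw [coeff_of_lt_order i (lt_of_lt_of_le (by exact_mod_cast hi') hh), hlow i hi', mul_zero,
          sub_zero]
      · rw [hlam, div_mul_cancel₀ _ hne, sub_self]

theorem exists_eq_mul {a r : PowerSeries k} {e c : ℕ} (ha : order a = e)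
    (hr : ((c + e : ℕ) : ℕ∞) ≤ order r) : ∃ q : PowerSeries k, (c : ℕ∞) ≤ order q ∧ r = a * q := by
  have hane : a ≠ 0 := by
    intro h; rw [h, order_zero] at ha; exact ENat.top_ne_coe e ha
  have hae : (order a).toNat = e := by rw [ha]; rfl
  have ha1 : X ^ e * divXPowOrder a = a := by
    have := X_pow_order_mul_divXPowOrder (f := a)
    rwa [hae] at this
  have hc1 : constantCoeff (divXPowOrder a) ≠ 0 := by
    rw [Ne, constantCoeff_divXPowOrder_eq_zero_iff]; exact hane
  obtain ⟨r₁, hr₁⟩ : (X : PowerSeries k) ^ (c + e) ∣ r := by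
    rw [X_pow_dvd_iff]
    intro m hm
    exact coeff_of_lt_order m (lt_of_lt_of_le (by exact_mod_cast hm) hr)
  refine ⟨X ^ c * (r₁ * (divXPowOrder a)⁻¹), ?_, ?_⟩
  · calc (c : ℕ∞) = order ((X : PowerSeries k) ^ c) := (order_X_pow c).symm
      _ ≤ order ((X : PowerSeries k) ^ c) + order (r₁ * (divXPowOrder a)⁻¹) := le_self_add
      _ ≤ _ := le_order_mul _ _
  · have h2 : divXPowOrder a * (divXPowOrder a)⁻¹ = 1 := PowerSeries.mul_inv_cancel _ hc1
    calc r = X ^ (c + e) * r₁ := hr₁
      _ = (X ^ e * (divXPowOrder a * (divXPowOrder a)⁻¹)) * (X ^ c * r₁) := by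
        rw [h2, mul_one, pow_add]; ring
      _ = (X ^ e * divXPowOrder a) * (X ^ c * (r₁ * (divXPowOrder a)⁻¹)) := by ring
      _ = a * (X ^ c * (r₁ * (divXPowOrder a)⁻¹)) := by rw [ha1]

/-- the key lemma -/
theorem mem_of_orders (hA : Module.Finite ↥A (PowerSeries k))
    (hcl : ∀ f : PowerSeries k,
      (∀ n : ℕ, ∃ g ∈ A, (n : ℕ∞) ≤ PowerSeries.order (f - g)) → f ∈ A)
    (N : Submodule ↥A (PowerSeries k)) (c : ℕ)
    (hN : ∀ n : ℕ, c ≤ n → ∃ h ∈ N, PowerSeries.order h = n) (f : PowerSeries k)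
    (hf : (c : ℕ∞) ≤ order f) : f ∈ N := by
  obtain ⟨a, haA, e, he1, hae⟩ := exists_pos_order hA
  have ha0 : constantCoeff a = 0 := by
    apply one_le_order_iff_constCoeff_eq_zero.mp
    rw [hae]; exact_mod_cast he1
  set P : Submodule ↥A (PowerSeries k) :=
    Submodule.map (LinearMap.mulLeft ↥A ((X : PowerSeries k) ^ c)) ⊤ with hP
  have hPmem : ∀ g : PowerSeries k, (c : ℕ∞) ≤ order g → g ∈ P := by
    intro g hg
    obtain ⟨g₁, hg₁⟩ : (X : PowerSeries k) ^ c ∣ g := by
      rw [X_pow_dvd_iff]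
      intro m hm
      exact coeff_of_lt_order m (lt_of_lt_of_le (by exact_mod_cast hm) hg)
    exact ⟨g₁, Submodule.mem_top, hg₁.symm⟩
  have hPord : ∀ g ∈ P, (c : ℕ∞) ≤ order g := by
    rintro g ⟨g₁, -, rfl⟩
    show (c : ℕ∞) ≤ order ((X : PowerSeries k) ^ c * g₁)
    calc (c : ℕ∞) = order ((X : PowerSeries k) ^ c) := (order_X_pow c).symm
      _ ≤ order ((X : PowerSeries k) ^ c) + order g₁ := le_self_add
      _ ≤ _ := le_order_mul _ _
  have hPfg : P.FG := Submodule.FG.map _ hA.1
  have hIJ : Ideal.span {(⟨a, haA⟩ : ↥A)} ≤ Ideal.jacobson (⊥ : Ideal ↥A) := by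
    rw [Ideal.span_le, Set.singleton_subset_iff]
    exact mem_jacobson hcl haA ha0
  have hNN : P ≤ N ⊔ Ideal.span {(⟨a, haA⟩ : ↥A)} • P := by
    intro g hg
    obtain ⟨h, hhN, hh⟩ := approx N c hN g (hPord g hg) e
    obtain ⟨q, hq, hgq⟩ := exists_eq_mul hae hh
    have e1 : g = h + (⟨a, haA⟩ : ↥A) • q := by
      have : (⟨a, haA⟩ : ↥A) • q = a * q := rfl
      rw [this, ← hgq]; abel
    rw [e1]
    exact Submodule.add_mem_sup hhN
      (Submodule.smul_mem_smul (Ideal.mem_span_singleton_self _) (hPmem q hq))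
  exact Submodule.le_of_le_smul_of_le_jacobson_bot hPfg hIJ hNN (hPmem f hf)

end Groth.Agent.Helper22.ClosedSub
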