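import Mathlib
import Groth.Agent.Lib.Lead.RLR1

/-!
# Regularity of a Weierstrass model with `a₃, a₄, a₆ ∈ m`, `a₆ ∉ m²` over a DVR
-/

set_option autoImplicit false
universe u

namespace Groth.Agent.Helper22.WeierReg2

open Polynomial IsLocalRing
open scoped Polynomial.Bivariate

/-! ### Quotient of a regular local ring by a regular parameter, globalised -/

theorem algebraMapSubmonoid_eq {A : Type u} [CommRing A] (I : Ideal A) (n : Ideal A) [n.IsPrime]
    (P : Ideal (A ⧸ I)) [P.IsPrime] (hP : P.comap (Ideal.Quotient.mk I) = n) :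
    Algebra.algebraMapSubmonoid (A ⧸ I) n.primeCompl = P.primeCompl := by
  ext b
  show b ∈ Submonoid.map (algebraMap A (A ⧸ I)) n.primeCompl ↔ b ∈ P.primeCompl
  rw [Submonoid.mem_map]
  constructor
  · rintro ⟨a, ha, rfl⟩
    show algebraMap A (A ⧸ I) a ∉ P
    intro hb
    have ha' : a ∉ n := ha
    apply ha'
    rw [← hP]
    exact hb
  · intro hb
    obtain ⟨a, rfl⟩ := Ideal.Quotient.mk_surjective b
    refine ⟨a, ?_, rfl⟩
    show a ∉ n
    intro ha
    have hb' : Ideal.Quotient.mk I a ∉ P := hb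
    apply hb'
    rw [← hP] at ha
    exact ha

theorem regular_quotient {A : Type u} [CommRing A] (F : A) (n : Ideal A) [n.IsPrime]
    [IsRegularLocalRing (Localization.AtPrime n)]
    (hF : F ∈ n)
    (hF2 : algebraMap A (Localization.AtPrime n) F ∉ maximalIdeal (Localization.AtPrime n) ^ 2)
    (P : Ideal (A ⧸ Ideal.span {F})) [P.IsPrime]
    (hP : P.comap (Ideal.Quotient.mk (Ideal.span {F})) = n) :
    IsRegularLocalRing (Localization.AtPrime P) := by
  have hFm : algebraMap A (Localization.AtPrime n) F ∈ maximalIdeal (Localization.AtPrime n) := by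
    rw [← IsLocalization.AtPrime.map_eq_maximalIdeal n (Localization.AtPrime n)]
    exact Ideal.mem_map_of_mem _ hF
  obtain ⟨k, y, hk, hspan⟩ := Groth.Agent.Lead.RLR.exists_generators_of_notMem_sq hFm hF2
  haveI := Groth.Agent.Lead.RLR.isLocalRing_quotient
    (Groth.Agent.Lead.RLR.span_singleton_ne_top hFm)
  obtain ⟨hreg, -⟩ := Groth.Agent.Lead.RLR.isRegularLocalRing_quotient_aux _ y hspan hk
  have hmap : (Ideal.span {F}).map (algebraMap A (Localization.AtPrime n))
      = Ideal.span {algebraMap A (Localization.AtPrime n) F} := by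
    rw [Ideal.map_span, Set.image_singleton]
  have hloc : IsLocalization (Algebra.algebraMapSubmonoid (A ⧸ Ideal.span {F}) n.primeCompl)
      (Localization.AtPrime n ⧸ (Ideal.span {F}).map (algebraMap A (Localization.AtPrime n))) :=
    inferInstance
  rw [algebraMapSubmonoid_eq (Ideal.span {F}) n P hP] at hloc
  have e1 : Localization.AtPrime P ≃ₐ[A ⧸ Ideal.span {F}]
      (Localization.AtPrime n ⧸ (Ideal.span {F}).map (algebraMap A (Localization.AtPrime n))) :=
    IsLocalization.algEquiv P.primeCompl _ _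
  have e2 := Ideal.quotEquivOfEq hmap
  haveI := hreg
  exact IsRegularLocalRing.of_ringEquiv (e2.symm.trans e1.symm.toRingEquiv)

theorem regular_of_surjective {A B : Type u} [CommRing A] [CommRing B] (π : A →+* B)
    (hπ : Function.Surjective π) (F : A) (hker : RingHom.ker π = Ideal.span {F})
    (P : Ideal B) [P.IsPrime] (n : Ideal A) [n.IsPrime]
    [IsRegularLocalRing (Localization.AtPrime n)] (hn : P.comap π = n) (hF : F ∈ n)
    (hF2 : algebraMap A (Localization.AtPrime n) F ∉ maximalIdeal (Localization.AtPrime n) ^ 2) :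
    IsRegularLocalRing (Localization.AtPrime P) := by
  let e : (A ⧸ Ideal.span {F}) ≃+* B :=
    (Ideal.quotEquivOfEq hker.symm).trans (RingHom.quotientKerEquivOfSurjective hπ)
  have he : ∀ a, e (Ideal.Quotient.mk (Ideal.span {F}) a) = π a := fun a => rfl
  have hcomap : (P.comap e).comap (Ideal.Quotient.mk (Ideal.span {F})) = n := by
    rw [← hn]
    ext a
    rw [Ideal.mem_comap, Ideal.mem_comap, Ideal.mem_comap, he]
  haveI := regular_quotient F n hF hF2 (P.comap e) hcomap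
  exact IsRegularLocalRing.of_ringEquiv (IsLocalization.ringEquivOfRingEquiv
    (Localization.AtPrime (P.comap e)) (Localization.AtPrime P) e (e.map_primeCompl_comap_eq P))

theorem map_eq_zero_of_mem_sq {A T : Type*} [CommRing A] [CommRing T] (ψ : A →+* T) (n : Ideal A)
    (h2 : ∀ a ∈ n, ∀ b ∈ n, ψ a * ψ b = 0) {x : A} (hx : x ∈ n ^ 2) : ψ x = 0 := by
  have hle : n ^ 2 ≤ RingHom.ker ψ := by
    rw [pow_two, Ideal.mul_le]
    intro a ha b hb
    rw [RingHom.mem_ker, map_mul]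
    exact h2 a ha b hb
  exact (RingHom.mem_ker).1 (hle hx)

theorem exists_mul_mem_sq {A : Type u} [CommRing A] (n : Ideal A) [n.IsPrime] (F : A)
    (h : algebraMap A (Localization.AtPrime n) F ∈ maximalIdeal (Localization.AtPrime n) ^ 2) :
    ∃ s, s ∉ n ∧ s * F ∈ n ^ 2 := by
  rw [← IsLocalization.AtPrime.map_eq_maximalIdeal n (Localization.AtPrime n), ← Ideal.map_pow,
    IsLocalization.algebraMap_mem_map_algebraMap_iff n.primeCompl] at h
  obtain ⟨s, hs, hsF⟩ := h
  exact ⟨s, hs, hsF⟩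

/-! ### Dual numbers -/

/-- first projection as a ring hom -/
def fstRH (D : Type*) [CommRing D] : DualNumber D →+* D where
  toFun := TrivSqZeroExt.fst
  map_one' := TrivSqZeroExt.fst_one
  map_mul' := TrivSqZeroExt.fst_mul
  map_zero' := TrivSqZeroExt.fst_zero
  map_add' := TrivSqZeroExt.fst_add

theorem fstRH_apply {D : Type*} [CommRing D] (t : DualNumber D) : fstRH D t = t.fst := rfl

theorem dual_regular {D : Type*} [CommRing D] [IsDomain D] (a t : DualNumber D)
    (ha : a.fst ≠ 0) (h : a * t = 0) : t = 0 := by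
  have h1 : a.fst * t.fst = 0 := by
    have := congrArg TrivSqZeroExt.fst h
    rwa [TrivSqZeroExt.fst_mul, TrivSqZeroExt.fst_zero] at this
  have ht1 : t.fst = 0 := (mul_eq_zero.1 h1).resolve_left ha
  have h2 : a.fst * t.snd + a.snd * t.fst = 0 := by
    have := congrArg TrivSqZeroExt.snd h
    rwa [DualNumber.snd_mul, TrivSqZeroExt.snd_zero] at this
  rw [ht1, mul_zero, add_zero] at h2
  have ht2 : t.snd = 0 := (mul_eq_zero.1 h2).resolve_left ha
  exact TrivSqZeroExt.ext (by rw [ht1, TrivSqZeroExt.fst_zero])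
    (by rw [ht2, TrivSqZeroExt.snd_zero])

theorem dual_sq_zero {D : Type*} [CommRing D] (a b : DualNumber D) (ha : a.fst = 0)
    (hb : b.fst = 0) : a * b = 0 := by
  refine TrivSqZeroExt.ext ?_ ?_
  · rw [TrivSqZeroExt.fst_mul, ha, zero_mul, TrivSqZeroExt.fst_zero]
  · rw [DualNumber.snd_mul, ha, hb, zero_mul, mul_zero, add_zero, TrivSqZeroExt.snd_zero]

/-! ### Evaluation homomorphisms on `R[X][Y]` -/

section Eval

variable {R : Type u} [CommRing R]

/-- evaluation ring hom `R[X][Y] → T` -/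
noncomputable def ev {T : Type*} [CommRing T] (g : R →+* T) (x y : T) : R[X][Y] →+* T :=
  Polynomial.eval₂RingHom (Polynomial.eval₂RingHom g x) y

theorem ev_CC {T : Type*} [CommRing T] (g : R →+* T) (x y : T) (r : R) :
    ev g x y (C (C r)) = g r := by
  simp [ev]

theorem ev_CX {T : Type*} [CommRing T] (g : R →+* T) (x y : T) :
    ev g x y (C X) = x := by
  simp [ev]

theorem ev_Y {T : Type*} [CommRing T] (g : R →+* T) (x y : T) :
    ev g x y X = y := by
  simp [ev]

theorem ev_ext {T : Type*} [CommRing T] (φ φ' : R[X][Y] →+* T)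
    (h1 : ∀ r, φ (C (C r)) = φ' (C (C r))) (h2 : φ (C X) = φ' (C X)) (h3 : φ X = φ' X) :
    φ = φ' := by
  refine Polynomial.ringHom_ext' (Polynomial.ringHom_ext' ?_ ?_) ?_
  · ext r
    exact h1 r
  · exact h2
  · exact h3

theorem ev_eq {T : Type*} [CommRing T] (φ : R[X][Y] →+* T) :
    φ = ev (φ.comp (C.comp C)) (φ (C X)) (φ X) := by
  refine ev_ext _ _ (fun r => ?_) ?_ ?_
  · rw [ev_CC]; rfl
  · rw [ev_CX]
  · rw [ev_Y]

theorem comp_ev {T T' : Type*} [CommRing T] [CommRing T'] (χ : T →+* T') (g : R →+* T)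
    (x y : T) : χ.comp (ev g x y) = ev (χ.comp g) (χ x) (χ y) := by
  refine ev_ext _ _ (fun r => ?_) ?_ ?_
  · rw [RingHom.comp_apply, ev_CC, ev_CC]; rfl
  · rw [RingHom.comp_apply, ev_CX, ev_CX]
  · rw [RingHom.comp_apply, ev_Y, ev_Y]

variable (W : WeierstrassCurve.Affine R)

theorem ev_polynomial {T : Type*} [CommRing T] (g : R →+* T) (x y : T) :
    ev g x y W.polynomial
      = y ^ 2 + g W.a₁ * x * y + g W.a₃ * y
        - (x ^ 3 + g W.a₂ * x ^ 2 + g W.a₄ * x + g W.a₆) := by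
  rw [WeierstrassCurve.Affine.polynomial]
  simp only [map_add, map_sub, map_mul, map_pow, ev_CC, ev_CX, ev_Y]
  ring

theorem partials_vanish {D : Type u} [CommRing D] [IsDomain D] (g₀ : R →+* D) (xb yb : D)
    (n : Ideal R[X][Y]) (hn : ∀ p, p ∈ n ↔ ev g₀ xb yb p = 0) (s : R[X][Y]) (hs : s ∉ n)
    (hsF : s * W.polynomial ∈ n ^ 2) :
    (yb ^ 2 + g₀ W.a₁ * xb * yb + g₀ W.a₃ * yb
        - (xb ^ 3 + g₀ W.a₂ * xb ^ 2 + g₀ W.a₄ * xb + g₀ W.a₆) = 0)
    ∧ (g₀ W.a₁ * yb - (3 * xb ^ 2 + 2 * g₀ W.a₂ * xb + g₀ W.a₄) = 0)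
    ∧ (2 * yb + g₀ W.a₁ * xb + g₀ W.a₃ = 0) := by
  have key : ∀ (x' y' : DualNumber D), x'.fst = xb → y'.fst = yb →
      ev ((TrivSqZeroExt.inlHom D D).comp g₀) x' y' W.polynomial = 0 := by
    intro x' y' hx' hy'
    have hfst : ∀ p, (ev ((TrivSqZeroExt.inlHom D D).comp g₀) x' y' p).fst = ev g₀ xb yb p := by
      intro p
      have h1 := comp_ev (R := R) (fstRH D) ((TrivSqZeroExt.inlHom D D).comp g₀) x' y'
      have h2 : (fstRH D).comp ((TrivSqZeroExt.inlHom D D).comp g₀) = g₀ :=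
        RingHom.ext fun r => rfl
      rw [h2, fstRH_apply, fstRH_apply, hx', hy'] at h1
      exact DFunLike.congr_fun h1 p
    have h2 : ∀ a ∈ n, ∀ b ∈ n, ev ((TrivSqZeroExt.inlHom D D).comp g₀) x' y' a
        * ev ((TrivSqZeroExt.inlHom D D).comp g₀) x' y' b = 0 := by
      intro a ha b hb
      apply dual_sq_zero
      · rw [hfst]; exact (hn a).1 ha
      · rw [hfst]; exact (hn b).1 hb
    have h0 := map_eq_zero_of_mem_sq (ev ((TrivSqZeroExt.inlHom D D).comp g₀) x' y') n h2 hsF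
    rw [map_mul] at h0
    refine dual_regular (ev ((TrivSqZeroExt.inlHom D D).comp g₀) x' y' s) _ ?_ h0
    rw [hfst]
    exact fun h => hs ((hn s).2 h)
  have hε : (DualNumber.eps : DualNumber D) * DualNumber.eps = 0 := DualNumber.eps_mul_eps
  have kX := key (TrivSqZeroExt.inlHom D D xb + DualNumber.eps) (TrivSqZeroExt.inlHom D D yb)
    (by simp) (by simp)
  have kY := key (TrivSqZeroExt.inlHom D D xb) (TrivSqZeroExt.inlHom D D yb + DualNumber.eps)
    (by simp) (by simp)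
  rw [ev_polynomial] at kX kY
  simp only [RingHom.comp_apply] at kX kY
  have eX : TrivSqZeroExt.inlHom D D (yb ^ 2 + g₀ W.a₁ * xb * yb + g₀ W.a₃ * yb
        - (xb ^ 3 + g₀ W.a₂ * xb ^ 2 + g₀ W.a₄ * xb + g₀ W.a₆))
      + DualNumber.eps * TrivSqZeroExt.inlHom D D
        (g₀ W.a₁ * yb - (3 * xb ^ 2 + 2 * g₀ W.a₂ * xb + g₀ W.a₄)) = 0 := by
    rw [← kX]
    simp only [map_add, map_sub, map_mul, map_pow, map_ofNat]
    linear_combination (3 * TrivSqZeroExt.inlHom D D xb + DualNumber.eps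
      + TrivSqZeroExt.inlHom D D (g₀ W.a₂)) * hε
  have eY : TrivSqZeroExt.inlHom D D (yb ^ 2 + g₀ W.a₁ * xb * yb + g₀ W.a₃ * yb
        - (xb ^ 3 + g₀ W.a₂ * xb ^ 2 + g₀ W.a₄ * xb + g₀ W.a₆))
      + DualNumber.eps * TrivSqZeroExt.inlHom D D
        (2 * yb + g₀ W.a₁ * xb + g₀ W.a₃) = 0 := by
    rw [← kY]
    simp only [map_add, map_sub, map_mul, map_pow, map_ofNat]
    linear_combination (-1 : DualNumber D) * hε
  have fX := congrArg TrivSqZeroExt.fst eX
  rw [TrivSqZeroExt.fst_add, TrivSqZeroExt.fst_mul, TrivSqZeroExt.fst_zero] at fX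
  simp only [TrivSqZeroExt.inlHom_apply, TrivSqZeroExt.fst_inl, DualNumber.fst_eps, zero_mul,
    add_zero] at fX
  have sX := congrArg TrivSqZeroExt.snd eX
  rw [TrivSqZeroExt.snd_add, DualNumber.snd_mul, TrivSqZeroExt.snd_zero] at sX
  simp only [TrivSqZeroExt.inlHom_apply, TrivSqZeroExt.snd_inl, TrivSqZeroExt.fst_inl,
    DualNumber.fst_eps, DualNumber.snd_eps, zero_mul, one_mul, zero_add] at sX
  have sY := congrArg TrivSqZeroExt.snd eY
  rw [TrivSqZeroExt.snd_add, DualNumber.snd_mul, TrivSqZeroExt.snd_zero] at sY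
  simp only [TrivSqZeroExt.inlHom_apply, TrivSqZeroExt.snd_inl, TrivSqZeroExt.fst_inl,
    DualNumber.fst_eps, DualNumber.snd_eps, zero_mul, one_mul, zero_add] at sY
  exact ⟨fX, sX, sY⟩

end Eval

section Main

variable {R : Type u} [CommRing R] [IsDomain R] [IsDiscreteValuationRing R]
  (W : WeierstrassCurve.Affine R)

theorem not_mem_sq_aux {D : Type u} [CommRing D] [IsDomain D] (g₀ : R →+* D) (xb yb : D)
    (hΔ : W.Δ ≠ 0) (h3 : W.a₃ ∈ maximalIdeal R) (h4 : W.a₄ ∈ maximalIdeal R)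
    (h6 : W.a₆ ∈ maximalIdeal R) (h6' : W.a₆ ∉ maximalIdeal R ^ 2)
    (n : Ideal R[X][Y]) (hn : ∀ p, p ∈ n ↔ ev g₀ xb yb p = 0) (s : R[X][Y]) (hs : s ∉ n)
    (hsF : s * W.polynomial ∈ n ^ 2) : False := by
  obtain ⟨hE, hX, hY⟩ := partials_vanish W g₀ xb yb n hn s hs hsF
  by_cases hΔn : g₀ W.Δ = 0
  · obtain ⟨ϖ, hϖ⟩ := IsDiscreteValuationRing.exists_irreducible R
    have hm : maximalIdeal R = Ideal.span {ϖ} :=
      (IsDiscreteValuationRing.irreducible_iff_uniformizer ϖ).1 hϖ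
    obtain ⟨k, u, hu⟩ := IsDiscreteValuationRing.eq_unit_mul_pow_irreducible hΔ hϖ
    have hgϖ : g₀ ϖ = 0 := by
      rw [hu, map_mul, map_pow] at hΔn
      have hunit : IsUnit (g₀ (u : R)) := (u.isUnit).map g₀
      have hpow := (hunit.mul_right_eq_zero).1 hΔn
      exact eq_zero_of_pow_eq_zero hpow
    have hgm : ∀ r ∈ maximalIdeal R, g₀ r = 0 := by
      intro r hr
      rw [hm, Ideal.mem_span_singleton'] at hr
      obtain ⟨c, rfl⟩ := hr
      rw [map_mul, hgϖ, mul_zero]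
    have h3' := hgm _ h3
    have h4' := hgm _ h4
    have h6'' := hgm _ h6
    have hx3 : xb ^ 3 = 0 := by
      linear_combination 2 * hE - xb * hX - yb * hY - yb * h3' + xb * h4' + 2 * h6''
    have hx0 : xb = 0 := eq_zero_of_pow_eq_zero hx3
    have hy2 : yb ^ 2 = 0 := by
      linear_combination hE + (-(g₀ W.a₁) * yb + xb ^ 2 + g₀ W.a₂ * xb + g₀ W.a₄) * hx0
        - yb * h3' + h6''
    have hy0 : yb = 0 := eq_zero_of_pow_eq_zero hy2
    have hq' : ev g₀ xb yb = g₀.comp (ev (RingHom.id R) 0 0) := by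
      rw [comp_ev, RingHom.comp_id, map_zero, hx0, hy0]
    have hker : ∀ r, g₀ r = 0 ↔ r ∈ maximalIdeal R := by
      intro r
      refine ⟨fun h => ?_, hgm r⟩
      by_contra hr
      have hru : IsUnit r := IsLocalRing.notMem_maximalIdeal.1 hr
      have hgu := hru.map g₀
      rw [h] at hgu
      exact not_isUnit_zero hgu
    have hn' : ∀ p, p ∈ n ↔ ev (RingHom.id R) 0 0 p ∈ maximalIdeal R := by
      intro p
      rw [hn, hq', RingHom.comp_apply, hker]
    have h2 : ∀ a ∈ n, ∀ b ∈ n,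
        ((Ideal.Quotient.mk (maximalIdeal R ^ 2)).comp (ev (RingHom.id R) 0 0)) a
          * ((Ideal.Quotient.mk (maximalIdeal R ^ 2)).comp (ev (RingHom.id R) 0 0)) b = 0 := by
      intro a ha b hb
      rw [RingHom.comp_apply, RingHom.comp_apply, ← map_mul, Ideal.Quotient.eq_zero_iff_mem,
        pow_two]
      exact Ideal.mul_mem_mul ((hn' a).1 ha) ((hn' b).1 hb)
    have h0 := map_eq_zero_of_mem_sq _ n h2 hsF
    have hev : ev (RingHom.id R) 0 0 W.polynomial = -W.a₆ := by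
      rw [ev_polynomial]
      simp
    rw [RingHom.comp_apply, Ideal.Quotient.eq_zero_iff_mem, map_mul, hev] at h0
    have hsu : IsUnit (ev (RingHom.id R) 0 0 s) :=
      IsLocalRing.notMem_maximalIdeal.1 (fun h => hs ((hn' s).2 h))
    rw [Ideal.unit_mul_mem_iff_mem _ hsu] at h0
    exact h6' (neg_mem_iff.1 h0)
  · have hEq : (W.map g₀ : WeierstrassCurve.Affine D).Equation xb yb := by
      rw [WeierstrassCurve.Affine.equation_iff']
      simp only [WeierstrassCurve.map_a₁, WeierstrassCurve.map_a₂, WeierstrassCurve.map_a₃,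
        WeierstrassCurve.map_a₄, WeierstrassCurve.map_a₆]
      exact hE
    have hΔ' : (W.map g₀ : WeierstrassCurve.Affine D).Δ ≠ 0 := by
      rw [WeierstrassCurve.map_Δ]
      exact hΔn
    have hNs := (WeierstrassCurve.Affine.equation_iff_nonsingular_of_Δ_ne_zero hΔ').1 hEq
    rw [WeierstrassCurve.Affine.nonsingular_iff'] at hNs
    simp only [WeierstrassCurve.map_a₁, WeierstrassCurve.map_a₂, WeierstrassCurve.map_a₃,
      WeierstrassCurve.map_a₄] at hNs
    rcases hNs.2 with h | h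
    · exact h hX
    · exact h hY

theorem not_mem_sq_of_hom {D : Type u} [CommRing D] [IsDomain D] (q : R[X][Y] →+* D)
    (hΔ : W.Δ ≠ 0) (h3 : W.a₃ ∈ maximalIdeal R) (h4 : W.a₄ ∈ maximalIdeal R)
    (h6 : W.a₆ ∈ maximalIdeal R) (h6' : W.a₆ ∉ maximalIdeal R ^ 2)
    (n : Ideal R[X][Y]) (hq : ∀ p, p ∈ n ↔ q p = 0) (s : R[X][Y]) (hs : s ∉ n)
    (hsF : s * W.polynomial ∈ n ^ 2) : False := by
  have h := ev_eq q
  refine not_mem_sq_aux W (q.comp (C.comp C)) (q (C X)) (q (Polynomial.X : R[X][Y]))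
    hΔ h3 h4 h6 h6' n ?_ s hs hsF
  intro p
  rw [← h]
  exact hq p

theorem main (hΔ : W.Δ ≠ 0) (h3 : W.a₃ ∈ maximalIdeal R) (h4 : W.a₄ ∈ maximalIdeal R)
    (h6 : W.a₆ ∈ maximalIdeal R) (h6' : W.a₆ ∉ maximalIdeal R ^ 2)
    (P : Ideal W.CoordinateRing) [P.IsPrime] :
    IsRegularLocalRing (Localization.AtPrime P) := by
  haveI : IsRegularRing R := inferInstance
  haveI : IsRegularRing R[X][Y] := inferInstance
  obtain ⟨n, hn⟩ : ∃ n : Ideal R[X][Y], n = P.comap (AdjoinRoot.mk W.polynomial) := ⟨_, rfl⟩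
  haveI : n.IsPrime := by
    rw [hn]
    exact Ideal.comap_isPrime _ P
  have hker : RingHom.ker (AdjoinRoot.mk W.polynomial) = Ideal.span {W.polynomial} := by
    ext p
    rw [RingHom.mem_ker, AdjoinRoot.mk_eq_zero, Ideal.mem_span_singleton]
  have hFn : W.polynomial ∈ n := by
    rw [hn, Ideal.mem_comap, AdjoinRoot.mk_self]
    exact P.zero_mem
  refine regular_of_surjective (AdjoinRoot.mk W.polynomial) AdjoinRoot.mk_surjective
    W.polynomial hker P n hn.symm hFn ?_
  intro hmem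
  obtain ⟨s, hs, hsF⟩ := exists_mul_mem_sq n W.polynomial hmem
  haveI : IsDomain (W.CoordinateRing ⧸ P) := Ideal.Quotient.isDomain P
  refine not_mem_sq_of_hom W (D := W.CoordinateRing ⧸ P)
    ((Ideal.Quotient.mk P).comp (AdjoinRoot.mk W.polynomial)) hΔ h3 h4 h6 h6' n ?_ s hs hsF
  intro p
  rw [hn, Ideal.mem_comap, RingHom.comp_apply, Ideal.Quotient.eq_zero_iff_mem]

end Main

end Groth.Agent.Helper22.WeierReg2
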