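import Mathlib
import Groth.Agent.Lib.Lead.RLR1
import Groth.Agent.Lib.Helper22.WeierReg2

/-!
# Regularity of a quotient of a regular local ring at a point, by counting generators
-/

set_option autoImplicit false
set_option maxHeartbeats 800000
universe u

namespace Groth.Agent.Helper22.RegPt

open IsLocalRing

theorem nat_of_le {x : WithBot ℕ∞} {e : ℕ} (h0 : 0 ≤ x) (h1 : x ≤ (e : WithBot ℕ∞)) :
    ∃ d : ℕ, x = (d : WithBot ℕ∞) := by
  have hx : x ≠ ⊥ := by
    intro h
    rw [h] at h0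
    exact absurd h0 (not_le.mpr (WithBot.bot_lt_coe (0 : ℕ∞)))
  lift x to ℕ∞ using hx
  have h2 : x ≤ (e : ℕ∞) := by exact_mod_cast h1
  have hx' : x ≠ ⊤ := ne_top_of_le_ne_top (ENat.coe_ne_top e) h2
  lift x to ℕ using hx'
  exact ⟨x, by first | rfl | norm_cast | simp⟩

/-- Local form: `R` Noetherian local of dimension `r + s`, `I` generated by `≤ r` elements,
`m = (Y) + I + m²` with `|Y| ≤ s`: then `R/I` is regular of dimension `s`. -/
theorem regular_quotient_local {R : Type u} [CommRing R] [IsLocalRing R] [IsNoetherianRing R]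
    (I : Ideal R) (Y : Finset R) (r s : ℕ) (hIm : I ≤ maximalIdeal R)
    (hIr : I.spanFinrank ≤ r) (hY : Y.card ≤ s) (hYm : (Y : Set R) ⊆ maximalIdeal R)
    (hm : maximalIdeal R ≤ Ideal.span (Y : Set R) ⊔ I ⊔ maximalIdeal R ^ 2)
    (hdim : ringKrullDim R = ((r + s : ℕ) : WithBot ℕ∞)) :
    IsRegularLocalRing (R ⧸ I) ∧ ringKrullDim (R ⧸ I) = ((s : ℕ) : WithBot ℕ∞) := by
  classical
  have hItop : I ≠ ⊤ := by
    intro h
    rw [h] at hIm
    exact (IsLocalRing.maximalIdeal.isMaximal R).ne_top (top_le_iff.mp hIm)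
  haveI : IsLocalRing (R ⧸ I) := Groth.Agent.Lead.RLR.isLocalRing_quotient hItop
  have hmS : (maximalIdeal R).map (Ideal.Quotient.mk I) = maximalIdeal (R ⧸ I) :=
    IsLocalRing.map_maximalIdeal_of_surjective _ Ideal.Quotient.mk_surjective
  have h1 : (maximalIdeal R).map (Ideal.Quotient.mk I) ≤
      (Ideal.span (Y : Set R) ⊔ I ⊔ maximalIdeal R ^ 2).map (Ideal.Quotient.mk I) :=
    Ideal.map_mono hm
  rw [Ideal.map_sup, Ideal.map_sup, Ideal.map_span, Ideal.map_pow, Ideal.map_quotient_self,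
    sup_bot_eq, hmS] at h1
  have hnak : maximalIdeal (R ⧸ I) ≤ Ideal.span ((Ideal.Quotient.mk I) '' (Y : Set R)) := by
    apply Submodule.le_of_le_smul_of_le_jacobson_bot (I := maximalIdeal (R ⧸ I))
      (Ideal.fg_of_isNoetherianRing _) (IsLocalRing.maximalIdeal_le_jacobson _)
    rw [smul_eq_mul, ← sq]
    exact h1
  have hYS : Ideal.span ((Ideal.Quotient.mk I) '' (Y : Set R)) ≤ maximalIdeal (R ⧸ I) := by
    rw [Ideal.span_le]
    rintro _ ⟨y, hy, rfl⟩
    show Ideal.Quotient.mk I y ∈ maximalIdeal (R ⧸ I)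
    rw [← hmS]
    exact Ideal.mem_map_of_mem _ (hYm hy)
  have heq : maximalIdeal (R ⧸ I) = Ideal.span ((Ideal.Quotient.mk I) '' (Y : Set R)) :=
    le_antisymm hnak hYS
  have hfin : (maximalIdeal (R ⧸ I)).spanFinrank ≤ s := by
    rw [heq]
    calc (Ideal.span ((Ideal.Quotient.mk I) '' (Y : Set R))).spanFinrank
        ≤ ((Ideal.Quotient.mk I) '' (Y : Set R)).ncard :=
          Submodule.spanFinrank_span_le_ncard_of_finite (Y.finite_toSet.image _)
      _ ≤ (Y : Set R).ncard := Set.ncard_image_le Y.finite_toSet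
      _ = Y.card := Set.ncard_coe_finset Y
      _ ≤ s := hY
  have hd1 : ringKrullDim R ≤ ringKrullDim (R ⧸ I) + (I.spanFinrank : WithBot ℕ∞) := by
    apply ringKrullDim_le_ringKrullDim_quotient_add_spanFinrank
    rw [IsLocalRing.ringJacobson_eq_maximalIdeal]
    exact hIm
  have hd2 : ringKrullDim (R ⧸ I) ≤ ((maximalIdeal (R ⧸ I)).spanFinrank : WithBot ℕ∞) :=
    ringKrullDim_le_spanFinrank_maximalIdeal (R ⧸ I)
  have h0 : (0 : WithBot ℕ∞) ≤ ringKrullDim (R ⧸ I) := ringKrullDim_nonneg_of_nontrivial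
  obtain ⟨d, hd⟩ := nat_of_le h0 hd2
  rw [hd] at hd1 hd2
  rw [hdim] at hd1
  have hd1' : r + s ≤ d + I.spanFinrank := by exact_mod_cast hd1
  have hd2' : d ≤ (maximalIdeal (R ⧸ I)).spanFinrank := by exact_mod_cast hd2
  have hds : d = s := by omega
  refine ⟨?_, ?_⟩
  · apply IsRegularLocalRing.of_spanFinrank_maximalIdeal_le
    rw [hd]
    exact_mod_cast (by omega : (maximalIdeal (R ⧸ I)).spanFinrank ≤ d)
  · rw [hd, hds]

/-- Global form, at a prime `n` of `A` with `A_n` regular of dimension `r + s`. -/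
theorem regular_quotient_at {A : Type u} [CommRing A] (n : Ideal A) [n.IsPrime]
    [IsRegularLocalRing (Localization.AtPrime n)]
    (I : Ideal A) (T Y : Finset A) (r s N : ℕ) (hN : n.height = (N : ℕ∞)) (hrs : N = r + s)
    (hT : T.card ≤ r) (hY : Y.card ≤ s)
    (hTI : (T : Set A) ⊆ I) (hIn : I ≤ n) (hYn : (Y : Set A) ⊆ n)
    (G : Set A) (hIG : I = Ideal.span G) (u : A) (hu : u ∉ n)
    (hG : ∀ x ∈ G, u * x ∈ Ideal.span (T : Set A))
    (hm : n ≤ Ideal.span (Y : Set A) ⊔ I ⊔ n ^ 2)
    (P : Ideal (A ⧸ I)) [P.IsPrime] (hP : P.comap (Ideal.Quotient.mk I) = n) :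
    IsRegularLocalRing (Localization.AtPrime P) ∧
      ringKrullDim (Localization.AtPrime P) = ((s : ℕ) : WithBot ℕ∞) := by
  classical
  have hloc : ∀ x ∈ I, u * x ∈ Ideal.span (T : Set A) := by
    intro x hx
    rw [hIG] at hx
    refine Submodule.span_induction (p := fun y _ => u * y ∈ Ideal.span (T : Set A))
      ?_ ?_ ?_ ?_ hx
    · intro y hy
      exact hG y hy
    · rw [mul_zero]
      exact Ideal.zero_mem _
    · intro y z _ _ hy hz
      rw [mul_add]
      exact Ideal.add_mem _ hy hz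
    · intro a y _ hy
      rw [smul_eq_mul, mul_left_comm]
      exact Ideal.mul_mem_left _ a hy
  obtain ⟨φ, hφ⟩ : ∃ φ : A →+* Localization.AtPrime n,
      φ = algebraMap A (Localization.AtPrime n) := ⟨_, rfl⟩
  have hmax : n.map φ = maximalIdeal (Localization.AtPrime n) := by
    rw [hφ]
    exact IsLocalization.AtPrime.map_eq_maximalIdeal n (Localization.AtPrime n)
  have hImap : I.map φ = Ideal.span (φ '' (T : Set A)) := by
    apply le_antisymm
    · rw [Ideal.map_le_iff_le_comap]
      intro x hx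
      rw [Ideal.mem_comap]
      have h1 : φ (u * x) ∈ Ideal.span (φ '' (T : Set A)) := by
        rw [← Ideal.map_span]
        exact Ideal.mem_map_of_mem φ (hloc x hx)
      rw [map_mul] at h1
      have hunit : IsUnit (φ u) := by
        rw [hφ]
        exact IsLocalization.map_units (Localization.AtPrime n) (⟨u, hu⟩ : n.primeCompl)
      exact (Ideal.unit_mul_mem_iff_mem _ hunit).mp h1
    · rw [Ideal.span_le]
      rintro _ ⟨x, hx, rfl⟩
      exact Ideal.mem_map_of_mem φ (hTI hx)
  have hIr : (I.map φ).spanFinrank ≤ r := by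
    rw [hImap]
    calc (Ideal.span (φ '' (T : Set A))).spanFinrank ≤ (φ '' (T : Set A)).ncard :=
          Submodule.spanFinrank_span_le_ncard_of_finite (T.finite_toSet.image _)
      _ ≤ (T : Set A).ncard := Set.ncard_image_le T.finite_toSet
      _ = T.card := Set.ncard_coe_finset T
      _ ≤ r := hT
  have hYm : ((Y.image φ : Finset (Localization.AtPrime n)) : Set (Localization.AtPrime n)) ⊆
      maximalIdeal (Localization.AtPrime n) := by
    rw [Finset.coe_image]
    rintro _ ⟨y, hy, rfl⟩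
    show φ y ∈ maximalIdeal (Localization.AtPrime n)
    rw [← hmax]
    exact Ideal.mem_map_of_mem φ (hYn hy)
  have hIm : I.map φ ≤ maximalIdeal (Localization.AtPrime n) := by
    rw [← hmax]
    exact Ideal.map_mono hIn
  have hm' : maximalIdeal (Localization.AtPrime n) ≤
      Ideal.span ((Y.image φ : Finset (Localization.AtPrime n)) :
        Set (Localization.AtPrime n)) ⊔ I.map φ ⊔ maximalIdeal (Localization.AtPrime n) ^ 2 := by
    have h1 := Ideal.map_mono (f := φ) hm
    rw [Ideal.map_sup, Ideal.map_sup, Ideal.map_span, Ideal.map_pow, hmax] at h1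
    rw [Finset.coe_image]
    exact h1
  have hdim : ringKrullDim (Localization.AtPrime n) = ((r + s : ℕ) : WithBot ℕ∞) := by
    have h1 := IsLocalization.AtPrime.ringKrullDim_eq_height n (Localization.AtPrime n)
    rw [hN, hrs] at h1
    exact_mod_cast h1
  obtain ⟨hreg, hdimq⟩ := regular_quotient_local (I.map φ) (Y.image φ) r s hIm hIr
    (le_trans Finset.card_image_le hY) hYm hm' hdim
  subst hφ
  have hloc' : IsLocalization (Algebra.algebraMapSubmonoid (A ⧸ I) n.primeCompl)
      (Localization.AtPrime n ⧸ I.map (algebraMap A (Localization.AtPrime n))) :=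
    inferInstance
  rw [WeierReg2.algebraMapSubmonoid_eq I n P hP] at hloc'
  have e1 : Localization.AtPrime P ≃ₐ[A ⧸ I]
      (Localization.AtPrime n ⧸ I.map (algebraMap A (Localization.AtPrime n))) :=
    IsLocalization.algEquiv P.primeCompl _ _
  haveI := hreg
  refine ⟨IsRegularLocalRing.of_ringEquiv e1.symm.toRingEquiv, ?_⟩
  rw [ringKrullDim_eq_of_ringEquiv e1.toRingEquiv]
  exact hdimq

end Groth.Agent.Helper22.RegPt
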