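import Mathlib
import Groth.Prelude.Def_W4c1bouilletffgsL3
import Groth.Agent.Lib.Helper14.SmoothDim
import Groth.Agent.Lib.Helper22.RegPt1

/-!
# The smooth rational point of the Lie-algebra scheme `Spec D/J`
-/

set_option autoImplicit false
set_option maxHeartbeats 1600000
universe u

noncomputable section

namespace Groth.Agent.Helper22.RegPt

open MvPolynomial

variable {k : Type u} [Field k]

theorem ker_eval_le {σ : Type*} (p : σ → k) (m : Ideal (MvPolynomial σ k))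
    (hgen : ∀ j, (X j - C (p j) : MvPolynomial σ k) ∈ m) :
    RingHom.ker (eval p) ≤ m := by
  intro q hq
  have h1 : (Ideal.Quotient.mk m).comp (C.comp (eval p)) = Ideal.Quotient.mk m := by
    apply MvPolynomial.ringHom_ext
    · intro r
      rw [RingHom.comp_apply, RingHom.comp_apply, eval_C]
    · intro j
      rw [RingHom.comp_apply, RingHom.comp_apply, eval_X, eq_comm, Ideal.Quotient.eq]
      exact hgen j
  have h2 := RingHom.congr_fun h1 q
  rw [RingHom.comp_apply, RingHom.comp_apply, RingHom.mem_ker.mp hq, map_zero, map_zero] at h2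
  exact Ideal.Quotient.eq_zero_iff_mem.mp h2.symm

theorem isMaximal_of_gen {σ : Type*} (p : σ → k) (m : Ideal (MvPolynomial σ k))
    (hgen : ∀ j, (X j - C (p j) : MvPolynomial σ k) ∈ m)
    (hle : m ≤ RingHom.ker (eval p)) : m = RingHom.ker (eval p) ∧ m.IsMaximal := by
  have h : m = RingHom.ker (eval p) := le_antisymm hle (ker_eval_le p m hgen)
  refine ⟨h, ?_⟩
  rw [h]
  exact RingHom.ker_isMaximal_of_surjective (eval p) (fun r => ⟨C r, by simp⟩)

/-- The point `(0,1,0,0,0,t,0,0,0)`. -/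
def pt (t : k) : Fin 9 → k := fun j => if j = 1 then 1 else if j = 5 then t else 0

theorem master (t : k) (P : Ideal (Lie3Mod.D k ⧸ Lie3Mod.idJ k)) [P.IsPrime]
    (hP : P = Ideal.map (Ideal.Quotient.mk (Lie3Mod.idJ k))
      (Ideal.span ({X 0, X 1 - 1, X 2, X 3, X 4, X 5 - C t, X 6, X 7, X 8} :
        Set (Lie3Mod.D k)))) :
    IsRegularLocalRing (Localization.AtPrime P) ∧ ringKrullDim (Localization.AtPrime P) = 6 := by
  classical
  obtain ⟨m, hm⟩ : ∃ m : Ideal (Lie3Mod.D k), m = Ideal.span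
      ({X 0, X 1 - 1, X 2, X 3, X 4, X 5 - C t, X 6, X 7, X 8} : Set (Lie3Mod.D k)) := ⟨_, rfl⟩
  rw [← hm] at hP
  have h0 : (X 0 : Lie3Mod.D k) ∈ m := by rw [hm]; exact Ideal.subset_span (by simp)
  have h1 : (X 1 - 1 : Lie3Mod.D k) ∈ m := by rw [hm]; exact Ideal.subset_span (by simp)
  have h2 : (X 2 : Lie3Mod.D k) ∈ m := by rw [hm]; exact Ideal.subset_span (by simp)
  have h3 : (X 3 : Lie3Mod.D k) ∈ m := by rw [hm]; exact Ideal.subset_span (by simp)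
  have h4 : (X 4 : Lie3Mod.D k) ∈ m := by rw [hm]; exact Ideal.subset_span (by simp)
  have h5 : (X 5 - C t : Lie3Mod.D k) ∈ m := by rw [hm]; exact Ideal.subset_span (by simp)
  have h6 : (X 6 : Lie3Mod.D k) ∈ m := by rw [hm]; exact Ideal.subset_span (by simp)
  have h7 : (X 7 : Lie3Mod.D k) ∈ m := by rw [hm]; exact Ideal.subset_span (by simp)
  have h8 : (X 8 : Lie3Mod.D k) ∈ m := by rw [hm]; exact Ideal.subset_span (by simp)
  have hmle : m ≤ RingHom.ker (eval (pt t)) := by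
    rw [hm, Ideal.span_le]
    intro x hx
    simp only [Set.mem_insert_iff, Set.mem_singleton_iff] at hx
    rcases hx with rfl | rfl | rfl | rfl | rfl | rfl | rfl | rfl | rfl <;>
      simp [RingHom.mem_ker, pt]
  have hgen : ∀ j, (X j - C (pt t j) : Lie3Mod.D k) ∈ m := by
    intro j
    fin_cases j
    · show (X 0 - C (pt t 0) : Lie3Mod.D k) ∈ m
      rw [show pt t 0 = 0 by simp [pt], C_0, sub_zero]; exact h0
    · show (X 1 - C (pt t 1) : Lie3Mod.D k) ∈ m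
      rw [show pt t 1 = 1 by simp [pt], C_1]; exact h1
    · show (X 2 - C (pt t 2) : Lie3Mod.D k) ∈ m
      rw [show pt t 2 = 0 by simp [pt], C_0, sub_zero]; exact h2
    · show (X 3 - C (pt t 3) : Lie3Mod.D k) ∈ m
      rw [show pt t 3 = 0 by simp [pt], C_0, sub_zero]; exact h3
    · show (X 4 - C (pt t 4) : Lie3Mod.D k) ∈ m
      rw [show pt t 4 = 0 by simp [pt], C_0, sub_zero]; exact h4
    · show (X 5 - C (pt t 5) : Lie3Mod.D k) ∈ m
      rw [show pt t 5 = t by simp [pt]]; exact h5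
    · show (X 6 - C (pt t 6) : Lie3Mod.D k) ∈ m
      rw [show pt t 6 = 0 by simp [pt], C_0, sub_zero]; exact h6
    · show (X 7 - C (pt t 7) : Lie3Mod.D k) ∈ m
      rw [show pt t 7 = 0 by simp [pt], C_0, sub_zero]; exact h7
    · show (X 8 - C (pt t 8) : Lie3Mod.D k) ∈ m
      rw [show pt t 8 = 0 by simp [pt], C_0, sub_zero]; exact h8
  obtain ⟨hmker, hmax⟩ := isMaximal_of_gen (pt t) m hgen hmle
  haveI := hmax
  have hJm : Lie3Mod.idJ k ≤ m := by
    rw [hmker]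
    unfold Lie3Mod.idJ
    rw [Ideal.span_le]
    intro x hx
    simp only [Set.mem_insert_iff, Set.mem_singleton_iff] at hx
    rcases hx with rfl | rfl | rfl | rfl <;>
      simp [RingHom.mem_ker, pt, Lie3Mod.Q1, Lie3Mod.Q2, Lie3Mod.Q3, Lie3Mod.detM,
        Lie3Mod.va, Lie3Mod.vb, Lie3Mod.vc, Lie3Mod.vd, Lie3Mod.ve, Lie3Mod.vf, Lie3Mod.vg,
        Lie3Mod.vh, Lie3Mod.vi]
  have hPc : P.comap (Ideal.Quotient.mk (Lie3Mod.idJ k)) = m := by
    rw [hP, Ideal.comap_map_of_surjective _ Ideal.Quotient.mk_surjective,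
      ← RingHom.ker_eq_comap_bot, Ideal.mk_ker]
    exact sup_eq_left.mpr hJm
  have hQ1J : Lie3Mod.Q1 k ∈ Lie3Mod.idJ k := by
    unfold Lie3Mod.idJ; exact Ideal.subset_span (by simp)
  have hQ2J : Lie3Mod.Q2 k ∈ Lie3Mod.idJ k := by
    unfold Lie3Mod.idJ; exact Ideal.subset_span (by simp)
  have hQ3J : Lie3Mod.Q3 k ∈ Lie3Mod.idJ k := by
    unfold Lie3Mod.idJ; exact Ideal.subset_span (by simp)
  have hdetJ : Lie3Mod.detM k ∈ Lie3Mod.idJ k := by
    unfold Lie3Mod.idJ; exact Ideal.subset_span (by simp)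
  obtain ⟨Y, hY⟩ : ∃ Y : Finset (Lie3Mod.D k),
      Y = {X 0, X 1 - 1, X 2, X 4, X 5 - C t, X 7} := ⟨_, rfl⟩
  have hYcard : Y.card ≤ 6 := by rw [hY]; exact Finset.card_le_six
  have hY0 : (X 0 : Lie3Mod.D k) ∈ Y := by rw [hY]; simp
  have hY1 : (X 1 - 1 : Lie3Mod.D k) ∈ Y := by rw [hY]; simp
  have hY2 : (X 2 : Lie3Mod.D k) ∈ Y := by rw [hY]; simp
  have hY4 : (X 4 : Lie3Mod.D k) ∈ Y := by rw [hY]; simp
  have hY5 : (X 5 - C t : Lie3Mod.D k) ∈ Y := by rw [hY]; simp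
  have hY7 : (X 7 : Lie3Mod.D k) ∈ Y := by rw [hY]; simp
  have hYm : (Y : Set (Lie3Mod.D k)) ⊆ m := by
    intro y hy
    rw [hY] at hy
    simp only [Finset.mem_coe, Finset.mem_insert, Finset.mem_singleton] at hy
    rcases hy with rfl | rfl | rfl | rfl | rfl | rfl
    · exact h0
    · exact h1
    · exact h2
    · exact h4
    · exact h5
    · exact h7
  obtain ⟨W, hW⟩ : ∃ W : Ideal (Lie3Mod.D k),
      W = Ideal.span (Y : Set (Lie3Mod.D k)) ⊔ Lie3Mod.idJ k ⊔ m ^ 2 := ⟨_, rfl⟩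
  have hYW : ∀ y ∈ Y, y ∈ W := by
    intro y hy
    rw [hW]
    exact Ideal.mem_sup_left (Ideal.mem_sup_left (Ideal.subset_span (Finset.mem_coe.mpr hy)))
  have hJW : ∀ y ∈ Lie3Mod.idJ k, y ∈ W := by
    intro y hy
    rw [hW]
    exact Ideal.mem_sup_left (Ideal.mem_sup_right hy)
  have hmmW : ∀ x y, x ∈ m → y ∈ m → x * y ∈ W := by
    intro x y hx hy
    rw [hW]
    apply Ideal.mem_sup_right
    rw [sq]
    exact Ideal.mul_mem_mul hx hy
  have h3W : (X 3 : Lie3Mod.D k) ∈ W := by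
    have e : (X 3 : Lie3Mod.D k) = Lie3Mod.Q2 k - X 8 * X 4 - (X 1 - 1) * X 3
        + (X 5 - C t) * X 7 + C t * X 7 + X 0 * X 4 := by
      simp only [Lie3Mod.Q2, Lie3Mod.va, Lie3Mod.vb, Lie3Mod.vc, Lie3Mod.vd, Lie3Mod.ve,
        Lie3Mod.vf, Lie3Mod.vg, Lie3Mod.vh, Lie3Mod.vi]
      ring
    rw [e]
    exact W.add_mem (W.add_mem (W.add_mem (W.sub_mem (W.sub_mem (hJW _ hQ2J)
      (hmmW _ _ h8 h4)) (hmmW _ _ h1 h3)) (hmmW _ _ h5 h7)) (W.mul_mem_left _ (hYW _ hY7)))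
      (hmmW _ _ h0 h4)
  have h8W : (X 8 : Lie3Mod.D k) ∈ W := by
    have e : (X 8 : Lie3Mod.D k) = -(Lie3Mod.Q3 k) + X 7 * X 2 + X 3 * X 2
        - X 0 * (X 5 - C t) - C t * X 0 - (X 1 - 1) * X 8 := by
      simp only [Lie3Mod.Q3, Lie3Mod.va, Lie3Mod.vb, Lie3Mod.vc, Lie3Mod.vd, Lie3Mod.ve,
        Lie3Mod.vf, Lie3Mod.vg, Lie3Mod.vh, Lie3Mod.vi]
      ring
    rw [e]
    exact W.sub_mem (W.sub_mem (W.sub_mem (W.add_mem (W.add_mem (W.neg_mem (hJW _ hQ3J))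
      (hmmW _ _ h7 h2)) (hmmW _ _ h3 h2)) (hmmW _ _ h0 h5)) (W.mul_mem_left _ (hYW _ hY0)))
      (hmmW _ _ h1 h8)
  have hmW : (X 6 : Lie3Mod.D k) ∈ W →
      m ≤ Ideal.span (Y : Set (Lie3Mod.D k)) ⊔ Lie3Mod.idJ k ⊔ m ^ 2 := by
    intro h6W
    rw [← hW, hm, Ideal.span_le]
    intro x hx
    simp only [Set.mem_insert_iff, Set.mem_singleton_iff] at hx
    rcases hx with rfl | rfl | rfl | rfl | rfl | rfl | rfl | rfl | rfl
    · exact hYW _ hY0
    · exact hYW _ hY1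
    · exact hYW _ hY2
    · exact h3W
    · exact hYW _ hY4
    · exact hYW _ hY5
    · exact h6W
    · exact hYW _ hY7
    · exact h8W
  have hN : m.height = ((9 : ℕ) : ℕ∞) :=
    Groth.Agent.Helper14.SmoothDim.height_eq_of_isMaximal_mvPolynomial k 9 m
  haveI : IsRegularLocalRing (Localization.AtPrime m) := inferInstance
  -- the Cramer identity
  have hcramer : (X 1 + X 5 : Lie3Mod.D k) * Lie3Mod.detM k =
      (X 4 * X 2 - X 1 * X 5) * Lie3Mod.Q1 k + (X 7 * X 2 + X 8 * X 5) * Lie3Mod.Q2 k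
        - (X 7 * X 1 + X 8 * X 4) * Lie3Mod.Q3 k := by
    simp only [Lie3Mod.detM, Lie3Mod.Q1, Lie3Mod.Q2, Lie3Mod.Q3, Lie3Mod.va, Lie3Mod.vb,
      Lie3Mod.vc, Lie3Mod.vd, Lie3Mod.ve, Lie3Mod.vf, Lie3Mod.vg, Lie3Mod.vh, Lie3Mod.vi]
    ring
  by_cases h1t : 1 + t = 0
  swap
  · -- case `t ≠ -1`: `J` is locally generated by `Q1, Q2, Q3`
    have hC : (C (1 + t) : Lie3Mod.D k) = 1 + C t := by rw [C_add, C_1]
    have h6W : (X 6 : Lie3Mod.D k) ∈ W := by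
      have e : ((1 + C t) * X 6 : Lie3Mod.D k) = -(Lie3Mod.Q1 k) + X 0 * X 7 + X 3 * X 8
          - (X 5 - C t) * X 6 - (X 1 - 1) * X 6 := by
        simp only [Lie3Mod.Q1, Lie3Mod.va, Lie3Mod.vb, Lie3Mod.vc, Lie3Mod.vd, Lie3Mod.ve,
          Lie3Mod.vf, Lie3Mod.vg, Lie3Mod.vh, Lie3Mod.vi]
        ring
      have e2 : (X 6 : Lie3Mod.D k) = C (1 + t)⁻¹ * ((1 + C t) * X 6) := by
        rw [← hC, ← mul_assoc, ← C_mul, inv_mul_cancel₀ h1t, C_1, one_mul]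
      rw [e2, e]
      apply W.mul_mem_left
      exact W.sub_mem (W.sub_mem (W.add_mem (W.add_mem (W.neg_mem (hJW _ hQ1J))
        (hmmW _ _ h0 h7)) (hmmW _ _ h3 h8)) (hmmW _ _ h5 h6)) (hmmW _ _ h1 h6)
    obtain ⟨T, hT⟩ : ∃ T : Finset (Lie3Mod.D k),
        T = {Lie3Mod.Q1 k, Lie3Mod.Q2 k, Lie3Mod.Q3 k} := ⟨_, rfl⟩
    have hTcard : T.card ≤ 3 := by rw [hT]; exact Finset.card_le_three
    have hTI : (T : Set (Lie3Mod.D k)) ⊆ Lie3Mod.idJ k := by
      intro y hy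
      rw [hT] at hy
      simp only [Finset.mem_coe, Finset.mem_insert, Finset.mem_singleton] at hy
      rcases hy with rfl | rfl | rfl
      · exact hQ1J
      · exact hQ2J
      · exact hQ3J
    have hT1 : Lie3Mod.Q1 k ∈ Ideal.span (T : Set (Lie3Mod.D k)) :=
      Ideal.subset_span (by rw [hT]; simp)
    have hT2 : Lie3Mod.Q2 k ∈ Ideal.span (T : Set (Lie3Mod.D k)) :=
      Ideal.subset_span (by rw [hT]; simp)
    have hT3 : Lie3Mod.Q3 k ∈ Ideal.span (T : Set (Lie3Mod.D k)) :=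
      Ideal.subset_span (by rw [hT]; simp)
    have hu : (X 1 + X 5 : Lie3Mod.D k) ∉ m := by
      rw [hmker, RingHom.mem_ker]
      have : eval (pt t) (X 1 + X 5 : Lie3Mod.D k) = 1 + t := by simp [pt]
      rw [this]
      exact h1t
    have hG : ∀ x ∈ ({Lie3Mod.Q1 k, Lie3Mod.Q2 k, Lie3Mod.Q3 k, Lie3Mod.detM k} :
        Set (Lie3Mod.D k)), (X 1 + X 5 : Lie3Mod.D k) * x ∈
          Ideal.span (T : Set (Lie3Mod.D k)) := by
      intro x hx
      simp only [Set.mem_insert_iff, Set.mem_singleton_iff] at hx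
      rcases hx with rfl | rfl | rfl | rfl
      · exact Ideal.mul_mem_left _ _ hT1
      · exact Ideal.mul_mem_left _ _ hT2
      · exact Ideal.mul_mem_left _ _ hT3
      · rw [hcramer]
        exact Ideal.sub_mem _ (Ideal.add_mem _ (Ideal.mul_mem_left _ _ hT1)
          (Ideal.mul_mem_left _ _ hT2)) (Ideal.mul_mem_left _ _ hT3)
    obtain ⟨hreg, hdim⟩ := regular_quotient_at m (Lie3Mod.idJ k) T Y 3 6 9 hN rfl hTcard hYcard
      hTI hJm hYm ({Lie3Mod.Q1 k, Lie3Mod.Q2 k, Lie3Mod.Q3 k, Lie3Mod.detM k} :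
        Set (Lie3Mod.D k)) rfl (X 1 + X 5) hu hG (hmW h6W) P hPc
    exact ⟨hreg, by exact_mod_cast hdim⟩
  · -- case `t = -1`: `J` is locally generated by `detM, Q2, Q3`
    have ht : t ≠ 0 := by
      intro h
      rw [h, add_zero] at h1t
      exact one_ne_zero h1t
    have h6W : (X 6 : Lie3Mod.D k) ∈ W := by
      have e : (C t * X 6 : Lie3Mod.D k) = Lie3Mod.detM k + (X 2 * X 7) * X 7
          - (X 6 * (X 1 - 1)) * (X 5 - C t) - C t * (X 6 * (X 1 - 1)) - X 6 * (X 5 - C t)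
          - (X 4 * X 8) * X 8 + (X 6 * X 4) * X 2 - (X 7 * X 8) * X 1 + (X 8 * X 7) * X 5 := by
        simp only [Lie3Mod.detM, Lie3Mod.va, Lie3Mod.vb, Lie3Mod.vc, Lie3Mod.vd, Lie3Mod.ve,
          Lie3Mod.vf, Lie3Mod.vg, Lie3Mod.vh, Lie3Mod.vi]
        ring
      have e2 : (X 6 : Lie3Mod.D k) = C t⁻¹ * (C t * X 6) := by
        rw [← mul_assoc, ← C_mul, inv_mul_cancel₀ ht, C_1, one_mul]
      rw [e2, e]
      apply W.mul_mem_left
      exact W.add_mem (W.sub_mem (W.add_mem (W.sub_mem (W.sub_mem (W.sub_mem (W.sub_mem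
        (W.add_mem (hJW _ hdetJ) (W.mul_mem_right _ (hmmW _ _ h2 h7)))
        (W.mul_mem_right _ (hmmW _ _ h6 h1))) (W.mul_mem_left _ (hmmW _ _ h6 h1)))
        (hmmW _ _ h6 h5)) (W.mul_mem_right _ (hmmW _ _ h4 h8)))
        (W.mul_mem_right _ (hmmW _ _ h6 h4))) (W.mul_mem_right _ (hmmW _ _ h7 h8)))
        (W.mul_mem_right _ (hmmW _ _ h8 h7))
    obtain ⟨T, hT⟩ : ∃ T : Finset (Lie3Mod.D k),
        T = {Lie3Mod.detM k, Lie3Mod.Q2 k, Lie3Mod.Q3 k} := ⟨_, rfl⟩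
    have hTcard : T.card ≤ 3 := by rw [hT]; exact Finset.card_le_three
    have hTI : (T : Set (Lie3Mod.D k)) ⊆ Lie3Mod.idJ k := by
      intro y hy
      rw [hT] at hy
      simp only [Finset.mem_coe, Finset.mem_insert, Finset.mem_singleton] at hy
      rcases hy with rfl | rfl | rfl
      · exact hdetJ
      · exact hQ2J
      · exact hQ3J
    have hT1 : Lie3Mod.detM k ∈ Ideal.span (T : Set (Lie3Mod.D k)) :=
      Ideal.subset_span (by rw [hT]; simp)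
    have hT2 : Lie3Mod.Q2 k ∈ Ideal.span (T : Set (Lie3Mod.D k)) :=
      Ideal.subset_span (by rw [hT]; simp)
    have hT3 : Lie3Mod.Q3 k ∈ Ideal.span (T : Set (Lie3Mod.D k)) :=
      Ideal.subset_span (by rw [hT]; simp)
    have hu : (X 4 * X 2 - X 1 * X 5 : Lie3Mod.D k) ∉ m := by
      rw [hmker, RingHom.mem_ker]
      have : eval (pt t) (X 4 * X 2 - X 1 * X 5 : Lie3Mod.D k) = -t := by simp [pt]
      rw [this]
      exact neg_ne_zero.mpr ht
    have hG : ∀ x ∈ ({Lie3Mod.Q1 k, Lie3Mod.Q2 k, Lie3Mod.Q3 k, Lie3Mod.detM k} :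
        Set (Lie3Mod.D k)), (X 4 * X 2 - X 1 * X 5 : Lie3Mod.D k) * x ∈
          Ideal.span (T : Set (Lie3Mod.D k)) := by
      intro x hx
      simp only [Set.mem_insert_iff, Set.mem_singleton_iff] at hx
      rcases hx with rfl | rfl | rfl | rfl
      · have e : (X 4 * X 2 - X 1 * X 5 : Lie3Mod.D k) * Lie3Mod.Q1 k =
            (X 1 + X 5) * Lie3Mod.detM k - (X 7 * X 2 + X 8 * X 5) * Lie3Mod.Q2 k
              + (X 7 * X 1 + X 8 * X 4) * Lie3Mod.Q3 k := by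
          rw [hcramer]; ring
        rw [e]
        exact Ideal.add_mem _ (Ideal.sub_mem _ (Ideal.mul_mem_left _ _ hT1)
          (Ideal.mul_mem_left _ _ hT2)) (Ideal.mul_mem_left _ _ hT3)
      · exact Ideal.mul_mem_left _ _ hT2
      · exact Ideal.mul_mem_left _ _ hT3
      · exact Ideal.mul_mem_left _ _ hT1
    obtain ⟨hreg, hdim⟩ := regular_quotient_at m (Lie3Mod.idJ k) T Y 3 6 9 hN rfl hTcard hYcard
      hTI hJm hYm ({Lie3Mod.Q1 k, Lie3Mod.Q2 k, Lie3Mod.Q3 k, Lie3Mod.detM k} :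
        Set (Lie3Mod.D k)) rfl (X 4 * X 2 - X 1 * X 5) hu hG (hmW h6W) P hPc
    exact ⟨hreg, by exact_mod_cast hdim⟩

end Groth.Agent.Helper22.RegPt
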