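import Mathlib
import Groth.Prelude.Def_CohB1
import Groth.Agent.Lib.Helper14.SmoothDim
import Groth.Agent.Lib.Helper22.RegPt2

/-!
# Connectedness of a hypersurface in projective space (dimension ≥ 2)
-/

set_option autoImplicit false
set_option maxHeartbeats 800000
universe u

noncomputable section

namespace Groth.Agent.Helper22.HypConn

open DirectSum

section Abstract

variable {A σ : Type*} [CommRing A] [SetLike σ A] [AddSubmonoidClass σ A]
  (𝒜 : ℕ → σ) [GradedRing 𝒜]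

/-- Minimal primes over a homogeneous ideal are homogeneous. -/
theorem isHomogeneous_of_mem_minimalPrimes {J p : Ideal A} (hJ : J.IsHomogeneous 𝒜)
    (hp : p ∈ J.minimalPrimes) : p.IsHomogeneous 𝒜 := by
  have hpP : p.IsPrime := hp.1.1
  have hJp : J ≤ p := hp.1.2
  have h1 : (p.homogeneousCore 𝒜).toIdeal.IsPrime := Ideal.IsPrime.homogeneousCore hpP
  have h2 : J ≤ (p.homogeneousCore 𝒜).toIdeal := by
    have h3 : (J.homogeneousCore 𝒜).toIdeal ≤ (p.homogeneousCore 𝒜).toIdeal :=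
      Ideal.homogeneousCore_mono 𝒜 hJp
    rw [hJ.toIdeal_homogeneousCore_eq_self] at h3
    exact h3
  have h3 : p ≤ (p.homogeneousCore 𝒜).toIdeal :=
    hp.2 ⟨h1, h2⟩ (Ideal.toIdeal_homogeneousCore_le 𝒜 p)
  have h4 : (p.homogeneousCore 𝒜).toIdeal = p :=
    le_antisymm (Ideal.toIdeal_homogeneousCore_le 𝒜 p) h3
  rw [← h4]
  exact (p.homogeneousCore 𝒜).isHomogeneous

theorem irrelevant_ne_top [Nontrivial A] : (HomogeneousIdeal.irrelevant 𝒜).toIdeal ≠ ⊤ := by
  intro h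
  have h1 : (1 : A) ∈ (HomogeneousIdeal.irrelevant 𝒜).toIdeal := by
    rw [h]; exact Submodule.mem_top
  rw [HomogeneousIdeal.mem_iff, HomogeneousIdeal.mem_irrelevant_iff, GradedRing.proj_apply,
    DirectSum.decompose_of_mem_same 𝒜 (SetLike.one_mem_graded 𝒜)] at h1
  exact one_ne_zero h1

/-- A point of the projective spectrum from a relevant homogeneous prime. -/
def mkPt (P : Ideal A) (hP : P.IsPrime) (hPh : P.IsHomogeneous 𝒜)
    (hPi : ¬ (HomogeneousIdeal.irrelevant 𝒜).toIdeal ≤ P) : ProjectiveSpectrum 𝒜 :=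
  ⟨⟨P, hPh⟩, hP, fun h => hPi h⟩

theorem mkPt_toIdeal (P : Ideal A) (hP : P.IsPrime) (hPh : P.IsHomogeneous 𝒜)
    (hPi : ¬ (HomogeneousIdeal.irrelevant 𝒜).toIdeal ≤ P) :
    (mkPt 𝒜 P hP hPh hPi).asHomogeneousIdeal.toIdeal = P := rfl

theorem mem_zeroLocus_singleton (x : ProjectiveSpectrum 𝒜) (f : A) :
    x ∈ ProjectiveSpectrum.zeroLocus 𝒜 ({f} : Set A) ↔ f ∈ x.asHomogeneousIdeal.toIdeal := by
  rw [ProjectiveSpectrum.mem_zeroLocus, Set.singleton_subset_iff]
  exact Iff.rfl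

theorem isConnected_zeroLocus_singleton [IsDomain A] [IsNoetherianRing A]
    [UniqueFactorizationMonoid A]
    (hunit : ∀ a ∈ 𝒜 0, a ≠ 0 → IsUnit a)
    (hht : (2 : ℕ∞) < (HomogeneousIdeal.irrelevant 𝒜).toIdeal.height)
    (f : A) (d : ℕ) (hd : 0 < d) (hfd : f ∈ 𝒜 d) (hf0 : f ≠ 0) :
    IsConnected (ProjectiveSpectrum.zeroLocus 𝒜 ({f} : Set A)) := by
  classical
  obtain ⟨irr, hirr⟩ : ∃ irr : Ideal A, irr = (HomogeneousIdeal.irrelevant 𝒜).toIdeal :=
    ⟨_, rfl⟩
  rw [← hirr] at hht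
  have hirr_top : irr ≠ ⊤ := by rw [hirr]; exact irrelevant_ne_top 𝒜
  have hH2 : ∀ I : Ideal A, I.IsHomogeneous 𝒜 → I ≠ ⊤ → I ≤ irr := by
    intro I hI hne a ha
    rw [hirr, HomogeneousIdeal.mem_iff, HomogeneousIdeal.mem_irrelevant_iff,
      GradedRing.proj_apply]
    obtain ⟨a0, ha0⟩ : ∃ a0 : A, a0 = ((DirectSum.decompose 𝒜 a) 0 : A) := ⟨_, rfl⟩
    rw [← ha0]
    have h1 : a0 ∈ I := by rw [ha0]; exact hI 0 ha
    have h2 : a0 ∈ 𝒜 0 := by rw [ha0]; exact SetLike.coe_mem _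
    by_contra hne0
    have hu := hunit a0 h2 hne0
    exact hne (Ideal.eq_top_of_isUnit_mem I h1 hu)
  have hfirr : f ∈ irr := by
    rw [hirr]; exact HomogeneousIdeal.mem_irrelevant_of_mem 𝒜 hd hfd
  obtain ⟨J, hJ⟩ : ∃ J : Ideal A, J = Ideal.span {f} := ⟨_, rfl⟩
  have hJhom : J.IsHomogeneous 𝒜 := by
    rw [hJ]
    apply Ideal.homogeneous_span
    intro x hx
    rw [Set.mem_singleton_iff] at hx
    rw [hx]
    exact ⟨d, hfd⟩
  have hJirr : J ≤ irr := by
    rw [hJ, Ideal.span_singleton_le_iff_mem]; exact hfirr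
  have hJtop : J ≠ ⊤ := by
    intro h
    rw [h] at hJirr
    exact hirr_top (top_le_iff.mp hJirr)
  haveI : J.IsPrincipal := ⟨⟨f, hJ⟩⟩
  have hmin : ∀ p ∈ J.minimalPrimes, p.IsPrime ∧ p.IsHomogeneous 𝒜 ∧ f ∈ p ∧ ¬ irr ≤ p ∧
      p ≤ irr ∧ ∃ π, p = Ideal.span {π} := by
    intro p hp
    have hpP : p.IsPrime := hp.1.1
    have hfp : f ∈ p := hp.1.2 (by rw [hJ]; exact Ideal.mem_span_singleton_self f)
    have hph : p.IsHomogeneous 𝒜 := isHomogeneous_of_mem_minimalPrimes 𝒜 hJhom hp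
    have hle1 : p.height ≤ 1 :=
      Ideal.height_le_one_of_isPrincipal_of_mem_minimalPrimes J p hp
    have hne0 : p.height ≠ 0 := by
      rw [Ne, Ideal.height_eq_zero_iff_eq_bot]
      intro h
      rw [h] at hfp
      exact hf0 (Ideal.mem_bot.mp hfp)
    have h1 : p.height = 1 := le_antisymm hle1 (Order.one_le_iff_ne_zero.mpr hne0)
    have hnirr : ¬ irr ≤ p := by
      intro h
      have h2 := Ideal.height_mono h
      rw [h1] at h2
      exact absurd (lt_of_lt_of_le hht h2) (not_lt_of_ge one_le_two)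
    haveI := hpP
    haveI : p.IsPrincipal := UniqueFactorizationMonoid.isPrincipal_of_height_eq_one h1
    obtain ⟨π, hπ⟩ := Submodule.IsPrincipal.principal p
    exact ⟨hpP, hph, hfp, hnirr, hH2 p hph hpP.ne_top, π, hπ⟩
  refine ⟨?_, ?_⟩
  · obtain ⟨⟨p, hp⟩⟩ := Ideal.nonempty_minimalPrimes hJtop
    obtain ⟨hpP, hph, hfp, hnirr, -, -⟩ := hmin p hp
    exact ⟨mkPt 𝒜 p hpP hph (by rw [← hirr]; exact hnirr),
      (mem_zeroLocus_singleton 𝒜 _ f).mpr hfp⟩
  · apply isPreconnected_of_forall_pair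
    intro x hx y hy
    rw [mem_zeroLocus_singleton] at hx hy
    have hJx : J ≤ x.asHomogeneousIdeal.toIdeal := by
      rw [hJ, Ideal.span_singleton_le_iff_mem]; exact hx
    have hJy : J ≤ y.asHomogeneousIdeal.toIdeal := by
      rw [hJ, Ideal.span_singleton_le_iff_mem]; exact hy
    obtain ⟨p, hp, hpx⟩ := Ideal.exists_minimalPrimes_le hJx
    obtain ⟨p', hp', hpy⟩ := Ideal.exists_minimalPrimes_le hJy
    obtain ⟨hpP, hph, hfp, hnirr, hpirr, π, hπ⟩ := hmin p hp
    obtain ⟨hpP', hph', hfp', hnirr', hpirr', π', hπ'⟩ := hmin p' hp'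
    have hsup : p ⊔ p' = Ideal.span ({π, π'} : Set A) := by
      rw [Ideal.span_insert, ← hπ, ← hπ']
    have hsup_top : p ⊔ p' ≠ ⊤ := by
      intro h
      have h1 := sup_le hpirr hpirr'
      rw [h] at h1
      exact hirr_top (top_le_iff.mp h1)
    obtain ⟨⟨Q, hQ⟩⟩ := Ideal.nonempty_minimalPrimes hsup_top
    have hQP : Q.IsPrime := hQ.1.1
    have hQh : Q.IsHomogeneous 𝒜 := isHomogeneous_of_mem_minimalPrimes 𝒜 (hph.sup hph') hQ
    have hQht : Q.height ≤ 2 := by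
      have hQ' : Q ∈ (Ideal.span ({π, π'} : Set A)).minimalPrimes := by
        rw [← hsup]; exact hQ
      have h1 := Ideal.height_le_card_of_mem_minimalPrimes_span (Set.toFinite _) hQ'
      have h2 : ({π, π'} : Set A).ncard ≤ 2 := by
        refine (Set.ncard_insert_le π {π'}).trans ?_
        rw [Set.ncard_singleton]
      exact h1.trans (by exact_mod_cast h2)
    have hQirr : ¬ irr ≤ Q := by
      intro h
      have h2 := Ideal.height_mono h
      exact absurd (lt_of_lt_of_le hht (h2.trans hQht)) (lt_irrefl _)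
    obtain ⟨P0, hP0⟩ : ∃ P0 : ProjectiveSpectrum 𝒜, P0.asHomogeneousIdeal.toIdeal = p :=
      ⟨mkPt 𝒜 p hpP hph (by rw [← hirr]; exact hnirr), rfl⟩
    obtain ⟨P1, hP1⟩ : ∃ P1 : ProjectiveSpectrum 𝒜, P1.asHomogeneousIdeal.toIdeal = p' :=
      ⟨mkPt 𝒜 p' hpP' hph' (by rw [← hirr]; exact hnirr'), rfl⟩
    obtain ⟨z, hz⟩ : ∃ z : ProjectiveSpectrum 𝒜, z.asHomogeneousIdeal.toIdeal = Q :=
      ⟨mkPt 𝒜 Q hQP hQh (by rw [← hirr]; exact hQirr), rfl⟩
    have hcl : ∀ (P w : ProjectiveSpectrum 𝒜),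
        P.asHomogeneousIdeal.toIdeal ≤ w.asHomogeneousIdeal.toIdeal → w ∈ closure {P} := by
      intro P w h
      exact (ProjectiveSpectrum.le_iff_mem_closure 𝒜 P w).mp
        ((ProjectiveSpectrum.as_ideal_le_as_ideal 𝒜 P w).mp h)
    have hsub : ∀ P : ProjectiveSpectrum 𝒜, f ∈ P.asHomogeneousIdeal.toIdeal →
        closure {P} ⊆ ProjectiveSpectrum.zeroLocus 𝒜 ({f} : Set A) := by
      intro P hP
      apply closure_minimal _ (ProjectiveSpectrum.isClosed_zeroLocus 𝒜 _)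
      rw [Set.singleton_subset_iff, mem_zeroLocus_singleton]
      exact hP
    refine ⟨closure {P0} ∪ closure {P1},
      Set.union_subset (hsub P0 (by rw [hP0]; exact hfp)) (hsub P1 (by rw [hP1]; exact hfp')),
      Or.inl (hcl P0 x (by rw [hP0]; exact hpx)),
      Or.inr (hcl P1 y (by rw [hP1]; exact hpy)), ?_⟩
    apply IsPreconnected.union z
    · exact hcl P0 z (by rw [hP0, hz]; exact le_trans le_sup_left hQ.1.2)
    · exact hcl P1 z (by rw [hP1, hz]; exact le_trans le_sup_right hQ.1.2)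
    · exact isPreconnected_singleton.closure
    · exact isPreconnected_singleton.closure

end Abstract

open MvPolynomial in
theorem master (k : Type u) [Field k] (n d : ℕ) (hn : 2 ≤ n)
    (f : MvPolynomial (Fin (n + 1)) k) (hf : f.IsHomogeneous d) (hd : 0 < d) (hf0 : f ≠ 0) :
    IsConnected (ProjectiveSpectrum.zeroLocus (CohB1.polyGrading n k)
      ({f} : Set (MvPolynomial (Fin (n + 1)) k))) := by
  apply isConnected_zeroLocus_singleton (CohB1.polyGrading n k) ?_ ?_ f d hd ?_ hf0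
  · intro a ha hne
    have ha' : a ∈ MvPolynomial.homogeneousSubmodule (Fin (n + 1)) k 0 := ha
    rw [MvPolynomial.homogeneousSubmodule_zero, Submodule.mem_one] at ha'
    obtain ⟨c, rfl⟩ := ha'
    have hc : c ≠ 0 := by
      rintro rfl
      exact hne (map_zero _)
    exact (isUnit_iff_ne_zero.mpr hc).map _
  · obtain ⟨irr, hirr⟩ : ∃ irr : Ideal (MvPolynomial (Fin (n + 1)) k),
        irr = (HomogeneousIdeal.irrelevant (CohB1.polyGrading n k)).toIdeal := ⟨_, rfl⟩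
    rw [← hirr]
    have hX : ∀ j, (X j - C ((0 : Fin (n + 1) → k) j) : MvPolynomial (Fin (n + 1)) k) ∈ irr := by
      intro j
      rw [Pi.zero_apply, C_0, sub_zero, hirr]
      exact HomogeneousIdeal.mem_irrelevant_of_mem (CohB1.polyGrading n k) one_pos
        ((MvPolynomial.mem_homogeneousSubmodule 1 (X j)).mpr (MvPolynomial.isHomogeneous_X k j))
    have hle : RingHom.ker (eval (0 : Fin (n + 1) → k)) ≤ irr :=
      Groth.Agent.Helper22.RegPt.ker_eval_le 0 irr hX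
    have hmax : (RingHom.ker (eval (0 : Fin (n + 1) → k))).IsMaximal :=
      RingHom.ker_isMaximal_of_surjective _ (fun r => ⟨C r, by simp⟩)
    have hne : irr ≠ ⊤ := by rw [hirr]; exact irrelevant_ne_top _
    have heq : RingHom.ker (eval (0 : Fin (n + 1) → k)) = irr := hmax.eq_of_le hne hle
    haveI : irr.IsMaximal := heq ▸ hmax
    rw [Groth.Agent.Helper14.SmoothDim.height_eq_of_isMaximal_mvPolynomial k (n + 1) irr]
    exact_mod_cast (by omega : 2 < n + 1)
  · exact (MvPolynomial.mem_homogeneousSubmodule d f).mpr hf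

end Groth.Agent.Helper22.HypConn
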