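import Mathlib
import Groth.Prelude.Def_CohB1
import Groth.Agent.Lib.Helper22.HypConn

/-!
# Codimension one irreducible closed subsets of projective space are irreducible hypersurfaces
-/

set_option autoImplicit false
set_option maxHeartbeats 800000
universe u

noncomputable section

namespace Groth.Agent.Helper22.CoHt

open Groth.Agent.Helper22.HypConn

theorem coheight_eq_one_iff {α : Type*} [Preorder α] (x : α) :
    Order.coheight x = 1 ↔ ¬ IsMax x ∧ ∀ y, x < y → IsMax y := by
  constructor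
  · intro h
    refine ⟨?_, ?_⟩
    · rw [← Order.coheight_ne_zero, h]
      exact one_ne_zero
    · intro y hy
      have h1 : Order.coheight x ≤ ((1 : ℕ) : ℕ∞) := by
        rw [h, Nat.cast_one]
      have h2 : Order.coheight y < ((1 : ℕ) : ℕ∞) := Order.coheight_le_coe_iff.mp h1 y hy
      rw [Nat.cast_one, ENat.lt_one_iff_eq_zero] at h2
      exact Order.coheight_eq_zero.mp h2
  · rintro ⟨h1, h2⟩
    apply le_antisymm
    · have h3 : Order.coheight x ≤ ((1 : ℕ) : ℕ∞) := by
        rw [Order.coheight_le_coe_iff]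
        intro y hy
        rw [Nat.cast_one, ENat.lt_one_iff_eq_zero]
        exact Order.coheight_eq_zero.mpr (h2 y hy)
      rw [Nat.cast_one] at h3
      exact h3
    · by_contra hlt
      push_neg at hlt
      rw [ENat.lt_one_iff_eq_zero] at hlt
      exact h1 (Order.coheight_eq_zero.mp hlt)

section Abstract

variable {A σ : Type*} [CommRing A] [SetLike σ A] [AddSubmonoidClass σ A]
  (𝒜 : ℕ → σ) [GradedRing 𝒜]

/-- Every irreducible closed subset of the projective spectrum has a generic point. -/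
theorem exists_generic (Z : Set (ProjectiveSpectrum 𝒜)) (hZ : IsIrreducible Z) (hc : IsClosed Z) :
    ∃ z : ProjectiveSpectrum 𝒜, ∀ y : ProjectiveSpectrum 𝒜,
      y ∈ Z ↔ z.asHomogeneousIdeal.toIdeal ≤ y.asHomogeneousIdeal.toIdeal := by
  obtain ⟨I, hI⟩ : ∃ I : HomogeneousIdeal 𝒜, I = ProjectiveSpectrum.vanishingIdeal Z := ⟨_, rfl⟩
  have hmemI : ∀ a : A, a ∈ I.toIdeal ↔
      ∀ y : ProjectiveSpectrum 𝒜, y ∈ Z → a ∈ y.asHomogeneousIdeal.toIdeal := by
    intro a
    rw [hI]
    exact ProjectiveSpectrum.mem_vanishingIdeal Z a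
  have hZeq : ProjectiveSpectrum.zeroLocus 𝒜 (I : Set A) = Z := by
    rw [hI, ProjectiveSpectrum.zeroLocus_vanishingIdeal_eq_closure, hc.closure_eq]
  obtain ⟨y0, hy0⟩ := hZ.1
  have hIle : I.toIdeal ≤ y0.asHomogeneousIdeal.toIdeal := fun a ha => (hmemI a).mp ha y0 hy0
  have hprime : I.toIdeal.IsPrime := by
    refine ⟨?_, ?_⟩
    · intro h
      rw [h] at hIle
      exact y0.isPrime.ne_top (top_le_iff.mp hIle)
    · intro a b hab
      have hsub : Z ⊆ ProjectiveSpectrum.zeroLocus 𝒜 ({a} : Set A) ∪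
          ProjectiveSpectrum.zeroLocus 𝒜 ({b} : Set A) := by
        intro y hy
        have h1 := (hmemI (a * b)).mp hab y hy
        rcases y.isPrime.mem_or_mem h1 with h2 | h2
        · exact Or.inl ((mem_zeroLocus_singleton 𝒜 y a).mpr h2)
        · exact Or.inr ((mem_zeroLocus_singleton 𝒜 y b).mpr h2)
      rcases isPreirreducible_iff_isClosed_union_isClosed.mp hZ.2 _ _
        (ProjectiveSpectrum.isClosed_zeroLocus 𝒜 _) (ProjectiveSpectrum.isClosed_zeroLocus 𝒜 _)
        hsub with h | h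
      · exact Or.inl ((hmemI a).mpr fun y hy => (mem_zeroLocus_singleton 𝒜 y a).mp (h hy))
      · exact Or.inr ((hmemI b).mpr fun y hy => (mem_zeroLocus_singleton 𝒜 y b).mp (h hy))
  have hrel : ¬ (HomogeneousIdeal.irrelevant 𝒜).toIdeal ≤ I.toIdeal := by
    intro h
    exact y0.not_irrelevant_le (fun a ha => hIle (h ha))
  refine ⟨mkPt 𝒜 I.toIdeal hprime I.isHomogeneous hrel, ?_⟩
  intro y
  show y ∈ Z ↔ I.toIdeal ≤ y.asHomogeneousIdeal.toIdeal
  have h1 : y ∈ Z ↔ y ∈ ProjectiveSpectrum.zeroLocus 𝒜 (I : Set A) := by rw [hZeq]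
  rw [h1, ProjectiveSpectrum.mem_zeroLocus]
  constructor
  · intro h a ha
    exact h ha
  · intro h a ha
    exact h ha

/-- The irreducible closed subset with a given generic point. -/
def ptClosure (z : ProjectiveSpectrum 𝒜) :
    TopologicalSpace.IrreducibleCloseds (ProjectiveSpectrum 𝒜) :=
  ⟨closure {z}, isIrreducible_singleton.closure, isClosed_closure⟩

theorem mem_ptClosure (z y : ProjectiveSpectrum 𝒜) :
    y ∈ (ptClosure 𝒜 z : Set (ProjectiveSpectrum 𝒜)) ↔
      z.asHomogeneousIdeal.toIdeal ≤ y.asHomogeneousIdeal.toIdeal := by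
  show y ∈ closure {z} ↔ _
  rw [← ProjectiveSpectrum.le_iff_mem_closure]
  exact (ProjectiveSpectrum.as_ideal_le_as_ideal 𝒜 z y).symm

theorem coheight_eq_one_iff_abstract [IsDomain A] [UniqueFactorizationMonoid A]
    (Z : TopologicalSpace.IrreducibleCloseds (ProjectiveSpectrum 𝒜)) :
    Order.coheight Z = 1 ↔ ∃ f : A, Prime f ∧ (Ideal.span ({f} : Set A)).IsHomogeneous 𝒜 ∧
      (Z : Set (ProjectiveSpectrum 𝒜)) = ProjectiveSpectrum.zeroLocus 𝒜 ({f} : Set A) := by
  classical
  rw [coheight_eq_one_iff]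
  obtain ⟨z, hz⟩ := exists_generic 𝒜 (Z : Set (ProjectiveSpectrum 𝒜)) Z.isIrreducible Z.isClosed
  obtain ⟨P, hP⟩ : ∃ P : Ideal A, P = z.asHomogeneousIdeal.toIdeal := ⟨_, rfl⟩
  rw [← hP] at hz
  have hPprime : P.IsPrime := by rw [hP]; exact z.isPrime
  have hPhom : P.IsHomogeneous 𝒜 := by rw [hP]; exact z.asHomogeneousIdeal.isHomogeneous
  have hPrel : ¬ (HomogeneousIdeal.irrelevant 𝒜).toIdeal ≤ P := by
    rw [hP]; exact fun h => z.not_irrelevant_le h
  have hzZ : z ∈ (Z : Set (ProjectiveSpectrum 𝒜)) := (hz z).mpr (le_of_eq hP)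
  have hbotrel : ¬ (HomogeneousIdeal.irrelevant 𝒜).toIdeal ≤ (⊥ : Ideal A) :=
    fun h => hPrel (h.trans bot_le)
  have hbothom : (⊥ : Ideal A).IsHomogeneous 𝒜 := Ideal.IsHomogeneous.bot 𝒜
  obtain ⟨η, hη⟩ : ∃ η : ProjectiveSpectrum 𝒜, η.asHomogeneousIdeal.toIdeal = ⊥ :=
    ⟨mkPt 𝒜 ⊥ Ideal.isPrime_bot hbothom hbotrel, rfl⟩
  have hle : ∀ Z1 Z2 : TopologicalSpace.IrreducibleCloseds (ProjectiveSpectrum 𝒜),
      Z1 ≤ Z2 ↔ ∀ y : ProjectiveSpectrum 𝒜, y ∈ (Z1 : Set (ProjectiveSpectrum 𝒜)) →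
        y ∈ (Z2 : Set (ProjectiveSpectrum 𝒜)) := by
    intro Z1 Z2
    rw [← SetLike.coe_subset_coe]
    exact Iff.rfl
  have hηη : η ∈ (ptClosure 𝒜 η : Set (ProjectiveSpectrum 𝒜)) :=
    (mem_ptClosure 𝒜 η η).mpr le_rfl
  have htop : ∀ b : TopologicalSpace.IrreducibleCloseds (ProjectiveSpectrum 𝒜),
      b ≤ ptClosure 𝒜 η := by
    intro b
    rw [hle]
    intro y _
    rw [mem_ptClosure, hη]
    exact bot_le
  constructor
  · rintro ⟨hnmax, hmax⟩
    have hPbot : P ≠ ⊥ := by
      intro h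
      apply hnmax
      intro b _
      rw [hle]
      intro y _
      rw [hz y, h]
      exact bot_le
    obtain ⟨a, haP, ha0⟩ := Submodule.exists_mem_ne_zero_of_ne_bot hPbot
    have hcomp : ∃ i, ((DirectSum.decompose 𝒜 a) i : A) ≠ 0 := by
      by_contra h
      push_neg at h
      apply ha0
      rw [← DirectSum.sum_support_decompose 𝒜 a]
      exact Finset.sum_eq_zero (fun i _ => h i)
    obtain ⟨i, hi⟩ := hcomp
    obtain ⟨g, hg⟩ : ∃ g : A, g = ((DirectSum.decompose 𝒜 a) i : A) := ⟨_, rfl⟩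
    rw [← hg] at hi
    have hgP : g ∈ P := by rw [hg]; exact hPhom i haP
    have hgi : g ∈ 𝒜 i := by rw [hg]; exact SetLike.coe_mem _
    obtain ⟨J, hJ⟩ : ∃ J : Ideal A, J = Ideal.span {g} := ⟨_, rfl⟩
    have hJhom : J.IsHomogeneous 𝒜 := by
      rw [hJ]
      apply Ideal.homogeneous_span
      intro x hx
      rw [Set.mem_singleton_iff] at hx
      rw [hx]
      exact ⟨i, hgi⟩
    have hJP : J ≤ P := by
      rw [hJ, Ideal.span_singleton_le_iff_mem]; exact hgP
    obtain ⟨Q, hQ, hQP⟩ := Ideal.exists_minimalPrimes_le hJP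
    have hQprime : Q.IsPrime := hQ.1.1
    have hgQ : g ∈ Q := hQ.1.2 (by rw [hJ]; exact Ideal.mem_span_singleton_self g)
    have hQhom : Q.IsHomogeneous 𝒜 := isHomogeneous_of_mem_minimalPrimes 𝒜 hJhom hQ
    have hQrel : ¬ (HomogeneousIdeal.irrelevant 𝒜).toIdeal ≤ Q := fun h => hPrel (h.trans hQP)
    obtain ⟨q, hq⟩ : ∃ q : ProjectiveSpectrum 𝒜, q.asHomogeneousIdeal.toIdeal = Q :=
      ⟨mkPt 𝒜 Q hQprime hQhom hQrel, rfl⟩
    have hqq : q ∈ (ptClosure 𝒜 q : Set (ProjectiveSpectrum 𝒜)) :=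
      (mem_ptClosure 𝒜 q q).mpr le_rfl
    have hPQ : P ≤ Q := by
      by_contra hnle
      have hlt : Z < ptClosure 𝒜 q := by
        rw [lt_iff_le_not_ge]
        constructor
        · rw [hle]
          intro y hy
          rw [mem_ptClosure, hq]
          exact hQP.trans ((hz y).mp hy)
        · rw [hle]
          intro h
          have h1 := h q hqq
          rw [hz q, hq] at h1
          exact hnle h1
      have hm := hmax _ hlt
      have h3 := hm (htop (ptClosure 𝒜 q))
      rw [hle] at h3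
      have h4 := h3 η hηη
      rw [mem_ptClosure, hq, hη] at h4
      have h5 : g ∈ (⊥ : Ideal A) := h4 hgQ
      exact hi (Ideal.mem_bot.mp h5)
    have hPQeq : Q = P := le_antisymm hQP hPQ
    obtain ⟨F, hFprime, hFassoc⟩ := UniqueFactorizationMonoid.exists_prime_factors g hi
    obtain ⟨u, hu⟩ := hFassoc
    have hFP : F.prod ∈ P := by
      have h1 : F.prod * (u : A) ∈ P := by rw [hu]; exact hgP
      exact (Ideal.mul_unit_mem_iff_mem P u.isUnit).mp h1
    obtain ⟨π, hπF, hπP⟩ := (hPprime.multiset_prod_mem_iff_exists_mem F).mp hFP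
    have hπ : Prime π := hFprime π hπF
    have hπg : π ∣ g := by
      rw [← hu]
      exact Dvd.dvd.mul_right (Multiset.dvd_prod hπF) _
    have h5 : J ≤ Ideal.span {π} := by
      rw [hJ, Ideal.span_singleton_le_span_singleton]; exact hπg
    have h6 : Ideal.span {π} ≤ Q := by
      rw [hPQeq, Ideal.span_singleton_le_iff_mem]; exact hπP
    have h7 : Q ≤ Ideal.span {π} :=
      hQ.2 ⟨Ideal.isPrime_span_singleton_of_prime hπ, h5⟩ h6
    have h8 : Ideal.span {π} = P := by rw [← hPQeq]; exact le_antisymm h6 h7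
    refine ⟨π, hπ, ?_, ?_⟩
    · rw [h8]; exact hPhom
    · ext y
      rw [hz y, mem_zeroLocus_singleton, ← h8, Ideal.span_singleton_le_iff_mem]
  · rintro ⟨f, hf, hfhom, hZf⟩
    have hzf : ∀ y : ProjectiveSpectrum 𝒜,
        y ∈ (Z : Set (ProjectiveSpectrum 𝒜)) ↔ f ∈ y.asHomogeneousIdeal.toIdeal := by
      intro y
      rw [hZf, mem_zeroLocus_singleton]
    have hfP : f ∈ P := by rw [hP]; exact (hzf z).mp hzZ
    have hspanP : Ideal.span {f} ≤ P := by
      rw [Ideal.span_singleton_le_iff_mem]; exact hfP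
    have hfrel : ¬ (HomogeneousIdeal.irrelevant 𝒜).toIdeal ≤ Ideal.span {f} :=
      fun h => hPrel (h.trans hspanP)
    obtain ⟨pf, hpf⟩ : ∃ pf : ProjectiveSpectrum 𝒜,
        pf.asHomogeneousIdeal.toIdeal = Ideal.span {f} :=
      ⟨mkPt 𝒜 (Ideal.span {f}) (Ideal.isPrime_span_singleton_of_prime hf) hfhom hfrel, rfl⟩
    have hpfZ : pf ∈ (Z : Set (ProjectiveSpectrum 𝒜)) := by
      rw [hzf pf, hpf]; exact Ideal.mem_span_singleton_self f
    have hPspan : P = Ideal.span {f} := by
      apply le_antisymm _ hspanP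
      have h1 := (hz pf).mp hpfZ
      rw [hpf] at h1
      exact h1
    refine ⟨?_, ?_⟩
    · intro hm
      have h3 := hm (htop Z)
      rw [hle] at h3
      have h4 := h3 η hηη
      rw [hzf η, hη] at h4
      exact hf.ne_zero (Ideal.mem_bot.mp h4)
    · intro b hb
      rw [lt_iff_le_not_ge] at hb
      obtain ⟨hb1, hb2⟩ := hb
      obtain ⟨β, hβ⟩ :=
        exists_generic 𝒜 (b : Set (ProjectiveSpectrum 𝒜)) b.isIrreducible b.isClosed
      obtain ⟨B, hB⟩ : ∃ B : Ideal A, B = β.asHomogeneousIdeal.toIdeal := ⟨_, rfl⟩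
      rw [← hB] at hβ
      have hBprime : B.IsPrime := by rw [hB]; exact β.isPrime
      have hnPB : ¬ P ≤ B := by
        intro h
        apply hb2
        rw [hle]
        intro y hy
        rw [hz y]
        exact h.trans ((hβ y).mp hy)
      have hBbot : B = ⊥ := by
        by_contra hBne
        obtain ⟨π', hπ'B, hπ'⟩ := hBprime.exists_mem_prime_of_ne_bot hBne
        have hBP : B ≤ P := by
          have h1 := (hβ z).mp ((hle Z b).mp hb1 z hzZ)
          rw [← hP] at h1
          exact h1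
        have h2 : π' ∈ Ideal.span {f} := by rw [← hPspan]; exact hBP hπ'B
        obtain ⟨c, hc⟩ := Ideal.mem_span_singleton.mp h2
        have hcu : IsUnit c := (hπ'.irreducible.isUnit_or_isUnit hc).resolve_left hf.not_unit
        have h3 : f * c ∈ B := by rw [← hc]; exact hπ'B
        have h4 : f ∈ B := (Ideal.mul_unit_mem_iff_mem B hcu).mp h3
        apply hnPB
        rw [hPspan, Ideal.span_singleton_le_iff_mem]
        exact h4
      intro c _
      rw [hle]
      intro y _
      rw [hβ y, hBbot]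
      exact bot_le

end Abstract

open MvPolynomial in
theorem isHomogeneous_of_span (k : Type u) [Field k] (n : ℕ)
    (f : MvPolynomial (Fin (n + 1)) k) (hf0 : f ≠ 0)
    (hhom : (Ideal.span ({f} : Set (MvPolynomial (Fin (n + 1)) k))).IsHomogeneous
      (CohB1.polyGrading n k)) :
    ∃ d, f.IsHomogeneous d := by
  classical
  have hex : ∃ j, homogeneousComponent j f ≠ 0 := by
    by_contra h
    push_neg at h
    apply hf0
    rw [← sum_homogeneousComponent f]
    exact Finset.sum_eq_zero (fun i _ => h i)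
  obtain ⟨d, hd⟩ : ∃ d, d = Nat.find hex := ⟨_, rfl⟩
  have hd0 : homogeneousComponent d f ≠ 0 := by rw [hd]; exact Nat.find_spec hex
  have hmin : ∀ j, j < d → homogeneousComponent j f = 0 := by
    intro j hj
    by_contra h
    rw [hd] at hj
    exact Nat.find_min hex hj h
  have hgmem : homogeneousComponent d f ∈
      Ideal.span ({f} : Set (MvPolynomial (Fin (n + 1)) k)) :=
    homogeneousComponent_mem_of_mem hhom (Ideal.mem_span_singleton_self f) d
  obtain ⟨c, hc⟩ := Ideal.mem_span_singleton.mp hgmem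
  have hc0 : c ≠ 0 := by
    rintro rfl
    rw [mul_zero] at hc
    exact hd0 hc
  have htd : (homogeneousComponent d f).totalDegree = d :=
    (homogeneousComponent_isHomogeneous d f).totalDegree hd0
  have htd2 : f.totalDegree ≤ d := by
    have h1 := totalDegree_mul_of_isDomain hf0 hc0
    rw [← hc, htd] at h1
    omega
  refine ⟨d, ?_⟩
  have hsum : ∑ i ∈ Finset.range (f.totalDegree + 1), homogeneousComponent i f =
      homogeneousComponent d f := by
    apply Finset.sum_eq_single d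
    · intro j hj hjd
      rw [Finset.mem_range] at hj
      exact hmin j (by omega)
    · intro hnot
      rw [Finset.mem_range] at hnot
      exact homogeneousComponent_eq_zero d f (by omega)
  rw [sum_homogeneousComponent] at hsum
  rw [hsum]
  exact homogeneousComponent_isHomogeneous d f

theorem master (k : Type u) [Field k] (n : ℕ)
    (Z : TopologicalSpace.IrreducibleCloseds (ProjectiveSpectrum (CohB1.polyGrading n k))) :
    Order.coheight Z = 1 ↔
      ∃ (d : ℕ) (f : MvPolynomial (Fin (n + 1)) k), f.IsHomogeneous d ∧ Irreducible f ∧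
        (Z : Set (ProjectiveSpectrum (CohB1.polyGrading n k))) =
          ProjectiveSpectrum.zeroLocus (CohB1.polyGrading n k)
            ({f} : Set (MvPolynomial (Fin (n + 1)) k)) := by
  rw [coheight_eq_one_iff_abstract (CohB1.polyGrading n k) Z]
  constructor
  · rintro ⟨f, hf, hfhom, hZ⟩
    obtain ⟨d, hd⟩ := isHomogeneous_of_span k n f hf.ne_zero hfhom
    exact ⟨d, f, hd, hf.irreducible, hZ⟩
  · rintro ⟨d, f, hd, hf, hZ⟩
    refine ⟨f, UniqueFactorizationMonoid.irreducible_iff_prime.mp hf, ?_, hZ⟩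
    apply Ideal.homogeneous_span
    intro x hx
    rw [Set.mem_singleton_iff] at hx
    rw [hx]
    exact ⟨d, (MvPolynomial.mem_homogeneousSubmodule d f).mpr hd⟩

end Groth.Agent.Helper22.CoHt
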