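import Groth.Agent.Lib.Helper12.ComodQuot
import Mathlib

/-!
# Comodules over a direct sum of subcoalgebras decompose
-/

set_option autoImplicit false

namespace Groth.Agent.Helper22.CoalgDecomp

open TensorProduct Groth.Agent.Helper12

universe u v w w'

section Proj

variable {R : Type u} {C : Type v} [CommRing R] [AddCommGroup C] [Module R C]
variable {ι : Type w} (D : ι → Submodule R C) (hind : iSupIndep D) (htop : iSup D = ⊤)

include hind htop in
theorem isCompl (i : ι) : IsCompl (D i) (⨆ (j) (_ : j ≠ i), D j) := by
  refine ⟨hind i, codisjoint_iff.mpr ?_⟩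
  rw [eq_top_iff, ← htop]
  apply iSup_le
  intro j
  by_cases hji : j = i
  · rw [hji]; exact le_sup_left
  · exact le_sup_of_le_right (le_iSup₂_of_le j hji le_rfl)

/-- projection onto `D i` -/
noncomputable def P (i : ι) : C →ₗ[R] C :=
  (D i).subtype ∘ₗ Submodule.projectionOnto _ _ (isCompl D hind htop i)

/-- corestricted projection -/
noncomputable def P' (i : ι) : C →ₗ[R] D i :=
  Submodule.projectionOnto _ _ (isCompl D hind htop i)

theorem P_eq (i : ι) : P D hind htop i = (D i).subtype ∘ₗ P' D hind htop i := rfl

theorem P_of_mem_same {i : ι} {c : C} (hc : c ∈ D i) : P D hind htop i c = c := by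
  unfold P
  rw [LinearMap.comp_apply]
  rw [Submodule.projectionOnto_apply_of_mem_left (isCompl D hind htop i) hc]
  rfl

theorem P_of_mem_ne {i j : ι} (hji : j ≠ i) {c : C} (hc : c ∈ D j) : P D hind htop i c = 0 := by
  unfold P
  rw [LinearMap.comp_apply]
  have hc' : c ∈ ⨆ (j) (_ : j ≠ i), D j :=
    Submodule.mem_iSup_of_mem j (Submodule.mem_iSup_of_mem hji hc)
  rw [Submodule.projectionOnto_apply_of_mem_right (isCompl D hind htop i) hc', map_zero]

/-- every element is a finite sum of its projections -/
theorem exists_finset_sum_P (c : C) : ∃ s : Finset ι, ∀ t : Finset ι, s ⊆ t →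
    ∑ i ∈ t, P D hind htop i c = c := by
  classical
  have hc : c ∈ ⨆ i, D i := by rw [htop]; trivial
  induction hc using Submodule.iSup_induction' with
  | mem j x hx =>
    refine ⟨{j}, fun t ht => ?_⟩
    rw [Finset.sum_eq_single j]
    · exact P_of_mem_same D hind htop hx
    · intro i _ hij
      exact P_of_mem_ne D hind htop (Ne.symm hij) hx
    · intro hj
      exact absurd (ht (Finset.mem_singleton_self j)) hj
  | zero => exact ⟨∅, fun t _ => by simp⟩
  | add x y _ _ hx hy =>
    obtain ⟨s₁, h₁⟩ := hx
    obtain ⟨s₂, h₂⟩ := hy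
    refine ⟨s₁ ∪ s₂, fun t ht => ?_⟩
    simp only [map_add, Finset.sum_add_distrib]
    rw [h₁ t (Finset.union_subset_left ht), h₂ t (Finset.union_subset_right ht)]

/-- tensor version -/
theorem exists_finset_sum_lTensor_P {V : Type w'} [AddCommGroup V] [Module R V] (z : V ⊗[R] C) :
    ∃ s : Finset ι, ∀ t : Finset ι, s ⊆ t →
      ∑ i ∈ t, LinearMap.lTensor V (P D hind htop i) z = z := by
  classical
  induction z using TensorProduct.induction_on with
  | zero => exact ⟨∅, fun t _ => by simp⟩
  | tmul v c =>
    obtain ⟨s, hs⟩ := exists_finset_sum_P D hind htop c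
    refine ⟨s, fun t ht => ?_⟩
    simp only [LinearMap.lTensor_tmul]
    rw [← TensorProduct.tmul_sum, hs t ht]
  | add x y hx hy =>
    obtain ⟨s₁, h₁⟩ := hx
    obtain ⟨s₂, h₂⟩ := hy
    refine ⟨s₁ ∪ s₂, fun t ht => ?_⟩
    simp only [map_add, Finset.sum_add_distrib]
    rw [h₁ t (Finset.union_subset_left ht), h₂ t (Finset.union_subset_right ht)]

end Proj

section Coalg

variable {R : Type u} {C : Type v} [CommRing R] [AddCommGroup C] [Module R C] [Coalgebra R C]
variable {ι : Type w} (D : ι → Submodule R C)
  (hD : ∀ i, ∀ d ∈ D i, CoalgebraStruct.comul (R := R) d ∈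
      LinearMap.range (TensorProduct.map (D i).subtype (D i).subtype))
  (hind : iSupIndep D) (htop : iSup D = ⊤)

include hD in
theorem lTensor_counit_P_comul (i : ι) (c : C) :
    LinearMap.lTensor C (Coalgebra.counit (R := R) ∘ₗ P D hind htop i)
      (Coalgebra.comul (R := R) c) = (P D hind htop i c) ⊗ₜ[R] (1 : R) := by
  have hc : c ∈ ⨆ i, D i := by rw [htop]; trivial
  induction hc using Submodule.iSup_induction' with
  | mem j d hd =>
    obtain ⟨y, hy⟩ := hD j d hd
    by_cases hij : j = i
    · subst hij
      have h1 : ∀ y : (D j) ⊗[R] (D j),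
          LinearMap.lTensor C (Coalgebra.counit (R := R) ∘ₗ P D hind htop j)
          (TensorProduct.map (D j).subtype (D j).subtype y) =
          LinearMap.lTensor C (Coalgebra.counit (R := R))
            (TensorProduct.map (D j).subtype (D j).subtype y) := by
        intro y
        induction y using TensorProduct.induction_on with
        | zero => simp
        | tmul x x' =>
          simp only [TensorProduct.map_tmul, LinearMap.lTensor_tmul, LinearMap.comp_apply,
            Submodule.subtype_apply]
          rw [P_of_mem_same D hind htop x'.2]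
        | add a b ha hb => simp only [map_add, ha, hb]
      have h2 := LinearMap.congr_fun (Coalgebra.lTensor_counit_comp_comul (R := R) (A := C)) d
      simp only [LinearMap.comp_apply, LinearMap.flip_apply, TensorProduct.mk_apply] at h2
      rw [← hy, h1 y, hy, h2, P_of_mem_same D hind htop hd]
    · have h1 : ∀ y : (D j) ⊗[R] (D j),
          LinearMap.lTensor C (Coalgebra.counit (R := R) ∘ₗ P D hind htop i)
          (TensorProduct.map (D j).subtype (D j).subtype y) = 0 := by
        intro y
        induction y using TensorProduct.induction_on with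
        | zero => simp
        | tmul x x' =>
          simp only [TensorProduct.map_tmul, LinearMap.lTensor_tmul, LinearMap.comp_apply,
            Submodule.subtype_apply]
          rw [P_of_mem_ne D hind htop hij x'.2, map_zero, TensorProduct.tmul_zero]
        | add a b ha hb => simp only [map_add, ha, hb, add_zero]
      rw [← hy, h1 y, P_of_mem_ne D hind htop hij hd, TensorProduct.zero_tmul]
  | zero => simp
  | add x y _ _ hx hy => simp only [map_add, hx, hy, TensorProduct.add_tmul]

include hD in
theorem rTensor_counit_P_comul (i : ι) (c : C) :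
    LinearMap.rTensor C (Coalgebra.counit (R := R) ∘ₗ P D hind htop i)
      (Coalgebra.comul (R := R) c) = (1 : R) ⊗ₜ[R] (P D hind htop i c) := by
  have hc : c ∈ ⨆ i, D i := by rw [htop]; trivial
  induction hc using Submodule.iSup_induction' with
  | mem j d hd =>
    obtain ⟨y, hy⟩ := hD j d hd
    by_cases hij : j = i
    · subst hij
      have h1 : ∀ y : (D j) ⊗[R] (D j),
          LinearMap.rTensor C (Coalgebra.counit (R := R) ∘ₗ P D hind htop j)
          (TensorProduct.map (D j).subtype (D j).subtype y) =
          LinearMap.rTensor C (Coalgebra.counit (R := R))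
            (TensorProduct.map (D j).subtype (D j).subtype y) := by
        intro y
        induction y using TensorProduct.induction_on with
        | zero => simp
        | tmul x x' =>
          simp only [TensorProduct.map_tmul, LinearMap.rTensor_tmul, LinearMap.comp_apply,
            Submodule.subtype_apply]
          rw [P_of_mem_same D hind htop x.2]
        | add a b ha hb => simp only [map_add, ha, hb]
      have h2 := LinearMap.congr_fun (Coalgebra.rTensor_counit_comp_comul (R := R) (A := C)) d
      simp only [LinearMap.comp_apply, TensorProduct.mk_apply] at h2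
      rw [← hy, h1 y, hy, h2, P_of_mem_same D hind htop hd]
    · have h1 : ∀ y : (D j) ⊗[R] (D j),
          LinearMap.rTensor C (Coalgebra.counit (R := R) ∘ₗ P D hind htop i)
          (TensorProduct.map (D j).subtype (D j).subtype y) = 0 := by
        intro y
        induction y using TensorProduct.induction_on with
        | zero => simp
        | tmul x x' =>
          simp only [TensorProduct.map_tmul, LinearMap.rTensor_tmul, LinearMap.comp_apply,
            Submodule.subtype_apply]
          rw [P_of_mem_ne D hind htop hij x.2, map_zero, TensorProduct.zero_tmul]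
        | add a b ha hb => simp only [map_add, ha, hb, add_zero]
      rw [← hy, h1 y, P_of_mem_ne D hind htop hij hd, TensorProduct.tmul_zero]
  | zero => simp
  | add x y _ _ hx hy => simp only [map_add, hx, hy, TensorProduct.tmul_add]

include hD in
theorem rtrans_counit_P (i : ι) :
    rtrans (Coalgebra.counit (R := R) ∘ₗ P D hind htop i) = P D hind htop i := by
  ext c
  unfold rtrans
  simp only [LinearMap.comp_apply, LinearEquiv.coe_coe]
  have := lTensor_counit_P_comul D hD hind htop i c
  rw [this]
  simp

/-- the left translate of a functional: `c ↦ (l ⊗ id) (Δ c)` -/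
noncomputable def ltrans (l : C →ₗ[R] R) : C →ₗ[R] C :=
  (TensorProduct.lid R C).toLinearMap ∘ₗ LinearMap.rTensor C l ∘ₗ Coalgebra.comul (R := R) (A := C)

include hD in
theorem ltrans_counit_P (i : ι) :
    ltrans (Coalgebra.counit (R := R) ∘ₗ P D hind htop i) = P D hind htop i := by
  ext c
  unfold ltrans
  simp only [LinearMap.comp_apply, LinearEquiv.coe_coe]
  have := rTensor_counit_P_comul D hD hind htop i c
  rw [this]
  simp

end Coalg

section Comod

variable {R : Type u} {C : Type v} [CommRing R] [AddCommGroup C] [Module R C] [Coalgebra R C]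
variable {ι : Type w} (D : ι → Submodule R C)
  (hD : ∀ i, ∀ d ∈ D i, CoalgebraStruct.comul (R := R) d ∈
      LinearMap.range (TensorProduct.map (D i).subtype (D i).subtype))
  (hind : iSupIndep D) (htop : iSup D = ⊤)
variable (V : Type w') [AddCommGroup V] [Module R V] [HopfRep.Comod R C V]

/-- the `i`-th isotypic part -/
def Vi (i : ι) : Submodule R V :=
  (LinearMap.range (LinearMap.lTensor V (D i).subtype)).comap
    (HopfRep.Comod.coact (k := R) (A := C) (V := V))

/-- the `i`-th idempotent -/
noncomputable def e (i : ι) : V →ₗ[R] V :=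
  slice (Coalgebra.counit (R := R) ∘ₗ P D hind htop i) ∘ₗ
    HopfRep.Comod.coact (k := R) (A := C) (V := V)

variable {V}

omit [Coalgebra R C] [HopfRep.Comod R C V] in
theorem slice_lTensor {C' : Type*} [AddCommGroup C'] [Module R C'] (l : C' →ₗ[R] R)
    (f : C →ₗ[R] C') (z : V ⊗[R] C) : slice l (LinearMap.lTensor V f z) = slice (l ∘ₗ f) z := by
  induction z using TensorProduct.induction_on with
  | zero => simp
  | tmul v c => simp
  | add a b ha hb => simp only [map_add, ha, hb]

theorem rTensor_slice_coact' (l : C →ₗ[R] R) (v : V) :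
    LinearMap.rTensor C (slice l ∘ₗ HopfRep.Comod.coact (k := R) (A := C) (V := V))
      (HopfRep.Comod.coact (k := R) (A := C) v) =
    LinearMap.lTensor V (ltrans l) (HopfRep.Comod.coact (k := R) (A := C) v) := by
  have hco := LinearMap.congr_fun (HopfRep.Comod.coassoc (k := R) (A := C) (V := V)) v
  simp only [LinearMap.comp_apply, LinearEquiv.coe_coe] at hco
  have h1 : (HopfRep.Comod.coact (k := R) (A := C) (V := V)).rTensor C
      (HopfRep.Comod.coact (k := R) (A := C) v) =
      (TensorProduct.assoc R V C C).symm
        ((CoalgebraStruct.comul (R := R) (A := C)).lTensor V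
          (HopfRep.Comod.coact (k := R) (A := C) v)) := by
    rw [← hco, LinearEquiv.symm_apply_apply]
  rw [LinearMap.rTensor_comp_apply, h1]
  generalize HopfRep.Comod.coact (k := R) (A := C) v = z
  induction z using TensorProduct.induction_on with
  | zero => simp
  | tmul w c =>
    simp only [LinearMap.lTensor_tmul]
    unfold ltrans
    simp only [LinearMap.comp_apply, LinearEquiv.coe_coe]
    generalize CoalgebraStruct.comul (R := R) c = y
    induction y using TensorProduct.induction_on with
    | zero => simp
    | tmul c₁ c₂ => simp [TensorProduct.smul_tmul]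
    | add a b ha hb => simp only [TensorProduct.tmul_add, map_add, ha, hb]
  | add a b ha hb => simp only [map_add, ha, hb]

include hD in
theorem coact_e (i : ι) (v : V) :
    HopfRep.Comod.coact (k := R) (A := C) (e D hind htop V i v) =
      LinearMap.lTensor V (P D hind htop i) (HopfRep.Comod.coact (k := R) (A := C) v) := by
  unfold e
  rw [LinearMap.comp_apply, coact_slice_coact, rtrans_counit_P D hD hind htop i]

include hD in
theorem rTensor_e_coact (i : ι) (v : V) :
    LinearMap.rTensor C (e D hind htop V i) (HopfRep.Comod.coact (k := R) (A := C) v) =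
      LinearMap.lTensor V (P D hind htop i) (HopfRep.Comod.coact (k := R) (A := C) v) := by
  unfold e
  rw [rTensor_slice_coact', ltrans_counit_P D hD hind htop i]

include hD in
theorem e_mem (i : ι) (v : V) : e D hind htop V i v ∈ Vi D V i := by
  show HopfRep.Comod.coact (k := R) (A := C) (e D hind htop V i v) ∈
    LinearMap.range (LinearMap.lTensor V (D i).subtype)
  rw [coact_e D hD hind htop i v, P_eq, LinearMap.lTensor_comp_apply]
  exact ⟨_, rfl⟩

omit [Coalgebra R C] [HopfRep.Comod R C V] in
theorem lTensor_P_of_mem {i : ι} {z : V ⊗[R] C}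
    (hz : z ∈ LinearMap.range (LinearMap.lTensor V (D i).subtype)) :
    LinearMap.lTensor V (P D hind htop i) z = z := by
  obtain ⟨y, rfl⟩ := hz
  induction y using TensorProduct.induction_on with
  | zero => simp
  | tmul v d =>
    simp only [LinearMap.lTensor_tmul, Submodule.subtype_apply]
    rw [P_of_mem_same D hind htop d.2]
  | add a b ha hb => simp only [map_add, ha, hb]

omit [Coalgebra R C] [HopfRep.Comod R C V] in
theorem lTensor_P_of_mem_ne {i j : ι} (hji : j ≠ i) {z : V ⊗[R] C}
    (hz : z ∈ LinearMap.range (LinearMap.lTensor V (D j).subtype)) :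
    LinearMap.lTensor V (P D hind htop i) z = 0 := by
  obtain ⟨y, rfl⟩ := hz
  induction y using TensorProduct.induction_on with
  | zero => simp
  | tmul v d =>
    simp only [LinearMap.lTensor_tmul, Submodule.subtype_apply]
    rw [P_of_mem_ne D hind htop hji d.2, TensorProduct.tmul_zero]
  | add a b ha hb => simp only [map_add, ha, hb, add_zero]

theorem e_eq_slice_counit (i : ι) (v : V) : e D hind htop V i v =
    slice (Coalgebra.counit (R := R))
      (LinearMap.lTensor V (P D hind htop i) (HopfRep.Comod.coact (k := R) (A := C) v)) := by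
  unfold e
  rw [LinearMap.comp_apply, slice_lTensor]

theorem e_of_mem_same {i : ι} {v : V} (hv : v ∈ Vi D V i) : e D hind htop V i v = v := by
  rw [e_eq_slice_counit, lTensor_P_of_mem D hind htop hv, slice_counit_coact]

theorem e_of_mem_ne {i j : ι} (hji : j ≠ i) {v : V} (hv : v ∈ Vi D V j) :
    e D hind htop V i v = 0 := by
  rw [e_eq_slice_counit, lTensor_P_of_mem_ne D hind htop hji hv, map_zero]

theorem exists_sum_e (v : V) : ∃ s : Finset ι, ∑ i ∈ s, e D hind htop V i v = v := by
  obtain ⟨s, hs⟩ := exists_finset_sum_lTensor_P D hind htop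
    (HopfRep.Comod.coact (k := R) (A := C) v)
  refine ⟨s, ?_⟩
  simp only [e_eq_slice_counit]
  rw [← map_sum, hs s (Finset.Subset.refl s), slice_counit_coact]

include hD hind htop in
/-- the main decomposition theorem -/
theorem main :
    (∀ i, HopfRep.IsSubcomod (k := R) (A := C) (Vi D V i)) ∧
    iSupIndep (fun i => Vi D V i) ∧ (⨆ i, Vi D V i) = ⊤ ∧
    ∀ i, ∀ v ∈ Vi D V i, HopfRep.Comod.coact (k := R) (A := C) v ∈
        LinearMap.range (TensorProduct.map (Vi D V i).subtype (D i).subtype) := by
  -- the corestricted idempotents
  let e' : ∀ i, V →ₗ[R] Vi D V i := fun i =>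
    (e D hind htop V i).codRestrict (Vi D V i) (e_mem D hD hind htop i)
  have he' : ∀ i, (Vi D V i).subtype ∘ₗ e' i = e D hind htop V i := fun i => rfl
  have hfix : ∀ i, ∀ v ∈ Vi D V i, HopfRep.Comod.coact (k := R) (A := C) v =
      LinearMap.rTensor C (e D hind htop V i) (HopfRep.Comod.coact (k := R) (A := C) v) := by
    intro i v hv
    rw [rTensor_e_coact D hD hind htop i v, lTensor_P_of_mem D hind htop hv]
  refine ⟨?_, ?_, ?_, ?_⟩
  · intro i w hw
    rw [hfix i w hw, ← he' i, LinearMap.rTensor_comp_apply]
    exact ⟨_, rfl⟩
  · intro i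
    rw [Submodule.disjoint_def]
    intro x hx hx'
    have hker : (⨆ (j) (_ : j ≠ i), Vi D V j) ≤ LinearMap.ker (e D hind htop V i) := by
      apply iSup₂_le
      intro j hji v hv
      exact e_of_mem_ne D hind htop hji hv
    have h0 : e D hind htop V i x = 0 := hker hx'
    rw [e_of_mem_same D hind htop hx] at h0
    exact h0
  · rw [eq_top_iff]
    intro v _
    obtain ⟨s, hs⟩ := exists_sum_e D hind htop v
    rw [← hs]
    exact Submodule.sum_mem _ fun i _ =>
      Submodule.mem_iSup_of_mem i (e_mem D hD hind htop i v)
  · intro i v hv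
    obtain ⟨z, hz⟩ := hv
    rw [hfix i v ⟨z, hz⟩, ← hz, ← he' i, LinearMap.rTensor_comp_apply]
    refine ⟨LinearMap.rTensor (D i) (e' i) z, ?_⟩
    generalize z = z'
    induction z' using TensorProduct.induction_on with
    | zero => simp
    | tmul a b => simp
    | add a b ha hb => simp only [map_add, ha, hb]

end Comod

end Groth.Agent.Helper22.CoalgDecomp
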