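import Groth.Agent.Lib.Helper22.CoalgDecomp
import Groth.Prelude.Def_Hoch

/-!
# Cosemisimple coalgebras: the projections are coalgebra maps; simple subcoalgebras are members
-/

set_option autoImplicit false

namespace Groth.Agent.Helper22.CoalgDecomp

open TensorProduct Groth.Agent.Helper12

universe u v w w'

section

variable {R : Type u} {C : Type v} [CommRing R] [AddCommGroup C] [Module R C] [Coalgebra R C]
variable {ι : Type w} (D : ι → Submodule R C)
  (hD : ∀ i, ∀ d ∈ D i, CoalgebraStruct.comul (R := R) d ∈
      LinearMap.range (TensorProduct.map (D i).subtype (D i).subtype))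
  (hind : iSupIndep D) (htop : iSup D = ⊤)

include hD in
theorem comul_P (i : ι) (c : C) :
    CoalgebraStruct.comul (R := R) (P D hind htop i c) =
      TensorProduct.map (P D hind htop i) (P D hind htop i) (CoalgebraStruct.comul (R := R) c) := by
  have hc : c ∈ ⨆ i, D i := by rw [htop]; trivial
  induction hc using Submodule.iSup_induction' with
  | mem j d hd =>
    obtain ⟨y, hy⟩ := hD j d hd
    by_cases hij : j = i
    · subst hij
      have h1 : ∀ y : (D j) ⊗[R] (D j),
          TensorProduct.map (P D hind htop j) (P D hind htop j)
            (TensorProduct.map (D j).subtype (D j).subtype y) =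
          TensorProduct.map (D j).subtype (D j).subtype y := by
        intro y
        induction y using TensorProduct.induction_on with
        | zero => simp
        | tmul x x' =>
          simp only [TensorProduct.map_tmul, Submodule.subtype_apply]
          rw [P_of_mem_same D hind htop x.2, P_of_mem_same D hind htop x'.2]
        | add a b ha hb => simp only [map_add, ha, hb]
      rw [P_of_mem_same D hind htop hd, ← hy, h1 y]
    · have h1 : ∀ y : (D j) ⊗[R] (D j),
          TensorProduct.map (P D hind htop i) (P D hind htop i)
            (TensorProduct.map (D j).subtype (D j).subtype y) = 0 := by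
        intro y
        induction y using TensorProduct.induction_on with
        | zero => simp
        | tmul x x' =>
          simp only [TensorProduct.map_tmul, Submodule.subtype_apply]
          rw [P_of_mem_ne D hind htop hij x.2, TensorProduct.zero_tmul]
        | add a b ha hb => simp only [map_add, ha, hb, add_zero]
      rw [P_of_mem_ne D hind htop hij hd, map_zero, ← hy, h1 y]
  | zero => simp
  | add x y _ _ hx hy => simp only [map_add, hx, hy]

omit [Coalgebra R C] in
theorem P_mem (i : ι) (c : C) : P D hind htop i c ∈ D i := by
  rw [P_eq, LinearMap.comp_apply]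
  exact (P' D hind htop i c).2

include hD in
/-- a subcoalgebra is stable under the projections -/
theorem P_mem_of_subcoalg (B : Submodule R C)
    (hB : ∀ b ∈ B, CoalgebraStruct.comul (R := R) b ∈
      LinearMap.range (TensorProduct.map B.subtype B.subtype)) (i : ι) (b : C) (hb : b ∈ B) :
    P D hind htop i b ∈ B := by
  have h1 := LinearMap.congr_fun (rtrans_counit_P D hD hind htop i) b
  rw [← h1]
  unfold rtrans
  simp only [LinearMap.comp_apply, LinearEquiv.coe_coe]
  obtain ⟨y, hy⟩ := hB b hb
  have hy' : Coalgebra.comul (R := R) b = TensorProduct.map B.subtype B.subtype y := hy.symm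
  rw [hy']
  clear hy hy'
  induction y using TensorProduct.induction_on with
  | zero => simp
  | tmul x x' =>
    simp only [TensorProduct.map_tmul, LinearMap.lTensor_tmul, TensorProduct.rid_tmul,
      Submodule.subtype_apply]
    exact B.smul_mem _ x.2
  | add a b ha hb => simp only [map_add]; exact B.add_mem ha hb

include hD in
/-- the image of a subcoalgebra under a projection is a subcoalgebra -/
theorem map_P_subcoalg (B : Submodule R C)
    (hB : ∀ b ∈ B, CoalgebraStruct.comul (R := R) b ∈
      LinearMap.range (TensorProduct.map B.subtype B.subtype)) (i : ι) :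
    ∀ b ∈ B.map (P D hind htop i), CoalgebraStruct.comul (R := R) b ∈
      LinearMap.range (TensorProduct.map (B.map (P D hind htop i)).subtype
        (B.map (P D hind htop i)).subtype) := by
  rintro _ ⟨d, hd, rfl⟩
  rw [comul_P D hD hind htop i d]
  obtain ⟨y, hy⟩ := hB d hd
  rw [← hy]
  clear hy
  let q : B →ₗ[R] B.map (P D hind htop i) := (P D hind htop i).submoduleMap B
  refine ⟨TensorProduct.map q q y, ?_⟩
  induction y using TensorProduct.induction_on with
  | zero => simp
  | tmul x x' => simp [q]
  | add a b ha hb => simp only [map_add, ha, hb]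

end

section Field

variable {K : Type u} {C : Type v} [Field K] [AddCommGroup C] [Module K C] [Coalgebra K C]
variable {ι : Type w} (D : ι → Submodule K C)
  (hD : ∀ i, ∀ d ∈ D i, CoalgebraStruct.comul (R := K) d ∈
      LinearMap.range (TensorProduct.map (D i).subtype (D i).subtype))
  (hind : iSupIndep D) (htop : iSup D = ⊤)

include hD hind htop in
/-- in a direct sum of simple subcoalgebras every simple subcoalgebra is one of the summands -/
theorem simple_eq_member
    (hDs : ∀ i, ∀ B : Submodule K C, B ≤ D i →
      (∀ b ∈ B, CoalgebraStruct.comul (R := K) b ∈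
        LinearMap.range (TensorProduct.map B.subtype B.subtype)) → B = ⊥ ∨ B = D i)
    (E : Submodule K C) (hE0 : E ≠ ⊥)
    (hE : ∀ b ∈ E, CoalgebraStruct.comul (R := K) b ∈
      LinearMap.range (TensorProduct.map E.subtype E.subtype))
    (hEs : ∀ B : Submodule K C, B ≤ E →
      (∀ b ∈ B, CoalgebraStruct.comul (R := K) b ∈
        LinearMap.range (TensorProduct.map B.subtype B.subtype)) → B = ⊥ ∨ B = E) :
    ∃ i, E = D i := by
  have hle : ∀ i, E.map (P D hind htop i) ≤ E := by
    rintro i _ ⟨d, hd, rfl⟩
    exact P_mem_of_subcoalg D hD hind htop E hE i d hd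
  have hcases : ∀ i, E.map (P D hind htop i) = ⊥ ∨ E.map (P D hind htop i) = E :=
    fun i => hEs _ (hle i) (map_P_subcoalg D hD hind htop E hE i)
  by_cases hall : ∀ i, E.map (P D hind htop i) = ⊥
  · exfalso
    apply hE0
    rw [eq_bot_iff]
    intro d hd
    obtain ⟨s, hs⟩ := exists_finset_sum_P D hind htop d
    rw [Submodule.mem_bot, ← hs s (Finset.Subset.refl s)]
    apply Finset.sum_eq_zero
    intro i _
    have : P D hind htop i d ∈ E.map (P D hind htop i) := ⟨d, hd, rfl⟩
    rw [hall i, Submodule.mem_bot] at this
    exact this
  · push_neg at hall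
    obtain ⟨i, hi⟩ := hall
    have hEi : E.map (P D hind htop i) = E := (hcases i).resolve_left hi
    have hEDi : E ≤ D i := by
      rw [← hEi]
      rintro _ ⟨d, _, rfl⟩
      exact P_mem D hind htop i d
    exact ⟨i, (hDs i E hEDi hE).resolve_left hE0⟩

end Field

end Groth.Agent.Helper22.CoalgDecomp
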