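import Groth.Agent.Lib.Helper22.Coeff2

/-!
# Coefficient spaces: simple subcoalgebras, isotypic components, semisimplicity
-/

set_option autoImplicit false
noncomputable section
namespace Groth.Agent.Helper22.Coeff
open TensorProduct Groth.Agent.Helper12 WithConv Groth.Agent.Helper22.DualAct
universe u v w w'

section Indep
variable {k : Type u} [Field k] {C : Type v} [AddCommGroup C] [Module k C] [Coalgebra k C]
variable (V : Type w) [AddCommGroup V] [Module k V] [HopfRep.Comod k C V]

theorem iSupIndep_ofSub {ι : Type*} (t : ι → Submodule (WithConv (C →ₗ[k] k)) (AsMod k C V))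
    (h : iSupIndep t) : iSupIndep (fun i => ofSub V (t i)) := by
  intro i
  have hi := h i
  rw [disjoint_iff] at hi ⊢
  have : (⨆ j, ⨆ (_ : j ≠ i), ofSub V (t j)) = ofSub V (⨆ j, ⨆ (_ : j ≠ i), t j) := by
    rw [ofSub_iSup]
    congr 1
    ext j
    rw [ofSub_iSup]
  rw [this, ← ofSub_inf, hi, ofSub_bot]

end Indep

section Simple
variable {k : Type u} [Field k] {C : Type v} [AddCommGroup C] [Module k C] [Coalgebra k C]
variable {V : Type w} [AddCommGroup V] [Module k V] [HopfRep.Comod k C V]

/-- a subcoalgebra is a subcomodule of the regular comodule -/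
theorem isSubcomod_of_subcoalg (B : Submodule k C) (hB : ∀ b ∈ B, Coalgebra.comul (R := k) b ∈
    LinearMap.range (TensorProduct.map B.subtype B.subtype)) :
    HopfRep.IsSubcomod (k := k) (A := C) B := by
  intro b hb
  obtain ⟨z, hz⟩ := hB b hb
  refine ⟨LinearMap.lTensor B B.subtype z, ?_⟩
  rw [← LinearMap.comp_apply, LinearMap.rTensor_comp_lTensor]
  exact hz

/-- the coefficient space of a simple comodule is a simple subcoalgebra -/
theorem cf_simple (hV : HopfRep.IsSimpleComod k C V) (B : Submodule k C)
    (hBD : B ≤ cf (k := k) (C := C) V) (hB : ∀ b ∈ B, Coalgebra.comul (R := k) b ∈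
      LinearMap.range (TensorProduct.map B.subtype B.subtype)) :
    B = ⊥ ∨ B = cf (k := k) (C := C) V := by
  by_cases hB0 : B = ⊥
  · exact Or.inl hB0
  right
  apply le_antisymm hBD
  exact cf_le_of_subcomod_le hV B (isSubcomod_of_subcoalg B hB) hB0 hBD B hB le_rfl

/-- every nonzero subcomodule contains a simple subcomodule -/
theorem exists_simpleSub_le (D : Submodule k V) (hD : HopfRep.IsSubcomod (k := k) (A := C) D)
    (hD0 : D ≠ ⊥) : ∃ E : Submodule k V, E ≤ D ∧ ComodSS.IsSimpleSub k C E := by
  classical
  obtain ⟨d, hdD, hd0⟩ := Submodule.exists_mem_ne_zero_of_ne_bot hD0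
  have hWsub : HopfRep.IsSubcomod (k := k) (A := C) (gen (k := k) (C := C) d ⊓ D) :=
    isSubcomod_inf (gen_isSubcomod d) hD
  haveI : Module.Finite k (gen (k := k) (C := C) d) := gen_finite d
  haveI : Module.Finite k ↥(gen (k := k) (C := C) d ⊓ D) :=
    Submodule.finiteDimensional_of_le inf_le_left
  have hW0 : gen (k := k) (C := C) d ⊓ D ≠ ⊥ := by
    intro h
    apply hd0
    have : d ∈ gen (k := k) (C := C) d ⊓ D := ⟨mem_gen d, hdD⟩
    rw [h, Submodule.mem_bot] at this
    exact this
  obtain ⟨E, hEW, hE⟩ := ComodSS.exists_simple_le _ hWsub hW0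
  exact ⟨E, hEW.trans inf_le_right, hE⟩

/-- a simple subcomodule is a simple comodule -/
theorem isSimpleComod_sub (E : Submodule k V) (hE : ComodSS.IsSimpleSub k C E) :
    letI := subComod E hE.1
    HopfRep.IsSimpleComod k C ↥E := by
  letI := subComod E hE.1
  have hj := isComodHom_subtype E hE.1
  haveI : Nontrivial ↥E := Submodule.nontrivial_iff_ne_bot.mpr hE.2.1
  refine ⟨inferInstance, fun W hW => ?_⟩
  have h1 := map_isSubcomod hj W hW
  rcases hE.2.2 _ h1 (Submodule.map_subtype_le E W) with h | h
  · left
    apply Submodule.map_injective_of_injective E.injective_subtype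
    rw [h, Submodule.map_bot]
  · right
    apply Submodule.map_injective_of_injective E.injective_subtype
    rw [h, Submodule.map_subtype_top]

/-- a simple subcomodule inside a simple subcoalgebra has that subcoalgebra as coefficient space -/
theorem cf_sub_eq (D : Submodule k C) (hD : ∀ b ∈ D, Coalgebra.comul (R := k) b ∈
      LinearMap.range (TensorProduct.map D.subtype D.subtype))
    (hDs : ∀ B : Submodule k C, B ≤ D → (∀ b ∈ B, Coalgebra.comul (R := k) b ∈
      LinearMap.range (TensorProduct.map B.subtype B.subtype)) → B = ⊥ ∨ B = D)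
    (E : Submodule k C) (hE : HopfRep.IsSubcomod (k := k) (A := C) E) (hE0 : E ≠ ⊥) (hED : E ≤ D) :
    letI := subComod E hE
    cf (k := k) (C := C) ↥E = D := by
  letI := subComod E hE
  have hj := isComodHom_subtype E hE
  haveI : Nontrivial ↥E := Submodule.nontrivial_iff_ne_bot.mpr hE0
  have hcfD : cf (k := k) (C := C) ↥E ≤ D :=
    cf_le_of_range_le hj E.injective_subtype D hD (by rw [Submodule.range_subtype]; exact hED)
  rcases hDs _ hcfD (cf_isSubcoalg ↥E) with h | h
  · exact absurd h (cf_ne_bot ↥E)
  · exact h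

/-- a simple subcoalgebra is a semisimple module over the dual algebra -/
theorem isSemisimple_of_simple_subcoalg (D : Submodule k C) (hD0 : D ≠ ⊥)
    (hD : ∀ b ∈ D, Coalgebra.comul (R := k) b ∈
      LinearMap.range (TensorProduct.map D.subtype D.subtype))
    (hDs : ∀ B : Submodule k C, B ≤ D → (∀ b ∈ B, Coalgebra.comul (R := k) b ∈
      LinearMap.range (TensorProduct.map B.subtype B.subtype)) → B = ⊥ ∨ B = D) :
    IsSemisimpleModule (WithConv (C →ₗ[k] k)) ↥(toSub C D (isSubcomod_of_subcoalg D hD)) := by
  obtain ⟨E, hED, hE⟩ := exists_simpleSub_le D (isSubcomod_of_subcoalg D hD) hD0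
  letI := subComod E hE.1
  have hsimple : HopfRep.IsSimpleComod k C ↥E := isSimpleComod_sub E hE
  have hcf : cf (k := k) (C := C) ↥E = D := cf_sub_eq D hD hDs E hE.1 hE.2.1 hED
  have heq : toSub C D (isSubcomod_of_subcoalg D hD) = sSup (simpleSet (k := k) (C := C) ↥E) := by
    apply ofSub_injective
    rw [ofSub_toSub, ofSub_sSup_simpleSet, hcf]
  rw [heq]
  exact isSemisimple_sSup_simpleSet hsimple

end Simple

section Regular
variable {k : Type u} [Field k] {C : Type v} [AddCommGroup C] [Module k C] [Coalgebra k C]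
variable (V : Type w) [AddCommGroup V] [Module k V] [HopfRep.Comod k C V]

/-- `c ↦ v ⊗ c` into the induced comodule -/
def indMk (v : V) : C →ₗ[k] Hoch.Ind k C V :=
  (Hoch.Ind.equiv k C V).toLinearMap ∘ₗ TensorProduct.mk k V C v

theorem isComodHom_indMk (v : V) : Hoch.IsComodHom C (indMk (k := k) (C := C) V v) := by
  apply isComodHom_of_apply
  intro c
  change (TensorProduct.assoc k V C C).symm (v ⊗ₜ Coalgebra.comul (R := k) c) =
    (indMk (k := k) (C := C) V v).rTensor C (Coalgebra.comul (R := k) c)
  generalize Coalgebra.comul (R := k) c = z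
  induction z using TensorProduct.induction_on with
  | zero => simp only [TensorProduct.tmul_zero, map_zero]; rfl
  | tmul a b => rfl
  | add a b ha hb => rw [TensorProduct.tmul_add, map_add, map_add, ha, hb]; rfl

/-- the coaction as a map into the induced comodule -/
def indCoact : V →ₗ[k] Hoch.Ind k C V :=
  (Hoch.Ind.equiv k C V).toLinearMap ∘ₗ HopfRep.Comod.coact (k := k) (A := C)

theorem isComodHom_indCoact : Hoch.IsComodHom C (indCoact (k := k) (C := C) V) := by
  apply isComodHom_of_apply
  intro v
  have h := LinearMap.congr_fun (HopfRep.Comod.coassoc (k := k) (A := C) (V := V)) v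
  simp only [LinearMap.comp_apply, LinearEquiv.coe_coe] at h
  change (TensorProduct.assoc k V C C).symm ((Coalgebra.comul (R := k) (A := C)).lTensor V
    (HopfRep.Comod.coact (k := k) (A := C) v)) =
    (HopfRep.Comod.coact (k := k) (A := C)).rTensor C (HopfRep.Comod.coact (k := k) (A := C) v)
  rw [← h, LinearEquiv.symm_apply_apply]

theorem indCoact_injective : Function.Injective (indCoact (k := k) (C := C) V) := by
  intro a b hab
  have h : HopfRep.Comod.coact (k := k) (A := C) a = HopfRep.Comod.coact (k := k) (A := C) b := hab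
  rw [← slice_counit_coact (k := k) (C := C) a, ← slice_counit_coact (k := k) (C := C) b, h]

/-- if the regular comodule is semisimple, so is every comodule -/
theorem isSemisimple_of_regular
    (h : IsSemisimpleModule (WithConv (C →ₗ[k] k)) (AsMod k C C)) :
    IsSemisimpleModule (WithConv (C →ₗ[k] k)) (AsMod k C V) := by
  have hss : IsSemisimpleModule (WithConv (C →ₗ[k] k)) (AsMod k C (Hoch.Ind k C V)) := by
    apply isSemisimpleModule_of_isSemisimpleModule_submodule'
      (p := fun v : V => LinearMap.range (toModHom (indMk (k := k) (C := C) V v)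
        (isComodHom_indMk V v)))
    · intro v
      exact IsSemisimpleModule.range _
    · rw [← ofSub_eq_top, ofSub_iSup]
      simp only [ofSub_range_toModHom]
      rw [eq_top_iff]
      rintro x -
      obtain ⟨y, rfl⟩ := (Hoch.Ind.equiv k C V).surjective x
      induction y using TensorProduct.induction_on with
      | zero => rw [map_zero]; exact Submodule.zero_mem _
      | tmul v c =>
        exact (le_iSup (fun v : V => LinearMap.range (indMk (k := k) (C := C) V v)) v) ⟨c, rfl⟩
      | add a b ha hb => rw [map_add]; exact Submodule.add_mem _ ha hb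
  exact IsSemisimpleModule.of_injective (toModHom (indCoact (k := k) (C := C) V)
    (isComodHom_indCoact V)) (toModHom_injective _ (indCoact_injective V))

end Regular

section Isotypic
variable {k : Type u} [Field k] {C : Type v} [AddCommGroup C] [Module k C] [Coalgebra k C]

/-- the isotypic component of a simple submodule `S` of the regular comodule is the coefficient
space of `S` -/
theorem ofSub_isotypicComponent (S : Submodule (WithConv (C →ₗ[k] k)) (AsMod k C C))
    [IsSimpleModule (WithConv (C →ₗ[k] k)) S] :
    letI := subComod (ofSub C S) (ofSub_isSubcomod C S)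
    HopfRep.IsSimpleComod k C ↥(ofSub C S) ∧
    ofSub C (isotypicComponent (WithConv (C →ₗ[k] k)) (AsMod k C C) S) =
      cf (k := k) (C := C) ↥(ofSub C S) := by
  letI := subComod (ofSub C S) (ofSub_isSubcomod C S)
  have hj := isComodHom_subtype (ofSub C S) (ofSub_isSubcomod C S)
  let e₀ : AsMod k C ↥(ofSub C S) ≃ₗ[WithConv (C →ₗ[k] k)] ↥S :=
    equivOfInjective (ofSub C S).subtype hj (ofSub C S).injective_subtype S
      (Submodule.range_subtype _).symm
  haveI : IsSimpleModule (WithConv (C →ₗ[k] k)) (AsMod k C ↥(ofSub C S)) :=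
    IsSimpleModule.congr (N := ↥S) e₀
  have hsimple : HopfRep.IsSimpleComod k C ↥(ofSub C S) :=
    (DualAct.isSimpleModule_iff _).mp inferInstance
  refine ⟨hsimple, ?_⟩
  apply le_antisymm
  · unfold isotypicComponent
    rw [ofSub_sSup]
    apply sSup_le
    rintro _ ⟨m, ⟨e⟩, rfl⟩
    obtain ⟨j', hj', -, hrange⟩ := exists_hom_of_equiv m (e₀.trans e.symm)
    rw [← hrange]
    exact range_le_cf hj'
  · rw [← ofSub_sSup_simpleSet, ofSub_le_iff]
    apply sSup_le
    rintro _ ⟨f, hf, rfl⟩
    apply le_sSup
    exact ⟨(coefRangeEquiv hsimple hf).symm.trans e₀⟩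

end Isotypic

end Groth.Agent.Helper22.Coeff
end
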