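import Groth.Agent.Lib.Helper12.ComodSub
import Groth.Agent.Lib.Helper12.ComodProd
import Mathlib

/-!
# Coalgebras with a basis of group-like elements: weight decomposition of comodules;
diagonalizable groups and eigenvectors
-/

set_option autoImplicit false
namespace Groth.Agent.Helper22.GLBasis
open TensorProduct Groth.Agent.Helper12
open scoped Classical
universe u v w

section Basic
variable {k : Type u} [CommRing k] {A : Type v} [AddCommGroup A] [Module k A] [Coalgebra k A]
  {ι : Type*} (ℬ : Module.Basis ι k A)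
  (hc : ∀ i, Coalgebra.comul (R := k) (ℬ i) = ℬ i ⊗ₜ[k] ℬ i)
  (he : ∀ i, Coalgebra.counit (R := k) (ℬ i) = 1)

include hc in
theorem rtrans_coord (i : ι) (a : A) : rtrans (ℬ.coord i) a = ℬ.coord i a • ℬ i := by
  classical
  have h : rtrans (ℬ.coord i) = (ℬ.coord i).smulRight (ℬ i) := by
    apply ℬ.ext
    intro j
    simp only [rtrans, LinearMap.comp_apply, LinearEquiv.coe_coe, hc, LinearMap.lTensor_tmul,
      TensorProduct.rid_tmul, LinearMap.smulRight_apply, Module.Basis.coord_apply,
      Module.Basis.repr_self, Finsupp.single_apply]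
    split_ifs with h
    · subst h; rfl
    · simp
  rw [h, LinearMap.smulRight_apply]

variable {V : Type w} [AddCommGroup V] [Module k V]

include hc in
theorem lTensor_rtrans_coord (i : ι) (z : V ⊗[k] A) :
    (rtrans (ℬ.coord i)).lTensor V z = slice (ℬ.coord i) z ⊗ₜ[k] ℬ i := by
  induction z using TensorProduct.induction_on with
  | zero => simp
  | tmul r a =>
    rw [LinearMap.lTensor_tmul, rtrans_coord ℬ hc, slice_tmul, TensorProduct.tmul_smul,
      TensorProduct.smul_tmul']
  | add a b ha hb => rw [map_add, map_add, ha, hb, TensorProduct.add_tmul]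

variable [HopfRep.Comod k A V]

/-- the projection onto the weight-`i` component -/
noncomputable def pr (i : ι) : V →ₗ[k] V :=
  slice (ℬ.coord i) ∘ₗ HopfRep.Comod.coact (k := k) (A := A)

theorem pr_apply (i : ι) (v : V) :
    pr ℬ i v = slice (ℬ.coord i) (HopfRep.Comod.coact (k := k) (A := A) v) := rfl

include hc in
theorem coact_pr (i : ι) (v : V) :
    HopfRep.Comod.coact (k := k) (A := A) (pr ℬ i v) = pr ℬ i v ⊗ₜ[k] ℬ i := by
  rw [pr_apply, coact_slice_coact, lTensor_rtrans_coord ℬ hc]

/-- the finitely supported family of weight components -/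
noncomputable def comps (v : V) : ι →₀ V :=
  TensorProduct.equivFinsuppOfBasisRight ℬ (HopfRep.Comod.coact (k := k) (A := A) v)

theorem comps_apply (v : V) (i : ι) : comps ℬ v i = pr ℬ i v := by
  unfold comps
  rw [TensorProduct.equivFinsuppOfBasisRight_apply]
  rfl

omit [HopfRep.Comod k A V] in
include he in
theorem slice_counit_eq (z : V ⊗[k] A) :
    slice (Coalgebra.counit (R := k) (A := A)) z =
      (TensorProduct.equivFinsuppOfBasisRight ℬ z).sum (fun _ r => r) := by
  set D := TensorProduct.equivFinsuppOfBasisRight ℬ z with hD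
  have hz : z = D.sum fun i m => m ⊗ₜ[k] ℬ i := by
    rw [← TensorProduct.equivFinsuppOfBasisRight_symm_apply, hD, LinearEquiv.symm_apply_apply]
  conv_lhs => rw [hz]
  rw [map_finsuppSum]
  refine Finsupp.sum_congr fun i _ => ?_
  rw [slice_tmul, he, one_smul]

include he in
theorem sum_pr (v : V) : ∑ i ∈ (comps ℬ v).support, pr ℬ i v = v := by
  have h : (comps ℬ v).sum (fun _ r => r) = v := by
    unfold comps
    rw [← slice_counit_eq ℬ he, slice_counit_coact]
  unfold Finsupp.sum at h
  simpa only [comps_apply] using h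

end Basic

section Diag
variable {k : Type u} [Field k] {A : Type v} [CommRing A] [Bialgebra k A]

/-- an element with `Δ x = x ⊗ b` is a multiple of a group-like element -/
theorem mem_span_groupLike_of_comul_eq (x b : A)
    (hx : Coalgebra.comul (R := k) x = x ⊗ₜ[k] b) :
    x ∈ Submodule.span k {a : A | IsGroupLikeElem k a} := by
  have h1 := Coalgebra.rTensor_counit_comul (R := k) x
  rw [hx, LinearMap.rTensor_tmul] at h1
  have h2 := congrArg (TensorProduct.lid k A) h1
  rw [TensorProduct.lid_tmul, TensorProduct.lid_tmul, one_smul] at h2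
  obtain ⟨c, hcdef⟩ : ∃ c : k, c = Coalgebra.counit (R := k) x := ⟨_, rfl⟩
  rw [← hcdef] at h2
  by_cases hc0 : c = 0
  · rw [hc0, zero_smul] at h2
    rw [← h2]
    exact Submodule.zero_mem _
  · have hb : b = c⁻¹ • x := by
      rw [← h2, smul_smul, inv_mul_cancel₀ hc0, one_smul]
    have hgl : IsGroupLikeElem k b := by
      refine ⟨?_, ?_⟩
      · rw [hb, map_smul, ← hcdef, smul_eq_mul, inv_mul_cancel₀ hc0]
      · conv_lhs => rw [hb]
        rw [map_smul, hx, TensorProduct.smul_tmul', ← hb]
    rw [← h2]
    exact Submodule.smul_mem _ c (Submodule.subset_span hgl)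

theorem span_eigen_eq_top (hD : HopfRep.IsDiagonalizable k A)
    (V : Type w) [AddCommGroup V] [Module k V] [HopfRep.Comod k A V] :
    Submodule.span k {v : V | ∃ a : A,
      HopfRep.Comod.coact (k := k) (A := A) v = v ⊗ₜ[k] a} = ⊤ := by
  have hsp : ⊤ ≤ Submodule.span k (Set.range (GroupLike.val (R := k) (A := A))) := by
    have hD' : Submodule.span k {a : A | IsGroupLikeElem k a} = ⊤ := hD
    rw [← hD']
    apply Submodule.span_mono
    intro a ha
    exact ⟨⟨a, ha⟩, rfl⟩
  let ℬ := Module.Basis.mk (linearIndep_groupLikeVal (R := k) (A := A)) hsp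
  have hℬ : ∀ g, ℬ g = g.val := fun g => Module.Basis.mk_apply _ _ g
  have hc : ∀ g, Coalgebra.comul (R := k) (ℬ g) = ℬ g ⊗ₜ[k] ℬ g := fun g => by
    rw [hℬ]; exact g.isGroupLikeElem_val.comul_eq_tmul_self
  have he : ∀ g, Coalgebra.counit (R := k) (ℬ g) = 1 := fun g => by
    rw [hℬ]; exact g.isGroupLikeElem_val.counit_eq_one
  rw [eq_top_iff]
  intro v _
  rw [← sum_pr ℬ he v]
  exact Submodule.sum_mem _ fun g _ => Submodule.subset_span ⟨ℬ g, coact_pr ℬ hc g v⟩

theorem isDiagonalizable_of_span_eigen
    (h : ∀ (V : Type v) [AddCommGroup V] [Module k V] [HopfRep.Comod k A V], Module.Finite k V →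
      Submodule.span k {v : V | ∃ a : A,
        HopfRep.Comod.coact (k := k) (A := A) v = v ⊗ₜ[k] a} = ⊤) :
    HopfRep.IsDiagonalizable k A := by
  unfold HopfRep.IsDiagonalizable
  rw [eq_top_iff]
  intro a _
  have hW := gen_isSubcomod (k := k) (C := A) a
  letI := subComod (gen (k := k) (C := A) a) hW
  haveI : Module.Finite k (gen (k := k) (C := A) a) := gen_finite a
  have hspan := h (gen (k := k) (C := A) a) inferInstance
  have hle : (⊤ : Submodule k (gen (k := k) (C := A) a)) ≤
      Submodule.comap (gen (k := k) (C := A) a).subtype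
        (Submodule.span k {a : A | IsGroupLikeElem k a}) := by
    rw [← hspan, Submodule.span_le]
    rintro w ⟨b, hw⟩
    have h1 := isComodHom_apply (isComodHom_subtype (gen (k := k) (C := A) a) hW) w
    rw [hw, LinearMap.rTensor_tmul] at h1
    exact mem_span_groupLike_of_comul_eq (k := k) _ b h1
  exact hle (Submodule.mem_top : (⟨a, mem_gen a⟩ : gen (k := k) (C := A) a) ∈ ⊤)

end Diag

end Groth.Agent.Helper22.GLBasis
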