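import Groth.Agent.Lib.Helper12.Comod
import Groth.Agent.Lib.Helper12.ComodSub
import Groth.Agent.Lib.Helper12.ComodQuot
import Groth.Agent.Lib.Helper12.ComodProd
import Groth.Agent.Lib.Helper12.ComodLattice
import Groth.Agent.Lib.Helper12.ComodSemisimple
import Groth.Agent.Lib.Helper22.GLBasis
import Groth.Agent.Lib.Helper22.Coeff3
import Mathlib

/-!
Comodules over cocommutative coalgebras (helper22): the slice operators `v ↦ (id ⊗ l)(ρ v)` are
comodule endomorphisms; over an algebraically closed field simple finite-dimensional comodules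
are one-dimensional; linearly reductive ⟺ diagonalizable.
-/

set_option autoImplicit false
universe u v w

open scoped TensorProduct

namespace Groth.Agent.Helper22.Cocomm
open Groth.Agent.Helper12

section A
variable {k : Type u} [CommRing k] {C : Type v} [AddCommGroup C] [Module k C] [Coalgebra k C]
variable {V : Type w} [AddCommGroup V] [Module k V] [HopfRep.Comod k C V]

/-- left translate of a functional: `c ↦ (l ⊗ id)(Δ c)` -/
noncomputable def ltrans (l : C →ₗ[k] k) : C →ₗ[k] C :=
  ((TensorProduct.lid k C).toLinearMap ∘ₗ LinearMap.rTensor C l) ∘ₗ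
    Coalgebra.comul (R := k) (A := C)

omit [Coalgebra k C] [HopfRep.Comod k C V] in
theorem rTensor_slice_assoc_symm (l : C →ₗ[k] k) (y : V ⊗[k] (C ⊗[k] C)) :
    (slice (V := V) l).rTensor C ((TensorProduct.assoc k V C C).symm y) =
      LinearMap.lTensor V ((TensorProduct.lid k C).toLinearMap ∘ₗ LinearMap.rTensor C l) y := by
  induction y using TensorProduct.induction_on with
  | zero => simp
  | tmul w z =>
    induction z using TensorProduct.induction_on with
    | zero => simp
    | tmul a b => simp [TensorProduct.smul_tmul', TensorProduct.tmul_smul]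
    | add a b ha hb => simp only [TensorProduct.tmul_add, map_add, ha, hb]
  | add a b ha hb => simp only [map_add, ha, hb]

theorem rTensor_sliceCoact (l : C →ₗ[k] k) (v : V) :
    ((slice l ∘ₗ (HopfRep.Comod.coact (k := k) (A := C) : V →ₗ[k] V ⊗[k] C)).rTensor C)
        (HopfRep.Comod.coact (k := k) (A := C) v) =
      LinearMap.lTensor V (ltrans l) (HopfRep.Comod.coact (k := k) (A := C) v) := by
  have h := LinearMap.congr_fun (HopfRep.Comod.coassoc (k := k) (A := C) (V := V)) v
  simp only [LinearMap.comp_apply, LinearEquiv.coe_coe] at h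
  have h2 : ((HopfRep.Comod.coact (k := k) (A := C) : V →ₗ[k] V ⊗[k] C).rTensor C)
      (HopfRep.Comod.coact (k := k) (A := C) v) =
      (TensorProduct.assoc k V C C).symm
        (LinearMap.lTensor V (Coalgebra.comul (R := k) (A := C))
          (HopfRep.Comod.coact (k := k) (A := C) v)) := by
    rw [← h, LinearEquiv.symm_apply_apply]
  rw [LinearMap.rTensor_comp, LinearMap.comp_apply, h2, rTensor_slice_assoc_symm,
    ← LinearMap.comp_apply, ← LinearMap.lTensor_comp]
  rfl

theorem ltrans_eq_rtrans [Coalgebra.IsCocomm k C] (l : C →ₗ[k] k) :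
    ltrans l = rtrans l := by
  ext c
  have hc : TensorProduct.comm k C C (Coalgebra.comul (R := k) c) = Coalgebra.comul (R := k) c :=
    Coalgebra.comm_comul k c
  have key : ∀ z : C ⊗[k] C, (TensorProduct.lid k C) (LinearMap.rTensor C l z) =
      (TensorProduct.rid k C) (LinearMap.lTensor C l (TensorProduct.comm k C C z)) := by
    intro z
    induction z using TensorProduct.induction_on with
    | zero => simp
    | tmul a b => simp
    | add a b ha hb => simp only [map_add, ha, hb]
  simp only [ltrans, rtrans, LinearMap.comp_apply, LinearEquiv.coe_coe]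
  rw [key, hc]

/-- Over a cocommutative coalgebra the slice operators are comodule endomorphisms. -/
theorem isComodHom_sliceCoact [Coalgebra.IsCocomm k C] (l : C →ₗ[k] k) :
    Hoch.IsComodHom C
      (slice l ∘ₗ (HopfRep.Comod.coact (k := k) (A := C) : V →ₗ[k] V ⊗[k] C)) := by
  apply isComodHom_of_apply
  intro v
  rw [rTensor_sliceCoact, ltrans_eq_rtrans, LinearMap.comp_apply, coact_slice_coact]

end A

section B
variable {k : Type u} [Field k] {C : Type v} [AddCommGroup C] [Module k C] [Coalgebra k C]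
variable {V : Type w} [AddCommGroup V] [Module k V] [HopfRep.Comod k C V]

theorem isSubcomod_eigenspace {T : V →ₗ[k] V} (hT : Hoch.IsComodHom C T) (μ : k) :
    HopfRep.IsSubcomod (k := k) (A := C) (Module.End.eigenspace T μ) := by
  intro w hw
  apply mem_range_rTensor_of_slice_mem (Module.Basis.ofVectorSpace k C)
  intro i
  rw [Module.End.mem_eigenspace_iff] at hw ⊢
  rw [← slice_rTensor T, ← isComodHom_apply hT, hw, map_smul, map_smul]

theorem exists_scalar_of_simple [IsAlgClosed k] [Coalgebra.IsCocomm k C] [Module.Finite k V]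
    (hV : HopfRep.IsSimpleComod k C V) (l : C →ₗ[k] k) :
    ∃ μ : k, ∀ v : V, slice l (HopfRep.Comod.coact (k := k) (A := C) v) = μ • v := by
  haveI : Nontrivial V := hV.1
  obtain ⟨μ, hμ⟩ := Module.End.exists_eigenvalue
    (slice l ∘ₗ (HopfRep.Comod.coact (k := k) (A := C) : V →ₗ[k] V ⊗[k] C) : Module.End k V)
  refine ⟨μ, fun v => ?_⟩
  have hsub := isSubcomod_eigenspace (C := C) (isComodHom_sliceCoact (V := V) l) μ
  rcases hV.2 _ hsub with h | h
  · exact absurd h hμ
  · have hv : v ∈ Module.End.eigenspace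
        (slice l ∘ₗ (HopfRep.Comod.coact (k := k) (A := C) : V →ₗ[k] V ⊗[k] C)) μ :=
      h ▸ Submodule.mem_top
    rw [Module.End.mem_eigenspace_iff] at hv
    exact hv

/-- Every subspace of a simple f.d. comodule over a cocommutative coalgebra over an algebraically
closed field is a subcomodule. -/
theorem isSubcomod_of_simple [IsAlgClosed k] [Coalgebra.IsCocomm k C] [Module.Finite k V]
    (hV : HopfRep.IsSimpleComod k C V) (W : Submodule k V) :
    HopfRep.IsSubcomod (k := k) (A := C) W := by
  intro w hw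
  apply mem_range_rTensor_of_slice_mem (Module.Basis.ofVectorSpace k C)
  intro i
  obtain ⟨μ, hμ⟩ := exists_scalar_of_simple hV ((Module.Basis.ofVectorSpace k C).coord i)
  rw [hμ]
  exact W.smul_mem _ hw

theorem finrank_eq_one_of_simple [IsAlgClosed k] [Coalgebra.IsCocomm k C] [Module.Finite k V]
    (hV : HopfRep.IsSimpleComod k C V) : Module.finrank k V = 1 := by
  haveI : Nontrivial V := hV.1
  obtain ⟨v, hv⟩ := exists_ne (0 : V)
  rcases hV.2 _ (isSubcomod_of_simple hV (Submodule.span k {v})) with h | h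
  · exact absurd (Submodule.span_singleton_eq_bot.mp h) hv
  · rw [← finrank_top k V, ← h, finrank_span_singleton hv]

theorem isSubcomod_span_eigen (v : V) (a : C)
    (hv : HopfRep.Comod.coact (k := k) (A := C) v = v ⊗ₜ[k] a) :
    HopfRep.IsSubcomod (k := k) (A := C) (Submodule.span k {v}) := by
  intro w hw
  obtain ⟨c, rfl⟩ := Submodule.mem_span_singleton.mp hw
  refine ⟨(⟨c • v, hw⟩ : Submodule.span k {v}) ⊗ₜ[k] a, ?_⟩
  simp only [LinearMap.rTensor_tmul, Submodule.subtype_apply, map_smul, hv,
    TensorProduct.smul_tmul']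

/-- a simple subcomodule is spanned by an eigenvector -/
theorem simpleSub_le_span_eigen [IsAlgClosed k] [Coalgebra.IsCocomm k C] [Module.Finite k V]
    (S : Submodule k V) (hS : ComodSS.IsSimpleSub k C S) :
    S ≤ Submodule.span k
      {v : V | ∃ a : C, HopfRep.Comod.coact (k := k) (A := C) v = v ⊗ₜ[k] a} := by
  letI := subComod S hS.1
  have hsimple : HopfRep.IsSimpleComod k C ↥S := Coeff.isSimpleComod_sub S hS
  have h1 : Module.finrank k ↥S = 1 := finrank_eq_one_of_simple hsimple
  obtain ⟨w, hw0, hw⟩ := finrank_eq_one_iff'.mp h1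
  have hpure : ∀ y : ↥S ⊗[k] C, ∃ a : C, y = w ⊗ₜ[k] a := by
    intro y
    induction y using TensorProduct.induction_on with
    | zero => exact ⟨0, by simp⟩
    | tmul s b =>
      obtain ⟨c, rfl⟩ := hw s
      exact ⟨c • b, by rw [TensorProduct.smul_tmul]⟩
    | add y₁ y₂ h₁ h₂ =>
      obtain ⟨a₁, rfl⟩ := h₁
      obtain ⟨a₂, rfl⟩ := h₂
      exact ⟨a₁ + a₂, by rw [TensorProduct.tmul_add]⟩
  obtain ⟨y, hy⟩ := hS.1 (w : V) w.2
  obtain ⟨a, rfl⟩ := hpure y
  rw [LinearMap.rTensor_tmul] at hy
  intro s hs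
  obtain ⟨c, hc⟩ := hw ⟨s, hs⟩
  have hsw : s = c • (w : V) := by
    have := congrArg Subtype.val hc
    simpa using this.symm
  rw [hsw]
  exact Submodule.smul_mem _ c (Submodule.subset_span ⟨a, hy.symm⟩)

theorem span_eigen_eq_top_of_LR [IsAlgClosed k] [Coalgebra.IsCocomm k C]
    (hLR : ComodSS.LR.{u, v, w} k C) [Module.Finite k V] :
    Submodule.span k
      {v : V | ∃ a : C, HopfRep.Comod.coact (k := k) (A := C) v = v ⊗ₜ[k] a} = ⊤ := by
  rw [eq_top_iff, ← ComodSS.sSup_simple_eq_top (V := V) hLR]
  exact sSup_le fun S hS => simpleSub_le_span_eigen S hS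

end B

section Diag
variable {k : Type u} [Field k] {A : Type v} [CommRing A] [Bialgebra k A]

/-- over a diagonalizable bialgebra every comodule is semisimple -/
theorem isSemisimpleComod_of_isDiagonalizable (hD : HopfRep.IsDiagonalizable k A)
    (V : Type w) [AddCommGroup V] [Module k V] [HopfRep.Comod k A V] :
    HopfRep.IsSemisimpleComod k A V := by
  intro W hW
  let S : Set (Submodule k V) := {U | ∃ (v : V) (a : A), v ≠ 0 ∧
      HopfRep.Comod.coact (k := k) (A := A) v = v ⊗ₜ[k] a ∧ U = Submodule.span k {v}}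
  have hS : ∀ U ∈ S, HopfRep.IsSubcomod (k := k) (A := A) U ∧
      ∀ x, HopfRep.IsSubcomod (k := k) (A := A) x → x ≤ U → x = ⊥ ∨ x = U := by
    rintro U ⟨v, a, hv0, hv, rfl⟩
    refine ⟨isSubcomod_span_eigen v a hv, fun x _ hx => ?_⟩
    have hatom := nonzero_span_atom (K := k) v hv0
    rcases eq_or_lt_of_le hx with h | h
    · exact Or.inr h
    · exact Or.inl (hatom.2 x h)
  have hStop : sSup S = ⊤ := by
    rw [eq_top_iff, ← GLBasis.span_eigen_eq_top hD V, Submodule.span_le]
    rintro v ⟨a, hv⟩
    by_cases hv0 : v = 0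
    · rw [hv0]; exact Submodule.zero_mem _
    · have hle : Submodule.span k {v} ≤ sSup S := le_sSup ⟨v, a, hv0, hv, rfl⟩
      exact hle (Submodule.mem_span_singleton_self v)
  obtain ⟨s, hsS, -, hcompl⟩ := exists_subset_sSupIndep_isCompl (α := Submodule k V)
    (fun W => HopfRep.IsSubcomod (k := k) (A := A) W)
    (fun _ _ => isSubcomod_inf) (fun _ _ => isSubcomod_sup) isSubcomod_sSup
    S hS hStop W hW
  exact ⟨sSup s, isSubcomod_sSup s fun x hx => (hS x (hsS hx)).1, hcompl⟩

end Diag

end Groth.Agent.Helper22.Cocomm
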