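import Groth.Agent.Lib.Helper22.DualAct

/-!
# Coefficient space of a comodule over a field
-/

set_option autoImplicit false
noncomputable section
namespace Groth.Agent.Helper22.Coeff
open TensorProduct Groth.Agent.Helper12 WithConv Groth.Agent.Helper22.DualAct
universe u v w w'

section General
variable {k : Type u} [Field k] {C : Type v} [AddCommGroup C] [Module k C]
variable {V : Type w} [AddCommGroup V] [Module k V]

/-- left slice: apply a functional on the left factor -/
def lslice (f : V →ₗ[k] k) : V ⊗[k] C →ₗ[k] C :=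
  (TensorProduct.lid k C).toLinearMap ∘ₗ f.rTensor C

@[simp] theorem lslice_tmul (f : V →ₗ[k] k) (v : V) (c : C) :
    lslice f (v ⊗ₜ[k] c) = f v • c := by
  simp [lslice]

theorem lslice_lTensor {C' : Type*} [AddCommGroup C'] [Module k C'] (f : V →ₗ[k] k)
    (T : C →ₗ[k] C') (x : V ⊗[k] C) :
    lslice f (LinearMap.lTensor V T x) = T (lslice f x) := by
  induction x using TensorProduct.induction_on with
  | zero => simp
  | tmul v c => simp
  | add a b ha hb => simp only [map_add, ha, hb]

theorem lslice_rTensor {V' : Type*} [AddCommGroup V'] [Module k V'] (g : V →ₗ[k] V')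
    (f : V' →ₗ[k] k) (x : V ⊗[k] C) :
    lslice f (g.rTensor C x) = lslice (f ∘ₗ g) x := by
  induction x using TensorProduct.induction_on with
  | zero => simp
  | tmul v c => simp
  | add a b ha hb => simp only [map_add, ha, hb]

theorem lslice_assoc {C' : Type*} [AddCommGroup C'] [Module k C'] (f : V →ₗ[k] k)
    (y : (V ⊗[k] C) ⊗[k] C') :
    lslice f (TensorProduct.assoc k V C C' y) = (lslice f).rTensor C' y := by
  induction y using TensorProduct.induction_on with
  | zero => simp
  | tmul x c' =>
    induction x using TensorProduct.induction_on with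
    | zero => simp
    | tmul v c => simp [TensorProduct.smul_tmul']
    | add a b ha hb => simp only [TensorProduct.add_tmul, map_add, ha, hb]
  | add a b ha hb => simp only [map_add, ha, hb]

/-- membership in `V ⊗ D` can be tested on left slices -/
theorem mem_range_lTensor_of_lslice_mem (D : Submodule k C) (x : V ⊗[k] C)
    (h : ∀ f : V →ₗ[k] k, lslice f x ∈ D) :
    x ∈ LinearMap.range (LinearMap.lTensor V D.subtype) := by
  classical
  let ℬ := Module.Basis.ofVectorSpace k V
  have hx : x = (TensorProduct.equivFinsuppOfBasisLeft ℬ).symm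
      (TensorProduct.equivFinsuppOfBasisLeft ℬ x) := by simp
  rw [hx, TensorProduct.equivFinsuppOfBasisLeft_symm_apply]
  refine Submodule.sum_mem _ fun i _ => ?_
  have hi : (TensorProduct.equivFinsuppOfBasisLeft ℬ x) i ∈ D := by
    rw [TensorProduct.equivFinsuppOfBasisLeft_apply]
    exact h (ℬ.coord i)
  exact ⟨ℬ i ⊗ₜ[k] (⟨_, hi⟩ : D), by simp⟩

theorem eq_zero_of_lslice_eq_zero (x : V ⊗[k] C) (h : ∀ f : V →ₗ[k] k, lslice f x = 0) :
    x = 0 := by
  classical
  let ℬ := Module.Basis.ofVectorSpace k V
  apply (TensorProduct.equivFinsuppOfBasisLeft ℬ).injective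
  rw [map_zero]
  ext i
  rw [TensorProduct.equivFinsuppOfBasisLeft_apply]
  exact h (ℬ.coord i)

theorem lslice_mem_of_mem_range (D : Submodule k C) (f : V →ₗ[k] k) (x : V ⊗[k] C)
    (hx : x ∈ LinearMap.range (LinearMap.lTensor V D.subtype)) : lslice f x ∈ D := by
  obtain ⟨y, rfl⟩ := hx
  rw [lslice_lTensor]
  exact (lslice f y).2

/-- every functional on the source of an injective map extends along it -/
theorem exists_extend {V' : Type*} [AddCommGroup V'] [Module k V'] (g : V →ₗ[k] V')
    (hg : Function.Injective g) (f : V →ₗ[k] k) : ∃ f' : V' →ₗ[k] k, f' ∘ₗ g = f := by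
  obtain ⟨h, hh⟩ := LinearMap.exists_leftInverse_of_injective g (LinearMap.ker_eq_bot.mpr hg)
  refine ⟨f ∘ₗ h, ?_⟩
  rw [LinearMap.comp_assoc, hh, LinearMap.comp_id]

/-- `(E ⊗ C) ∩ (C ⊗ D) = E ⊗ D` -/
theorem mem_range_map_of_mem_of_mem {V' : Type*} [AddCommGroup V'] [Module k V']
    (g : V →ₗ[k] V') (hg : Function.Injective g) (D : Submodule k C) (y : V ⊗[k] C)
    (hy : g.rTensor C y ∈ LinearMap.range (LinearMap.lTensor V' D.subtype)) :
    y ∈ LinearMap.range (LinearMap.lTensor V D.subtype) := by
  apply mem_range_lTensor_of_lslice_mem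
  intro f
  obtain ⟨f', rfl⟩ := exists_extend g hg f
  rw [← lslice_rTensor]
  exact lslice_mem_of_mem_range D f' _ hy

theorem range_map_le_range_lTensor (B D : Submodule k C) :
    LinearMap.range (TensorProduct.map B.subtype D.subtype) ≤
      LinearMap.range (LinearMap.lTensor C D.subtype) := by
  rintro _ ⟨z, rfl⟩
  refine ⟨B.subtype.rTensor D z, ?_⟩
  rw [← LinearMap.comp_apply, LinearMap.lTensor_comp_rTensor]

end General

section Coalg
variable {k : Type u} [Field k] {C : Type v} [AddCommGroup C] [Module k C] [Coalgebra k C]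
variable (V : Type w) [AddCommGroup V] [Module k V] [HopfRep.Comod k C V]

/-- matrix coefficient map attached to a functional -/
def coef (f : V →ₗ[k] k) : V →ₗ[k] C :=
  lslice f ∘ₗ HopfRep.Comod.coact (k := k) (A := C)

theorem coef_apply (f : V →ₗ[k] k) (v : V) :
    coef (C := C) V f v = lslice f (HopfRep.Comod.coact (k := k) (A := C) v) := rfl

/-- coefficient space -/
def cf : Submodule k C := ⨆ f : V →ₗ[k] k, LinearMap.range (coef (C := C) V f)

theorem coef_mem_cf (f : V →ₗ[k] k) (v : V) : coef (C := C) V f v ∈ cf (k := k) (C := C) V :=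
  (le_iSup (fun f => LinearMap.range (coef (C := C) V f)) f) ⟨v, rfl⟩

theorem coact_mem (v : V) : HopfRep.Comod.coact (k := k) (A := C) v ∈
    LinearMap.range (LinearMap.lTensor V (cf (k := k) (C := C) V).subtype) :=
  mem_range_lTensor_of_lslice_mem _ _ fun f => coef_mem_cf V f v

theorem cf_le (D' : Submodule k C) (h : ∀ v : V, HopfRep.Comod.coact (k := k) (A := C) v ∈
    LinearMap.range (LinearMap.lTensor V D'.subtype)) : cf (k := k) (C := C) V ≤ D' := by
  apply iSup_le
  rintro f _ ⟨v, rfl⟩
  exact lslice_mem_of_mem_range D' f _ (h v)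

theorem isLeast_cf : IsLeast {D' : Submodule k C | ∀ e : V,
    HopfRep.Comod.coact (k := k) (A := C) e ∈ LinearMap.range (LinearMap.lTensor V D'.subtype)}
    (cf (k := k) (C := C) V) :=
  ⟨coact_mem V, fun D' h => cf_le V D' h⟩

theorem eq_cf_of_isLeast (D : Submodule k C) (hD : IsLeast {D' : Submodule k C | ∀ e : V,
    HopfRep.Comod.coact (k := k) (A := C) e ∈ LinearMap.range (LinearMap.lTensor V D'.subtype)} D) :
    D = cf (k := k) (C := C) V := hD.unique (isLeast_cf V)

/-- the coefficient maps are comodule maps into the regular comodule -/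
theorem isComodHom_coef (f : V →ₗ[k] k) : Hoch.IsComodHom C (coef (C := C) V f) := by
  apply isComodHom_of_apply
  intro v
  change Coalgebra.comul (R := k) (coef (C := C) V f v) = _
  rw [coef_apply, ← lslice_lTensor]
  have h := LinearMap.congr_fun (HopfRep.Comod.coassoc (k := k) (A := C) (V := V)) v
  simp only [LinearMap.comp_apply, LinearEquiv.coe_coe] at h
  rw [← h, lslice_assoc, ← LinearMap.comp_apply, ← LinearMap.rTensor_comp]
  rfl

/-- the coefficient space is a subcoalgebra -/
theorem cf_isSubcoalg (b : C) (hb : b ∈ cf (k := k) (C := C) V) :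
    Coalgebra.comul (R := k) b ∈ LinearMap.range (TensorProduct.map
      (cf (k := k) (C := C) V).subtype (cf (k := k) (C := C) V).subtype) := by
  unfold cf at hb
  induction hb using Submodule.iSup_induction' with
  | mem f x hx =>
    obtain ⟨v, rfl⟩ := hx
    have h1 := isComodHom_apply (isComodHom_coef (C := C) V f) v
    change Coalgebra.comul (R := k) (coef (C := C) V f v) = _ at h1
    rw [h1]
    obtain ⟨y, hy⟩ := coact_mem (k := k) (C := C) V v
    rw [← hy, ← LinearMap.comp_apply, LinearMap.rTensor_comp_lTensor]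
    let c' : V →ₗ[k] cf (k := k) (C := C) V :=
      LinearMap.codRestrict _ (coef (C := C) V f) (coef_mem_cf V f)
    have : TensorProduct.map (coef (C := C) V f) (cf (k := k) (C := C) V).subtype =
        TensorProduct.map (cf (k := k) (C := C) V).subtype (cf (k := k) (C := C) V).subtype ∘ₗ
          TensorProduct.map c' LinearMap.id := by
      rw [← TensorProduct.map_comp]
      rfl
    rw [this, LinearMap.comp_apply]
    exact ⟨_, rfl⟩
  | zero => rw [map_zero]; exact Submodule.zero_mem _
  | add x y _ _ hx hy => rw [map_add]; exact Submodule.add_mem _ hx hy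

theorem cf_ne_bot [Nontrivial V] : cf (k := k) (C := C) V ≠ ⊥ := by
  intro h
  obtain ⟨v, hv⟩ := exists_ne (0 : V)
  apply hv
  have h0 : HopfRep.Comod.coact (k := k) (A := C) v = 0 := by
    apply eq_zero_of_lslice_eq_zero
    intro f
    have := coef_mem_cf (k := k) (C := C) V f v
    rw [h, Submodule.mem_bot] at this
    exact this
  rw [← slice_counit_coact (k := k) (C := C) v, h0, map_zero]

end Coalg

end Groth.Agent.Helper22.Coeff
end
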