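import Groth.Agent.Lib.Helper22.Coeff

/-!
# Coefficient spaces: invariance, simple comodules
-/

set_option autoImplicit false
noncomputable section
namespace Groth.Agent.Helper22.Coeff
open TensorProduct Groth.Agent.Helper12 WithConv Groth.Agent.Helper22.DualAct
universe u v w w'

section Coalg
variable {k : Type u} [Field k] {C : Type v} [AddCommGroup C] [Module k C] [Coalgebra k C]
variable {V : Type w} [AddCommGroup V] [Module k V] [HopfRep.Comod k C V]
variable {V' : Type w'} [AddCommGroup V'] [Module k V'] [HopfRep.Comod k C V']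

theorem cf_le_of_surjective {g : V →ₗ[k] V'} (hg : Hoch.IsComodHom C g)
    (hs : Function.Surjective g) : cf (k := k) (C := C) V' ≤ cf (k := k) (C := C) V := by
  apply cf_le
  intro v'
  obtain ⟨v, rfl⟩ := hs v'
  rw [isComodHom_apply hg]
  obtain ⟨y, hy⟩ := coact_mem (k := k) (C := C) V v
  refine ⟨g.rTensor _ y, ?_⟩
  rw [← hy, ← LinearMap.comp_apply, ← LinearMap.comp_apply, LinearMap.lTensor_comp_rTensor,
    LinearMap.rTensor_comp_lTensor]

theorem cf_le_of_injective {g : V →ₗ[k] V'} (hg : Hoch.IsComodHom C g)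
    (hi : Function.Injective g) : cf (k := k) (C := C) V ≤ cf (k := k) (C := C) V' := by
  apply iSup_le
  rintro f _ ⟨v, rfl⟩
  obtain ⟨f', rfl⟩ := exists_extend g hi f
  rw [coef_apply, ← lslice_rTensor, ← isComodHom_apply hg]
  exact coef_mem_cf V' f' (g v)

theorem cf_eq_of_equiv (e : V ≃ₗ[k] V') (he : Hoch.IsComodHom C e.toLinearMap) :
    cf (k := k) (C := C) V = cf (k := k) (C := C) V' :=
  le_antisymm (cf_le_of_injective he e.injective) (cf_le_of_surjective he e.surjective)

theorem lslice_counit_comul (c : C) :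
    lslice (Coalgebra.counit (R := k) (A := C)) (Coalgebra.comul (R := k) c) = c := by
  rw [lslice, LinearMap.comp_apply, Coalgebra.rTensor_counit_comul]
  simp

/-- a comodule map into the regular comodule is a coefficient map -/
theorem eq_coef_of_isComodHom {j : V →ₗ[k] C} (hj : Hoch.IsComodHom C j) :
    j = coef (C := C) V (Coalgebra.counit (R := k) (A := C) ∘ₗ j) := by
  ext v
  have h1 := isComodHom_apply hj v
  change Coalgebra.comul (R := k) (j v) = _ at h1
  rw [coef_apply, ← lslice_rTensor, ← h1, lslice_counit_comul]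

theorem range_le_cf {j : V →ₗ[k] C} (hj : Hoch.IsComodHom C j) :
    LinearMap.range j ≤ cf (k := k) (C := C) V := by
  rintro _ ⟨v, rfl⟩
  rw [eq_coef_of_isComodHom hj]
  exact coef_mem_cf V _ v

theorem cf_le_of_range_le {j : V →ₗ[k] C} (hj : Hoch.IsComodHom C j) (hi : Function.Injective j)
    (B : Submodule k C) (hB : ∀ b ∈ B, Coalgebra.comul (R := k) b ∈
      LinearMap.range (TensorProduct.map B.subtype B.subtype))
    (hle : LinearMap.range j ≤ B) : cf (k := k) (C := C) V ≤ B := by
  apply cf_le
  intro v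
  apply mem_range_map_of_mem_of_mem j hi B
  have h1 := isComodHom_apply hj v
  change Coalgebra.comul (R := k) (j v) = _ at h1
  rw [← h1]
  exact range_map_le_range_lTensor B B (hB _ (hle ⟨v, rfl⟩))

end Coalg

section Simple
variable {k : Type u} [Field k] {C : Type v} [AddCommGroup C] [Module k C] [Coalgebra k C]
variable (V : Type w) [AddCommGroup V] [Module k V] [HopfRep.Comod k C V]

/-- the images of the coefficient maps, as submodules over the dual algebra -/
def coefRange (f : V →ₗ[k] k) : Submodule (WithConv (C →ₗ[k] k)) (AsMod k C C) :=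
  LinearMap.range (toModHom (coef (C := C) V f) (isComodHom_coef V f))

theorem ofSub_coefRange (f : V →ₗ[k] k) :
    ofSub C (coefRange (k := k) (C := C) V f) = LinearMap.range (coef (C := C) V f) :=
  ofSub_range_toModHom _ _

/-- the simple constituents of the coefficient space -/
def simpleSet : Set (Submodule (WithConv (C →ₗ[k] k)) (AsMod k C C)) :=
  {N | ∃ f : V →ₗ[k] k, coef (C := C) V f ≠ 0 ∧ N = coefRange V f}

theorem ofSub_sSup_simpleSet :
    ofSub C (sSup (simpleSet (k := k) (C := C) V)) = cf (k := k) (C := C) V := by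
  rw [ofSub_sSup]
  apply le_antisymm
  · apply sSup_le
    rintro _ ⟨_, ⟨f, -, rfl⟩, rfl⟩
    rw [ofSub_coefRange]
    exact le_iSup (fun f => LinearMap.range (coef (C := C) V f)) f
  · apply iSup_le
    intro f
    by_cases hf : coef (C := C) V f = 0
    · rw [hf, LinearMap.range_zero]; exact bot_le
    · apply le_sSup
      exact ⟨coefRange V f, ⟨f, hf, rfl⟩, ofSub_coefRange V f⟩

variable {V}

theorem toModHom_ne_zero {f : V →ₗ[k] k} (hf : coef (C := C) V f ≠ 0) :
    toModHom (coef (C := C) V f) (isComodHom_coef V f) ≠ 0 := by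
  intro h
  apply hf
  ext v
  have := LinearMap.congr_fun h (toMod V v)
  exact (toMod (k := k) (C := C) C).injective this

/-- for simple `V`, a nonzero coefficient image is isomorphic to `V` -/
def coefRangeEquiv (hV : HopfRep.IsSimpleComod k C V) {f : V →ₗ[k] k}
    (hf : coef (C := C) V f ≠ 0) :
    AsMod k C V ≃ₗ[WithConv (C →ₗ[k] k)] coefRange (k := k) (C := C) V f :=
  haveI := (isSimpleModule_iff V).mpr hV
  LinearEquiv.ofInjective _ (LinearMap.injective_of_ne_zero (toModHom_ne_zero hf))

theorem simpleSet_simple (hV : HopfRep.IsSimpleComod k C V)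
    (m : simpleSet (k := k) (C := C) V) : IsSimpleModule (WithConv (C →ₗ[k] k)) m := by
  obtain ⟨_, f, hf, rfl⟩ := m
  haveI := (isSimpleModule_iff V).mpr hV
  exact IsSimpleModule.congr (coefRangeEquiv hV hf).symm

/-- a simple submodule inside the coefficient space of a simple comodule `V` is isomorphic
to `V` -/
theorem exists_equiv_of_simple_le (hV : HopfRep.IsSimpleComod k C V)
    (T : Submodule (WithConv (C →ₗ[k] k)) (AsMod k C C))
    [IsSimpleModule (WithConv (C →ₗ[k] k)) T]
    (hT : ofSub C T ≤ cf (k := k) (C := C) V) :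
    Nonempty (AsMod k C V ≃ₗ[WithConv (C →ₗ[k] k)] T) := by
  haveI := simpleSet_simple hV
  have hsup : T ≤ sSup (simpleSet (k := k) (C := C) V) := by
    rw [← ofSub_le_iff, ofSub_sSup_simpleSet]
    exact hT
  obtain ⟨S, hS, ⟨e⟩⟩ := T.linearEquiv_of_le_sSup _ hsup
  obtain ⟨f, hf, rfl⟩ := hS
  exact ⟨(coefRangeEquiv hV hf).trans e.symm⟩

/-- the coefficient space of a simple comodule is a semisimple module -/
theorem isSemisimple_sSup_simpleSet (hV : HopfRep.IsSimpleComod k C V) :
    IsSemisimpleModule (WithConv (C →ₗ[k] k)) ↥(sSup (simpleSet (k := k) (C := C) V)) := by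
  rw [sSup_eq_iSup]
  apply isSemisimpleModule_biSup_of_isSemisimpleModule_submodule
  intro N hN
  haveI := simpleSet_simple hV ⟨N, hN⟩
  infer_instance

/-- a nonzero subcomodule of the coefficient space of a simple comodule contains a simple
submodule -/
theorem exists_simple_le_of_le_cf (hV : HopfRep.IsSimpleComod k C V)
    (N : Submodule (WithConv (C →ₗ[k] k)) (AsMod k C C)) (hN0 : N ≠ ⊥)
    (hN : ofSub C N ≤ cf (k := k) (C := C) V) :
    ∃ T ≤ N, IsSimpleModule (WithConv (C →ₗ[k] k)) T := by
  have hle : N ≤ sSup (simpleSet (k := k) (C := C) V) := by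
    rw [← ofSub_le_iff, ofSub_sSup_simpleSet]
    exact hN
  haveI := isSemisimple_sSup_simpleSet (C := C) hV
  haveI : IsSemisimpleModule (WithConv (C →ₗ[k] k)) N :=
    IsSemisimpleModule.of_injective (M := ↥(sSup (simpleSet (k := k) (C := C) V)))
      (Submodule.inclusion hle) (Submodule.inclusion_injective hle)
  exact (IsSemisimpleModule.eq_bot_or_exists_simple_le N).resolve_left hN0

/-- an isomorphism of `V` with a submodule `T` of the regular comodule gives an injective
comodule map with image `T` -/
theorem exists_hom_of_equiv (T : Submodule (WithConv (C →ₗ[k] k)) (AsMod k C C))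
    (e : AsMod k C V ≃ₗ[WithConv (C →ₗ[k] k)] T) :
    ∃ j : V →ₗ[k] C, Hoch.IsComodHom C j ∧ Function.Injective j ∧
      LinearMap.range j = ofSub C T := by
  refine ⟨ofModHom (T.subtype ∘ₗ e.toLinearMap), isComodHom_ofModHom _, ?_, ?_⟩
  · intro a b hab
    rw [ofModHom_apply, ofModHom_apply] at hab
    have h1 := (toMod (k := k) (C := C) C).symm.injective hab
    have h2 := e.injective (Subtype.ext h1)
    exact (toMod (k := k) (C := C) V).injective h2
  · ext c
    rw [mem_ofSub]
    constructor
    · rintro ⟨v, rfl⟩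
      rw [ofModHom_apply]
      exact (e (toMod V v)).2
    · intro hc
      refine ⟨(toMod (k := k) (C := C) V).symm (e.symm ⟨_, hc⟩), ?_⟩
      rw [ofModHom_apply]
      simp

/-- main consequence: a nonzero subcomodule `W` of the coefficient space of a simple comodule `V`
contained in a subcoalgebra `B` forces `cf V ≤ B` -/
theorem cf_le_of_subcomod_le (hV : HopfRep.IsSimpleComod k C V)
    (W : Submodule k C) (hW : HopfRep.IsSubcomod (k := k) (A := C) W) (hW0 : W ≠ ⊥)
    (hWcf : W ≤ cf (k := k) (C := C) V)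
    (B : Submodule k C) (hB : ∀ b ∈ B, Coalgebra.comul (R := k) b ∈
      LinearMap.range (TensorProduct.map B.subtype B.subtype))
    (hWB : W ≤ B) : cf (k := k) (C := C) V ≤ B := by
  have hN0 : toSub C W hW ≠ ⊥ := by
    intro h
    apply hW0
    rw [← ofSub_toSub C W hW, h, ofSub_bot]
  obtain ⟨T, hTN, hT⟩ := exists_simple_le_of_le_cf hV (toSub C W hW) hN0
    (by rw [ofSub_toSub]; exact hWcf)
  have hTW : ofSub C T ≤ W := by
    rw [← ofSub_toSub C W hW]
    exact (ofSub_le_iff C).mpr hTN
  obtain ⟨e⟩ := exists_equiv_of_simple_le hV T (hTW.trans hWcf)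
  obtain ⟨j, hj, hinj, hrange⟩ := exists_hom_of_equiv T e
  exact cf_le_of_range_le hj hinj B hB (by rw [hrange]; exact hTW.trans hWB)

end Simple

end Groth.Agent.Helper22.Coeff
end
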