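import Mathlib

/-!
# Freeness of the cokernel of a map `A → A²`, locally

For `α : N₁ → N₂`, `β : N₂ → M` exact with `β` surjective, `N₁` free of rank one, `N₂` free of rank
two over a Noetherian local domain `A` of dimension three: if `M` is not free then there is a prime
`Q ≠ 𝔪` with `M_Q` not free (a minimal prime over the ideal of coordinates of `α(e)`).
-/

namespace Groth.Agent.Helper22.CokerFree

open IsLocalRing

variable {A : Type*} [CommRing A] {N₁ N₂ M : Type*} [AddCommGroup N₁] [Module A N₁]
  [AddCommGroup N₂] [Module A N₂] [AddCommGroup M] [Module A M]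

theorem projective_of_retraction [Module.Projective A N₂] {α : N₁ →ₗ[A] N₂} {β : N₂ →ₗ[A] M}
    (hex : Function.Exact α β) (hsurj : Function.Surjective β) (ρ : N₂ →ₗ[A] N₁)
    (hρ : ρ ∘ₗ α = LinearMap.id) : Module.Projective A M := by
  have h := (Function.Exact.split_tfae' hex).out 1 0 rfl rfl
  obtain ⟨-, l, hl⟩ := h.mp ⟨hsurj, ρ, hρ⟩
  exact Module.Projective.of_split l β hl

theorem exact_localizedMap (S : Submonoid A) {α : N₁ →ₗ[A] N₂} {β : N₂ →ₗ[A] M}
    (hex : Function.Exact α β) :
    Function.Exact (LocalizedModule.map S α) (LocalizedModule.map S β) := by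
  intro y
  induction y using LocalizedModule.induction_on with
  | h n s =>
    rw [LocalizedModule.map_mk]
    constructor
    · intro h0
      rw [← LocalizedModule.zero_mk s, LocalizedModule.mk_eq] at h0
      obtain ⟨u, hu⟩ := h0
      simp only [Submonoid.smul_def, smul_zero] at hu
      have h1 : β ((u : A) • (s : A) • n) = 0 := by
        rw [map_smul, map_smul]; exact hu
      obtain ⟨x, hx⟩ := (hex _).mp h1
      refine ⟨LocalizedModule.mk x (u * s * s), ?_⟩
      rw [LocalizedModule.map_mk, hx, LocalizedModule.mk_eq]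
      refine ⟨1, ?_⟩
      simp only [one_smul, Submonoid.smul_def, Submonoid.coe_mul, smul_smul]
      congr 1
      ring
    · rintro ⟨x, hx⟩
      induction x using LocalizedModule.induction_on with
      | h m t =>
        rw [LocalizedModule.map_mk] at hx
        have h2 := congrArg (LocalizedModule.map S β) hx
        rw [LocalizedModule.map_mk, LocalizedModule.map_mk, hex.apply_apply_eq_zero,
          LocalizedModule.zero_mk] at h2
        exact h2.symm

variable [IsDomain A]

/-- the local obstruction: if the coordinates of `α (b₁ 0)` lie in `Q` and `α (b₁ 0) ≠ 0`,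
then the localization of the cokernel at `Q` is not projective. -/
theorem not_projective_localized {α : N₁ →ₗ[A] N₂} {β : N₂ →ₗ[A] M}
    (hex : Function.Exact α β) (hsurj : Function.Surjective β)
    (b₁ : Module.Basis (Fin 1) A N₁) (b₂ : Module.Basis (Fin 2) A N₂)
    (hv : α (b₁ 0) ≠ 0) (Q : Ideal A) [Q.IsPrime]
    (ha : b₂.repr (α (b₁ 0)) 0 ∈ Q) (hb : b₂.repr (α (b₁ 0)) 1 ∈ Q) :
    ¬ Module.Projective (Localization.AtPrime Q) (LocalizedModule Q.primeCompl M) := by
  intro hproj
  have : Module.Free A N₁ := Module.Free.of_basis b₁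
  have : Module.Free A N₂ := Module.Free.of_basis b₂
  -- α is injective
  have hαinj : Function.Injective α := by
    rw [injective_iff_map_eq_zero]
    intro x hx
    have hx1 : x = b₁.repr x 0 • b₁ 0 := by
      conv_lhs => rw [← b₁.sum_repr x]
      simp
    rw [hx1, map_smul, smul_eq_zero] at hx
    rcases hx with h | h
    · rw [hx1, h, zero_smul]
    · exact absurd h hv
  set S := Q.primeCompl with hS
  have hinj := LocalizedModule.map_injective S α hαinj
  have hsur := LocalizedModule.map_surjective S β hsurj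
  have hexQ := exact_localizedMap S hex
  obtain ⟨l, hl⟩ := Module.projective_lifting_property (LocalizedModule.map S β) LinearMap.id hsur
  have h := (Function.Exact.split_tfae' hexQ).out 0 1 rfl rfl
  obtain ⟨-, ρ, hρ⟩ := h.mp ⟨hinj, l, hl⟩
  -- the element e₁ and its image
  set a := b₂.repr (α (b₁ 0)) 0 with ha_def
  set b := b₂.repr (α (b₁ 0)) 1 with hb_def
  have hvab : α (b₁ 0) = a • b₂ 0 + b • b₂ 1 := by
    conv_lhs => rw [← b₂.sum_repr (α (b₁ 0))]
    rw [Fin.sum_univ_two]
  have h1 : LocalizedModule.mk (b₁ 0) (1 : S) =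
      ρ (LocalizedModule.map S α (LocalizedModule.mk (b₁ 0) (1 : S))) := by
    have := LinearMap.congr_fun hρ (LocalizedModule.mk (b₁ 0) (1 : S))
    exact this.symm
  rw [LocalizedModule.map_mk, hvab] at h1
  have h2 : LocalizedModule.mk (a • b₂ 0 + b • b₂ 1) (1 : S) =
      a • LocalizedModule.mk (b₂ 0) (1 : S) + b • LocalizedModule.mk (b₂ 1) (1 : S) := by
    rw [LocalizedModule.smul'_mk, LocalizedModule.smul'_mk, LocalizedModule.mk_add_mk]
    simp
  rw [h2, map_add, LinearMap.map_smul_of_tower, LinearMap.map_smul_of_tower] at h1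
  -- write ρ-values as fractions
  obtain ⟨y₁, hy₁⟩ : ∃ y, y = ρ (LocalizedModule.mk (b₂ 0) (1 : S)) := ⟨_, rfl⟩
  obtain ⟨y₂, hy₂⟩ : ∃ y, y = ρ (LocalizedModule.mk (b₂ 1) (1 : S)) := ⟨_, rfl⟩
  rw [← hy₁, ← hy₂] at h1
  induction y₁ using LocalizedModule.induction_on with
  | h n₁ s₁ =>
  induction y₂ using LocalizedModule.induction_on with
  | h n₂ s₂ =>
  have hn₁ : n₁ = b₁.repr n₁ 0 • b₁ 0 := by
    conv_lhs => rw [← b₁.sum_repr n₁]
    simp
  have hn₂ : n₂ = b₁.repr n₂ 0 • b₁ 0 := by
    conv_lhs => rw [← b₁.sum_repr n₂]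
    simp
  set r₁ := b₁.repr n₁ 0
  set r₂ := b₁.repr n₂ 0
  rw [LocalizedModule.smul'_mk, LocalizedModule.smul'_mk, LocalizedModule.mk_add_mk,
    LocalizedModule.mk_eq] at h1
  obtain ⟨u, hu⟩ := h1
  rw [hn₁, hn₂] at hu
  simp only [Submonoid.smul_def, smul_smul, ← add_smul, one_mul, OneMemClass.coe_one,
    Submonoid.coe_mul] at hu
  have hb0 : b₁ 0 ≠ 0 := b₁.ne_zero 0
  have hu' := sub_eq_zero.mpr hu
  rw [← sub_smul, smul_eq_zero] at hu'
  rcases hu' with h0 | h0
  · have h3 := sub_eq_zero.mp h0
    have hmem : (u : A) * ((s₁ : A) * (s₂ : A)) ∈ Q := by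
      rw [h3]
      refine Q.mul_mem_left _ (Q.add_mem ?_ ?_)
      · have : (s₂ : A) * (a * r₁) = a * ((s₂ : A) * r₁) := by ring
        first
          | exact (by rw [this]; exact Q.mul_mem_right _ ha)
          | exact Q.mul_mem_left _ (Q.mul_mem_right _ ha)
      · first
          | exact Q.mul_mem_left _ (Q.mul_mem_right _ hb)
          | exact Q.mul_mem_right _ hb
    rcases (Ideal.IsPrime.mem_or_mem inferInstance hmem) with h4 | h4
    · exact u.2 h4
    · rcases (Ideal.IsPrime.mem_or_mem inferInstance h4) with h5 | h5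
      · exact s₁.2 h5
      · exact s₂.2 h5
  · exact hb0 h0

end Groth.Agent.Helper22.CokerFree
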