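import Mathlib

set_option autoImplicit false
attribute [local instance] MvPolynomial.gradedAlgebra

namespace Groth.Agent.Helper22.Conic

open Polynomial

universe u
variable {K : Type u} [Field K]

/-- dehomogenization of a degree `d` form has degree at most `d` -/
theorem natDegree_dehom {F : MvPolynomial (Fin 2) K} {d : ℕ} (hF : F.IsHomogeneous d) :
    (MvPolynomial.aeval ![(X : K[X]), 1] F).natDegree ≤ d := by
  rw [F.as_sum, map_sum]
  refine Polynomial.natDegree_sum_le_of_forall_le _ _ fun m hm => ?_
  have hmd : m 0 + m 1 = d := by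
    have h1 : Finsupp.weight (1 : Fin 2 → ℕ) m = d := hF (MvPolynomial.mem_support_iff.1 hm)
    simpa [Finsupp.weight_apply, Finsupp.sum_fintype, Fin.sum_univ_two] using h1
  rw [MvPolynomial.aeval_monomial, Finsupp.prod_fintype _ _ (fun i => pow_zero _), Fin.prod_univ_two]
  simp only [Matrix.cons_val_zero, Matrix.cons_val_one, one_pow, mul_one]
  rw [← Polynomial.C_eq_algebraMap]
  exact (Polynomial.natDegree_C_mul_X_pow_le _ _).trans (by omega)

theorem hom_dehom {F : MvPolynomial (Fin 2) K} {d : ℕ} (hF : F.IsHomogeneous d) :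
    (MvPolynomial.aeval ![(X : K[X]), 1] F).homogenize d = F :=
  Polynomial.homogenize_eq_of_isHomogeneous hF rfl

theorem deg_eq_zero_of_isUnit {F : MvPolynomial (Fin 2) K} {d : ℕ} (hF : F.IsHomogeneous d)
    (hu : IsUnit F) : d = 0 := by
  have h := (MvPolynomial.isUnit_iff_totalDegree_of_isReduced.1 hu).2
  rw [hF.totalDegree hu.ne_zero] at h
  exact h

theorem dehom_facts {q : MvPolynomial (Fin 2) K} (hq : q.IsHomogeneous 2) (hirr : Irreducible q) :
    (MvPolynomial.aeval ![(X : K[X]), 1] q).natDegree = 2 ∧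
      Irreducible (MvPolynomial.aeval ![(X : K[X]), 1] q) := by
  obtain ⟨p, hp⟩ : ∃ p, p = MvPolynomial.aeval ![(X : K[X]), 1] q := ⟨_, rfl⟩
  rw [← hp]
  have hp2 : p.natDegree ≤ 2 := hp ▸ natDegree_dehom hq
  have hqp : p.homogenize 2 = q := hp ▸ hom_dehom hq
  have hdeg : p.natDegree = 2 := by
    by_contra hne
    have h1 : p.natDegree ≤ 1 := by omega
    have h2 : q = (1 : K[X]).homogenize 1 * p.homogenize 1 := by
      rw [← Polynomial.homogenize_mul _ _ (by simp) h1, one_mul]
      exact hqp.symm
    rcases hirr.isUnit_or_isUnit h2 with h | h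
    · have := deg_eq_zero_of_isUnit (Polynomial.isHomogeneous_homogenize _) h
      omega
    · have := deg_eq_zero_of_isUnit (Polynomial.isHomogeneous_homogenize _) h
      omega
  refine ⟨hdeg, ?_⟩
  have hp0 : p ≠ 0 := by
    intro h
    rw [h] at hdeg
    simp at hdeg
  rw [irreducible_iff]
  refine ⟨fun hu => ?_, fun f g hfg => ?_⟩
  · have := Polynomial.natDegree_eq_zero_of_isUnit hu
    omega
  · have hf0 : f ≠ 0 := by
      rintro rfl
      rw [zero_mul] at hfg
      exact hp0 hfg
    have hg0 : g ≠ 0 := by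
      rintro rfl
      rw [mul_zero] at hfg
      exact hp0 hfg
    have hd : f.natDegree + g.natDegree = 2 := by
      rw [← Polynomial.natDegree_mul hf0 hg0, ← hfg, hdeg]
    have h2 : q = f.homogenize f.natDegree * g.homogenize g.natDegree := by
      rw [← Polynomial.homogenize_mul _ _ le_rfl le_rfl, ← hfg, hd, hqp]
    rcases hirr.isUnit_or_isUnit h2 with h | h
    · left
      have h0 := deg_eq_zero_of_isUnit (Polynomial.isHomogeneous_homogenize _) h
      rw [Polynomial.eq_C_of_natDegree_eq_zero h0] at hf0 ⊢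
      exact Polynomial.isUnit_C.2 (isUnit_iff_ne_zero.2 (by simpa using hf0))
    · right
      have h0 := deg_eq_zero_of_isUnit (Polynomial.isHomogeneous_homogenize _) h
      rw [Polynomial.eq_C_of_natDegree_eq_zero h0] at hg0 ⊢
      exact Polynomial.isUnit_C.2 (isUnit_iff_ne_zero.2 (by simpa using hg0))

end Groth.Agent.Helper22.Conic
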