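import Groth.Agent.Lib.Helper22.Conic1

set_option autoImplicit false
attribute [local instance] MvPolynomial.gradedAlgebra

namespace Groth.Agent.Helper22.Conic

open Polynomial

universe u
variable {K : Type u} [Field K]

section ASide

variable (q : MvPolynomial (Fin 2) K) (hq : q ∈ MvPolynomial.homogeneousSubmodule (Fin 2) K 2)

/-- the fraction `F / q ^ n` -/
noncomputable def mkq (n : ℕ) (F : MvPolynomial (Fin 2) K)
    (hF : F ∈ MvPolynomial.homogeneousSubmodule (Fin 2) K (n • 2)) :
    HomogeneousLocalization.Away (MvPolynomial.homogeneousSubmodule (Fin 2) K) q :=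
  HomogeneousLocalization.Away.mk (MvPolynomial.homogeneousSubmodule (Fin 2) K) hq n F hF

@[simp] theorem val_mkq (n : ℕ) (F : MvPolynomial (Fin 2) K)
    (hF : F ∈ MvPolynomial.homogeneousSubmodule (Fin 2) K (n • 2)) :
    (mkq q hq n F hF).val = Localization.mk F (⟨q ^ n, n, rfl⟩ : Submonoid.powers q) := rfl

theorem mkq_congr {n n' : ℕ} {F F' : MvPolynomial (Fin 2) K} (hn : n = n') (hFF : F = F')
    (hF : F ∈ MvPolynomial.homogeneousSubmodule (Fin 2) K (n • 2))
    (hF' : F' ∈ MvPolynomial.homogeneousSubmodule (Fin 2) K (n' • 2)) :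
    mkq q hq n F hF = mkq q hq n' F' hF' := by
  subst hn; subst hFF; rfl

theorem mkq_surj (z : HomogeneousLocalization.Away (MvPolynomial.homogeneousSubmodule (Fin 2) K) q) :
    ∃ n F hF, z = mkq q hq n F hF := by
  obtain ⟨n, F, hF, h⟩ := HomogeneousLocalization.Away.mk_surjective _ hq z
  exact ⟨n, F, hF, h.symm⟩

theorem mkq_add (n : ℕ) (F F' : MvPolynomial (Fin 2) K)
    (hF : F ∈ MvPolynomial.homogeneousSubmodule (Fin 2) K (n • 2))
    (hF' : F' ∈ MvPolynomial.homogeneousSubmodule (Fin 2) K (n • 2)) :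
    mkq q hq n (F + F') (add_mem hF hF') = mkq q hq n F hF + mkq q hq n F' hF' := by
  apply HomogeneousLocalization.val_injective
  rw [HomogeneousLocalization.val_add, val_mkq, val_mkq, val_mkq, Localization.add_mk_self]

theorem mkq_smul (n : ℕ) (k : K) (F : MvPolynomial (Fin 2) K)
    (hF : F ∈ MvPolynomial.homogeneousSubmodule (Fin 2) K (n • 2)) :
    mkq q hq n (k • F) (Submodule.smul_mem _ k hF) = k • mkq q hq n F hF := by
  apply HomogeneousLocalization.val_injective
  rw [HomogeneousLocalization.val_smul, val_mkq, val_mkq, Localization.smul_mk]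

theorem mkq_zero (n : ℕ) :
    mkq q hq n 0 (zero_mem _) = 0 := by
  apply HomogeneousLocalization.val_injective
  rw [HomogeneousLocalization.val_zero, val_mkq, Localization.mk_zero]

theorem mul_mem_aux {n n' : ℕ} {F F' : MvPolynomial (Fin 2) K}
    (hF : F ∈ MvPolynomial.homogeneousSubmodule (Fin 2) K (n • 2))
    (hF' : F' ∈ MvPolynomial.homogeneousSubmodule (Fin 2) K (n' • 2)) :
    F * F' ∈ MvPolynomial.homogeneousSubmodule (Fin 2) K ((n + n') • 2) := by
  rw [add_smul]
  exact SetLike.mul_mem_graded hF hF'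

theorem mkq_mul (n n' : ℕ) (F F' : MvPolynomial (Fin 2) K)
    (hF : F ∈ MvPolynomial.homogeneousSubmodule (Fin 2) K (n • 2))
    (hF' : F' ∈ MvPolynomial.homogeneousSubmodule (Fin 2) K (n' • 2)) :
    mkq q hq (n + n') (F * F') (mul_mem_aux hF hF') = mkq q hq n F hF * mkq q hq n' F' hF' := by
  apply HomogeneousLocalization.val_injective
  rw [HomogeneousLocalization.val_mul, val_mkq, val_mkq, val_mkq, Localization.mk_mul]
  congr 1
  exact Subtype.ext (pow_add q n n')

theorem mkq_one :
    mkq q hq 0 1 (by rw [zero_smul]; exact SetLike.one_mem_graded _) = 1 := by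
  apply HomogeneousLocalization.val_injective
  rw [HomogeneousLocalization.val_one, val_mkq]
  have : (⟨q ^ 0, 0, rfl⟩ : Submonoid.powers q) = 1 := Subtype.ext (pow_zero q)
  rw [this, Localization.mk_one]

theorem mono_mem {n k l : ℕ} (h : k + l = n • 2) :
    (MvPolynomial.X 0 ^ k * MvPolynomial.X 1 ^ l : MvPolynomial (Fin 2) K) ∈
      MvPolynomial.homogeneousSubmodule (Fin 2) K (n • 2) := by
  rw [← h]
  exact (MvPolynomial.isHomogeneous_X_pow 0 k).mul (MvPolynomial.isHomogeneous_X_pow 1 l)

theorem X0sq_mem : (MvPolynomial.X 0 ^ 2 : MvPolynomial (Fin 2) K) ∈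
    MvPolynomial.homogeneousSubmodule (Fin 2) K (1 • 2) := by
  rw [one_smul]
  exact MvPolynomial.isHomogeneous_X_pow 0 2

theorem X1sq_mem : (MvPolynomial.X 1 ^ 2 : MvPolynomial (Fin 2) K) ∈
    MvPolynomial.homogeneousSubmodule (Fin 2) K (1 • 2) := by
  rw [one_smul]
  exact MvPolynomial.isHomogeneous_X_pow 1 2

theorem X0X1_mem : (MvPolynomial.X 0 * MvPolynomial.X 1 : MvPolynomial (Fin 2) K) ∈
    MvPolynomial.homogeneousSubmodule (Fin 2) K (1 • 2) := by
  rw [one_smul]
  exact (MvPolynomial.isHomogeneous_X K 0).mul (MvPolynomial.isHomogeneous_X K 1)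

/-- `x² / q` -/
noncomputable def gu : HomogeneousLocalization.Away (MvPolynomial.homogeneousSubmodule (Fin 2) K) q :=
  mkq q hq 1 (MvPolynomial.X 0 ^ 2) X0sq_mem

/-- `xy / q` -/
noncomputable def gv : HomogeneousLocalization.Away (MvPolynomial.homogeneousSubmodule (Fin 2) K) q :=
  mkq q hq 1 (MvPolynomial.X 0 * MvPolynomial.X 1) X0X1_mem

/-- `y² / q` -/
noncomputable def gw : HomogeneousLocalization.Away (MvPolynomial.homogeneousSubmodule (Fin 2) K) q :=
  mkq q hq 1 (MvPolynomial.X 1 ^ 2) X1sq_mem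

theorem guw : gu q hq * gw q hq = gv q hq * gv q hq := by
  apply HomogeneousLocalization.val_injective
  simp only [HomogeneousLocalization.val_mul, gu, gv, gw, val_mkq, Localization.mk_mul]
  congr 1
  ring

theorem glin (a b c : K)
    (hqform : q = a • MvPolynomial.X 0 ^ 2 + b • (MvPolynomial.X 0 * MvPolynomial.X 1) +
      c • MvPolynomial.X 1 ^ 2) :
    a • gu q hq + b • gv q hq + c • gw q hq = 1 := by
  apply HomogeneousLocalization.val_injective
  simp only [HomogeneousLocalization.val_add, HomogeneousLocalization.val_smul,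
    HomogeneousLocalization.val_one, gu, gv, gw, val_mkq, Localization.smul_mk,
    Localization.add_mk_self]
  rw [← hqform]
  have hs : (((⟨q ^ 1, 1, rfl⟩ : Submonoid.powers q)) : MvPolynomial (Fin 2) K) = q := pow_one q
  have h1 := Localization.mk_self (⟨q ^ 1, 1, rfl⟩ : Submonoid.powers q)
  rw [hs] at h1
  exact h1

theorem mono_ind
    (P : HomogeneousLocalization.Away (MvPolynomial.homogeneousSubmodule (Fin 2) K) q → Prop)
    (h1 : P 1) (hu : P (gu q hq)) (hv : P (gv q hq)) (hw : P (gw q hq))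
    (hmul : ∀ x y, P x → P y → P (x * y)) :
    ∀ (n k l : ℕ) (h : k + l = n • 2),
      P (mkq q hq n (MvPolynomial.X 0 ^ k * MvPolynomial.X 1 ^ l) (mono_mem h))
  | 0, k, l, h => by
      have hk : k = 0 := by simp only [smul_eq_mul] at h; omega
      have hl : l = 0 := by simp only [smul_eq_mul] at h; omega
      subst hk; subst hl
      have : mkq q hq 0 (MvPolynomial.X 0 ^ 0 * MvPolynomial.X 1 ^ 0) (mono_mem h) = 1 := by
        rw [← mkq_one q hq]
        exact mkq_congr q hq rfl (by ring) _ _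
      rw [this]; exact h1
  | n + 1, k, l, h => by
      by_cases hk : 2 ≤ k
      · obtain ⟨k', rfl⟩ : ∃ k', k = k' + 2 := ⟨k - 2, by omega⟩
        have h' : k' + l = n • 2 := by simp only [smul_eq_mul] at h ⊢; omega
        have e := mkq_mul q hq 1 n _ _ X0sq_mem (mono_mem (k := k') (l := l) h')
        have : mkq q hq (n + 1) (MvPolynomial.X 0 ^ (k' + 2) * MvPolynomial.X 1 ^ l) (mono_mem h) =
            gu q hq * mkq q hq n (MvPolynomial.X 0 ^ k' * MvPolynomial.X 1 ^ l) (mono_mem h') := by
          rw [gu, ← e]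
          exact mkq_congr q hq (by omega) (by ring) _ _
        rw [this]; exact hmul _ _ hu (mono_ind P h1 hu hv hw hmul n k' l h')
      · by_cases hl : 2 ≤ l
        · obtain ⟨l', rfl⟩ : ∃ l', l = l' + 2 := ⟨l - 2, by omega⟩
          have h' : k + l' = n • 2 := by simp only [smul_eq_mul] at h ⊢; omega
          have e := mkq_mul q hq 1 n _ _ X1sq_mem (mono_mem (k := k) (l := l') h')
          have : mkq q hq (n + 1) (MvPolynomial.X 0 ^ k * MvPolynomial.X 1 ^ (l' + 2)) (mono_mem h) =
              gw q hq * mkq q hq n (MvPolynomial.X 0 ^ k * MvPolynomial.X 1 ^ l') (mono_mem h') := by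
            rw [gw, ← e]
            exact mkq_congr q hq (by omega) (by ring) _ _
          rw [this]; exact hmul _ _ hw (mono_ind P h1 hu hv hw hmul n k l' h')
        · have hkl : k = 1 ∧ l = 1 ∧ n = 0 := by simp only [smul_eq_mul] at h; omega
          obtain ⟨rfl, rfl, rfl⟩ := hkl
          have : mkq q hq (0 + 1) (MvPolynomial.X 0 ^ 1 * MvPolynomial.X 1 ^ 1) (mono_mem h) =
              gv q hq := mkq_congr q hq rfl (by ring) _ _
          rw [this]; exact hv

theorem gen_induction
    (P : HomogeneousLocalization.Away (MvPolynomial.homogeneousSubmodule (Fin 2) K) q → Prop)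
    (h0 : P 0) (h1 : P 1) (hu : P (gu q hq)) (hv : P (gv q hq)) (hw : P (gw q hq))
    (hadd : ∀ x y, P x → P y → P (x + y)) (hmul : ∀ x y, P x → P y → P (x * y))
    (hsmul : ∀ (k : K) x, P x → P (k • x)) : ∀ z, P z := by
  intro z
  obtain ⟨n, F, hF, rfl⟩ := mkq_surj q hq z
  let E : Submodule K (MvPolynomial (Fin 2) K) :=
    { carrier := {F | ∃ hF : F ∈ MvPolynomial.homogeneousSubmodule (Fin 2) K (n • 2),
        P (mkq q hq n F hF)}
      add_mem' := by
        rintro F F' ⟨hF, h⟩ ⟨hF', h'⟩
        exact ⟨add_mem hF hF', by rw [mkq_add q hq n F F' hF hF']; exact hadd _ _ h h'⟩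
      zero_mem' := ⟨zero_mem _, by rw [mkq_zero]; exact h0⟩
      smul_mem' := by
        rintro k F ⟨hF, h⟩
        exact ⟨Submodule.smul_mem _ k hF, by rw [mkq_smul q hq n k F hF]; exact hsmul _ _ h⟩ }
  have hE : F ∈ E := by
    have hFP := hom_dehom (K := K) (F := F) (d := n • 2) hF
    have hdeg : (MvPolynomial.aeval ![(X : K[X]), 1] F).natDegree ≤ n • 2 := natDegree_dehom hF
    have key : (MvPolynomial.aeval ![(X : K[X]), 1] F).homogenize (n • 2) ∈ E := by
      rw [Polynomial.as_sum_range' (MvPolynomial.aeval ![(X : K[X]), 1] F) (n • 2 + 1) (by omega),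
        Polynomial.homogenize_finsetSum]
      refine Submodule.sum_mem _ fun k hk => ?_
      have hk' : k ≤ n • 2 := by
        have := Finset.mem_range.1 hk
        omega
      rw [← Polynomial.C_mul_X_pow_eq_monomial, Polynomial.homogenize_C_mul,
        Polynomial.homogenize_X_pow hk', MvPolynomial.C_mul']
      refine Submodule.smul_mem _ _ ?_
      exact ⟨mono_mem (by omega), mono_ind q hq P h1 hu hv hw hmul n k (n • 2 - k) (by omega)⟩
    rwa [hFP] at key
  obtain ⟨_, h⟩ := hE
  exact h

end ASide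

end Groth.Agent.Helper22.Conic
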