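import Groth.Agent.Lib.Helper22.Conic2

set_option autoImplicit false
attribute [local instance] MvPolynomial.gradedAlgebra

namespace Groth.Agent.Helper22.Conic

open LaurentPolynomial
open scoped Polynomial

universe u

section LaurentUnits
variable {L : Type u} [Field L]

theorem T_mul_Tneg : (T 1 : L[T;T⁻¹]) * T (-1) = 1 := by
  rw [← T_add]; simp

theorem laurent_unit (x y : L[T;T⁻¹]) (h : x * y = 1) :
    ∃ (c : L) (n : ℤ), c ≠ 0 ∧ x = C c * T n := by
  obtain ⟨n, f, hf⟩ := exists_T_pow x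
  obtain ⟨m, g, hg⟩ := exists_T_pow y
  have h1 : f * g = Polynomial.X ^ (n + m) := by
    apply Polynomial.toLaurent_injective
    rw [map_mul, hf, hg, Polynomial.toLaurent_X_pow]
    calc x * T n * (y * T m) = (x * y) * (T n * T m) := by ring
      _ = T ((n + m : ℕ) : ℤ) := by rw [h, one_mul, ← T_add]; push_cast; rfl
  have h2 : f ∣ Polynomial.X ^ (n + m) := ⟨g, h1.symm⟩
  obtain ⟨i, -, hi⟩ := (dvd_prime_pow Polynomial.prime_X _).1 h2
  obtain ⟨w, hw⟩ := hi.symm
  obtain ⟨r, hr, hrw⟩ := Polynomial.isUnit_iff.1 w.isUnit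
  refine ⟨r, (i : ℤ) - n, hr.ne_zero, ?_⟩
  have hx : x = Polynomial.toLaurent f * T (-(n : ℤ)) := by
    rw [hf, mul_assoc, ← T_add]; simp
  rw [hx, ← hw, ← hrw, map_mul, Polynomial.toLaurent_X_pow, Polynomial.toLaurent_C,
    sub_eq_add_neg, T_add]
  ring

theorem coeff_mono (c : L) (n : ℤ) : (C c * T n : L[T;T⁻¹]).coeff n = c := by
  rw [← single_eq_C_mul_T, AddMonoidAlgebra.coeff_single, Finsupp.single_eq_same]

theorem mono_unique {c c' : L} {n n' : ℤ} (hc : c ≠ 0)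
    (h : (C c * T n : L[T;T⁻¹]) = C c' * T n') : n = n' ∧ c = c' := by
  have hc' : c' ≠ 0 := by
    rintro rfl
    rw [map_zero, zero_mul] at h
    have h1 := support_coeff_C_mul_T_of_ne_zero hc n
    rw [h] at h1
    simp at h1
  have hn : n = n' := by
    have h1 := support_coeff_C_mul_T_of_ne_zero hc n
    have h2 := support_coeff_C_mul_T_of_ne_zero hc' n'
    rw [h] at h1
    rw [h1] at h2
    exact Finset.singleton_inj.1 h2
  subst hn
  refine ⟨rfl, ?_⟩
  have h3 := congrArg (fun f => f.coeff n) h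
  simp only [coeff_mono] at h3
  exact h3

theorem unit_zpow (x : (L[T;T⁻¹])ˣ) {c : L} {n : ℤ} (hc : c ≠ 0)
    (hx : (x : L[T;T⁻¹]) = C c * T n) :
    ∀ m : ℤ, ((x ^ m : (L[T;T⁻¹])ˣ) : L[T;T⁻¹]) = C (c ^ m) * T (n * m) := by
  have hinv : ((x⁻¹ : (L[T;T⁻¹])ˣ) : L[T;T⁻¹]) = C c⁻¹ * T (-n) := by
    apply Units.inv_eq_of_mul_eq_one_right
    rw [hx]
    calc C c * T n * (C c⁻¹ * T (-n)) = C (c * c⁻¹) * (T n * T (-n)) := by rw [map_mul]; ring
      _ = 1 := by rw [mul_inv_cancel₀ hc, ← T_add]; simp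
  intro m
  induction m using Int.induction_on with
  | zero => simp
  | succ k ih =>
    rw [zpow_add_one, Units.val_mul, ih, hx, zpow_add_one₀ hc, mul_add, mul_one, T_add, map_mul]
    ring
  | pred k ih =>
    rw [zpow_sub_one, Units.val_mul, ih, hinv, zpow_sub_one₀ hc, mul_sub, mul_one, sub_eq_add_neg,
      T_add, map_mul]
    ring

end LaurentUnits

section Core

variable {R : Type*} [CommRing R] (a θ θ' U V W D : R)

theorem core_C1 (hUW : U * W = V * V) (hlin : a * U - a * (θ + θ') * V + a * θ * θ' * W = 1) :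
    (a * (U - 2 * θ * V + θ ^ 2 * W)) * (a * (U - 2 * θ' * V + θ' ^ 2 * W)) = 1 := by
  linear_combination (a * U - a * (θ + θ') * V + a * θ * θ' * W + 1) * hlin +
    a ^ 2 * (θ - θ') ^ 2 * hUW

theorem core_C2 (hD : D = a * (θ' - θ) ^ 2)
    (hlin : a * U - a * (θ + θ') * V + a * θ * θ' * W = 1) :
    D * U = θ' ^ 2 * (a * (U - 2 * θ * V + θ ^ 2 * W)) - 2 * θ * θ' +
      θ ^ 2 * (a * (U - 2 * θ' * V + θ' ^ 2 * W)) := by
  linear_combination U * hD + (-2 * θ * θ') * hlin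

theorem core_C3 (hD : D = a * (θ' - θ) ^ 2)
    (hlin : a * U - a * (θ + θ') * V + a * θ * θ' * W = 1) :
    D * V = θ' * (a * (U - 2 * θ * V + θ ^ 2 * W)) - (θ + θ') +
      θ * (a * (U - 2 * θ' * V + θ' ^ 2 * W)) := by
  linear_combination V * hD + (-(θ + θ')) * hlin

theorem core_C4 (hD : D = a * (θ' - θ) ^ 2)
    (hlin : a * U - a * (θ + θ') * V + a * θ * θ' * W = 1) :
    D * W = (a * (U - 2 * θ * V + θ ^ 2 * W)) - 2 +
      (a * (U - 2 * θ' * V + θ' ^ 2 * W)) := by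
  linear_combination W * hD + (-2) * hlin

end Core

end Groth.Agent.Helper22.Conic
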