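import Groth.Agent.Lib.Helper22.Conic3

set_option autoImplicit false
attribute [local instance] MvPolynomial.gradedAlgebra

namespace Groth.Agent.Helper22.Conic

open LaurentPolynomial
open scoped Polynomial

universe u

/-- data for the split form of the quadratic form `q` over an extension `L` with a conjugation -/
structure Setup (K L : Type u) [Field K] [Field L] [Algebra K L] where
  q : MvPolynomial (Fin 2) K
  hq : q ∈ MvPolynomial.homogeneousSubmodule (Fin 2) K 2
  a : K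
  b : K
  c : K
  ha : a ≠ 0
  hqform : q = a • MvPolynomial.X 0 ^ 2 + b • (MvPolynomial.X 0 * MvPolynomial.X 1) +
    c • MvPolynomial.X 1 ^ 2
  θ : L
  θ' : L
  hb : algebraMap K L b = -(algebraMap K L a * (θ + θ'))
  hc : algebraMap K L c = algebraMap K L a * θ * θ'
  hne : θ ≠ θ'
  σ : L →+* L
  hσK : ∀ k, σ (algebraMap K L k) = algebraMap K L k
  hσθ : σ θ = θ'
  hσθ' : σ θ' = θ

namespace Setup

variable {K L : Type u} [Field K] [Field L] [Algebra K L] (S : Setup K L)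

/-- the coordinate ring of the complement of the quadratic point -/
abbrev A : Type u :=
  HomogeneousLocalization.Away (MvPolynomial.homogeneousSubmodule (Fin 2) K) S.q

noncomputable def aL : L := algebraMap K L S.a

noncomputable def Dd : L := algebraMap K L S.a * (S.θ' - S.θ) ^ 2

theorem aL_ne : S.aL ≠ 0 := by
  unfold aL
  exact (map_ne_zero _).2 S.ha

theorem Dd_ne : S.Dd ≠ 0 := by
  unfold Dd
  exact mul_ne_zero S.aL_ne (pow_ne_zero _ (sub_ne_zero.2 (Ne.symm S.hne)))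

noncomputable def X₀ : L[T;T⁻¹] := C S.θ' * T 1 - C S.θ

noncomputable def Y₀ (_S : Setup K L) : L[T;T⁻¹] := T 1 - 1

noncomputable def ι₀ : MvPolynomial (Fin 2) K →ₐ[K] L[T;T⁻¹] :=
  MvPolynomial.aeval ![S.X₀, S.Y₀]

theorem ι₀_X0 : S.ι₀ (MvPolynomial.X 0) = S.X₀ := by
  simp [ι₀]

theorem ι₀_X1 : S.ι₀ (MvPolynomial.X 1) = S.Y₀ := by
  simp [ι₀]

theorem ι₀_C (r : K) : S.ι₀ (MvPolynomial.C r) = C (algebraMap K L r) := by
  rw [ι₀, MvPolynomial.aeval_C, LaurentPolynomial.algebraMap_apply]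

theorem smul_eq (k : K) (f : L[T;T⁻¹]) : k • f = C (algebraMap K L k) * f := by
  rw [Algebra.smul_def, LaurentPolynomial.algebraMap_apply]

theorem ι₀_q : S.ι₀ S.q = C S.Dd * T 1 := by
  conv_lhs => rw [S.hqform]
  simp only [map_add, map_smul, map_pow, map_mul, ι₀_X0, ι₀_X1, smul_eq, S.hb, S.hc, X₀, Y₀, Dd]
  simp only [map_neg, map_mul, map_add, map_pow, map_sub]
  ring

theorem isUnit_ι₀_q : IsUnit (S.ι₀.toRingHom S.q) := by
  show IsUnit (S.ι₀ S.q)
  rw [ι₀_q]
  exact ((isUnit_iff_ne_zero.2 S.Dd_ne).map C).mul (isUnit_T 1)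

noncomputable def ι₁ : Localization.Away S.q →+* L[T;T⁻¹] :=
  IsLocalization.Away.lift S.q (g := S.ι₀.toRingHom) S.isUnit_ι₀_q

theorem ι₁_algebraMap (F : MvPolynomial (Fin 2) K) :
    S.ι₁ (algebraMap _ _ F) = S.ι₀ F := by
  rw [ι₁, IsLocalization.Away.lift_eq]
  rfl

noncomputable def ι : S.A →+* L[T;T⁻¹] :=
  S.ι₁.comp (algebraMap S.A (Localization.Away S.q))

theorem ι_spec (n : ℕ) (F : MvPolynomial (Fin 2) K)
    (hF : F ∈ MvPolynomial.homogeneousSubmodule (Fin 2) K (n • 2)) :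
    S.ι (mkq S.q S.hq n F hF) * (C S.Dd * T 1) ^ n = S.ι₀ F := by
  have h1 : S.ι (mkq S.q S.hq n F hF) =
      S.ι₁ (Localization.mk F (⟨S.q ^ n, n, rfl⟩ : Submonoid.powers S.q)) := rfl
  have h2 : (C S.Dd * T 1 : L[T;T⁻¹]) ^ n = S.ι₁ (algebraMap _ _ (S.q ^ n)) := by
    rw [ι₁_algebraMap, map_pow, ι₀_q]
  rw [h1, h2, ← map_mul, Localization.mk_eq_mk'_apply]
  have h3 := IsLocalization.mk'_spec (Localization.Away S.q) F
    (⟨S.q ^ n, n, rfl⟩ : Submonoid.powers S.q)
  rw [h3, ι₁_algebraMap]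

theorem isUnit_DT (n : ℕ) : IsUnit ((C S.Dd * T 1 : L[T;T⁻¹]) ^ n) :=
  (((isUnit_iff_ne_zero.2 S.Dd_ne).map C).mul (isUnit_T 1)).pow n

theorem ι_smul (k : K) (z : S.A) : S.ι (k • z) = C (algebraMap K L k) * S.ι z := by
  obtain ⟨n, F, hF, rfl⟩ := mkq_surj S.q S.hq z
  apply (S.isUnit_DT n).mul_left_inj.1
  rw [← mkq_smul S.q S.hq n k F hF, ι_spec, mul_assoc, ι_spec, map_smul, smul_eq]

/-- evaluation at `T = 1` -/
noncomputable def ev1 : L[T;T⁻¹] →+* L := LaurentPolynomial.eval₂ (RingHom.id L) 1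

theorem ev1_C (r : L) : ev1 (C r) = r := by
  simp [ev1]

theorem ev1_T (n : ℤ) : ev1 (T n : L[T;T⁻¹]) = 1 := by
  simp [ev1]

theorem Y₀_ne : S.Y₀ ≠ 0 := by
  intro h
  have h1 : (T 1 : L[T;T⁻¹]) = 1 := sub_eq_zero.1 h
  have h2 : (C (1 : L) * T 1 : L[T;T⁻¹]) = C 1 * T 0 := by
    rw [map_one, one_mul, one_mul, T_zero]; exact h1
  have h3 := (mono_unique one_ne_zero h2).1
  omega

theorem inj_aux : ∀ (d : ℕ) (P : K[X]), P.natDegree ≤ d → S.ι₀ (P.homogenize d) = 0 → P = 0
  | 0, P, hP, h => by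
      rw [Polynomial.eq_C_of_natDegree_le_zero hP] at h ⊢
      rw [Polynomial.homogenize_C, pow_zero, mul_one, ι₀_C] at h
      have h1 := congrArg ev1 h
      rw [ev1_C, map_zero] at h1
      rw [(map_eq_zero _).1 h1, map_zero]
  | d + 1, P, hP, h => by
      obtain ⟨r, hr⟩ : ∃ r, r = P.coeff (d + 1) := ⟨_, rfl⟩
      obtain ⟨P', hP'def⟩ : ∃ P', P' = P - Polynomial.C r * Polynomial.X ^ (d + 1) := ⟨_, rfl⟩
      have hP' : P'.natDegree ≤ d := by
        rw [Polynomial.natDegree_le_iff_coeff_eq_zero]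
        intro N hN
        rw [hP'def, Polynomial.coeff_sub, Polynomial.coeff_C_mul, Polynomial.coeff_X_pow]
        by_cases hN1 : N = d + 1
        · subst hN1; simp [hr]
        · rw [if_neg hN1, mul_zero, sub_zero]
          exact Polynomial.coeff_eq_zero_of_natDegree_lt (by omega)
      have hPP : P = P' + Polynomial.C r * Polynomial.X ^ (d + 1) := by rw [hP'def]; ring
      have hhom : P.homogenize (d + 1) =
          MvPolynomial.X 1 * P'.homogenize d + MvPolynomial.C r * MvPolynomial.X 0 ^ (d + 1) := by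
        rw [hPP, Polynomial.homogenize_add, Polynomial.homogenize_C_mul,
          Polynomial.homogenize_X_pow le_rfl]
        have h5 := Polynomial.homogenize_mul (1 : K[X]) P' (m := 1) (n := d) (by simp) hP'
        rw [one_mul, Polynomial.homogenize_one, pow_one, add_comm 1 d] at h5
        rw [h5]; simp
      rw [hhom, map_add, map_mul, map_mul, map_pow, ι₀_X0, ι₀_X1, ι₀_C] at h
      have h1 := congrArg ev1 h
      simp only [map_add, map_mul, map_pow, map_sub, map_one, X₀, Y₀, ev1_C, ev1_T, mul_one,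
        sub_self, zero_mul, zero_add, map_zero] at h1
      have hr0 : r = 0 := by
        rcases mul_eq_zero.1 h1 with h6 | h6
        · exact (map_eq_zero _).1 h6
        · exact absurd h6 (pow_ne_zero _ (sub_ne_zero.2 (Ne.symm S.hne)))
      rw [hr0, map_zero, map_zero, zero_mul, add_zero] at h
      have h7 := (mul_eq_zero.1 h).resolve_left S.Y₀_ne
      have hP'0 := inj_aux d P' hP' h7
      rw [hPP, hP'0, hr0]; simp

theorem hom_inj {d : ℕ} {F : MvPolynomial (Fin 2) K} (hF : F.IsHomogeneous d)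
    (h : S.ι₀ F = 0) : F = 0 := by
  have h1 := hom_dehom hF
  have h2 := natDegree_dehom hF
  rw [← h1] at h
  have h3 := S.inj_aux d _ h2 h
  rw [← h1, h3, Polynomial.homogenize_zero]

theorem ι_injective : Function.Injective S.ι := by
  rw [injective_iff_map_eq_zero]
  intro z hz
  obtain ⟨n, F, hF, rfl⟩ := mkq_surj S.q S.hq z
  have h := S.ι_spec n F hF
  rw [hz, zero_mul] at h
  have hF0 := S.hom_inj hF h.symm
  subst hF0
  exact mkq_zero S.q S.hq n

end Setup

end Groth.Agent.Helper22.Conic
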