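import Groth.Agent.Lib.Helper22.Conic4

set_option autoImplicit false
attribute [local instance] MvPolynomial.gradedAlgebra

namespace Groth.Agent.Helper22.Conic

open LaurentPolynomial
open scoped Polynomial

universe u

namespace Setup

variable {K L : Type u} [Field K] [Field L] [Algebra K L] (S : Setup K L)

noncomputable def Dinv : L[T;T⁻¹] := C S.Dd⁻¹

theorem D_mul_Dinv : C S.Dd * S.Dinv = 1 := by
  rw [Dinv, ← map_mul, mul_inv_cancel₀ S.Dd_ne, map_one]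

theorem DT_mul : (C S.Dd * T 1) * (S.Dinv * T (-1)) = 1 := by
  linear_combination (T 1 * T (-1)) * S.D_mul_Dinv + T_mul_Tneg (L := L)

theorem aL_Dinv : C S.aL * (C S.θ' - C S.θ) ^ 2 * S.Dinv = 1 := by
  have h := S.D_mul_Dinv
  rw [Dd, map_mul, map_pow, map_sub] at h
  exact h

theorem ι_gu : S.ι (gu S.q S.hq) =
    S.Dinv * (C S.θ' ^ 2 * T 1 - 2 * C S.θ * C S.θ' + C S.θ ^ 2 * T (-1)) := by
  have h := S.ι_spec 1 _ (X0sq_mem (K := K))
  rw [pow_one, map_pow, ι₀_X0] at h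
  calc S.ι (gu S.q S.hq) = S.ι (gu S.q S.hq) * ((C S.Dd * T 1) * (S.Dinv * T (-1))) := by
        rw [S.DT_mul, mul_one]
    _ = S.X₀ ^ 2 * (S.Dinv * T (-1)) := by rw [← mul_assoc]; rw [gu, h]
    _ = _ := by
        unfold X₀
        linear_combination (S.Dinv * (C S.θ' ^ 2 * T 1 - 2 * C S.θ * C S.θ')) * T_mul_Tneg (L := L)

theorem ι_gv : S.ι (gv S.q S.hq) =
    S.Dinv * (C S.θ' * T 1 - (C S.θ + C S.θ') + C S.θ * T (-1)) := by
  have h := S.ι_spec 1 _ (X0X1_mem (K := K))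
  rw [pow_one, map_mul, ι₀_X0, ι₀_X1] at h
  calc S.ι (gv S.q S.hq) = S.ι (gv S.q S.hq) * ((C S.Dd * T 1) * (S.Dinv * T (-1))) := by
        rw [S.DT_mul, mul_one]
    _ = S.X₀ * S.Y₀ * (S.Dinv * T (-1)) := by rw [← mul_assoc]; rw [gv, h]
    _ = _ := by
        unfold X₀ Y₀
        linear_combination (S.Dinv * (C S.θ' * T 1 - C S.θ - C S.θ')) * T_mul_Tneg (L := L)

theorem ι_gw : S.ι (gw S.q S.hq) =
    S.Dinv * (T 1 - 2 + T (-1)) := by
  have h := S.ι_spec 1 _ (X1sq_mem (K := K))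
  rw [pow_one, map_pow, ι₀_X1] at h
  calc S.ι (gw S.q S.hq) = S.ι (gw S.q S.hq) * ((C S.Dd * T 1) * (S.Dinv * T (-1))) := by
        rw [S.DT_mul, mul_one]
    _ = S.Y₀ ^ 2 * (S.Dinv * T (-1)) := by rw [← mul_assoc]; rw [gw, h]
    _ = _ := by
        unfold Y₀
        linear_combination (S.Dinv * (T 1 - 2)) * T_mul_Tneg (L := L)

section Hom

variable (φ : S.A →+* S.A)

noncomputable def U : L[T;T⁻¹] := S.ι (φ (gu S.q S.hq))
noncomputable def V : L[T;T⁻¹] := S.ι (φ (gv S.q S.hq))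
noncomputable def W : L[T;T⁻¹] := S.ι (φ (gw S.q S.hq))

noncomputable def tau : L[T;T⁻¹] :=
  C S.aL * (S.U φ - 2 * C S.θ * S.V φ + C S.θ ^ 2 * S.W φ)

noncomputable def tau' : L[T;T⁻¹] :=
  C S.aL * (S.U φ - 2 * C S.θ' * S.V φ + C S.θ' ^ 2 * S.W φ)

theorem hUW : S.U φ * S.W φ = S.V φ * S.V φ := by
  simp only [U, V, W, ← map_mul, guw]

variable (hφ : ∀ (k : K) (z : S.A), φ (k • z) = k • φ z)

include hφ in
theorem hlinB : C S.aL * S.U φ - C S.aL * (C S.θ + C S.θ') * S.V φ +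
    C S.aL * C S.θ * C S.θ' * S.W φ = 1 := by
  have h := glin S.q S.hq S.a S.b S.c S.hqform
  have h2 := congrArg (fun z => S.ι (φ z)) h
  simp only [map_add, hφ, ι_smul, map_one, S.hb, S.hc] at h2
  simp only [map_neg, map_mul, map_add] at h2
  unfold U V W aL
  linear_combination h2

include hφ in
theorem tau_mul : S.tau φ * S.tau' φ = 1 :=
  core_C1 _ _ _ _ _ _ (S.hUW φ) (S.hlinB φ hφ)

theorem CDd_eq : C S.Dd = C S.aL * (C S.θ' - C S.θ) ^ 2 := by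
  rw [Dd, map_mul, map_pow, map_sub]; rfl

include hφ in
theorem DU : C S.Dd * S.U φ = C S.θ' ^ 2 * S.tau φ - 2 * C S.θ * C S.θ' + C S.θ ^ 2 * S.tau' φ :=
  core_C2 _ _ _ _ _ _ _ S.CDd_eq (S.hlinB φ hφ)

include hφ in
theorem DV : C S.Dd * S.V φ = C S.θ' * S.tau φ - (C S.θ + C S.θ') + C S.θ * S.tau' φ :=
  core_C3 _ _ _ _ _ _ _ S.CDd_eq (S.hlinB φ hφ)

include hφ in
theorem DW : C S.Dd * S.W φ = S.tau φ - 2 + S.tau' φ :=
  core_C4 _ _ _ _ _ _ _ S.CDd_eq (S.hlinB φ hφ)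

/-- `tau` as a unit -/
noncomputable def tauU : (L[T;T⁻¹])ˣ :=
  ⟨S.tau φ, S.tau' φ, S.tau_mul φ hφ, by rw [mul_comm]; exact S.tau_mul φ hφ⟩

/-- the extension of `φ` to the Laurent polynomial ring -/
noncomputable def ext : L[T;T⁻¹] →+* L[T;T⁻¹] :=
  LaurentPolynomial.eval₂ C (S.tauU φ hφ)

theorem ext_C (r : L) : S.ext φ hφ (C r) = C r := by
  rw [ext, eval₂_C]

theorem ext_T1 : S.ext φ hφ (T 1) = S.tau φ := by
  rw [ext, eval₂_T, zpow_one]; rfl

theorem ext_Tneg : S.ext φ hφ (T (-1)) = S.tau' φ := by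
  rw [ext, eval₂_T, zpow_neg_one]; rfl

theorem ext_two : S.ext φ hφ 2 = 2 := map_ofNat _ 2

theorem ext_comm (z : S.A) : S.ext φ hφ (S.ι z) = S.ι (φ z) := by
  refine gen_induction S.q S.hq (fun z => S.ext φ hφ (S.ι z) = S.ι (φ z))
    ?_ ?_ ?_ ?_ ?_ ?_ ?_ ?_ z
  · simp only [map_zero]
  · simp only [map_one]
  · show _ = S.U φ
    rw [ι_gu, Dinv]
    simp only [map_mul, map_sub, map_add, map_pow, ext_C, ext_T1, ext_Tneg, ext_two]
    rw [← S.DU φ hφ, ← mul_assoc, mul_comm (C S.Dd⁻¹), ← Dinv, S.D_mul_Dinv, one_mul]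
  · show _ = S.V φ
    rw [ι_gv, Dinv]
    simp only [map_mul, map_sub, map_add, map_pow, ext_C, ext_T1, ext_Tneg, ext_two]
    rw [← S.DV φ hφ, ← mul_assoc, mul_comm (C S.Dd⁻¹), ← Dinv, S.D_mul_Dinv, one_mul]
  · show _ = S.W φ
    rw [ι_gw, Dinv]
    simp only [map_mul, map_sub, map_add, map_pow, ext_C, ext_T1, ext_Tneg, ext_two]
    rw [← S.DW φ hφ, ← mul_assoc, mul_comm (C S.Dd⁻¹), ← Dinv, S.D_mul_Dinv, one_mul]
  · intro x y hx hy
    simp only [map_add, hx, hy]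
  · intro x y hx hy
    simp only [map_mul, hx, hy]
  · intro k x hx
    rw [ι_smul, map_mul, ext_C, hx, hφ, ι_smul]

theorem tau_comp (ψ : S.A →+* S.A) : S.tau (φ.comp ψ) = S.ext φ hφ (S.tau ψ) := by
  simp only [tau, U, V, W, RingHom.comp_apply, map_mul, map_sub, map_add, map_pow, ext_C,
    ext_comm, ext_two]

include hφ in
theorem tau_inj (ψ : S.A →+* S.A) (hψ : ∀ (k : K) (z : S.A), ψ (k • z) = k • ψ z)
    (h : S.tau φ = S.tau ψ) : φ = ψ := by
  have hU : S.tauU φ hφ = S.tauU ψ hψ := Units.ext h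
  refine RingHom.ext fun z => ?_
  apply S.ι_injective
  rw [← S.ext_comm φ hφ, ← S.ext_comm ψ hψ, ext, ext, hU]

end Hom

theorem tau_id : S.tau (RingHom.id S.A) = T 1 := by
  simp only [tau, U, V, W, RingHom.id_apply, ι_gu, ι_gv, ι_gw]
  linear_combination (T 1) * S.aL_Dinv

/-- `T⁻¹` as a unit -/
noncomputable def Tinv : (L[T;T⁻¹])ˣ :=
  ⟨T (-1), T 1, by rw [mul_comm]; exact T_mul_Tneg, T_mul_Tneg⟩

/-- the semilinear involution `T ↦ T⁻¹`, coefficients conjugated -/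
noncomputable def conj : L[T;T⁻¹] →+* L[T;T⁻¹] :=
  LaurentPolynomial.eval₂ (C.comp S.σ) Tinv

theorem conj_C (r : L) : S.conj (C r) = C (S.σ r) := by
  rw [conj, eval₂_C]; rfl

theorem conj_T1 : S.conj (T 1) = T (-1) := by
  rw [conj, eval₂_T, zpow_one]; rfl

theorem conj_Tneg : S.conj (T (-1)) = T 1 := by
  rw [conj, eval₂_T, zpow_neg_one]; rfl

theorem conj_two : S.conj 2 = 2 := map_ofNat _ 2

theorem σ_Dd : S.σ S.Dd = S.Dd := by
  rw [Dd, map_mul, map_pow, map_sub, S.hσK, S.hσθ, S.hσθ']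
  ring

theorem conj_Dinv : S.conj S.Dinv = S.Dinv := by
  rw [Dinv, conj_C, map_inv₀, σ_Dd]

theorem conj_ι (z : S.A) : S.conj (S.ι z) = S.ι z := by
  refine gen_induction S.q S.hq (fun z => S.conj (S.ι z) = S.ι z) ?_ ?_ ?_ ?_ ?_ ?_ ?_ ?_ z
  · simp only [map_zero]
  · simp only [map_one]
  · show S.conj (S.ι (gu S.q S.hq)) = S.ι (gu S.q S.hq)
    rw [ι_gu]
    simp only [map_mul, map_sub, map_add, map_pow, conj_C, conj_T1, conj_Tneg, conj_two, conj_Dinv,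
      S.hσθ, S.hσθ']
    ring
  · show S.conj (S.ι (gv S.q S.hq)) = S.ι (gv S.q S.hq)
    rw [ι_gv]
    simp only [map_mul, map_sub, map_add, map_pow, conj_C, conj_T1, conj_Tneg, conj_two, conj_Dinv,
      S.hσθ, S.hσθ']
    ring
  · show S.conj (S.ι (gw S.q S.hq)) = S.ι (gw S.q S.hq)
    rw [ι_gw]
    simp only [map_mul, map_sub, map_add, map_pow, conj_C, conj_T1, conj_Tneg, conj_two, conj_Dinv]
    ring
  · intro x y hx hy
    simp only [map_add, hx, hy]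
  · intro x y hx hy
    simp only [map_mul, hx, hy]
  · intro k x hx
    rw [ι_smul, map_mul, conj_C, hx, S.hσK]

theorem conj_tau (φ : S.A →+* S.A) : S.conj (S.tau φ) = S.tau' φ := by
  simp only [tau, tau', U, V, W, map_mul, map_sub, map_add, map_pow, conj_C, conj_ι, conj_two,
    S.hσθ, aL, S.hσK]

end Setup

end Groth.Agent.Helper22.Conic
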