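import Groth.Agent.Lib.Helper22.Conic5

set_option autoImplicit false
attribute [local instance] MvPolynomial.gradedAlgebra

namespace Groth.Agent.Helper22.Conic

open LaurentPolynomial
open scoped Polynomial

universe u

namespace Setup

variable {K L : Type u} [Field K] [Field L] [Algebra K L] (S : Setup K L)

theorem tauU_val (φ : S.A →+* S.A) (hφ : ∀ (k : K) (z : S.A), φ (k • z) = k • φ z) :
    ((S.tauU φ hφ : (L[T;T⁻¹])ˣ) : L[T;T⁻¹]) = S.tau φ := rfl

theorem tauU_inv_val (φ : S.A →+* S.A) (hφ : ∀ (k : K) (z : S.A), φ (k • z) = k • φ z) :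
    (((S.tauU φ hφ)⁻¹ : (L[T;T⁻¹])ˣ) : L[T;T⁻¹]) = S.tau' φ := rfl

theorem conj_T (n : ℤ) : S.conj (T n) = T (-n) := by
  rw [conj, eval₂_T]
  have h := unit_zpow (L := L) Tinv (c := 1) (n := -1) one_ne_zero
    (by rw [map_one, one_mul]; rfl) n
  rw [h, one_zpow, map_one, one_mul, neg_one_mul]

theorem main (hK : ∀ n : ℕ, 0 < n → (Polynomial.X ^ n - 1 : K[X]).Splits)
    (G : Subgroup (S.A ≃+* S.A)) [Finite G]
    (hG : ∀ g ∈ G, ∀ (k : K) (z : S.A), g (k • z) = k • g z) :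
    (∀ g ∈ G, g ^ 2 = 1) ∧ Nat.card G ≤ 4 := by
  classical
  obtain ⟨Φ, hΦdef⟩ : ∃ Φ : G → (S.A →+* S.A), ∀ g z, Φ g z = g.1 z :=
    ⟨fun g => (g.1 : S.A ≃+* S.A).toRingHom, fun _ _ => rfl⟩
  have hΦ : ∀ g : G, ∀ (k : K) (z : S.A), Φ g (k • z) = k • Φ g z := by
    intro g k z
    rw [hΦdef, hΦdef]
    exact hG g.1 g.2 k z
  have hΦmul : ∀ g h : G, Φ (g * h) = (Φ g).comp (Φ h) := by
    intro g h
    refine RingHom.ext fun z => ?_
    rw [RingHom.comp_apply, hΦdef, hΦdef, hΦdef]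
    rfl
  have hΦone : Φ 1 = RingHom.id _ := by
    refine RingHom.ext fun z => ?_
    rw [hΦdef]
    rfl
  have h5 : ∀ g : G, ∃ (c : L) (n : ℤ), c ≠ 0 ∧ S.tau (Φ g) = C c * T n := fun g =>
    laurent_unit _ _ (S.tau_mul (Φ g) (hΦ g))
  choose cc nn hcc hτ using h5
  have hcomp : ∀ g h : G, nn (g * h) = nn g * nn h ∧ cc (g * h) = cc h * cc g ^ nn h := by
    intro g h
    have e1 : S.tau (Φ (g * h)) = S.ext (Φ g) (hΦ g) (S.tau (Φ h)) := by
      rw [hΦmul]; exact S.tau_comp _ _ _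
    rw [hτ (g * h), hτ h, map_mul, S.ext_C, Setup.ext, eval₂_T] at e1
    have e2 := unit_zpow (S.tauU (Φ g) (hΦ g)) (hcc g) (hτ g) (nn h)
    rw [e2, ← mul_assoc, ← map_mul] at e1
    exact mono_unique (hcc _) e1
  have hone : nn 1 = 1 ∧ cc 1 = 1 := by
    have e1 : S.tau (Φ 1) = T 1 := by rw [hΦone]; exact S.tau_id
    rw [hτ 1] at e1
    have e2 : (C (cc 1) * T (nn 1) : L[T;T⁻¹]) = C 1 * T 1 := by rw [e1, map_one, one_mul]
    exact mono_unique (hcc 1) e2
  let ν₀ : G →* ℤ :=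
    { toFun := nn
      map_one' := hone.1
      map_mul' := fun g h => (hcomp g h).1 }
  let ν : G →* ℤˣ := ν₀.toHomUnits
  have hν : ∀ g, ((ν g : ℤˣ) : ℤ) = nn g := fun g => MonoidHom.coe_toHomUnits ν₀ g
  have hnn : ∀ g, nn g = 1 ∨ nn g = -1 := by
    intro g
    rcases Int.units_eq_one_or (ν g) with h | h
    · left; rw [← hν, h]; rfl
    · right; rw [← hν, h]; rfl
  have hσc : ∀ g, S.σ (cc g) = (cc g)⁻¹ := by
    intro g
    have e1 := S.conj_tau (Φ g)
    have e2 : S.tau' (Φ g) = C (cc g)⁻¹ * T (-(nn g)) := by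
      have e3 := unit_zpow (S.tauU (Φ g) (hΦ g)) (hcc g) (hτ g) (-1)
      rw [zpow_neg_one, S.tauU_inv_val, zpow_neg_one, mul_neg_one] at e3
      exact e3
    rw [hτ g, e2, map_mul, S.conj_C, S.conj_T] at e1
    exact (mono_unique ((map_ne_zero S.σ).2 (hcc g)) e1).2
  have hpow : ∀ g : G, nn g = 1 → ∀ k : ℕ, nn (g ^ k) = 1 ∧ cc (g ^ k) = cc g ^ k := by
    intro g hg k
    induction k with
    | zero => simpa using hone
    | succ k ih =>
      rw [pow_succ]
      obtain ⟨h1, h2⟩ := hcomp (g ^ k) g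
      refine ⟨by rw [h1, ih.1, hg, mul_one], ?_⟩
      rw [h2, hg, zpow_one, ih.2, pow_succ, mul_comm]
  have hsq : ∀ g : G, nn g = 1 → cc g ^ 2 = 1 := by
    intro g hg
    have hN : 0 < orderOf g := orderOf_pos g
    have h1 : cc g ^ orderOf g = 1 := by
      rw [← (hpow g hg _).2, pow_orderOf_eq_one]; exact hone.2
    have h2 : cc g ∈ (algebraMap K L).range := by
      refine Polynomial.Splits.mem_range_of_isRoot (hK _ hN) ?_ ?_
      · simpa using Polynomial.X_pow_sub_C_ne_zero hN (1 : K)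
      · simp [Polynomial.IsRoot, h1]
    obtain ⟨k, hk⟩ := h2
    have h3 : S.σ (cc g) = cc g := by rw [← hk, S.hσK]
    have h4 := hσc g
    rw [h3] at h4
    rw [pow_two]
    nth_rewrite 2 [h4]
    exact mul_inv_cancel₀ (hcc g)
  have hinj : ∀ g h : G, S.tau (Φ g) = S.tau (Φ h) → g = h := by
    intro g h e
    have e1 := S.tau_inj (Φ g) (hΦ g) (Φ h) (hΦ h) e
    apply Subtype.ext
    apply RingEquiv.ext
    intro z
    rw [← hΦdef, ← hΦdef, e1]
  have hsq1 : ∀ g : G, g * g = 1 := by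
    intro g
    apply hinj
    rw [hτ (g * g), hτ 1, hone.1, hone.2]
    obtain ⟨h1, h2⟩ := hcomp g g
    rw [h1, h2]
    rcases hnn g with hg | hg
    · rw [hg, zpow_one, ← pow_two, hsq g hg]; norm_num
    · rw [hg, zpow_neg_one, mul_inv_cancel₀ (hcc g)]; norm_num
  refine ⟨fun g hg => ?_, ?_⟩
  · have h1 := hsq1 ⟨g, hg⟩
    have h2 := congrArg Subtype.val h1
    rw [pow_two]
    exact h2
  · have h1 : Nat.card ν.ker ≤ 2 := by
      let f : ν.ker → Bool := fun g => decide (cc g.1 = 1)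
      have hker : ∀ g : ν.ker, nn g.1 = 1 := by
        intro g
        have h3 := g.2
        rw [MonoidHom.mem_ker] at h3
        rw [← hν, h3]; rfl
      have hf : Function.Injective f := by
        intro g h e
        have cg := sq_eq_one_iff.mp (hsq g.1 (hker g))
        have ch := sq_eq_one_iff.mp (hsq h.1 (hker h))
        have e' : (cc g.1 = 1 ↔ cc h.1 = 1) := by simpa [f] using e
        have hcc' : cc g.1 = cc h.1 := by
          rcases cg with cg | cg
          · rw [cg, e'.1 cg]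
          · rcases ch with ch | ch
            · rw [e'.2 ch, ch]
            · rw [cg, ch]
        apply Subtype.ext
        apply hinj
        rw [hτ, hτ, hker g, hker h, hcc']
      calc Nat.card ν.ker ≤ Nat.card Bool := Nat.card_le_card_of_injective f hf
        _ = 2 := by simp
    have h2 : ν.ker.index ≤ 2 := by
      rw [Subgroup.index_ker]
      calc Nat.card ν.range ≤ Nat.card ℤˣ :=
            Nat.card_le_card_of_injective _ Subtype.val_injective
        _ = 2 := by rw [Nat.card_eq_fintype_card]; rfl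
    calc Nat.card G = Nat.card ν.ker * ν.ker.index := (Subgroup.card_mul_index _).symm
      _ ≤ 2 * 2 := Nat.mul_le_mul h1 h2

end Setup

end Groth.Agent.Helper22.Conic
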