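import Mathlib

/-!
# Rigidity of idempotents over a local ring with a section (helper22)

If `N` is a local `R`-algebra with an `R`-algebra retraction `ε : N → R` and `A` is a finite
`R`-algebra, every idempotent of `A ⊗[R] N` is of the form `f ⊗ 1`.  The proof uses that the kernel
of `id ⊗ ε` lies in the Jacobson radical of `A ⊗ N` (which is integral over the local ring `N`), and
that idempotents congruent modulo the Jacobson radical are equal.
-/

set_option autoImplicit false
universe u v w

open TensorProduct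

namespace Groth.Agent.Helper22.ConnEt

/-- Two idempotents of a commutative ring that are congruent modulo the Jacobson radical are
equal. -/
theorem idem_eq_of_sub_mem_jacobson {S : Type*} [CommRing S] {a b : S}
    (ha : IsIdempotentElem a) (hb : IsIdempotentElem b)
    (h : a - b ∈ Ideal.jacobson (⊥ : Ideal S)) : a = b := by
  have key : ∀ x : S, IsIdempotentElem x → x ∈ Ideal.jacobson (⊥ : Ideal S) → x = 0 := by
    intro x hx hxJ
    have hu : IsUnit (x * (-1) + 1) := Ideal.mem_jacobson_bot.mp hxJ (-1)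
    have h0 : x * (x * (-1) + 1) = 0 := by
      have hx' : x * x = x := hx.eq
      linear_combination (-1 : S) * hx'
    exact (hu.mul_left_eq_zero).mp h0
  have ha' : a * a = a := ha.eq
  have hb' : b * b = b := hb.eq
  have h1 : a * (1 - b) = 0 := by
    apply key _ (ha.mul hb.one_sub)
    have e1 : a * (1 - b) = (a - b) * (1 - b) := by
      linear_combination (-1 : S) * hb'
    rw [e1]
    exact Ideal.mul_mem_right _ _ h
  have h2 : b * (1 - a) = 0 := by
    apply key _ (hb.mul ha.one_sub)
    have e1 : b * (1 - a) = (a - b) * (-(1 - a)) := by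
      linear_combination (-1 : S) * ha'
    rw [e1]
    exact Ideal.mul_mem_right _ _ h
  linear_combination h1 - h2

/-- For an integral algebra `S` over a local ring `N`, the maximal ideal of `N` maps into the
Jacobson radical of `S`. -/
theorem algebraMap_mem_jacobson {N : Type*} [CommRing N] [IsLocalRing N] {S : Type*} [CommRing S]
    [Algebra N S] [Algebra.IsIntegral N S] {n : N} (hn : n ∈ IsLocalRing.maximalIdeal N) :
    algebraMap N S n ∈ Ideal.jacobson (⊥ : Ideal S) := by
  show algebraMap N S n ∈ sInf {J : Ideal S | ⊥ ≤ J ∧ J.IsMaximal}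
  rw [Ideal.mem_sInf]
  rintro M ⟨-, hM⟩
  haveI := hM
  have h1 : (Ideal.comap (algebraMap N S) M).IsMaximal :=
    Ideal.isMaximal_comap_of_isIntegral_of_isMaximal M
  have h2 := IsLocalRing.eq_maximalIdeal h1
  have h3 : n ∈ Ideal.comap (algebraMap N S) M := by
    rw [h2]
    exact hn
  exact h3

section Rigid

variable {R : Type u} [CommRing R] {N : Type v} [CommRing N] [Algebra R N] [IsLocalRing N]
  {A : Type w} [CommRing A] [Algebra R A] (εN : N →ₐ[R] R)

/-- `n ⊗ a ↦ ε(n) a`. -/
noncomputable def qL : N ⊗[R] A →ₐ[R] A :=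
  Algebra.TensorProduct.lift ((Algebra.ofId R A).comp εN) (AlgHom.id R A)
    (fun _ _ => Commute.all _ _)

/-- `a ⊗ n ↦ a ε(n)`. -/
noncomputable def qR : A ⊗[R] N →ₐ[R] A :=
  Algebra.TensorProduct.lift (AlgHom.id R A) ((Algebra.ofId R A).comp εN)
    (fun _ _ => Commute.all _ _)

theorem qL_tmul (n : N) (a : A) : qL εN (n ⊗ₜ[R] a) = algebraMap R A (εN n) * a := by
  simp [qL]

theorem qR_tmul (a : A) (n : N) : qR εN (a ⊗ₜ[R] n) = a * algebraMap R A (εN n) := by
  simp [qR]

theorem qL_comm (x : A ⊗[R] N) : qL εN (Algebra.TensorProduct.comm R A N x) = qR εN x := by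
  induction x using TensorProduct.induction_on with
  | zero => simp
  | tmul a n => rw [Algebra.TensorProduct.comm_tmul, qL_tmul, qR_tmul, mul_comm]
  | add x y hx hy => simp only [map_add, hx, hy]

theorem sub_mem_maximalIdeal (n : N) :
    n - algebraMap R N (εN n) ∈ IsLocalRing.maximalIdeal N := by
  rw [IsLocalRing.mem_maximalIdeal, mem_nonunits_iff]
  intro hu
  have h0 : εN (n - algebraMap R N (εN n)) = 0 := by
    rw [map_sub, AlgHom.commutes]
    simp
  have hu' : IsUnit (εN (n - algebraMap R N (εN n))) := hu.map εN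
  rw [h0] at hu'
  have h10 : (0 : R) = 1 := isUnit_zero_iff.mp hu'
  have h11 : (1 : N) = 0 := by
    rw [← map_one (algebraMap R N), ← h10, map_zero]
  exact one_ne_zero h11

variable [Module.Finite R A]

theorem sub_mem_jacobson (x : N ⊗[R] A) :
    x - (1 : N) ⊗ₜ[R] (qL εN x) ∈ Ideal.jacobson (⊥ : Ideal (N ⊗[R] A)) := by
  haveI : Algebra.IsIntegral N (N ⊗[R] A) := Algebra.IsIntegral.of_finite N _
  induction x using TensorProduct.induction_on with
  | zero =>
    rw [map_zero, TensorProduct.tmul_zero, sub_zero]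
    exact Ideal.zero_mem _
  | tmul n a =>
    have e1 : (1 : N) ⊗ₜ[R] (algebraMap R A (εN n) * a) = (algebraMap R N (εN n)) ⊗ₜ[R] a := by
      rw [← Algebra.smul_def, TensorProduct.tmul_smul, TensorProduct.smul_tmul', Algebra.smul_def,
        mul_one]
    have e2 : algebraMap N (N ⊗[R] A) (n - algebraMap R N (εN n)) * ((1 : N) ⊗ₜ[R] a) =
        (n - algebraMap R N (εN n)) ⊗ₜ[R] a := by
      rw [Algebra.TensorProduct.algebraMap_apply, Algebra.TensorProduct.tmul_mul_tmul, one_mul]
      simp
    have h1 : n ⊗ₜ[R] a - (1 : N) ⊗ₜ[R] (qL εN (n ⊗ₜ[R] a)) =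
        algebraMap N (N ⊗[R] A) (n - algebraMap R N (εN n)) * ((1 : N) ⊗ₜ[R] a) := by
      rw [qL_tmul, e1, e2, TensorProduct.sub_tmul]
    rw [h1]
    exact Ideal.mul_mem_right _ _ (algebraMap_mem_jacobson (sub_mem_maximalIdeal εN n))
  | add x y hx hy =>
    have e : x + y - (1 : N) ⊗ₜ[R] (qL εN (x + y)) =
        (x - (1 : N) ⊗ₜ[R] (qL εN x)) + (y - (1 : N) ⊗ₜ[R] (qL εN y)) := by
      rw [map_add, TensorProduct.tmul_add]
      abel
    rw [e]
    exact Ideal.add_mem _ hx hy

/-- Every idempotent of `N ⊗ A` comes from `A`. -/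
theorem idem_eq (E : N ⊗[R] A) (hE : IsIdempotentElem E) : E = (1 : N) ⊗ₜ[R] (qL εN E) := by
  refine idem_eq_of_sub_mem_jacobson hE ?_ (sub_mem_jacobson εN E)
  have := (hE.map (qL εN)).map (Algebra.TensorProduct.includeRight : A →ₐ[R] N ⊗[R] A)
  simpa using this

/-- Every idempotent of `A ⊗ N` comes from `A`. -/
theorem idem_eq' (E : A ⊗[R] N) (hE : IsIdempotentElem E) : E = (qR εN E) ⊗ₜ[R] (1 : N) := by
  apply (Algebra.TensorProduct.comm R A N).injective
  rw [Algebra.TensorProduct.comm_tmul, ← qL_comm]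
  exact idem_eq εN _ (hE.map (Algebra.TensorProduct.comm R A N))

end Rigid

end Groth.Agent.Helper22.ConnEt
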