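import Mathlib
import Groth.Agent.Lib.Helper22.ConnEt1

/-!
# The connected component of a finite flat group scheme: points calculus (helper22)

`A` a commutative Hopf algebra over `R`, finite as a module, `e ∈ A` an idempotent with `ε(e) = 1`,
`π : A → N` the quotient by `(1 - e)` (kept abstract: `π e = 1` and every algebra map `h` out of `A`
with `h e = 1` factors through `π`), `N` local with a retraction `εN` compatible with the counit.
With the group of points `WithConv (A →ₐ[R] C)` we show: `e` is right `G⁰`-invariant, `G⁰` is normal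
(conjugates of points of `G⁰` are points of `G⁰`), and the algebra of right `G⁰`-invariants does
not see an element of `G⁰` inserted in a product of points.
-/

set_option autoImplicit false
set_option quotPrecheck false
universe u v w

open TensorProduct WithConv

namespace Groth.Agent.Helper22.ConnEt

section Points

variable {R : Type u} [CommRing R] {A : Type v} [CommRing A] [HopfAlgebra R A]

/-- Inverse of a point (Mathlib only provides it when the target is itself a bialgebra). -/
noncomputable scoped instance ptInv {C : Type*} [CommSemiring C] [Algebra R C] :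
    Inv (WithConv (A →ₐ[R] C)) where
  inv f := toConv (f.ofConv.comp (HopfAlgebra.antipodeAlgHom R A))

/-- The group of points of a commutative Hopf algebra with values in a commutative algebra. -/
noncomputable scoped instance ptGroup {C : Type*} [CommSemiring C] [Algebra R C] :
    Group (WithConv (A →ₐ[R] C)) where
  inv_mul_cancel f := by
    apply WithConv.ext
    have h1 := AlgHom.comp_convMul_distrib f.ofConv
      (toConv (HopfAlgebra.antipodeAlgHom R A)) (toConv (AlgHom.id R A))
    rw [AlgHom.antipode_id_cancel] at h1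
    have h2 : f.ofConv.comp (1 : WithConv (A →ₐ[R] A)).ofConv =
        (1 : WithConv (A →ₐ[R] C)).ofConv := by
      apply AlgHom.ext
      intro a
      show f.ofConv (algebraMap R A (CoalgebraStruct.counit (R := R) a)) =
        algebraMap R C (CoalgebraStruct.counit (R := R) a)
      rw [AlgHom.commutes]
    rw [h2] at h1
    rw [h1]
    simp only [AlgHom.comp_id]
    rfl

/-- Push a point forward along an algebra map: a group homomorphism. -/
noncomputable def push {C : Type*} [CommSemiring C] [Algebra R C] {C' : Type*} [CommSemiring C']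
    [Algebra R C'] (φ : C →ₐ[R] C') : WithConv (A →ₐ[R] C) →* WithConv (A →ₐ[R] C') where
  toFun x := toConv (φ.comp x.ofConv)
  map_one' := by
    apply WithConv.ext
    show φ.comp ((Algebra.ofId R C).comp (Bialgebra.counitAlgHom R A)) =
      (Algebra.ofId R C').comp (Bialgebra.counitAlgHom R A)
    ext a
    simp
  map_mul' x y := by
    apply WithConv.ext
    exact AlgHom.comp_convMul_distrib φ x y

theorem push_apply {C : Type*} [CommSemiring C] [Algebra R C] {C' : Type*} [CommSemiring C']
    [Algebra R C'] (φ : C →ₐ[R] C') (x : WithConv (A →ₐ[R] C)) (a : A) :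
    (push φ x) a = φ (x a) := rfl

theorem push_toConv {C : Type*} [CommSemiring C] [Algebra R C] {C' : Type*} [CommSemiring C']
    [Algebra R C'] (φ : C →ₐ[R] C') (f : A →ₐ[R] C) :
    push φ (toConv f) = toConv (φ.comp f) := rfl

theorem inv_apply {C : Type*} [CommSemiring C] [Algebra R C] (x : WithConv (A →ₐ[R] C)) (a : A) :
    x⁻¹ a = x (HopfAlgebraStruct.antipode R a) := rfl

theorem one_apply {C : Type*} [CommSemiring C] [Algebra R C] (a : A) :
    (1 : WithConv (A →ₐ[R] C)) a = algebraMap R C (CoalgebraStruct.counit (R := R) a) := rfl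

theorem one_apply_e {e : A} (hε : Bialgebra.counitAlgHom R A e = 1) {C : Type*} [CommSemiring C]
    [Algebra R C] : (1 : WithConv (A →ₐ[R] C)) e = 1 := by
  rw [one_apply, ← Bialgebra.counitAlgHom_apply, hε, map_one]

end Points

section Setting

variable (R : Type u) [CommRing R] (A : Type v) [CommRing A] [HopfAlgebra R A] (e : A)
  (N : Type v) [CommRing N] [Algebra R N] (π : A →ₐ[R] N)

local notation "𝛒" => ((Algebra.TensorProduct.map (AlgHom.id R A) π).comp
  (Bialgebra.comulAlgHom R A))
local notation "𝐄" => (AlgHom.equalizer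
  ((Algebra.TensorProduct.map (AlgHom.id R A) π).comp (Bialgebra.comulAlgHom R A))
  (Algebra.TensorProduct.includeLeft : A →ₐ[R] A ⊗[R] N))
local notation "𝐱" => (toConv (Algebra.TensorProduct.includeLeft : A →ₐ[R] A ⊗[R] N))
local notation "𝐠" => (toConv ((Algebra.TensorProduct.includeRight : N →ₐ[R] A ⊗[R] N).comp π))

/-- Every algebra map out of `A` sending `e` to `1` factors through `π` (i.e. `π` is the quotient
by `(1 - e)`), for targets in the universe of `A`. -/
def Fac : Prop :=
  ∀ (C : Type v) [CommRing C] [Algebra R C] (h : A →ₐ[R] C), h e = 1 →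
    ∃ hbar : N →ₐ[R] C, hbar.comp π = h

/-- Right invariance in terms of points. -/
theorem mul_apply_of_mem (hfac : Fac R A e N π) {C : Type v} [CommRing C] [Algebra R C] (b : A)
    (hb : b ∈ 𝐄) (z h : WithConv (A →ₐ[R] C)) (he1 : h e = 1) : (z * h) b = z b := by
  obtain ⟨hbar, hhbar⟩ := hfac C h.ofConv he1
  have key : Algebra.TensorProduct.lift z.ofConv h.ofConv (fun _ _ => Commute.all _ _) =
      (Algebra.TensorProduct.lift z.ofConv hbar (fun _ _ => Commute.all _ _)).comp
        (Algebra.TensorProduct.map (AlgHom.id R A) π) := by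
    apply Algebra.TensorProduct.ext'
    intro a a'
    have h1 : hbar (π a') = h.ofConv a' := AlgHom.congr_fun hhbar a'
    simp only [AlgHom.comp_apply, Algebra.TensorProduct.map_tmul, Algebra.TensorProduct.lift_tmul,
      AlgHom.coe_id, id_eq, h1]
  have h0 := (AlgHom.mem_equalizer _ _ b).mp hb
  rw [AlgHom.comp_apply, Bialgebra.comulAlgHom_apply,
    Algebra.TensorProduct.includeLeft_apply] at h0
  rw [AlgHom.convMul_apply, key, AlgHom.comp_apply, h0, Algebra.TensorProduct.lift_tmul, map_one,
    mul_one]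

/-- The coaction `ρ` is the product of the two universal points. -/
theorem rho_eq : (𝐱 * 𝐠).ofConv = 𝛒 := by
  have hl : Algebra.TensorProduct.lift (Algebra.TensorProduct.includeLeft : A →ₐ[R] A ⊗[R] N)
      ((Algebra.TensorProduct.includeRight : N →ₐ[R] A ⊗[R] N).comp π)
      (fun _ _ => Commute.all _ _) = Algebra.TensorProduct.map (AlgHom.id R A) π := by
    apply Algebra.TensorProduct.ext'
    intro a a'
    simp
  apply AlgHom.ext
  intro a
  have h1 := AlgHom.convMul_apply 𝐱 𝐠 a
  rw [WithConv.ofConv_toConv, WithConv.ofConv_toConv, hl] at h1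
  rw [AlgHom.comp_apply, Bialgebra.comulAlgHom_apply]
  exact h1

variable [IsLocalRing N] (εN : N →ₐ[R] R)

theorem push_qR_x : push (qR εN) 𝐱 = toConv (AlgHom.id R A) := by
  apply WithConv.ext
  apply AlgHom.ext
  intro a
  show qR εN (a ⊗ₜ[R] (1 : N)) = a
  rw [qR_tmul, map_one, map_one, mul_one]

theorem push_qR_g (hεN : ∀ a, εN (π a) = CoalgebraStruct.counit (R := R) a) :
    push (qR εN) 𝐠 = 1 := by
  apply WithConv.ext
  apply AlgHom.ext
  intro a
  show qR εN ((1 : A) ⊗ₜ[R] (π a)) = algebraMap R A (CoalgebraStruct.counit (R := R) a)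
  rw [qR_tmul, hεN, one_mul]

variable [Module.Finite R A]

/-- Normality of `G⁰`, universal case. -/
theorem nrmU (hεN : ∀ a, εN (π a) = CoalgebraStruct.counit (R := R) a)
    (he : IsIdempotentElem e) (hε : Bialgebra.counitAlgHom R A e = 1) :
    (𝐱⁻¹ * 𝐠 * 𝐱) e = 1 := by
  have hid : IsIdempotentElem ((𝐱⁻¹ * 𝐠 * 𝐱) e) := he.map (𝐱⁻¹ * 𝐠 * 𝐱).ofConv
  have h1 := idem_eq' εN _ hid
  have h2 : push (qR εN) (𝐱⁻¹ * 𝐠 * 𝐱) = 1 := by
    rw [map_mul, map_mul, map_inv, push_qR_x, push_qR_g R A N π εN hεN, mul_one, inv_mul_cancel]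
  have h3 : qR εN ((𝐱⁻¹ * 𝐠 * 𝐱) e) = 1 := by
    have h4 := congrArg (fun p : WithConv (A →ₐ[R] A) => p e) h2
    exact h4.trans (one_apply_e hε)
  rw [h1, h3]
  rfl

/-- Normality of `G⁰`. -/
theorem nrm (hfac : Fac R A e N π) (hεN : ∀ a, εN (π a) = CoalgebraStruct.counit (R := R) a)
    (he : IsIdempotentElem e) (hε : Bialgebra.counitAlgHom R A e = 1)
    {C : Type v} [CommRing C] [Algebra R C] (z h : WithConv (A →ₐ[R] C)) (he1 : h e = 1) :
    (z⁻¹ * h * z) e = 1 := by
  obtain ⟨hbar, hhbar⟩ := hfac C h.ofConv he1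
  have hx : push (Algebra.TensorProduct.lift z.ofConv hbar (fun _ _ => Commute.all _ _)) 𝐱 = z := by
    apply WithConv.ext
    apply AlgHom.ext
    intro a
    show Algebra.TensorProduct.lift z.ofConv hbar (fun _ _ => Commute.all _ _)
      (a ⊗ₜ[R] (1 : N)) = z.ofConv a
    rw [Algebra.TensorProduct.lift_tmul, map_one, mul_one]
  have hg : push (Algebra.TensorProduct.lift z.ofConv hbar (fun _ _ => Commute.all _ _)) 𝐠 = h := by
    apply WithConv.ext
    apply AlgHom.ext
    intro a
    show Algebra.TensorProduct.lift z.ofConv hbar (fun _ _ => Commute.all _ _)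
      ((1 : A) ⊗ₜ[R] (π a)) = h.ofConv a
    rw [Algebra.TensorProduct.lift_tmul, map_one, one_mul, ← hhbar]
    rfl
  have h1 : z⁻¹ * h * z =
      push (Algebra.TensorProduct.lift z.ofConv hbar (fun _ _ => Commute.all _ _))
        (𝐱⁻¹ * 𝐠 * 𝐱) := by
    rw [map_mul, map_mul, map_inv, hx, hg]
  rw [h1, push_apply, nrmU R A e N π εN hεN he hε, map_one]

theorem e_mem (hεN : ∀ a, εN (π a) = CoalgebraStruct.counit (R := R) a)
    (he : IsIdempotentElem e) : e ∈ 𝐄 := by
  rw [AlgHom.mem_equalizer, Algebra.TensorProduct.includeLeft_apply, ← rho_eq R A N π]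
  have hid : IsIdempotentElem ((𝐱 * 𝐠) e) := he.map (𝐱 * 𝐠).ofConv
  have h1 := idem_eq' εN _ hid
  have h2 : push (qR εN) (𝐱 * 𝐠) = toConv (AlgHom.id R A) := by
    rw [map_mul, push_qR_x, push_qR_g R A N π εN hεN, mul_one]
  have h3 : qR εN ((𝐱 * 𝐠) e) = e :=
    congrArg (fun p : WithConv (A →ₐ[R] A) => p e) h2
  rw [h3] at h1
  exact h1

omit [Module.Finite R A] in
theorem pi_antipode_e (hεN : ∀ a, εN (π a) = CoalgebraStruct.counit (R := R) a)
    (he : IsIdempotentElem e) (hε : Bialgebra.counitAlgHom R A e = 1) :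
    π (HopfAlgebraStruct.antipode R e) = 1 := by
  have hid : IsIdempotentElem (π (HopfAlgebra.antipodeAlgHom R A e)) :=
    (he.map (HopfAlgebra.antipodeAlgHom R A)).map π
  rw [HopfAlgebra.antipodeAlgHom_apply] at hid
  have hεn : εN (π (HopfAlgebraStruct.antipode R e)) = 1 := by
    rw [hεN, HopfAlgebra.counit_antipode, ← Bialgebra.counitAlgHom_apply, hε]
  refine idem_eq_of_sub_mem_jacobson hid IsIdempotentElem.one ?_
  rw [IsLocalRing.jacobson_eq_maximalIdeal ⊥ bot_ne_top]
  have h := sub_mem_maximalIdeal εN (π (HopfAlgebraStruct.antipode R e))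
  rwa [hεn, map_one] at h

/-- `Δ(e) ≡ 1` modulo `(1 - e) ⊗ A + A ⊗ (1 - e)`. -/
theorem map_pi_pi_e (hπe : π e = 1)
    (hεN : ∀ a, εN (π a) = CoalgebraStruct.counit (R := R) a) (he : IsIdempotentElem e) :
    ((Algebra.TensorProduct.map π π).comp (Bialgebra.comulAlgHom R A)) e = 1 := by
  have h0 := (AlgHom.mem_equalizer _ _ e).mp (e_mem R A e N π εN hεN he)
  rw [AlgHom.comp_apply, Bialgebra.comulAlgHom_apply,
    Algebra.TensorProduct.includeLeft_apply] at h0
  have h1 : Algebra.TensorProduct.map π π =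
      (Algebra.TensorProduct.map π (AlgHom.id R N)).comp
        (Algebra.TensorProduct.map (AlgHom.id R A) π) := by
    rw [← Algebra.TensorProduct.map_comp, AlgHom.comp_id, AlgHom.id_comp]
  rw [AlgHom.comp_apply, Bialgebra.comulAlgHom_apply, h1, AlgHom.comp_apply, h0,
    Algebra.TensorProduct.map_tmul, hπe, map_one]
  rfl

/-- Invariant functions do not see an element of `G⁰` inserted in the middle of a product. -/
theorem inv3 (hfac : Fac R A e N π) (hεN : ∀ a, εN (π a) = CoalgebraStruct.counit (R := R) a)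
    (he : IsIdempotentElem e) (hε : Bialgebra.counitAlgHom R A e = 1)
    {C : Type v} [CommRing C] [Algebra R C] (b : A) (hb : b ∈ 𝐄)
    (z₁ h z₂ : WithConv (A →ₐ[R] C)) (he1 : h e = 1) :
    (z₁ * h * z₂) b = (z₁ * z₂) b := by
  have h1 : z₁ * h * z₂ = (z₁ * z₂) * (z₂⁻¹ * h * z₂) := by group
  rw [h1]
  exact mul_apply_of_mem R A e N π hfac b hb _ _ (nrm R A e N π εN hfac hεN he hε z₂ h he1)

theorem antipode_mem (hfac : Fac R A e N π)
    (hεN : ∀ a, εN (π a) = CoalgebraStruct.counit (R := R) a)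
    (he : IsIdempotentElem e) (hε : Bialgebra.counitAlgHom R A e = 1)
    (b : A) (hb : b ∈ 𝐄) : HopfAlgebraStruct.antipode R b ∈ 𝐄 := by
  rw [AlgHom.mem_equalizer, Algebra.TensorProduct.includeLeft_apply, ← rho_eq R A N π]
  have hg : 𝐠⁻¹ e = 1 := by
    rw [inv_apply]
    show (Algebra.TensorProduct.includeRight : N →ₐ[R] A ⊗[R] N)
      (π (HopfAlgebraStruct.antipode R e)) = 1
    rw [pi_antipode_e R A e N π εN hεN he hε, map_one]
  have h3 : ((𝐱 * 𝐠)⁻¹) b = (𝐱⁻¹) b := by
    have h1 : (𝐱 * 𝐠)⁻¹ = 1 * 𝐠⁻¹ * 𝐱⁻¹ := by group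
    rw [h1, inv3 R A e N π εN hfac hεN he hε b hb 1 𝐠⁻¹ 𝐱⁻¹ hg, one_mul]
  exact h3

omit [IsLocalRing N] [Module.Finite R A] in
theorem pi_eq_counit (hfac : Fac R A e N π) (hπe : π e = 1) (b : A) (hb : b ∈ 𝐄) :
    π b = algebraMap R N (CoalgebraStruct.counit (R := R) b) := by
  have h := mul_apply_of_mem R A e N π hfac b hb (1 : WithConv (A →ₐ[R] N)) (toConv π) hπe
  rw [one_mul] at h
  exact h

end Setting

end Groth.Agent.Helper22.ConnEt
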