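import Mathlib
import Groth.Agent.Lib.Helper22.ConnEt2

/-!
# The connected component of a finite flat group scheme: invariance conditions (helper22)

For `b` in the algebra `E` of right `G⁰`-invariants we verify the two equaliser conditions showing
`Δ b ∈ E ⊗ E`, the same for the separability idempotent `t = (S ⊗ id) Δ e`, and the two
separability identities for `t`.
-/

set_option autoImplicit false
set_option quotPrecheck false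
universe u v w

open TensorProduct WithConv

namespace Groth.Agent.Helper22.ConnEt

section Abstract

variable {G H : Type*} [Group G] [Group H]

theorem abs0 (f f' : G →* H) (p : G) (h : f p = f' p) : f p⁻¹ = f' p⁻¹ := by
  rw [map_inv, map_inv, h]

theorem abs1 (f f' : G →* H) (u p₂ : G) (P₂ P₃ : H) (hu : f u = f' u) (h2 : f p₂ = P₂ * P₃)
    (h2' : f' p₂ = P₂) : f (u * p₂) = f' (u * p₂) * P₃ := by
  rw [map_mul, map_mul, h2, h2', hu, mul_assoc]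

theorem abs2 (f f' : G →* H) (p₁ p₂ : G) (P₁ P₂ P₃ : H) (h1 : f p₁ = P₁) (h1' : f' p₁ = P₁)
    (h2 : f p₂ = P₂ * P₃) (h2' : f' p₂ = P₂) :
    f (p₂ * p₁) = P₂ * P₃ * P₁ ∧ f' (p₂ * p₁) = P₂ * P₁ := by
  constructor
  · rw [map_mul, h2, h1]
  · rw [map_mul, h2', h1']

theorem abs3 (f f' : G →* H) (p₁ p₂ : G) (P₁ P₂ P₃ : H) (h1 : f p₁ = P₁) (h1' : f' p₁ = P₁)
    (h2 : f p₂ = P₂ * P₃) (h2' : f' p₂ = P₂) :
    f (p₂⁻¹ * p₁) = 1 * P₃⁻¹ * (P₂⁻¹ * P₁) ∧ f' (p₂⁻¹ * p₁) = 1 * (P₂⁻¹ * P₁) := by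
  constructor
  · rw [map_mul, map_inv, h2, h1]
    group
  · rw [map_mul, map_inv, h2', h1', one_mul]

theorem abs4 (c : G →* G) (p₁ p₂ : G) (h1 : c p₁ = p₂) (h2 : c p₂ = p₁) :
    c (p₁ * p₂) = p₂ * p₁ ∧ c (p₁⁻¹ * p₂) = p₂⁻¹ * p₁ := by
  constructor
  · rw [map_mul, h1, h2]
  · rw [map_mul, map_inv, h1, h2]

end Abstract

section Setting

variable (R : Type u) [CommRing R] (A : Type v) [CommRing A] [HopfAlgebra R A] (e : A)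
  (N : Type v) [CommRing N] [Algebra R N] (π : A →ₐ[R] N)

local notation "𝛒" => ((Algebra.TensorProduct.map (AlgHom.id R A) π).comp
  (Bialgebra.comulAlgHom R A))
local notation "𝐄" => (AlgHom.equalizer
  ((Algebra.TensorProduct.map (AlgHom.id R A) π).comp (Bialgebra.comulAlgHom R A))
  (Algebra.TensorProduct.includeLeft : A →ₐ[R] A ⊗[R] N))
local notation "𝐱" => (toConv (Algebra.TensorProduct.includeLeft : A →ₐ[R] A ⊗[R] N))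
local notation "𝐠" => (toConv ((Algebra.TensorProduct.includeRight : N →ₐ[R] A ⊗[R] N).comp π))
local notation "𝐩₁" => (toConv (Algebra.TensorProduct.includeLeft : A →ₐ[R] A ⊗[R] A))
local notation "𝐩₂" => (toConv (Algebra.TensorProduct.includeRight : A →ₐ[R] A ⊗[R] A))
local notation "𝐏₁" => (toConv (Algebra.TensorProduct.includeLeft : A →ₐ[R] A ⊗[R] (A ⊗[R] N)))
local notation "𝛊" => (Algebra.TensorProduct.includeRight : A ⊗[R] N →ₐ[R] A ⊗[R] (A ⊗[R] N))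
local notation "𝛗" => (Algebra.TensorProduct.map (AlgHom.id R A)
  ((Algebra.TensorProduct.map (AlgHom.id R A) π).comp (Bialgebra.comulAlgHom R A)))
local notation "𝛗'" => (Algebra.TensorProduct.map (AlgHom.id R A)
  (Algebra.TensorProduct.includeLeft : A →ₐ[R] A ⊗[R] N))
local notation "𝐜" => ((Algebra.TensorProduct.comm R A A).toAlgHom)

theorem push_phi_p1 : push 𝛗 𝐩₁ = 𝐏₁ := by
  apply WithConv.ext
  apply AlgHom.ext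
  intro a
  show 𝛗 (a ⊗ₜ[R] (1 : A)) = a ⊗ₜ[R] (1 : A ⊗[R] N)
  rw [Algebra.TensorProduct.map_tmul, map_one, AlgHom.coe_id, id_eq]

theorem push_phi'_p1 : push 𝛗' 𝐩₁ = 𝐏₁ := by
  apply WithConv.ext
  apply AlgHom.ext
  intro a
  show 𝛗' (a ⊗ₜ[R] (1 : A)) = a ⊗ₜ[R] (1 : A ⊗[R] N)
  rw [Algebra.TensorProduct.map_tmul, map_one, AlgHom.coe_id, id_eq]

theorem push_phi_p2 : push 𝛗 𝐩₂ = push 𝛊 𝐱 * push 𝛊 𝐠 := by
  rw [← map_mul]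
  apply WithConv.ext
  apply AlgHom.ext
  intro a
  show 𝛗 ((1 : A) ⊗ₜ[R] a) = 𝛊 ((𝐱 * 𝐠).ofConv a)
  rw [rho_eq, Algebra.TensorProduct.map_tmul, map_one]
  rfl

theorem push_phi'_p2 : push 𝛗' 𝐩₂ = push 𝛊 𝐱 := by
  apply WithConv.ext
  apply AlgHom.ext
  intro a
  show 𝛗' ((1 : A) ⊗ₜ[R] a) =
    𝛊 ((Algebra.TensorProduct.includeLeft : A →ₐ[R] A ⊗[R] N) a)
  rw [Algebra.TensorProduct.map_tmul, map_one]
  rfl

theorem push_comm_p1 : push 𝐜 𝐩₁ = 𝐩₂ := by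
  apply WithConv.ext
  apply AlgHom.ext
  intro a
  show Algebra.TensorProduct.comm R A A (a ⊗ₜ[R] (1 : A)) = (1 : A) ⊗ₜ[R] a
  rw [Algebra.TensorProduct.comm_tmul]

theorem push_comm_p2 : push 𝐜 𝐩₂ = 𝐩₁ := by
  apply WithConv.ext
  apply AlgHom.ext
  intro a
  show Algebra.TensorProduct.comm R A A ((1 : A) ⊗ₜ[R] a) = a ⊗ₜ[R] (1 : A)
  rw [Algebra.TensorProduct.comm_tmul]

theorem P3_e (hπe : π e = 1) : (push 𝛊 𝐠) e = 1 := by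
  show 𝛊 ((Algebra.TensorProduct.includeRight : N →ₐ[R] A ⊗[R] N) (π e)) = 1
  rw [hπe, map_one, map_one]

theorem comul_eq (b : A) : CoalgebraStruct.comul (R := R) b = (𝐩₁ * 𝐩₂) b := by
  have hl : Algebra.TensorProduct.lift (Algebra.TensorProduct.includeLeft : A →ₐ[R] A ⊗[R] A)
      (Algebra.TensorProduct.includeRight : A →ₐ[R] A ⊗[R] A) (fun _ _ => Commute.all _ _) =
      AlgHom.id R (A ⊗[R] A) := by
    apply Algebra.TensorProduct.ext'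
    intro a a'
    simp
  have h1 := AlgHom.convMul_apply 𝐩₁ 𝐩₂ b
  rw [WithConv.ofConv_toConv, WithConv.ofConv_toConv, hl, AlgHom.coe_id, id_eq] at h1
  exact h1.symm

/-- First equaliser condition. -/
theorem cond1 (hfac : Fac R A e N π) (hπe : π e = 1) (b : A) (hb : b ∈ 𝐄)
    (u : WithConv (A →ₐ[R] A ⊗[R] A)) (hu : push 𝛗 u = push 𝛗' u) :
    𝛗 ((u * 𝐩₂) b) = 𝛗' ((u * 𝐩₂) b) := by
  have key := abs1 (push 𝛗) (push 𝛗') u 𝐩₂ _ _ hu (push_phi_p2 R A N π) (push_phi'_p2 R A N)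
  calc 𝛗 ((u * 𝐩₂) b) = (push 𝛗 (u * 𝐩₂)) b := rfl
    _ = (push 𝛗' (u * 𝐩₂) * push 𝛊 𝐠) b :=
        congrArg (fun p : WithConv (A →ₐ[R] A ⊗[R] (A ⊗[R] N)) => p b) key
    _ = (push 𝛗' (u * 𝐩₂)) b :=
        mul_apply_of_mem R A e N π hfac b hb _ _ (P3_e R A e N π hπe)
    _ = 𝛗' ((u * 𝐩₂) b) := rfl

variable [IsLocalRing N] (εN : N →ₐ[R] R) [Module.Finite R A]

theorem P3_inv_e (hεN : ∀ a, εN (π a) = CoalgebraStruct.counit (R := R) a)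
    (he : IsIdempotentElem e) (hε : Bialgebra.counitAlgHom R A e = 1) :
    (push 𝛊 𝐠)⁻¹ e = 1 := by
  rw [inv_apply]
  show 𝛊 ((Algebra.TensorProduct.includeRight : N →ₐ[R] A ⊗[R] N)
    (π (HopfAlgebraStruct.antipode R e))) = 1
  rw [pi_antipode_e R A e N π εN hεN he hε, map_one, map_one]

/-- Second equaliser condition for `Δ b`. -/
theorem cond2_comul (hfac : Fac R A e N π) (hπe : π e = 1)
    (hεN : ∀ a, εN (π a) = CoalgebraStruct.counit (R := R) a)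
    (he : IsIdempotentElem e) (hε : Bialgebra.counitAlgHom R A e = 1) (b : A) (hb : b ∈ 𝐄) :
    𝛗 (Algebra.TensorProduct.comm R A A ((𝐩₁ * 𝐩₂) b)) =
      𝛗' (Algebra.TensorProduct.comm R A A ((𝐩₁ * 𝐩₂) b)) := by
  have e0 : Algebra.TensorProduct.comm R A A ((𝐩₁ * 𝐩₂) b) = (𝐩₂ * 𝐩₁) b :=
    congrArg (fun p : WithConv (A →ₐ[R] A ⊗[R] A) => p b)
      (abs4 (push 𝐜) 𝐩₁ 𝐩₂ (push_comm_p1 R A) (push_comm_p2 R A)).1
  rw [e0]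
  obtain ⟨k1, k2⟩ := abs2 (push 𝛗) (push 𝛗') 𝐩₁ 𝐩₂ _ _ _ (push_phi_p1 R A N π)
    (push_phi'_p1 R A N) (push_phi_p2 R A N π) (push_phi'_p2 R A N)
  calc 𝛗 ((𝐩₂ * 𝐩₁) b) = (push 𝛗 (𝐩₂ * 𝐩₁)) b := rfl
    _ = (push 𝛊 𝐱 * push 𝛊 𝐠 * 𝐏₁) b :=
        congrArg (fun p : WithConv (A →ₐ[R] A ⊗[R] (A ⊗[R] N)) => p b) k1
    _ = (push 𝛊 𝐱 * 𝐏₁) b :=
        inv3 R A e N π εN hfac hεN he hε b hb _ _ _ (P3_e R A e N π hπe)
    _ = (push 𝛗' (𝐩₂ * 𝐩₁)) b :=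
        (congrArg (fun p : WithConv (A →ₐ[R] A ⊗[R] (A ⊗[R] N)) => p b) k2).symm
    _ = 𝛗' ((𝐩₂ * 𝐩₁) b) := rfl

/-- Second equaliser condition for the separability idempotent. -/
theorem cond2_t (hfac : Fac R A e N π)
    (hεN : ∀ a, εN (π a) = CoalgebraStruct.counit (R := R) a)
    (he : IsIdempotentElem e) (hε : Bialgebra.counitAlgHom R A e = 1) :
    𝛗 (Algebra.TensorProduct.comm R A A ((𝐩₁⁻¹ * 𝐩₂) e)) =
      𝛗' (Algebra.TensorProduct.comm R A A ((𝐩₁⁻¹ * 𝐩₂) e)) := by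
  have e0 : Algebra.TensorProduct.comm R A A ((𝐩₁⁻¹ * 𝐩₂) e) = (𝐩₂⁻¹ * 𝐩₁) e :=
    congrArg (fun p : WithConv (A →ₐ[R] A ⊗[R] A) => p e)
      (abs4 (push 𝐜) 𝐩₁ 𝐩₂ (push_comm_p1 R A) (push_comm_p2 R A)).2
  rw [e0]
  obtain ⟨k1, k2⟩ := abs3 (push 𝛗) (push 𝛗') 𝐩₁ 𝐩₂ _ _ _ (push_phi_p1 R A N π)
    (push_phi'_p1 R A N) (push_phi_p2 R A N π) (push_phi'_p2 R A N)
  calc 𝛗 ((𝐩₂⁻¹ * 𝐩₁) e) = (push 𝛗 (𝐩₂⁻¹ * 𝐩₁)) e := rfl
    _ = (1 * (push 𝛊 𝐠)⁻¹ * ((push 𝛊 𝐱)⁻¹ * 𝐏₁)) e :=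
        congrArg (fun p : WithConv (A →ₐ[R] A ⊗[R] (A ⊗[R] N)) => p e) k1
    _ = (1 * ((push 𝛊 𝐱)⁻¹ * 𝐏₁)) e :=
        inv3 R A e N π εN hfac hεN he hε e (e_mem R A e N π εN hεN he) 1 _ _
          (P3_inv_e R A e N π εN hεN he hε)
    _ = (push 𝛗' (𝐩₂⁻¹ * 𝐩₁)) e :=
        (congrArg (fun p : WithConv (A →ₐ[R] A ⊗[R] (A ⊗[R] N)) => p e) k2).symm
    _ = 𝛗' ((𝐩₂⁻¹ * 𝐩₁) e) := rfl

/-- First equaliser condition for the separability idempotent. -/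
theorem cond1_t (hfac : Fac R A e N π) (hπe : π e = 1)
    (hεN : ∀ a, εN (π a) = CoalgebraStruct.counit (R := R) a) (he : IsIdempotentElem e) :
    𝛗 ((𝐩₁⁻¹ * 𝐩₂) e) = 𝛗' ((𝐩₁⁻¹ * 𝐩₂) e) :=
  cond1 R A e N π hfac hπe e (e_mem R A e N π εN hεN he) 𝐩₁⁻¹
    (abs0 (push 𝛗) (push 𝛗') 𝐩₁ ((push_phi_p1 R A N π).trans (push_phi'_p1 R A N).symm))

omit [IsLocalRing N] [Module.Finite R A] in
/-- First equaliser condition for `Δ b`. -/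
theorem cond1_comul (hfac : Fac R A e N π) (hπe : π e = 1) (b : A) (hb : b ∈ 𝐄) :
    𝛗 ((𝐩₁ * 𝐩₂) b) = 𝛗' ((𝐩₁ * 𝐩₂) b) :=
  cond1 R A e N π hfac hπe b hb 𝐩₁ ((push_phi_p1 R A N π).trans (push_phi'_p1 R A N).symm)

omit [IsLocalRing N] [Module.Finite R A] in
/-- Separability: invariants take the same value at `x` and `y` when `x⁻¹ y ∈ G⁰`. -/
theorem sep_aux (hfac : Fac R A e N π) {C' : Type v} [CommRing C'] [Algebra R C']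
    (q : A ⊗[R] A →ₐ[R] C') (hq : q ((𝐩₁⁻¹ * 𝐩₂) e) = 1) (s : A) (hs : s ∈ 𝐄) :
    q ((1 : A) ⊗ₜ[R] s) = q (s ⊗ₜ[R] (1 : A)) := by
  have hR := mul_apply_of_mem R A e N π hfac s hs (push q 𝐩₁) (push q (𝐩₁⁻¹ * 𝐩₂)) hq
  rw [← map_mul, mul_inv_cancel_left] at hR
  exact hR

omit [IsLocalRing N] [Module.Finite R A] in
theorem sep_ann (hfac : Fac R A e N π) (he : IsIdempotentElem e) (s : A) (hs : s ∈ 𝐄) :
    ((1 : A) ⊗ₜ[R] s - s ⊗ₜ[R] (1 : A)) * ((𝐩₁⁻¹ * 𝐩₂) e) = 0 := by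
  have hid : IsIdempotentElem ((𝐩₁⁻¹ * 𝐩₂) e) := he.map (𝐩₁⁻¹ * 𝐩₂).ofConv
  have hq1 : (Ideal.Quotient.mkₐ R (Ideal.span {1 - (𝐩₁⁻¹ * 𝐩₂) e})) ((𝐩₁⁻¹ * 𝐩₂) e) = 1 := by
    have h : (Ideal.Quotient.mkₐ R (Ideal.span {1 - (𝐩₁⁻¹ * 𝐩₂) e})) (1 - (𝐩₁⁻¹ * 𝐩₂) e) = 0 := by
      rw [Ideal.Quotient.mkₐ_eq_mk]
      exact Ideal.Quotient.eq_zero_iff_mem.mpr (Ideal.subset_span rfl)
    rw [map_sub, map_one, sub_eq_zero] at h
    exact h.symm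
  have h2 := sep_aux R A e N π hfac (Ideal.Quotient.mkₐ R (Ideal.span {1 - (𝐩₁⁻¹ * 𝐩₂) e}))
    hq1 s hs
  have hmem : ((1 : A) ⊗ₜ[R] s - s ⊗ₜ[R] (1 : A)) ∈
      Ideal.span ({1 - (𝐩₁⁻¹ * 𝐩₂) e} : Set (A ⊗[R] A)) := by
    rw [← Ideal.Quotient.eq_zero_iff_mem]
    have h3 : (Ideal.Quotient.mkₐ R (Ideal.span {1 - (𝐩₁⁻¹ * 𝐩₂) e}))
        ((1 : A) ⊗ₜ[R] s - s ⊗ₜ[R] (1 : A)) = 0 := by
      rw [map_sub, sub_eq_zero]
      exact h2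
    exact h3
  obtain ⟨c, hc⟩ := Ideal.mem_span_singleton'.mp hmem
  rw [← hc, mul_assoc, sub_mul, one_mul, hid.eq, sub_self, mul_zero]

omit [IsLocalRing N] [Module.Finite R A] in
theorem sep_mul (hε : Bialgebra.counitAlgHom R A e = 1) :
    Algebra.TensorProduct.lmul' R ((𝐩₁⁻¹ * 𝐩₂) e) = 1 := by
  have h1 : push (Algebra.TensorProduct.lmul' R) 𝐩₁ = toConv (AlgHom.id R A) := by
    apply WithConv.ext
    exact Algebra.TensorProduct.lmul'_comp_includeLeft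
  have h2 : push (Algebra.TensorProduct.lmul' R) 𝐩₂ = toConv (AlgHom.id R A) := by
    apply WithConv.ext
    exact Algebra.TensorProduct.lmul'_comp_includeRight
  have h3 : push (Algebra.TensorProduct.lmul' R) (𝐩₁⁻¹ * 𝐩₂) = 1 := by
    rw [map_mul, map_inv, h1, h2, inv_mul_cancel]
  have h4 := congrArg (fun p : WithConv (A →ₐ[R] A) => p e) h3
  exact h4.trans (one_apply_e hε)

end Setting

end Groth.Agent.Helper22.ConnEt
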