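import Mathlib
import Groth.Prelude.Def_SGA3
import Groth.Agent.Lib.Helper22.ConnEt3
import Groth.Agent.Lib.Helper22.HopfQuot2

/-!
# The connected-étale sequence of a finite flat group scheme over a local ring (helper22)

Flat-equaliser argument (`mem_range_of_twoStep`), the separability criterion for étaleness of a
flat finitely presented subalgebra (`etale_of_sep`), and the main theorem in abstract form
(`main_generic`): for `π : A → N` the quotient of a finite flat commutative Hopf algebra by `(1-e)`,
`N` local, the algebra of `N`-coinvariants is a sub-Hopf-algebra, finite étale, `A` is faithfully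
flat over it and its augmentation ideal generates `(1 - e)`.
-/

set_option autoImplicit false
set_option quotPrecheck false
universe u v w

open TensorProduct WithConv

namespace Groth.Agent.Helper22.ConnEt

section TwoStep

variable {R : Type u} [CommRing R] {A : Type v} [CommRing A] [Algebra R A]
  {U : Type w} [CommRing U] [Algebra R U]

theorem map_val_injective (E : Subalgebra R A) [Module.Flat R A] [Module.Flat R E] :
    Function.Injective (TensorProduct.map E.val.toLinearMap E.val.toLinearMap) := by
  have hv : Function.Injective E.val.toLinearMap := fun x y h => Subtype.ext h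
  rw [← LinearMap.rTensor_comp_lTensor, LinearMap.coe_comp]
  exact (Module.Flat.rTensor_preserves_injective_linearMap (M := A) E.val.toLinearMap hv).comp
    (Module.Flat.lTensor_preserves_injective_linearMap (M := E) E.val.toLinearMap hv)

variable (ρ ι : A →ₐ[R] U)

local notation "𝐄₀" => (AlgHom.equalizer ρ ι)

/-- An element of `A ⊗ A` which is invariant in each variable lies in `E ⊗ E`. -/
theorem mem_range_of_twoStep [Module.Flat R A] [Module.Flat R U]
    [Module.Flat R (AlgHom.equalizer ρ ι)] (w : A ⊗[R] A)
    (h1 : Algebra.TensorProduct.map (AlgHom.id R A) ρ w =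
      Algebra.TensorProduct.map (AlgHom.id R A) ι w)
    (h2 : Algebra.TensorProduct.map (AlgHom.id R A) ρ (Algebra.TensorProduct.comm R A A w) =
      Algebra.TensorProduct.map (AlgHom.id R A) ι (Algebra.TensorProduct.comm R A A w)) :
    w ∈ LinearMap.range (TensorProduct.map (AlgHom.equalizer ρ ι).val.toLinearMap
      (AlgHom.equalizer ρ ι).val.toLinearMap) := by
  have hw : w ∈ AlgHom.equalizer (Algebra.TensorProduct.map (AlgHom.id R A) ρ)
      (Algebra.TensorProduct.map (AlgHom.id R A) ι) := (AlgHom.mem_equalizer _ _ w).mpr h1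
  obtain ⟨y, hy⟩ := (AlgHom.tensorEqualizerEquiv R A ρ ι).surjective ⟨w, hw⟩
  have hy' : Algebra.TensorProduct.map (AlgHom.id R A) 𝐄₀.val y = w := by
    have h := congrArg Subtype.val hy
    rw [AlgHom.tensorEqualizerEquiv_apply, AlgHom.coe_tensorEqualizer] at h
    exact h
  have c1 : ∀ (f : A →ₐ[R] U) (v : A ⊗[R] 𝐄₀),
      Algebra.TensorProduct.map 𝐄₀.val (AlgHom.id R U)
        (Algebra.TensorProduct.map (AlgHom.id R 𝐄₀) f (Algebra.TensorProduct.comm R A 𝐄₀ v)) =
      Algebra.TensorProduct.map (AlgHom.id R A) f
        (Algebra.TensorProduct.comm R A A (Algebra.TensorProduct.map (AlgHom.id R A) 𝐄₀.val v)) := by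
    intro f v
    induction v using TensorProduct.induction_on with
    | zero => simp
    | tmul a b => simp
    | add v₁ v₂ h₁ h₂ => simp only [map_add, h₁, h₂]
  have hJ : ∀ v, Algebra.TensorProduct.map 𝐄₀.val (AlgHom.id R U) v =
      LinearMap.rTensor U 𝐄₀.val.toLinearMap v := by
    intro v
    induction v using TensorProduct.induction_on with
    | zero => simp
    | tmul a b => simp
    | add v₁ v₂ h₁ h₂ => simp only [map_add, h₁, h₂]
  have hinj : Function.Injective (Algebra.TensorProduct.map 𝐄₀.val (AlgHom.id R U)) := by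
    intro v₁ v₂ h12
    apply Module.Flat.rTensor_preserves_injective_linearMap (M := U) 𝐄₀.val.toLinearMap
      (fun x y h => Subtype.ext h)
    rw [← hJ, ← hJ]
    exact h12
  have hy'' : Algebra.TensorProduct.comm R A 𝐄₀ y ∈
      AlgHom.equalizer (Algebra.TensorProduct.map (AlgHom.id R 𝐄₀) ρ)
        (Algebra.TensorProduct.map (AlgHom.id R 𝐄₀) ι) := by
    rw [AlgHom.mem_equalizer]
    apply hinj
    rw [c1 ρ y, c1 ι y, hy']
    exact h2
  obtain ⟨v, hv⟩ := (AlgHom.tensorEqualizerEquiv R 𝐄₀ ρ ι).surjective ⟨_, hy''⟩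
  have hv' : Algebra.TensorProduct.map (AlgHom.id R 𝐄₀) 𝐄₀.val v =
      Algebra.TensorProduct.comm R A 𝐄₀ y := by
    have h := congrArg Subtype.val hv
    rw [AlgHom.tensorEqualizerEquiv_apply, AlgHom.coe_tensorEqualizer] at h
    exact h
  have c4 : ∀ y : A ⊗[R] 𝐄₀,
      Algebra.TensorProduct.comm R 𝐄₀ A (Algebra.TensorProduct.comm R A 𝐄₀ y) = y := by
    intro y
    induction y using TensorProduct.induction_on with
    | zero => simp
    | tmul a b => simp
    | add v₁ v₂ h₁ h₂ => simp only [map_add, h₁, h₂]
  have c5 : ∀ v : 𝐄₀ ⊗[R] 𝐄₀,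
      Algebra.TensorProduct.map (AlgHom.id R A) 𝐄₀.val
        (Algebra.TensorProduct.comm R 𝐄₀ A
          (Algebra.TensorProduct.map (AlgHom.id R 𝐄₀) 𝐄₀.val v)) =
      TensorProduct.map 𝐄₀.val.toLinearMap 𝐄₀.val.toLinearMap (TensorProduct.comm R 𝐄₀ 𝐄₀ v) := by
    intro v
    induction v using TensorProduct.induction_on with
    | zero => simp
    | tmul a b => simp
    | add v₁ v₂ h₁ h₂ => simp only [map_add, h₁, h₂]
  refine ⟨TensorProduct.comm R 𝐄₀ 𝐄₀ v, ?_⟩
  rw [← c5 v, hv', c4, hy']

/-- A flat finitely presented subalgebra with a separability idempotent is étale. -/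
theorem etale_of_sep (E : Subalgebra R A) [Module.Flat R A] [Module.Flat R E]
    [Algebra.FinitePresentation R E] (tA : A ⊗[R] A)
    (hmem : tA ∈ LinearMap.range (TensorProduct.map E.val.toLinearMap E.val.toLinearMap))
    (h1 : ∀ s ∈ E, ((1 : A) ⊗ₜ[R] s - s ⊗ₜ[R] (1 : A)) * tA = 0)
    (h2 : Algebra.TensorProduct.lmul' R tA = 1) : Algebra.Etale R E := by
  obtain ⟨t, ht⟩ := hmem
  have hιι : ∀ v : E ⊗[R] E, Algebra.TensorProduct.map E.val E.val v =
      TensorProduct.map E.val.toLinearMap E.val.toLinearMap v := by
    intro v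
    induction v using TensorProduct.induction_on with
    | zero => simp
    | tmul a b => simp
    | add v₁ v₂ h₁ h₂ => simp only [map_add, h₁, h₂]
  have hinj : Function.Injective (Algebra.TensorProduct.map E.val E.val) := by
    intro v₁ v₂ h12
    apply map_val_injective E
    rw [← hιι, ← hιι]
    exact h12
  have hmul : ∀ v : E ⊗[R] E, ((Algebra.TensorProduct.lmul' R v : E) : A) =
      Algebra.TensorProduct.lmul' R (Algebra.TensorProduct.map E.val E.val v) := by
    intro v
    induction v using TensorProduct.induction_on with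
    | zero => simp
    | tmul a b => simp
    | add v₁ v₂ h₁ h₂ => simp only [map_add, Subalgebra.coe_add, h₁, h₂]
  haveI : Algebra.FormallyUnramified R E := by
    rw [Algebra.FormallyUnramified.iff_exists_tensorProduct]
    refine ⟨t, ?_, ?_⟩
    · intro s
      apply hinj
      rw [map_mul, map_sub, Algebra.TensorProduct.map_tmul, Algebra.TensorProduct.map_tmul,
        map_one, map_zero, hιι t, ht]
      exact h1 s s.2
    · apply Subtype.ext
      rw [hmul, hιι, ht, h2]
      rfl
  exact Algebra.Etale.of_formallyUnramified_of_flat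

end TwoStep

/-- Finiteness and flatness of a finite locally free commutative Hopf algebra over the coinvariants
of a quotient Hopf algebra. -/
theorem invariants_props (R : Type u) [CommRing R] [IsNoetherianRing R] (H : Type v) [CommRing H]
    [HopfAlgebra R H] [Module.Finite R H] [Module.Projective R H] (N : Type v) [CommRing N]
    [HopfAlgebra R N] [Module.Finite R N] [Module.Projective R N] (π : H →ₐ[R] N)
    (hπ : Function.Surjective π)
    (hΔ : ∀ a, CoalgebraStruct.comul (R := R) (π a) =
      TensorProduct.map π.toLinearMap π.toLinearMap (CoalgebraStruct.comul (R := R) a))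
    (hε : ∀ a, CoalgebraStruct.counit (R := R) (π a) = CoalgebraStruct.counit (R := R) a) :
    Module.Finite (↥(AlgHom.equalizer (HopfQuot.tAlg R H N π)
        (Algebra.TensorProduct.includeLeft : H →ₐ[R] H ⊗[R] N))) H ∧
    Module.Flat (↥(AlgHom.equalizer (HopfQuot.tAlg R H N π)
        (Algebra.TensorProduct.includeLeft : H →ₐ[R] H ⊗[R] N))) H := by
  have hrg := HopfQuot.rg R H N π hΔ hε
  have hs := HopfQuot.hsurj R H N π hπ
  haveI : Algebra.FinitePresentation R N :=
    Algebra.FinitePresentation.of_finiteType.mp inferInstance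
  haveI : Algebra.FinitePresentation H (H ⊗[R] N) := Algebra.FinitePresentation.baseChange H
  obtain ⟨⟨hfin, hflat, -⟩, -⟩ := Groth.Agent.Helper3.GrpdQ4.RG.main hrg hs
  obtain ⟨θ, -⟩ := Groth.Agent.Helper3.GrpdQ4.RG.theta hrg hs
  have hES : (AlgHom.equalizer (HopfQuot.tAlg R H N π)
      (Algebra.TensorProduct.includeLeft : H →ₐ[R] H ⊗[R] N)).toSubring =
      RingHom.eqLocus (algebraMap H (H ⊗[R] N)) (HopfQuot.tAlg R H N π).toRingHom := by
    ext x
    rw [Subalgebra.mem_toSubring, AlgHom.mem_equalizer, RingHom.mem_eqLocus]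
    constructor
    · intro h
      exact h.symm
    · intro h
      exact h.symm
  obtain ⟨hfin', hflat', -⟩ := HopfQuot.bridge _ _ hES hfin hflat θ.toLinearEquiv
  exact ⟨hfin', hflat'⟩

end Groth.Agent.Helper22.ConnEt
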