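import Mathlib
import Groth.Prelude.Def_SGA3
import Groth.Agent.Lib.Helper22.ConnEt4

/-!
# The connected-étale sequence: main theorem in abstract form (helper22)
-/

set_option autoImplicit false
set_option quotPrecheck false
universe u v w

open TensorProduct WithConv

namespace Groth.Agent.Helper22.ConnEt

attribute [local instance] Module.free_of_flat_of_isLocalRing

section Main

variable (R : Type u) [CommRing R] (A : Type u) [CommRing A] [HopfAlgebra R A] (e : A)
  (N : Type u) [CommRing N] [HopfAlgebra R N] (π : A →ₐ[R] N)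

local notation "𝛒" => ((Algebra.TensorProduct.map (AlgHom.id R A) π).comp
  (Bialgebra.comulAlgHom R A))
local notation "𝐄" => (AlgHom.equalizer
  ((Algebra.TensorProduct.map (AlgHom.id R A) π).comp (Bialgebra.comulAlgHom R A))
  (Algebra.TensorProduct.includeLeft : A →ₐ[R] A ⊗[R] N))
local notation "𝐩₁" => (toConv (Algebra.TensorProduct.includeLeft : A →ₐ[R] A ⊗[R] A))
local notation "𝐩₂" => (toConv (Algebra.TensorProduct.includeRight : A →ₐ[R] A ⊗[R] A))

theorem flat_of_quot (he : IsIdempotentElem e) [Module.Flat R A]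
    (hπ : Function.Surjective π) (hπe : π e = 1)
    (hker : ∀ a, π a = 0 → a ∈ Ideal.span ({1 - e} : Set A)) : Module.Flat R N := by
  letI : Algebra A N := π.toRingHom.toAlgebra
  haveI : IsScalarTower R A N := IsScalarTower.of_algebraMap_eq (fun r => (π.commutes r).symm)
  have hk : RingHom.ker (algebraMap A N) = Ideal.span ({1 - e} : Set A) := by
    apply le_antisymm
    · intro a ha
      exact hker a ha
    · rw [Ideal.span_le, Set.singleton_subset_iff]
      show π (1 - e) = 0
      rw [map_sub, map_one, hπe, sub_self]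
  haveI : IsLocalization.Away e N := IsLocalization.away_of_isIdempotentElem he hk hπ
  haveI : Module.Flat A N := IsLocalization.flat N (Submonoid.powers e)
  exact Module.Flat.trans R A N

theorem main_generic [IsLocalRing R] [IsNoetherianRing R] [Module.Finite R A] [Module.Flat R A]
    (he : IsIdempotentElem e) (hε : Bialgebra.counitAlgHom R A e = 1) [IsLocalRing N]
    (hπ : Function.Surjective π) (hπe : π e = 1) (hfac : Fac R A e N π)
    (hker : ∀ a, π a = 0 → a ∈ Ideal.span ({1 - e} : Set A))
    (hΔ : ∀ a, CoalgebraStruct.comul (R := R) (π a) =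
      TensorProduct.map π.toLinearMap π.toLinearMap (CoalgebraStruct.comul (R := R) a))
    (hεN : ∀ a, CoalgebraStruct.counit (R := R) (π a) = CoalgebraStruct.counit (R := R) a) :
    SGA3.IsHopfSubalgebra R A 𝐄 ∧ Algebra.Etale R ↥𝐄 ∧ Module.FaithfullyFlat ↥𝐄 A ∧
      SGA3.augIdealSpan R A 𝐄 = Ideal.span ({1 - e} : Set A) := by
  haveI : Module.Finite R N := Module.Finite.of_surjective π.toLinearMap hπ
  haveI : Module.Flat R N := flat_of_quot R A e N π he hπ hπe hker
  obtain ⟨hfin, hflat⟩ := invariants_props R A N π hπ hΔ hεN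
  haveI hfin' : Module.Finite ↥𝐄 A := hfin
  haveI hflat' : Module.Flat ↥𝐄 A := hflat
  have hinj : Function.Injective (algebraMap ↥𝐄 A) := Subtype.val_injective
  haveI : FaithfulSMul ↥𝐄 A := (faithfulSMul_iff_algebraMap_injective ↥𝐄 A).mpr hinj
  haveI : Module.FaithfullyFlat ↥𝐄 A :=
    Module.FaithfullyFlat.of_comap_surjective (Algebra.IsIntegral.comap_surjective ↥𝐄 A)
  haveI : Module.Finite R ↥𝐄 := by
    haveI : IsNoetherian R A := inferInstance
    exact Module.Finite.of_injective (IsScalarTower.toAlgHom R ↥𝐄 A).toLinearMap hinj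
  haveI : Module.Flat R ↥𝐄 := HopfQuot.flat_of_faithfullyFlat R ↥𝐄 A
  haveI : Algebra.FinitePresentation R ↥𝐄 :=
    Algebra.FinitePresentation.of_finiteType.mp inferInstance
  have hεN' : ∀ a, Bialgebra.counitAlgHom R N (π a) = CoalgebraStruct.counit (R := R) a := by
    intro a
    rw [Bialgebra.counitAlgHom_apply]
    exact hεN a
  have hmemE := e_mem R A e N π (Bialgebra.counitAlgHom R N) hεN' he
  refine ⟨⟨?_, ?_⟩, ?_, inferInstance, ?_⟩
  · intro b hb
    rw [comul_eq R A b]
    exact mem_range_of_twoStep 𝛒 Algebra.TensorProduct.includeLeft _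
      (cond1_comul R A e N π hfac hπe b hb)
      (cond2_comul R A e N π (Bialgebra.counitAlgHom R N) hfac hπe hεN' he hε b hb)
  · intro b hb
    exact antipode_mem R A e N π (Bialgebra.counitAlgHom R N) hfac hεN' he hε b hb
  · exact etale_of_sep 𝐄 ((𝐩₁⁻¹ * 𝐩₂) e)
      (mem_range_of_twoStep 𝛒 Algebra.TensorProduct.includeLeft _
        (cond1_t R A e N π (Bialgebra.counitAlgHom R N) hfac hπe hεN' he)
        (cond2_t R A e N π (Bialgebra.counitAlgHom R N) hfac hεN' he hε))
      (fun s hs => sep_ann R A e N π hfac he s hs) (sep_mul R A e hε)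
  · apply le_antisymm
    · unfold SGA3.augIdealSpan
      rw [Ideal.span_le]
      rintro a ⟨haE, ha0⟩
      apply hker
      rw [pi_eq_counit R A e N π hfac hπe a haE, ha0, map_zero]
    · rw [Ideal.span_le, Set.singleton_subset_iff]
      apply Ideal.subset_span
      refine ⟨𝐄.sub_mem 𝐄.one_mem hmemE, ?_⟩
      rw [map_sub, ← Bialgebra.counitAlgHom_apply, ← Bialgebra.counitAlgHom_apply, map_one, hε,
        sub_self]

end Main

end Groth.Agent.Helper22.ConnEt
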