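import Mathlib
import Groth.Prelude.Def_SGA3
import Groth.Agent.Lib.Helper22.ConnEt5

/-!
# The connected-étale sequence for the concrete quotient `A/(1-e)` (helper22)
-/

set_option autoImplicit false
universe u v w

open TensorProduct

namespace Groth.Agent.Helper22.ConnEt

section Quot

variable (R : Type u) [CommRing R] (A : Type u) [CommRing A] [HopfAlgebra R A] (e : A)

theorem kill_of_e {C : Type*} [CommRing C] [Algebra R C] (h : A →ₐ[R] C) (he1 : h e = 1) :
    ∀ a ∈ Ideal.span ({1 - e} : Set A), h a = 0 := by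
  intro a ha
  obtain ⟨c, rfl⟩ := Ideal.mem_span_singleton'.mp ha
  rw [map_mul, map_sub, map_one, he1, sub_self, mul_zero]

theorem pi_e : (Ideal.Quotient.mkₐ R (Ideal.span ({1 - e} : Set A))) e = 1 := by
  have h : (Ideal.Quotient.mkₐ R (Ideal.span ({1 - e} : Set A))) (1 - e) = 0 := by
    rw [Ideal.Quotient.mkₐ_eq_mk]
    exact Ideal.Quotient.eq_zero_iff_mem.mpr (Ideal.subset_span rfl)
  rw [map_sub, map_one, sub_eq_zero] at h
  exact h.symm

theorem fac_quot : Fac R A e (A ⧸ Ideal.span ({1 - e} : Set A))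
    (Ideal.Quotient.mkₐ R (Ideal.span ({1 - e} : Set A))) :=
  fun _ _ _ h he1 => ⟨Ideal.Quotient.liftₐ (Ideal.span ({1 - e} : Set A)) h (kill_of_e R A e h he1),
    Ideal.Quotient.liftₐ_comp (Ideal.span ({1 - e} : Set A)) h (kill_of_e R A e h he1)⟩

theorem ker_quot (a : A) (ha : (Ideal.Quotient.mkₐ R (Ideal.span ({1 - e} : Set A))) a = 0) :
    a ∈ Ideal.span ({1 - e} : Set A) := by
  rw [Ideal.Quotient.mkₐ_eq_mk] at ha
  exact Ideal.Quotient.eq_zero_iff_mem.mp ha

/-- `(1 - e)` is a Hopf ideal. -/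
theorem isHopfIdeal [Module.Finite R A] (he : IsIdempotentElem e)
    (hε : Bialgebra.counitAlgHom R A e = 1) [IsLocalRing (A ⧸ Ideal.span ({1 - e} : Set A))] :
    (Ideal.span ({1 - e} : Set A)).IsHopfIdeal R := by
  have hεN : ∀ a, (Ideal.Quotient.liftₐ (Ideal.span ({1 - e} : Set A)) (Bialgebra.counitAlgHom R A)
      (kill_of_e R A e (Bialgebra.counitAlgHom R A) hε))
      ((Ideal.Quotient.mkₐ R (Ideal.span ({1 - e} : Set A))) a) =
      CoalgebraStruct.counit (R := R) a := by
    intro a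
    have h := AlgHom.congr_fun (Ideal.Quotient.liftₐ_comp (Ideal.span ({1 - e} : Set A))
      (Bialgebra.counitAlgHom R A) (kill_of_e R A e (Bialgebra.counitAlgHom R A) hε)) a
    rw [AlgHom.comp_apply, Bialgebra.counitAlgHom_apply] at h
    exact h
  have hΦ := map_pi_pi_e R A e (A ⧸ Ideal.span ({1 - e} : Set A))
    (Ideal.Quotient.mkₐ R (Ideal.span ({1 - e} : Set A))) _ (pi_e R A e) hεN he
  have hS := pi_antipode_e R A e (A ⧸ Ideal.span ({1 - e} : Set A))
    (Ideal.Quotient.mkₐ R (Ideal.span ({1 - e} : Set A))) _ hεN he hε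
  haveI hco : (Submodule.restrictScalars R (Ideal.span ({1 - e} : Set A))).IsCoideal := by
    refine ⟨?_, ?_⟩
    · intro x hx
      have h := kill_of_e R A e (Bialgebra.counitAlgHom R A) hε x hx
      rwa [Bialgebra.counitAlgHom_apply] at h
    · intro x hx
      exact kill_of_e R A e _ hΦ x hx
  refine ⟨?_⟩
  intro x hx
  have h2 : ((Ideal.Quotient.mkₐ R (Ideal.span ({1 - e} : Set A))).comp
      (HopfAlgebra.antipodeAlgHom R A)) e = 1 := by
    rw [AlgHom.comp_apply, HopfAlgebra.antipodeAlgHom_apply]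
    exact hS
  have h3 := kill_of_e R A e _ h2 x hx
  rw [AlgHom.comp_apply, HopfAlgebra.antipodeAlgHom_apply, Ideal.Quotient.mkₐ_eq_mk] at h3
  exact Ideal.Quotient.eq_zero_iff_mem.mp h3

end Quot

end Groth.Agent.Helper22.ConnEt
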