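import Groth.Prelude.Def_W4c2conddiscmodels
import Mathlib

/-!
# Multiplicity matrices of multigraphs and contraction of edges (general facts)
-/

set_option autoImplicit false
namespace Groth.Agent.Helper22.Ctr
open Finset LabGraph DualGr
universe u
variable {V E : Type u} [Fintype V] [Fintype E] [DecidableEq V] [DecidableEq E]

theorem edgeMult_comm (ends : E → V × V) (v w : V) : edgeMult ends v w = edgeMult ends w v := by
  unfold edgeMult
  congr 1
  ext e
  simp only [mem_filter, mem_univ, true_and]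
  exact or_comm

theorem mfMatrix_off (ends : E → V × V) (β : V → ℤ) {v w : V} (h : v ≠ w) :
    mfMatrix ends β v w = (edgeMult ends v w : ℤ) := if_neg h

theorem mfMatrix_diag_mul (ends : E → V × V) (β : V → ℤ) (hβ : IsMultFn ends β) (v : V) :
    mfMatrix ends β v v * β v = -(∑ u ∈ univ.erase v, β u * (edgeMult ends v u : ℤ)) := by
  unfold mfMatrix
  rw [if_pos rfl]
  exact Int.ediv_mul_cancel ((dvd_neg).mpr (hβ v).2)

theorem mulVec_apply' (ends : E → V × V) (β : V → ℤ) (y : V → ℤ) (v : V) :
    (mfMatrix ends β).mulVec y v =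
      mfMatrix ends β v v * y v + ∑ w ∈ univ.erase v, (edgeMult ends v w : ℤ) * y w := by
  rw [Matrix.mulVec, dotProduct, ← Finset.add_sum_erase _ _ (mem_univ v)]
  congr 1
  refine sum_congr rfl fun w hw => ?_
  rw [mfMatrix_off _ _ (ne_of_mem_erase hw).symm]

theorem mfMatrix_symm (ends : E → V × V) (β : V → ℤ) (v w : V) (h : v ≠ w) :
    mfMatrix ends β v w = mfMatrix ends β w v := by
  rw [mfMatrix_off _ _ h, mfMatrix_off _ _ h.symm, edgeMult_comm]

theorem row_sum (ends : E → V × V) (β : V → ℤ) (hβ : IsMultFn ends β) (v : V) :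
    ∑ w, mfMatrix ends β v w * β w = 0 := by
  have := mulVec_apply' ends β β v
  rw [Matrix.mulVec, dotProduct] at this
  rw [this, mfMatrix_diag_mul ends β hβ, neg_add_eq_zero]
  exact sum_congr rfl fun w _ => mul_comm _ _

theorem betaHom_apply (β x : V → ℤ) : betaHom β x = ∑ v, x v * β v := by
  simp [betaHom, Fintype.linearCombination_apply]

theorem betaHom_mulVec (ends : E → V × V) (β : V → ℤ) (hβ : IsMultFn ends β) (y : V → ℤ) :
    betaHom β ((mfMatrix ends β).mulVec y) = 0 := by
  rw [betaHom_apply]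
  simp only [Matrix.mulVec, dotProduct, Finset.sum_mul]
  rw [Finset.sum_comm]
  refine Finset.sum_eq_zero fun w _ => ?_
  have : ∑ v, mfMatrix ends β v w * y w * β v = y w * ∑ v, mfMatrix ends β w v * β v := by
    rw [Finset.mul_sum]
    refine sum_congr rfl fun v _ => ?_
    by_cases h : v = w
    · subst h; ring
    · rw [mfMatrix_symm _ _ _ _ h]; ring
  rw [this, row_sum ends β hβ, mul_zero]

section Contract
variable (ends : E → V × V) (D : Finset E)

/-- fibre of a class -/
noncomputable def fib (c : CtrVert ends D) : Finset V := univ.filter fun v => ctrMk ends D v = c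

theorem mem_fib {c : CtrVert ends D} {v : V} : v ∈ fib ends D c ↔ ctrMk ends D v = c := by
  simp [fib]

theorem edgeMult_ctr {c c' : CtrVert ends D} (h : c ≠ c') :
    edgeMult (ctrEnds ends D) c c' =
      ∑ v ∈ fib ends D c, ∑ w ∈ fib ends D c', edgeMult ends v w := by
  classical
  set s : Finset E := univ.filter fun e =>
    (ctrMk ends D (ends e).1 = c ∧ ctrMk ends D (ends e).2 = c') ∨
      (ctrMk ends D (ends e).1 = c' ∧ ctrMk ends D (ends e).2 = c) with hs
  have h1 : edgeMult (ctrEnds ends D) c c' = s.card := by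
    unfold edgeMult
    rw [← Finset.card_map ⟨Subtype.val, Subtype.val_injective⟩]
    congr 1
    ext e
    simp only [mem_map, mem_filter, mem_univ, true_and, Function.Embedding.coeFn_mk, hs, ctrEnds,
      Prod.mk.injEq]
    constructor
    · rintro ⟨e', he', rfl⟩
      exact he'
    · intro he
      have hD : e ∉ D := by
        intro heD
        have := ctrMk_fst_eq_ctrMk_snd ends D heD
        rcases he with ⟨h1, h2⟩ | ⟨h1, h2⟩
        · exact h (by rw [← h1, ← h2, this])
        · exact h (by rw [← h1, ← h2, this])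
      exact ⟨⟨e, hD⟩, he, rfl⟩
  rw [h1]
  set fpair : E → V × V := fun e =>
    if ctrMk ends D (ends e).1 = c then ends e else ((ends e).2, (ends e).1) with hfp
  have hmaps : ∀ e ∈ s, fpair e ∈ fib ends D c ×ˢ fib ends D c' := by
    intro e he
    rw [hs, mem_filter] at he
    rcases he.2 with ⟨h1, h2⟩ | ⟨h1, h2⟩
    · simp only [hfp, if_pos h1, mem_product, mem_fib]
      exact ⟨h1, h2⟩
    · have : ¬ ctrMk ends D (ends e).1 = c := by
        rw [h1]; exact fun h' => h h'.symm
      simp only [hfp, if_neg this, mem_product, mem_fib]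
      exact ⟨h2, h1⟩
  rw [Finset.card_eq_sum_card_fiberwise hmaps, Finset.sum_product]
  refine sum_congr rfl fun v hv => sum_congr rfl fun w hw => ?_
  rw [mem_fib] at hv hw
  unfold edgeMult
  congr 1
  ext e
  simp only [mem_filter, mem_univ, true_and, hs, hfp]
  constructor
  · rintro ⟨hp, hf⟩
    by_cases h1 : ctrMk ends D (ends e).1 = c
    · rw [if_pos h1] at hf
      exact Or.inl hf
    · rw [if_neg h1] at hf
      right
      have := Prod.mk.inj hf
      exact Prod.ext this.2 this.1
  · rintro (he | he)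
    · have h1 : ctrMk ends D (ends e).1 = c := by rw [he]; exact hv
      have h2 : ctrMk ends D (ends e).2 = c' := by rw [he]; exact hw
      exact ⟨Or.inl ⟨h1, h2⟩, by rw [if_pos h1]; exact he⟩
    · have h1 : ctrMk ends D (ends e).1 = c' := by rw [he]; exact hw
      have h2 : ctrMk ends D (ends e).2 = c := by rw [he]; exact hv
      have h3 : ¬ ctrMk ends D (ends e).1 = c := by
        rw [h1]; exact fun h' => h h'.symm
      refine ⟨Or.inr ⟨h1, h2⟩, ?_⟩
      rw [if_neg h3, he]

theorem sum_erase_ctr (g : CtrVert ends D → ℤ) (c : CtrVert ends D) :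
    ∑ c' ∈ univ.erase c, g c' * (edgeMult (ctrEnds ends D) c c' : ℤ) =
      ∑ v ∈ fib ends D c, ∑ w ∈ univ.filter (fun w => ctrMk ends D w ≠ c),
        g (ctrMk ends D w) * (edgeMult ends v w : ℤ) := by
  have h1 : ∀ c' ∈ univ.erase c, g c' * (edgeMult (ctrEnds ends D) c c' : ℤ) =
      ∑ v ∈ fib ends D c, ∑ w ∈ fib ends D c', g (ctrMk ends D w) * (edgeMult ends v w : ℤ) := by
    intro c' hc'
    rw [edgeMult_ctr ends D (ne_of_mem_erase hc').symm]
    push_cast
    rw [Finset.mul_sum]
    refine sum_congr rfl fun v _ => ?_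
    rw [Finset.mul_sum]
    refine sum_congr rfl fun w hw => ?_
    rw [(mem_fib ends D).1 hw]
  rw [Finset.sum_congr rfl h1, Finset.sum_comm]
  refine sum_congr rfl fun v _ => ?_
  rw [← Finset.sum_fiberwise_of_maps_to (s := univ.filter (fun w => ctrMk ends D w ≠ c))
    (t := univ.erase c) (g := ctrMk ends D)]
  · refine sum_congr rfl fun c' hc' => ?_
    refine sum_congr ?_ fun _ _ => rfl
    ext w
    simp only [fib, mem_filter, mem_univ, true_and]
    constructor
    · intro hw
      exact ⟨by rw [hw]; exact ne_of_mem_erase hc', hw⟩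
    · exact fun hw => hw.2
  · intro w hw
    rw [mem_filter] at hw
    exact mem_erase.mpr ⟨hw.2, mem_univ _⟩

theorem split_erase {c : CtrVert ends D} {v : V} (hv : ctrMk ends D v = c) (F : V → ℤ) :
    ∑ w ∈ univ.erase v, F w =
      ∑ w ∈ (univ.erase v).filter (fun w => ctrMk ends D w = c), F w +
        ∑ w ∈ univ.filter (fun w => ctrMk ends D w ≠ c), F w := by
  rw [← Finset.sum_filter_add_sum_filter_not (univ.erase v) (fun w => ctrMk ends D w = c)]
  congr 1
  refine sum_congr ?_ fun _ _ => rfl
  ext w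
  simp only [mem_filter, mem_erase, mem_univ, and_true, true_and, ne_eq]
  constructor
  · exact fun h => h.2
  · intro h
    exact ⟨fun hwv => h (by rw [hwv, hv]), h⟩

variable (β : V → ℤ)

theorem ctrFn_mk (hconst : ∀ v w, ctrMk ends D v = ctrMk ends D w → β v = β w) (v : V) :
    ctrFn ends D β (ctrMk ends D v) = β v := by
  unfold ctrFn
  apply hconst
  exact Quotient.out_eq _

theorem isMultFn_ctr (hβ : IsMultFn ends β)
    (hconst : ∀ v w, ctrMk ends D v = ctrMk ends D w → β v = β w) :
    IsMultFn (ctrEnds ends D) (ctrFn ends D β) := by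
  intro c
  obtain ⟨v₀, rfl⟩ := ctrMk_surjective ends D c
  refine ⟨by rw [ctrFn_mk ends D β hconst]; exact (hβ v₀).1, ?_⟩
  rw [sum_erase_ctr]
  refine Finset.dvd_sum fun v hv => ?_
  rw [mem_fib] at hv
  have hbv : ctrFn ends D β (ctrMk ends D v₀) = β v := by
    rw [← hv, ctrFn_mk ends D β hconst]
  rw [hbv]
  have h1 : ∑ w ∈ univ.filter (fun w => ctrMk ends D w ≠ ctrMk ends D v₀),
      ctrFn ends D β (ctrMk ends D w) * (edgeMult ends v w : ℤ) =
      ∑ w ∈ univ.filter (fun w => ctrMk ends D w ≠ ctrMk ends D v₀),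
        β w * (edgeMult ends v w : ℤ) :=
    sum_congr rfl fun w _ => by rw [ctrFn_mk ends D β hconst]
  rw [h1]
  have h2 := (hβ v).2
  rw [split_erase ends D hv] at h2
  refine (dvd_add_right ?_).mp h2
  refine Finset.dvd_sum fun w hw => ?_
  rw [mem_filter] at hw
  rw [hconst w v (by rw [hw.2, hv])]
  exact Dvd.intro _ rfl

theorem mulVec_ctr (hβ : IsMultFn ends β)
    (hconst : ∀ v w, ctrMk ends D v = ctrMk ends D w → β v = β w)
    (y' : CtrVert ends D → ℤ) :
    (mfMatrix (ctrEnds ends D) (ctrFn ends D β)).mulVec y' =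
      pushV ends D ((mfMatrix ends β).mulVec (fun v => y' (ctrMk ends D v))) := by
  funext c
  have hβ' := isMultFn_ctr ends D β hβ hconst
  rw [mulVec_apply']
  show _ = ∑ v ∈ univ.filter (fun v => ctrMk ends D v = c), (mfMatrix ends β).mulVec _ v
  have hoff : ∑ c' ∈ univ.erase c, (edgeMult (ctrEnds ends D) c c' : ℤ) * y' c' =
      ∑ v ∈ fib ends D c, ∑ w ∈ univ.filter (fun w => ctrMk ends D w ≠ c),
        (edgeMult ends v w : ℤ) * y' (ctrMk ends D w) := by
    have := sum_erase_ctr ends D y' c
    rw [Finset.sum_congr rfl (fun c' _ => mul_comm (edgeMult (ctrEnds ends D) c c' : ℤ) (y' c')),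
      this]
    exact sum_congr rfl fun v _ => sum_congr rfl fun w _ => mul_comm _ _
  have hdiag : mfMatrix (ctrEnds ends D) (ctrFn ends D β) c c =
      ∑ v ∈ fib ends D c, (mfMatrix ends β v v +
        ∑ w ∈ (univ.erase v).filter (fun w => ctrMk ends D w = c), (edgeMult ends v w : ℤ)) := by
    have hb : ctrFn ends D β c ≠ 0 := (hβ' c).1.ne'
    apply mul_right_cancel₀ hb
    rw [mfMatrix_diag_mul _ _ hβ', sum_erase_ctr, Finset.sum_mul, ← Finset.sum_neg_distrib]
    refine sum_congr rfl fun v hv => ?_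
    rw [mem_fib] at hv
    have hbv : ctrFn ends D β c = β v := by
      rw [← hv, ctrFn_mk ends D β hconst]
    rw [hbv, add_mul, mfMatrix_diag_mul _ _ hβ, split_erase ends D hv, Finset.sum_mul]
    have h1 : ∑ w ∈ univ.filter (fun w => ctrMk ends D w ≠ c),
        ctrFn ends D β (ctrMk ends D w) * (edgeMult ends v w : ℤ) =
        ∑ w ∈ univ.filter (fun w => ctrMk ends D w ≠ c), β w * (edgeMult ends v w : ℤ) :=
      sum_congr rfl fun w _ => by rw [ctrFn_mk ends D β hconst]
    have h2 : ∑ w ∈ (univ.erase v).filter (fun w => ctrMk ends D w = c),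
        β w * (edgeMult ends v w : ℤ) =
        ∑ w ∈ (univ.erase v).filter (fun w => ctrMk ends D w = c),
          (edgeMult ends v w : ℤ) * β v := by
      refine sum_congr rfl fun w hw => ?_
      rw [mem_filter] at hw
      rw [hconst w v (by rw [hw.2, hv]), mul_comm]
    rw [h1, h2]
    ring
  rw [hdiag, hoff, Finset.sum_mul, ← Finset.sum_add_distrib]
  refine sum_congr rfl fun v hv => ?_
  have hv' : ctrMk ends D v = c := by simpa using hv
  rw [mulVec_apply', split_erase ends D hv', hv']
  have h3 : ∑ w ∈ (univ.erase v).filter (fun w => ctrMk ends D w = c),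
      (edgeMult ends v w : ℤ) * y' (ctrMk ends D w) =
      (∑ w ∈ (univ.erase v).filter (fun w => ctrMk ends D w = c), (edgeMult ends v w : ℤ)) * y' c := by
    rw [Finset.sum_mul]
    refine sum_congr rfl fun w hw => ?_
    rw [mem_filter] at hw
    rw [hw.2]
  rw [h3]
  ring

end Contract

end Groth.Agent.Helper22.Ctr
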