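import Groth.Agent.Lib.Helper22.Ctr1

/-!
# Contraction of a chain of connecting edges
-/

set_option autoImplicit false
namespace Groth.Agent.Helper22.Ctr
open Finset LabGraph DualGr
universe u
variable {V E : Type u} [Fintype V] [Fintype E] [DecidableEq V] [DecidableEq E]

section Chain
variable (ends : E → V × V) {m : ℕ} (f : Fin (m + 1) → V) (e : Fin m → E)

/-- `ℕ`-indexed version of the chain vertices -/
def F (i : ℕ) : V := f ⟨min i m, Nat.lt_succ_of_le (Nat.min_le_right i m)⟩

omit [Fintype V] [DecidableEq V] in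
theorem F_val (i : Fin (m + 1)) : F f i.val = f i := by
  unfold F
  congr 1
  apply Fin.ext
  simp only
  exact Nat.min_eq_left (Nat.lt_succ_iff.mp i.2)

omit [Fintype V] [DecidableEq V] in
theorem F_eq {i : ℕ} (hi : i ≤ m) : F f i = f ⟨i, Nat.lt_succ_of_le hi⟩ := by
  unfold F
  congr 1
  apply Fin.ext
  simp only
  exact Nat.min_eq_left hi

variable {ends f e}
variable (hC : IsChain ends f e)
include hC

omit [Fintype V] [Fintype E] [DecidableEq V] [DecidableEq E] in
theorem F_inj {i j : ℕ} (hi : i ≤ m) (hj : j ≤ m) (h : F f i = F f j) : i = j := by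
  rw [F_eq f hi, F_eq f hj] at h
  have := hC.1 h
  exact Fin.mk.inj this

omit [Fintype V] [Fintype E] [DecidableEq V] [DecidableEq E] in
theorem ends_edge {i : ℕ} (hi : i < m) :
    ends (e ⟨i, hi⟩) = (F f i, F f (i + 1)) ∨ ends (e ⟨i, hi⟩) = (F f (i + 1), F f i) := by
  have := hC.2.2 ⟨i, hi⟩
  have h1 : f (Fin.castSucc ⟨i, hi⟩) = F f i := by
    rw [F_eq f (le_of_lt hi)]; rfl
  have h2 : f (Fin.succ ⟨i, hi⟩) = F f (i + 1) := by
    rw [F_eq f (Nat.succ_le_of_lt hi)]; rfl
  rw [h1, h2] at this
  exact this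

omit [Fintype V] [DecidableEq V] in
theorem rel_range {x y : V} (h : CtrRel ends (univ.image e) x y) :
    x ∈ Set.range f ∧ y ∈ Set.range f := by
  obtain ⟨e', he', hends⟩ := h
  rw [mem_image] at he'
  obtain ⟨i, _, rfl⟩ := he'
  rcases hC.2.2 i with h | h
  · rw [h] at hends
    have := Prod.mk.inj hends
    exact ⟨⟨_, this.1⟩, ⟨_, this.2⟩⟩
  · rw [h] at hends
    have := Prod.mk.inj hends
    exact ⟨⟨_, this.1⟩, ⟨_, this.2⟩⟩

omit [Fintype V] [DecidableEq V] in
theorem eqv_cases {x y : V} (h : Relation.EqvGen (CtrRel ends (univ.image e)) x y) :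
    x = y ∨ (x ∈ Set.range f ∧ y ∈ Set.range f) := by
  induction h with
  | rel x y h => exact Or.inr (rel_range hC h)
  | refl x => exact Or.inl rfl
  | symm x y _ ih =>
    rcases ih with h | h
    · exact Or.inl h.symm
    · exact Or.inr ⟨h.2, h.1⟩
  | trans x y z _ _ ih1 ih2 =>
    rcases ih1 with h1 | h1
    · rw [h1]; exact ih2
    · rcases ih2 with h2 | h2
      · rw [← h2]; exact Or.inr h1
      · exact Or.inr ⟨h1.1, h2.2⟩

omit [Fintype V] [DecidableEq V] in
theorem mk_chain (i : Fin (m + 1)) :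
    ctrMk ends (univ.image e) (f i) = ctrMk ends (univ.image e) (f 0) := by
  induction i using Fin.induction with
  | zero => rfl
  | succ i ih =>
    rw [← ih]
    have hmem : e i ∈ univ.image e := mem_image_of_mem e (mem_univ i)
    have := ctrMk_fst_eq_ctrMk_snd ends (univ.image e) hmem
    rcases hC.2.2 i with h | h
    · rw [h] at this; exact this.symm
    · rw [h] at this; exact this

omit [Fintype V] [DecidableEq V] in
theorem mk_eq_iff {v w : V} :
    ctrMk ends (univ.image e) v = ctrMk ends (univ.image e) w ↔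
      v = w ∨ (v ∈ Set.range f ∧ w ∈ Set.range f) := by
  constructor
  · intro h
    exact eqv_cases hC (Quotient.exact h)
  · rintro (rfl | ⟨⟨i, rfl⟩, ⟨j, rfl⟩⟩)
    · rfl
    · rw [mk_chain hC i, mk_chain hC j]

omit [Fintype V] [DecidableEq V] in
theorem mk_eq_c0_iff {v : V} :
    ctrMk ends (univ.image e) v = ctrMk ends (univ.image e) (f 0) ↔ ∃ i, i ≤ m ∧ F f i = v := by
  rw [mk_eq_iff hC]
  constructor
  · rintro (rfl | ⟨⟨i, rfl⟩, _⟩)
    · exact ⟨0, Nat.zero_le _, by rw [F_eq f (Nat.zero_le _)]; rfl⟩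
    · exact ⟨i.val, Nat.lt_succ_iff.mp i.2, F_val f i⟩
  · rintro ⟨i, hi, rfl⟩
    right
    rw [F_eq f hi]
    exact ⟨⟨_, rfl⟩, ⟨_, rfl⟩⟩

omit [Fintype V] [DecidableEq V] in
theorem mk_F {i : ℕ} (hi : i ≤ m) :
    ctrMk ends (univ.image e) (F f i) = ctrMk ends (univ.image e) (f 0) :=
  (mk_eq_c0_iff hC).2 ⟨i, hi, rfl⟩

omit [Fintype V] [DecidableEq V] in
theorem eq_of_mk_eq_of_off {v w : V}
    (hv : ctrMk ends (univ.image e) v ≠ ctrMk ends (univ.image e) (f 0))
    (h : ctrMk ends (univ.image e) w = ctrMk ends (univ.image e) v) : w = v := by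
  rcases (mk_eq_iff hC).1 h with h1 | ⟨_, ⟨i, rfl⟩⟩
  · exact h1
  · exact absurd (mk_chain hC i) hv

end Chain

section Cut
variable {ends : E → V × V} {m : ℕ} {f : Fin (m + 1) → V} {e : Fin m → E}

omit [Fintype V] [Fintype E] [DecidableEq E] in
/-- crossing criterion for an edge with endpoints `a`, `b` -/
theorem crossing_iff {S : Finset V} {e' : E} {a b : V}
    (h : ends e' = (a, b) ∨ ends e' = (b, a)) :
    ((ends e').1 ∈ S ↔ (ends e').2 ∉ S) ↔ (a ∈ S ↔ b ∉ S) := by
  rcases h with h | h
  · rw [h]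
  · rw [h]
    simp only
    tauto

variable (hC : IsChain ends f e)
include hC

omit [Fintype E] [DecidableEq E] in
theorem exists_cut (hconn : ∀ i, IsConnecting ends (e i)) {i : ℕ} (hi : i < m) :
    ∃ S : Finset V, F f (i + 1) ∈ S ∧
      ∀ e' : E, ((ends e').1 ∈ S ↔ (ends e').2 ∉ S) ↔ e' = e ⟨i, hi⟩ := by
  obtain ⟨S, hS⟩ := hconn ⟨i, hi⟩
  by_cases h : F f (i + 1) ∈ S
  · exact ⟨S, h, hS⟩
  · refine ⟨Sᶜ, mem_compl.mpr h, fun e' => ?_⟩
    rw [← hS e', mem_compl, mem_compl]
    tauto

omit [Fintype V] [Fintype E] [DecidableEq E] in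
theorem cut_side {S : Finset V} {i : ℕ} (hi : i < m) (hmem : F f (i + 1) ∈ S)
    (hS : ∀ e' : E, ((ends e').1 ∈ S ↔ (ends e').2 ∉ S) ↔ e' = e ⟨i, hi⟩) :
    (∀ k, k ≤ i → F f k ∉ S) ∧ (∀ k, i < k → k ≤ m → F f k ∈ S) := by
  have hstep : ∀ k (hk : k < m), k ≠ i → (F f k ∈ S ↔ F f (k + 1) ∈ S) := by
    intro k hk hki
    have h1 : ¬ ((ends (e ⟨k, hk⟩)).1 ∈ S ↔ (ends (e ⟨k, hk⟩)).2 ∉ S) := by
      rw [hS]
      intro h
      exact hki (Fin.mk.inj (hC.2.1 h))
    rw [crossing_iff (ends_edge hC hk)] at h1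
    tauto
  have hi0 : F f i ∉ S := by
    have h1 : ((ends (e ⟨i, hi⟩)).1 ∈ S ↔ (ends (e ⟨i, hi⟩)).2 ∉ S) := (hS _).2 rfl
    rw [crossing_iff (ends_edge hC hi)] at h1
    tauto
  constructor
  · have hdown : ∀ d, d ≤ i → F f (i - d) ∉ S := by
      intro d
      induction d with
      | zero => intro _; exact hi0
      | succ d ih =>
        intro hd
        have h1 := hstep (i - (d + 1)) (by omega) (by omega)
        have h2 : i - (d + 1) + 1 = i - d := by omega
        rw [h2] at h1
        rw [h1]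
        exact ih (by omega)
    intro k hk
    have := hdown (i - k) (by omega)
    have h2 : i - (i - k) = k := by omega
    rwa [h2] at this
  · have hup : ∀ d, i + 1 + d ≤ m → F f (i + 1 + d) ∈ S := by
      intro d
      induction d with
      | zero => intro _; exact hmem
      | succ d ih =>
        intro hd
        have h1 := hstep (i + 1 + d) (by omega) (by omega)
        have h2 : i + 1 + d + 1 = i + 1 + (d + 1) := by omega
        rw [h2] at h1
        rw [← h1]
        exact ih (by omega)
    intro k hk hkm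
    have := hup (k - (i + 1)) (by omega)
    have h2 : i + 1 + (k - (i + 1)) = k := by omega
    rwa [h2] at this

theorem edgeMult_chain_lt (hconn : ∀ i, IsConnecting ends (e i)) {i j : ℕ} (hij : i < j)
    (hj : j ≤ m) : edgeMult ends (F f i) (F f j) = if i + 1 = j then 1 else 0 := by
  have hi : i < m := lt_of_lt_of_le hij hj
  obtain ⟨S, hmem, hS⟩ := exists_cut hC hconn hi
  obtain ⟨hlow, hhigh⟩ := cut_side hC hi hmem hS
  have hFi : F f i ∉ S := hlow i le_rfl
  have hFj : F f j ∈ S := hhigh j hij hj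
  have key : ∀ e', (ends e' = (F f i, F f j) ∨ ends e' = (F f j, F f i)) →
      e' = e ⟨i, hi⟩ ∧ j = i + 1 := by
    intro e' he'
    have hcross : ((ends e').1 ∈ S ↔ (ends e').2 ∉ S) :=
      (crossing_iff he').2 (iff_of_false hFi (not_not.mpr hFj))
    have he := (hS e').1 hcross
    refine ⟨he, ?_⟩
    subst he
    have hne : F f i ≠ F f j := fun h => (ne_of_lt hij) (F_inj hC (le_of_lt hi) hj h)
    rcases ends_edge hC hi with h1 | h1 <;> rcases he' with h2 | h2 <;> rw [h1] at h2 <;>
      have h3 := Prod.mk.inj h2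
    · exact (F_inj hC (Nat.succ_le_of_lt hi) hj h3.2).symm
    · exact absurd h3.1 hne
    · exact absurd h3.2 hne
    · exact (F_inj hC (Nat.succ_le_of_lt hi) hj h3.1).symm
  unfold edgeMult
  split_ifs with h
  · rw [Finset.card_eq_one]
    refine ⟨e ⟨i, hi⟩, ?_⟩
    ext e'
    simp only [mem_filter, mem_univ, true_and, mem_singleton]
    constructor
    · intro he'
      exact (key e' he').1
    · rintro rfl
      rw [← h]
      exact ends_edge hC hi
  · rw [Finset.card_eq_zero]
    ext e'
    simp only [mem_filter, mem_univ, true_and, notMem_empty, iff_false]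
    intro he'
    exact h (key e' he').2.symm

theorem edgeMult_chain (hconn : ∀ i, IsConnecting ends (e i)) {i j : ℕ} (hi : i ≤ m)
    (hj : j ≤ m) (hij : i ≠ j) :
    edgeMult ends (F f i) (F f j) = if i + 1 = j ∨ j + 1 = i then 1 else 0 := by
  rcases lt_or_gt_of_ne hij with h | h
  · rw [edgeMult_chain_lt hC hconn h hj]
    by_cases h1 : i + 1 = j
    · rw [if_pos h1, if_pos (Or.inl h1)]
    · rw [if_neg h1, if_neg (by omega)]
  · rw [edgeMult_comm, edgeMult_chain_lt hC hconn h hi]
    by_cases h1 : j + 1 = i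
    · rw [if_pos h1, if_pos (Or.inr h1)]
    · rw [if_neg h1, if_neg (by omega)]

end Cut

/-- neighbours in the chain -/
def nb (m i : ℕ) : Finset ℕ := (range (m + 1)).filter fun j => i + 1 = j ∨ j + 1 = i

theorem nb_zero {m : ℕ} (hm : 1 ≤ m) : nb m 0 = {1} := by
  ext j; simp [nb]; omega

theorem nb_last {m : ℕ} (hm : 1 ≤ m) : nb m m = {m - 1} := by
  ext j; simp [nb]; omega

theorem nb_mid {m i : ℕ} (h0 : 0 < i) (hi : i < m) : nb m i = {i - 1, i + 1} := by
  ext j; simp [nb]; omega

section Rows
variable {ends : E → V × V} {m : ℕ} {f : Fin (m + 1) → V} {e : Fin m → E}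
variable (hC : IsChain ends f e)
include hC

theorem cut_nbr {S : Finset V} {i : ℕ} (hi : i < m) (hmem : F f (i + 1) ∈ S)
    (hS : ∀ e' : E, ((ends e').1 ∈ S ↔ (ends e').2 ∉ S) ↔ e' = e ⟨i, hi⟩)
    {v w : V} (hμ : edgeMult ends v w ≠ 0) (hv : v ∈ S) (hw : w ∉ S) :
    v = F f (i + 1) ∧ w = F f i := by
  unfold edgeMult at hμ
  rw [Ne, Finset.card_eq_zero, ← Ne, ← Finset.nonempty_iff_ne_empty] at hμ
  obtain ⟨e', he'⟩ := hμ
  rw [mem_filter] at he'
  have hcross : ((ends e').1 ∈ S ↔ (ends e').2 ∉ S) :=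
    (crossing_iff he'.2).2 (iff_of_true hv hw)
  have he := (hS e').1 hcross
  subst he
  obtain ⟨hlow, hhigh⟩ := cut_side hC hi hmem hS
  have hFi := hlow i le_rfl
  rcases ends_edge hC hi with h1 | h1 <;> rcases he'.2 with h2 | h2 <;> rw [h1] at h2 <;>
    have h3 := Prod.mk.inj h2
  · exact absurd (h3.1 ▸ hv) hFi
  · exact ⟨h3.2.symm, h3.1.symm⟩
  · exact ⟨h3.1.symm, h3.2.symm⟩
  · exact absurd (h3.2 ▸ hv) hFi

variable (hconn : ∀ i, IsConnecting ends (e i))
include hconn

theorem chain_sum {i : ℕ} (hi : i ≤ m) (G : V → ℤ) :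
    ∑ w ∈ (univ.erase (F f i)).filter (fun w => ctrMk ends (univ.image e) w =
        ctrMk ends (univ.image e) (f 0)), (edgeMult ends (F f i) w : ℤ) * G w =
      ∑ j ∈ nb m i, G (F f j) := by
  have h1 : (univ.erase (F f i)).filter (fun w => ctrMk ends (univ.image e) w =
      ctrMk ends (univ.image e) (f 0)) = ((range (m + 1)).erase i).image (F f) := by
    ext w
    simp only [mem_filter, mem_erase, mem_univ, and_true, mem_image, mem_range]
    constructor
    · rintro ⟨hne, hw⟩
      obtain ⟨j, hj, rfl⟩ := (mk_eq_c0_iff hC).1 hw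
      exact ⟨j, ⟨fun h => hne (by rw [h]), Nat.lt_succ_of_le hj⟩, rfl⟩
    · rintro ⟨j, ⟨hji, hj⟩, rfl⟩
      exact ⟨fun h => hji (F_inj hC (Nat.lt_succ_iff.mp hj) hi h),
        mk_F hC (Nat.lt_succ_iff.mp hj)⟩
  rw [h1, Finset.sum_image]
  · rw [nb, Finset.sum_filter, ← Finset.sum_erase (range (m + 1)) (a := i)]
    · refine sum_congr rfl fun j hj => ?_
      rw [mem_erase, mem_range] at hj
      rw [edgeMult_chain hC hconn hi (Nat.lt_succ_iff.mp hj.2) hj.1.symm]
      split_ifs <;> simp
    · rw [if_neg (by omega)]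
  · intro j hj k hk h
    have hj' := Finset.mem_coe.mp hj
    have hk' := Finset.mem_coe.mp hk
    rw [mem_erase, mem_range] at hj' hk'
    exact F_inj hC (Nat.lt_succ_iff.mp hj'.2) (Nat.lt_succ_iff.mp hk'.2) h

theorem row_chain (β : V → ℤ) {i : ℕ} (hi : i ≤ m) (u : V → ℤ) :
    (mfMatrix ends β).mulVec u (F f i) =
      mfMatrix ends β (F f i) (F f i) * u (F f i) + ∑ j ∈ nb m i, u (F f j) +
        ∑ w ∈ univ.filter (fun w => ctrMk ends (univ.image e) w ≠
          ctrMk ends (univ.image e) (f 0)), (edgeMult ends (F f i) w : ℤ) * u w := by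
  rw [mulVec_apply', split_erase ends (univ.image e) (mk_F hC hi), chain_sum hC hconn hi]
  ring

theorem off_weight (β : V → ℤ) (hβ : IsMultFn ends β) (hβm : ∀ i, β (f i) = m)
    (hα : ∀ i, mfMatrix ends β (f i) (f i) = -2) {i : ℕ} (hi : i ≤ m) :
    ∑ w ∈ univ.filter (fun w => ctrMk ends (univ.image e) w ≠
        ctrMk ends (univ.image e) (f 0)), β w * (edgeMult ends (F f i) w : ℤ) =
      m * (2 - ((nb m i).card : ℤ)) := by
  have h1 := mfMatrix_diag_mul ends β hβ (F f i)
  rw [split_erase ends (univ.image e) (mk_F hC hi)] at h1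
  have h0 : mfMatrix ends β (F f i) (F f i) * β (F f i) = -2 * m := by
    rw [F_eq f hi, hα, hβm]
  rw [h0] at h1
  have h2 : ∑ w ∈ (univ.erase (F f i)).filter (fun w => ctrMk ends (univ.image e) w =
      ctrMk ends (univ.image e) (f 0)), β w * (edgeMult ends (F f i) w : ℤ) =
      m * ((nb m i).card : ℤ) := by
    rw [Finset.sum_congr rfl (fun w _ => mul_comm (β w) _), chain_sum hC hconn hi β]
    have : ∀ j ∈ nb m i, β (F f j) = (m : ℤ) := by
      intro j hj
      rw [nb, mem_filter, mem_range] at hj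
      rw [F_eq f (Nat.lt_succ_iff.mp hj.1), hβm]
    rw [Finset.sum_congr rfl this, Finset.sum_const, nsmul_eq_mul, mul_comm]
  rw [h2] at h1
  linarith

theorem off_zero (β : V → ℤ) (hβ : IsMultFn ends β) (hβm : ∀ i, β (f i) = m)
    (hα : ∀ i, mfMatrix ends β (f i) (f i) = -2) {i : ℕ} (h0 : 0 < i) (hi : i < m) {w : V}
    (hw : ctrMk ends (univ.image e) w ≠ ctrMk ends (univ.image e) (f 0)) :
    edgeMult ends (F f i) w = 0 := by
  have h1 := off_weight hC hconn β hβ hβm hα (le_of_lt hi)
  rw [nb_mid h0 hi, card_pair (by omega)] at h1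
  have h2 : ∑ w ∈ univ.filter (fun w => ctrMk ends (univ.image e) w ≠
      ctrMk ends (univ.image e) (f 0)), β w * (edgeMult ends (F f i) w : ℤ) = 0 := by
    rw [h1]; push_cast; ring
  have h3 := (Finset.sum_eq_zero_iff_of_nonneg
    (fun w _ => mul_nonneg (hβ w).1.le (Nat.cast_nonneg _))).1 h2 w
      (mem_filter.mpr ⟨mem_univ _, hw⟩)
  have := (mul_eq_zero.mp h3).resolve_left (hβ w).1.ne'
  exact_mod_cast this

end Rows

section K1
variable {ends : E → V × V} {m : ℕ} {f : Fin (m + 1) → V} {e : Fin m → E}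

/-- the potential with `α r = e_{f 0} - e_{f m}` -/
noncomputable def rvec (ends : E → V × V) (f : Fin (m + 1) → V) (e : Fin m → E) (β : V → ℤ) (S : Finset V)
    (v : V) : ℤ :=
  ∑ j ∈ range (m + 1), (if F f j = v then (j : ℤ) else 0) +
    (if ctrMk ends (univ.image e) v ≠ ctrMk ends (univ.image e) (f 0) ∧ v ∈ S then β v else 0)

variable (hC : IsChain ends f e)
include hC

omit [Fintype V] in
theorem rvec_F (β : V → ℤ) (S : Finset V) {i : ℕ} (hi : i ≤ m) :
    rvec ends f e β S (F f i) = i := by
  unfold rvec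
  rw [if_neg (by intro h; exact h.1 (mk_F hC hi)), add_zero]
  rw [Finset.sum_eq_single i]
  · rw [if_pos rfl]
  · intro j hj hji
    rw [if_neg]
    intro h
    exact hji (F_inj hC (Nat.lt_succ_iff.mp (mem_range.mp hj)) hi h)
  · intro h
    exact absurd (mem_range.mpr (Nat.lt_succ_of_le hi)) h

omit [Fintype V] in
theorem rvec_off (β : V → ℤ) (S : Finset V) {v : V}
    (hv : ctrMk ends (univ.image e) v ≠ ctrMk ends (univ.image e) (f 0)) :
    rvec ends f e β S v = if v ∈ S then β v else 0 := by
  unfold rvec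
  rw [Finset.sum_eq_zero, zero_add]
  · by_cases h : v ∈ S
    · rw [if_pos ⟨hv, h⟩, if_pos h]
    · rw [if_neg (fun h' => h h'.2), if_neg h]
  · intro j hj
    rw [if_neg]
    intro h
    apply hv
    rw [← h]
    exact mk_F hC (Nat.lt_succ_iff.mp (mem_range.mp hj))

theorem mulVec_rvec (hconn : ∀ i, IsConnecting ends (e i)) (β : V → ℤ) (hβ : IsMultFn ends β)
    (hβm : ∀ i, β (f i) = m) (hα : ∀ i, mfMatrix ends β (f i) (f i) = -2)
    {S : Finset V} {i : ℕ} (hi : i < m) (him : i + 1 = m) (hmem : F f (i + 1) ∈ S)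
    (hS : ∀ e' : E, ((ends e').1 ∈ S ↔ (ends e').2 ∉ S) ↔ e' = e ⟨i, hi⟩) :
    (mfMatrix ends β).mulVec (rvec ends f e β S) =
      Pi.single (F f 0) 1 - Pi.single (F f m) 1 := by
  classical
  have hm : 1 ≤ m := by omega
  obtain ⟨hlow, hhigh⟩ := cut_side hC hi hmem hS
  have hmem' : F f m ∈ S := by rw [← congrArg (F f) him]; exact hmem
  funext v
  by_cases hv : ctrMk ends (univ.image e) v = ctrMk ends (univ.image e) (f 0)
  · obtain ⟨k, hk, rfl⟩ := (mk_eq_c0_iff hC).1 hv
    rw [row_chain hC hconn β hk, rvec_F hC β S hk]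
    have hdiag : mfMatrix ends β (F f k) (F f k) = -2 := by
      rw [F_eq f hk]; exact hα _
    rw [hdiag]
    have hnbsum : ∑ j ∈ nb m k, rvec ends f e β S (F f j) = ∑ j ∈ nb m k, (j : ℤ) :=
      sum_congr rfl fun j hj => by
        rw [nb, mem_filter, mem_range] at hj
        exact rvec_F hC β S (Nat.lt_succ_iff.mp hj.1)
    rw [hnbsum, Pi.sub_apply]
    rcases Nat.eq_zero_or_pos k with rfl | hk0
    · rw [nb_zero hm, sum_singleton]
      have hoff : ∑ w ∈ univ.filter (fun w => ctrMk ends (univ.image e) w ≠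
          ctrMk ends (univ.image e) (f 0)),
          (edgeMult ends (F f 0) w : ℤ) * rvec ends f e β S w = 0 := by
        refine sum_eq_zero fun w hw => ?_
        rw [mem_filter] at hw
        by_cases hμ : edgeMult ends (F f 0) w = 0
        · rw [hμ]; simp
        · rw [rvec_off hC β S hw.2]
          have hwS : w ∉ S := by
            intro hwS
            have := cut_nbr hC hi hmem hS (v := w) (w := F f 0) (by rwa [edgeMult_comm]) hwS
              (hlow 0 (Nat.zero_le _))
            exact hw.2 (by rw [this.1]; exact mk_F hC (by omega))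
          rw [if_neg hwS, mul_zero]
      have hne : F f 0 ≠ F f m := fun h => by
        have := F_inj hC (Nat.zero_le _) le_rfl h
        omega
      rw [hoff, Pi.single_eq_same, Pi.single_eq_of_ne hne]
      norm_num
    · rcases lt_or_eq_of_le hk with hkm | rfl
      · obtain ⟨k', rfl⟩ : ∃ k', k = k' + 1 := ⟨k - 1, by omega⟩
        rw [nb_mid hk0 hkm, sum_pair (by omega)]
        have hoff : ∑ w ∈ univ.filter (fun w => ctrMk ends (univ.image e) w ≠
            ctrMk ends (univ.image e) (f 0)),
            (edgeMult ends (F f (k' + 1)) w : ℤ) * rvec ends f e β S w = 0 := by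
          refine sum_eq_zero fun w hw => ?_
          rw [off_zero hC hconn β hβ hβm hα hk0 hkm (mem_filter.mp hw).2]
          simp
        have hne0 : F f (k' + 1) ≠ F f 0 := fun h => by
          have := F_inj hC hk (Nat.zero_le _) h
          omega
        have hnem : F f (k' + 1) ≠ F f m := fun h => by
          have := F_inj hC hk le_rfl h
          omega
        rw [hoff, Pi.single_eq_of_ne hne0, Pi.single_eq_of_ne hnem]
        have : k' + 1 - 1 = k' := by omega
        rw [this]
        push_cast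
        ring
      · rw [nb_last hm, sum_singleton]
        have hoff : ∑ w ∈ univ.filter (fun w => ctrMk ends (univ.image e) w ≠
            ctrMk ends (univ.image e) (f 0)),
            (edgeMult ends (F f k) w : ℤ) * rvec ends f e β S w = k := by
          have h1 := off_weight hC hconn β hβ hβm hα (le_refl k)
          rw [nb_last hm, card_singleton] at h1
          have h2 : ∑ w ∈ univ.filter (fun w => ctrMk ends (univ.image e) w ≠
              ctrMk ends (univ.image e) (f 0)),
              (edgeMult ends (F f k) w : ℤ) * rvec ends f e β S w =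
              ∑ w ∈ univ.filter (fun w => ctrMk ends (univ.image e) w ≠
                ctrMk ends (univ.image e) (f 0)), β w * (edgeMult ends (F f k) w : ℤ) := by
            refine sum_congr rfl fun w hw => ?_
            rw [mem_filter] at hw
            by_cases hμ : edgeMult ends (F f k) w = 0
            · rw [hμ]; simp
            · rw [rvec_off hC β S hw.2]
              have hwS : w ∈ S := by
                by_contra hwS
                have := cut_nbr hC hi hmem hS hμ hmem' hwS
                exact hw.2 (by rw [this.2]; exact mk_F hC (by omega))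
              rw [if_pos hwS, mul_comm]
          rw [h2, h1]
          push_cast
          ring
        have hne : F f k ≠ F f 0 := fun h => by
          have := F_inj hC le_rfl (Nat.zero_le _) h
          omega
        rw [hoff, Pi.single_eq_of_ne hne, Pi.single_eq_same]
        have : ((k - 1 : ℕ) : ℤ) = (k : ℤ) - 1 := by
          rw [Nat.cast_sub hm]; simp
        rw [this]
        ring
  · have hne0 : v ≠ F f 0 := fun h => hv (by rw [h]; exact mk_F hC (Nat.zero_le _))
    have hnem : v ≠ F f m := fun h => hv (by rw [h]; exact mk_F hC le_rfl)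
    rw [mulVec_apply', rvec_off hC β S hv, Pi.sub_apply, Pi.single_eq_of_ne hne0,
      Pi.single_eq_of_ne hnem, sub_zero]
    by_cases hvS : v ∈ S
    · rw [if_pos hvS]
      have hterms : ∀ w ∈ univ.erase v, (edgeMult ends v w : ℤ) * rvec ends f e β S w =
          (edgeMult ends v w : ℤ) * β w := by
        intro w hw
        by_cases hμ : edgeMult ends v w = 0
        · rw [hμ]; simp
        · have hwS : w ∈ S := by
            by_contra hwS
            have := cut_nbr hC hi hmem hS hμ hvS hwS
            exact hv (by rw [this.1]; exact mk_F hC (by omega))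
          congr 1
          by_cases hwc : ctrMk ends (univ.image e) w = ctrMk ends (univ.image e) (f 0)
          · obtain ⟨k, hk, rfl⟩ := (mk_eq_c0_iff hC).1 hwc
            have hkm : k = m := by
              by_contra hne
              exact hlow k (by omega) hwS
            rw [rvec_F hC β S hk, hkm, F_eq f le_rfl, hβm]
          · rw [rvec_off hC β S hwc, if_pos hwS]
      rw [sum_congr rfl hterms]
      have h1 := row_sum ends β hβ v
      have h2 := mulVec_apply' ends β β v
      rw [Matrix.mulVec, dotProduct, h1] at h2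
      exact h2.symm
    · rw [if_neg hvS, mul_zero, zero_add]
      refine sum_eq_zero fun w hw => ?_
      by_cases hμ : edgeMult ends v w = 0
      · rw [hμ]; simp
      · have hwS : w ∉ S := by
          intro hwS
          have := cut_nbr hC hi hmem hS (v := w) (w := v) (by rwa [edgeMult_comm]) hwS hvS
          exact hv (by rw [this.2]; exact mk_F hC (by omega))
        by_cases hwc : ctrMk ends (univ.image e) w = ctrMk ends (univ.image e) (f 0)
        · obtain ⟨k, hk, rfl⟩ := (mk_eq_c0_iff hC).1 hwc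
          rcases Nat.eq_zero_or_pos k with rfl | hk0
          · rw [rvec_F hC β S hk]; simp
          · have hkm : k < m := by
              by_contra hne
              have : k = m := by omega
              exact hwS (this ▸ hmem')
            exfalso
            apply hμ
            rw [edgeMult_comm]
            exact off_zero hC hconn β hβ hβm hα hk0 hkm hv
        · rw [rvec_off hC β S hwc, if_neg hwS, mul_zero]

end K1

section PushLift
variable {ends : E → V × V} {m : ℕ} {f : Fin (m + 1) → V} {e : Fin m → E}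

omit [Fintype E] [DecidableEq E] in
theorem pushV_apply (D : Finset E) (φ : V → ℤ) (c : CtrVert ends D) :
    pushV ends D φ c = ∑ x ∈ univ.filter (fun x => ctrMk ends D x = c), φ x := rfl

omit [Fintype E] [DecidableEq E] in
theorem pushV_single (D : Finset E) (v : V) :
    pushV ends D (Pi.single v 1) = Pi.single (ctrMk ends D v) 1 := by
  classical
  funext c
  rw [pushV_apply, Finset.sum_pi_single', Pi.single_apply]
  simp only [mem_filter, mem_univ, true_and]
  by_cases h : ctrMk ends D v = c
  · rw [if_pos h, if_pos h.symm]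
  · rw [if_neg h, if_neg (fun h' => h h'.symm)]

variable (hC : IsChain ends f e)
include hC

theorem pushV_off (φ : V → ℤ) {v : V}
    (hv : ctrMk ends (univ.image e) v ≠ ctrMk ends (univ.image e) (f 0)) :
    pushV ends (univ.image e) φ (ctrMk ends (univ.image e) v) = φ v := by
  rw [pushV_apply]
  have : univ.filter (fun x => ctrMk ends (univ.image e) x = ctrMk ends (univ.image e) v) = {v} := by
    ext w
    simp only [mem_filter, mem_univ, true_and, mem_singleton]
    constructor
    · exact fun h => eq_of_mk_eq_of_off hC hv h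
    · rintro rfl; rfl
  rw [this, sum_singleton]

theorem pushV_c0 (φ : V → ℤ) :
    pushV ends (univ.image e) φ (ctrMk ends (univ.image e) (f 0)) =
      ∑ j ∈ range (m + 1), φ (F f j) := by
  rw [pushV_apply]
  have : univ.filter (fun x => ctrMk ends (univ.image e) x = ctrMk ends (univ.image e) (f 0)) =
      (range (m + 1)).image (F f) := by
    ext w
    simp only [mem_filter, mem_univ, true_and, mem_image, mem_range]
    constructor
    · intro hw
      obtain ⟨j, hj, rfl⟩ := (mk_eq_c0_iff hC).1 hw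
      exact ⟨j, Nat.lt_succ_of_le hj, rfl⟩
    · rintro ⟨j, hj, rfl⟩
      exact mk_F hC (Nat.lt_succ_iff.mp hj)
  rw [this, Finset.sum_image]
  intro j hj k hk h
  have hj' := Finset.mem_coe.mp hj
  have hk' := Finset.mem_coe.mp hk
  rw [mem_range] at hj' hk'
  exact F_inj hC (Nat.lt_succ_iff.mp hj') (Nat.lt_succ_iff.mp hk') h

theorem liftAt_F (x : CtrVert ends (univ.image e) → ℤ) {j : ℕ} (h1 : 1 ≤ j) (hj : j ≤ m) :
    liftAt ends (univ.image e) (f 0) x (F f j) = 0 := by
  unfold liftAt
  rw [if_pos]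
  refine ⟨mk_F hC hj, fun h => ?_⟩
  have h0 : f 0 = F f 0 := by rw [F_eq f (Nat.zero_le _)]; rfl
  rw [h0] at h
  have := F_inj hC hj (Nat.zero_le _) h
  omega

theorem liftAt_zero (x : CtrVert ends (univ.image e) → ℤ) :
    liftAt ends (univ.image e) (f 0) x (F f 0) = x (ctrMk ends (univ.image e) (f 0)) := by
  have h0 : F f 0 = f 0 := by rw [F_eq f (Nat.zero_le _)]; rfl
  unfold liftAt
  rw [h0, if_neg (fun h => h.2 rfl)]

theorem liftAt_off (x : CtrVert ends (univ.image e) → ℤ) {v : V}
    (hv : ctrMk ends (univ.image e) v ≠ ctrMk ends (univ.image e) (f 0)) :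
    liftAt ends (univ.image e) (f 0) x v = x (ctrMk ends (univ.image e) v) := by
  unfold liftAt
  rw [if_neg (fun h => hv h.1)]

/-- `liftAt` of the push-forward, for a vector vanishing on the interior chain vertices -/
theorem liftAt_pushV (u : V → ℤ) (hm : 1 ≤ m) (hu : ∀ j, 0 < j → j < m → u (F f j) = 0) :
    liftAt ends (univ.image e) (f 0) (pushV ends (univ.image e) u) =
      u + u (F f m) • (Pi.single (F f 0) 1 - Pi.single (F f m) 1) := by
  classical
  have hne : F f 0 ≠ F f m := fun h => by
    have := F_inj hC (Nat.zero_le _) le_rfl h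
    omega
  have hsum : ∑ j ∈ range (m + 1), u (F f j) = u (F f 0) + u (F f m) := by
    rw [Finset.sum_range_succ, Finset.sum_range_eq_add_Ico _ (by omega : 0 < m)]
    rw [Finset.sum_eq_zero, add_zero]
    intro j hj
    rw [mem_Ico] at hj
    exact hu j (by omega) hj.2
  funext v
  simp only [Pi.add_apply, Pi.smul_apply, Pi.sub_apply, smul_eq_mul]
  by_cases hv : ctrMk ends (univ.image e) v = ctrMk ends (univ.image e) (f 0)
  · obtain ⟨k, hk, rfl⟩ := (mk_eq_c0_iff hC).1 hv
    rcases Nat.eq_zero_or_pos k with rfl | hk0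
    · rw [liftAt_zero hC, pushV_c0 hC, hsum, Pi.single_eq_same, Pi.single_eq_of_ne hne]
      ring
    · rw [liftAt_F hC _ hk0 hk]
      have hne0 : F f k ≠ F f 0 := fun h => by
        have := F_inj hC hk (Nat.zero_le _) h
        omega
      rcases lt_or_eq_of_le hk with hkm | rfl
      · have hnem : F f k ≠ F f m := fun h => by
          have := F_inj hC hk le_rfl h
          omega
        rw [hu k hk0 hkm, Pi.single_eq_of_ne hne0, Pi.single_eq_of_ne hnem]
        ring
      · rw [Pi.single_eq_of_ne hne0, Pi.single_eq_same]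
        ring
  · have hne0 : v ≠ F f 0 := fun h => hv (by rw [h]; exact mk_F hC (Nat.zero_le _))
    have hnem : v ≠ F f m := fun h => hv (by rw [h]; exact mk_F hC le_rfl)
    rw [liftAt_off hC _ hv, pushV_off hC _ hv, Pi.single_eq_of_ne hne0, Pi.single_eq_of_ne hnem]
    ring

theorem pushV_liftAt (x : CtrVert ends (univ.image e) → ℤ) :
    pushV ends (univ.image e) (liftAt ends (univ.image e) (f 0) x) = x := by
  funext c
  obtain ⟨v, rfl⟩ := ctrMk_surjective ends (univ.image e) c
  by_cases hv : ctrMk ends (univ.image e) v = ctrMk ends (univ.image e) (f 0)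
  · rw [hv, pushV_c0 hC, Finset.sum_eq_single 0]
    · exact liftAt_zero hC x
    · intro j hj hj0
      exact liftAt_F hC x (by omega) (Nat.lt_succ_iff.mp (mem_range.mp hj))
    · intro h
      exact absurd (mem_range.mpr (Nat.succ_pos m)) h
  · rw [pushV_off hC _ hv, liftAt_off hC _ hv]

end PushLift

end Groth.Agent.Helper22.Ctr
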