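import Groth.Agent.Lib.Helper22.Ctr2

/-!
# Contraction of a chain of connecting edges: the map of component groups
-/

set_option autoImplicit false
namespace Groth.Agent.Helper22.Ctr
open Finset LabGraph DualGr
universe u
variable {V E : Type u} [Fintype V] [Fintype E] [DecidableEq V] [DecidableEq E]

section General
variable (ends : E → V × V) (D : Finset E)

omit [Fintype E] [DecidableEq E] in
theorem sum_mul_comp_mk (g : V → ℤ) (h : CtrVert ends D → ℤ) :
    ∑ v, g v * h (ctrMk ends D v) = ∑ c, pushV ends D g c * h c := by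
  rw [← Finset.sum_fiberwise (s := univ) (g := ctrMk ends D)]
  refine sum_congr rfl fun c _ => ?_
  rw [pushV_apply, Finset.sum_mul]
  refine sum_congr rfl fun v hv => ?_
  rw [(mem_filter.mp hv).2]

theorem betaHom_pushV (β : V → ℤ)
    (hconst : ∀ v w, ctrMk ends D v = ctrMk ends D w → β v = β w) (u : V → ℤ) :
    betaHom (ctrFn ends D β) (pushV ends D u) = betaHom β u := by
  rw [betaHom_apply, betaHom_apply, ← sum_mul_comp_mk]
  refine sum_congr rfl fun v _ => ?_
  rw [ctrFn_mk ends D β hconst]

end General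

section S01
variable {ends : E → V × V} {m : ℕ} {f : Fin (m + 1) → V} {e : Fin m → E}
variable (hC : IsChain ends f e)
include hC

theorem hconst_of (β : V → ℤ) (hβm : ∀ i, β (f i) = m) :
    ∀ v w, ctrMk ends (univ.image e) v = ctrMk ends (univ.image e) w → β v = β w := by
  intro v w h
  rcases (mk_eq_iff hC).1 h with rfl | ⟨⟨i, rfl⟩, ⟨j, rfl⟩⟩
  · rfl
  · rw [hβm, hβm]

theorem betaHom_liftAt (β : V → ℤ) (hβm : ∀ i, β (f i) = m)
    (x : CtrVert ends (univ.image e) → ℤ) :
    betaHom β (liftAt ends (univ.image e) (f 0) x) = betaHom (ctrFn ends (univ.image e) β) x := by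
  rw [← betaHom_pushV ends (univ.image e) β (hconst_of hC β hβm), pushV_liftAt hC]

variable (hconn : ∀ i, IsConnecting ends (e i))
include hconn

theorem liftAt_mem_range (β : V → ℤ) (hβ : IsMultFn ends β) (hβm : ∀ i, β (f i) = m)
    (hα : ∀ i, mfMatrix ends β (f i) (f i) = -2)
    (y' : CtrVert ends (univ.image e) → ℤ) :
    ∃ y : V → ℤ, (mfMatrix ends β).mulVec y = liftAt ends (univ.image e) (f 0)
      ((mfMatrix (ctrEnds ends (univ.image e)) (ctrFn ends (univ.image e) β)).mulVec y') := by
  classical
  have hm : 1 ≤ m := by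
    have := (hβ (f 0)).1
    rw [hβm] at this
    exact_mod_cast this
  have hi : m - 1 < m := by omega
  have him : m - 1 + 1 = m := by omega
  obtain ⟨S, hmem, hS⟩ := exists_cut hC hconn hi
  have hr := mulVec_rvec hC hconn β hβ hβm hα hi him hmem hS
  set w : V → ℤ := fun v => y' (ctrMk ends (univ.image e) v) with hw
  set u := (mfMatrix ends β).mulVec w with hu
  have hwF : ∀ k, k ≤ m → w (F f k) = y' (ctrMk ends (univ.image e) (f 0)) := by
    intro k hk
    show y' (ctrMk ends (univ.image e) (F f k)) = _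
    rw [mk_F hC hk]
  have hu0 : ∀ j, 0 < j → j < m → u (F f j) = 0 := by
    intro j h0 hj
    have hdiag : mfMatrix ends β (F f j) (F f j) = -2 := by
      rw [F_eq f (le_of_lt hj)]; exact hα _
    have hoff : ∑ v ∈ univ.filter (fun v => ctrMk ends (univ.image e) v ≠
        ctrMk ends (univ.image e) (f 0)),
        (edgeMult ends (F f j) v : ℤ) * w v = 0 :=
      sum_eq_zero fun v hv => by
        rw [off_zero hC hconn β hβ hβm hα h0 hj (mem_filter.mp hv).2]; simp
    rw [hu, row_chain hC hconn β (le_of_lt hj) w, hdiag, hoff, nb_mid h0 hj, sum_pair (by omega),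
      hwF j (le_of_lt hj), hwF (j - 1) (by omega), hwF (j + 1) (by omega)]
    ring
  rw [mulVec_ctr ends (univ.image e) β hβ (hconst_of hC β hβm) y', liftAt_pushV hC u hm hu0]
  refine ⟨w + u (F f m) • rvec ends f e β S, ?_⟩
  rw [Matrix.mulVec_add, Matrix.mulVec_smul, hr]

theorem exists_kill (β : V → ℤ) (z : V → ℤ) :
    ∀ n, n ≤ m → ∃ y : V → ℤ, ∀ j, m - n < j → j ≤ m →
      (mfMatrix ends β).mulVec y (F f j) = z (F f j) := by
  classical
  intro n
  induction n with
  | zero =>
    intro _
    exact ⟨0, fun j h1 h2 => by omega⟩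
  | succ n ih =>
    intro hn
    obtain ⟨y, hy⟩ := ih (by omega)
    refine ⟨y + (z (F f (m - n)) - (mfMatrix ends β).mulVec y (F f (m - n))) •
      Pi.single (F f (m - n - 1)) 1, ?_⟩
    intro j h1 h2
    rw [Matrix.mulVec_add, Matrix.mulVec_smul, Pi.add_apply, Pi.smul_apply,
      Matrix.mulVec_single_one, Matrix.col_apply, smul_eq_mul]
    have hne : F f j ≠ F f (m - n - 1) := fun h => by
      have := F_inj hC h2 (by omega) h
      omega
    rw [mfMatrix_off _ _ hne, edgeMult_chain hC hconn h2 (by omega) (by omega)]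
    by_cases hj : j = m - n
    · rw [hj, if_pos (Or.inr (by omega))]
      push_cast
      ring
    · rw [if_neg (by omega)]
      push_cast
      rw [mul_zero, add_zero]
      exact hy j (by omega) h2

end S01

end Groth.Agent.Helper22.Ctr
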