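import Mathlib

/-!
# Cyclic covers: floor arithmetic `i ↦ i * α / N`
-/

set_option autoImplicit false

namespace Groth.Agent.Helper22.CycCov

theorem fl_add_N (N α i : ℕ) (hN : 0 < N) : (i + N) * α / N = i * α / N + α := by
  rw [add_mul, Nat.add_mul_div_left _ _ hN]

theorem fl_add_le (N α i j : ℕ) : i * α / N + j * α / N ≤ (i + j) * α / N := by
  rw [add_mul]
  exact Nat.add_div_le_add_div _ _ _

theorem fl_le (N α i : ℕ) (hi : i ≤ N) : i * α / N ≤ α := by
  apply Nat.div_le_of_le_mul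
  exact Nat.mul_le_mul_right α hi

theorem fl_eq (g N' α' i : ℕ) (hg : 0 < g) : i * (g * α') / (g * N') = i * α' / N' := by
  rw [Nat.mul_left_comm i g α', Nat.mul_div_mul_left _ _ hg]

theorem fl_mul (g N' α' l : ℕ) (hg : 0 < g) (hN' : 0 < N') :
    N' * l * (g * α') / (g * N') = α' * l := by
  rw [fl_eq g N' α' (N' * l) hg]
  rw [show N' * l * α' = N' * (α' * l) by ring]
  exact Nat.mul_div_cancel_left _ hN'

theorem exists_of_mod_eq_zero (N' α' i : ℕ) (hcop : Nat.Coprime N' α')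
    (h : (i * α') % N' = 0) : ∃ l, i = N' * l := by
  have hd : N' ∣ i * α' := Nat.dvd_of_mod_eq_zero h
  exact hcop.dvd_of_dvd_mul_right hd

theorem exists_bezout (N' α' : ℕ) (hcop : Nat.Coprime N' α') (h1 : 1 < N') :
    ∃ a b, a < N' ∧ a * α' = b * N' + 1 := by
  obtain ⟨a, ha, hmod⟩ := Nat.exists_mul_mod_eq_one_of_coprime hcop.symm h1
  refine ⟨a, α' * a / N', ha, ?_⟩
  have h := Nat.div_add_mod (α' * a) N'
  rw [hmod] at h
  rw [mul_comm a α', mul_comm (α' * a / N') N']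
  exact h.symm

theorem fl_bezout (N' α' a b : ℕ) (h1 : 1 < N') (hab : a * α' = b * N' + 1) :
    a * α' / N' = b := by
  have h0 : 0 < N' := by omega
  rw [hab, add_comm, Nat.add_mul_div_right _ _ h0, Nat.div_eq_of_lt h1, zero_add]

theorem fl_sub (N' α' a b i : ℕ) (h1 : 1 < N') (hab : a * α' = b * N' + 1) (hai : a ≤ i)
    (hne : (i * α') % N' ≠ 0) : i * α' / N' = b + (i - a) * α' / N' := by
  obtain ⟨j, rfl⟩ : ∃ j, i = a + j := ⟨i - a, by omega⟩
  rw [Nat.add_sub_cancel_left]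
  have h0 : 0 < N' := by omega
  have e1 : (a + j) * α' = (j * α' + 1) + b * N' := by rw [add_mul, hab]; ring
  have hne' : (j * α' + 1) % N' ≠ 0 := by
    rw [e1, Nat.add_mul_mod_self_right] at hne
    exact hne
  have hnd : ¬ N' ∣ j * α' + 1 := by
    rintro ⟨c, hc⟩
    apply hne'
    rw [hc, Nat.mul_mod_right]
  rw [e1, Nat.add_mul_div_right _ _ h0, Nat.succ_div, if_neg hnd]
  omega

theorem exists_gcd_decomp (N α : ℕ) (hN : 0 < N) :
    ∃ g N' α', 0 < g ∧ 0 < N' ∧ N = g * N' ∧ α = g * α' ∧ Nat.Coprime N' α' := by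
  have hg : 0 < Nat.gcd N α := Nat.gcd_pos_of_pos_left α hN
  refine ⟨Nat.gcd N α, N / Nat.gcd N α, α / Nat.gcd N α, hg, ?_, ?_, ?_,
    Nat.coprime_div_gcd_div_gcd hg⟩
  · exact Nat.div_pos (Nat.le_of_dvd hN (Nat.gcd_dvd_left N α)) hg
  · exact (Nat.mul_div_cancel' (Nat.gcd_dvd_left N α)).symm
  · exact (Nat.mul_div_cancel' (Nat.gcd_dvd_right N α)).symm

end Groth.Agent.Helper22.CycCov
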