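import Mathlib
import Groth.Agent.Lib.Helper22.CycCov1

/-!
# Cyclic covers: the subalgebra generated by `T^i / f₁^⌊iα/N⌋` (abstract setting)
-/

set_option autoImplicit false
set_option maxHeartbeats 400000
universe u

namespace Groth.Agent.Helper22.CycCov

open Polynomial

/-- Abstract data of a cyclic cover: a `B`-algebra `K` with elements `T`, `Fi = f₁⁻¹` and
`T ^ N = u * f₁ ^ α`, together with the gcd decomposition `N = g N'`, `α = g α'`. -/
structure Data (B K : Type u) [CommRing B] [CommRing K] [Algebra B K] where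
  N : ℕ
  α : ℕ
  g : ℕ
  N' : ℕ
  α' : ℕ
  hg : 0 < g
  hN' : 0 < N'
  hN : N = g * N'
  hα : α = g * α'
  hcop : Nat.Coprime N' α'
  f₁ : B
  u : B
  ui : B
  hu : u * ui = 1
  T : K
  Fi : K
  hF : algebraMap B K f₁ * Fi = 1
  hT : T ^ N = algebraMap B K u * algebraMap B K f₁ ^ α

namespace Data

variable {B K : Type u} [CommRing B] [CommRing K] [Algebra B K] (D : Data B K)

/-- the generators `T^i / f₁^⌊iα/N⌋` -/
def e (i : ℕ) : K := D.T ^ i * D.Fi ^ (i * D.α / D.N)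

/-- the element `T^N' / f₁^α'`, a `g`-th root of `u` -/
def s : K := D.T ^ D.N' * D.Fi ^ D.α'

theorem hN0 : 0 < D.N := by rw [D.hN]; exact Nat.mul_pos D.hg D.hN'

theorem Fk_pow_mul_Fi_pow (n : ℕ) : algebraMap B K D.f₁ ^ n * D.Fi ^ n = 1 := by
  rw [← mul_pow, D.hF, one_pow]

theorem fl_eq (i : ℕ) : i * D.α / D.N = i * D.α' / D.N' := by
  rw [D.hα, D.hN]; exact CycCov.fl_eq D.g D.N' D.α' i D.hg

theorem e_zero : D.e 0 = 1 := by
  show D.T ^ 0 * D.Fi ^ (0 * D.α / D.N) = 1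
  rw [Nat.zero_mul, Nat.zero_div, pow_zero, pow_zero, one_mul]

theorem e_mul (i j d : ℕ)
    (hd : (i + j) * D.α / D.N = i * D.α / D.N + j * D.α / D.N + d) :
    D.e i * D.e j = algebraMap B K (D.f₁ ^ d) * D.e (i + j) := by
  have h1 : algebraMap B K D.f₁ ^ d * D.Fi ^ d = 1 := D.Fk_pow_mul_Fi_pow d
  show D.T ^ i * D.Fi ^ (i * D.α / D.N) * (D.T ^ j * D.Fi ^ (j * D.α / D.N)) =
    algebraMap B K (D.f₁ ^ d) * (D.T ^ (i + j) * D.Fi ^ ((i + j) * D.α / D.N))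
  rw [hd, map_pow]
  linear_combination (D.T ^ (i + j) * D.Fi ^ (i * D.α / D.N + j * D.α / D.N)) * h1.symm

theorem e_add_N (i : ℕ) : D.e (i + D.N) = algebraMap B K D.u * D.e i := by
  have h1 : algebraMap B K D.f₁ ^ D.α * D.Fi ^ D.α = 1 := D.Fk_pow_mul_Fi_pow D.α
  show D.T ^ (i + D.N) * D.Fi ^ ((i + D.N) * D.α / D.N) =
    algebraMap B K D.u * (D.T ^ i * D.Fi ^ (i * D.α / D.N))
  rw [CycCov.fl_add_N D.N D.α i D.hN0, pow_add, pow_add, D.hT]
  linear_combination (algebraMap B K D.u * D.T ^ i * D.Fi ^ (i * D.α / D.N)) * h1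

/-- the `B`-span of the generators -/
def W : Submodule B K := Submodule.span B (Set.range fun i : Fin D.N => D.e i)

theorem e_mem_W (i : ℕ) : D.e i ∈ D.W := by
  induction i using Nat.strong_induction_on with
  | _ i ih =>
    by_cases hi : i < D.N
    · exact Submodule.subset_span ⟨⟨i, hi⟩, rfl⟩
    · have hi' : i = (i - D.N) + D.N := by omega
      rw [hi', D.e_add_N, ← Algebra.smul_def]
      exact Submodule.smul_mem _ _ (ih _ (by have := D.hN0; omega))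

theorem mul_mem_W {x y : K} (hx : x ∈ D.W) (hy : y ∈ D.W) : x * y ∈ D.W := by
  have hee : ∀ i j : ℕ, D.e i * D.e j ∈ D.W := by
    intro i j
    obtain ⟨d, hd⟩ := Nat.exists_eq_add_of_le (CycCov.fl_add_le D.N D.α i j)
    rw [D.e_mul i j d hd, ← Algebra.smul_def]
    exact Submodule.smul_mem _ _ (D.e_mem_W _)
  have h : Submodule.span B (Set.range fun i : Fin D.N => D.e i) *
      Submodule.span B (Set.range fun i : Fin D.N => D.e i) ≤ D.W := by
    rw [Submodule.span_mul_span, Submodule.span_le]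
    rintro _ ⟨_, ⟨i, rfl⟩, _, ⟨j, rfl⟩, rfl⟩
    exact hee i j
  exact h (Submodule.mul_mem_mul hx hy)

/-- `W` as a subalgebra -/
def WA : Subalgebra B K :=
  Submodule.toSubalgebra D.W (by rw [← D.e_zero]; exact D.e_mem_W 0)
    (fun _ _ hx hy => D.mul_mem_W hx hy)

theorem e_mem (i : ℕ) : D.e i ∈ D.WA := D.e_mem_W i

theorem WA_toSubmodule : Subalgebra.toSubmodule D.WA = D.W :=
  Submodule.toSubalgebra_toSubmodule _ _ _

theorem WA_fg : (Subalgebra.toSubmodule D.WA).FG := by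
  rw [D.WA_toSubmodule]
  exact Submodule.fg_span (Set.finite_range _)

theorem finite_WA : Module.Finite B D.WA := Module.Finite.of_fg D.WA_fg

theorem WA_eq_adjoin : D.WA = Algebra.adjoin B (Set.range fun i : Fin D.N => D.e i) := by
  apply le_antisymm
  · intro x hx
    have hx' : x ∈ Submodule.span B (Set.range fun i : Fin D.N => D.e i) := hx
    exact Algebra.span_le_adjoin B _ hx'
  · exact Algebra.adjoin_le (by rintro _ ⟨i, rfl⟩; exact D.e_mem i)

theorem free_WA (hli : LinearIndependent B (fun i : Fin D.N => D.e i)) :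
    Module.Free B D.WA := by
  haveI : Module.Free B (Submodule.span B (Set.range fun i : Fin D.N => D.e i)) :=
    Module.Free.of_basis (Module.Basis.span hli)
  have h : Submodule.span B (Set.range fun i : Fin D.N => D.e i) =
      Subalgebra.toSubmodule D.WA := D.WA_toSubmodule.symm
  exact Module.Free.of_equiv ((LinearEquiv.ofEq _ _ h).trans (Subalgebra.toSubmoduleEquiv D.WA))

theorem linearIndependent_e [IsDomain B] (hf : D.f₁ ≠ 0)
    (hfree : ∀ c : Fin D.N → B,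
      (∑ i, algebraMap B K (c i) * D.T ^ (i : ℕ)) = 0 → ∀ i, c i = 0) :
    LinearIndependent B (fun i : Fin D.N => D.e i) := by
  rw [Fintype.linearIndependent_iff]
  intro c hc i
  have key : ∀ i : Fin D.N, D.e i * algebraMap B K D.f₁ ^ D.α =
      algebraMap B K (D.f₁ ^ (D.α - (i : ℕ) * D.α / D.N)) * D.T ^ (i : ℕ) := by
    intro i
    have ha : (i : ℕ) * D.α / D.N ≤ D.α := CycCov.fl_le D.N D.α i (le_of_lt i.2)
    have h1 := D.Fk_pow_mul_Fi_pow ((i : ℕ) * D.α / D.N)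
    have h2 : algebraMap B K D.f₁ ^ D.α = algebraMap B K D.f₁ ^ ((i : ℕ) * D.α / D.N) *
        algebraMap B K D.f₁ ^ (D.α - (i : ℕ) * D.α / D.N) := by
      rw [← pow_add, Nat.add_sub_of_le ha]
    show D.T ^ (i : ℕ) * D.Fi ^ ((i : ℕ) * D.α / D.N) * algebraMap B K D.f₁ ^ D.α = _
    rw [h2, map_pow]
    linear_combination
      (D.T ^ (i : ℕ) * algebraMap B K D.f₁ ^ (D.α - (i : ℕ) * D.α / D.N)) * h1
  have hsum : ∑ i : Fin D.N,
      algebraMap B K (c i * D.f₁ ^ (D.α - (i : ℕ) * D.α / D.N)) * D.T ^ (i : ℕ) = 0 := by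
    have h0 : (∑ i : Fin D.N, c i • D.e i) * algebraMap B K D.f₁ ^ D.α = 0 := by
      rw [hc, zero_mul]
    rw [Finset.sum_mul] at h0
    rw [← h0]
    refine Finset.sum_congr rfl fun i _ => ?_
    rw [Algebra.smul_def, mul_assoc, key i, map_mul, mul_assoc]
  have h3 := hfree (fun i => c i * D.f₁ ^ (D.α - (i : ℕ) * D.α / D.N)) hsum i
  rcases mul_eq_zero.mp h3 with h | h
  · exact h
  · exact absurd h (pow_ne_zero _ hf)

/-! ### The root `s` of `u` and the uniformizer `τ` -/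

theorem e_N'_mul (l : ℕ) : D.e (D.N' * l) = D.s ^ l := by
  have h : D.N' * l * D.α / D.N = D.α' * l := by
    rw [D.hα, D.hN]; exact CycCov.fl_mul D.g D.N' D.α' l D.hg D.hN'
  show D.T ^ (D.N' * l) * D.Fi ^ (D.N' * l * D.α / D.N) = (D.T ^ D.N' * D.Fi ^ D.α') ^ l
  rw [h, mul_pow, ← pow_mul, ← pow_mul]

theorem s_mem : D.s ∈ D.WA := by
  have h := D.e_N'_mul 1
  rw [pow_one] at h
  rw [← h]
  exact D.e_mem _

theorem s_pow_g : D.s ^ D.g = algebraMap B K D.u := by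
  have h1 := D.Fk_pow_mul_Fi_pow D.α
  show (D.T ^ D.N' * D.Fi ^ D.α') ^ D.g = _
  rw [mul_pow, ← pow_mul, ← pow_mul, mul_comm D.N' D.g, mul_comm D.α' D.g, ← D.hN, ← D.hα,
    D.hT]
  linear_combination (algebraMap B K D.u) * h1

theorem T_mem : D.T ∈ D.WA := by
  have h : D.T = algebraMap B K (D.f₁ ^ (1 * D.α / D.N)) * D.e 1 := by
    have h1 := D.Fk_pow_mul_Fi_pow (1 * D.α / D.N)
    show D.T = algebraMap B K (D.f₁ ^ (1 * D.α / D.N)) *
      (D.T ^ 1 * D.Fi ^ (1 * D.α / D.N))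
    rw [map_pow, pow_one]
    linear_combination (-D.T) * h1
  rw [h]
  exact mul_mem (Subalgebra.algebraMap_mem _ _) (D.e_mem 1)

theorem tau_pow (a b : ℕ) (h1 : 1 < D.N') (hab : a * D.α' = b * D.N' + 1) :
    D.e a ^ D.N' = algebraMap B K D.f₁ * D.s ^ a := by
  have hfl : a * D.α / D.N = b := by
    rw [D.fl_eq]; exact CycCov.fl_bezout D.N' D.α' a b h1 hab
  have e1 : D.α' * a = b * D.N' + 1 := by rw [mul_comm]; exact hab
  show (D.T ^ a * D.Fi ^ (a * D.α / D.N)) ^ D.N' =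
    algebraMap B K D.f₁ * (D.T ^ D.N' * D.Fi ^ D.α') ^ a
  rw [hfl]
  simp only [mul_pow, ← pow_mul]
  rw [e1]
  linear_combination (-(D.T ^ (a * D.N') * D.Fi ^ (b * D.N'))) * D.hF

theorem e_eq_tau_mul (a b : ℕ) (h1 : 1 < D.N') (ha : a < D.N')
    (hab : a * D.α' = b * D.N' + 1) (i : ℕ) (hi : (i * D.α') % D.N' ≠ 0) :
    D.e i = D.e a * (algebraMap B K D.ui * D.e (i + D.N - a)) := by
  have hNN' : D.N' ≤ D.N := by
    rw [D.hN]
    calc D.N' = 1 * D.N' := (one_mul _).symm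
      _ ≤ D.g * D.N' := Nat.mul_le_mul_right _ D.hg
  have hai : a ≤ i + D.N := by omega
  have hne : ((i + D.N) * D.α') % D.N' ≠ 0 := by
    rw [D.hN, show (i + D.g * D.N') * D.α' = i * D.α' + D.N' * (D.g * D.α') by ring,
      Nat.add_mul_mod_self_left]
    exact hi
  have hfl : (a + (i + D.N - a)) * D.α / D.N =
      a * D.α / D.N + (i + D.N - a) * D.α / D.N + 0 := by
    rw [Nat.add_sub_of_le hai, D.fl_eq (i + D.N), D.fl_eq a, D.fl_eq (i + D.N - a), add_zero,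
      CycCov.fl_bezout D.N' D.α' a b h1 hab]
    exact CycCov.fl_sub D.N' D.α' a b (i + D.N) h1 hab hai hne
  have h2 := D.e_mul a (i + D.N - a) 0 hfl
  rw [Nat.add_sub_of_le hai, pow_zero, map_one, one_mul, D.e_add_N] at h2
  have hu : algebraMap B K D.ui * algebraMap B K D.u = 1 := by
    rw [← map_mul, mul_comm, D.hu, map_one]
  calc D.e i = algebraMap B K D.ui * (algebraMap B K D.u * D.e i) := by
        rw [← mul_assoc, hu, one_mul]
    _ = D.e a * (algebraMap B K D.ui * D.e (i + D.N - a)) := by rw [← h2]; ring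

theorem f_eq_tau_mul (a b : ℕ) (h1 : 1 < D.N') (hab : a * D.α' = b * D.N' + 1) :
    algebraMap B K D.f₁ =
      D.e a * (D.e a ^ (D.N' - 1) * (algebraMap B K D.ui * D.s ^ (D.g - 1)) ^ a) := by
  have hs : D.s * (algebraMap B K D.ui * D.s ^ (D.g - 1)) = 1 := by
    have h0 : D.s * D.s ^ (D.g - 1) = D.s ^ D.g := by
      rw [← pow_succ', Nat.sub_add_cancel D.hg]
    rw [mul_left_comm, h0, D.s_pow_g, ← map_mul, mul_comm, D.hu, map_one]
  have hsa : D.s ^ a * (algebraMap B K D.ui * D.s ^ (D.g - 1)) ^ a = 1 := by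
    rw [← mul_pow, hs, one_pow]
  have ht := D.tau_pow a b h1 hab
  have hN'1 : D.e a * D.e a ^ (D.N' - 1) = D.e a ^ D.N' := by
    rw [← pow_succ', Nat.sub_add_cancel D.hN']
  rw [← mul_assoc (D.e a) (D.e a ^ (D.N' - 1)) _, hN'1, ht, mul_assoc, hsa, mul_one]

theorem exists_tau : ∃ τ ∈ D.WA, (∃ w ∈ D.WA, algebraMap B K D.f₁ = τ * w) ∧
    (∃ m : ℕ, ∃ w ∈ D.WA, τ ^ m = algebraMap B K D.f₁ * w) ∧
    ∀ i : ℕ, (i * D.α') % D.N' ≠ 0 → ∃ y' ∈ D.WA, D.e i = τ * y' := by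
  by_cases h1 : 1 < D.N'
  · obtain ⟨a, b, ha, hab⟩ := CycCov.exists_bezout D.N' D.α' D.hcop h1
    refine ⟨D.e a, D.e_mem a, ⟨_, ?_, D.f_eq_tau_mul a b h1 hab⟩,
      ⟨D.N', D.s ^ a, ?_, D.tau_pow a b h1 hab⟩, ?_⟩
    · exact mul_mem (pow_mem (D.e_mem a) _)
        (pow_mem (mul_mem (Subalgebra.algebraMap_mem _ _) (pow_mem D.s_mem _)) _)
    · exact pow_mem D.s_mem _
    · intro i hi
      exact ⟨_, mul_mem (Subalgebra.algebraMap_mem _ _) (D.e_mem _),
        D.e_eq_tau_mul a b h1 ha hab i hi⟩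
  · have hN1 : D.N' = 1 := by have := D.hN'; omega
    refine ⟨algebraMap B K D.f₁, Subalgebra.algebraMap_mem _ _,
      ⟨1, one_mem _, (mul_one _).symm⟩, ⟨1, 1, one_mem _, by rw [pow_one, mul_one]⟩, ?_⟩
    intro i hi
    exfalso
    apply hi
    rw [hN1]
    exact Nat.mod_one _

theorem claimS (τ : K)
    (hτ : ∀ i : ℕ, (i * D.α') % D.N' ≠ 0 → ∃ y' ∈ D.WA, D.e i = τ * y') :
    ∀ y ∈ D.WA, ∃ p : B[X], ∃ y' ∈ D.WA, y = aeval D.s p + τ * y' := by
  intro y hy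
  have hy' : y ∈ Submodule.span B (Set.range fun i : Fin D.N => D.e i) := hy
  refine Submodule.span_induction
    (p := fun y _ => ∃ p : B[X], ∃ y' ∈ D.WA, y = aeval D.s p + τ * y') ?_ ?_ ?_ ?_ hy'
  · rintro _ ⟨i, rfl⟩
    by_cases hi : ((i : ℕ) * D.α') % D.N' = 0
    · obtain ⟨l, hl⟩ := CycCov.exists_of_mod_eq_zero D.N' D.α' i D.hcop hi
      refine ⟨X ^ l, 0, zero_mem _, ?_⟩
      show D.e (i : ℕ) = _
      rw [hl, D.e_N'_mul, mul_zero, add_zero, map_pow, aeval_X]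
    · obtain ⟨y', hy', h⟩ := hτ i hi
      exact ⟨0, y', hy', by rw [map_zero, zero_add]; exact h⟩
  · exact ⟨0, 0, zero_mem _, by rw [map_zero, mul_zero, add_zero]⟩
  · rintro x y _ _ ⟨p, x', hx', hx⟩ ⟨q, y', hy', hy⟩
    exact ⟨p + q, x' + y', add_mem hx' hy', by rw [hx, hy, map_add, mul_add]; ring⟩
  · rintro c x _ ⟨p, x', hx', hx⟩
    refine ⟨c • p, c • x', Subalgebra.smul_mem _ hx' c, ?_⟩
    rw [hx, smul_add, map_smul, mul_smul_comm]

/-- `s` as an element of the subalgebra -/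
def sA : D.WA := ⟨D.s, D.s_mem⟩

theorem sA_pow_g : D.sA ^ D.g = algebraMap B D.WA D.u :=
  Subtype.ext (show D.s ^ D.g = algebraMap B K D.u from D.s_pow_g)

theorem exists_tau' : ∃ τ : D.WA, (∃ w : D.WA, algebraMap B D.WA D.f₁ = τ * w) ∧
    (∃ (m : ℕ) (w : D.WA), τ ^ m = algebraMap B D.WA D.f₁ * w) ∧
    ∀ y : D.WA, ∃ (p : B[X]) (y' : D.WA), y = aeval D.sA p + τ * y' := by
  obtain ⟨τ, hτ, ⟨w, hw, h1⟩, ⟨m, w', hw', h2⟩, h3⟩ := D.exists_tau
  refine ⟨⟨τ, hτ⟩, ⟨⟨w, hw⟩, Subtype.ext (show algebraMap B K D.f₁ = τ * w from h1)⟩,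
    ⟨m, ⟨w', hw'⟩, Subtype.ext (show τ ^ m = algebraMap B K D.f₁ * w' from h2)⟩, ?_⟩
  intro y
  obtain ⟨p, y', hy', h⟩ := D.claimS τ h3 y.1 y.2
  refine ⟨p, ⟨y', hy'⟩, Subtype.ext ?_⟩
  show (y : K) = ((aeval D.sA p : D.WA) : K) + τ * y'
  rw [Polynomial.aeval_subalgebra_coe]
  exact h

theorem isLocalization_away
    (hspan : ∀ z : K, ∃ (n : ℕ) (p : B[X]), z * algebraMap B K D.f₁ ^ n = aeval D.T p) :
    IsLocalization.Away (algebraMap B D.WA D.f₁) K := by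
  have hcoe : algebraMap D.WA K (algebraMap B D.WA D.f₁) = algebraMap B K D.f₁ := rfl
  refine IsLocalization.Away.mk _ ?_ ?_ ?_
  · rw [hcoe]; exact IsUnit.of_mul_eq_one _ D.hF
  · intro z
    obtain ⟨n, p, hp⟩ := hspan z
    refine ⟨n, aeval (⟨D.T, D.T_mem⟩ : D.WA) p, ?_⟩
    rw [hcoe, hp]
    exact (Polynomial.aeval_subalgebra_coe p D.WA ⟨D.T, D.T_mem⟩).symm
  · intro a b hab
    exact ⟨0, by rw [pow_zero, one_mul, one_mul]; exact Subtype.ext hab⟩

end Data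

end Groth.Agent.Helper22.CycCov
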