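import Mathlib
import Groth.Agent.Lib.Lead.RLR3
import Groth.Agent.Lib.Helper22.WeierReg2

/-!
# Cyclic covers: an abstract regularity theorem for totally ramified finite flat covers
-/

set_option autoImplicit false
set_option maxHeartbeats 800000
universe u

namespace Groth.Agent.Helper22.CycCov

open IsLocalRing

theorem spanFinrank_map_le {R S : Type*} [CommRing R] [CommRing S] (ψ : R →+* S) (I : Ideal R)
    (hI : I.FG) : (I.map ψ).spanFinrank ≤ I.spanFinrank := by
  classical
  obtain ⟨s, hs1, hs2⟩ := Submodule.FG.exists_span_finset_card_eq_spanFinrank hI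
  have h : I.map ψ = Ideal.span (ψ '' (s : Set R)) := by
    rw [← Ideal.map_span]
    congr 1
    exact hs2.symm
  rw [h]
  calc (Ideal.span (ψ '' (s : Set R))).spanFinrank ≤ (ψ '' (s : Set R)).ncard :=
        Submodule.spanFinrank_span_le_ncard_of_finite (s.finite_toSet.image _)
    _ ≤ (s : Set R).ncard := Set.ncard_image_le s.finite_toSet
    _ = s.card := Set.ncard_coe_finset s
    _ = I.spanFinrank := hs1

theorem regular_quotient_of_hD {B : Type u} [CommRing B] (f₁ : B) (P : Ideal B) [P.IsPrime]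
    (hfP : f₁ ∈ P)
    (hD : ∀ (P' : Ideal (B ⧸ Ideal.span ({f₁} : Set B))) [P'.IsPrime],
      IsRegularLocalRing (Localization.AtPrime P')) :
    IsRegularLocalRing
      (Localization.AtPrime P ⧸ Ideal.span {algebraMap B (Localization.AtPrime P) f₁}) := by
  have hle : Ideal.span {f₁} ≤ P := (Ideal.span_singleton_le_iff_mem _).mpr hfP
  have hcomap : (P.map (Ideal.Quotient.mk (Ideal.span ({f₁} : Set B)))).comap
      (Ideal.Quotient.mk (Ideal.span {f₁})) = P := by
    rw [Ideal.comap_map_of_surjective _ Ideal.Quotient.mk_surjective,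
      ← RingHom.ker_eq_comap_bot, Ideal.mk_ker]
    exact sup_eq_left.mpr hle
  haveI hP' : (P.map (Ideal.Quotient.mk (Ideal.span ({f₁} : Set B)))).IsPrime :=
    Ideal.map_isPrime_of_surjective Ideal.Quotient.mk_surjective
      (by rw [Ideal.mk_ker]; exact hle)
  haveI := hD (P.map (Ideal.Quotient.mk (Ideal.span ({f₁} : Set B))))
  have hmap : (Ideal.span {f₁}).map (algebraMap B (Localization.AtPrime P)) =
      Ideal.span {algebraMap B (Localization.AtPrime P) f₁} := by
    rw [Ideal.map_span, Set.image_singleton]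
  have hloc : IsLocalization (Algebra.algebraMapSubmonoid (B ⧸ Ideal.span {f₁}) P.primeCompl)
      (Localization.AtPrime P ⧸ (Ideal.span {f₁}).map (algebraMap B (Localization.AtPrime P))) :=
    inferInstance
  rw [WeierReg2.algebraMapSubmonoid_eq (Ideal.span {f₁}) P
    (P.map (Ideal.Quotient.mk (Ideal.span ({f₁} : Set B)))) hcomap] at hloc
  have e1 : Localization.AtPrime (P.map (Ideal.Quotient.mk (Ideal.span ({f₁} : Set B))))
      ≃ₐ[B ⧸ Ideal.span {f₁}]
      (Localization.AtPrime P ⧸ (Ideal.span {f₁}).map (algebraMap B (Localization.AtPrime P))) :=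
    IsLocalization.algEquiv
      (P.map (Ideal.Quotient.mk (Ideal.span ({f₁} : Set B)))).primeCompl _ _
  have e2 := Ideal.quotEquivOfEq hmap
  exact IsRegularLocalRing.of_ringEquiv (e1.toRingEquiv.trans e2)

theorem regular_of_quotient_map {R S : Type u} [CommRing R] [CommRing S] [IsLocalRing R]
    [IsNoetherianRing R] [IsLocalRing S] [IsNoetherianRing S] (f : R) (τ' : S)
    (hfm : f ∈ maximalIdeal R) (hfreg : f ∈ nonZeroDivisors R)
    [IsRegularLocalRing (R ⧸ Ideal.span {f})] (hτm : τ' ∈ maximalIdeal S)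
    [IsLocalRing (S ⧸ Ideal.span {τ'})]
    (ψ : R ⧸ Ideal.span {f} →+* S ⧸ Ideal.span {τ'})
    (hkey : maximalIdeal (S ⧸ Ideal.span {τ'}) = (maximalIdeal (R ⧸ Ideal.span {f})).map ψ)
    (hdim : ringKrullDim R ≤ ringKrullDim S) : IsRegularLocalRing S := by
  have h1 := Groth.Agent.Lead.RLR.spanFinrank_maximalIdeal_le_quotient_add_one hτm
  have h2 : (maximalIdeal (S ⧸ Ideal.span {τ'})).spanFinrank ≤
      (maximalIdeal (R ⧸ Ideal.span {f})).spanFinrank := by
    rw [hkey]
    exact spanFinrank_map_le ψ _ (Ideal.fg_of_isNoetherianRing _)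
  have h5 : (maximalIdeal S).spanFinrank ≤
      (maximalIdeal (R ⧸ Ideal.span {f})).spanFinrank + 1 := by omega
  apply IsRegularLocalRing.of_spanFinrank_maximalIdeal_le
  refine le_trans ?_ hdim
  rw [← ringKrullDim_quotient_span_singleton_succ_eq_ringKrullDim_of_mem_nonZeroDivisors hfreg hfm,
    ← IsRegularLocalRing.spanFinrank_maximalIdeal]
  exact_mod_cast h5

section RT

variable {B A B₁ : Type u} [CommRing B] [IsDomain B] [IsNoetherianRing B]
  [CommRing A] [Algebra B A] [Module.Finite B A] [Module.Flat B A]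
  [CommRing B₁] [Algebra B B₁] [Algebra.Etale B B₁]

theorem exists_mul_mem_sup (σ : B₁ →ₐ[B] A) (τ : A)
    (hS : ∀ y : A, ∃ (b₀ : B₁) (y' : A), y = σ b₀ + τ * y')
    (Q : Ideal A) [Q.IsPrime] (P : Ideal B) [P.IsPrime] [Q.LiesOver P] (hτQ : τ ∈ Q) :
    ∀ y ∈ Q, ∃ r, r ∉ Q ∧ r * y ∈ P.map (algebraMap B A) ⊔ Ideal.span {τ} := by
  intro y hy
  have hPQ : P = Q.comap (algebraMap B A) := Ideal.LiesOver.over
  obtain ⟨b₀, y', hyy⟩ := hS y
  haveI hq₁ : (Q.comap σ).IsPrime := Ideal.comap_isPrime _ _
  have hb₀ : b₀ ∈ Q.comap σ := by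
    show σ b₀ ∈ Q
    have h : σ b₀ = y - τ * y' := by rw [hyy]; ring
    rw [h]
    exact Q.sub_mem hy (Q.mul_mem_right _ hτQ)
  haveI hLO : (Q.comap σ).LiesOver P := ⟨by
    rw [hPQ]
    ext x
    show algebraMap B A x ∈ Q ↔ σ (algebraMap B B₁ x) ∈ Q
    rw [σ.commutes]⟩
  letI : Algebra (Localization.AtPrime P) (Localization.AtPrime (Q.comap σ)) :=
    Localization.AtPrime.algebraOfLiesOver P (Q.comap σ)
  have hmap := ((Algebra.isUnramifiedAt_iff_map_eq B P (Q.comap σ)).mp inferInstance).2
  have h1 : algebraMap B₁ (Localization.AtPrime (Q.comap σ)) b₀ ∈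
      (P.map (algebraMap B B₁)).map (algebraMap B₁ (Localization.AtPrime (Q.comap σ))) := by
    rw [Ideal.map_map, ← IsScalarTower.algebraMap_eq, hmap,
      ← IsLocalization.AtPrime.map_eq_maximalIdeal (Q.comap σ)
        (Localization.AtPrime (Q.comap σ))]
    exact Ideal.mem_map_of_mem _ hb₀
  rw [IsLocalization.algebraMap_mem_map_algebraMap_iff (Q.comap σ).primeCompl
    (Localization.AtPrime (Q.comap σ))] at h1
  obtain ⟨r₁, hr₁, h2⟩ := h1
  refine ⟨σ r₁, hr₁, ?_⟩
  have h3 : σ (r₁ * b₀) ∈ P.map (algebraMap B A) := by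
    have h4 : (P.map (algebraMap B B₁)).map (σ : B₁ →+* A) = P.map (algebraMap B A) := by
      rw [Ideal.map_map]
      congr 1
      exact σ.comp_algebraMap
    rw [← h4]
    exact Ideal.mem_map_of_mem (σ : B₁ →+* A) h2
  have h5 : σ r₁ * y = σ (r₁ * b₀) + τ * (σ r₁ * y') := by rw [hyy, map_mul]; ring
  rw [h5]
  exact Ideal.add_mem _ (Ideal.mem_sup_left h3)
    (Ideal.mem_sup_right (Ideal.mul_mem_right _ _ (Ideal.mem_span_singleton_self τ)))

theorem regular_of_mem (σ : B₁ →ₐ[B] A)
    (hregB : ∀ (P : Ideal B) [P.IsPrime], IsRegularLocalRing (Localization.AtPrime P))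
    (f₁ : B) (hf₁ : f₁ ≠ 0)
    (hD : ∀ (P : Ideal (B ⧸ Ideal.span ({f₁} : Set B))) [P.IsPrime],
      IsRegularLocalRing (Localization.AtPrime P))
    (τ : A) (hτ1 : ∃ w : A, algebraMap B A f₁ = τ * w)
    (hτ2 : ∃ (m : ℕ) (w : A), τ ^ m = algebraMap B A f₁ * w)
    (hS : ∀ y : A, ∃ (b₀ : B₁) (y' : A), y = σ b₀ + τ * y')
    (Q : Ideal A) [Q.IsPrime] (P : Ideal B) [P.IsPrime] [Q.LiesOver P]
    (hfQ : algebraMap B A f₁ ∈ Q) :
    IsRegularLocalRing (Localization.AtPrime Q) := by
  classical
  haveI : IsNoetherianRing A := IsNoetherianRing.of_finite B A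
  have hPQ : P = Q.comap (algebraMap B A) := Ideal.LiesOver.over
  have hτQ : τ ∈ Q := by
    obtain ⟨m, w, hm⟩ := hτ2
    have h : τ ^ m ∈ Q := by rw [hm]; exact Q.mul_mem_right _ hfQ
    exact Ideal.IsPrime.mem_of_pow_mem inferInstance m h
  have hfP : f₁ ∈ P := by rw [hPQ]; exact hfQ
  have hD4 := exists_mul_mem_sup σ τ hS Q P hτQ
  -- the local ring downstairs
  haveI hRreg : IsRegularLocalRing (Localization.AtPrime P) := hregB P
  haveI : IsDomain (Localization.AtPrime P) := Groth.Agent.Lead.RLR.isDomain _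
  have hfm : algebraMap B (Localization.AtPrime P) f₁ ∈ maximalIdeal (Localization.AtPrime P) := by
    rw [← IsLocalization.AtPrime.map_eq_maximalIdeal P (Localization.AtPrime P)]
    exact Ideal.mem_map_of_mem _ hfP
  have hf0 : algebraMap B (Localization.AtPrime P) f₁ ≠ 0 := by
    intro h0
    have hinj : Function.Injective (algebraMap B (Localization.AtPrime P)) :=
      IsLocalization.injective _ (Ideal.primeCompl_le_nonZeroDivisors P)
    exact hf₁ (hinj (h0.trans (map_zero _).symm))
  have hfreg : algebraMap B (Localization.AtPrime P) f₁ ∈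
      nonZeroDivisors (Localization.AtPrime P) := mem_nonZeroDivisors_of_ne_zero hf0
  haveI hRbar : IsRegularLocalRing (Localization.AtPrime P ⧸
      Ideal.span {algebraMap B (Localization.AtPrime P) f₁}) :=
    regular_quotient_of_hD f₁ P hfP hD
  -- upstairs
  have hτm : algebraMap A (Localization.AtPrime Q) τ ∈ maximalIdeal (Localization.AtPrime Q) := by
    rw [← IsLocalization.AtPrime.map_eq_maximalIdeal Q (Localization.AtPrime Q)]
    exact Ideal.mem_map_of_mem _ hτQ
  haveI hSbar : IsLocalRing (Localization.AtPrime Q ⧸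
      Ideal.span {algebraMap A (Localization.AtPrime Q) τ}) :=
    Groth.Agent.Lead.RLR.isLocalRing_quotient (Groth.Agent.Lead.RLR.span_singleton_ne_top hτm)
  -- the map φ
  obtain ⟨φ, hφ⟩ : ∃ φ : Localization.AtPrime P →+* Localization.AtPrime Q,
      ∀ x : B, φ (algebraMap B (Localization.AtPrime P) x) =
        algebraMap A (Localization.AtPrime Q) (algebraMap B A x) :=
    ⟨Localization.localRingHom P Q (algebraMap B A) hPQ,
      fun x => Localization.localRingHom_to_map P Q (algebraMap B A) hPQ x⟩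
  have hker : ∀ a ∈ Ideal.span {algebraMap B (Localization.AtPrime P) f₁},
      ((Ideal.Quotient.mk (Ideal.span {algebraMap A (Localization.AtPrime Q) τ})).comp φ) a
        = 0 := by
    intro a ha
    obtain ⟨c, rfl⟩ := Ideal.mem_span_singleton'.mp ha
    obtain ⟨w, hw⟩ := hτ1
    show Ideal.Quotient.mk (Ideal.span {algebraMap A (Localization.AtPrime Q) τ})
      (φ (c * algebraMap B (Localization.AtPrime P) f₁)) = 0
    rw [map_mul, hφ, hw, map_mul (algebraMap A (Localization.AtPrime Q)),
      Ideal.Quotient.eq_zero_iff_mem]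
    exact Ideal.mul_mem_left _ _ (Ideal.mul_mem_right _ _ (Ideal.mem_span_singleton_self _))
  obtain ⟨ψ, hψ⟩ : ∃ ψ : (Localization.AtPrime P ⧸
      Ideal.span {algebraMap B (Localization.AtPrime P) f₁}) →+*
      (Localization.AtPrime Q ⧸ Ideal.span {algebraMap A (Localization.AtPrime Q) τ}),
      ∀ x, ψ (Ideal.Quotient.mk _ x) = Ideal.Quotient.mk _ (φ x) :=
    ⟨Ideal.Quotient.lift _ _ hker, fun x => Ideal.Quotient.lift_mk _ _ _⟩
  -- the composite θ : A → S̄
  obtain ⟨θ, hθ⟩ : ∃ θ : A →+* (Localization.AtPrime Q ⧸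
      Ideal.span {algebraMap A (Localization.AtPrime Q) τ}),
      θ = (Ideal.Quotient.mk (Ideal.span {algebraMap A (Localization.AtPrime Q) τ})).comp
        (algebraMap A (Localization.AtPrime Q)) := ⟨_, rfl⟩
  have hθτ : θ τ = 0 := by
    rw [hθ]
    exact Ideal.Quotient.eq_zero_iff_mem.mpr (Ideal.mem_span_singleton_self _)
  have hmS : maximalIdeal (Localization.AtPrime Q ⧸
      Ideal.span {algebraMap A (Localization.AtPrime Q) τ}) = Q.map θ := by
    rw [hθ, ← IsLocalRing.map_maximalIdeal_of_surjective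
      (Ideal.Quotient.mk (Ideal.span {algebraMap A (Localization.AtPrime Q) τ}))
      Ideal.Quotient.mk_surjective,
      ← IsLocalization.AtPrime.map_eq_maximalIdeal Q (Localization.AtPrime Q), Ideal.map_map]
  have hmR : maximalIdeal (Localization.AtPrime P ⧸
      Ideal.span {algebraMap B (Localization.AtPrime P) f₁}) =
      P.map ((Ideal.Quotient.mk (Ideal.span {algebraMap B (Localization.AtPrime P) f₁})).comp
        (algebraMap B (Localization.AtPrime P))) := by
    rw [← IsLocalRing.map_maximalIdeal_of_surjective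
      (Ideal.Quotient.mk (Ideal.span {algebraMap B (Localization.AtPrime P) f₁}))
      Ideal.Quotient.mk_surjective,
      ← IsLocalization.AtPrime.map_eq_maximalIdeal P (Localization.AtPrime P), Ideal.map_map]
  have hψΘ : ψ.comp ((Ideal.Quotient.mk
      (Ideal.span {algebraMap B (Localization.AtPrime P) f₁})).comp
        (algebraMap B (Localization.AtPrime P))) = θ.comp (algebraMap B A) := by
    refine RingHom.ext fun x => ?_
    show ψ (Ideal.Quotient.mk _ (algebraMap B (Localization.AtPrime P) x)) =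
      θ (algebraMap B A x)
    rw [hψ, hφ, hθ]
    rfl
  have hQP : Q.map θ = P.map (θ.comp (algebraMap B A)) := by
    apply le_antisymm
    · rw [Ideal.map_le_iff_le_comap]
      intro y hy
      obtain ⟨r, hr, hry⟩ := hD4 y hy
      have h5 : θ (r * y) ∈ P.map (θ.comp (algebraMap B A)) := by
        have h6 : θ (r * y) ∈ (P.map (algebraMap B A) ⊔ Ideal.span {τ}).map θ :=
          Ideal.mem_map_of_mem _ hry
        have h7 : Ideal.span ({(0 : Localization.AtPrime Q ⧸
            Ideal.span {algebraMap A (Localization.AtPrime Q) τ})} : Set _) = ⊥ :=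
          Ideal.span_singleton_eq_bot.mpr rfl
        rw [Ideal.map_sup, Ideal.map_map, Ideal.map_span, Set.image_singleton, hθτ, h7,
          sup_bot_eq] at h6
        exact h6
      have hu : IsUnit (θ r) := by
        rw [hθ]
        exact (IsLocalization.map_units (Localization.AtPrime Q)
          (⟨r, hr⟩ : Q.primeCompl)).map
          (Ideal.Quotient.mk (Ideal.span {algebraMap A (Localization.AtPrime Q) τ}))
      rw [map_mul] at h5
      exact (Ideal.unit_mul_mem_iff_mem _ hu).mp h5
    · rw [← Ideal.map_map]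
      apply Ideal.map_mono
      rw [hPQ]
      exact Ideal.map_comap_le
  have hkey : maximalIdeal (Localization.AtPrime Q ⧸
      Ideal.span {algebraMap A (Localization.AtPrime Q) τ}) =
      (maximalIdeal (Localization.AtPrime P ⧸
        Ideal.span {algebraMap B (Localization.AtPrime P) f₁})).map ψ := by
    rw [hmS, hmR, Ideal.map_map, hψΘ, hQP]
  -- dimensions
  have hht : P.height ≤ Q.height := by
    rw [Ideal.height_eq_height_add_of_liesOver_of_hasGoingDown P Q]
    exact le_self_add
  have hdim : ringKrullDim (Localization.AtPrime P) ≤ ringKrullDim (Localization.AtPrime Q) := by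
    rw [IsLocalization.AtPrime.ringKrullDim_eq_height P (Localization.AtPrime P),
      IsLocalization.AtPrime.ringKrullDim_eq_height Q (Localization.AtPrime Q)]
    exact WithBot.coe_le_coe.mpr hht
  exact regular_of_quotient_map (algebraMap B (Localization.AtPrime P) f₁)
    (algebraMap A (Localization.AtPrime Q) τ) hfm hfreg hτm ψ hkey hdim

end RT

end Groth.Agent.Helper22.CycCov
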