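import Mathlib

/-!
# Cyclic covers: locally normal rings are integrally closed in their localizations;
regularity passes from a localization `A[1/F]` to `A_Q` for `F ∉ Q`.
-/

set_option autoImplicit false
set_option maxHeartbeats 800000
universe u

namespace Groth.Agent.Helper22.CycCov

theorem mem_range_of_isIntegral {A K : Type u} [CommRing A] [CommRing K] [Algebra A K] (F : A)
    [IsLocalization.Away F K]
    (hN : ∀ (Q : Ideal A) [Q.IsMaximal],
      IsDomain (Localization.AtPrime Q) ∧ IsIntegrallyClosed (Localization.AtPrime Q))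
    (x : K) (hx : IsIntegral A x) : ∃ y : A, algebraMap A K y = x := by
  classical
  by_contra hne
  let I : Ideal A :=
    { carrier := {a | ∃ y : A, algebraMap A K y = algebraMap A K a * x}
      add_mem' := by
        rintro a b ⟨y, hy⟩ ⟨z, hz⟩
        exact ⟨y + z, by rw [map_add, map_add, add_mul, hy, hz]⟩
      zero_mem' := ⟨0, by rw [map_zero, zero_mul]⟩
      smul_mem' := by
        rintro c a ⟨y, hy⟩
        exact ⟨c * y, by rw [smul_eq_mul, map_mul, map_mul, mul_assoc, hy]⟩ }
  have hI1 : (1 : A) ∉ I := by
    rintro ⟨y, hy⟩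
    apply hne
    exact ⟨y, by rw [hy, map_one, one_mul]⟩
  have hItop : I ≠ ⊤ := fun h => hI1 (h ▸ Submodule.mem_top)
  obtain ⟨Q, hQmax, hIQ⟩ := Ideal.exists_le_maximal I hItop
  haveI := hQmax
  obtain ⟨hdom, hic⟩ := hN Q
  haveI := hdom
  haveI := hic
  have hrQ : ∀ r : A, (∃ y : A, algebraMap A K y = algebraMap A K r * x) → r ∈ Q :=
    fun r hr => hIQ hr
  have hFu : IsUnit (algebraMap A K F) := IsLocalization.Away.algebraMap_isUnit F
  by_cases hF0 : algebraMap A (Localization.AtPrime Q) F = 0
  · obtain ⟨⟨r, hr⟩, hrF⟩ :=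
      (IsLocalization.map_eq_zero_iff Q.primeCompl (Localization.AtPrime Q) F).mp hF0
    have h0 : algebraMap A K r = 0 := by
      have h : algebraMap A K r * algebraMap A K F = 0 := by
        rw [← map_mul, show r * F = 0 from hrF, map_zero]
      exact (hFu.mul_left_eq_zero).mp h
    exact hr (hrQ r ⟨0, by rw [map_zero, h0, zero_mul]⟩)
  · have hinjL : Function.Injective (algebraMap (Localization.AtPrime Q)
        (FractionRing (Localization.AtPrime Q))) := IsFractionRing.injective _ _
    have hgF : IsUnit (((algebraMap (Localization.AtPrime Q)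
        (FractionRing (Localization.AtPrime Q))).comp
        (algebraMap A (Localization.AtPrime Q))) F) := by
      rw [isUnit_iff_ne_zero]
      intro h
      exact hF0 (hinjL (h.trans (map_zero _).symm))
    obtain ⟨θ, hθ⟩ : ∃ θ : K →+* FractionRing (Localization.AtPrime Q),
        ∀ a, θ (algebraMap A K a) = algebraMap (Localization.AtPrime Q)
          (FractionRing (Localization.AtPrime Q)) (algebraMap A (Localization.AtPrime Q) a) :=
      ⟨IsLocalization.Away.lift F hgF, fun a => IsLocalization.Away.lift_eq F hgF a⟩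
    have hker : ∀ w : K, θ w = 0 → ∃ r' : A, r' ∉ Q ∧ algebraMap A K r' * w = 0 := by
      intro w hw
      obtain ⟨n, a, ha⟩ := IsLocalization.Away.surj F w
      have h1 : algebraMap (Localization.AtPrime Q) (FractionRing (Localization.AtPrime Q))
          (algebraMap A (Localization.AtPrime Q) a) = 0 := by
        rw [← hθ, ← ha, map_mul, hw, zero_mul]
      have h2 : algebraMap A (Localization.AtPrime Q) a = 0 :=
        hinjL (h1.trans (map_zero _).symm)
      obtain ⟨⟨r', hr'⟩, h3⟩ :=
        (IsLocalization.map_eq_zero_iff Q.primeCompl (Localization.AtPrime Q) a).mp h2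
      refine ⟨r', hr', ?_⟩
      have h4 : algebraMap A K r' * w * algebraMap A K F ^ n = 0 := by
        rw [mul_assoc, ha, ← map_mul, show r' * a = 0 from h3, map_zero]
      exact ((hFu.pow n).mul_left_eq_zero).mp h4
    have hint : IsIntegral (Localization.AtPrime Q) (θ x) :=
      IsIntegral.map_of_comp_eq (algebraMap A (Localization.AtPrime Q)) θ
        (RingHom.ext fun a => (hθ a).symm) hx
    obtain ⟨z, hz⟩ := IsIntegrallyClosed.isIntegral_iff.mp hint
    obtain ⟨⟨c, r⟩, hzr⟩ := IsLocalization.surj Q.primeCompl z
    have hzr' : z * algebraMap A (Localization.AtPrime Q) (r : A) =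
        algebraMap A (Localization.AtPrime Q) c := hzr
    have hw : θ (algebraMap A K (r : A) * x - algebraMap A K c) = 0 := by
      rw [map_sub, map_mul, hθ, hθ, ← hz, ← hzr', map_mul]
      ring
    obtain ⟨r', hr', h5⟩ := hker _ hw
    have h6 : r' * (r : A) ∈ Q := hrQ _ ⟨r' * c, by
      rw [map_mul, map_mul, mul_assoc]
      linear_combination (-1 : K) * h5⟩
    rcases Ideal.IsPrime.mem_or_mem inferInstance h6 with h | h
    · exact hr' h
    · exact r.2 h

theorem regular_of_not_mem {A K : Type u} [CommRing A] [CommRing K] [Algebra A K] (F : A)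
    [IsLocalization.Away F K]
    (hK : ∀ (Q' : Ideal K) [Q'.IsPrime], IsRegularLocalRing (Localization.AtPrime Q'))
    (Q : Ideal A) [Q.IsPrime] (hFQ : F ∉ Q) : IsRegularLocalRing (Localization.AtPrime Q) := by
  have hdisj : Disjoint (Submonoid.powers F : Set A) (Q : Set A) := by
    rw [Set.disjoint_left]
    rintro _ ⟨n, rfl⟩ hn
    exact hFQ (Ideal.IsPrime.mem_of_pow_mem inferInstance n hn)
  haveI hQ'p : (Q.map (algebraMap A K)).IsPrime :=
    IsLocalization.isPrime_of_isPrime_disjoint (Submonoid.powers F) K Q inferInstance hdisj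
  have hcomap : (Q.map (algebraMap A K)).comap (algebraMap A K) = Q :=
    IsLocalization.under_map_of_isPrime_disjoint (Submonoid.powers F) K inferInstance hdisj
  haveI := hK (Q.map (algebraMap A K))
  have hloc : IsLocalization.AtPrime (Localization.AtPrime (Q.map (algebraMap A K)))
      ((Q.map (algebraMap A K)).comap (algebraMap A K)) :=
    IsLocalization.isLocalization_isLocalization_atPrime_isLocalization (Submonoid.powers F)
      (Localization.AtPrime (Q.map (algebraMap A K))) (Q.map (algebraMap A K))
  have hsub : ((Q.map (algebraMap A K)).comap (algebraMap A K)).primeCompl = Q.primeCompl :=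
    Submonoid.ext fun x => by
      show x ∉ (Q.map (algebraMap A K)).comap (algebraMap A K) ↔ x ∉ Q
      rw [hcomap]
  haveI hloc' : IsLocalization Q.primeCompl (Localization.AtPrime (Q.map (algebraMap A K))) := by
    rw [← hsub]; exact hloc
  have e : Localization.AtPrime Q ≃ₐ[A] Localization.AtPrime (Q.map (algebraMap A K)) :=
    IsLocalization.algEquiv Q.primeCompl _ _
  exact IsRegularLocalRing.of_ringEquiv e.symm.toRingEquiv

end Groth.Agent.Helper22.CycCov
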