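import Mathlib
import Groth.Agent.Lib.Helper22.CycCov2
import Groth.Agent.Lib.Helper22.CycCov3
import Groth.Agent.Lib.Helper22.CycCov4
import Groth.Agent.Lib.Helper14.SmoothReg
import Groth.Agent.Lib.Lead.Hom16

/-!
# Cyclic covers: the abstract main theorem
-/

set_option autoImplicit false
set_option maxHeartbeats 800000
universe u

namespace Groth.Agent.Helper22.CycCov

open Polynomial

/-- The standard étale pair `(X^n - u d^m, d)` for `n`, `u` invertible. -/
noncomputable def kummerPair {B : Type u} [CommRing B] (n : ℕ) (hn : 0 < n) (ni : B)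
    (hni : (n : B) * ni = 1) (u ui : B) (hu : u * ui = 1) (d : B) (m : ℕ) :
    StandardEtalePair B where
  f := X ^ n - C (u * d ^ m)
  monic_f := monic_X_pow_sub_C _ hn.ne'
  g := C d
  cond := by
    refine ⟨C (ni * ui) * X, -C ui, m, ?_⟩
    have hX : (X : B[X]) ^ (n - 1) * X = X ^ n := by rw [← pow_succ, Nat.sub_add_cancel hn]
    have h1 : (C (n : B) * C ni : B[X]) = 1 := by rw [← C_mul, hni, C_1]
    have h2 : (C u * C ui : B[X]) = 1 := by rw [← C_mul, hu, C_1]
    rw [derivative_sub, derivative_C, sub_zero, derivative_X_pow, C_mul, C_mul, C_pow]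
    linear_combination (C (n : B) * C ni * C ui) * hX + (C ui * X ^ n) * h1 + (C d ^ m) * h2

theorem main_abstract {B K : Type u} [CommRing B] [IsDomain B] [IsNoetherianRing B]
    [CommRing K] [Algebra B K] [Algebra.Etale B K] (D : Data B K)
    (hregB : ∀ (P : Ideal B) [P.IsPrime], IsRegularLocalRing (Localization.AtPrime P))
    (hf₁ : D.f₁ ≠ 0)
    (hD : ∀ (P : Ideal (B ⧸ Ideal.span ({D.f₁} : Set B))) [P.IsPrime],
      IsRegularLocalRing (Localization.AtPrime P))
    (hgu : IsUnit ((D.g : ℕ) : B))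
    (hfree : ∀ c : Fin D.N → B,
      (∑ i, algebraMap B K (c i) * D.T ^ (i : ℕ)) = 0 → ∀ i, c i = 0)
    (hspan : ∀ z : K, ∃ (n : ℕ) (p : B[X]), z * algebraMap B K D.f₁ ^ n = aeval D.T p) :
    Module.Finite B D.WA ∧ (∀ x : K, IsIntegral B x → x ∈ D.WA) ∧
      ∀ (Q : Ideal D.WA) [Q.IsPrime], IsRegularLocalRing (Localization.AtPrime Q) := by
  haveI hfin : Module.Finite B D.WA := D.finite_WA
  haveI hfree' : Module.Free B D.WA := D.free_WA (D.linearIndependent_e hf₁ hfree)
  haveI hloc : IsLocalization.Away (algebraMap B D.WA D.f₁) K := D.isLocalization_away hspan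
  haveI : IsRegularRing B := isRegularRing_iff.mpr hregB
  have hG3 : ∀ (Q : Ideal D.WA) [Q.IsPrime], IsRegularLocalRing (Localization.AtPrime Q) := by
    intro Q hQ
    by_cases hfQ : algebraMap B D.WA D.f₁ ∈ Q
    · obtain ⟨gi, hgi⟩ := hgu.exists_right_inv
      obtain ⟨τ, hτ1, hτ2, hS⟩ := D.exists_tau'
      obtain ⟨P₁, hP₁f, hP₁g⟩ : ∃ P₁ : StandardEtalePair B,
          P₁.f = X ^ D.g - C D.u ∧ P₁.g = 1 :=
        ⟨kummerPair D.g D.hg gi hgi D.u D.ui D.hu 1 0, by
          show X ^ D.g - C (D.u * 1 ^ 0) = X ^ D.g - C D.u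
          rw [pow_zero, mul_one], by
          show (C (1 : B) : B[X]) = 1
          exact C_1⟩
      have hmap : P₁.HasMap D.sA :=
        ⟨by rw [hP₁f, map_sub, map_pow, aeval_X, aeval_C, D.sA_pow_g, sub_self],
          by rw [hP₁g, map_one]; exact isUnit_one⟩
      obtain ⟨σ, hσX⟩ : ∃ σ : P₁.Ring →ₐ[B] D.WA, σ P₁.X = D.sA :=
        ⟨P₁.lift D.sA hmap, P₁.lift_X _ _⟩
      have hS' : ∀ y : D.WA, ∃ (b₀ : P₁.Ring) (y' : D.WA), y = σ b₀ + τ * y' := by
        intro y
        obtain ⟨p, y', h⟩ := hS y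
        refine ⟨aeval P₁.X p, y', ?_⟩
        rw [← Polynomial.aeval_algHom_apply, hσX]
        exact h
      exact regular_of_mem σ hregB D.f₁ hf₁ hD τ hτ1 hτ2 hS' Q (Q.under B) hfQ
    · exact regular_of_not_mem (algebraMap B D.WA D.f₁)
        (fun Q' _ => Groth.Agent.Helper14.SmoothReg.isRegularLocalRing_of_etale B K Q') Q hfQ
  refine ⟨hfin, ?_, hG3⟩
  intro x hx
  have hx' : IsIntegral D.WA x := hx.tower_top
  obtain ⟨y, hy⟩ := mem_range_of_isIntegral (algebraMap B D.WA D.f₁)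
    (fun Q hQ => by
      haveI := hG3 Q
      exact ⟨Groth.Agent.Lead.RLR.isDomain _,
        Groth.Agent.Lead.Hom.isIntegrallyClosed_of_isRegularLocalRing _⟩) x hx'
  rw [← hy]
  exact y.2

end Groth.Agent.Helper22.CycCov
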