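import Mathlib
import Groth.Agent.Lib.Helper22.CycCov5

/-!
# Cyclic covers: the concrete algebra `B[t]/(t^N - u f₁^α)[1/f₁]`
-/

set_option autoImplicit false
set_option maxHeartbeats 800000
universe u

namespace Groth.Agent.Helper22.CycCov

open Polynomial

section Concrete

variable {B : Type u} [CommRing B] (f : B[X]) (N α : ℕ) (u f₁ : B)

section AbstractK

variable {K : Type u} [CommRing K] [Algebra (AdjoinRoot f) K] [Algebra B K]
  [IsScalarTower B (AdjoinRoot f) K]

theorem algebraMap_mk_eq_aeval (q : B[X]) :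
    algebraMap (AdjoinRoot f) K (AdjoinRoot.mk f q) =
      aeval (algebraMap (AdjoinRoot f) K (AdjoinRoot.root f)) q := by
  rw [Polynomial.aeval_algebraMap_apply, AdjoinRoot.aeval_eq]

theorem hT_concrete (hf : f = X ^ N - C (u * f₁ ^ α)) :
    (algebraMap (AdjoinRoot f) K (AdjoinRoot.root f)) ^ N =
      algebraMap B K u * algebraMap B K f₁ ^ α := by
  have h0 : AdjoinRoot.mk f (X ^ N - C (u * f₁ ^ α)) = 0 := by
    rw [← hf]; exact AdjoinRoot.mk_self
  rw [map_sub, map_pow, AdjoinRoot.mk_X, AdjoinRoot.mk_C, sub_eq_zero] at h0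
  have h1 : (AdjoinRoot.root f) ^ N = algebraMap B (AdjoinRoot f) (u * f₁ ^ α) := h0
  rw [← map_pow, h1, ← IsScalarTower.algebraMap_apply, map_mul, map_pow]

variable [IsLocalization.Away (algebraMap B (AdjoinRoot f) f₁) K]

theorem hF_concrete :
    algebraMap B K f₁ * IsLocalization.Away.invSelf (S := K) (algebraMap B (AdjoinRoot f) f₁) = 1 := by
  rw [IsScalarTower.algebraMap_apply B (AdjoinRoot f) K]
  exact IsLocalization.Away.mul_invSelf _

theorem hspan_concrete (z : K) : ∃ (n : ℕ) (p : B[X]),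
    z * algebraMap B K f₁ ^ n = aeval (algebraMap (AdjoinRoot f) K (AdjoinRoot.root f)) p := by
  obtain ⟨n, a, ha⟩ := IsLocalization.Away.surj (algebraMap B (AdjoinRoot f) f₁) z
  obtain ⟨p, rfl⟩ := AdjoinRoot.mk_surjective a
  refine ⟨n, p, ?_⟩
  rw [IsScalarTower.algebraMap_apply B (AdjoinRoot f) K, ha, algebraMap_mk_eq_aeval]

theorem hfree_concrete [IsDomain B] (hf : f = X ^ N - C (u * f₁ ^ α)) (hN : 0 < N)
    (hf₁ : f₁ ≠ 0) (c : Fin N → B)
    (hc : (∑ i, algebraMap B K (c i) *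
      (algebraMap (AdjoinRoot f) K (AdjoinRoot.root f)) ^ (i : ℕ)) = 0) : ∀ i, c i = 0 := by
  classical
  have hmonic : f.Monic := by rw [hf]; exact monic_X_pow_sub_C _ hN.ne'
  have hdeg : f.degree = N := by rw [hf]; exact degree_X_pow_sub_C hN _
  obtain ⟨p, hp⟩ : ∃ p : B[X], p = ∑ i : Fin N, C (c i) * X ^ (i : ℕ) := ⟨_, rfl⟩
  have hpdeg : p.degree < N := by rw [hp]; exact Polynomial.degree_sum_fin_lt c
  have h1 : algebraMap (AdjoinRoot f) K (AdjoinRoot.mk f p) = 0 := by
    rw [algebraMap_mk_eq_aeval, ← hc, hp, map_sum]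
    refine Finset.sum_congr rfl fun i _ => ?_
    rw [map_mul, map_pow, aeval_C, aeval_X]
  obtain ⟨⟨_, n, rfl⟩, hn⟩ := (IsLocalization.map_eq_zero_iff
    (Submonoid.powers (algebraMap B (AdjoinRoot f) f₁)) K _).mp h1
  have hn' : (algebraMap B (AdjoinRoot f) f₁) ^ n * AdjoinRoot.mk f p = 0 := hn
  have h2 : AdjoinRoot.mk f (C (f₁ ^ n) * p) = 0 := by
    rw [map_mul, AdjoinRoot.mk_C, map_pow]
    exact hn'
  have h3 : C (f₁ ^ n) * p = 0 := by
    by_contra h0
    refine AdjoinRoot.mk_ne_zero_of_degree_lt hmonic h0 ?_ h2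
    rw [hdeg, degree_mul, degree_C (pow_ne_zero n hf₁), zero_add]
    exact hpdeg
  have hp0 : p = 0 := by
    rcases mul_eq_zero.mp h3 with h | h
    · exact absurd (C_eq_zero.mp h) (pow_ne_zero n hf₁)
    · exact h
  intro j
  have hcoef : p.coeff (j : ℕ) = c j := by
    rw [hp, Polynomial.finset_sum_coeff, Finset.sum_eq_single j]
    · rw [Polynomial.coeff_C_mul, Polynomial.coeff_X_pow, if_pos rfl, mul_one]
    · intro i _ hij
      rw [Polynomial.coeff_C_mul, Polynomial.coeff_X_pow, if_neg, mul_zero]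
      intro h
      exact hij (Fin.ext h.symm)
    · intro h
      exact absurd (Finset.mem_univ j) h
  rw [← hcoef, hp0, Polynomial.coeff_zero]

end AbstractK

theorem etale_concrete (hf : f = X ^ N - C (u * f₁ ^ α)) (hN : 0 < N) (Ni : B)
    (hNi : (N : B) * Ni = 1) (ui : B) (hu : u * ui = 1) :
    Algebra.Etale B (Localization.Away (algebraMap B (AdjoinRoot f) f₁)) := by
  subst hf
  have e := (kummerPair N hN Ni hNi u ui hu f₁ α).equivAwayAdjoinRoot
  exact Algebra.Etale.of_equiv e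

/-- The concrete cyclic-cover data. -/
noncomputable def cData (g N' α' : ℕ) (hg : 0 < g) (hN' : 0 < N') (hNe : N = g * N')
    (hαe : α = g * α') (hcop : Nat.Coprime N' α') (ui : B) (hu : u * ui = 1)
    (hf : f = X ^ N - C (u * f₁ ^ α)) :
    Data B (Localization.Away (algebraMap B (AdjoinRoot f) f₁)) where
  N := N
  α := α
  g := g
  N' := N'
  α' := α'
  hg := hg
  hN' := hN'
  hN := hNe
  hα := hαe
  hcop := hcop
  f₁ := f₁
  u := u
  ui := ui
  hu := hu
  T := algebraMap (AdjoinRoot f) _ (AdjoinRoot.root f)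
  Fi := IsLocalization.Away.invSelf (algebraMap B (AdjoinRoot f) f₁)
  hF := hF_concrete f f₁
  hT := hT_concrete f N α u f₁ hf

end Concrete

theorem master (k : Type u) [Field k] (B : Type u) [CommRing B] [IsDomain B] [Algebra k B]
    [Algebra.FiniteType k B]
    (hreg : ∀ (P : Ideal B) [P.IsPrime], IsRegularLocalRing (Localization.AtPrime P))
    (N : ℕ) (hN : 0 < N) (hNk : IsUnit ((N : ℕ) : k)) (u : Bˣ) (α : ℕ) (f₁ : B) (hf₁ : f₁ ≠ 0)
    (hD : ∀ (P : Ideal (B ⧸ Ideal.span ({f₁} : Set B))) [P.IsPrime],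
      IsRegularLocalRing (Localization.AtPrime P))
    (f : B[X]) (hf : f = X ^ N - C ((u : B) * f₁ ^ α))
    (A : Subalgebra B (Localization.Away (algebraMap B (AdjoinRoot f) f₁)))
    (hA : A = Algebra.adjoin B (Set.range fun i : Fin N =>
      algebraMap (AdjoinRoot f) (Localization.Away (algebraMap B (AdjoinRoot f) f₁))
        (AdjoinRoot.root f ^ (i : ℕ)) *
      IsLocalization.Away.invSelf (S := Localization.Away (algebraMap B (AdjoinRoot f) f₁))
        (algebraMap B (AdjoinRoot f) f₁) ^ ((i : ℕ) * α / N))) :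
    Module.Finite B A ∧
      IsIntegralClosure A (AdjoinRoot f) (Localization.Away (algebraMap B (AdjoinRoot f) f₁)) ∧
      ∀ (Q : Ideal A) [Q.IsPrime], IsRegularLocalRing (Localization.AtPrime Q) := by
  classical
  haveI : IsNoetherianRing B := Algebra.FiniteType.isNoetherianRing k B
  obtain ⟨g, N', α', hg, hN', hNe, hαe, hcop⟩ := exists_gcd_decomp N α hN
  have hNB : IsUnit ((N : ℕ) : B) := by
    have h := hNk.map (algebraMap k B)
    rwa [map_natCast] at h
  have hgB : IsUnit ((g : ℕ) : B) := by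
    rw [hNe, Nat.cast_mul] at hNB
    exact isUnit_of_mul_isUnit_left hNB
  obtain ⟨Ni, hNi⟩ := hNB.exists_right_inv
  haveI : Algebra.Etale B (Localization.Away (algebraMap B (AdjoinRoot f) f₁)) :=
    etale_concrete f N α u f₁ hf hN Ni hNi (↑u⁻¹) (Units.mul_inv u)
  have hAD : A = (cData f N α (u : B) f₁ g N' α' hg hN' hNe hαe hcop (↑u⁻¹)
      (Units.mul_inv u) hf).WA := by
    rw [hA, Data.WA_eq_adjoin]
    have e1 : (fun i : Fin N =>
        algebraMap (AdjoinRoot f) (Localization.Away (algebraMap B (AdjoinRoot f) f₁))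
          (AdjoinRoot.root f ^ (i : ℕ)) *
        IsLocalization.Away.invSelf (S := Localization.Away (algebraMap B (AdjoinRoot f) f₁))
          (algebraMap B (AdjoinRoot f) f₁) ^ ((i : ℕ) * α / N)) =
        fun i : Fin N => (cData f N α (u : B) f₁ g N' α' hg hN' hNe hαe hcop (↑u⁻¹)
          (Units.mul_inv u) hf).e i := by
      funext i
      rw [map_pow]
      rfl
    rw [e1]
    rfl
  subst hAD
  obtain ⟨h1, h2, h3⟩ := main_abstract
    (cData f N α (u : B) f₁ g N' α' hg hN' hNe hαe hcop (↑u⁻¹) (Units.mul_inv u) hf)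
    hreg hf₁ hD hgB
    (fun c hc => hfree_concrete f N α (u : B) f₁ hf hN hf₁ c hc)
    (fun z => hspan_concrete f f₁ z)
  have hmonic : f.Monic := by rw [hf]; exact monic_X_pow_sub_C _ hN.ne'
  haveI : Module.Finite B (AdjoinRoot f) := hmonic.finite_adjoinRoot
  refine ⟨h1, ⟨Subtype.val_injective, ?_⟩, h3⟩
  intro x
  constructor
  · intro hx
    have hxB : IsIntegral B x := isIntegral_trans x hx
    exact ⟨⟨x, h2 x hxB⟩, rfl⟩
  · rintro ⟨y, rfl⟩
    have hyB : IsIntegral B (y : Localization.Away (algebraMap B (AdjoinRoot f) f₁)) :=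
      IsIntegral.of_mem_of_fg _ (Data.WA_fg _) _ y.2
    exact hyB.tower_top

end Groth.Agent.Helper22.CycCov
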