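import Mathlib
import Groth.Agent.Lib.Lead.RLR5
import Groth.Agent.Lib.Helper5.PolyR1
import Groth.Agent.Lib.Helper14.RegSmooth
import Groth.Agent.Lib.Helper22.WeierReg2

/-!
# A DVR quasi-section through a smooth point of the special fibre with trivial residue extension
-/

set_option autoImplicit false
universe u

namespace Groth.Agent.Helper22.DVRSec

open IsLocalRing

section

variable (B : Type u) [CommRing B] [IsDomain B] [IsDiscreteValuationRing B]
  (A : Type u) [CommRing A] [Algebra B A] [Algebra.FiniteType B A]
  (p : Ideal A) [p.IsPrime]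

theorem regular [Algebra.IsSmoothAt B p] : IsRegularLocalRing (Localization.AtPrime p) := by
  haveI : Algebra.FinitePresentation B A :=
    Algebra.FinitePresentation.of_finiteType.mp inferInstance
  obtain ⟨f, hf, hsm⟩ := Algebra.IsSmoothAt.exists_notMem_smooth B p
  haveI : IsRegularRing B := inferInstance
  haveI : IsRegularRing (Localization.Away f) :=
    Groth.Agent.Helper14.SmoothReg.isRegularRing_of_smooth B _
  exact Groth.Agent.Helper14.RegSmooth.isRegularLocalRing_of_away p f hf

theorem algebraMap_mem (hp : p.comap (algebraMap B A) = maximalIdeal B) (b : B)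
    (hb : b ∈ maximalIdeal B) :
    algebraMap B (Localization.AtPrime p) b ∈ maximalIdeal (Localization.AtPrime p) := by
  rw [IsScalarTower.algebraMap_apply B A (Localization.AtPrime p),
    IsLocalization.AtPrime.to_map_mem_maximal_iff (Localization.AtPrime p) p]
  rw [← hp] at hb
  exact hb

theorem bridge (b : B) : algebraMap A p.ResidueField (algebraMap B A b)
    = residue (Localization.AtPrime p) (algebraMap B (Localization.AtPrime p) b) := by
  rw [IsScalarTower.algebraMap_apply B A (Localization.AtPrime p),
    IsScalarTower.algebraMap_apply A (Localization.AtPrime p) p.ResidueField]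
  rfl

theorem notMem_sq [Algebra.IsSmoothAt B p] (hp : p.comap (algebraMap B A) = maximalIdeal B)
    (hres : Function.Surjective ((algebraMap A p.ResidueField).comp (algebraMap B A)))
    (π : B) (hπ : Irreducible π) :
    algebraMap B (Localization.AtPrime p) π ∉ maximalIdeal (Localization.AtPrime p) ^ 2 := by
  intro hmem
  have hmB : maximalIdeal B = Ideal.span {π} :=
    (IsDiscreteValuationRing.irreducible_iff_uniformizer π).1 hπ
  have hC : ∀ b : B, algebraMap B (ResidueField (Localization.AtPrime p)) b
      = residue (Localization.AtPrime p) (algebraMap B (Localization.AtPrime p) b) := fun b =>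
    IsScalarTower.algebraMap_apply B (Localization.AtPrime p)
      (ResidueField (Localization.AtPrime p)) b
  have hCm : ∀ b ∈ maximalIdeal B,
      algebraMap B (ResidueField (Localization.AtPrime p)) b = 0 := by
    intro b hb
    rw [hC, residue_eq_zero_iff]
    exact algebraMap_mem B A p hp b hb
  have hCu : ∀ b : B, algebraMap B (ResidueField (Localization.AtPrime p)) b = 0 →
      b ∈ maximalIdeal B := by
    intro b hb
    by_contra hnm
    have hu : IsUnit b := notMem_maximalIdeal.1 hnm
    have hu' := hu.map (algebraMap B (ResidueField (Localization.AtPrime p)))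
    rw [hb] at hu'
    exact not_isUnit_zero hu'
  let g : (B ⧸ maximalIdeal B ^ 2) →ₐ[B] ResidueField (Localization.AtPrime p) :=
    Ideal.Quotient.liftₐ (maximalIdeal B ^ 2) (Algebra.ofId B _)
      (fun a ha => hCm a (Ideal.pow_le_self two_ne_zero ha))
  have hg : ∀ b : B, g (Ideal.Quotient.mk _ b)
      = algebraMap B (ResidueField (Localization.AtPrime p)) b := fun b => rfl
  have hgs : Function.Surjective g := by
    intro c
    obtain ⟨b, hb⟩ := hres c
    refine ⟨Ideal.Quotient.mk _ b, ?_⟩
    rw [hg, hC, ← hb, RingHom.comp_apply, bridge]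
  have hker : RingHom.ker (g : (B ⧸ maximalIdeal B ^ 2) →+* ResidueField (Localization.AtPrime p))
      ≤ (maximalIdeal B).map (Ideal.Quotient.mk (maximalIdeal B ^ 2)) := by
    intro t ht
    obtain ⟨b, rfl⟩ := Ideal.Quotient.mk_surjective t
    have ht' : g (Ideal.Quotient.mk _ b) = 0 := ht
    rw [hg] at ht'
    exact Ideal.mem_map_of_mem _ (hCu b ht')
  have hsq : RingHom.ker (g : (B ⧸ maximalIdeal B ^ 2) →+* ResidueField (Localization.AtPrime p))
      ^ 2 = ⊥ := by
    rw [eq_bot_iff]
    refine le_trans (Ideal.pow_right_mono hker 2) ?_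
    rw [← Ideal.map_pow, Ideal.map_quotient_self]
  have hnil : IsNilpotent (RingHom.ker
      (g : (B ⧸ maximalIdeal B ^ 2) →+* ResidueField (Localization.AtPrime p))) :=
    ⟨2, by rw [Ideal.zero_eq_bot]; exact hsq⟩
  let f : Localization.AtPrime p →ₐ[B] ResidueField (Localization.AtPrime p) :=
    IsScalarTower.toAlgHom B (Localization.AtPrime p) (ResidueField (Localization.AtPrime p))
  have hgh : ∀ s, g (Algebra.FormallySmooth.liftOfSurjective f g hgs hnil s) = f s :=
    Algebra.FormallySmooth.liftOfSurjective_apply f g hgs hnil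
  have hm : ∀ s ∈ maximalIdeal (Localization.AtPrime p),
      Algebra.FormallySmooth.liftOfSurjective f g hgs hnil s ∈ RingHom.ker
        (g : (B ⧸ maximalIdeal B ^ 2) →+* ResidueField (Localization.AtPrime p)) := by
    intro s hs
    rw [RingHom.mem_ker]
    show g (Algebra.FormallySmooth.liftOfSurjective f g hgs hnil s) = 0
    rw [hgh]
    show residue _ s = 0
    exact (residue_eq_zero_iff s).2 hs
  have h2 : ∀ a ∈ maximalIdeal (Localization.AtPrime p),
      ∀ b ∈ maximalIdeal (Localization.AtPrime p),
      ((Algebra.FormallySmooth.liftOfSurjective f g hgs hnil :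
          Localization.AtPrime p →ₐ[B] (B ⧸ maximalIdeal B ^ 2)) :
          Localization.AtPrime p →+* (B ⧸ maximalIdeal B ^ 2)) a
        * ((Algebra.FormallySmooth.liftOfSurjective f g hgs hnil :
          Localization.AtPrime p →ₐ[B] (B ⧸ maximalIdeal B ^ 2)) :
          Localization.AtPrime p →+* (B ⧸ maximalIdeal B ^ 2)) b = 0 := by
    intro a ha b hb
    have hab : Algebra.FormallySmooth.liftOfSurjective f g hgs hnil a
        * Algebra.FormallySmooth.liftOfSurjective f g hgs hnil b ∈ RingHom.ker
        (g : (B ⧸ maximalIdeal B ^ 2) →+* ResidueField (Localization.AtPrime p)) ^ 2 := by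
      have hmm := Ideal.mul_mem_mul (hm a ha) (hm b hb)
      rwa [← pow_two] at hmm
    rw [hsq] at hab
    exact hab
  have h0 := Groth.Agent.Helper22.WeierReg2.map_eq_zero_of_mem_sq _ _ h2 hmem
  have h1 : Ideal.Quotient.mk (maximalIdeal B ^ 2) π = 0 := by
    show algebraMap B (B ⧸ maximalIdeal B ^ 2) π = 0
    rw [← (Algebra.FormallySmooth.liftOfSurjective f g hgs hnil).commutes π]
    exact h0
  have hmem2 : π ∈ maximalIdeal B ^ 2 := Ideal.Quotient.eq_zero_iff_mem.1 h1
  rw [hmB, Ideal.span_singleton_pow, Ideal.mem_span_singleton] at hmem2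
  obtain ⟨c, hc⟩ := hmem2
  have hπc : π * c = 1 := by
    apply mul_left_cancel₀ hπ.ne_zero
    rw [mul_one]
    calc π * (π * c) = π ^ 2 * c := by ring
      _ = π := hc.symm
  exact hπ.not_isUnit ⟨⟨π, c, hπc, by rw [mul_comm]; exact hπc⟩, rfl⟩

theorem main_aux {B' : Type u} [CommRing B'] [IsDomain B'] [IsDiscreteValuationRing B']
    (hp : p.comap (algebraMap B A) = maximalIdeal B)
    (hres : Function.Surjective ((algebraMap A p.ResidueField).comp (algebraMap B A)))
    (π : B) (hπ : Irreducible π)
    (q : Localization.AtPrime p →+* B') (hq : Function.Surjective q)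
    (hgen : maximalIdeal B' = Ideal.span {q (algebraMap B (Localization.AtPrime p) π)}) :
    Ideal.comap (q.comp (algebraMap A (Localization.AtPrime p))) (maximalIdeal B') = p ∧
    Function.Injective ((q.comp (algebraMap A (Localization.AtPrime p))).comp (algebraMap B A)) ∧
    Ideal.map ((q.comp (algebraMap A (Localization.AtPrime p))).comp (algebraMap B A))
      (maximalIdeal B) = maximalIdeal B' ∧
    Function.Surjective ((residue B').comp
      ((q.comp (algebraMap A (Localization.AtPrime p))).comp (algebraMap B A))) := by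
  have hmB : maximalIdeal B = Ideal.span {π} :=
    (IsDiscreteValuationRing.irreducible_iff_uniformizer π).1 hπ
  haveI : IsLocalHom q := IsLocalHom.of_surjective q hq
  have hmk : ∀ s, q s ∈ maximalIdeal B' ↔ s ∈ maximalIdeal (Localization.AtPrime p) := by
    intro s
    rw [← maximalIdeal_comap q, Ideal.mem_comap]
  have hφ : ∀ b : B, ((q.comp (algebraMap A (Localization.AtPrime p))).comp (algebraMap B A)) b
      = q (algebraMap B (Localization.AtPrime p) b) := by
    intro b
    rw [RingHom.comp_apply, RingHom.comp_apply,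
      ← IsScalarTower.algebraMap_apply B A (Localization.AtPrime p)]
  refine ⟨?_, ?_, ?_, ?_⟩
  · ext a
    rw [Ideal.mem_comap, RingHom.comp_apply, hmk,
      IsLocalization.AtPrime.to_map_mem_maximal_iff (Localization.AtPrime p) p]
  · rw [injective_iff_map_eq_zero]
    intro b hb
    by_contra hb0
    obtain ⟨k, u, hu⟩ := IsDiscreteValuationRing.eq_unit_mul_pow_irreducible hb0 hπ
    rw [hu, map_mul, map_pow] at hb
    have hunit : IsUnit (((q.comp (algebraMap A (Localization.AtPrime p))).comp
        (algebraMap B A)) (u : B)) := (u.isUnit).map _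
    have hpow := (hunit.mul_right_eq_zero).1 hb
    have hπ0 := eq_zero_of_pow_eq_zero hpow
    rw [hφ] at hπ0
    rw [hπ0, Ideal.span_singleton_eq_bot.2 rfl] at hgen
    exact IsDiscreteValuationRing.not_a_field B' hgen
  · rw [hmB, Ideal.map_span, Set.image_singleton, hφ, hgen]
  · intro c
    obtain ⟨t, rfl⟩ := residue_surjective c
    obtain ⟨s, rfl⟩ := hq t
    obtain ⟨b, hb⟩ := hres (residue (Localization.AtPrime p) s)
    refine ⟨b, ?_⟩
    rw [RingHom.comp_apply, bridge] at hb
    rw [RingHom.comp_apply, hφ, ← sub_eq_zero, ← map_sub, ← map_sub, residue_eq_zero_iff, hmk,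
      ← residue_eq_zero_iff, map_sub, sub_eq_zero]
    exact hb

theorem main [Algebra.IsSmoothAt B p] (hp : p.comap (algebraMap B A) = maximalIdeal B)
    (hres : Function.Surjective ((algebraMap A p.ResidueField).comp (algebraMap B A))) :
    ∃ (B' : Type u) (_ : CommRing B') (_ : IsDomain B') (_ : IsDiscreteValuationRing B')
      (ψ : A →+* B'),
      Ideal.comap ψ (maximalIdeal B') = p ∧
      Function.Injective (ψ.comp (algebraMap B A)) ∧
      Ideal.map (ψ.comp (algebraMap B A)) (maximalIdeal B) = maximalIdeal B' ∧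
      Function.Surjective ((residue B').comp (ψ.comp (algebraMap B A))) := by
  obtain ⟨π, hπ⟩ := IsDiscreteValuationRing.exists_irreducible B
  have hmB : maximalIdeal B = Ideal.span {π} :=
    (IsDiscreteValuationRing.irreducible_iff_uniformizer π).1 hπ
  have hπm : π ∈ maximalIdeal B := by
    rw [hmB]
    exact Ideal.subset_span rfl
  haveI hreg : IsRegularLocalRing (Localization.AtPrime p) := regular B A p
  have hϖm := algebraMap_mem B A p hp π hπm
  have hϖ2 := notMem_sq B A p hp hres π hπ
  obtain ⟨n, y, hn, hspan⟩ := Groth.Agent.Lead.RLR.exists_generators_of_notMem_sq hϖm hϖ2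
  obtain ⟨z, hzl, hzr⟩ : ∃ z : Fin (n + 1) → Localization.AtPrime p,
      (∀ i : Fin n, z (Fin.castAdd 1 i) = y i) ∧
      (∀ j : Fin 1, z (Fin.natAdd n j) = algebraMap B (Localization.AtPrime p) π) :=
    ⟨Fin.append y (fun _ => algebraMap B (Localization.AtPrime p) π),
      fun i => Fin.append_left _ _ i, fun j => Fin.append_right _ _ j⟩
  have hz : Ideal.span (Set.range z) = maximalIdeal (Localization.AtPrime p) := by
    rw [← hspan]
    apply le_antisymm
    · rw [Ideal.span_le]
      rintro _ ⟨i, rfl⟩
      induction i using Fin.addCases with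
      | left i =>
        rw [hzl]
        exact Ideal.subset_span (Set.mem_insert_of_mem _ ⟨i, rfl⟩)
      | right j =>
        rw [hzr]
        exact Ideal.subset_span (Set.mem_insert _ _)
    · rw [Ideal.span_le]
      rintro s (rfl | ⟨i, rfl⟩)
      · exact Ideal.subset_span ⟨Fin.natAdd n 0, hzr 0⟩
      · exact Ideal.subset_span ⟨Fin.castAdd 1 i, hzl i⟩
  have hJm : Ideal.span (Set.range (fun i : Fin n => z (Fin.castAdd 1 i)))
      ≤ maximalIdeal (Localization.AtPrime p) := by
    rw [← hz]
    apply Ideal.span_mono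
    rintro _ ⟨i, rfl⟩
    exact ⟨_, rfl⟩
  have hJtop : Ideal.span (Set.range (fun i : Fin n => z (Fin.castAdd 1 i))) ≠ ⊤ := fun h =>
    (maximalIdeal.isMaximal (Localization.AtPrime p)).ne_top (top_le_iff.1 (h ▸ hJm))
  haveI : IsLocalRing (Localization.AtPrime p ⧸
      Ideal.span (Set.range (fun i : Fin n => z (Fin.castAdd 1 i)))) :=
    Groth.Agent.Lead.RLR.isLocalRing_quotient hJtop
  obtain ⟨hregQ, hdimQ⟩ :=
    Groth.Agent.Lead.RLR.isRegularLocalRing_quotient_span_range (c := n) (e := 1) z hz hn
  haveI := hregQ
  haveI hdom : IsDomain (Localization.AtPrime p ⧸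
      Ideal.span (Set.range (fun i : Fin n => z (Fin.castAdd 1 i)))) :=
    Groth.Agent.Lead.RLR.isDomain _
  haveI hdvr : IsDiscreteValuationRing (Localization.AtPrime p ⧸
      Ideal.span (Set.range (fun i : Fin n => z (Fin.castAdd 1 i)))) :=
    Groth.Agent.Helper5.PolyHeight.isDiscreteValuationRing_of_isRegularLocalRing _
      (by rw [hdimQ]; rfl)
  have hgen : maximalIdeal (Localization.AtPrime p ⧸
      Ideal.span (Set.range (fun i : Fin n => z (Fin.castAdd 1 i))))
      = Ideal.span {Ideal.Quotient.mk
          (Ideal.span (Set.range (fun i : Fin n => z (Fin.castAdd 1 i))))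
          (algebraMap B (Localization.AtPrime p) π)} := by
    rw [← map_maximalIdeal_of_surjective (Ideal.Quotient.mk
      (Ideal.span (Set.range (fun i : Fin n => z (Fin.castAdd 1 i)))))
      Ideal.Quotient.mk_surjective, ← hz, Ideal.map_span]
    apply le_antisymm
    · rw [Ideal.span_le]
      rintro _ ⟨_, ⟨i, rfl⟩, rfl⟩
      induction i using Fin.addCases with
      | left i =>
        have h0 : Ideal.Quotient.mk
            (Ideal.span (Set.range (fun i : Fin n => z (Fin.castAdd 1 i))))
            (z (Fin.castAdd 1 i)) = 0 :=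
          Ideal.Quotient.eq_zero_iff_mem.mpr (Ideal.subset_span ⟨i, rfl⟩)
        rw [h0]
        exact Ideal.zero_mem _
      | right j =>
        rw [hzr]
        exact Ideal.subset_span rfl
    · rw [Ideal.span_le]
      rintro _ rfl
      exact Ideal.subset_span ⟨_, ⟨Fin.natAdd n 0, rfl⟩, by rw [hzr]⟩
  exact ⟨_, inferInstance, hdom, hdvr, (Ideal.Quotient.mk
      (Ideal.span (Set.range (fun i : Fin n => z (Fin.castAdd 1 i))))).comp
      (algebraMap A (Localization.AtPrime p)),
    main_aux B A p hp hres π hπ _ Ideal.Quotient.mk_surjective hgen⟩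

end

end Groth.Agent.Helper22.DVRSec
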