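import Groth.Agent.Lib.Helper12.Comod
import Mathlib

/-!
# Comodules over a group algebra `k[M]` (over a commutative ring): weight decomposition,
and equivariant splitting of module-split subcomodules
-/

set_option autoImplicit false
namespace Groth.Agent.Helper22.DiagSplit
open TensorProduct Groth.Agent.Helper12
open scoped Classical
universe u v w

section Basic
variable {k : Type u} [CommRing k] {M : Type v}

/-- coefficient functional on `k[M]` -/
noncomputable def ev (m : M) : MonoidAlgebra k M →ₗ[k] k := (MonoidAlgebra.basis M k).coord m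

theorem ev_apply (m : M) (a : MonoidAlgebra k M) : ev m a = a.coeff m := rfl

theorem ev_single (m n : M) (c : k) :
    ev m (MonoidAlgebra.single n c) = if n = m then c else 0 := by
  rw [ev_apply, MonoidAlgebra.coeff_single, Finsupp.single_apply]

theorem rtrans_ev (m : M) (a : MonoidAlgebra k M) :
    rtrans (ev m) a = ev m a • MonoidAlgebra.single m (1 : k) := by
  have h : rtrans (ev (k := k) m) = (ev m).smulRight (MonoidAlgebra.single m (1 : k)) := by
    apply MonoidAlgebra.lhom_ext'
    intro u
    apply LinearMap.ext_ring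
    simp only [LinearMap.comp_apply, MonoidAlgebra.lsingle_apply, LinearMap.smulRight_apply,
      rtrans, LinearEquiv.coe_coe, MonoidAlgebra.comul_single, CommSemiring.comul_apply,
      TensorProduct.map_tmul, LinearMap.lTensor_tmul, TensorProduct.rid_tmul, ev_single]
    split_ifs with h
    · subst h; simp
    · simp
  rw [h, LinearMap.smulRight_apply]

variable {V : Type w} [AddCommGroup V] [Module k V]

theorem lTensor_rtrans_ev (m : M) (z : V ⊗[k] MonoidAlgebra k M) :
    (rtrans (ev m)).lTensor V z = slice (ev m) z ⊗ₜ[k] MonoidAlgebra.single m (1 : k) := by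
  induction z using TensorProduct.induction_on with
  | zero => simp
  | tmul r a =>
    rw [LinearMap.lTensor_tmul, rtrans_ev, slice_tmul, TensorProduct.tmul_smul,
      TensorProduct.smul_tmul']
  | add a b ha hb => rw [map_add, map_add, ha, hb, TensorProduct.add_tmul]

variable [HopfRep.Comod k (MonoidAlgebra k M) V]

variable (k) in
/-- the projection onto the weight-`m` component -/
noncomputable def pr (m : M) : V →ₗ[k] V :=
  slice (ev m) ∘ₗ HopfRep.Comod.coact (k := k) (A := MonoidAlgebra k M)

theorem pr_apply (m : M) (v : V) :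
    pr k m v = slice (ev m) (HopfRep.Comod.coact (k := k) (A := MonoidAlgebra k M) v) := rfl

theorem coact_pr (m : M) (v : V) :
    HopfRep.Comod.coact (k := k) (A := MonoidAlgebra k M) (pr k m v) =
      pr k m v ⊗ₜ[k] MonoidAlgebra.single m (1 : k) := by
  rw [pr_apply, coact_slice_coact, lTensor_rtrans_ev]

theorem pr_pr (m n : M) (v : V) :
    pr k m (pr k n v) = if n = m then pr k n v else 0 := by
  rw [pr_apply, coact_pr, slice_tmul, ev_single]
  split_ifs <;> simp

variable (k M) in
/-- the finitely supported family of weight components -/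
noncomputable def comps (v : V) : M →₀ V :=
  TensorProduct.equivFinsuppOfBasisRight (MonoidAlgebra.basis M k)
    (HopfRep.Comod.coact (k := k) (A := MonoidAlgebra k M) v)

theorem comps_apply (v : V) (m : M) : comps k M v m = pr k m v := by
  unfold comps
  rw [TensorProduct.equivFinsuppOfBasisRight_apply]
  rfl

omit [HopfRep.Comod k (MonoidAlgebra k M) V] in
theorem slice_counit_eq (z : V ⊗[k] MonoidAlgebra k M) :
    slice (Coalgebra.counit (R := k) (A := MonoidAlgebra k M)) z =
      (TensorProduct.equivFinsuppOfBasisRight (MonoidAlgebra.basis M k) z).sum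
        (fun _ r => r) := by
  set D := TensorProduct.equivFinsuppOfBasisRight (MonoidAlgebra.basis M k) z with hD
  have hz : z = D.sum fun i m => m ⊗ₜ[k] (MonoidAlgebra.basis M k) i := by
    rw [← TensorProduct.equivFinsuppOfBasisRight_symm_apply, hD, LinearEquiv.symm_apply_apply]
  conv_lhs => rw [hz]
  rw [map_finsuppSum]
  refine Finsupp.sum_congr fun i _ => ?_
  rw [slice_tmul, MonoidAlgebra.basis_apply, MonoidAlgebra.counit_single,
    CommSemiring.counit_apply, one_smul]

theorem sum_comps (v : V) : (comps k M v).sum (fun _ r => r) = v := by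
  unfold comps
  rw [← slice_counit_eq, slice_counit_coact]

theorem sum_pr (v : V) : ∑ m ∈ (comps k M v).support, pr k m v = v := by
  have h := sum_comps (k := k) (M := M) v
  unfold Finsupp.sum at h
  simpa only [comps_apply] using h

theorem coact_eq_sum (v : V) :
    HopfRep.Comod.coact (k := k) (A := MonoidAlgebra k M) v =
      ∑ m ∈ (comps k M v).support, pr k m v ⊗ₜ[k] MonoidAlgebra.single m (1 : k) := by
  have h : HopfRep.Comod.coact (k := k) (A := MonoidAlgebra k M) v =
      (TensorProduct.equivFinsuppOfBasisRight (MonoidAlgebra.basis M k)).symm (comps k M v) := by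
    unfold comps
    rw [LinearEquiv.symm_apply_apply]
  rw [h, TensorProduct.equivFinsuppOfBasisRight_symm_apply]
  unfold Finsupp.sum
  refine Finset.sum_congr rfl fun m _ => ?_
  simp only [comps_apply, MonoidAlgebra.basis_apply]

theorem pr_eq_zero_of_notMem (v : V) (m : M) (hm : m ∉ (comps k M v).support) :
    pr k m v = 0 := by
  rw [← comps_apply]
  exact Finsupp.notMem_support_iff.1 hm

/-- a `k`-module complement of a subcomodule can be replaced by a subcomodule complement -/
theorem exists_isCompl (W : Submodule k V)
    (hW : HopfRep.IsSubcomod (k := k) (A := MonoidAlgebra k M) W)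
    (W' : Submodule k V) (hc : IsCompl W W') :
    ∃ W'' : Submodule k V, HopfRep.IsSubcomod (k := k) (A := MonoidAlgebra k M) W'' ∧
      IsCompl W W'' := by
  set p : V →ₗ[k] V := W.subtype ∘ₗ Submodule.projectionOnto W W' hc with hp
  have hpW : ∀ v, p v ∈ W := fun v => (Submodule.projectionOnto W W' hc v).2
  have hpw : ∀ w ∈ W, p w = w := fun w hw => by
    rw [hp, LinearMap.comp_apply, Submodule.subtype_apply]
    exact congrArg Subtype.val (Submodule.projectionOnto_apply_left hc ⟨w, hw⟩)
  have hprW : ∀ (m : M) (w : V), w ∈ W → pr k m w ∈ W := fun m w hw =>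
    slice_mem_of_mem_range W _ _ (hW w hw)
  -- the averaged projection
  let q : V → V := fun v => ∑ m ∈ (comps k M v).support, pr k m (p (pr k m v))
  have hqW : ∀ v, q v ∈ W := fun v =>
    Submodule.sum_mem _ fun m _ => hprW m _ (hpW _)
  have hqw : ∀ w ∈ W, q w = w := by
    intro w hw
    have h1 : q w = ∑ m ∈ (comps k M w).support, pr k m w := by
      refine Finset.sum_congr rfl fun m _ => ?_
      rw [hpw _ (hprW m w hw), pr_pr, if_pos rfl]
    rw [h1, sum_pr]
  have hpr_q : ∀ (n : M) (v : V), pr k n (q v) = pr k n (p (pr k n v)) := by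
    intro n v
    have h1 : pr k n (q v) = ∑ m ∈ (comps k M v).support,
        if m = n then pr k m (p (pr k m v)) else 0 := by
      change pr k n (∑ m ∈ (comps k M v).support, pr k m (p (pr k m v))) = _
      rw [map_sum]
      refine Finset.sum_congr rfl fun m _ => ?_
      rw [pr_pr]
    rw [h1, Finset.sum_ite_eq']
    split_ifs with hn
    · rfl
    · rw [pr_eq_zero_of_notMem v n hn, map_zero, map_zero]
  have hq_pr : ∀ (n : M) (v : V), q (pr k n v) = pr k n (p (pr k n v)) := by
    intro n v
    have h1 : q (pr k n v) = ∑ m ∈ (comps k M (pr k n v)).support,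
        if m = n then pr k n (p (pr k n v)) else 0 := by
      refine Finset.sum_congr rfl fun m _ => ?_
      by_cases h : m = n
      · subst h
        rw [if_pos rfl, pr_pr, if_pos rfl]
      · rw [if_neg h, pr_pr, if_neg (Ne.symm h), map_zero, map_zero]
    rw [h1, Finset.sum_ite_eq']
    split_ifs with hn
    · rfl
    · have h0 := pr_eq_zero_of_notMem (pr k n v) n hn
      rw [pr_pr, if_pos rfl] at h0
      rw [h0, map_zero, map_zero]
  -- `q` is additive and homogeneous: use the characterization through `pr`
  have hq_ext : ∀ x y : V, (∀ n : M, pr k n x = pr k n y) → x = y := by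
    intro x y h
    have hx := sum_pr (k := k) (M := M) (x - y)
    rw [← sub_eq_zero, ← hx]
    refine Finset.sum_eq_zero fun m _ => ?_
    rw [map_sub, h m, sub_self]
  have hq_add : ∀ x y, q (x + y) = q x + q y := by
    intro x y
    apply hq_ext
    intro n
    rw [map_add, hpr_q, hpr_q, hpr_q, map_add, map_add, map_add]
  have hq_smul : ∀ (c : k) x, q (c • x) = c • q x := by
    intro c x
    apply hq_ext
    intro n
    rw [map_smul, hpr_q, hpr_q, map_smul, map_smul, map_smul]
  let qL : V →ₗ[k] W :=
    { toFun := fun v => ⟨q v, hqW v⟩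
      map_add' := fun x y => Subtype.ext (hq_add x y)
      map_smul' := fun c x => Subtype.ext (hq_smul c x) }
  have hqL : ∀ x : W, qL x = x := fun x => Subtype.ext (hqw x x.2)
  refine ⟨LinearMap.ker qL, ?_, LinearMap.isCompl_of_proj hqL⟩
  intro v hv
  have hv0 : q v = 0 := congrArg Subtype.val (LinearMap.mem_ker.1 hv)
  have hmem : ∀ m : M, pr k m v ∈ LinearMap.ker qL := by
    intro m
    rw [LinearMap.mem_ker]
    apply Subtype.ext
    change q (pr k m v) = 0
    rw [hq_pr, ← hpr_q, hv0, map_zero]
  rw [coact_eq_sum]
  refine Submodule.sum_mem _ fun m _ => ?_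
  exact ⟨(⟨pr k m v, hmem m⟩ : LinearMap.ker qL) ⊗ₜ[k] MonoidAlgebra.single m (1 : k),
    by rw [LinearMap.rTensor_tmul]; rfl⟩

end Basic

end Groth.Agent.Helper22.DiagSplit
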