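import Mathlib
import Groth.Prelude.Def_ega3

/-!
# Projectivity of `coker (Q^{d-1} → Q^d)` from fibrewise exactness (helper22)
-/

namespace Groth.Agent.Helper22.OpcProj

open TensorProduct CategoryTheory

universe u v

section Local

theorem free_of_middle_exact {S : Type u} [CommRing S] [IsLocalRing S]
    {M2 M1 M0 C : Type v} [AddCommGroup M2] [Module S M2] [AddCommGroup M1] [Module S M1]
    [AddCommGroup M0] [Module S M0] [AddCommGroup C] [Module S C]
    [Module.Finite S M1] [Module.Finite S M0] [Module.Free S M0]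
    (e : M2 →ₗ[S] M1) (f : M1 →ₗ[S] M0) (g : M0 →ₗ[S] C)
    (hfe : f ∘ₗ e = 0) (hg : Function.Surjective g) (hfg : Function.Exact f g)
    (hk : ∀ x : IsLocalRing.ResidueField S ⊗[S] M1,
      f.lTensor (IsLocalRing.ResidueField S) x = 0 →
        ∃ y, e.lTensor (IsLocalRing.ResidueField S) y = x) :
    Module.Free S C := by
  have hle : LinearMap.range e ≤ LinearMap.ker f := LinearMap.range_le_ker_iff.2 hfe
  let fbar : (M1 ⧸ LinearMap.range e) →ₗ[S] M0 := (LinearMap.range e).liftQ f hle
  have hcomp : fbar ∘ₗ (LinearMap.range e).mkQ = f := Submodule.liftQ_mkQ _ _ _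
  have hex' : Function.Exact fbar g := by
    intro y
    rw [hfg y]
    constructor
    · rintro ⟨x, rfl⟩
      exact ⟨(LinearMap.range e).mkQ x, Submodule.liftQ_apply _ _ _⟩
    · rintro ⟨z, rfl⟩
      obtain ⟨x, rfl⟩ := (LinearMap.range e).mkQ_surjective z
      exact ⟨x, (Submodule.liftQ_apply _ _ _).symm⟩
  refine Module.free_of_lTensor_residueField_injective fbar g hg hex' ?_
  rw [injective_iff_map_eq_zero]
  intro x hx
  obtain ⟨x', rfl⟩ := LinearMap.lTensor_surjective (IsLocalRing.ResidueField S)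
    (LinearMap.range e).mkQ_surjective x
  have h1 : f.lTensor (IsLocalRing.ResidueField S) x' = 0 := by
    have h2 : f.lTensor (IsLocalRing.ResidueField S) =
        (fbar.lTensor (IsLocalRing.ResidueField S)) ∘ₗ
          ((LinearMap.range e).mkQ.lTensor (IsLocalRing.ResidueField S)) := by
      rw [← LinearMap.lTensor_comp, hcomp]
    rw [h2]
    exact hx
  obtain ⟨y, rfl⟩ := hk x' h1
  have h0 : (LinearMap.range e).mkQ ∘ₗ e = 0 :=
    LinearMap.range_le_ker_iff.1 (Submodule.ker_mkQ _).ge
  have h3 : ((LinearMap.range e).mkQ.lTensor (IsLocalRing.ResidueField S))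
      (e.lTensor (IsLocalRing.ResidueField S) y) =
      (((LinearMap.range e).mkQ ∘ₗ e).lTensor (IsLocalRing.ResidueField S)) y := by
    rw [LinearMap.lTensor_comp]
    rfl
  rw [h3, h0, LinearMap.lTensor_zero, LinearMap.zero_apply]

end Local

section Transport

variable {A : Type u} [CommRing A] (m : Ideal A) [hm : m.IsMaximal]

/-- `A/m ≃ κ(m)` as `A`-modules. -/
noncomputable def eps : (A ⧸ m) ≃ₗ[A] m.ResidueField :=
  LinearEquiv.ofBijective (IsScalarTower.toAlgHom A (A ⧸ m) m.ResidueField).toLinearMap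
    m.bijective_algebraMap_quotient_residueField

variable (M : Type v) [AddCommGroup M] [Module A M]

/-- The identification `κ ⊗_{A_m} (A_m ⊗_A M) → M ⊗_A (A/m)`. -/
noncomputable def Phi :
    m.ResidueField ⊗[Localization.AtPrime m] (Localization.AtPrime m ⊗[A] M) →
      M ⊗[A] (A ⧸ m) :=
  fun x => TensorProduct.comm A (A ⧸ m) M
    (TensorProduct.congr (eps m).symm (LinearEquiv.refl A M)
      (AlgebraTensorModule.cancelBaseChange A (Localization.AtPrime m)
        (Localization.AtPrime m) m.ResidueField M x))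

theorem Phi_zero : Phi m M 0 = 0 := by simp only [Phi, map_zero]

theorem Phi_add (x y : m.ResidueField ⊗[Localization.AtPrime m] (Localization.AtPrime m ⊗[A] M)) :
    Phi m M (x + y) = Phi m M x + Phi m M y := by simp only [Phi, map_add]

theorem Phi_tmul (c : m.ResidueField) (s : Localization.AtPrime m) (z : M) :
    Phi m M (c ⊗ₜ (s ⊗ₜ z)) = z ⊗ₜ (eps m).symm (s • c) := rfl

theorem Phi_bijective : Function.Bijective (Phi m M) :=
  (TensorProduct.comm A (A ⧸ m) M).bijective.comp
    ((TensorProduct.congr (eps m).symm (LinearEquiv.refl A M)).bijective.comp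
      (AlgebraTensorModule.cancelBaseChange A (Localization.AtPrime m)
        (Localization.AtPrime m) m.ResidueField M).bijective)

variable {M}

theorem Phi_natural {M' : Type v} [AddCommGroup M'] [Module A M']
    (δ : M →ₗ[A] M')
    (x : m.ResidueField ⊗[Localization.AtPrime m] (Localization.AtPrime m ⊗[A] M)) :
    Phi m M' ((δ.baseChange (Localization.AtPrime m)).lTensor m.ResidueField x) =
      δ.rTensor (A ⧸ m) (Phi m M x) := by
  induction x using TensorProduct.induction_on with
  | zero => rw [map_zero, Phi_zero, Phi_zero, map_zero]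
  | add x y hx hy => rw [map_add, Phi_add, hx, hy, Phi_add, map_add]
  | tmul c t =>
    induction t using TensorProduct.induction_on with
    | zero => rw [TensorProduct.tmul_zero, map_zero, Phi_zero, Phi_zero, map_zero]
    | add t1 t2 h1 h2 =>
      rw [TensorProduct.tmul_add, map_add, Phi_add, h1, h2, Phi_add, map_add]
    | tmul s z =>
      rw [LinearMap.lTensor_tmul, LinearMap.baseChange_tmul, Phi_tmul, Phi_tmul,
        LinearMap.rTensor_tmul]

theorem transfer {M2 M1 M0 : Type v} [AddCommGroup M2] [Module A M2] [AddCommGroup M1]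
    [Module A M1] [AddCommGroup M0] [Module A M0]
    (δ2 : M2 →ₗ[A] M1) (δ1 : M1 →ₗ[A] M0)
    (hk : ∀ x : M1 ⊗[A] (A ⧸ m), δ1.rTensor (A ⧸ m) x = 0 → ∃ y, δ2.rTensor (A ⧸ m) y = x) :
    ∀ x : m.ResidueField ⊗[Localization.AtPrime m] (Localization.AtPrime m ⊗[A] M1),
      (δ1.baseChange (Localization.AtPrime m)).lTensor m.ResidueField x = 0 →
      ∃ y, (δ2.baseChange (Localization.AtPrime m)).lTensor m.ResidueField y = x := by
  intro x hx
  have h1 : δ1.rTensor (A ⧸ m) (Phi m M1 x) = 0 := by
    rw [← Phi_natural, hx, Phi_zero]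
  obtain ⟨y', hy'⟩ := hk _ h1
  obtain ⟨y, rfl⟩ := (Phi_bijective m M2).2 y'
  refine ⟨y, (Phi_bijective m M1).1 ?_⟩
  rw [Phi_natural, hy']

end Transport

theorem projective_of_middle_exact {A : Type u} [CommRing A]
    {M2 M1 M0 C : Type u} [AddCommGroup M2] [Module A M2] [AddCommGroup M1] [Module A M1]
    [AddCommGroup M0] [Module A M0] [AddCommGroup C] [Module A C]
    [Module.Finite A M1] [Module.Finite A M0] [Module.Projective A M0]
    (δ2 : M2 →ₗ[A] M1) (δ1 : M1 →ₗ[A] M0) (g : M0 →ₗ[A] C)
    (h21 : δ1 ∘ₗ δ2 = 0) (hg : Function.Surjective g) (hex : Function.Exact δ1 g)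
    (hk : ∀ (m : Ideal A) [m.IsMaximal], ∀ x : M1 ⊗[A] (A ⧸ m),
      δ1.rTensor (A ⧸ m) x = 0 → ∃ y, δ2.rTensor (A ⧸ m) y = x) :
    Module.Projective A C := by
  haveI : Module.FinitePresentation A M0 := Module.finitePresentation_of_projective A M0
  haveI : Module.FinitePresentation A C := Module.finitePresentation_of_surjective g hg (by
    rw [hex.linearMap_ker_eq, LinearMap.range_eq_map]
    exact (Module.Finite.fg_top).map δ1)
  refine Module.projective_of_localization_maximal fun I hI => ?_
  haveI := hI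
  haveI : Module.Free (Localization.AtPrime I) (Localization.AtPrime I ⊗[A] M0) :=
    Module.free_of_flat_of_isLocalRing
  have hfree : Module.Free (Localization.AtPrime I) (Localization.AtPrime I ⊗[A] C) := by
    refine free_of_middle_exact (δ2.baseChange (Localization.AtPrime I))
      (δ1.baseChange (Localization.AtPrime I)) (g.baseChange (Localization.AtPrime I))
      ?_ ?_ ?_ (transfer I δ2 δ1 (hk I))
    · rw [← LinearMap.baseChange_comp, h21, LinearMap.baseChange_zero]
    · exact LinearMap.lTensor_surjective (Localization.AtPrime I) hg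
    · exact lTensor_exact (Localization.AtPrime I) hex hg
  haveI := hfree
  exact Module.Projective.of_equiv' (LocalizedModule.equivTensorProduct I.primeCompl C).symm

theorem main (A : Type u) [CommRing A]
    (Q : CochainComplex (ModuleCat.{u} A) ℤ)
    (hQ : ∀ i, Module.Finite A (Q.X i) ∧ Module.Projective A (Q.X i)) (d : ℤ)
    (h2 : ∀ (m : Ideal A) [m.IsMaximal], ∀ p < d,
      Limits.IsZero ((CohIII.tensorObj Q (ModuleCat.of A (A ⧸ m))).homology p)) :
    Module.Projective A (Q.opcycles d) := by
  haveI := (hQ d).1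
  haveI := (hQ d).2
  haveI := (hQ (d - 1)).1
  have hS : (ShortComplex.mk (Q.d (d - 1) d) (Q.pOpcycles d) (Q.d_pOpcycles (d - 1) d)).Exact :=
    ShortComplex.exact_of_g_is_cokernel
      (S := ShortComplex.mk (Q.d (d - 1) d) (Q.pOpcycles d) (Q.d_pOpcycles (d - 1) d))
      (Q.opcyclesIsCokernel (d - 1) d (by simp))
  have hex : Function.Exact (Q.d (d - 1) d).hom (Q.pOpcycles d).hom :=
    (ShortComplex.ShortExact.moduleCat_exact_iff_function_exact _).1 hS
  have hg : Function.Surjective (Q.pOpcycles d).hom :=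
    (ModuleCat.epi_iff_surjective _).1 inferInstance
  have h21 : (Q.d (d - 1) d).hom ∘ₗ (Q.d (d - 1 - 1) (d - 1)).hom = 0 := by
    rw [← ModuleCat.hom_comp, Q.d_comp_d]
    rfl
  refine projective_of_middle_exact (Q.d (d - 1 - 1) (d - 1)).hom (Q.d (d - 1) d).hom
    (Q.pOpcycles d).hom h21 hg hex ?_
  intro m _ x hx
  have hz := h2 m (d - 1) (by omega)
  have hE : (CohIII.tensorObj Q (ModuleCat.of A (A ⧸ m))).ExactAt (d - 1) :=
    (HomologicalComplex.exactAt_iff_isZero_homology _ _).2 hz
  rw [HomologicalComplex.exactAt_iff' _ (d - 1 - 1) (d - 1) d (by simp) (by simp)] at hE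
  have key := (ShortComplex.moduleCat_exact_iff _).1 hE
  exact key x hx

end Groth.Agent.Helper22.OpcProj
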