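import Mathlib
import Groth.Agent.Lib.Helper22.OpcProj

/-!
# A fibrewise criterion for a submodule to be a direct summand modulo an ideal (helper22)

`exists_compl_mod`: for a finitely generated projective module `M` over a commutative ring `R`, an ideal
`I` and a finitely generated submodule `U ⊇ I M` such that `U ∩ 𝔫 M ⊆ 𝔫 U + I M` for every maximal
ideal `𝔫 ⊇ I`, there is a submodule `C` with `U + C = M` and `U ∩ C = I M`.
-/

set_option autoImplicit false

namespace Groth.Agent.Helper22.DieuDisp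

open TensorProduct Groth.Agent.Helper22.OpcProj

universe u v w w'

section Crit

theorem free_of_middle_exact' {S : Type*} [CommRing S] [IsLocalRing S]
    {M2 M1 M0 C : Type*} [AddCommGroup M2] [Module S M2] [AddCommGroup M1] [Module S M1]
    [AddCommGroup M0] [Module S M0] [AddCommGroup C] [Module S C]
    [Module.Finite S M1] [Module.Finite S M0] [Module.Free S M0]
    (e : M2 →ₗ[S] M1) (f : M1 →ₗ[S] M0) (g : M0 →ₗ[S] C)
    (hfe : f ∘ₗ e = 0) (hg : Function.Surjective g) (hfg : Function.Exact f g)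
    (hk : ∀ x : IsLocalRing.ResidueField S ⊗[S] M1,
      f.lTensor (IsLocalRing.ResidueField S) x = 0 →
        ∃ y, e.lTensor (IsLocalRing.ResidueField S) y = x) :
    Module.Free S C := by
  have hle : LinearMap.range e ≤ LinearMap.ker f := LinearMap.range_le_ker_iff.2 hfe
  let fbar : (M1 ⧸ LinearMap.range e) →ₗ[S] M0 := (LinearMap.range e).liftQ f hle
  have hcomp : fbar ∘ₗ (LinearMap.range e).mkQ = f := Submodule.liftQ_mkQ _ _ _
  have hex' : Function.Exact fbar g := by
    intro y
    rw [hfg y]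
    constructor
    · rintro ⟨x, rfl⟩
      exact ⟨(LinearMap.range e).mkQ x, Submodule.liftQ_apply _ _ _⟩
    · rintro ⟨z, rfl⟩
      obtain ⟨x, rfl⟩ := (LinearMap.range e).mkQ_surjective z
      exact ⟨x, (Submodule.liftQ_apply _ _ _).symm⟩
  refine Module.free_of_lTensor_residueField_injective fbar g hg hex' ?_
  rw [injective_iff_map_eq_zero]
  intro x hx
  obtain ⟨x', rfl⟩ := LinearMap.lTensor_surjective (IsLocalRing.ResidueField S)
    (LinearMap.range e).mkQ_surjective x
  have h1 : f.lTensor (IsLocalRing.ResidueField S) x' = 0 := by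
    have h2 : f.lTensor (IsLocalRing.ResidueField S) =
        (fbar.lTensor (IsLocalRing.ResidueField S)) ∘ₗ
          ((LinearMap.range e).mkQ.lTensor (IsLocalRing.ResidueField S)) := by
      rw [← LinearMap.lTensor_comp, hcomp]
    rw [h2]
    exact hx
  obtain ⟨y, rfl⟩ := hk x' h1
  have h0 : (LinearMap.range e).mkQ ∘ₗ e = 0 :=
    LinearMap.range_le_ker_iff.1 (Submodule.ker_mkQ _).ge
  have h3 : ((LinearMap.range e).mkQ.lTensor (IsLocalRing.ResidueField S))
      (e.lTensor (IsLocalRing.ResidueField S) y) =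
      (((LinearMap.range e).mkQ ∘ₗ e).lTensor (IsLocalRing.ResidueField S)) y := by
    rw [LinearMap.lTensor_comp]
    rfl
  rw [h3, h0, LinearMap.lTensor_zero, LinearMap.zero_apply]

theorem Phi_natural' {A : Type u} [CommRing A] (m : Ideal A) [hm : m.IsMaximal]
    {M : Type v} [AddCommGroup M] [Module A M] {M' : Type w} [AddCommGroup M'] [Module A M']
    (δ : M →ₗ[A] M')
    (x : m.ResidueField ⊗[Localization.AtPrime m] (Localization.AtPrime m ⊗[A] M)) :
    Phi m M' ((δ.baseChange (Localization.AtPrime m)).lTensor m.ResidueField x) =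
      δ.rTensor (A ⧸ m) (Phi m M x) := by
  induction x using TensorProduct.induction_on with
  | zero => rw [map_zero, Phi_zero, Phi_zero, map_zero]
  | add x y hx hy => rw [map_add, Phi_add, hx, hy, Phi_add, map_add]
  | tmul c t =>
    induction t using TensorProduct.induction_on with
    | zero => rw [TensorProduct.tmul_zero, map_zero, Phi_zero, Phi_zero, map_zero]
    | add t1 t2 h1 h2 =>
      rw [TensorProduct.tmul_add, map_add, Phi_add, h1, h2, Phi_add, map_add]
    | tmul s z =>
      rw [LinearMap.lTensor_tmul, LinearMap.baseChange_tmul, Phi_tmul, Phi_tmul,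
        LinearMap.rTensor_tmul]

theorem transfer' {A : Type u} [CommRing A] (m : Ideal A) [hm : m.IsMaximal]
    {M2 : Type w'} {M1 : Type w} {M0 : Type v} [AddCommGroup M2] [Module A M2] [AddCommGroup M1]
    [Module A M1] [AddCommGroup M0] [Module A M0]
    (δ2 : M2 →ₗ[A] M1) (δ1 : M1 →ₗ[A] M0)
    (hk : ∀ x : M1 ⊗[A] (A ⧸ m), δ1.rTensor (A ⧸ m) x = 0 → ∃ y, δ2.rTensor (A ⧸ m) y = x) :
    ∀ x : m.ResidueField ⊗[Localization.AtPrime m] (Localization.AtPrime m ⊗[A] M1),
      (δ1.baseChange (Localization.AtPrime m)).lTensor m.ResidueField x = 0 →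
      ∃ y, (δ2.baseChange (Localization.AtPrime m)).lTensor m.ResidueField y = x := by
  intro x hx
  have h1 : δ1.rTensor (A ⧸ m) (Phi m M1 x) = 0 := by
    rw [← Phi_natural', hx, Phi_zero]
  obtain ⟨y', hy'⟩ := hk _ h1
  obtain ⟨y, rfl⟩ := (Phi_bijective m M2).2 y'
  refine ⟨y, (Phi_bijective m M1).1 ?_⟩
  rw [Phi_natural', hy']

theorem projective_of_middle_exact' {A : Type u} [CommRing A]
    {M2 : Type w'} {M1 : Type w} {M0 : Type v} {C : Type v} [AddCommGroup M2] [Module A M2]
    [AddCommGroup M1] [Module A M1]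
    [AddCommGroup M0] [Module A M0] [AddCommGroup C] [Module A C]
    [Module.Finite A M1] [Module.Finite A M0] [Module.Projective A M0]
    (δ2 : M2 →ₗ[A] M1) (δ1 : M1 →ₗ[A] M0) (g : M0 →ₗ[A] C)
    (h21 : δ1 ∘ₗ δ2 = 0) (hg : Function.Surjective g) (hex : Function.Exact δ1 g)
    (hk : ∀ (m : Ideal A) [m.IsMaximal], ∀ x : M1 ⊗[A] (A ⧸ m),
      δ1.rTensor (A ⧸ m) x = 0 → ∃ y, δ2.rTensor (A ⧸ m) y = x) :
    Module.Projective A C := by
  haveI : Module.FinitePresentation A M0 := Module.finitePresentation_of_projective A M0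
  haveI : Module.FinitePresentation A C := Module.finitePresentation_of_surjective g hg (by
    rw [hex.linearMap_ker_eq, LinearMap.range_eq_map]
    exact (Module.Finite.fg_top).map δ1)
  refine Module.projective_of_localization_maximal fun I hI => ?_
  haveI := hI
  haveI : Module.Free (Localization.AtPrime I) (Localization.AtPrime I ⊗[A] M0) :=
    Module.free_of_flat_of_isLocalRing
  have hfree : Module.Free (Localization.AtPrime I) (Localization.AtPrime I ⊗[A] C) := by
    refine free_of_middle_exact' (δ2.baseChange (Localization.AtPrime I))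
      (δ1.baseChange (Localization.AtPrime I)) (g.baseChange (Localization.AtPrime I))
      ?_ ?_ ?_ (transfer' I δ2 δ1 (hk I))
    · rw [← LinearMap.baseChange_comp, h21, LinearMap.baseChange_zero]
    · exact LinearMap.lTensor_surjective (Localization.AtPrime I) hg
    · exact lTensor_exact (Localization.AtPrime I) hex hg
  haveI := hfree
  exact Module.Projective.of_equiv' (LocalizedModule.equivTensorProduct I.primeCompl C).symm

end Crit

section DS

variable {R : Type u} [CommRing R] (I : Ideal R) {M : Type v} [AddCommGroup M] [Module R M]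

theorem exists_compl_mod [Module.Finite R M] [Module.Projective R M] (U : Submodule R M)
    (hU : U.FG) (hIU : I • (⊤ : Submodule R M) ≤ U)
    (h : ∀ 𝔫 : Ideal R, 𝔫.IsMaximal → I ≤ 𝔫 →
      U ⊓ 𝔫 • (⊤ : Submodule R M) ≤ 𝔫 • U ⊔ I • (⊤ : Submodule R M)) :
    ∃ C : Submodule R M, U ⊔ C = ⊤ ∧ U ⊓ C = I • (⊤ : Submodule R M) := by
  classical
  obtain ⟨s, hs⟩ := hU
  let π : M →ₗ[R] M ⧸ (I • ⊤ : Submodule R M) := (I • ⊤ : Submodule R M).mkQ
  have hπs : Function.Surjective π := Submodule.mkQ_surjective _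
  have hπk : ∀ x, π x = 0 ↔ x ∈ (I • ⊤ : Submodule R M) := fun x =>
    Submodule.Quotient.mk_eq_zero _
  haveI : Module.Finite (R ⧸ I) (M ⧸ (I • ⊤ : Submodule R M)) :=
    Module.Finite.of_restrictScalars_finite R (R ⧸ I) _
  haveI : Module.Projective (R ⧸ I) (M ⧸ (I • ⊤ : Submodule R M)) :=
    Module.Projective.of_equiv' (LinearEquiv.extendScalarsOfSurjective
      (Ideal.Quotient.mk_surjective (I := I)) (quotTensorEquivQuotSMul M I))
  let δ1 : (s → R ⧸ I) →ₗ[R ⧸ I] M ⧸ (I • ⊤ : Submodule R M) :=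
    Fintype.linearCombination (R ⧸ I) (fun i : s => π (i : M))
  have hmk : ∀ (r : R) (z : M ⧸ (I • ⊤ : Submodule R M)),
      (Ideal.Quotient.mk I r) • z = r • z := fun r z => algebraMap_smul (R ⧸ I) r z
  have hδ : ∀ c : s → R, δ1 (fun i => Ideal.Quotient.mk I (c i)) = π (∑ i, c i • (i : M)) := by
    intro c
    rw [Fintype.linearCombination_apply, map_sum]
    refine Finset.sum_congr rfl fun i _ => ?_
    rw [map_smul, hmk]
  have hsU : ∀ i : s, (i : M) ∈ U := fun i => hs ▸ Submodule.subset_span i.2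
  have hsum_mem : ∀ c : s → R, ∑ i, c i • (i : M) ∈ U := fun c =>
    Submodule.sum_mem _ fun i _ => U.smul_mem _ (hsU i)
  have hrange1 : ∀ z, z ∈ LinearMap.range δ1 → ∃ u ∈ U, π u = z := by
    rintro _ ⟨c, rfl⟩
    choose c' hc' using fun i => Ideal.Quotient.mk_surjective (c i)
    refine ⟨∑ i, c' i • (i : M), hsum_mem c', ?_⟩
    rw [← hδ]
    congr 1
    funext i
    exact hc' i
  have hrange2 : ∀ u ∈ U, π u ∈ LinearMap.range δ1 := by
    intro u hu
    rw [← hs] at hu
    induction hu using Submodule.span_induction with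
    | mem x hx =>
      refine ⟨Pi.single (⟨x, Finset.mem_coe.mp hx⟩ : s) 1, ?_⟩
      rw [Fintype.linearCombination_apply,
        Finset.sum_eq_single (⟨x, Finset.mem_coe.mp hx⟩ : s)]
      · rw [Pi.single_eq_same, one_smul]
      · intro j _ hj
        rw [Pi.single_eq_of_ne hj, zero_smul]
      · intro hne
        exact absurd (Finset.mem_univ _) hne
    | zero => rw [map_zero]; exact Submodule.zero_mem _
    | add x y _ _ hx hy => rw [map_add]; exact Submodule.add_mem _ hx hy
    | smul r x _ hx =>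
      rw [map_smul, ← hmk]
      exact Submodule.smul_mem _ _ hx
  have hproj : Module.Projective (R ⧸ I)
      ((M ⧸ (I • ⊤ : Submodule R M)) ⧸ LinearMap.range δ1) := by
    refine projective_of_middle_exact' (LinearMap.ker δ1).subtype δ1 (LinearMap.range δ1).mkQ ?_
      (Submodule.mkQ_surjective _) (LinearMap.exact_map_mkQ_range δ1) ?_
    · exact LinearMap.ext fun x => x.2
    · intro m hm x hx
      haveI := hm
      obtain ⟨c, hc⟩ := Submodule.mkQ_surjective _ (tensorQuotEquivQuotSMul (s → R ⧸ I) m x)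
      have hx' : x = c ⊗ₜ[R ⧸ I] (1 : (R ⧸ I) ⧸ m) := by
        rw [← tensorQuotEquivQuotSMul_symm_mk m c, LinearEquiv.eq_symm_apply]
        exact hc.symm
      subst hx'
      rw [LinearMap.rTensor_tmul] at hx
      have h1' : (1 : (R ⧸ I) ⧸ m) = Ideal.Quotient.mk m 1 := rfl
      have h1 : δ1 c ∈ (m • ⊤ : Submodule (R ⧸ I) (M ⧸ (I • ⊤ : Submodule R M))) := by
        have h2 := congrArg (tensorQuotEquivQuotSMul (M ⧸ (I • ⊤ : Submodule R M)) m) hx
        rw [map_zero, h1', tensorQuotEquivQuotSMul_tmul_mk, one_smul] at h2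
        exact (Submodule.Quotient.mk_eq_zero _).mp h2
      have h𝔫max : (Ideal.comap (Ideal.Quotient.mk I) m).IsMaximal :=
        Ideal.comap_isMaximal_of_surjective _ Ideal.Quotient.mk_surjective
      have hI𝔫 : I ≤ Ideal.comap (Ideal.Quotient.mk I) m := fun a ha => by
        rw [Ideal.mem_comap, Ideal.Quotient.eq_zero_iff_mem.mpr ha]
        exact m.zero_mem
      choose c' hc' using fun i => Ideal.Quotient.mk_surjective (c i)
      have hcc' : c = fun i => Ideal.Quotient.mk I (c' i) := funext fun i => (hc' i).symm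
      have hu𝔫 : ∑ i, c' i • (i : M) ∈
          ((Ideal.comap (Ideal.Quotient.mk I) m) • ⊤ : Submodule R M) := by
        have h3 : π (∑ i, c' i • (i : M)) ∈
            (m • ⊤ : Submodule (R ⧸ I) (M ⧸ (I • ⊤ : Submodule R M))) := by
          rw [← hδ, ← hcc']
          exact h1
        have h4 : ∀ z ∈ (m • ⊤ : Submodule (R ⧸ I) (M ⧸ (I • ⊤ : Submodule R M))),
            ∃ v ∈ ((Ideal.comap (Ideal.Quotient.mk I) m) • ⊤ : Submodule R M), π v = z := by
          intro z hz
          refine Submodule.smul_induction_on hz ?_ ?_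
          · intro a ha n _
            obtain ⟨a', rfl⟩ := Ideal.Quotient.mk_surjective a
            obtain ⟨n', rfl⟩ := hπs n
            exact ⟨a' • n', Submodule.smul_mem_smul (Ideal.mem_comap.mpr ha) Submodule.mem_top,
              by rw [map_smul, hmk]⟩
          · rintro z₁ z₂ ⟨v₁, hv₁, rfl⟩ ⟨v₂, hv₂, rfl⟩
            exact ⟨v₁ + v₂, Submodule.add_mem _ hv₁ hv₂, map_add _ _ _⟩
        obtain ⟨v, hv, hv'⟩ := h4 _ h3
        have h5 : ∑ i, c' i • (i : M) - v ∈ (I • ⊤ : Submodule R M) := by
          rw [← hπk, map_sub, hv', sub_self]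
        have h6 : ∑ i, c' i • (i : M) = (∑ i, c' i • (i : M) - v) + v := by abel
        rw [h6]
        exact Submodule.add_mem _ (Submodule.smul_mono_left hI𝔫 h5) hv
      have h7 := h _ h𝔫max hI𝔫 ⟨hsum_mem c', hu𝔫⟩
      obtain ⟨a, ha, b, hb, hab⟩ := Submodule.mem_sup.mp h7
      rw [← hs] at ha
      have hsr : (↑s : Set M) = Set.range (fun i : s => (i : M)) := by
        ext x
        simp
      rw [hsr, Submodule.mem_ideal_smul_span_iff_exists_sum] at ha
      obtain ⟨d, hd, hda⟩ := ha
      have hda' : ∑ i, d i • (i : M) = a := by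
        rw [← hda, Finsupp.sum_fintype]
        intro i
        exact zero_smul _ _
      let e : s → R ⧸ I := fun i => Ideal.Quotient.mk I (c' i - d i)
      have he : δ1 e = 0 := by
        rw [hδ (fun i => c' i - d i), hπk]
        have h8 : ∑ i, (c' i - d i) • (i : M) = b := by
          simp only [sub_smul, Finset.sum_sub_distrib]
          rw [hda', ← hab]
          abel
        rw [h8]
        exact hb
      refine ⟨(⟨e, he⟩ : LinearMap.ker δ1) ⊗ₜ[R ⧸ I] (1 : (R ⧸ I) ⧸ m), ?_⟩
      rw [LinearMap.rTensor_tmul]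
      show e ⊗ₜ[R ⧸ I] (1 : (R ⧸ I) ⧸ m) = c ⊗ₜ[R ⧸ I] 1
      apply (tensorQuotEquivQuotSMul (s → R ⧸ I) m).injective
      rw [h1', tensorQuotEquivQuotSMul_tmul_mk, tensorQuotEquivQuotSMul_tmul_mk, one_smul,
        one_smul, Submodule.Quotient.eq]
      have hdiff : e - c = ∑ i, (Ideal.Quotient.mk I (- d i)) •
          (Pi.single i (1 : R ⧸ I) : s → R ⧸ I) := by
        funext j
        rw [Finset.sum_apply, hcc']
        simp only [e, Pi.sub_apply, Pi.smul_apply, Pi.single_apply, smul_eq_mul, mul_ite, mul_one,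
          mul_zero, Finset.sum_ite_eq, Finset.mem_univ, if_true, map_sub, map_neg]
        ring
      rw [hdiff]
      refine Submodule.sum_mem _ fun i _ => Submodule.smul_mem_smul ?_ Submodule.mem_top
      rw [map_neg]
      exact m.neg_mem (Ideal.mem_comap.mp (hd i))
  obtain ⟨σ, hσ⟩ := Module.projective_lifting_property (LinearMap.range δ1).mkQ LinearMap.id
    (Submodule.mkQ_surjective _)
  have hσ' : ∀ t, (LinearMap.range δ1).mkQ (σ t) = t := fun t => LinearMap.congr_fun hσ t
  refine ⟨Submodule.comap π (LinearMap.range (σ.restrictScalars R)), ?_, ?_⟩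
  · rw [eq_top_iff]
    intro x _
    have h1 : π x - σ ((LinearMap.range δ1).mkQ (π x)) ∈ LinearMap.range δ1 := by
      have h0 : (LinearMap.range δ1).mkQ (π x - σ ((LinearMap.range δ1).mkQ (π x))) = 0 := by
        rw [map_sub, hσ', sub_self]
      exact (Submodule.Quotient.mk_eq_zero _).mp h0
    obtain ⟨u, hu, hu'⟩ := hrange1 _ h1
    obtain ⟨x', hx'⟩ := hπs (σ ((LinearMap.range δ1).mkQ (π x)))
    have h2 : x - u - x' ∈ (I • ⊤ : Submodule R M) := by
      rw [← hπk, map_sub, map_sub, hu', hx']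
      abel
    have h3 : x = (u + (x - u - x')) + x' := by abel
    rw [h3]
    exact Submodule.add_mem_sup (U.add_mem hu (hIU h2))
      (Submodule.mem_comap.mpr ⟨(LinearMap.range δ1).mkQ (π x), hx'.symm⟩)
  · apply le_antisymm
    · rintro x ⟨hxU, hxC⟩
      obtain ⟨t, ht⟩ := Submodule.mem_comap.mp hxC
      have ht' : σ t = π x := ht
      have h1 : π x ∈ LinearMap.range δ1 := hrange2 x hxU
      have h2 : (LinearMap.range δ1).mkQ (π x) = 0 :=
        (Submodule.Quotient.mk_eq_zero _).mpr h1
      have h3 : t = 0 := by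
        have h4 := hσ' t
        rw [ht', h2] at h4
        exact h4.symm
      rw [← hπk, ← ht', h3, map_zero]
    · intro x hx
      refine ⟨hIU hx, Submodule.mem_comap.mpr ?_⟩
      rw [(hπk x).mpr hx]
      exact Submodule.zero_mem _

end DS

end Groth.Agent.Helper22.DieuDisp
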