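import Mathlib
import Groth.Prelude.Def_W4c1extbt610Disp

/-!
# Witt vectors of a perfect ring: the ideal of Witt vectors with coefficients in a prime ideal (helper22)
-/

set_option autoImplicit false

namespace Groth.Agent.Helper22.DieuDisp

open WittVector

universe u

variable (p : ℕ) [Fact p.Prime] {k : Type u} [CommRing k] [CharP k p]

section Basic

theorem p_mul_eq_zero [IsReduced k] (x : WittVector p k) (h : (p : WittVector p k) * x = 0) :
    x = 0 := by
  rw [mul_comm, ← verschiebung_frobenius] at h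
  have h1 : frobenius x = 0 := verschiebung_injective p k (by rw [h, map_zero])
  ext n
  have h2 := congrArg (fun y => y.coeff n) h1
  simp only [coeff_frobenius_charP, zero_coeff] at h2
  rw [zero_coeff]
  exact IsNilpotent.eq_zero ⟨p, h2⟩

/-- Witt vectors all of whose coefficients lie in `𝔪`. -/
noncomputable def J (𝔪 : Ideal k) : Ideal (WittVector p k) :=
  RingHom.ker (WittVector.map (Ideal.Quotient.mk 𝔪))

variable {p}

theorem mem_J {𝔪 : Ideal k} {w : WittVector p k} : w ∈ J p 𝔪 ↔ ∀ n, w.coeff n ∈ 𝔪 := by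
  rw [J, RingHom.mem_ker]
  constructor
  · intro h n
    have h1 := congrArg (fun y => y.coeff n) h
    simp only [map_coeff, zero_coeff] at h1
    exact Ideal.Quotient.eq_zero_iff_mem.mp h1
  · intro h
    ext n
    rw [map_coeff, zero_coeff]
    exact Ideal.Quotient.eq_zero_iff_mem.mpr (h n)

theorem mem_J_of_p_mul_mem {𝔪 : Ideal k} [h𝔪 : 𝔪.IsPrime] {w : WittVector p k}
    (h : (p : WittVector p k) * w ∈ J p 𝔪) : w ∈ J p 𝔪 := by
  rw [mem_J] at h ⊢
  intro n
  have h1 := h (n + 1)
  rw [mul_comm, mul_charP_coeff_succ] at h1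
  exact h𝔪.mem_of_pow_mem p h1

theorem frobenius_mem_J {𝔪 : Ideal k} {w : WittVector p k} (h : w ∈ J p 𝔪) :
    frobenius w ∈ J p 𝔪 := by
  rw [mem_J] at h ⊢
  intro n
  rw [coeff_frobenius_charP]
  exact Ideal.pow_mem_of_mem _ (h n) p (Fact.out : p.Prime).pos

end Basic

section Perfect

variable {p}
variable [PerfectRing k p]

theorem frobenius_frobeniusEquiv_symm (w : WittVector p k) :
    frobenius ((frobeniusEquiv p k).symm w) = w :=
  (frobeniusEquiv p k).apply_symm_apply w

theorem frobeniusEquiv_symm_frobenius (w : WittVector p k) :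
    (frobeniusEquiv p k).symm (frobenius w) = w :=
  (frobeniusEquiv p k).symm_apply_apply w

theorem frobeniusEquiv_symm_mem_J {𝔪 : Ideal k} [h𝔪 : 𝔪.IsPrime] {w : WittVector p k}
    (h : w ∈ J p 𝔪) : (frobeniusEquiv p k).symm w ∈ J p 𝔪 := by
  rw [mem_J] at h ⊢
  intro n
  have h2 := h n
  rw [← frobenius_frobeniusEquiv_symm w, coeff_frobenius_charP] at h2
  exact h𝔪.mem_of_pow_mem p h2

theorem verschiebung_eq (w : WittVector p k) :
    verschiebung w = (p : WittVector p k) * (frobeniusEquiv p k).symm w := by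
  conv_lhs => rw [← frobenius_frobeniusEquiv_symm w]
  rw [verschiebung_frobenius, mul_comm]

theorem exists_eq_p_mul_of_coeff_zero (x : WittVector p k) (h : x.coeff 0 = 0) :
    ∃ y, x = (p : WittVector p k) * y := by
  have h1 : verschiebung (x.shift 1) = x.shift 0 := verschiebung_shift x 0 (fun i hi => by
    have h0 : i = 0 := by omega
    rw [h0]
    exact h)
  have h2 : x.shift 0 = x := by
    ext n
    rw [shift_coeff, zero_add]
  exact ⟨(frobeniusEquiv p k).symm (x.shift 1), by rw [← verschiebung_eq, h1, h2]⟩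

theorem IV_eq : W4c1extbt610.IV p k = Ideal.span {(p : WittVector p k)} := by
  apply le_antisymm
  · rw [W4c1extbt610.IV, Ideal.span_le]
    rintro _ ⟨w, rfl⟩
    rw [verschiebung_eq]
    exact Ideal.mul_mem_right _ _ (Ideal.subset_span rfl)
  · rw [Ideal.span_le]
    intro x hx
    rw [Set.mem_singleton_iff] at hx
    rw [hx]
    have h1 : (p : WittVector p k) = verschiebung (frobenius (1 : WittVector p k)) := by
      rw [verschiebung_frobenius, one_mul]
    rw [h1]
    exact W4c1extbt610.verschiebung_mem_IV p k _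

theorem exists_J_add_p_mul {𝔪 : Ideal k} {w : WittVector p k} (h : w.coeff 0 ∈ 𝔪) :
    ∃ j ∈ J p 𝔪, ∃ y, w = j + (p : WittVector p k) * y := by
  have hj : teichmuller p (w.coeff 0) ∈ J p 𝔪 := by
    rw [mem_J]
    intro n
    rcases Nat.eq_zero_or_pos n with rfl | hn
    · rw [teichmuller_coeff_zero]
      exact h
    · rw [teichmuller_coeff_pos p _ n hn]
      exact 𝔪.zero_mem
  have h0 : (w - teichmuller p (w.coeff 0)).coeff 0 = 0 := by
    show constantCoeff (w - teichmuller p (w.coeff 0)) = 0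
    rw [map_sub]
    show w.coeff 0 - (teichmuller p (w.coeff 0)).coeff 0 = 0
    rw [teichmuller_coeff_zero, sub_self]
  obtain ⟨y, hy⟩ := exists_eq_p_mul_of_coeff_zero _ h0
  exact ⟨_, hj, y, by rw [← hy]; ring⟩

theorem exists_prime_of_maximal (𝔫 : Ideal (WittVector p k)) [h𝔫 : 𝔫.IsMaximal]
    (hp : (p : WittVector p k) ∈ 𝔫) :
    ∃ 𝔪 : Ideal k, 𝔪.IsPrime ∧ (∀ w ∈ 𝔫, w.coeff 0 ∈ 𝔪) ∧ J p 𝔪 ≤ 𝔫 := by
  have hsurj : Function.Surjective (constantCoeff : WittVector p k →+* k) := fun r =>
    ⟨teichmuller p r, teichmuller_coeff_zero p r⟩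
  have hker : ∀ x : WittVector p k, x.coeff 0 = 0 → x ∈ 𝔫 := by
    intro x hx
    obtain ⟨y, rfl⟩ := exists_eq_p_mul_of_coeff_zero x hx
    exact 𝔫.mul_mem_right _ hp
  have hker' : RingHom.ker (constantCoeff : WittVector p k →+* k) ≤ 𝔫 := fun x hx =>
    hker x (RingHom.mem_ker.mp hx)
  haveI := h𝔫.isPrime
  refine ⟨Ideal.map (constantCoeff : WittVector p k →+* k) 𝔫,
    Ideal.map_isPrime_of_surjective hsurj hker', fun w hw => Ideal.mem_map_of_mem _ hw, ?_⟩
  intro j hj
  have h1 : j.coeff 0 ∈ Ideal.map (constantCoeff : WittVector p k →+* k) 𝔫 := (mem_J.mp hj) 0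
  obtain ⟨n, hn, hn'⟩ := (Ideal.mem_map_iff_of_surjective _ hsurj).mp h1
  have h2 : (j - n).coeff 0 = 0 := by
    show constantCoeff (j - n) = 0
    rw [map_sub, hn']
    exact sub_self _
  have h3 : j = (j - n) + n := by ring
  rw [h3]
  exact 𝔫.add_mem (hker _ h2) hn

end Perfect

end Groth.Agent.Helper22.DieuDisp
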