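import Mathlib

/-!
# Division by `p^u` in Witt vectors of a `p`-torsion-free `p`-adically complete ring (helper22)
-/

namespace Groth.Agent.Helper22.WittDiv

open scoped BigOperators

variable {p : ℕ} [hp : Fact p.Prime] {R : Type*} [CommRing R]

local notation "𝕎" => WittVector p

theorem tf_pow (hR : ∀ y : R, (p : R) * y = 0 → y = 0) (n : ℕ) (y : R)
    (h : (p : R) ^ n * y = 0) : y = 0 := by
  induction n with
  | zero => simpa using h
  | succ n ih =>
    apply ih
    apply hR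
    rw [← mul_assoc, ← pow_succ']
    exact h

theorem cancel_pow (hR : ∀ y : R, (p : R) * y = 0 → y = 0) (n t : ℕ) (y : R)
    (h : (p : R) ^ n * y ∈ Ideal.span {(p : R) ^ (t + n)}) : y ∈ Ideal.span {(p : R) ^ t} := by
  obtain ⟨a, ha⟩ := Ideal.mem_span_singleton'.1 h
  have h0 : (p : R) ^ n * (y - a * (p : R) ^ t) = 0 := by
    rw [mul_sub, ← ha]; ring
  have h1 := tf_pow hR n _ h0
  exact Ideal.mem_span_singleton'.2 ⟨a, (sub_eq_zero.1 h1).symm⟩

theorem ghost_eq (n : ℕ) (x : 𝕎 R) :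
    WittVector.ghostComponent n x =
      ∑ i ∈ Finset.range (n + 1), (p : R) ^ i * x.coeff i ^ p ^ (n - i) := by
  rw [WittVector.ghostComponent_apply, aeval_wittPolynomial]

theorem ghost_mem (T : ℕ) (y : 𝕎 R) (n : ℕ)
    (h : ∀ i ≤ n, y.coeff i ∈ Ideal.span {(p : R) ^ T}) :
    WittVector.ghostComponent n y ∈ Ideal.span {(p : R) ^ T} := by
  rw [ghost_eq]
  refine Ideal.sum_mem _ fun i hi => Ideal.mul_mem_left _ _ ?_
  exact Ideal.pow_mem_of_mem _ (h i (Nat.lt_succ_iff.1 (Finset.mem_range.1 hi))) _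
    (pow_pos hp.out.pos _)

theorem coeff_mem_of_ghost_mem (hR : ∀ y : R, (p : R) * y = 0 → y = 0) {t : ℕ} (ht : 0 < t)
    (y : 𝕎 R) (m : ℕ)
    (h : ∀ n < m, WittVector.ghostComponent n y ∈ Ideal.span {(p : R) ^ (t + n)}) :
    ∀ n < m, y.coeff n ∈ Ideal.span {(p : R) ^ t} := by
  intro n
  induction n using Nat.strong_induction_on with
  | _ n ih =>
    intro hn
    have hg := h n hn
    rw [ghost_eq, Finset.sum_range_succ, Nat.sub_self, pow_zero, pow_one] at hg
    have hsum : ∑ i ∈ Finset.range n, (p : R) ^ i * y.coeff i ^ p ^ (n - i) ∈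
        Ideal.span {(p : R) ^ (t + n)} := by
      refine Ideal.sum_mem _ fun i hi => ?_
      have hi' : i < n := Finset.mem_range.1 hi
      have hyi := ih i hi' (hi'.trans hn)
      rw [Ideal.mem_span_singleton] at hyi ⊢
      have hk1 : (n - i) + 1 ≤ p ^ (n - i) := Nat.lt_pow_self hp.out.one_lt
      have hk2 : t * (n - i) + t ≤ t * p ^ (n - i) := by
        calc t * (n - i) + t = t * ((n - i) + 1) := by ring
          _ ≤ t * p ^ (n - i) := Nat.mul_le_mul_left t hk1
      have hk3 : n - i ≤ t * (n - i) := Nat.le_mul_of_pos_left _ ht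
      have hexp : t + n ≤ i + t * p ^ (n - i) := by omega
      calc (p : R) ^ (t + n) ∣ (p : R) ^ (i + t * p ^ (n - i)) := pow_dvd_pow _ hexp
        _ = (p : R) ^ i * ((p : R) ^ t) ^ p ^ (n - i) := by rw [pow_add, pow_mul]
        _ ∣ (p : R) ^ i * y.coeff i ^ p ^ (n - i) :=
            mul_dvd_mul_left _ (pow_dvd_pow_of_dvd hyi _)
    have hpn : (p : R) ^ n * y.coeff n ∈ Ideal.span {(p : R) ^ (t + n)} := by
      have h1 := Ideal.sub_mem _ hg hsum
      rwa [add_sub_cancel_left] at h1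
    exact cancel_pow hR n t _ hpn

theorem division (hR : ∀ y : R, (p : R) * y = 0 → y = 0) (t u m : ℕ) (y : 𝕎 R)
    (h : ∀ i < m, ((p : 𝕎 R) ^ u * y).coeff i ∈ Ideal.span {(p : R) ^ (t + u + m)}) :
    ∀ i < m, y.coeff i ∈ Ideal.span {(p : R) ^ t} := by
  rcases Nat.eq_zero_or_pos t with rfl | ht
  · intro i _
    rw [pow_zero, Ideal.span_singleton_one]
    exact Submodule.mem_top
  · refine coeff_mem_of_ghost_mem hR ht y m fun n hn => ?_
    have h1 : WittVector.ghostComponent n ((p : 𝕎 R) ^ u * y) ∈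
        Ideal.span {(p : R) ^ (t + u + m)} :=
      ghost_mem _ _ n fun i hi => h i (lt_of_le_of_lt hi hn)
    rw [map_mul, map_pow, map_natCast] at h1
    have e : t + u + m = (t + m) + u := by omega
    rw [e] at h1
    have h2 := cancel_pow hR u (t + m) _ h1
    refine Ideal.span_singleton_le_span_singleton.2 ?_ h2
    exact pow_dvd_pow _ (by omega)

variable (p R) in
/-- Witt vectors whose first `m` components lie in `p^t R`. -/
noncomputable def J (m t : ℕ) : Ideal (𝕎 R) :=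
  RingHom.ker ((WittVector.truncate (p := p) m).comp
    (WittVector.map (Ideal.Quotient.mk (Ideal.span {(p : R) ^ t}))))

theorem mem_J {m t : ℕ} {w : 𝕎 R} :
    w ∈ J p R m t ↔ ∀ i < m, w.coeff i ∈ Ideal.span {(p : R) ^ t} := by
  unfold J
  rw [RingHom.mem_ker, RingHom.comp_apply, ← RingHom.mem_ker, WittVector.mem_ker_truncate]
  simp only [WittVector.map_coeff, Ideal.Quotient.eq_zero_iff_mem]

theorem sub_mem_J_iff {m t : ℕ} {x y : 𝕎 R} :
    x - y ∈ J p R m t ↔ ∀ i < m, x.coeff i - y.coeff i ∈ Ideal.span {(p : R) ^ t} := by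
  unfold J
  rw [RingHom.sub_mem_ker_iff, RingHom.comp_apply, RingHom.comp_apply,
    TruncatedWittVector.ext_iff]
  simp only [WittVector.coeff_truncate, WittVector.map_coeff, Ideal.Quotient.eq]
  exact Fin.forall_iff

theorem J_mono {m t t' : ℕ} (h : t ≤ t') : J p R m t' ≤ J p R m t := by
  intro w hw
  rw [mem_J] at hw ⊢
  exact fun i hi =>
    Ideal.span_singleton_le_span_singleton.2 (pow_dvd_pow _ h) (hw i hi)

theorem pow_smul_top_eq (s : ℕ) :
    ((Ideal.span {(p : R)}) ^ s • (⊤ : Submodule R R)) = Ideal.span {(p : R) ^ s} := by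
  rw [Ideal.span_singleton_pow, smul_eq_mul, Ideal.mul_top]

theorem exists_solution (hR : ∀ y : R, (p : R) * y = 0 → y = 0)
    [IsAdicComplete (Ideal.span {(p : R)}) R]
    (a : 𝕎 R) (m u : ℕ)
    (h : ∀ s : ℕ, ∃ z : 𝕎 R, ∀ i < m,
      ((p : 𝕎 R) ^ u * z - a).coeff i ∈ Ideal.span {(p : R) ^ s}) :
    ∃ x : 𝕎 R, ∀ i < m, ((p : 𝕎 R) ^ u * x - a).coeff i = 0 := by
  have h' : ∀ s : ℕ, ∃ z : 𝕎 R, (p : 𝕎 R) ^ u * z - a ∈ J p R m (s + u + m) := fun s => by
    obtain ⟨z, hz⟩ := h (s + u + m)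
    exact ⟨z, mem_J.2 hz⟩
  choose zz hzz using h'
  have hcauchy : ∀ s s' : ℕ, s ≤ s' → zz s' - zz s ∈ J p R m s := by
    intro s s' hss
    have h1 : (p : 𝕎 R) ^ u * (zz s' - zz s) ∈ J p R m (s + u + m) := by
      have e : (p : 𝕎 R) ^ u * (zz s' - zz s) =
          ((p : 𝕎 R) ^ u * zz s' - a) - ((p : 𝕎 R) ^ u * zz s - a) := by ring
      rw [e]
      exact Ideal.sub_mem _ (J_mono (by omega) (hzz s')) (hzz s)
    exact mem_J.2 (division hR s u m _ (mem_J.1 h1))
  have hlim : ∀ n : ℕ, ∃ L : R, n < m →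
      ∀ s : ℕ, (zz s).coeff n - L ∈ Ideal.span {(p : R) ^ s} := by
    intro n
    by_cases hn : n < m
    · have hc : ∀ {s s' : ℕ}, s ≤ s' → (zz s).coeff n ≡ (zz s').coeff n
          [SMOD ((Ideal.span {(p : R)}) ^ s • (⊤ : Submodule R R))] := by
        intro s s' hss
        rw [SModEq.sub_mem, pow_smul_top_eq]
        have h2 := sub_mem_J_iff.1 (hcauchy s s' hss) n hn
        rw [← neg_sub]
        exact neg_mem_iff.2 h2
      obtain ⟨L, hL⟩ := IsPrecomplete.prec' (I := Ideal.span {(p : R)})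
        (fun s => (zz s).coeff n) @hc
      refine ⟨L, fun _ s => ?_⟩
      have h3 := hL s
      rw [SModEq.sub_mem, pow_smul_top_eq] at h3
      exact h3
    · exact ⟨0, fun h => absurd h hn⟩
  choose L hL using hlim
  have hx : ∀ s : ℕ, WittVector.mk p L - zz s ∈ J p R m s := by
    intro s
    rw [sub_mem_J_iff]
    intro i hi
    have h4 := hL i hi s
    rw [← neg_sub]
    exact neg_mem_iff.2 h4
  have hall : ∀ s : ℕ, (p : 𝕎 R) ^ u * WittVector.mk p L - a ∈ J p R m s := by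
    intro s
    have e : (p : 𝕎 R) ^ u * WittVector.mk p L - a =
        (p : 𝕎 R) ^ u * (WittVector.mk p L - zz s) + ((p : 𝕎 R) ^ u * zz s - a) := by ring
    rw [e]
    exact Ideal.add_mem _ (Ideal.mul_mem_left _ _ (hx s)) (J_mono (by omega) (hzz s))
  refine ⟨WittVector.mk p L, fun i hi => ?_⟩
  refine IsHausdorff.haus' (I := Ideal.span {(p : R)}) _ fun s => ?_
  rw [SModEq.zero, pow_smul_top_eq]
  exact mem_J.1 (hall s) i hi

theorem division_exact (hR : ∀ y : R, (p : R) * y = 0 → y = 0)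
    [IsAdicComplete (Ideal.span {(p : R)}) R] (u m : ℕ) (y : 𝕎 R)
    (h : ∀ i < m, ((p : 𝕎 R) ^ u * y).coeff i = 0) : ∀ i < m, y.coeff i = 0 := by
  intro i hi
  refine IsHausdorff.haus' (I := Ideal.span {(p : R)}) _ fun t => ?_
  rw [SModEq.zero, pow_smul_top_eq]
  refine division hR t u m y (fun j hj => ?_) i hi
  rw [h j hj]
  exact Ideal.zero_mem _

theorem closed (hS : ∀ y : R, (p : R) * y = 0 → y = 0)
    [IsAdicComplete (Ideal.span {(p : R)}) R] (u : ℕ) :
    (⨅ r : ℕ, ⨅ s : ℕ,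
        Ideal.span {(p : 𝕎 R) ^ u} ⊔ RingHom.ker (WittVector.truncate (p := p) (R := R) r) ⊔
          RingHom.ker (WittVector.map (p := p)
            (Ideal.Quotient.mk (Ideal.span {(p : R) ^ s})))) =
      Ideal.span {(p : 𝕎 R) ^ u} := by
  refine le_antisymm ?_ (le_iInf fun r => le_iInf fun s => le_sup_of_le_left le_sup_left)
  intro a ha
  have h1 : ∀ r s : ℕ, ∃ z : 𝕎 R, ∀ i < r,
      ((p : 𝕎 R) ^ u * z - a).coeff i ∈ Ideal.span {(p : R) ^ s} := by
    intro r s
    have har := Ideal.mem_iInf.1 (Ideal.mem_iInf.1 ha r) s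
    obtain ⟨yi, hyi, w, hw, rfl⟩ := Submodule.mem_sup.1 har
    obtain ⟨y, hy, i0, hi0, rfl⟩ := Submodule.mem_sup.1 hyi
    obtain ⟨c, rfl⟩ := Ideal.mem_span_singleton'.1 hy
    refine ⟨c, mem_J.1 ?_⟩
    have e : (p : 𝕎 R) ^ u * c - (c * (p : 𝕎 R) ^ u + i0 + w) = -(i0 + w) := by ring
    rw [e]
    refine neg_mem (Ideal.add_mem _ ?_ ?_)
    · rw [mem_J]
      intro i hi
      rw [(WittVector.mem_ker_truncate r i0).1 hi0 i hi]
      exact Ideal.zero_mem _
    · rw [mem_J]
      intro i _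
      have h0 : (WittVector.map (Ideal.Quotient.mk (Ideal.span {(p : R) ^ s})) w).coeff i = 0 := by
        rw [RingHom.mem_ker.1 hw]; simp
      rwa [WittVector.map_coeff, Ideal.Quotient.eq_zero_iff_mem] at h0
  have h2 : ∀ r : ℕ, ∃ x : 𝕎 R, ∀ i < r, ((p : 𝕎 R) ^ u * x - a).coeff i = 0 :=
    fun r => exists_solution hS a r u (h1 r)
  choose xx hxx using h2
  have hagree : ∀ r r' : ℕ, r ≤ r' → ∀ i < r, (xx r').coeff i = (xx r).coeff i := by
    intro r r' hrr
    have h3 : ∀ i < r, ((p : 𝕎 R) ^ u * (xx r' - xx r)).coeff i = 0 := by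
      rw [← WittVector.mem_ker_truncate]
      have e : (p : 𝕎 R) ^ u * (xx r' - xx r) =
          ((p : 𝕎 R) ^ u * xx r' - a) - ((p : 𝕎 R) ^ u * xx r - a) := by ring
      rw [e]
      refine Ideal.sub_mem _ ?_ ?_
      · rw [WittVector.mem_ker_truncate]
        exact fun i hi => hxx r' i (lt_of_lt_of_le hi hrr)
      · rw [WittVector.mem_ker_truncate]
        exact hxx r
    have h4 := division_exact hS u r _ h3
    rw [← WittVector.mem_ker_truncate, RingHom.sub_mem_ker_iff] at h4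
    intro i hi
    have h5 := congrArg (fun v => TruncatedWittVector.coeff ⟨i, hi⟩ v) h4
    simpa [WittVector.coeff_truncate] using h5
  obtain ⟨x, hx⟩ : ∃ x : 𝕎 R, ∀ n, x.coeff n = (xx (n + 1)).coeff n :=
    ⟨WittVector.mk p _, fun n => rfl⟩
  have hxr : ∀ r : ℕ, x - xx r ∈ RingHom.ker (WittVector.truncate (p := p) (R := R) r) := by
    intro r
    rw [RingHom.sub_mem_ker_iff]
    refine TruncatedWittVector.ext fun i => ?_
    rw [WittVector.coeff_truncate, WittVector.coeff_truncate, hx]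
    exact (hagree ((i : ℕ) + 1) r (Nat.succ_le_of_lt i.2) i (Nat.lt_succ_self _)).symm
  have hzero : (p : 𝕎 R) ^ u * x - a = 0 := by
    refine WittVector.ext fun n => ?_
    have h6 : (p : 𝕎 R) ^ u * x - a ∈
        RingHom.ker (WittVector.truncate (p := p) (R := R) (n + 1)) := by
      have e : (p : 𝕎 R) ^ u * x - a =
          (p : 𝕎 R) ^ u * (x - xx (n + 1)) + ((p : 𝕎 R) ^ u * xx (n + 1) - a) := by ring
      rw [e]
      refine Ideal.add_mem _ (Ideal.mul_mem_left _ _ (hxr (n + 1))) ?_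
      rw [WittVector.mem_ker_truncate]
      exact hxx (n + 1)
    rw [WittVector.mem_ker_truncate] at h6
    rw [WittVector.zero_coeff]
    exact h6 n (Nat.lt_succ_self n)
  rw [Ideal.mem_span_singleton']
  exact ⟨x, by rw [mul_comm]; exact sub_eq_zero.1 hzero⟩

end Groth.Agent.Helper22.WittDiv
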