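import Mathlib
import Groth.Agent.Lib.Helper22.WittDiv
import Groth.Agent.S14864

/-!
# `W(R)` is `p`-adically and `I_R`-adically complete when `R` is `p`-adically complete (helper22)

No torsion-freeness hypothesis.  The proof uses the auxiliary "product" topology on `W(R)` given by
the ideals `T n` of Witt vectors whose first `n` coefficients lie in `p^n R`.
-/

set_option autoImplicit false
universe u

namespace Groth.Agent.Helper22.WittCompl

open WittVector
open scoped BigOperators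

variable {p : ℕ} [hp : Fact p.Prime] {R : Type u} [CommRing R]

local notation "𝕎" => WittVector p

variable (p R) in
/-- Witt vectors whose first `n` coefficients lie in `p^n R`. -/
noncomputable abbrev T (n : ℕ) : Ideal (𝕎 R) := WittDiv.J p R n n

theorem exists_pow_mem_T (n : ℕ) :
    ∃ N : ℕ, ∀ N' : ℕ, N ≤ N' → (p : 𝕎 R) ^ N' ∈ T p R n := by
  have hnil : IsNilpotent ((p : ℕ) : R ⧸ Ideal.span {(p : R) ^ n}) := by
    refine ⟨n, ?_⟩
    have h0 : ((p : ℕ) : R ⧸ Ideal.span {(p : R) ^ n}) ^ n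
        = Ideal.Quotient.mk (Ideal.span {(p : R) ^ n}) ((p : R) ^ n) := by
      rw [map_pow, map_natCast]
    rw [h0, Ideal.Quotient.eq_zero_iff_mem]
    exact Ideal.mem_span_singleton_self _
  obtain ⟨N, hN⟩ := (Groth.Agent.S14864.result p (R ⧸ Ideal.span {(p : R) ^ n}) hnil).2.2 n
  have h0 : (p : 𝕎 R) ^ N ∈ T p R n := by
    show (p : 𝕎 R) ^ N ∈ RingHom.ker ((WittVector.truncate (p := p) n).comp
      (WittVector.map (Ideal.Quotient.mk (Ideal.span {(p : R) ^ n}))))
    rw [RingHom.mem_ker, RingHom.comp_apply, map_pow, map_natCast, ← RingHom.mem_ker]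
    apply hN
    rw [Ideal.span_singleton_pow]
    exact Ideal.mem_span_singleton_self _
  refine ⟨N, fun N' hN' => ?_⟩
  obtain ⟨d, rfl⟩ := Nat.exists_eq_add_of_le hN'
  rw [pow_add]
  exact Ideal.mul_mem_right _ _ h0

theorem eq_of_forall_sub_mem_T [IsHausdorff (Ideal.span {(p : R)}) R] {x y : 𝕎 R}
    (h : ∀ n, x - y ∈ T p R n) : x = y := by
  refine WittVector.ext fun i => ?_
  rw [← sub_eq_zero]
  refine IsHausdorff.haus' (I := Ideal.span {(p : R)}) _ fun s => ?_
  rw [SModEq.zero, WittDiv.pow_smul_top_eq]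
  have h1 := WittDiv.sub_mem_J_iff.1 (h (max s (i + 1))) i
    (lt_of_lt_of_le (Nat.lt_succ_self i) (le_max_right _ _))
  exact Ideal.span_singleton_le_span_singleton.2 (pow_dvd_pow _ (le_max_left _ _)) h1

theorem exists_limit [IsPrecomplete (Ideal.span {(p : R)}) R] (S : ℕ → 𝕎 R)
    (hS : ∀ n, ∃ N₀, ∀ N, N₀ ≤ N → S (N + 1) - S N ∈ T p R n) :
    ∃ L : 𝕎 R, ∀ n, ∃ N₀, ∀ N, N₀ ≤ N → L - S N ∈ T p R n := by
  choose N₀ hN₀ using hS
  have hC : ∀ n N N', N₀ n ≤ N → N ≤ N' → S N' - S N ∈ T p R n := by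
    intro n N N' hN hNN'
    obtain ⟨d, rfl⟩ := Nat.exists_eq_add_of_le hNN'
    clear hNN'
    induction d with
    | zero => simp
    | succ d ih =>
      have e : S (N + (d + 1)) - S N = (S (N + d + 1) - S (N + d)) + (S (N + d) - S N) := by
        have h0 : N + (d + 1) = N + d + 1 := rfl
        rw [h0]; ring
      rw [e]
      exact Ideal.add_mem _ (hN₀ n (N + d) (le_trans hN (Nat.le_add_right _ _))) ih
  let g : ℕ → ℕ := fun n => (Finset.range (n + 1)).sup N₀
  have hg1 : ∀ n, N₀ n ≤ g n := fun n =>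
    Finset.le_sup (f := N₀) (Finset.mem_range.2 (Nat.lt_succ_self n))
  have hg2 : ∀ m n, m ≤ n → g m ≤ g n := fun m n h =>
    Finset.sup_mono (Finset.range_mono (Nat.succ_le_succ h))
  have hf : ∀ m n, m ≤ n → S (g n) - S (g m) ∈ T p R m := fun m n h =>
    hC m (g m) (g n) (hg1 m) (hg2 m n h)
  have hcoef : ∀ i : ℕ, ∃ L : R, ∀ n,
      (S (g (n + i + 1))).coeff i - L ∈ Ideal.span {(p : R) ^ n} := by
    intro i
    obtain ⟨L, hL⟩ := IsPrecomplete.prec' (I := Ideal.span {(p : R)})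
      (fun n => (S (g (n + i + 1))).coeff i) (by
        intro m n hmn
        show (S (g (m + i + 1))).coeff i ≡ (S (g (n + i + 1))).coeff i
          [SMOD ((Ideal.span {(p : R)}) ^ m • (⊤ : Submodule R R))]
        rw [SModEq.sub_mem, WittDiv.pow_smul_top_eq]
        have h1 := WittDiv.sub_mem_J_iff.1 (hf (m + i + 1) (n + i + 1) (by omega)) i (by omega)
        have h2 := Ideal.span_singleton_le_span_singleton.2
          (pow_dvd_pow (p : R) (show m ≤ m + i + 1 by omega)) h1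
        have h3 := neg_mem h2
        rwa [neg_sub] at h3)
    refine ⟨L, fun n => ?_⟩
    have h4 := hL n
    rw [SModEq.sub_mem, WittDiv.pow_smul_top_eq] at h4
    exact h4
  choose Lc hLc using hcoef
  refine ⟨WittVector.mk p Lc, fun n => ⟨g (2 * n), fun N hN => ?_⟩⟩
  rw [WittDiv.sub_mem_J_iff]
  intro i hi
  rw [WittVector.coeff_mk]
  have h1 := hLc i n
  have h2 : (S N).coeff i - (S (g (n + i + 1))).coeff i ∈ Ideal.span {(p : R) ^ n} := by
    have h3 := WittDiv.sub_mem_J_iff.1 (hC (n + i + 1) (g (n + i + 1)) N (hg1 _)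
      (le_trans (hg2 _ _ (by omega)) hN)) i (by omega)
    exact Ideal.span_singleton_le_span_singleton.2
      (pow_dvd_pow (p : R) (show n ≤ n + i + 1 by omega)) h3
  have e : Lc i - (S N).coeff i = -((S (g (n + i + 1))).coeff i - Lc i) -
      ((S N).coeff i - (S (g (n + i + 1))).coeff i) := by ring
  rw [e]
  exact Ideal.sub_mem _ (neg_mem h1) h2

theorem precomplete_aux [IsAdicComplete (Ideal.span {(p : R)}) R]
    (D : ℕ → Ideal (𝕎 R)) (φ : ℕ → 𝕎 R →+ 𝕎 R) (Nt : ℕ → ℕ → ℕ)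
    (hφT : ∀ k n w, w ∈ T p R n → φ k w ∈ T p R n)
    (hD : ∀ k j, k ≤ j → ∀ w ∈ D j, ∃ e, φ k e = w ∧ ∀ n, Nt k n ≤ j → e ∈ T p R n)
    (hD' : ∀ k e, φ k e ∈ D k)
    (f : ℕ → 𝕎 R) (hf : ∀ j, f (j + 1) - f j ∈ D j) :
    ∃ L, ∀ k, L - f k ∈ D k := by
  have hDT : ∀ n j, Nt 0 n ≤ j → D j ≤ T p R n := by
    intro n j hj w hw
    obtain ⟨e, he, hes⟩ := hD 0 j (Nat.zero_le _) w hw
    rw [← he]
    exact hφT 0 n e (hes n hj)
  obtain ⟨L, hL⟩ := exists_limit f (fun n => ⟨Nt 0 n, fun N hN => hDT n N hN (hf N)⟩)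
  refine ⟨L, fun k => ?_⟩
  have hex : ∀ i : ℕ, ∃ e, φ k e = f (k + i + 1) - f (k + i) ∧
      ∀ n, Nt k n ≤ k + i → e ∈ T p R n :=
    fun i => hD k (k + i) (Nat.le_add_right _ _) _ (hf (k + i))
  choose e he hes using hex
  have hSsucc : ∀ N, (∑ i ∈ Finset.range (N + 1), e i) - (∑ i ∈ Finset.range N, e i) = e N :=
    fun N => by rw [Finset.sum_range_succ]; ring
  obtain ⟨Sg, hSg⟩ := exists_limit (fun N => ∑ i ∈ Finset.range N, e i) (fun n => ⟨Nt k n, fun N hN => by
    show (∑ i ∈ Finset.range (N + 1), e i) - (∑ i ∈ Finset.range N, e i) ∈ T p R n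
    rw [hSsucc]; exact hes N n (le_trans hN (Nat.le_add_left _ _))⟩)
  have hφS : ∀ N, φ k (∑ i ∈ Finset.range N, e i) = f (k + N) - f k := by
    intro N
    rw [map_sum]
    simp only [he]
    exact Finset.sum_range_sub (fun i => f (k + i)) N
  have key : L - f k = φ k Sg := by
    refine eq_of_forall_sub_mem_T fun n => ?_
    obtain ⟨N₁, hN₁⟩ := hL n
    obtain ⟨N₂, hN₂⟩ := hSg n
    have h1 : L - f (k + max N₁ N₂) ∈ T p R n :=
      hN₁ _ (le_trans (le_max_left _ _) (Nat.le_add_left _ _))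
    have h2 : φ k (Sg - ∑ i ∈ Finset.range (max N₁ N₂), e i) ∈ T p R n :=
      hφT k n _ (hN₂ _ (le_max_right _ _))
    have e' : L - f k - φ k Sg =
        (L - f (k + max N₁ N₂)) - φ k (Sg - ∑ i ∈ Finset.range (max N₁ N₂), e i) := by
      rw [map_sub, hφS]; ring
    rw [e']
    exact Ideal.sub_mem _ h1 h2
  rw [key]
  exact hD' k Sg

theorem smul_top_eq (J : Ideal (𝕎 R)) : (J • (⊤ : Submodule (𝕎 R) (𝕎 R))) = J := by
  rw [smul_eq_mul, Ideal.mul_top]

theorem isAdicComplete_p [IsAdicComplete (Ideal.span {(p : R)}) R] :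
    IsAdicComplete (Ideal.span {(p : 𝕎 R)}) (𝕎 R) := by
  choose N₁ hN₁ using (exists_pow_mem_T (p := p) (R := R))
  have hDT : ∀ n j, N₁ n ≤ j → Ideal.span {(p : 𝕎 R)} ^ j ≤ T p R n := by
    intro n j hj
    rw [Ideal.span_singleton_pow, Ideal.span_singleton_le_iff_mem]
    exact hN₁ n j hj
  have h1 : IsHausdorff (Ideal.span {(p : 𝕎 R)}) (𝕎 R) := by
    refine ⟨fun x hx => ?_⟩
    refine eq_of_forall_sub_mem_T fun n => ?_
    rw [sub_zero]
    have h1 := hx (N₁ n)
    rw [SModEq.zero, smul_top_eq] at h1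
    exact hDT n (N₁ n) le_rfl h1
  have h2 : IsPrecomplete (Ideal.span {(p : 𝕎 R)}) (𝕎 R) := by
    refine ⟨fun f hf => ?_⟩
    have hf' : ∀ j, f (j + 1) - f j ∈ Ideal.span {(p : 𝕎 R)} ^ j := by
      intro j
      have h1 := hf (Nat.le_add_right j 1)
      rw [SModEq.sub_mem, smul_top_eq] at h1
      have h2 := neg_mem h1
      rwa [neg_sub] at h2
    obtain ⟨L, hL⟩ := precomplete_aux (fun j => Ideal.span {(p : 𝕎 R)} ^ j)
      (fun k => AddMonoidHom.mulLeft ((p : 𝕎 R) ^ k)) (fun k n => k + N₁ n)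
      (fun k n w hw => Ideal.mul_mem_left _ _ hw)
      (by
        intro k j hkj w hw
        have hw' : w ∈ Ideal.span {(p : 𝕎 R)} ^ j := hw
        rw [Ideal.span_singleton_pow, Ideal.mem_span_singleton'] at hw'
        obtain ⟨a, rfl⟩ := hw'
        refine ⟨(p : 𝕎 R) ^ (j - k) * a, ?_, fun n hn => ?_⟩
        · show (p : 𝕎 R) ^ k * ((p : 𝕎 R) ^ (j - k) * a) = a * (p : 𝕎 R) ^ j
          rw [← mul_assoc, ← pow_add, Nat.add_sub_cancel' hkj, mul_comm]
        · exact Ideal.mul_mem_right _ _ (hN₁ n (j - k) (by omega)))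
      (by
        intro k e
        show (p : 𝕎 R) ^ k * e ∈ Ideal.span {(p : 𝕎 R)} ^ k
        rw [Ideal.span_singleton_pow]
        exact Ideal.mul_mem_right _ _ (Ideal.mem_span_singleton_self _))
      f hf'
    refine ⟨L, fun k => ?_⟩
    rw [SModEq.sub_mem, smul_top_eq]
    have h2 := neg_mem (hL k)
    rwa [neg_sub] at h2
  exact (isAdicComplete_iff _ _).2 ⟨h1, h2⟩

/-! ### The `I_R`-adic topology -/

theorem vmulv (a b : 𝕎 R) :
    verschiebung a * verschiebung b = (p : 𝕎 R) * verschiebung (a * b) := by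
  rw [← verschiebung_mul_frobenius, frobenius_verschiebung, ← mul_assoc,
    mul_comm (a * b) (p : 𝕎 R), ← nsmul_eq_mul, ← nsmul_eq_mul, map_nsmul]

theorem verschiebung_mem_I (x : 𝕎 R) :
    verschiebung x ∈ RingHom.ker (constantCoeff : 𝕎 R →+* R) := by
  rw [RingHom.mem_ker]
  exact verschiebung_coeff_zero x

theorem exists_eq_verschiebung {w : 𝕎 R}
    (hw : w ∈ RingHom.ker (constantCoeff : 𝕎 R →+* R)) : ∃ u : 𝕎 R, w = verschiebung u := by
  have h0 : w.coeff 0 = 0 := hw
  exact ⟨w.shift 1, by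
    simpa using eq_iterate_verschiebung (x := w) (n := 1) (by simpa using h0)⟩

theorem I_sq_le :
    (RingHom.ker (constantCoeff : 𝕎 R →+* R)) * (RingHom.ker (constantCoeff : 𝕎 R →+* R)) ≤
      Ideal.span {(p : 𝕎 R)} * (RingHom.ker (constantCoeff : 𝕎 R →+* R)) := by
  rw [Ideal.mul_le]
  intro a ha b hb
  obtain ⟨a', rfl⟩ := exists_eq_verschiebung ha
  obtain ⟨b', rfl⟩ := exists_eq_verschiebung hb
  rw [vmulv]
  exact Ideal.mul_mem_mul (Ideal.mem_span_singleton_self _) (verschiebung_mem_I _)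

theorem I_pow_succ_le (n : ℕ) :
    (RingHom.ker (constantCoeff : 𝕎 R →+* R)) ^ (n + 1) ≤
      Ideal.span {(p : 𝕎 R)} ^ n * (RingHom.ker (constantCoeff : 𝕎 R →+* R)) := by
  induction n with
  | zero => simp
  | succ n ih =>
    rw [pow_succ]
    refine (Ideal.mul_mono_left ih).trans ?_
    rw [mul_assoc]
    refine (Ideal.mul_mono_right I_sq_le).trans ?_
    rw [← mul_assoc, ← pow_succ]

theorem exists_of_mem_pow_succ {w : 𝕎 R} (j : ℕ)
    (hw : w ∈ (RingHom.ker (constantCoeff : 𝕎 R →+* R)) ^ (j + 1)) :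
    ∃ u : 𝕎 R, w = (p : 𝕎 R) ^ j * verschiebung u := by
  have h1 := I_pow_succ_le (p := p) (R := R) j hw
  rw [Ideal.span_singleton_pow, Ideal.mem_span_singleton_mul] at h1
  obtain ⟨z, hz, rfl⟩ := h1
  obtain ⟨u, rfl⟩ := exists_eq_verschiebung hz
  exact ⟨u, rfl⟩

theorem pow_mul_verschiebung_mem (k : ℕ) (u : 𝕎 R) :
    (p : 𝕎 R) ^ k * verschiebung u ∈ (RingHom.ker (constantCoeff : 𝕎 R →+* R)) ^ (k + 1) := by
  have e : ∀ k : ℕ, (verschiebung (1 : 𝕎 R)) ^ k * verschiebung u =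
      (p : 𝕎 R) ^ k * verschiebung u := by
    intro k
    induction k with
    | zero => simp
    | succ k ih =>
      rw [pow_succ', mul_assoc, ih, mul_left_comm, vmulv, one_mul, pow_succ, mul_assoc]
  have h0 : (RingHom.ker (constantCoeff : 𝕎 R →+* R)) ^ (k + 1) =
      (RingHom.ker (constantCoeff : 𝕎 R →+* R)) ^ k * RingHom.ker (constantCoeff : 𝕎 R →+* R) :=
    pow_succ _ _
  rw [← e k, h0]
  exact Ideal.mul_mem_mul (Ideal.pow_mem_pow (verschiebung_mem_I 1) k) (verschiebung_mem_I u)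

theorem verschiebung_mem_T {n : ℕ} {w : 𝕎 R} (hw : w ∈ T p R n) :
    verschiebung w ∈ T p R n := by
  have hw' := WittDiv.mem_J.1 hw
  refine WittDiv.mem_J.2 fun i hi => ?_
  cases i with
  | zero => rw [verschiebung_coeff_zero]; exact Ideal.zero_mem _
  | succ i => rw [verschiebung_coeff_add_one]; exact hw' i (Nat.lt_of_succ_lt hi)

theorem verschiebung_pow_mul (m : ℕ) (u : 𝕎 R) :
    verschiebung ((p : 𝕎 R) ^ m * u) = (p : 𝕎 R) ^ m * verschiebung u := by
  rw [← Nat.cast_pow, ← nsmul_eq_mul, ← nsmul_eq_mul, map_nsmul]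

variable (p) in
/-- The additive maps `w ↦ p^(k-1) V(w)` (and the identity for `k = 0`). -/
noncomputable def phiI : ℕ → 𝕎 R →+ 𝕎 R
  | 0 => AddMonoidHom.id _
  | (k + 1) => (AddMonoidHom.mulLeft ((p : 𝕎 R) ^ k)).comp (verschiebung : 𝕎 R →+ 𝕎 R)

theorem isAdicComplete_I [IsAdicComplete (Ideal.span {(p : R)}) R] :
    IsAdicComplete (RingHom.ker (constantCoeff : 𝕎 R →+* R)) (𝕎 R) := by
  choose N₁ hN₁ using (exists_pow_mem_T (p := p) (R := R))
  have hDT : ∀ n j, N₁ n ≤ j →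
      ∀ w ∈ (RingHom.ker (constantCoeff : 𝕎 R →+* R)) ^ (j + 1), w ∈ T p R n := by
    intro n j hj w hw
    obtain ⟨u, rfl⟩ := exists_of_mem_pow_succ j hw
    exact Ideal.mul_mem_right _ _ (hN₁ n j hj)
  have h1 : IsHausdorff (RingHom.ker (constantCoeff : 𝕎 R →+* R)) (𝕎 R) := by
    refine ⟨fun x hx => ?_⟩
    refine eq_of_forall_sub_mem_T fun n => ?_
    rw [sub_zero]
    have h1 := hx (N₁ n + 1)
    rw [SModEq.zero, smul_top_eq] at h1
    exact hDT n (N₁ n) le_rfl x h1
  have h2 : IsPrecomplete (RingHom.ker (constantCoeff : 𝕎 R →+* R)) (𝕎 R) := by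
    refine ⟨fun f hf => ?_⟩
    have hf' : ∀ j, f (j + 1) - f j ∈ (RingHom.ker (constantCoeff : 𝕎 R →+* R)) ^ j := by
      intro j
      have h1 := hf (Nat.le_add_right j 1)
      rw [SModEq.sub_mem, smul_top_eq] at h1
      have h2 := neg_mem h1
      rwa [neg_sub] at h2
    obtain ⟨L, hL⟩ := precomplete_aux
      (fun j => (RingHom.ker (constantCoeff : 𝕎 R →+* R)) ^ j)
      (phiI p) (fun k n => k + N₁ n + 1)
      (by
        intro k n w hw
        cases k with
        | zero => exact hw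
        | succ k =>
          show (p : 𝕎 R) ^ k * verschiebung w ∈ T p R n
          exact Ideal.mul_mem_left _ _ (verschiebung_mem_T hw))
      (by
        intro k j hkj w hw
        cases k with
        | zero =>
          refine ⟨w, rfl, fun n hn => ?_⟩
          cases j with
          | zero => exact absurd hn (by omega)
          | succ j => exact hDT n j (by omega) w hw
        | succ k =>
          cases j with
          | zero => exact absurd hkj (by omega)
          | succ j =>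
            obtain ⟨u, rfl⟩ := exists_of_mem_pow_succ j hw
            refine ⟨(p : 𝕎 R) ^ (j - k) * u, ?_, fun n hn => ?_⟩
            · show (p : 𝕎 R) ^ k * verschiebung ((p : 𝕎 R) ^ (j - k) * u) =
                (p : 𝕎 R) ^ j * verschiebung u
              rw [verschiebung_pow_mul, ← mul_assoc, ← pow_add,
                Nat.add_sub_cancel' (show k ≤ j by omega)]
            · exact Ideal.mul_mem_right _ _ (hN₁ n (j - k) (by omega)))
      (by
        intro k e
        cases k with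
        | zero =>
          show e ∈ (RingHom.ker (constantCoeff : 𝕎 R →+* R)) ^ 0
          rw [pow_zero, Ideal.one_eq_top]
          exact Submodule.mem_top
        | succ k => exact pow_mul_verschiebung_mem k e)
      f hf'
    refine ⟨L, fun k => ?_⟩
    rw [SModEq.sub_mem, smul_top_eq]
    have h2 := neg_mem (hL k)
    rwa [neg_sub] at h2
  exact (isAdicComplete_iff _ _).2 ⟨h1, h2⟩

theorem main [IsAdicComplete (Ideal.span {(p : R)}) R] :
    IsAdicComplete (Ideal.span {(p : 𝕎 R)}) (𝕎 R) ∧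
      IsAdicComplete (RingHom.ker (constantCoeff : 𝕎 R →+* R)) (𝕎 R) :=
  ⟨isAdicComplete_p, isAdicComplete_I⟩

end Groth.Agent.Helper22.WittCompl
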