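import Mathlib
import Groth.Agent.Lib.Helper22.WittCompl
import Groth.Prelude.Def_W4c1extbt610Disp

/-!
# Normal decompositions over adically complete rings (helper22)

`A` an `I`-adically complete commutative ring, `P` a finitely generated projective `A`-module,
`Q` a submodule admitting a complement modulo `I P`.  Then `P = L ⊕ T` with `Q = L + I T`
(lifting of idempotents by Newton iteration, with pointwise limits in `P`).
-/

set_option autoImplicit false
universe u v

namespace Groth.Agent.Helper22.NormDecomp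

section General

variable {A : Type*} [CommRing A] (I : Ideal A) {P : Type*} [AddCommGroup P] [Module A P]

theorem map_mem_smul_top {P' : Type*} [AddCommGroup P'] [Module A P'] (J : Ideal A)
    (φ : P →ₗ[A] P') {x : P} (hx : x ∈ J • (⊤ : Submodule A P)) :
    φ x ∈ J • (⊤ : Submodule A P') := by
  have h1 : φ x ∈ (J • (⊤ : Submodule A P)).map φ := Submodule.mem_map_of_mem hx
  rw [Submodule.map_smul''] at h1
  exact Submodule.smul_mono le_rfl le_top h1

theorem map_mem_smul_of_range_le {P' : Type*} [AddCommGroup P'] [Module A P'] (J : Ideal A)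
    (φ : P →ₗ[A] P') (N' : Submodule A P') (hφ : ∀ y, φ y ∈ N') {x : P}
    (hx : x ∈ J • (⊤ : Submodule A P)) : φ x ∈ J • N' := by
  have h1 : φ x ∈ (J • (⊤ : Submodule A P)).map φ := Submodule.mem_map_of_mem hx
  rw [Submodule.map_smul''] at h1
  refine Submodule.smul_mono le_rfl ?_ h1
  rintro _ ⟨y, -, rfl⟩
  exact hφ y

theorem sep_of_projective [IsHausdorff I A] [Module.Finite A P] [Module.Projective A P] (x : P)
    (hx : ∀ k, x ∈ I ^ k • (⊤ : Submodule A P)) : x = 0 := by
  obtain ⟨n, f, hf⟩ := Module.Finite.exists_fin' A P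
  obtain ⟨s, hs⟩ := Module.projective_lifting_property f LinearMap.id hf
  have h0 : s x = 0 := by
    funext i
    show s x i = 0
    refine IsHausdorff.haus' (I := I) _ fun k => ?_
    rw [SModEq.zero]
    have h1 := map_mem_smul_top (I ^ k)
      ((LinearMap.proj i : (Fin n → A) →ₗ[A] A).comp s) (hx k)
    exact h1
  have h2 : f (s x) = x := by
    have h3 := LinearMap.congr_fun hs x
    exact h3
  rw [← h2, h0, map_zero]

theorem cpl_of_projective [IsPrecomplete I A] [Module.Finite A P] [Module.Projective A P]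
    (x : ℕ → P) (hx : ∀ k, x (k + 1) - x k ∈ I ^ k • (⊤ : Submodule A P)) :
    ∃ y : P, ∀ k, y - x k ∈ I ^ k • (⊤ : Submodule A P) := by
  obtain ⟨n, f, hf⟩ := Module.Finite.exists_fin' A P
  obtain ⟨s, hs⟩ := Module.projective_lifting_property f LinearMap.id hf
  have hC : ∀ m d, x (m + d) - x m ∈ I ^ m • (⊤ : Submodule A P) := by
    intro m d
    induction d with
    | zero => simp
    | succ d ih =>
      have e : x (m + (d + 1)) - x m = (x (m + d + 1) - x (m + d)) + (x (m + d) - x m) := by
        have h0 : m + (d + 1) = m + d + 1 := rfl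
        rw [h0]; abel
      rw [e]
      refine add_mem ?_ ih
      exact Submodule.smul_mono (Ideal.pow_le_pow_right (Nat.le_add_right m d)) le_rfl
        (hx (m + d))
  have hcoord : ∀ i : Fin n, ∃ L : A, ∀ k, L - s (x k) i ∈ I ^ k := by
    intro i
    obtain ⟨L, hL⟩ := IsPrecomplete.prec' (I := I) (fun k => s (x k) i) (by
      intro m k hmk
      show s (x m) i ≡ s (x k) i [SMOD (I ^ m • (⊤ : Submodule A A))]
      obtain ⟨d, rfl⟩ := Nat.exists_eq_add_of_le hmk
      rw [SModEq.sub_mem]
      have h1 := map_mem_smul_top (I ^ m)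
        ((LinearMap.proj i : (Fin n → A) →ₗ[A] A).comp s) (hC m d)
      rw [LinearMap.comp_apply, map_sub] at h1
      have h2 : s (x (m + d)) i - s (x m) i ∈ I ^ m • (⊤ : Submodule A A) := h1
      have h3 := neg_mem h2
      rwa [neg_sub] at h3)
    refine ⟨L, fun k => ?_⟩
    have h4 : s (x k) i ≡ L [SMOD (I ^ k • (⊤ : Submodule A A))] := hL k
    rw [SModEq.sub_mem, smul_eq_mul, Ideal.mul_top] at h4
    have h5 := neg_mem h4
    rwa [neg_sub] at h5
  choose L hL using hcoord
  refine ⟨f L, fun k => ?_⟩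
  have h2 : f (s (x k)) = x k := by
    have h3 := LinearMap.congr_fun hs (x k)
    exact h3
  have h3 : f L - x k = f (L - s (x k)) := by rw [map_sub, h2]
  rw [h3, LinearMap.pi_apply_eq_sum_univ]
  refine Submodule.sum_mem _ fun i _ => ?_
  exact Submodule.smul_mem_smul (hL i k) Submodule.mem_top

/-- `φ` maps `P` into `I^k P`. -/
def Small (k : ℕ) (φ : Module.End A P) : Prop := ∀ x, φ x ∈ I ^ k • (⊤ : Submodule A P)

variable {I}

theorem Small.mono {k l : ℕ} {φ : Module.End A P} (h : Small I k φ) (hl : l ≤ k) :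
    Small I l φ := fun x =>
  Submodule.smul_mono (Ideal.pow_le_pow_right hl) le_rfl (h x)

theorem Small.mul_right {k : ℕ} {φ : Module.End A P} (h : Small I k φ) (ψ : Module.End A P) :
    Small I k (φ * ψ) := fun x => h (ψ x)

theorem Small.mul_left {k : ℕ} {φ : Module.End A P} (h : Small I k φ) (ψ : Module.End A P) :
    Small I k (ψ * φ) := fun x => map_mem_smul_top (I ^ k) ψ (h x)

theorem Small.mul {k l : ℕ} {φ ψ : Module.End A P} (h : Small I k φ) (h' : Small I l ψ) :
    Small I (k + l) (φ * ψ) := fun x => by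
  have h1 := map_mem_smul_of_range_le (I ^ l) φ (I ^ k • ⊤) h (h' x)
  rw [← Submodule.mul_smul, ← pow_add, Nat.add_comm l k] at h1
  exact h1

theorem id1 (e : Module.End A P) :
    (3 * e ^ 2 - 2 * e ^ 3) ^ 2 - (3 * e ^ 2 - 2 * e ^ 3) =
      (e ^ 2 - e) * (e ^ 2 - e) * (4 * (e ^ 2 - e) - 3) := by
  noncomm_ring

theorem id2 (e : Module.End A P) :
    (3 * e ^ 2 - 2 * e ^ 3) - e = (1 - 2 * e) * (e ^ 2 - e) := by
  noncomm_ring

/-- Newton iteration for idempotents. -/
def newton (e₀ : Module.End A P) : ℕ → Module.End A P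
  | 0 => e₀
  | (n + 1) => 3 * (newton e₀ n) ^ 2 - 2 * (newton e₀ n) ^ 3

theorem newton_succ (e₀ : Module.End A P) (n : ℕ) :
    newton e₀ (n + 1) = 3 * (newton e₀ n) ^ 2 - 2 * (newton e₀ n) ^ 3 := rfl

theorem small_d (e₀ : Module.End A P) (h₀ : Small I 1 (e₀ ^ 2 - e₀)) (n : ℕ) :
    Small I (n + 1) ((newton e₀ n) ^ 2 - newton e₀ n) := by
  induction n with
  | zero => exact h₀
  | succ n ih =>
    rw [newton_succ, id1]
    have h1 := (ih.mul ih).mul_right (4 * ((newton e₀ n) ^ 2 - newton e₀ n) - 3)
    exact h1.mono (by omega)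

theorem small_diff (e₀ : Module.End A P) (h₀ : Small I 1 (e₀ ^ 2 - e₀)) (n : ℕ) :
    Small I (n + 1) (newton e₀ (n + 1) - newton e₀ n) := by
  rw [newton_succ, id2]
  exact (small_d e₀ h₀ n).mul_left _

variable (I)

theorem exists_idempotent [IsAdicComplete I A] [Module.Finite A P] [Module.Projective A P]
    (e₀ : Module.End A P) (h₀ : Small I 1 (e₀ ^ 2 - e₀)) :
    ∃ e : Module.End A P, IsIdempotentElem e ∧ Small I 1 (e - e₀) := by
  have hdiff : ∀ x : P, ∀ k,
      newton e₀ (k + 1) x - newton e₀ k x ∈ I ^ k • (⊤ : Submodule A P) := by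
    intro x k
    exact ((small_diff e₀ h₀ k).mono (Nat.le_succ k)) x
  choose el hel using fun x => cpl_of_projective I (fun n => newton e₀ n x) (hdiff x)
  have hel' : ∀ x k, el x - newton e₀ k x ∈ I ^ k • (⊤ : Submodule A P) := fun x k => hel x k
  have hadd : ∀ x y, el (x + y) = el x + el y := by
    intro x y
    rw [← sub_eq_zero]
    refine sep_of_projective I _ fun k => ?_
    have e1 : el (x + y) - (el x + el y) =
        (el (x + y) - newton e₀ k (x + y)) - (el x - newton e₀ k x) -
          (el y - newton e₀ k y) := by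
      rw [map_add]; abel
    rw [e1]
    exact sub_mem (sub_mem (hel' _ k) (hel' _ k)) (hel' _ k)
  have hsmul : ∀ (a : A) x, el (a • x) = a • el x := by
    intro a x
    rw [← sub_eq_zero]
    refine sep_of_projective I _ fun k => ?_
    have e1 : el (a • x) - a • el x =
        (el (a • x) - newton e₀ k (a • x)) - a • (el x - newton e₀ k x) := by
      rw [map_smul, smul_sub]; abel
    rw [e1]
    exact sub_mem (hel' _ k) (Submodule.smul_mem _ a (hel' _ k))
  let e : Module.End A P :=
    { toFun := el, map_add' := hadd, map_smul' := fun a x => by simpa using hsmul a x }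
  have he : ∀ x k, e x - newton e₀ k x ∈ I ^ k • (⊤ : Submodule A P) := fun x k => hel' x k
  refine ⟨e, ?_, ?_⟩
  · refine LinearMap.ext fun x => ?_
    show e (e x) = e x
    rw [← sub_eq_zero]
    refine sep_of_projective I _ fun k => ?_
    have hsq : ((newton e₀ k) ^ 2 - newton e₀ k) x =
        newton e₀ k (newton e₀ k x) - newton e₀ k x := by rw [sq]; rfl
    have h3 : newton e₀ k (newton e₀ k x) - newton e₀ k x ∈ I ^ k • (⊤ : Submodule A P) := by
      rw [← hsq]
      exact ((small_d e₀ h₀ k).mono (Nat.le_succ k)) x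
    have e1 : e (e x) - e x = (e (e x) - newton e₀ k (e x)) +
        newton e₀ k (e x - newton e₀ k x) +
        (newton e₀ k (newton e₀ k x) - newton e₀ k x) - (e x - newton e₀ k x) := by
      rw [map_sub]; abel
    rw [e1]
    exact sub_mem (add_mem (add_mem (he _ k) (map_mem_smul_top (I ^ k) _ (he x k))) h3) (he x k)
  · intro x
    have e1 : (e - e₀) x = (e x - newton e₀ 1 x) + (newton e₀ (0 + 1) - newton e₀ 0) x := by
      show e x - e₀ x = (e x - newton e₀ 1 x) + (newton e₀ 1 x - e₀ x)
      abel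
    rw [e1]
    exact add_mem (he x 1) (small_diff e₀ h₀ 0 x)

theorem exists_normal [IsAdicComplete I A] [Module.Finite A P] [Module.Projective A P]
    (Q C : Submodule A P) (hsup : Q ⊔ C = ⊤)
    (hinf : Q ⊓ C = I • (⊤ : Submodule A P)) :
    ∃ L T : Submodule A P, IsCompl L T ∧ Q = L ⊔ I • T := by
  let g : (Q × C) →ₗ[A] P := Q.subtype.coprod C.subtype
  have hg : Function.Surjective g := by
    rw [← LinearMap.range_eq_top, LinearMap.range_coprod, Submodule.range_subtype,
      Submodule.range_subtype, hsup]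
  obtain ⟨σ, hσ⟩ := Module.projective_lifting_property g LinearMap.id hg
  let e₀ : Module.End A P := Q.subtype.comp ((LinearMap.fst A Q C).comp σ)
  have he₀ : ∀ x, e₀ x = ((σ x).1 : P) := fun x => rfl
  have he₀Q : ∀ x, e₀ x ∈ Q := fun x => ((σ x).1).2
  have he₀C : ∀ x, x - e₀ x ∈ C := by
    intro x
    have h1 : g (σ x) = x := LinearMap.congr_fun hσ x
    have h3 : g (σ x) = ((σ x).1 : P) + ((σ x).2 : P) := by
      show (Q.subtype.coprod C.subtype) (σ x) = _
      rw [LinearMap.coprod_apply]; rfl
    have hx : x = ((σ x).1 : P) + ((σ x).2 : P) := h1.symm.trans h3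
    have h5 : x - e₀ x = ((σ x).2 : P) := by
      rw [he₀]; exact sub_eq_of_eq_add' hx
    rw [h5]
    exact ((σ x).2).2
  have h₀ : Small I 1 (e₀ ^ 2 - e₀) := by
    intro x
    have hsq : (e₀ ^ 2 - e₀) x = e₀ (e₀ x) - e₀ x := by rw [sq]; rfl
    rw [hsq, pow_one, ← hinf]
    refine Submodule.mem_inf.2 ⟨sub_mem (he₀Q _) (he₀Q _), ?_⟩
    have h1 := he₀C (e₀ x)
    have h2 := neg_mem h1
    rwa [neg_sub] at h2
  obtain ⟨e, hidem, hclose⟩ := exists_idempotent I e₀ h₀
  have hclose' : ∀ x, e x - e₀ x ∈ I • (⊤ : Submodule A P) := by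
    intro x
    have h1 := hclose x
    rw [pow_one] at h1
    exact h1
  have hIQ : I • (⊤ : Submodule A P) ≤ Q := by rw [← hinf]; exact inf_le_left
  have hee : ∀ x, e (e x) = e x := fun x => LinearMap.congr_fun hidem.eq x
  refine ⟨LinearMap.range e, LinearMap.ker e, LinearMap.IsIdempotentElem.isCompl hidem, ?_⟩
  refine le_antisymm ?_ ?_
  · intro q hq
    have h1 : q - e q ∈ I • (⊤ : Submodule A P) := by
      have e1 : q - e q = (q - e₀ q) - (e q - e₀ q) := by abel
      rw [e1]
      refine sub_mem ?_ (hclose' q)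
      rw [← hinf]
      exact Submodule.mem_inf.2 ⟨sub_mem hq (he₀Q q), he₀C q⟩
    have h2 : e (q - e q) = 0 := by rw [map_sub, hee, sub_self]
    have h3 : q - e q ∈ I • LinearMap.ker e := by
      have h4 := map_mem_smul_of_range_le I ((1 : Module.End A P) - e) (LinearMap.ker e)
        (fun y => by
          rw [LinearMap.mem_ker]
          show e (y - e y) = 0
          rw [map_sub, hee, sub_self]) h1
      have h5 : ((1 : Module.End A P) - e) (q - e q) = q - e q := by
        show (q - e q) - e (q - e q) = q - e q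
        rw [h2, sub_zero]
      rwa [h5] at h4
    have h6 := Submodule.add_mem_sup (LinearMap.mem_range_self e q) h3
    rwa [add_sub_cancel] at h6
  · refine sup_le ?_ ?_
    · rintro _ ⟨x, rfl⟩
      have e1 : e x = e₀ x + (e x - e₀ x) := by abel
      rw [e1]
      exact add_mem (he₀Q x) (hIQ (hclose' x))
    · exact (Submodule.smul_mono le_rfl le_top).trans hIQ

end General

section Witt

open WittVector

variable (p : ℕ) [Fact p.Prime] (R : Type u) [CommRing R]

theorem IV_eq_ker :
    W4c1extbt610.IV p R = RingHom.ker (constantCoeff : WittVector p R →+* R) := by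
  refine le_antisymm ?_ ?_
  · unfold W4c1extbt610.IV
    rw [Ideal.span_le]
    rintro _ ⟨w, rfl⟩
    exact WittCompl.verschiebung_mem_I w
  · intro w hw
    obtain ⟨u, rfl⟩ := WittCompl.exists_eq_verschiebung hw
    exact W4c1extbt610.verschiebung_mem_IV p R u

theorem main [IsAdicComplete (Ideal.span {(p : R)}) R]
    (P : Type v) [AddCommGroup P] [Module (WittVector p R) P]
    [Module.Finite (WittVector p R) P] [Module.Projective (WittVector p R) P]
    (Q : Submodule (WittVector p R) P)
    (hQ : ∃ C : Submodule (WittVector p R) P,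
      Q ⊔ C = ⊤ ∧ Q ⊓ C = W4c1extbt610.IV p R • (⊤ : Submodule (WittVector p R) P)) :
    ∃ L T : Submodule (WittVector p R) P, IsCompl L T ∧ Q = L ⊔ W4c1extbt610.IV p R • T := by
  obtain ⟨C, h1, h2⟩ := hQ
  haveI : IsAdicComplete (W4c1extbt610.IV p R) (WittVector p R) := by
    rw [IV_eq_ker]; exact WittCompl.isAdicComplete_I
  exact exists_normal (W4c1extbt610.IV p R) Q C h1 h2

end Witt

end Groth.Agent.Helper22.NormDecomp
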