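import Mathlib
import Groth.Agent.Lib.Helper22.DieuDisp1
import Groth.Agent.Lib.Helper22.DieuDisp2
import Groth.Agent.S14858

/-!
# Dieudonné modules over a perfect ring are 3n-displays (helper22)
-/

set_option autoImplicit false

namespace Groth.Agent.Helper22.DieuDisp

open WittVector

universe u v

section General

theorem mem_smul_top_of_smul_mem {R : Type*} [CommRing R] {M : Type*} [AddCommGroup M]
    [Module R M] [Module.Projective R M] (𝔞 : Ideal R) (a : R) (ha : ∀ r, a * r ∈ 𝔞 → r ∈ 𝔞)
    {x : M} (hx : a • x ∈ 𝔞 • (⊤ : Submodule R M)) : x ∈ 𝔞 • (⊤ : Submodule R M) := by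
  obtain ⟨s, hs⟩ := Module.projective_def'.mp (inferInstance : Module.Projective R M)
  have h1 : ∀ y ∈ 𝔞 • (⊤ : Submodule R M), ∀ i, (s y) i ∈ 𝔞 := by
    intro y hy
    refine Submodule.smul_induction_on hy ?_ ?_
    · intro r hr n _ i
      rw [map_smul, Finsupp.smul_apply, smul_eq_mul]
      exact 𝔞.mul_mem_right _ hr
    · intro y₁ y₂ h₁ h₂ i
      rw [map_add, Finsupp.add_apply]
      exact 𝔞.add_mem (h₁ i) (h₂ i)
  have h2 : ∀ i, (s x) i ∈ 𝔞 := by
    intro i
    apply ha
    have h3 := h1 _ hx i
    rwa [map_smul, Finsupp.smul_apply, smul_eq_mul] at h3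
  have h3 : x = Finsupp.linearCombination R id (s x) := (LinearMap.congr_fun hs x).symm
  rw [h3, Finsupp.linearCombination_apply, Finsupp.sum]
  refine Submodule.sum_mem _ fun i _ => ?_
  exact Submodule.smul_mem_smul (h2 i) Submodule.mem_top

end General

section Dieu

variable {p : ℕ} [Fact p.Prime] {k : Type u} [CommRing k] [CharP k p] [PerfectRing k p]

theorem p_mul_eq_zero' (x : WittVector p k) (h : (p : WittVector p k) * x = 0) : x = 0 := by
  rw [mul_comm, ← verschiebung_frobenius] at h
  have h1 : frobenius x = 0 := verschiebung_injective p k (by rw [h, map_zero])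
  exact (frobenius_bijective p k).1 (by rw [h1, map_zero])

instance ringHomSurjective_frobeniusEquiv_symm :
    RingHomSurjective
      ((WittVector.frobeniusEquiv p k).symm : WittVector p k →+* WittVector p k) :=
  ⟨(WittVector.frobeniusEquiv p k).symm.surjective⟩

variable {M : Type v} [AddCommGroup M] [Module (WittVector p k) M]
  [Module.Projective (WittVector p k) M]
  (F : M →ₛₗ[(WittVector.frobenius : WittVector p k →+* WittVector p k)] M)
  (V : M →ₛₗ[((WittVector.frobeniusEquiv p k).symm : WittVector p k →+* WittVector p k)] M)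

omit [PerfectRing k p] in
theorem F_mem_J {𝔪 : Ideal k} {x : M}
    (hx : x ∈ J p 𝔪 • (⊤ : Submodule (WittVector p k) M)) :
    F x ∈ J p 𝔪 • (⊤ : Submodule (WittVector p k) M) := by
  refine Submodule.smul_induction_on hx ?_ ?_
  · intro r hr n _
    rw [F.map_smulₛₗ]
    exact Submodule.smul_mem_smul (frobenius_mem_J hr) Submodule.mem_top
  · intro x y hx hy
    rw [map_add]
    exact Submodule.add_mem _ hx hy

theorem p_smul_eq_zero {m : M} (h : (p : WittVector p k) • m = 0) : m = 0 := by
  have h1 : m ∈ (⊥ : Ideal (WittVector p k)) • (⊤ : Submodule (WittVector p k) M) := by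
    apply mem_smul_top_of_smul_mem ⊥ (p : WittVector p k)
    · intro r hr
      rw [Ideal.mem_bot] at hr ⊢
      exact p_mul_eq_zero' r hr
    · rw [h]
      exact Submodule.zero_mem _
  rw [Submodule.bot_smul] at h1
  exact (Submodule.mem_bot _).mp h1

theorem V_injective (hFV : ∀ m : M, F (V m) = (p : WittVector p k) • m) :
    Function.Injective V := by
  rw [injective_iff_map_eq_zero]
  intro m hm
  apply p_smul_eq_zero (p := p) (k := k)
  rw [← hFV, hm, map_zero]

theorem of_V_mem_J (hFV : ∀ m : M, F (V m) = (p : WittVector p k) • m) {𝔪 : Ideal k}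
    [𝔪.IsPrime] {z : M} (hz : V z ∈ J p 𝔪 • (⊤ : Submodule (WittVector p k) M)) :
    z ∈ J p 𝔪 • (⊤ : Submodule (WittVector p k) M) := by
  apply mem_smul_top_of_smul_mem (J p 𝔪) (p : WittVector p k)
    (fun r hr => mem_J_of_p_mul_mem hr)
  rw [← hFV]
  exact F_mem_J F hz

theorem span_p_smul_le (hVF : ∀ m : M, V (F m) = (p : WittVector p k) • m) :
    Ideal.span {(p : WittVector p k)} • (⊤ : Submodule (WittVector p k) M) ≤
      LinearMap.range V := by
  rw [Submodule.smul_le]
  intro r hr n _
  obtain ⟨c, rfl⟩ := Ideal.mem_span_singleton'.mp hr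
  rw [mul_smul, ← hVF]
  exact Submodule.smul_mem _ _ (LinearMap.mem_range_self V _)

theorem local_key (hFV : ∀ m : M, F (V m) = (p : WittVector p k) • m)
    (hVF : ∀ m : M, V (F m) = (p : WittVector p k) • m)
    (𝔫 : Ideal (WittVector p k)) [𝔫.IsMaximal]
    (hp : Ideal.span {(p : WittVector p k)} ≤ 𝔫) :
    LinearMap.range V ⊓ 𝔫 • (⊤ : Submodule (WittVector p k) M) ≤
      𝔫 • LinearMap.range V ⊔
        Ideal.span {(p : WittVector p k)} • (⊤ : Submodule (WittVector p k) M) := by
  obtain ⟨𝔪, h𝔪, h0, hJ⟩ := exists_prime_of_maximal 𝔫 (hp (Ideal.subset_span rfl))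
  haveI := h𝔪
  rintro u ⟨⟨x, rfl⟩, hu⟩
  have hA : 𝔫 • (⊤ : Submodule (WittVector p k) M) ≤
      J p 𝔪 • ⊤ ⊔ Ideal.span {(p : WittVector p k)} • ⊤ := by
    rw [Submodule.smul_le]
    intro w hw n _
    obtain ⟨j, hj, y, rfl⟩ := exists_J_add_p_mul (h0 w hw)
    rw [add_smul]
    exact Submodule.add_mem_sup (Submodule.smul_mem_smul hj Submodule.mem_top)
      (Submodule.smul_mem_smul (Ideal.mul_mem_right _ _ (Ideal.subset_span rfl))
        Submodule.mem_top)
  obtain ⟨a, ha, b, hb, hab⟩ := Submodule.mem_sup.mp (hA hu)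
  have hB : ∀ y ∈ Ideal.span {(p : WittVector p k)} • (⊤ : Submodule (WittVector p k) M),
      ∃ b', y = (p : WittVector p k) • b' := by
    intro y hy
    refine Submodule.smul_induction_on hy ?_ ?_
    · intro r hr n _
      obtain ⟨c, rfl⟩ := Ideal.mem_span_singleton'.mp hr
      exact ⟨c • n, by rw [mul_comm, mul_smul]⟩
    · rintro y₁ y₂ ⟨b₁, rfl⟩ ⟨b₂, rfl⟩
      exact ⟨b₁ + b₂, (smul_add _ _ _).symm⟩
  obtain ⟨b', rfl⟩ := hB b hb
  have h1 : V (x - F b') = a := by
    rw [map_sub, hVF, ← hab]
    abel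
  have h2 : x - F b' ∈ J p 𝔪 • (⊤ : Submodule (WittVector p k) M) :=
    of_V_mem_J F V hFV (by rw [h1]; exact ha)
  have h3 : ∀ c ∈ J p 𝔪 • (⊤ : Submodule (WittVector p k) M),
      V c ∈ 𝔫 • LinearMap.range V := by
    intro c hc
    refine Submodule.smul_induction_on hc ?_ ?_
    · intro r hr n _
      rw [V.map_smulₛₗ]
      exact Submodule.smul_mem_smul (hJ (frobeniusEquiv_symm_mem_J hr))
        (LinearMap.mem_range_self V n)
    · intro c₁ c₂ h₁ h₂
      rw [map_add]
      exact Submodule.add_mem _ h₁ h₂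
  have h4 : V x = V (x - F b') + (p : WittVector p k) • b' := by
    rw [map_sub, hVF]
    abel
  rw [h4]
  exact Submodule.add_mem_sup (h3 _ h2) hb

variable [Module.Finite (WittVector p k) M]

omit [Module.Projective (WittVector p k) M] in
theorem range_V_fg : (LinearMap.range V).FG := by
  rw [LinearMap.range_eq_map]
  exact Submodule.FG.map V Module.Finite.fg_top

theorem exists_compl (hFV : ∀ m : M, F (V m) = (p : WittVector p k) • m)
    (hVF : ∀ m : M, V (F m) = (p : WittVector p k) • m) :
    ∃ C : Submodule (WittVector p k) M, LinearMap.range V ⊔ C = ⊤ ∧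
      LinearMap.range V ⊓ C = W4c1extbt610.IV p k • (⊤ : Submodule (WittVector p k) M) := by
  rw [IV_eq]
  exact exists_compl_mod (Ideal.span {(p : WittVector p k)}) (LinearMap.range V) (range_V_fg V)
    (span_p_smul_le F V hVF) (fun 𝔫 h𝔫 hp => by
      haveI := h𝔫
      exact local_key F V hFV hVF 𝔫 hp)

theorem exists_normal (hFV : ∀ m : M, F (V m) = (p : WittVector p k) • m)
    (hVF : ∀ m : M, V (F m) = (p : WittVector p k) • m) :
    ∃ L T : Submodule (WittVector p k) M, IsCompl L T ∧
      LinearMap.range V = L ⊔ W4c1extbt610.IV p k • T := by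
  have h : Ideal.span {(p : k)} = ⊥ := Ideal.span_singleton_eq_bot.mpr (CharP.cast_eq_zero k p)
  haveI : IsAdicComplete (Ideal.span {(p : k)}) k := by
    rw [h]
    infer_instance
  exact Groth.Agent.S14858.result p k M (LinearMap.range V) (exists_compl F V hFV hVF)

/-- A preimage under `V`. -/
noncomputable def vinvFun (q : LinearMap.range V) : M :=
  Classical.choose (LinearMap.mem_range.mp q.2)

omit [Module.Projective (WittVector p k) M] [Module.Finite (WittVector p k) M] in
theorem V_vinvFun (q : LinearMap.range V) : V (vinvFun V q) = q :=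
  Classical.choose_spec (LinearMap.mem_range.mp q.2)

/-- The inverse of `V` on its image, as a Frobenius-semilinear map. -/
noncomputable def vinv (hV : Function.Injective V) :
    LinearMap.range V →ₛₗ[(WittVector.frobenius : WittVector p k →+* WittVector p k)] M where
  toFun := vinvFun V
  map_add' q₁ q₂ := hV (by
    rw [map_add, V_vinvFun, V_vinvFun, V_vinvFun]
    rfl)
  map_smul' w q := hV (by
    rw [V_vinvFun, V.map_smulₛₗ, V_vinvFun, Submodule.coe_smul]
    congr 1
    exact (frobeniusEquiv_symm_frobenius w).symm)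

omit [Module.Projective (WittVector p k) M] [Module.Finite (WittVector p k) M] in
theorem vinv_eq (hV : Function.Injective V) (q : LinearMap.range V) (m : M) (h : V m = q) :
    vinv V hV q = m :=
  hV (by
    show V (vinvFun V q) = V m
    rw [V_vinvFun, h])

theorem exists_display (hFV : ∀ m : M, F (V m) = (p : WittVector p k) • m)
    (hVF : ∀ m : M, V (F m) = (p : WittVector p k) • m) :
    ∃ D : W4c1extbt610.Display3n p k M,
      D.F = F ∧ (∀ x : M, x ∈ D.Q ↔ x ∈ Set.range V) ∧
        ∀ (m : M) (h : V m ∈ D.Q), D.Vinv ⟨V m, h⟩ = m := by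
  have hV : Function.Injective V := V_injective F V hFV
  have hIV : W4c1extbt610.IV p k • (⊤ : Submodule (WittVector p k) M) ≤ LinearMap.range V := by
    rw [IV_eq]
    exact span_p_smul_le F V hVF
  refine ⟨
    { Q := LinearMap.range V
      F := F
      Vinv := vinv V hV
      finite := inferInstance
      projective := inferInstance
      IV_smul_le := hIV
      exists_normal := exists_normal F V hFV hVF
      span_range_Vinv := ?_
      Vinv_verschiebung_smul := ?_ }, rfl, fun x => LinearMap.mem_range,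
    fun m h => vinv_eq V hV _ m rfl⟩
  · rw [eq_top_iff]
    intro m _
    exact Submodule.subset_span
      ⟨⟨V m, LinearMap.mem_range_self V m⟩, vinv_eq V hV _ m rfl⟩
  · intro w x
    apply vinv_eq
    show V (w • F x) = verschiebung w • x
    rw [V.map_smulₛₗ, hVF, smul_smul, verschiebung_eq w, mul_comm (p : WittVector p k)]
    rfl

end Dieu

end Groth.Agent.Helper22.DieuDisp
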