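import Mathlib
import Groth.Agent.Lib.Helper22.DieuDisp3

/-!
# Level-one conditions for Dieudonné modules over a perfect ring, truncated case (helper22)

* `projective_quot_of_fibre`: the projectivity core of `exists_compl_mod`, assuming only that
  `M / I M` is projective over `R / I`.
* `projective_quot_smul_top`: if `M` is projective over a quotient `A` of `R` mapping to `R / I`,
  then `M / I M` is projective over `R / I`.
* `mem_smul_top_of_smul_mem_quot`, `local_key_trunc`, `trunc_projective`, `level_one`.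
-/

set_option autoImplicit false

namespace Groth.Agent.Helper22.DieuDisp

open WittVector TensorProduct Groth.Agent.Helper22.OpcProj

universe u v

section Quot

variable {R : Type u} [CommRing R] (I : Ideal R) {M : Type v} [AddCommGroup M] [Module R M]

theorem projective_quot_of_fibre [Module.Finite R M]
    [Module.Projective (R ⧸ I) (M ⧸ (I • ⊤ : Submodule R M))] (U : Submodule R M)
    (hU : U.FG)
    (h : ∀ 𝔫 : Ideal R, 𝔫.IsMaximal → I ≤ 𝔫 →
      U ⊓ 𝔫 • (⊤ : Submodule R M) ≤ 𝔫 • U ⊔ I • (⊤ : Submodule R M))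
    (B : Submodule (R ⧸ I) (M ⧸ (I • ⊤ : Submodule R M)))
    (hB : ∀ z, z ∈ B ↔ ∃ u ∈ U, (I • ⊤ : Submodule R M).mkQ u = z) :
    Module.Projective (R ⧸ I) ((M ⧸ (I • ⊤ : Submodule R M)) ⧸ B) := by
  classical
  obtain ⟨s, hs⟩ := hU
  let π : M →ₗ[R] M ⧸ (I • ⊤ : Submodule R M) := (I • ⊤ : Submodule R M).mkQ
  have hπs : Function.Surjective π := Submodule.mkQ_surjective _
  have hπk : ∀ x, π x = 0 ↔ x ∈ (I • ⊤ : Submodule R M) := fun x =>
    Submodule.Quotient.mk_eq_zero _
  haveI : Module.Finite (R ⧸ I) (M ⧸ (I • ⊤ : Submodule R M)) :=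
    Module.Finite.of_restrictScalars_finite R (R ⧸ I) _
  let δ1 : (s → R ⧸ I) →ₗ[R ⧸ I] M ⧸ (I • ⊤ : Submodule R M) :=
    Fintype.linearCombination (R ⧸ I) (fun i : s => π (i : M))
  have hmk : ∀ (r : R) (z : M ⧸ (I • ⊤ : Submodule R M)),
      (Ideal.Quotient.mk I r) • z = r • z := fun r z => algebraMap_smul (R ⧸ I) r z
  have hδ : ∀ c : s → R, δ1 (fun i => Ideal.Quotient.mk I (c i)) = π (∑ i, c i • (i : M)) := by
    intro c
    rw [Fintype.linearCombination_apply, map_sum]
    refine Finset.sum_congr rfl fun i _ => ?_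
    rw [map_smul, hmk]
  have hsU : ∀ i : s, (i : M) ∈ U := fun i => hs ▸ Submodule.subset_span i.2
  have hsum_mem : ∀ c : s → R, ∑ i, c i • (i : M) ∈ U := fun c =>
    Submodule.sum_mem _ fun i _ => U.smul_mem _ (hsU i)
  have hrange1 : ∀ z, z ∈ LinearMap.range δ1 → ∃ u ∈ U, π u = z := by
    rintro _ ⟨c, rfl⟩
    choose c' hc' using fun i => Ideal.Quotient.mk_surjective (c i)
    refine ⟨∑ i, c' i • (i : M), hsum_mem c', ?_⟩
    rw [← hδ]
    congr 1
    funext i
    exact hc' i
  have hrange2 : ∀ u ∈ U, π u ∈ LinearMap.range δ1 := by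
    intro u hu
    rw [← hs] at hu
    induction hu using Submodule.span_induction with
    | mem x hx =>
      refine ⟨Pi.single (⟨x, Finset.mem_coe.mp hx⟩ : s) 1, ?_⟩
      rw [Fintype.linearCombination_apply,
        Finset.sum_eq_single (⟨x, Finset.mem_coe.mp hx⟩ : s)]
      · rw [Pi.single_eq_same, one_smul]
      · intro j _ hj
        rw [Pi.single_eq_of_ne hj, zero_smul]
      · intro hne
        exact absurd (Finset.mem_univ _) hne
    | zero => rw [map_zero]; exact Submodule.zero_mem _
    | add x y _ _ hx hy => rw [map_add]; exact Submodule.add_mem _ hx hy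
    | smul r x _ hx =>
      rw [map_smul, ← hmk]
      exact Submodule.smul_mem _ _ hx
  have hproj : Module.Projective (R ⧸ I)
      ((M ⧸ (I • ⊤ : Submodule R M)) ⧸ LinearMap.range δ1) := by
    refine projective_of_middle_exact' (LinearMap.ker δ1).subtype δ1 (LinearMap.range δ1).mkQ ?_
      (Submodule.mkQ_surjective _) (LinearMap.exact_map_mkQ_range δ1) ?_
    · exact LinearMap.ext fun x => x.2
    · intro m hm x hx
      haveI := hm
      obtain ⟨c, hc⟩ := Submodule.mkQ_surjective _ (tensorQuotEquivQuotSMul (s → R ⧸ I) m x)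
      have hx' : x = c ⊗ₜ[R ⧸ I] (1 : (R ⧸ I) ⧸ m) := by
        rw [← tensorQuotEquivQuotSMul_symm_mk m c, LinearEquiv.eq_symm_apply]
        exact hc.symm
      subst hx'
      rw [LinearMap.rTensor_tmul] at hx
      have h1' : (1 : (R ⧸ I) ⧸ m) = Ideal.Quotient.mk m 1 := rfl
      have h1 : δ1 c ∈ (m • ⊤ : Submodule (R ⧸ I) (M ⧸ (I • ⊤ : Submodule R M))) := by
        have h2 := congrArg (tensorQuotEquivQuotSMul (M ⧸ (I • ⊤ : Submodule R M)) m) hx
        rw [map_zero, h1', tensorQuotEquivQuotSMul_tmul_mk, one_smul] at h2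
        exact (Submodule.Quotient.mk_eq_zero _).mp h2
      have h𝔫max : (Ideal.comap (Ideal.Quotient.mk I) m).IsMaximal :=
        Ideal.comap_isMaximal_of_surjective _ Ideal.Quotient.mk_surjective
      have hI𝔫 : I ≤ Ideal.comap (Ideal.Quotient.mk I) m := fun a ha => by
        rw [Ideal.mem_comap, Ideal.Quotient.eq_zero_iff_mem.mpr ha]
        exact m.zero_mem
      choose c' hc' using fun i => Ideal.Quotient.mk_surjective (c i)
      have hcc' : c = fun i => Ideal.Quotient.mk I (c' i) := funext fun i => (hc' i).symm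
      have hu𝔫 : ∑ i, c' i • (i : M) ∈
          ((Ideal.comap (Ideal.Quotient.mk I) m) • ⊤ : Submodule R M) := by
        have h3 : π (∑ i, c' i • (i : M)) ∈
            (m • ⊤ : Submodule (R ⧸ I) (M ⧸ (I • ⊤ : Submodule R M))) := by
          rw [← hδ, ← hcc']
          exact h1
        have h4 : ∀ z ∈ (m • ⊤ : Submodule (R ⧸ I) (M ⧸ (I • ⊤ : Submodule R M))),
            ∃ v ∈ ((Ideal.comap (Ideal.Quotient.mk I) m) • ⊤ : Submodule R M), π v = z := by
          intro z hz
          refine Submodule.smul_induction_on hz ?_ ?_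
          · intro a ha n _
            obtain ⟨a', rfl⟩ := Ideal.Quotient.mk_surjective a
            obtain ⟨n', rfl⟩ := hπs n
            exact ⟨a' • n', Submodule.smul_mem_smul (Ideal.mem_comap.mpr ha) Submodule.mem_top,
              by rw [map_smul, hmk]⟩
          · rintro z₁ z₂ ⟨v₁, hv₁, rfl⟩ ⟨v₂, hv₂, rfl⟩
            exact ⟨v₁ + v₂, Submodule.add_mem _ hv₁ hv₂, map_add _ _ _⟩
        obtain ⟨v, hv, hv'⟩ := h4 _ h3
        have h5 : ∑ i, c' i • (i : M) - v ∈ (I • ⊤ : Submodule R M) := by
          rw [← hπk, map_sub, hv', sub_self]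
        have h6 : ∑ i, c' i • (i : M) = (∑ i, c' i • (i : M) - v) + v := by abel
        rw [h6]
        exact Submodule.add_mem _ (Submodule.smul_mono_left hI𝔫 h5) hv
      have h7 := h _ h𝔫max hI𝔫 ⟨hsum_mem c', hu𝔫⟩
      obtain ⟨a, ha, b, hb, hab⟩ := Submodule.mem_sup.mp h7
      rw [← hs] at ha
      have hsr : (↑s : Set M) = Set.range (fun i : s => (i : M)) := by
        ext x
        simp
      rw [hsr, Submodule.mem_ideal_smul_span_iff_exists_sum] at ha
      obtain ⟨d, hd, hda⟩ := ha
      have hda' : ∑ i, d i • (i : M) = a := by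
        rw [← hda, Finsupp.sum_fintype]
        intro i
        exact zero_smul _ _
      let e : s → R ⧸ I := fun i => Ideal.Quotient.mk I (c' i - d i)
      have he : δ1 e = 0 := by
        rw [hδ (fun i => c' i - d i), hπk]
        have h8 : ∑ i, (c' i - d i) • (i : M) = b := by
          simp only [sub_smul, Finset.sum_sub_distrib]
          rw [hda', ← hab]
          abel
        rw [h8]
        exact hb
      refine ⟨(⟨e, he⟩ : LinearMap.ker δ1) ⊗ₜ[R ⧸ I] (1 : (R ⧸ I) ⧸ m), ?_⟩
      rw [LinearMap.rTensor_tmul]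
      show e ⊗ₜ[R ⧸ I] (1 : (R ⧸ I) ⧸ m) = c ⊗ₜ[R ⧸ I] 1
      apply (tensorQuotEquivQuotSMul (s → R ⧸ I) m).injective
      rw [h1', tensorQuotEquivQuotSMul_tmul_mk, tensorQuotEquivQuotSMul_tmul_mk, one_smul,
        one_smul, Submodule.Quotient.eq]
      have hdiff : e - c = ∑ i, (Ideal.Quotient.mk I (- d i)) •
          (Pi.single i (1 : R ⧸ I) : s → R ⧸ I) := by
        funext j
        rw [Finset.sum_apply, hcc']
        simp only [e, Pi.sub_apply, Pi.smul_apply, Pi.single_apply, smul_eq_mul, mul_ite, mul_one,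
          mul_zero, Finset.sum_ite_eq, Finset.mem_univ, if_true, map_sub, map_neg]
        ring
      rw [hdiff]
      refine Submodule.sum_mem _ fun i _ => Submodule.smul_mem_smul ?_ Submodule.mem_top
      rw [map_neg]
      exact m.neg_mem (Ideal.mem_comap.mp (hd i))
  have hBeq : B = LinearMap.range δ1 := Submodule.ext fun z => by
    rw [hB]
    exact ⟨fun ⟨u, hu, hz⟩ => hz ▸ hrange2 u hu, fun hz => hrange1 z hz⟩
  rw [hBeq]
  exact hproj

theorem projective_quot_smul_top (A : Type*) [CommRing A] [Algebra R A]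
    (hA : Function.Surjective (algebraMap R A)) (φ : A →+* R ⧸ I)
    (hφ : ∀ r, φ (algebraMap R A r) = Ideal.Quotient.mk I r)
    [Module A M] [IsScalarTower R A M] [Module.Projective A M] :
    Module.Projective (R ⧸ I) (M ⧸ (I • ⊤ : Submodule R M)) := by
  classical
  obtain ⟨s, hs⟩ := Module.projective_def'.mp (inferInstance : Module.Projective A M)
  let π : M →ₗ[R] M ⧸ (I • ⊤ : Submodule R M) := (I • ⊤ : Submodule R M).mkQ
  have hmk : ∀ (r : R) (z : M ⧸ (I • ⊤ : Submodule R M)),
      (Ideal.Quotient.mk I r) • z = r • z := fun r z => algebraMap_smul (R ⧸ I) r z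
  let φl : A →ₗ[R] R ⧸ I :=
    { toFun := φ
      map_add' := map_add φ
      map_smul' := fun r a => by
        rw [Algebra.smul_def, map_mul, hφ, RingHom.id_apply, Algebra.smul_def,
          Ideal.Quotient.algebraMap_eq] }
  let i₁ : M →ₗ[R] (M →₀ R ⧸ I) :=
    (Finsupp.mapRange.linearMap φl).comp (s.restrictScalars R)
  have hi₁ : (I • ⊤ : Submodule R M) ≤ LinearMap.ker i₁ := by
    rw [Submodule.smul_le]
    intro r hr n _
    rw [LinearMap.mem_ker, map_smul]
    ext a
    rw [Finsupp.smul_apply, Finsupp.zero_apply, Algebra.smul_def, Ideal.Quotient.algebraMap_eq,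
      Ideal.Quotient.eq_zero_iff_mem.mpr hr, zero_mul]
  let i : (M ⧸ (I • ⊤ : Submodule R M)) →ₗ[R] (M →₀ R ⧸ I) :=
    (I • ⊤ : Submodule R M).liftQ i₁ hi₁
  let r : (M →₀ R ⧸ I) →ₗ[R ⧸ I] (M ⧸ (I • ⊤ : Submodule R M)) :=
    Finsupp.linearCombination (R ⧸ I) (fun m => π m)
  have hkey : ∀ t : M →₀ A,
      r (Finsupp.mapRange.linearMap φl t) = π (Finsupp.linearCombination A id t) := by
    intro t
    induction t using Finsupp.induction_linear with
    | zero => rw [map_zero, map_zero, map_zero, map_zero]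
    | add t₁ t₂ h₁ h₂ => rw [map_add, map_add, h₁, h₂, map_add, map_add]
    | single a c =>
      obtain ⟨c', rfl⟩ := hA c
      rw [Finsupp.mapRange.linearMap_apply, Finsupp.mapRange_single,
        Finsupp.linearCombination_single, Finsupp.linearCombination_single]
      show φ (algebraMap R A c') • π a = π (algebraMap R A c' • a)
      rw [hφ, hmk, algebraMap_smul, map_smul]
  have hri : ∀ z, r (i z) = z := by
    intro z
    obtain ⟨m, rfl⟩ := Submodule.mkQ_surjective _ z
    show r (Finsupp.mapRange.linearMap φl (s m)) = π m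
    rw [hkey]
    congr 1
    exact LinearMap.congr_fun hs m
  exact Module.Projective.of_split
    (LinearMap.extendScalarsOfSurjective (Ideal.Quotient.mk_surjective (I := I)) i) r
    (LinearMap.ext hri)

theorem mem_smul_top_of_smul_mem_quot (K 𝔟 𝔞 : Ideal R) (a : R)
    (ha : ∀ r, a * r ∈ 𝔟 ⊔ K → r ∈ 𝔞)
    [Module (R ⧸ K) M] [IsScalarTower R (R ⧸ K) M] [Module.Projective (R ⧸ K) M]
    {x : M} (hx : a • x ∈ 𝔟 • (⊤ : Submodule R M)) : x ∈ 𝔞 • (⊤ : Submodule R M) := by
  obtain ⟨s, hs⟩ := Module.projective_def'.mp (inferInstance : Module.Projective (R ⧸ K) M)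
  have hmk : ∀ (r : R) (y : M), (Ideal.Quotient.mk K r) • y = r • y :=
    fun r y => algebraMap_smul (R ⧸ K) r y
  have hsm : ∀ (r : R) (y : M), s (r • y) = Ideal.Quotient.mk K r • s y := by
    intro r y
    rw [← map_smul, hmk]
  have h1 : ∀ y ∈ 𝔟 • (⊤ : Submodule R M), ∀ i, (s y) i ∈ 𝔟.map (Ideal.Quotient.mk K) := by
    intro y hy
    refine Submodule.smul_induction_on hy ?_ ?_
    · intro r hr n _ i
      rw [hsm, Finsupp.smul_apply, smul_eq_mul]
      exact Ideal.mul_mem_right _ _ (Ideal.mem_map_of_mem _ hr)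
    · intro y₁ y₂ h₁ h₂ i
      rw [map_add, Finsupp.add_apply]
      exact Ideal.add_mem _ (h₁ i) (h₂ i)
  have h2 : ∀ i, ∃ r ∈ 𝔞, Ideal.Quotient.mk K r = (s x) i := by
    intro i
    obtain ⟨r, hr⟩ := Ideal.Quotient.mk_surjective ((s x) i)
    refine ⟨r, ha r ?_, hr⟩
    have h3 := h1 _ hx i
    rw [hsm, Finsupp.smul_apply, smul_eq_mul, ← hr, ← map_mul] at h3
    obtain ⟨b, hb, hb'⟩ := (Ideal.mem_map_iff_of_surjective _ Ideal.Quotient.mk_surjective).mp h3
    have h4 : a * r - b ∈ K := Ideal.Quotient.eq.mp hb'.symm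
    have h5 : a * r = b + (a * r - b) := by ring
    rw [h5]
    exact Submodule.add_mem_sup hb h4
  choose c hc hc' using h2
  have h3 : x = Finsupp.linearCombination (R ⧸ K) id (s x) := (LinearMap.congr_fun hs x).symm
  rw [h3, Finsupp.linearCombination_apply, Finsupp.sum]
  refine Submodule.sum_mem _ fun i _ => ?_
  rw [← hc' i]
  show Ideal.Quotient.mk K (c i) • i ∈ _
  rw [hmk]
  exact Submodule.smul_mem_smul (hc i) Submodule.mem_top

end Quot

section Trunc

variable {p : ℕ} [Fact p.Prime] {k : Type u} [CommRing k] [CharP k p] [PerfectRing k p]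

variable {M : Type v} [AddCommGroup M] [Module (WittVector p k) M]
  (F : M →ₛₗ[(WittVector.frobenius : WittVector p k →+* WittVector p k)] M)
  (V : M →ₛₗ[((WittVector.frobeniusEquiv p k).symm : WittVector p k →+* WittVector p k)] M)

omit [PerfectRing k p] in
theorem F_mem_J' {𝔪 : Ideal k} {x : M}
    (hx : x ∈ J p 𝔪 • (⊤ : Submodule (WittVector p k) M)) :
    F x ∈ J p 𝔪 • (⊤ : Submodule (WittVector p k) M) := by
  refine Submodule.smul_induction_on hx ?_ ?_
  · intro r hr n _
    rw [F.map_smulₛₗ]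
    exact Submodule.smul_mem_smul (frobenius_mem_J hr) Submodule.mem_top
  · intro x y hx hy
    rw [map_add]
    exact Submodule.add_mem _ hx hy

omit [PerfectRing k p] [CharP k p] in
theorem exists_p_smul_of_mem {y : M}
    (hy : y ∈ Ideal.span {(p : WittVector p k)} • (⊤ : Submodule (WittVector p k) M)) :
    ∃ b' : M, y = (p : WittVector p k) • b' := by
  refine Submodule.smul_induction_on hy ?_ ?_
  · intro r hr n _
    obtain ⟨c, rfl⟩ := Ideal.mem_span_singleton'.mp hr
    exact ⟨c • n, by rw [mul_comm, mul_smul]⟩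
  · rintro y₁ y₂ ⟨b₁, rfl⟩ ⟨b₂, rfl⟩
    exact ⟨b₁ + b₂, (smul_add _ _ _).symm⟩

omit [PerfectRing k p] [CharP k p] in
theorem p_smul_mem (m : M) : (p : WittVector p k) • m ∈
    Ideal.span {(p : WittVector p k)} • (⊤ : Submodule (WittVector p k) M) :=
  Submodule.smul_mem_smul (Ideal.subset_span rfl) Submodule.mem_top

omit [PerfectRing k p] in
theorem F_span_p_smul_le :
    Ideal.span {(p : WittVector p k)} • (⊤ : Submodule (WittVector p k) M) ≤
      (Ideal.span {(p : WittVector p k)} • (⊤ : Submodule (WittVector p k) M)).comap F := by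
  rw [Submodule.smul_le]
  intro r hr n _
  obtain ⟨c, rfl⟩ := Ideal.mem_span_singleton'.mp hr
  rw [Submodule.mem_comap, F.map_smulₛₗ, map_mul, map_natCast]
  exact Submodule.smul_mem_smul (Ideal.mul_mem_left _ _ (Ideal.subset_span rfl)) Submodule.mem_top

theorem V_span_p_smul_le :
    Ideal.span {(p : WittVector p k)} • (⊤ : Submodule (WittVector p k) M) ≤
      (Ideal.span {(p : WittVector p k)} • (⊤ : Submodule (WittVector p k) M)).comap V := by
  rw [Submodule.smul_le]
  intro r hr n _
  obtain ⟨c, rfl⟩ := Ideal.mem_span_singleton'.mp hr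
  rw [Submodule.mem_comap, V.map_smulₛₗ, map_mul, map_natCast]
  exact Submodule.smul_mem_smul (Ideal.mul_mem_left _ _ (Ideal.subset_span rfl)) Submodule.mem_top

theorem mem_span_range_iff (z : M ⧸ (Ideal.span {(p : WittVector p k)} • ⊤ :
      Submodule (WittVector p k) M)) :
    z ∈ Submodule.span (WittVector p k ⧸ Ideal.span {(p : WittVector p k)})
        (Set.range fun m : M => (Ideal.span {(p : WittVector p k)} • (⊤ :
          Submodule (WittVector p k) M)).mkQ (V m)) ↔
      ∃ u ∈ LinearMap.range V, (Ideal.span {(p : WittVector p k)} • (⊤ :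
          Submodule (WittVector p k) M)).mkQ u = z := by
  constructor
  · intro hz
    induction hz using Submodule.span_induction with
    | mem x hx =>
      obtain ⟨m, rfl⟩ := hx
      exact ⟨V m, LinearMap.mem_range_self V m, rfl⟩
    | zero => exact ⟨0, Submodule.zero_mem _, map_zero _⟩
    | add x y _ _ hx hy =>
      obtain ⟨u, hu, rfl⟩ := hx
      obtain ⟨v, hv, rfl⟩ := hy
      exact ⟨u + v, Submodule.add_mem _ hu hv, map_add _ _ _⟩
    | smul c x _ hx =>
      obtain ⟨u, hu, rfl⟩ := hx
      obtain ⟨c', rfl⟩ := Ideal.Quotient.mk_surjective c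
      refine ⟨c' • u, Submodule.smul_mem _ _ hu, ?_⟩
      rw [map_smul]
      exact (algebraMap_smul (WittVector p k ⧸ Ideal.span {(p : WittVector p k)}) c' _).symm
  · rintro ⟨u, ⟨m, rfl⟩, rfl⟩
    exact Submodule.subset_span ⟨m, rfl⟩

theorem local_key_trunc (n : ℕ) (hn : 2 ≤ n)
    [Module (WittVector p k ⧸ Ideal.span {(p : WittVector p k) ^ n}) M]
    [IsScalarTower (WittVector p k) (WittVector p k ⧸ Ideal.span {(p : WittVector p k) ^ n}) M]
    [Module.Projective (WittVector p k ⧸ Ideal.span {(p : WittVector p k) ^ n}) M]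
    (hFV : ∀ m : M, F (V m) = (p : WittVector p k) • m)
    (hVF : ∀ m : M, V (F m) = (p : WittVector p k) • m)
    (𝔫 : Ideal (WittVector p k)) [𝔫.IsMaximal]
    (hp : Ideal.span {(p : WittVector p k)} ≤ 𝔫) :
    LinearMap.range V ⊓ 𝔫 • (⊤ : Submodule (WittVector p k) M) ≤
      𝔫 • LinearMap.range V ⊔
        Ideal.span {(p : WittVector p k)} • (⊤ : Submodule (WittVector p k) M) := by
  obtain ⟨𝔪, h𝔪, h0, hJ⟩ := exists_prime_of_maximal 𝔫 (hp (Ideal.subset_span rfl))
  haveI := h𝔪
  rintro u ⟨⟨x, rfl⟩, hu⟩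
  have hA : 𝔫 • (⊤ : Submodule (WittVector p k) M) ≤
      J p 𝔪 • ⊤ ⊔ Ideal.span {(p : WittVector p k)} • ⊤ := by
    rw [Submodule.smul_le]
    intro w hw n _
    obtain ⟨j, hj, y, rfl⟩ := exists_J_add_p_mul (h0 w hw)
    rw [add_smul]
    exact Submodule.add_mem_sup (Submodule.smul_mem_smul hj Submodule.mem_top)
      (Submodule.smul_mem_smul (Ideal.mul_mem_right _ _ (Ideal.subset_span rfl))
        Submodule.mem_top)
  obtain ⟨a, ha, b, hb, hab⟩ := Submodule.mem_sup.mp (hA hu)
  obtain ⟨b', rfl⟩ := exists_p_smul_of_mem hb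
  have h1 : V (x - F b') = a := by
    rw [map_sub, hVF, ← hab]
    abel
  have hpow : (p : WittVector p k) ^ n = (p : WittVector p k) * (p : WittVector p k) ^ (n - 1) := by
    rw [← pow_succ', Nat.sub_add_cancel (by omega)]
  have h2 : x - F b' ∈ (J p 𝔪 ⊔ Ideal.span {(p : WittVector p k) ^ (n - 1)}) •
      (⊤ : Submodule (WittVector p k) M) := by
    apply mem_smul_top_of_smul_mem_quot (Ideal.span {(p : WittVector p k) ^ n}) (J p 𝔪) _
      (p : WittVector p k)
    · intro r hr
      obtain ⟨j, hj, t, ht, hjt⟩ := Submodule.mem_sup.mp hr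
      obtain ⟨c, rfl⟩ := Ideal.mem_span_singleton'.mp ht
      have h3 : (p : WittVector p k) * (r - c * (p : WittVector p k) ^ (n - 1)) = j := by
        rw [mul_sub, ← hjt, hpow]
        ring
      have h5 : r - c * (p : WittVector p k) ^ (n - 1) ∈ J p 𝔪 :=
        mem_J_of_p_mul_mem (by rw [h3]; exact hj)
      have h6 : r = (r - c * (p : WittVector p k) ^ (n - 1)) +
          c * (p : WittVector p k) ^ (n - 1) := by ring
      rw [h6]
      exact Submodule.add_mem_sup h5 (Ideal.mul_mem_left _ _ (Ideal.subset_span rfl))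
    · rw [← hFV]
      exact F_mem_J' F (by rw [h1]; exact ha)
  rw [Submodule.sup_smul] at h2
  obtain ⟨j, hj, t, ht, hjt⟩ := Submodule.mem_sup.mp h2
  have h3 : ∀ c ∈ J p 𝔪 • (⊤ : Submodule (WittVector p k) M),
      V c ∈ 𝔫 • LinearMap.range V := by
    intro c hc
    refine Submodule.smul_induction_on hc ?_ ?_
    · intro r hr n _
      rw [V.map_smulₛₗ]
      exact Submodule.smul_mem_smul (hJ (frobeniusEquiv_symm_mem_J hr))
        (LinearMap.mem_range_self V n)
    · intro c₁ c₂ h₁ h₂
      rw [map_add]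
      exact Submodule.add_mem _ h₁ h₂
  have h3' : ∀ c ∈ Ideal.span {(p : WittVector p k) ^ (n - 1)} •
      (⊤ : Submodule (WittVector p k) M),
      V c ∈ Ideal.span {(p : WittVector p k)} • (⊤ : Submodule (WittVector p k) M) := by
    intro c hc
    refine Submodule.smul_induction_on hc ?_ ?_
    · intro r hr m _
      obtain ⟨d, rfl⟩ := Ideal.mem_span_singleton'.mp hr
      rw [V.map_smulₛₗ, map_mul, map_pow, map_natCast]
      refine Submodule.smul_mem_smul ?_ Submodule.mem_top
      have hpow' : (p : WittVector p k) ^ (n - 1) =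
          (p : WittVector p k) ^ (n - 2) * (p : WittVector p k) := by
        rw [← pow_succ]
        congr 1
        omega
      rw [hpow', ← mul_assoc]
      exact Ideal.mul_mem_left _ _ (Ideal.subset_span rfl)
    · intro c₁ c₂ h₁ h₂
      rw [map_add]
      exact Submodule.add_mem _ h₁ h₂
  have h4 : V x = V j + (V t + (p : WittVector p k) • b') := by
    have h5 : x = (j + t) + F b' := by
      rw [hjt]
      abel
    rw [h5, map_add, map_add, hVF, add_assoc]
  rw [h4]
  exact Submodule.add_mem_sup (h3 _ hj) (Submodule.add_mem _ (h3' _ ht) hb)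

/-- Truncated Dieudonné modules of level `n ≥ 2`: `M / V M` is projective over `W / p`. -/
theorem trunc_projective (n : ℕ) (hn : 2 ≤ n)
    [Module (WittVector p k ⧸ Ideal.span {(p : WittVector p k) ^ n}) M]
    [IsScalarTower (WittVector p k) (WittVector p k ⧸ Ideal.span {(p : WittVector p k) ^ n}) M]
    [Module.Finite (WittVector p k ⧸ Ideal.span {(p : WittVector p k) ^ n}) M]
    [Module.Projective (WittVector p k ⧸ Ideal.span {(p : WittVector p k) ^ n}) M]
    (hFV : ∀ m : M, F (V m) = (p : WittVector p k) • m)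
    (hVF : ∀ m : M, V (F m) = (p : WittVector p k) • m) :
    Module.Projective (WittVector p k ⧸ Ideal.span {(p : WittVector p k)})
      ((M ⧸ (Ideal.span {(p : WittVector p k)} • (⊤ : Submodule (WittVector p k) M))) ⧸
        Submodule.span (WittVector p k ⧸ Ideal.span {(p : WittVector p k)})
          (Set.range fun m : M => (Ideal.span {(p : WittVector p k)} •
            (⊤ : Submodule (WittVector p k) M)).mkQ (V m))) := by
  haveI : Module.Finite (WittVector p k) M :=
    Module.Finite.trans (WittVector p k ⧸ Ideal.span {(p : WittVector p k) ^ n}) M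
  have hle : Ideal.span {(p : WittVector p k) ^ n} ≤ Ideal.span {(p : WittVector p k)} := by
    rw [Ideal.span_singleton_le_iff_mem]
    have hpow : (p : WittVector p k) ^ n =
        (p : WittVector p k) ^ (n - 1) * (p : WittVector p k) := by
      rw [← pow_succ, Nat.sub_add_cancel (by omega)]
    rw [hpow]
    exact Ideal.mul_mem_left _ _ (Ideal.subset_span rfl)
  haveI : Module.Projective (WittVector p k ⧸ Ideal.span {(p : WittVector p k)})
      (M ⧸ (Ideal.span {(p : WittVector p k)} • (⊤ : Submodule (WittVector p k) M))) :=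
    projective_quot_smul_top (Ideal.span {(p : WittVector p k)})
      (WittVector p k ⧸ Ideal.span {(p : WittVector p k) ^ n}) Ideal.Quotient.mk_surjective
      (Ideal.Quotient.factor hle) (fun r => Ideal.Quotient.factor_mk hle r)
  have hfg : (LinearMap.range V).FG := by
    rw [LinearMap.range_eq_map]
    exact Submodule.FG.map V Module.Finite.fg_top
  exact projective_quot_of_fibre (Ideal.span {(p : WittVector p k)}) (LinearMap.range V) hfg
    (fun 𝔫 h𝔫 hp => by
      haveI := h𝔫
      exact local_key_trunc F V n hn hFV hVF 𝔫 hp) _ (mem_span_range_iff V)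

/-- Projective Dieudonné modules: level-one conditions modulo `p`. -/
theorem level_one [Module.Finite (WittVector p k) M] [Module.Projective (WittVector p k) M]
    (hFV : ∀ m : M, F (V m) = (p : WittVector p k) • m)
    (hVF : ∀ m : M, V (F m) = (p : WittVector p k) • m) :
    ((Ideal.span {(p : WittVector p k)} • (⊤ : Submodule (WittVector p k) M)).comap F =
        Submodule.span (WittVector p k) (Set.range V) ⊔
          Ideal.span {(p : WittVector p k)} • (⊤ : Submodule (WittVector p k) M) ∧
      (Ideal.span {(p : WittVector p k)} • (⊤ : Submodule (WittVector p k) M)).comap V =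
        Submodule.span (WittVector p k) (Set.range F) ⊔
          Ideal.span {(p : WittVector p k)} • (⊤ : Submodule (WittVector p k) M)) ∧
    Module.Projective (WittVector p k ⧸ Ideal.span {(p : WittVector p k)})
      ((M ⧸ (Ideal.span {(p : WittVector p k)} • (⊤ : Submodule (WittVector p k) M))) ⧸
        Submodule.span (WittVector p k ⧸ Ideal.span {(p : WittVector p k)})
          (Set.range fun m : M => (Ideal.span {(p : WittVector p k)} •
            (⊤ : Submodule (WittVector p k) M)).mkQ (V m))) := by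
  refine ⟨⟨?_, ?_⟩, ?_⟩
  · apply le_antisymm
    · intro x hx
      rw [Submodule.mem_comap] at hx
      obtain ⟨y, hy⟩ := exists_p_smul_of_mem hx
      have h1 : (p : WittVector p k) • (x - V y) = 0 := by
        rw [smul_sub, ← hVF, hy, V.map_smulₛₗ, map_natCast, sub_self]
      have h2 : x - V y = 0 := p_smul_eq_zero (p := p) (k := k) h1
      have h3 : x = V y := sub_eq_zero.mp h2
      rw [h3]
      exact Submodule.mem_sup_left (Submodule.subset_span ⟨y, rfl⟩)
    · refine sup_le (Submodule.span_le.mpr ?_) (F_span_p_smul_le F)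
      rintro _ ⟨m, rfl⟩
      rw [SetLike.mem_coe, Submodule.mem_comap, hFV]
      exact p_smul_mem m
  · apply le_antisymm
    · intro x hx
      rw [Submodule.mem_comap] at hx
      obtain ⟨y, hy⟩ := exists_p_smul_of_mem hx
      have h1 : (p : WittVector p k) • (x - F y) = 0 := by
        rw [smul_sub, ← hFV, hy, F.map_smulₛₗ, map_natCast, sub_self]
      have h2 : x - F y = 0 := p_smul_eq_zero (p := p) (k := k) h1
      have h3 : x = F y := sub_eq_zero.mp h2
      rw [h3]
      exact Submodule.mem_sup_left (Submodule.subset_span ⟨y, rfl⟩)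
    · refine sup_le (Submodule.span_le.mpr ?_) (V_span_p_smul_le V)
      rintro _ ⟨m, rfl⟩
      rw [SetLike.mem_coe, Submodule.mem_comap, hVF]
      exact p_smul_mem m
  · haveI : Module.Projective (WittVector p k ⧸ Ideal.span {(p : WittVector p k)})
        (M ⧸ (Ideal.span {(p : WittVector p k)} • (⊤ : Submodule (WittVector p k) M))) :=
      Module.Projective.of_equiv' (LinearEquiv.extendScalarsOfSurjective
        (Ideal.Quotient.mk_surjective (I := Ideal.span {(p : WittVector p k)}))
        (quotTensorEquivQuotSMul M (Ideal.span {(p : WittVector p k)})))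
    exact projective_quot_of_fibre (Ideal.span {(p : WittVector p k)}) (LinearMap.range V)
      (range_V_fg V)
      (fun 𝔫 h𝔫 hp => by
        haveI := h𝔫
        exact local_key F V hFV hVF 𝔫 hp) _ (mem_span_range_iff V)

end Trunc

end Groth.Agent.Helper22.DieuDisp
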