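import Mathlib

/-!
# Hom quotient for Dieudonné-type modules: abstract linear algebra over a local PID
-/

set_option autoImplicit false
set_option linter.unusedSectionVars false
set_option linter.unusedVariables false

namespace Groth.Agent.Helper22.DieudHom

open Module

section General

variable {R : Type*} [CommRing R] {N : Type*} [AddCommGroup N] [Module R N]

lemma length_congr {P₁ P₂ : Submodule R N} (h : P₁ = P₂) :
    Module.length R (N ⧸ P₁) = Module.length R (N ⧸ P₂) := by
  subst h
  rfl

lemma length_quot_top : Module.length R (N ⧸ (⊤ : Submodule R N)) = 0 := by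
  rw [Module.length_eq_zero_iff]
  refine ⟨fun x y => ?_⟩
  obtain ⟨x, rfl⟩ := Submodule.Quotient.mk_surjective _ x
  obtain ⟨y, rfl⟩ := Submodule.Quotient.mk_surjective _ y
  rw [(Submodule.Quotient.mk_eq_zero _).2 (Submodule.mem_top : x ∈ (⊤ : Submodule R N)),
    (Submodule.Quotient.mk_eq_zero _).2 (Submodule.mem_top : y ∈ (⊤ : Submodule R N))]

end General

section Abstract

variable {R : Type*} [CommRing R] [IsLocalRing R]
  (π : R) (hπ : IsLocalRing.maximalIdeal R = Ideal.span {π})
  {M : Type*} [AddCommGroup M] [Module R M]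
  {N : Type*} [AddCommGroup N] [Module R N]
  {ι : Type*} [Fintype ι] [DecidableEq ι]
  (b' : Basis ι R M) (a : ι → R) (Q : Submodule R M) (ab' : Basis ι R Q)
  (hsnf : ∀ i, (ab' i : M) = a i • b' i)
  (hnu : ∀ i, ¬ IsUnit (a i) → ∃ d : R, IsUnit d ∧ a i = d * π)
  (P : Submodule R N) (hπP : ∀ n : N, π • n ∈ P)

include hsnf hnu hπP in
lemma smul_mem_iff (i : ι) (y : N) : a i • y ∈ P ↔ (IsUnit (a i) → y ∈ P) := by
  by_cases hu : IsUnit (a i)
  · constructor
    · intro h1 _
      obtain ⟨u, hu'⟩ := hu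
      have e : y = (↑u⁻¹ : R) • (a i • y) := by
        rw [smul_smul, ← hu', Units.inv_mul, one_smul]
      rw [e]
      exact P.smul_mem _ h1
    · intro h1
      exact P.smul_mem _ (h1 hu)
  · obtain ⟨d, hd, hda⟩ := hnu i hu
    constructor
    · intro _ h2
      exact absurd h2 hu
    · intro _
      rw [hda, mul_smul]
      exact P.smul_mem _ (hπP y)

include hsnf hnu hπP in
theorem part_b (g : Q →ₗ[R] N ⧸ P) (hg : ∀ i, ¬ IsUnit (a i) → g (ab' i) = 0) :
    ∃ h : M →ₗ[R] N, ∀ x : Q, P.mkQ (h x) = g x := by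
  classical
  have hz : ∀ i, ∃ z : N, a i • P.mkQ z = g (ab' i) := by
    intro i
    by_cases hu : IsUnit (a i)
    · obtain ⟨y, hy⟩ := Submodule.mkQ_surjective P (g (ab' i))
      obtain ⟨u, hu'⟩ := hu
      refine ⟨(↑u⁻¹ : R) • y, ?_⟩
      rw [map_smul, hy, smul_smul, ← hu', Units.mul_inv, one_smul]
    · refine ⟨0, ?_⟩
      rw [map_zero, smul_zero, hg i hu]
  choose z hz using hz
  refine ⟨b'.constr R z, ?_⟩
  have key : P.mkQ ∘ₗ (b'.constr R z) ∘ₗ Q.subtype = g := by
    apply ab'.ext
    intro i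
    rw [LinearMap.comp_apply, LinearMap.comp_apply, Submodule.subtype_apply, hsnf, map_smul,
      Basis.constr_basis, map_smul, hz]
  intro x
  exact LinearMap.congr_fun key x

variable (vm : M → M) (hvm : ∀ x, x ∈ Q ↔ ∃ m, vm m = x)

include hsnf hnu hπP hvm in
lemma mem_K_iff (h : M →ₗ[R] N) :
    (∀ m, h (vm m) ∈ P) ↔ ∀ i, IsUnit (a i) → h (b' i) ∈ P := by
  constructor
  · intro hh i hu
    obtain ⟨m, hm⟩ := (hvm _).1 (ab' i).2
    have h1 := hh m
    rw [hm, hsnf, map_smul] at h1
    exact (smul_mem_iff π b' a Q ab' hsnf hnu P hπP i _).1 h1 hu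
  · intro hh m
    have hmQ : vm m ∈ Q := (hvm _).2 ⟨m, rfl⟩
    obtain ⟨c, hc⟩ := ab'.mem_submodule_iff'.1 hmQ
    rw [hc, map_sum]
    refine P.sum_mem (fun i _ => ?_)
    rw [map_smul, hsnf, map_smul]
    exact P.smul_mem _ ((smul_mem_iff π b' a Q ab' hsnf hnu P hπP i _).2 (hh i))

include hπ hsnf hnu hπP hvm in
theorem part_c (r₂ s₁ : ℕ) (hr₂ : Module.length R (N ⧸ P) = r₂)
    (hs₁ : (Module.finrank R M : ℕ∞) = Module.length R (M ⧸ Q) + s₁) :
    Module.length R ((M →ₗ[R] N) ⧸ ⨅ m : M, P.comap
        (LinearMap.applyₗ (vm m) : (M →ₗ[R] N) →ₗ[R] N)) = (r₂ * s₁ : ℕ) := by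
  classical
  -- the Hom side
  let Pf : ι → Submodule R N := fun i => if IsUnit (a i) then P else ⊤
  have hPf : ∀ i (y : N), y ∈ Pf i ↔ (IsUnit (a i) → y ∈ P) := by
    intro i y
    by_cases hu : IsUnit (a i)
    · simp only [Pf, if_pos hu, hu, forall_true_left]
    · simp only [Pf, if_neg hu, hu, Submodule.mem_top, IsEmpty.forall_iff]
  have hK : (⨅ m : M, P.comap (LinearMap.applyₗ (vm m) : (M →ₗ[R] N) →ₗ[R] N)).map
      ((b'.constr R).symm : (M →ₗ[R] N) ≃ₗ[R] (ι → N)).toLinearMap = Submodule.pi Set.univ Pf := by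
    ext φ
    rw [Submodule.mem_map_equiv, Submodule.mem_iInf, Submodule.mem_pi]
    simp only [Submodule.mem_comap, LinearMap.applyₗ_apply_apply, LinearEquiv.symm_symm,
      Set.mem_univ, forall_true_left]
    rw [mem_K_iff π b' a Q ab' hsnf hnu P hπP vm hvm]
    constructor
    · intro hh i
      rw [hPf]
      intro hu
      have := hh i hu
      rwa [Basis.constr_basis] at this
    · intro hh i hu
      rw [Basis.constr_basis]
      exact (hPf i _).1 (hh i) hu
  have e1 := Submodule.Quotient.equiv _ _ ((b'.constr R).symm : (M →ₗ[R] N) ≃ₗ[R] (ι → N)) hK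
  have e2 := Submodule.quotientPi Pf
  have hterm : ∀ i, Module.length R (N ⧸ Pf i) = if IsUnit (a i) then (r₂ : ℕ∞) else 0 := by
    intro i
    by_cases hu : IsUnit (a i)
    · have e : Pf i = P := if_pos hu
      rw [if_pos hu, ← hr₂]
      exact length_congr e
    · have e : Pf i = ⊤ := if_neg hu
      rw [if_neg hu, length_congr e]
      exact length_quot_top
  have hlenH : Module.length R ((M →ₗ[R] N) ⧸ ⨅ m : M, P.comap
      (LinearMap.applyₗ (vm m) : (M →ₗ[R] N) →ₗ[R] N)) =
      ((Finset.univ.filter fun i => IsUnit (a i)).card : ℕ∞) * r₂ := by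
    rw [(e1.trans e2).length_eq, Module.length_pi_of_fintype,
      Finset.sum_congr rfl (fun i _ => hterm i), Finset.sum_ite, Finset.sum_const_zero, add_zero,
      Finset.sum_const, nsmul_eq_mul]
  -- the M ⧸ Q side
  let If : ι → Submodule R R := fun i => (Ideal.span {a i} : Ideal R)
  have hQ : Q.map (b'.equivFun : M ≃ₗ[R] (ι → R)).toLinearMap = Submodule.pi Set.univ If := by
    ext x
    rw [Submodule.mem_map_equiv, Submodule.mem_pi]
    constructor
    · intro hx i _
      obtain ⟨c, hc⟩ := ab'.mem_submodule_iff'.1 hx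
      have h2 : x = fun j => c j * a j := by
        have h3 : b'.equivFun (b'.equivFun.symm x) = b'.equivFun (∑ j, (c j * a j) • b' j) := by
          rw [hc]
          congr 1
          refine Finset.sum_congr rfl (fun j _ => ?_)
          rw [hsnf, smul_smul]
        rw [LinearEquiv.apply_symm_apply, Basis.equivFun_apply, Basis.repr_sum_self] at h3
        exact h3
      show x i ∈ (Ideal.span {a i} : Ideal R)
      rw [h2]
      exact Ideal.mem_span_singleton'.2 ⟨c i, rfl⟩
    · intro hx
      have hd : ∀ i, ∃ d : R, d * a i = x i := fun i =>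
        Ideal.mem_span_singleton'.1 (hx i (Set.mem_univ i))
      choose d hd using hd
      rw [Basis.equivFun_symm_apply]
      refine Q.sum_mem (fun i _ => ?_)
      rw [← hd i, mul_smul, ← hsnf]
      exact Q.smul_mem _ (ab' i).2
  have e3 := Submodule.Quotient.equiv _ _ (b'.equivFun : M ≃ₗ[R] (ι → R)) hQ
  have e4 := Submodule.quotientPi If
  have hterm2 : ∀ i, Module.length R (R ⧸ If i) = if IsUnit (a i) then (0 : ℕ∞) else 1 := by
    intro i
    by_cases hu : IsUnit (a i)
    · have e : If i = ⊤ := Ideal.span_singleton_eq_top.2 hu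
      rw [if_pos hu, length_congr e]
      exact length_quot_top
    · obtain ⟨d, hd, hda⟩ := hnu i hu
      have e : If i = (IsLocalRing.maximalIdeal R : Ideal R) := by
        show (Ideal.span {a i} : Ideal R) = _
        rw [hda, Ideal.span_singleton_mul_left_unit hd, hπ]
      rw [if_neg hu, length_congr e, Module.length_eq_one_iff]
      exact isSimpleModule_iff_quot_maximal.2
        ⟨IsLocalRing.maximalIdeal R, inferInstance, ⟨LinearEquiv.refl _ _⟩⟩
  have hlenM : Module.length R (M ⧸ Q) =
      ((Finset.univ.filter fun i => ¬ IsUnit (a i)).card : ℕ∞) := by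
    rw [(e3.trans e4).length_eq, Module.length_pi_of_fintype,
      Finset.sum_congr rfl (fun i _ => hterm2 i), Finset.sum_ite, Finset.sum_const_zero, zero_add,
      Finset.sum_const, nsmul_eq_mul, mul_one]
  have hcard : (Finset.univ.filter fun i => IsUnit (a i)).card = s₁ := by
    have h1 := Finset.card_filter_add_card_filter_not (s := (Finset.univ : Finset ι))
      (fun i => IsUnit (a i))
    have h2 : Module.finrank R M = Fintype.card ι := Module.finrank_eq_card_basis b'
    rw [hlenM, h2] at hs₁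
    have h3 : Fintype.card ι =
        (Finset.univ.filter fun i => ¬ IsUnit (a i)).card + s₁ := by exact_mod_cast hs₁
    rw [Finset.card_univ] at h1
    omega
  rw [hlenH, hcard]
  push_cast
  ring

end Abstract

end Groth.Agent.Helper22.DieudHom
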