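import Mathlib
import Groth.Agent.Lib.Helper22.DieudHom1

/-!
# Hom quotient for Dieudonné-type modules: the semilinear setting
-/

set_option autoImplicit false
set_option linter.unusedSectionVars false
set_option linter.unusedVariables false

namespace Groth.Agent.Helper22.DieudHom

open Module

section Semi

variable {R : Type*} [CommRing R] [IsDomain R] [IsPrincipalIdealRing R] [IsLocalRing R]
  (π : R) (hπ : IsLocalRing.maximalIdeal R = Ideal.span {π}) (hπ0 : π ≠ 0)
  (σ : R →+* R) (hσ : Function.Surjective σ)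
  {M : Type*} [AddCommGroup M] [Module R M] [Module.Free R M] [Module.Finite R M]
  {N : Type*} [AddCommGroup N] [Module R N] [Module.Free R N] [Module.Finite R N]
  (FM VM : M →+ M) (FN VN : N →+ N)
  (hVM : ∀ (a : R) (m : M), VM (σ a • m) = a • VM m)
  (hVFM : ∀ m : M, VM (FM m) = π • m)
  (hVN : ∀ (a : R) (n : N), VN (σ a • n) = a • VN n)
  (hFVN : ∀ n : N, FN (VN n) = π • n)
  (hVFN : ∀ n : N, VN (FN n) = π • n)

theorem mem_span_range {N' : Type*} [AddCommGroup N'] [Module R N'] {V : N' →+ N'}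
    (hV : ∀ (a : R) (n : N'), V (σ a • n) = a • V n) {x : N'} :
    x ∈ Submodule.span R (Set.range V) ↔ ∃ n, V n = x := by
  constructor
  · intro hx
    induction hx using Submodule.span_induction with
    | mem x hx => exact hx
    | zero => exact ⟨0, map_zero V⟩
    | add x y _ _ hx hy =>
      obtain ⟨a, rfl⟩ := hx
      obtain ⟨b, rfl⟩ := hy
      exact ⟨a + b, map_add V a b⟩
    | smul r x _ hx =>
      obtain ⟨a, rfl⟩ := hx
      exact ⟨σ r • a, hV r a⟩
  · rintro ⟨n, rfl⟩
    exact Submodule.subset_span ⟨n, rfl⟩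

include hπ0 hFVN in
theorem V_injective : Function.Injective VN := by
  rw [injective_iff_map_eq_zero]
  intro n hn
  have h1 : π • n = 0 := by rw [← hFVN, hn, map_zero]
  exact (smul_eq_zero.1 h1).resolve_left hπ0

include hπ0 hσ hVM hVN hFVN in
theorem part_a (h : M →ₗ[R] N) :
    (∀ m : M, h (VM m) ∈ Submodule.span R (Set.range VN)) ↔
      ∃ h' : M →ₗ[R] N, ∀ m : M, h (VM m) = VN (h' m) := by
  have hinj := V_injective π hπ0 FN VN hFVN
  constructor
  · intro hh
    have hex : ∀ m, ∃ n, VN n = h (VM m) := fun m => (mem_span_range σ hVN).1 (hh m)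
    choose φ hφ using hex
    refine ⟨{ toFun := φ, map_add' := ?_, map_smul' := ?_ }, fun m => (hφ m).symm⟩
    · intro m1 m2
      apply hinj
      rw [hφ, map_add, map_add, map_add, hφ, hφ]
    · intro a m
      obtain ⟨a₀, rfl⟩ := hσ a
      apply hinj
      rw [RingHom.id_apply, hφ, hVM, h.map_smul, ← hφ, hVN]
  · rintro ⟨h', hh'⟩ m
    rw [hh']
    exact Submodule.subset_span ⟨h' m, rfl⟩

include hπ hπ0 hVFM in
theorem exists_adapted :
    ∃ (b' : Basis (Free.ChooseBasisIndex R M) R M) (a : Free.ChooseBasisIndex R M → R)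
      (ab' : Basis (Free.ChooseBasisIndex R M) R (Submodule.span R (Set.range VM))),
      (∀ i, (ab' i : M) = a i • b' i) ∧
        (∀ i, ¬ IsUnit (a i) → ∃ d : R, IsUnit d ∧ a i = d * π) := by
  classical
  have hπQ : ∀ m : M, π • m ∈ Submodule.span R (Set.range VM) := by
    intro m
    rw [← hVFM]
    exact Submodule.subset_span ⟨FM m, rfl⟩
  have hinj : Function.Injective (LinearMap.lsmul R M π) := by
    intro x y hxy
    exact smul_right_injective M hπ0 hxy
  have hle : LinearMap.range (LinearMap.lsmul R M π) ≤ Submodule.span R (Set.range VM) := by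
    rintro _ ⟨m, rfl⟩
    exact hπQ m
  have h1 := LinearMap.finrank_range_of_inj hinj
  have h2 := Submodule.finrank_mono (R := R) hle
  have h3 := Submodule.finrank_le (R := R) (Submodule.span R (Set.range VM))
  have hrank : Module.finrank R (Submodule.span R (Set.range VM)) = Module.finrank R M :=
    le_antisymm h3 (h1 ▸ h2)
  obtain ⟨b', a, ab', hsnf⟩ :=
    Submodule.exists_smith_normal_form_of_rank_eq (Free.chooseBasis R M) hrank
  refine ⟨b', a, ab', hsnf, ?_⟩
  intro i hu
  -- π = c i * a i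
  have hdiv : ∃ c : R, π = c * a i := by
    obtain ⟨c, hc⟩ := ab'.mem_submodule_iff'.1 (hπQ (b' i))
    refine ⟨c i, ?_⟩
    have h4 : π • b' i = ∑ j, (c j * a j) • b' j := by
      rw [hc]
      refine Finset.sum_congr rfl (fun j _ => ?_)
      rw [hsnf, smul_smul]
    have h5 := congrArg (fun y => b'.repr y i) h4
    simp only [Basis.repr_sum_self, map_smul, Basis.repr_self, Finsupp.smul_single,
      smul_eq_mul, mul_one, Finsupp.single_eq_same] at h5
    exact h5
  obtain ⟨c, hc⟩ := hdiv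
  have hmem : a i ∈ IsLocalRing.maximalIdeal R := by
    rw [IsLocalRing.mem_maximalIdeal]
    exact hu
  rw [hπ] at hmem
  obtain ⟨d, hd⟩ := Ideal.mem_span_singleton'.1 hmem
  refine ⟨d, ?_, hd.symm⟩
  have h6 : (d * c) * π = 1 * π := by
    rw [one_mul]
    conv_rhs => rw [hc, ← hd]
    ring
  have h7 : d * c = 1 := mul_right_cancel₀ hπ0 h6
  exact IsUnit.of_mul_eq_one c h7

include hπ hπ0 hσ hVM hVFM hVN hFVN hVFN in
theorem main (r₂ s₁ : ℕ)
    (hr₂ : Module.length R (N ⧸ Submodule.span R (Set.range VN)) = r₂)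
    (hs₁ : (Module.finrank R M : ℕ∞) =
      Module.length R (M ⧸ Submodule.span R (Set.range VM)) + s₁) :
    (∀ h : M →ₗ[R] N,
      (∀ m : M, h (VM m) ∈ Submodule.span R (Set.range VN)) ↔
        ∃ h' : M →ₗ[R] N, ∀ m : M, h (VM m) = VN (h' m)) ∧
    (∀ g : Submodule.span R (Set.range VM) →ₗ[R] N ⧸ Submodule.span R (Set.range VN),
      (∀ m : M, g ⟨VM (FM m), Submodule.subset_span ⟨FM m, rfl⟩⟩ = 0) →
      ∃ h : M →ₗ[R] N, ∀ x : Submodule.span R (Set.range VM),
        (Submodule.span R (Set.range VN)).mkQ (h x) = g x) ∧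
    Module.length R ((M →ₗ[R] N) ⧸
      ⨅ m : M, (Submodule.span R (Set.range VN)).comap
        (LinearMap.applyₗ (VM m) : (M →ₗ[R] N) →ₗ[R] N)) = (r₂ * s₁ : ℕ) := by
  classical
  obtain ⟨b', a, ab', hsnf, hnu⟩ := exists_adapted π hπ hπ0 FM VM hVFM
  have hπP : ∀ n : N, π • n ∈ Submodule.span R (Set.range VN) := by
    intro n
    rw [← hVFN]
    exact Submodule.subset_span ⟨FN n, rfl⟩
  refine ⟨part_a π hπ0 σ hσ VM FN VN hVM hVN hFVN, ?_, ?_⟩
  · intro g hg
    refine part_b π b' a _ ab' hsnf hnu _ hπP g ?_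
    intro i hu
    obtain ⟨d, hd, hda⟩ := hnu i hu
    have e0 : (ab' i : M) = VM (FM (d • b' i)) := by
      rw [hVFM (d • b' i), hsnf, hda, mul_comm, mul_smul]
    have e1 : ab' i = ⟨VM (FM (d • b' i)), Submodule.subset_span ⟨FM (d • b' i), rfl⟩⟩ :=
      Subtype.ext e0
    rw [e1, hg]
  · exact part_c π hπ b' a _ ab' hsnf hnu _ hπP (fun m => VM m)
      (fun x => mem_span_range σ hVM) r₂ s₁ hr₂ hs₁

end Semi

end Groth.Agent.Helper22.DieudHom
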