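import Mathlib
import Groth.Prelude.Def_QFDual
import Groth.Agent.Lib.Helper26.InvSwap

/-!
# Base change of `QFDual.different`

For a `B`-module `M` with an element `τ`, and a base change `g : M → M'` along `B → B'`,
we compare `different B τ · B'` with `different B' (g τ)`.
-/

namespace Groth.Agent.Helper22.DiffBC

universe u

open TensorProduct

section Det

variable {R : Type*} [CommRing R]

/-- If the determinants of all matrices with rows in `S` lie in `J`, so do those of matrices
with rows in the span of `S`. -/
theorem det_mem_of_rows_mem_span {n : ℕ} (S : Set (Fin n → R)) (J : Ideal R)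
    (hS : ∀ N : Matrix (Fin n) (Fin n) R, (∀ i, N i ∈ S) → N.det ∈ J)
    (W : Matrix (Fin n) (Fin n) R) (hW : ∀ i, W i ∈ Submodule.span R S) : W.det ∈ J := by
  classical
  have key : ∀ (T : Finset (Fin n)) (W : Matrix (Fin n) (Fin n) R),
      (∀ i ∈ T, W i ∈ Submodule.span R S) → (∀ i ∉ T, W i ∈ S) → W.det ∈ J := by
    intro T
    induction T using Finset.induction_on with
    | empty =>
      intro W _ h2
      exact hS W fun i => h2 i (Finset.notMem_empty i)
    | insert j T hj ih =>
      intro W h1 h2
      have hrow : W j ∈ Submodule.span R S := h1 j (Finset.mem_insert_self j T)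
      have hall : ∀ x ∈ Submodule.span R S, (W.updateRow j x).det ∈ J := by
        intro x hx
        induction hx using Submodule.span_induction with
        | mem x hx =>
          apply ih
          · intro i hi
            have hij : i ≠ j := fun h => hj (h ▸ hi)
            rw [Matrix.updateRow_ne hij]
            exact h1 i (Finset.mem_insert_of_mem hi)
          · intro i hi
            by_cases hij : i = j
            · subst hij
              rw [Matrix.updateRow_self]
              exact hx
            · rw [Matrix.updateRow_ne hij]
              exact h2 i fun h => (Finset.mem_insert.1 h).elim hij hi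
        | zero =>
          rw [Matrix.det_eq_zero_of_row_eq_zero j (fun k => by simp)]
          exact J.zero_mem
        | add u v _ _ hu hv =>
          rw [Matrix.det_updateRow_add]
          exact J.add_mem hu hv
        | smul s u _ hu =>
          rw [Matrix.det_updateRow_smul]
          exact J.mul_mem_left _ hu
      have := hall (W j) hrow
      rwa [Matrix.updateRow_eq_self] at this
  exact key Finset.univ W (fun i _ => hW i) (fun i hi => absurd (Finset.mem_univ i) hi)

end Det

variable {B B' : Type u} [CommRing B] [CommRing B'] [Algebra B B']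
  {M M' : Type u} [AddCommGroup M] [AddCommGroup M'] [Module B M] [Module B M'] [Module B' M']
  [IsScalarTower B B' M']

/-- membership in the different can be tested on generators. -/
theorem mem_different_of_generators {ι : Type*} (m : ι → M)
    (hm : Submodule.span B (Set.range m) = ⊤) (τ : M) (r : B)
    (h : ∀ l, r • m l ∈ Submodule.span B {τ}) : r ∈ QFDual.different B τ := by
  rw [QFDual.mem_different_iff]
  intro x
  have hx : x ∈ Submodule.span B (Set.range m) := hm ▸ Submodule.mem_top
  have hrx : r • x ∈ Submodule.span B {τ} := by
    induction hx using Submodule.span_induction with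
    | mem x hx =>
      obtain ⟨l, rfl⟩ := hx
      exact h l
    | zero =>
      rw [smul_zero]
      exact Submodule.zero_mem _
    | add u v _ _ hu hv =>
      rw [smul_add]
      exact Submodule.add_mem _ hu hv
    | smul s u _ hu =>
      rw [smul_comm]
      exact Submodule.smul_mem _ _ hu
  exact Submodule.mem_span_singleton.1 hrx

/-- (1) the extension of the different is contained in the different of the base change. -/
theorem map_different_le (g : M →ₗ[B] M') (hg : IsBaseChange B' g) (τ : M) :
    Ideal.map (algebraMap B B') (QFDual.different B τ) ≤ QFDual.different B' (g τ) := by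
  rw [Ideal.map_le_iff_le_comap]
  intro b hb
  rw [Ideal.mem_comap, QFDual.mem_different_iff]
  intro m'
  refine hg.inductionOn m' (fun m' => ∃ c : B', c • g τ = algebraMap B B' b • m') ?_ ?_ ?_ ?_
  · exact ⟨0, by rw [zero_smul, smul_zero]⟩
  · intro m
    obtain ⟨c, hc⟩ := (QFDual.mem_different_iff B τ b).1 hb m
    exact ⟨algebraMap B B' c, by
      rw [algebraMap_smul, algebraMap_smul, ← map_smul, ← map_smul, hc]⟩
  · rintro s n ⟨c, hc⟩
    exact ⟨s * c, by rw [mul_smul, hc, smul_comm]⟩
  · rintro n₁ n₂ ⟨c₁, h₁⟩ ⟨c₂, h₂⟩
    exact ⟨c₁ + c₂, by rw [add_smul, h₁, h₂, smul_add]⟩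

/-- a relation in the base change gives a vanishing tensor. -/
theorem sum_tmul_eq_zero (g : M →ₗ[B] M') (hg : IsBaseChange B' g) {ι : Type*} [Fintype ι]
    (m : ι → M) (u' : ι → B') (h : ∑ i, u' i • g (m i) = 0) :
    ∑ i, m i ⊗ₜ[B] u' i = (0 : M ⊗[B] B') := by
  have h1 : hg.equiv (∑ i, u' i ⊗ₜ[B] m i) = 0 := by
    rw [map_sum]
    simpa [IsBaseChange.equiv_tmul] using h
  have h2 : ∑ i, u' i ⊗ₜ[B] m i = (0 : B' ⊗[B] M) :=
    hg.equiv.injective (by rw [h1, map_zero])
  have h3 := congrArg (TensorProduct.comm B B' M) h2
  simpa [map_sum] using h3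

/-- (3) for a flat base change the different commutes with base change. -/
theorem different_le_map_of_flat [Module.Flat B B'] [Module.Finite B M]
    (g : M →ₗ[B] M') (hg : IsBaseChange B' g) (τ : M) :
    QFDual.different B' (g τ) ≤ Ideal.map (algebraMap B B') (QFDual.different B τ) := by
  classical
  intro r' hr'
  obtain ⟨n, m, hm⟩ := Module.Finite.exists_fin (R := B) (M := M)
  have hc : ∀ i, ∃ c : B', c • g τ = r' • g (m i) := fun i =>
    (QFDual.mem_different_iff B' (g τ) r').1 hr' (g (m i))
  choose c' hc' using hc
  have hgn : IsBaseChange B' (g.compLeft (Fin n)) := hg.finitePow (Fin n)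
  let μ : Option (Fin n) → (Fin n → M) := fun o => o.elim m (fun i => Pi.single i τ)
  let u' : Option (Fin n) → B' := fun o => o.elim r' (fun i => - c' i)
  have hrel : ∑ o, u' o • (g.compLeft (Fin n)) (μ o) = 0 := by
    rw [Fintype.sum_option]
    funext l
    simp only [μ, u', Option.elim_none, Option.elim_some, Pi.add_apply, Pi.smul_apply,
      Finset.sum_apply, LinearMap.compLeft_apply, Function.comp_apply, Pi.zero_apply]
    rw [Finset.sum_eq_single l]
    · rw [Pi.single_eq_same, neg_smul, hc' l, add_neg_cancel]
    · intro i _ hil
      rw [Pi.single_eq_of_ne hil.symm, map_zero, smul_zero]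
    · intro h
      exact absurd (Finset.mem_univ l) h
  have hten := sum_tmul_eq_zero (g.compLeft (Fin n)) hgn μ u' hrel
  have hinj : Function.Injective
      (LinearMap.rTensor B' (Submodule.span B (Set.range μ)).subtype) :=
    Module.Flat.rTensor_preserves_injective_linearMap _ (Submodule.injective_subtype _)
  obtain ⟨k, a, y, hy, ha⟩ :=
    TensorProduct.vanishesTrivially_of_sum_tmul_eq_zero_of_rTensor_injective B hinj hten
  have hmem : ∀ j, a none j ∈ QFDual.different B τ := by
    intro j
    apply mem_different_of_generators m hm
    intro l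
    have h1 := congrFun (ha j) l
    rw [Fintype.sum_option] at h1
    simp only [μ, Option.elim_none, Option.elim_some, Pi.add_apply, Pi.smul_apply,
      Finset.sum_apply, Pi.zero_apply] at h1
    rw [Finset.sum_eq_single l] at h1
    · rw [Pi.single_eq_same] at h1
      rw [eq_neg_of_add_eq_zero_left h1, ← neg_smul]
      exact Submodule.smul_mem _ _ (Submodule.mem_span_singleton_self τ)
    · intro i _ hil
      rw [Pi.single_eq_of_ne hil.symm, smul_zero]
    · intro h
      exact absurd (Finset.mem_univ l) h
  have hr : r' = ∑ j, a none j • y j := hy none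
  rw [hr]
  refine Ideal.sum_mem _ fun j _ => ?_
  rw [Algebra.smul_def]
  exact Ideal.mul_mem_right _ _ (Ideal.mem_map_of_mem _ (hmem j))

/-- (2) the radicals agree for any base change. -/
theorem different_le_radical_map [Module.Finite B M]
    (g : M →ₗ[B] M') (hg : IsBaseChange B' g) (τ : M) :
    QFDual.different B' (g τ) ≤
      (Ideal.map (algebraMap B B') (QFDual.different B τ)).radical := by
  classical
  intro r' hr'
  obtain ⟨n, m, hm⟩ := Module.Finite.exists_fin (R := B) (M := M)
  have hc : ∀ i, ∃ c : B', c • g τ = r' • g (m i) := fun i =>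
    (QFDual.mem_different_iff B' (g τ) r').1 hr' (g (m i))
  choose c' hc' using hc
  let μ : Option (Fin n) → M := fun o => o.elim τ m
  have hμ : Submodule.span B (Set.range μ) = ⊤ := by
    rw [eq_top_iff, ← hm]
    apply Submodule.span_mono
    rintro _ ⟨i, rfl⟩
    exact ⟨some i, rfl⟩
  -- the set of relation vectors modulo `τ`
  let K : Set (Fin n → B) := {u | ∑ l, u l • m l ∈ Submodule.span B {τ}}
  let S : Set (Fin n → B') := {v | ∃ u ∈ K, v = fun l => algebraMap B B' (u l)}
  let J : Ideal B' := Ideal.map (algebraMap B B') (QFDual.different B τ)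
  -- determinants of matrices with rows in `S` lie in `J`
  have hS : ∀ N : Matrix (Fin n) (Fin n) B', (∀ i, N i ∈ S) → N.det ∈ J := by
    intro N hN
    choose U hUK hU using hN
    have hNU : N = (algebraMap B B').mapMatrix (Matrix.of U) := by
      ext i l
      rw [hU i]
      rfl
    rw [hNU, ← RingHom.map_det]
    apply Ideal.mem_map_of_mem
    apply mem_different_of_generators m hm
    intro l
    have h1 : (Matrix.of U).det • m l =
        ∑ i, (Matrix.of U).adjugate l i • ∑ k, U i k • m k := by
      have h2 : (Matrix.of U).det • m l =
          ∑ k, ((Matrix.of U).adjugate * Matrix.of U) l k • m k := by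
        rw [Matrix.adjugate_mul]
        simp [Matrix.smul_apply, Matrix.one_apply]
      rw [h2]
      simp only [Matrix.mul_apply, Finset.sum_smul, Finset.smul_sum, Matrix.of_apply, mul_smul]
      rw [Finset.sum_comm]
    rw [h1]
    exact Submodule.sum_mem _ fun i _ => Submodule.smul_mem _ _ (hUK i)
  -- the rows of `r' • 1` lie in the span of `S`
  have hW : ∀ i, (r' • (1 : Matrix (Fin n) (Fin n) B')) i ∈ Submodule.span B' S := by
    intro i
    let u' : Option (Fin n) → B' := fun o => o.elim (- c' i) (fun l => if l = i then r' else 0)
    have hrel : ∑ o, u' o • g (μ o) = 0 := by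
      rw [Fintype.sum_option]
      simp only [μ, u', Option.elim_none, Option.elim_some]
      rw [Finset.sum_eq_single i]
      · rw [if_pos rfl, neg_smul, hc' i, neg_add_cancel]
      · intro l _ hli
        rw [if_neg hli, zero_smul]
      · intro h
        exact absurd (Finset.mem_univ i) h
    have hten := sum_tmul_eq_zero g hg μ u' hrel
    obtain ⟨k, a, y, hy, ha⟩ := TensorProduct.vanishesTrivially_of_sum_tmul_eq_zero B hμ hten
    have hrow : (r' • (1 : Matrix (Fin n) (Fin n) B')) i =
        ∑ j, y j • (fun l => algebraMap B B' (a (some l) j)) := by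
      funext l
      have h1 := hy (some l)
      simp only [u', Option.elim_some] at h1
      rw [Matrix.smul_apply, Matrix.one_apply, Finset.sum_apply]
      simp only [Pi.smul_apply, smul_eq_mul]
      rw [show (if i = l then (1 : B') else 0) = if l = i then 1 else 0 from by
        simp only [eq_comm], mul_ite, mul_one, mul_zero, h1]
      refine Finset.sum_congr rfl fun j _ => ?_
      rw [Algebra.smul_def, mul_comm]
    rw [hrow]
    refine Submodule.sum_mem _ fun j _ => Submodule.smul_mem _ _ (Submodule.subset_span ?_)
    refine ⟨fun l => a (some l) j, ?_, rfl⟩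
    have h2 := ha j
    rw [Fintype.sum_option] at h2
    simp only [μ, Option.elim_none, Option.elim_some] at h2
    change ∑ l, a (some l) j • m l ∈ Submodule.span B {τ}
    rw [eq_neg_of_add_eq_zero_right h2, ← neg_smul]
    exact Submodule.smul_mem _ _ (Submodule.mem_span_singleton_self τ)
  have hdet := det_mem_of_rows_mem_span S J hS _ hW
  rw [Matrix.det_smul, Matrix.det_one, mul_one, Fintype.card_fin] at hdet
  exact ⟨n, hdet⟩

/-- (4) for an invertible module the different commutes with any base change. -/
theorem different_le_map_of_invertible [Module.Invertible B M]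
    (g : M →ₗ[B] M') (hg : IsBaseChange B' g) (τ : M) :
    QFDual.different B' (g τ) ≤ Ideal.map (algebraMap B B') (QFDual.different B τ) := by
  intro r' hr'
  have hFτ : ∀ F : Module.Dual B M, F τ ∈ QFDual.different B τ := by
    intro F
    rw [QFDual.mem_different_iff]
    intro x
    exact ⟨F x, (Groth.Agent.Helper26.InvSwap.swap F τ x).symm⟩
  have key : ∀ t : Module.Dual B M ⊗[B] M,
      r' * algebraMap B B' (contractLeft B M t) ∈
        Ideal.map (algebraMap B B') (QFDual.different B τ) := by
    intro t
    induction t using TensorProduct.induction_on with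
    | zero =>
      rw [map_zero, map_zero, mul_zero]
      exact Ideal.zero_mem _
    | tmul F m =>
      obtain ⟨c', hc'⟩ := (QFDual.mem_different_iff B' (g τ) r').1 hr' (g m)
      have h1 : r' * algebraMap B B' (F m) = c' * algebraMap B B' (F τ) := by
        have e1 : hg.toDual F (r' • g m) = r' * algebraMap B B' (F m) := by
          rw [(hg.toDual F).map_smul, hg.toDual_comp_apply, smul_eq_mul]
        have e2 : hg.toDual F (c' • g τ) = c' * algebraMap B B' (F τ) := by
          rw [(hg.toDual F).map_smul, hg.toDual_comp_apply, smul_eq_mul]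
        rw [← e1, ← e2, hc']
      rw [contractLeft_apply, h1]
      exact Ideal.mul_mem_left _ _ (Ideal.mem_map_of_mem _ (hFτ F))
    | add x y hx hy =>
      rw [map_add, map_add, mul_add]
      exact Ideal.add_mem _ hx hy
  obtain ⟨t, ht⟩ := (Module.Invertible.bijective (R := B) (M := M)).2 1
  have := key t
  rwa [ht, map_one, mul_one] at this

end Groth.Agent.Helper22.DiffBC
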