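import Mathlib

/-!
# Degree `p` division algebras in characteristic `p`: auxiliary lemmas
-/

set_option autoImplicit false

namespace Groth.Agent.Helper22.DivAlg

open Module Polynomial

universe u v w

/-- the dimension of a subalgebra of a finite-dimensional division algebra divides the dimension -/
theorem finrank_subalgebra_dvd (K : Type u) [Field K] (A : Type v) [DivisionRing A] [Algebra K A]
    [FiniteDimensional K A] (D : Subalgebra K A) : finrank K D ∣ finrank K A := by
  let _ : DivisionRing D := divisionRingOfFiniteDimensional K D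
  exact Dvd.intro _ (Module.finrank_mul_finrank K D A)

/-- an element outside `K` whose `p`-th power lies in `K` is not separable (char `p`). -/
theorem not_isSeparable_of_pow_eq (K : Type u) [Field K] (p : ℕ) [Fact p.Prime] [CharP K p]
    (A : Type v) [DivisionRing A] [Algebra K A] (u : A) (k : K)
    (hu : u ^ p = algebraMap K A k) (hnot : u ∉ Set.range (algebraMap K A)) :
    ¬ IsSeparable K u := by
  have hp : p.Prime := Fact.out
  haveI : CharP A p := charP_of_injective_algebraMap (algebraMap K A).injective p
  by_cases h : ∃ b : K, b ^ p = k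
  · obtain ⟨b, rfl⟩ := h
    exfalso
    apply hnot
    refine ⟨b, ?_⟩
    have h1 : (u - algebraMap K A b) ^ p = 0 := by
      rw [sub_pow_char_of_commute p (Algebra.commutes b u).symm, hu, map_pow, sub_self]
    have h2 := pow_eq_zero_iff (hp.ne_zero) |>.mp h1
    exact (sub_eq_zero.mp h2).symm
  · push_neg at h
    have hirr : Irreducible (X ^ p - C k : K[X]) := X_pow_sub_C_irreducible_of_prime hp h
    have hmonic : (X ^ p - C k : K[X]).Monic := monic_X_pow_sub_C k hp.ne_zero
    have haeval : aeval u (X ^ p - C k : K[X]) = 0 := by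
      rw [map_sub, map_pow, aeval_X, aeval_C, hu, sub_self]
    have hmin : (X ^ p - C k : K[X]) = minpoly K u :=
      minpoly.eq_of_irreducible_of_monic hirr haeval hmonic
    intro hsep
    unfold IsSeparable at hsep
    rw [← hmin] at hsep
    have hd := (separable_iff_derivative_ne_zero hirr).mp hsep
    apply hd
    rw [derivative_sub, derivative_X_pow, derivative_C, sub_zero, CharP.cast_eq_zero K p, map_zero,
      zero_mul]

/-- If a product of `ρ - cᵢ` kills a nonzero vector, some `cᵢ` is an eigenvalue. -/
theorem exists_eigen {L : Type u} [Field L] {A : Type v} [AddCommGroup A] [Module L A]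
    (ρ : Module.End L A) {ι : Type w} (S : Finset ι) (c : ι → L) (a : A) (ha : a ≠ 0)
    (h : aeval ρ (∏ i ∈ S, (X - C (c i))) a = 0) :
    ∃ i ∈ S, ∃ u : A, u ≠ 0 ∧ ρ u = c i • u := by
  classical
  induction S using Finset.induction_on generalizing a with
  | empty =>
    exfalso
    apply ha
    simpa using h
  | insert j S hj ih =>
    rw [Finset.prod_insert hj, map_mul, Module.End.mul_apply] at h
    by_cases hb : aeval ρ (∏ i ∈ S, (X - C (c i))) a = 0
    · obtain ⟨i, hi, u, hu, hρ⟩ := ih a ha hb
      exact ⟨i, Finset.mem_insert_of_mem hi, u, hu, hρ⟩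
    · refine ⟨j, Finset.mem_insert_self j S, _, hb, ?_⟩
      rw [map_sub, aeval_X, aeval_C, LinearMap.sub_apply, Module.algebraMap_end_apply] at h
      exact sub_eq_zero.mp h

/-- the centralizer of a subfield of degree `p` in a central division algebra of degree `p`. -/
theorem mem_range_of_commute (K : Type u) [Field K] (p : ℕ) [Fact p.Prime]
    (A : Type v) [DivisionRing A] [Algebra K A] [Algebra.IsCentral K A] [FiniteDimensional K A]
    (hA : finrank K A = p ^ 2) (L : Type w) [Field L] [Algebra K L]
    (hL : finrank K L = p) (ι : L →ₐ[K] A) (c : A) (hc : ∀ x : L, c * ι x = ι x * c) :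
    c ∈ ι.range := by
  have hp : p.Prime := Fact.out
  let D : Subalgebra K A := Subalgebra.centralizer K (Set.range ι)
  have hle : ι.range ≤ D := by
    rintro _ ⟨x, rfl⟩
    rw [Subalgebra.mem_centralizer_iff]
    rintro _ ⟨y, rfl⟩
    show ι y * ι x = ι x * ι y
    rw [← map_mul, ← map_mul, mul_comm]
  have hcD : c ∈ D := by
    rw [Subalgebra.mem_centralizer_iff]
    rintro _ ⟨y, rfl⟩
    exact (hc y).symm
  have hrange : finrank K ι.range = p := by
    rw [← hL]
    exact (LinearEquiv.finrank_eq (AlgEquiv.ofInjective ι ι.toRingHom.injective).toLinearEquiv).symm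
  have hdvd : finrank K D ∣ p ^ 2 := hA ▸ finrank_subalgebra_dvd K A D
  have hmono : finrank K ι.range ≤ finrank K D :=
    Submodule.finrank_mono (show Subalgebra.toSubmodule ι.range ≤ Subalgebra.toSubmodule D from hle)
  obtain ⟨j, hj, hjeq⟩ := (Nat.dvd_prime_pow hp).mp hdvd
  interval_cases j
  · exfalso
    rw [hrange, hjeq, pow_zero] at hmono
    exact absurd hmono (not_le.mpr hp.one_lt)
  · have heq : Subalgebra.toSubmodule ι.range = Subalgebra.toSubmodule D := by
      apply Submodule.eq_of_le_of_finrank_eq hle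
      show finrank K ι.range = finrank K D
      rw [hrange, hjeq, pow_one]
    have : c ∈ Subalgebra.toSubmodule ι.range := by rw [heq]; exact hcD
    exact this
  · exfalso
    have htop : D = ⊤ := by
      apply Algebra.toSubmodule_eq_top.1
      apply Submodule.eq_top_of_finrank_eq
      show finrank K D = finrank K A
      rw [hjeq, hA]
    have hcen : ι.range ≤ Subalgebra.center K A := by
      rintro _ ⟨x, rfl⟩
      rw [Subalgebra.mem_center_iff]
      intro a
      have ha : a ∈ D := by rw [htop]; trivial
      rw [Subalgebra.mem_centralizer_iff] at ha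
      exact (ha _ ⟨x, rfl⟩).symm
    rw [Algebra.IsCentral.center_eq_bot] at hcen
    have h1 : finrank K ι.range ≤ finrank K (⊥ : Subalgebra K A) :=
      Submodule.finrank_mono (show Subalgebra.toSubmodule ι.range ≤ Subalgebra.toSubmodule ⊥ from hcen)
    rw [hrange, Subalgebra.finrank_bot] at h1
    exact absurd h1 (not_le.mpr hp.one_lt)

/-- right multiplication as an `L`-linear map, and polynomials in it -/
theorem aeval_mulRight {K : Type u} [Field K] {A : Type v} [Ring A] [Algebra K A]
    {L : Type w} [Field L] [Algebra K L] [Module L A] [IsScalarTower K L A] [SMulCommClass L K A]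
    (b : A) (ρ : Module.End L A) (hρ : ∀ a, ρ a = a * b) (q : K[X]) (a : A) :
    (aeval ρ q) a = a * aeval b q := by
  have hpow : ∀ (n : ℕ) (a : A), (ρ ^ n) a = a * b ^ n := by
    intro n
    induction n with
    | zero => intro a; simp
    | succ n ih => intro a; rw [pow_succ, Module.End.mul_apply, hρ, ih, pow_succ', mul_assoc]
  induction q using Polynomial.induction_on' with
  | add q r hq hr => rw [map_add, LinearMap.add_apply, hq, hr, map_add, mul_add]
  | monomial n k =>
    rw [aeval_monomial, aeval_monomial, Module.End.mul_apply, hpow, Module.algebraMap_end_apply,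
      Algebra.algebraMap_eq_smul_one, smul_mul_assoc, one_mul, mul_smul_comm]

theorem exists_pow_eq (K : Type u) [Field K] (p : ℕ) [Fact p.Prime]
    (A : Type v) [DivisionRing A] [Algebra K A] [Algebra.IsCentral K A] [FiniteDimensional K A]
    (hA : finrank K A = p ^ 2) (L : Type w) [Field L] [Algebra K L] [IsGalois K L]
    (hL : finrank K L = p) (ι : L →ₐ[K] A) :
    ∃ (u : A) (k : K), u ^ p = algebraMap K A k ∧ u ∉ Set.range (algebraMap K A) := by
  classical
  have hp : p.Prime := Fact.out
  haveI : FiniteDimensional K L := Module.finite_of_finrank_pos (by rw [hL]; exact hp.pos)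
  have hcard : Nat.card (L ≃ₐ[K] L) = p := (IsGalois.card_aut_eq_finrank K L).trans hL
  have hιinj : Function.Injective ι := ι.toRingHom.injective
  -- primitive element
  obtain ⟨θ, hθ⟩ := Field.exists_primitive_element K L
  have hadj : Algebra.adjoin K {θ} = ⊤ := by
    have := IntermediateField.adjoin_simple_toSubalgebra_of_isAlgebraic
      (IsAlgebraic.of_finite K θ)
    rw [← this, hθ, IntermediateField.top_toSubalgebra]
  have hstab : ∀ τ : L ≃ₐ[K] L, τ θ = θ → τ = 1 := by
    intro τ h
    have : (τ : L →ₐ[K] L) = AlgHom.id K L := by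
      apply AlgHom.ext_of_adjoin_eq_top hadj
      intro x hx
      rw [Set.mem_singleton_iff] at hx
      subst hx
      exact h
    apply AlgEquiv.ext
    intro x
    exact AlgHom.congr_fun this x
  -- ι θ is not central
  have hnc : ∃ a : A, a * ι θ ≠ ι θ * a := by
    by_contra hcon
    push_neg at hcon
    have hcen : ι θ ∈ Subalgebra.center K A := by
      rw [Subalgebra.mem_center_iff]
      intro a
      exact hcon a
    rw [Algebra.IsCentral.center_eq_bot, Algebra.mem_bot] at hcen
    obtain ⟨k, hk⟩ := hcen
    have hθk : θ = algebraMap K L k := by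
      apply hιinj
      rw [AlgHom.commutes, hk]
    have hall : ∀ τ : L ≃ₐ[K] L, τ = 1 := fun τ => hstab τ (by rw [hθk, AlgEquiv.commutes])
    haveI : Subsingleton (L ≃ₐ[K] L) := ⟨fun a b => by rw [hall a, hall b]⟩
    have h1 : Nat.card (L ≃ₐ[K] L) = 1 := Nat.card_unique
    rw [hcard] at h1
    exact hp.one_lt.ne' h1
  obtain ⟨a, ha⟩ := hnc
  -- L-module structure on A
  letI : Module L A := Module.compHom A (ι : L →+* A)
  have hsmul : ∀ (l : L) (a : A), l • a = ι l * a := fun l a => rfl
  haveI : IsScalarTower K L A := ⟨fun k l a => by rw [hsmul, hsmul, map_smul, smul_mul_assoc]⟩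
  haveI : SMulCommClass L K A := ⟨fun l k a => by rw [hsmul, hsmul, mul_smul_comm]⟩
  let ρ : Module.End L A :=
    { toFun := fun a => a * ι θ
      map_add' := fun a b => add_mul a b _
      map_smul' := fun l a => by simp only [hsmul, RingHom.id_apply, mul_assoc] }
  have hρ : ∀ a, ρ a = a * ι θ := fun a => rfl
  let F : L[X] := ∏ τ : (L ≃ₐ[K] L), (X - C (τ θ))
  have hF : F ∈ Polynomial.lifts (algebraMap K L) := by
    rw [Polynomial.lifts_iff_coeff_lifts]
    intro n
    rw [IsGalois.mem_range_algebraMap_iff_fixed]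
    intro σ
    have hmap : F.map (σ : L →+* L) = F := by
      rw [Polynomial.map_prod]
      simp only [Polynomial.map_sub, Polynomial.map_X, Polynomial.map_C]
      exact Fintype.prod_equiv (Equiv.mulLeft σ) _ _ (fun τ => rfl)
    have := Polynomial.coeff_map (σ : L →+* L) (p := F) n
    rw [hmap] at this
    exact this.symm
  obtain ⟨g, hg⟩ := (Polynomial.mem_lifts F).mp hF
  have hgθ : aeval θ g = 0 := by
    rw [← Polynomial.eval_map_algebraMap, hg]
    show eval θ (∏ τ : (L ≃ₐ[K] L), (X - C (τ θ))) = 0
    rw [Polynomial.eval_prod]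
    apply Finset.prod_eq_zero (Finset.mem_univ (1 : L ≃ₐ[K] L))
    simp
  have hFρ : ∀ a, aeval ρ F a = 0 := by
    intro a
    rw [← hg, Polynomial.aeval_map_algebraMap, aeval_mulRight (ι θ) ρ hρ g a,
      Polynomial.aeval_algHom_apply, hgθ, map_zero, mul_zero]
  -- the eigenvector
  let P : L[X] := ∏ τ ∈ (Finset.univ : Finset (L ≃ₐ[K] L)).erase 1, (X - C (τ θ))
  have hFP : F = P * (X - C θ) := by
    rw [mul_comm]
    exact (Finset.mul_prod_erase Finset.univ (fun τ : (L ≃ₐ[K] L) => (X - C (τ θ)))
      (Finset.mem_univ 1)).symm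
  let a' : A := a * ι θ - ι θ * a
  have ha' : a' ≠ 0 := sub_ne_zero.mpr ha
  have hPa' : aeval ρ P a' = 0 := by
    have := hFρ a
    rw [hFP, map_mul, Module.End.mul_apply, map_sub, aeval_X, aeval_C, LinearMap.sub_apply,
      Module.algebraMap_end_apply] at this
    exact this
  obtain ⟨τ, hτ, u, hu, hρu⟩ := exists_eigen ρ _ (fun τ : (L ≃ₐ[K] L) => τ θ) a' ha' hPa'
  have hτ1 : τ ≠ 1 := (Finset.mem_erase.mp hτ).1
  have huθ : u * ι θ = ι (τ θ) * u := hρu
  -- extend to all of L
  have hext : ∀ x : L, u * ι x = ι (τ x) * u := by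
    intro x
    have hx : x ∈ Algebra.adjoin K {θ} := by rw [hadj]; trivial
    induction hx using Algebra.adjoin_induction with
    | mem y hy =>
      rw [Set.mem_singleton_iff] at hy
      subst hy
      exact huθ
    | algebraMap r =>
      rw [AlgEquiv.commutes, AlgHom.commutes]
      exact (Algebra.commutes r u).symm
    | add y z _ _ hy hz => rw [map_add, map_add, map_add, mul_add, add_mul, hy, hz]
    | mul y z _ _ hy hz =>
      rw [map_mul, map_mul, map_mul, ← mul_assoc, hy, mul_assoc, hz, mul_assoc]
  have hpow : ∀ (n : ℕ) (x : L), u ^ n * ι x = ι ((τ ^ n) x) * u ^ n := by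
    intro n
    induction n with
    | zero => intro x; simp
    | succ n ih =>
      intro x
      rw [pow_succ, mul_assoc, hext, ← mul_assoc, ih, mul_assoc, pow_succ τ n]
      rfl
  have hτp : τ ^ p = 1 := by rw [← hcard]; exact pow_card_eq_one'
  have hcomm : ∀ x : L, u ^ p * ι x = ι x * u ^ p := by
    intro x
    rw [hpow p x, hτp]
    rfl
  obtain ⟨y, hy⟩ := mem_range_of_commute K p A hA L hL ι (u ^ p) hcomm
  have hτy : τ y = y := by
    apply hιinj
    have h1 : u * ι y = ι (τ y) * u := hext y
    have h2 : u * ι y = ι y * u := by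
      have hy' : ι y = u ^ p := hy
      rw [hy', ← pow_succ', pow_succ]
    rw [h1] at h2
    exact mul_right_cancel₀ hu h2
  have hy_fixed : ∀ σ : L ≃ₐ[K] L, σ y = y := by
    intro σ
    have hz : Subgroup.zpowers τ = ⊤ := zpowers_eq_top_of_prime_card hcard hτ1
    have hle : Subgroup.zpowers τ ≤ MulAction.stabilizer (L ≃ₐ[K] L) y := by
      rw [Subgroup.zpowers_le]
      exact hτy
    have : σ ∈ MulAction.stabilizer (L ≃ₐ[K] L) y := hle (by rw [hz]; trivial)
    exact this
  obtain ⟨k, hk⟩ := (IsGalois.mem_range_algebraMap_iff_fixed y).mpr hy_fixed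
  refine ⟨u, k, ?_, ?_⟩
  · have hy' : ι y = u ^ p := hy
    rw [← hy', ← hk, AlgHom.commutes]
  · rintro ⟨r, hr⟩
    apply hτ1
    apply hstab
    apply hιinj
    have h1 : u * ι θ = ι θ * u := by
      rw [← hr]
      exact (Algebra.commutes r (ι θ))
    rw [huθ] at h1
    exact mul_right_cancel₀ hu h1

end Groth.Agent.Helper22.DivAlg
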