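import Groth.Agent.Lib.Helper22.DivAlg

/-!
# Degree `p` division algebras in characteristic `p`: inseparable elements and `[v,u] = 1`
-/

set_option autoImplicit false

namespace Groth.Agent.Helper22.DivAlg

open Module Polynomial

universe u v w

section

variable (K : Type u) [Field K] (p : ℕ) [Fact p.Prime]
  (A : Type v) [DivisionRing A] [Algebra K A] [Algebra.IsCentral K A] [FiniteDimensional K A]

include p in
/-- a commutative subalgebra of a central division algebra of dimension `p²` has dimension `≤ p` -/
theorem finrank_le_of_comm (hA : finrank K A = p ^ 2) (S : Subalgebra K A)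
    (hS : ∀ a ∈ S, ∀ b ∈ S, a * b = b * a) : finrank K S ≤ p := by
  have hp : p.Prime := Fact.out
  have hdvd : finrank K S ∣ p ^ 2 := hA ▸ finrank_subalgebra_dvd K A S
  obtain ⟨j, hj, hjeq⟩ := (Nat.dvd_prime_pow hp).mp hdvd
  interval_cases j
  · rw [hjeq, pow_zero]; exact hp.one_lt.le
  · rw [hjeq, pow_one]
  · exfalso
    have htop : S = ⊤ := by
      apply Algebra.toSubmodule_eq_top.1
      apply Submodule.eq_top_of_finrank_eq
      show finrank K S = finrank K A
      rw [hjeq, hA]
    have hcen : (⊤ : Subalgebra K A) ≤ Subalgebra.center K A := by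
      intro x _
      rw [Subalgebra.mem_center_iff]
      intro a
      exact hS a (by rw [htop]; trivial) x (by rw [htop]; trivial)
    rw [Algebra.IsCentral.center_eq_bot] at hcen
    have hbt : (⊥ : Subalgebra K A) = ⊤ := le_antisymm bot_le hcen
    have h1 : finrank K A = 1 := Subalgebra.bot_eq_top_iff_finrank_eq_one.mp hbt
    rw [hA] at h1
    have : 1 < p ^ 2 := Nat.one_lt_pow (by norm_num) hp.one_lt
    omega

omit [Algebra.IsCentral K A] in
/-- the degree of the minimal polynomial is at most the dimension of the generated subalgebra -/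
theorem natDegree_minpoly_le (x : A) :
    (minpoly K x).natDegree ≤ finrank K (Algebra.adjoin K {x}) := by
  let x' : Algebra.adjoin K {x} := ⟨x, Algebra.subset_adjoin rfl⟩
  have h1 : minpoly K ((Algebra.adjoin K {x}).val x') = minpoly K x' :=
    minpoly.algHom_eq (Algebra.adjoin K {x}).val Subtype.val_injective x'
  have h2 : (Algebra.adjoin K {x}).val x' = x := rfl
  rw [h2] at h1
  rw [h1]
  exact minpoly.natDegree_le x'

omit [Algebra.IsCentral K A] [FiniteDimensional K A] in
theorem adjoin_singleton_comm (x : A) :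
    ∀ a ∈ Algebra.adjoin K {x}, ∀ b ∈ Algebra.adjoin K {x}, a * b = b * a := by
  intro a ha b hb
  have hcomm : ∀ a ∈ Algebra.adjoin K {x}, a * x = x * a := by
    intro a ha
    induction ha using Algebra.adjoin_induction with
    | mem y hy => rw [Set.mem_singleton_iff.mp hy]
    | algebraMap r => exact Algebra.commutes r x
    | add y z _ _ hy hz => rw [add_mul, mul_add, hy, hz]
    | mul y z _ _ hy hz => rw [mul_assoc, hz, ← mul_assoc, hy, mul_assoc]
  induction hb using Algebra.adjoin_induction with
  | mem y hy => rw [Set.mem_singleton_iff.mp hy]; exact hcomm a ha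
  | algebraMap r => exact (Algebra.commutes r a).symm
  | add y z _ _ hy hz => rw [add_mul, mul_add, hy, hz]
  | mul y z _ _ hy hz => rw [← mul_assoc, hy, mul_assoc, hz, mul_assoc]

variable [CharP K p]

include p in
/-- an inseparable element has `p`-th power in `K`, and generates a subalgebra of dimension `p` -/
theorem pow_mem_of_not_isSeparable (hA : finrank K A = p ^ 2) (x : A) (hx : ¬ IsSeparable K x) :
    x ^ p ∈ (algebraMap K A).range ∧ p ≤ finrank K (Algebra.adjoin K {x}) := by
  have hp : p.Prime := Fact.out
  have hint : IsIntegral K x := IsIntegral.of_finite K x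
  have hirr : Irreducible (minpoly K x) := minpoly.irreducible hint
  have hder : derivative (minpoly K x) = 0 := by
    by_contra hd
    exact hx ((separable_iff_derivative_ne_zero hirr).mpr hd)
  have hexp : expand K p (contract p (minpoly K x)) = minpoly K x :=
    expand_contract p hder hp.ne_zero
  set g₁ := contract p (minpoly K x) with hg₁
  have hdeg : (minpoly K x).natDegree = g₁.natDegree * p := by
    rw [← hexp, natDegree_expand]
  have hle : (minpoly K x).natDegree ≤ p :=
    (natDegree_minpoly_le K A x).trans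
      (finrank_le_of_comm K p A hA _ (adjoin_singleton_comm K A x))
  have hg₁ne : g₁ ≠ 0 := by
    intro h0
    have : minpoly K x = 0 := by rw [← hexp, h0, map_zero]
    exact minpoly.ne_zero hint this
  have hroot : aeval (x ^ p) g₁ = 0 := by
    rw [← expand_aeval, hexp, minpoly.aeval]
  have hg₁deg : g₁.natDegree ≤ 1 := by
    by_contra hcon
    push_neg at hcon
    have : 2 * p ≤ g₁.natDegree * p := Nat.mul_le_mul_right p hcon
    have hp0 := hp.pos
    omega
  have hg₁pos : g₁.natDegree ≠ 0 := by
    intro h0
    rw [natDegree_eq_zero] at h0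
    obtain ⟨b, hb⟩ := h0
    rw [← hb, aeval_C] at hroot
    have : b = 0 := (algebraMap K A).injective (by rw [hroot, map_zero])
    apply hg₁ne
    rw [← hb, this, map_zero]
  constructor
  · obtain ⟨a, b, hab⟩ := exists_eq_X_add_C_of_natDegree_le_one hg₁deg
    have ha : a ≠ 0 := by
      intro h0
      apply hg₁pos
      rw [hab, h0, map_zero, zero_mul, zero_add, natDegree_C]
    rw [hab, map_add, map_mul, aeval_C, aeval_X, aeval_C] at hroot
    refine ⟨-b / a, ?_⟩
    have h2 : algebraMap K A a * x ^ p = algebraMap K A (-b) := by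
      rw [map_neg]
      exact eq_neg_of_add_eq_zero_left hroot
    have ha' : algebraMap K A a ≠ 0 := fun h => ha ((algebraMap K A).injective (by rw [h, map_zero]))
    rw [div_eq_inv_mul, map_mul, ← h2, ← mul_assoc, ← map_mul, inv_mul_cancel₀ ha, map_one, one_mul]
  · have h1 : g₁.natDegree = 1 := by omega
    calc p = (minpoly K x).natDegree := by rw [hdeg, h1, one_mul]
      _ ≤ _ := natDegree_minpoly_le K A x

omit [Algebra.IsCentral K A] [FiniteDimensional K A] in
/-- `[v,u] = 1` implies `v u^(n+1) = u^(n+1) v + (n+1) u^n` -/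
theorem mul_pow_of_commutator (v u : A) (h : v * u - u * v = 1) (n : ℕ) :
    v * u ^ (n + 1) = u ^ (n + 1) * v + ((n + 1 : ℕ) : A) * u ^ n := by
  have hvu : v * u = u * v + 1 := by rw [← h]; abel
  induction n with
  | zero => simp [hvu]
  | succ n ih =>
    rw [pow_succ u (n + 1), ← mul_assoc, ih, add_mul, mul_assoc, hvu, mul_add, mul_one,
      mul_assoc (((n + 1 : ℕ) : A)), ← pow_succ, ← mul_assoc, ← pow_succ]
    push_cast
    ring_nf
    rw [add_assoc]
    congr 1
    noncomm_ring

include K in
omit [Algebra.IsCentral K A] [FiniteDimensional K A] in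
theorem pow_char_commute_of_commutator (v u : A) (h : v * u - u * v = 1) :
    v * u ^ p = u ^ p * v := by
  have hp : p.Prime := Fact.out
  haveI : CharP A p := charP_of_injective_algebraMap (algebraMap K A).injective p
  obtain ⟨n, hn⟩ : ∃ n, p = n + 1 := ⟨p - 1, by have := hp.pos; omega⟩
  rw [hn, mul_pow_of_commutator A v u h n, ← hn, CharP.cast_eq_zero A p, zero_mul, add_zero]

include p in
/-- existence of `u` with `[v,u] = 1` for a non-central `v` with `v^p` central -/
theorem exists_commutator_eq_one (v : A) (k : K) (hv : v ^ p = algebraMap K A k)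
    (hnc : v ∉ Set.range (algebraMap K A)) : ∃ u : A, v * u - u * v = 1 := by
  have hp : p.Prime := Fact.out
  haveI : CharP (Module.End K A) p :=
    charP_of_injective_algebraMap (algebraMap K (Module.End K A)).injective p
  let δ : Module.End K A := LinearMap.mulLeft K v - LinearMap.mulRight K v
  have hδ : ∀ a, δ a = v * a - a * v := fun a => rfl
  have hδp : δ ^ p = 0 := by
    show (LinearMap.mulLeft K v - LinearMap.mulRight K v) ^ p = 0
    rw [sub_pow_char_of_commute p (LinearMap.commute_mulLeft_right v v), LinearMap.pow_mulLeft,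
      LinearMap.pow_mulRight, hv]
    ext a
    simp [Algebra.commutes]
  have hnc' : ∃ a : A, δ a ≠ 0 := by
    by_contra hcon
    push_neg at hcon
    apply hnc
    have hcen : v ∈ Subalgebra.center K A := by
      rw [Subalgebra.mem_center_iff]
      intro a
      have := hcon a
      rw [hδ, sub_eq_zero] at this
      exact this.symm
    rw [Algebra.IsCentral.center_eq_bot, Algebra.mem_bot] at hcen
    exact hcen
  obtain ⟨a₀, ha₀⟩ := hnc'
  classical
  have hex : ∃ n, (δ ^ n) a₀ = 0 := ⟨p, by rw [hδp]; rfl⟩
  have hn0 : Nat.find hex ≠ 0 := by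
    intro h0
    have := Nat.find_spec hex
    rw [h0, pow_zero, Module.End.one_apply] at this
    apply ha₀
    rw [this, map_zero]
  have hn1 : Nat.find hex ≠ 1 := by
    intro h1
    have := Nat.find_spec hex
    rw [h1, pow_one] at this
    exact ha₀ this
  obtain ⟨r, hr⟩ : ∃ r, Nat.find hex = r + 2 := ⟨Nat.find hex - 2, by omega⟩
  set z := (δ ^ r) a₀ with hz
  set t := (δ ^ (r + 1)) a₀ with ht
  have htz : t = δ z := by rw [ht, hz, pow_succ', Module.End.mul_apply]
  have ht0 : t ≠ 0 := Nat.find_min hex (by omega : r + 1 < Nat.find hex)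
  have hδt : δ t = 0 := by
    have := Nat.find_spec hex
    rw [hr, pow_succ', Module.End.mul_apply] at this
    exact this
  have hvt : v * t = t * v := by
    rw [hδ, sub_eq_zero] at hδt
    exact hδt
  have htv : t⁻¹ * v = v * t⁻¹ := by
    have h1 : t⁻¹ * v * t = v := by
      rw [mul_assoc, hvt, ← mul_assoc, inv_mul_cancel₀ ht0, one_mul]
    calc t⁻¹ * v = t⁻¹ * v * t * t⁻¹ := by rw [mul_assoc (t⁻¹ * v), mul_inv_cancel₀ ht0, mul_one]
      _ = v * t⁻¹ := by rw [h1]
  refine ⟨t⁻¹ * z, ?_⟩
  rw [← mul_assoc, ← htv, mul_assoc, mul_assoc, ← mul_sub, ← hδ, ← htz, inv_mul_cancel₀ ht0]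

include p in
/-- the pair `v, u` generates `A` -/
theorem adjoin_pair_eq_top (hA : finrank K A = p ^ 2) (v u : A)
    (hv : p ≤ finrank K (Algebra.adjoin K {v})) (h : v * u - u * v = 1) :
    Algebra.adjoin K {v, u} = ⊤ := by
  have hp : p.Prime := Fact.out
  set B := Algebra.adjoin K {v, u} with hB
  have hle : Algebra.adjoin K {v} ≤ B := Algebra.adjoin_mono (by simp)
  have hmono : finrank K (Algebra.adjoin K {v}) ≤ finrank K B :=
    Submodule.finrank_mono
      (show Subalgebra.toSubmodule (Algebra.adjoin K {v}) ≤ Subalgebra.toSubmodule B from hle)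
  have hdvd : finrank K B ∣ p ^ 2 := hA ▸ finrank_subalgebra_dvd K A B
  obtain ⟨j, hj, hjeq⟩ := (Nat.dvd_prime_pow hp).mp hdvd
  interval_cases j
  · exfalso
    rw [hjeq, pow_zero] at hmono
    have := hp.one_lt
    omega
  · exfalso
    have heq : Subalgebra.toSubmodule (Algebra.adjoin K {v}) = Subalgebra.toSubmodule B := by
      apply Submodule.eq_of_le_of_finrank_le hle
      show finrank K B ≤ finrank K (Algebra.adjoin K {v})
      rw [hjeq, pow_one]
      exact hv
    have hu : u ∈ Subalgebra.toSubmodule (Algebra.adjoin K {v}) := by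
      rw [heq]
      exact Algebra.subset_adjoin (by simp)
    have hvv : v ∈ Algebra.adjoin K {v} := Algebra.subset_adjoin rfl
    have := adjoin_singleton_comm K A v v hvv u hu
    rw [this, sub_self] at h
    exact zero_ne_one h
  · apply Algebra.toSubmodule_eq_top.1
    apply Submodule.eq_top_of_finrank_eq
    show finrank K B = finrank K A
    rw [hjeq, hA]

include p in
/-- Main statement: an inseparable element yields a pair `v,u` with `v^p, u^p ∈ K`, `[v,u] = 1`
generating `A`. -/
theorem exists_pair_of_not_isSeparable (hA : finrank K A = p ^ 2) (x : A)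
    (hx : ¬ IsSeparable K x) :
    ∃ v u : A, v ^ p ∈ (algebraMap K A).range ∧ u ^ p ∈ (algebraMap K A).range ∧
      v * u - u * v = 1 ∧ Algebra.adjoin K {v, u} = ⊤ := by
  obtain ⟨⟨k, hk⟩, hfin⟩ := pow_mem_of_not_isSeparable K p A hA x hx
  have hnc : x ∉ Set.range (algebraMap K A) := by
    rintro ⟨r, rfl⟩
    apply hx
    unfold IsSeparable
    rw [minpoly.eq_X_sub_C]
    exact separable_X_sub_C
  obtain ⟨u, hu⟩ := exists_commutator_eq_one K p A x k hk.symm hnc
  have htop := adjoin_pair_eq_top K p A hA x u hfin hu
  refine ⟨x, u, ⟨k, hk⟩, ?_, hu, htop⟩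
  have hc1 : x * u ^ p = u ^ p * x := pow_char_commute_of_commutator K p A x u hu
  have hcen : u ^ p ∈ Subalgebra.center K A := by
    rw [Subalgebra.mem_center_iff]
    intro a
    have ha : a ∈ Algebra.adjoin K {x, u} := by rw [htop]; trivial
    induction ha using Algebra.adjoin_induction with
    | mem y hy =>
      rcases hy with rfl | hy
      · exact hc1
      · rw [Set.mem_singleton_iff.mp hy, ← pow_succ', pow_succ]
    | algebraMap r => exact Algebra.commutes r _
    | add y z _ _ hy hz => rw [add_mul, mul_add, hy, hz]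
    | mul y z _ _ hy hz => rw [mul_assoc, hz, ← mul_assoc, hy, mul_assoc]
  rw [Algebra.IsCentral.center_eq_bot, Algebra.mem_bot] at hcen
  obtain ⟨r, hr⟩ := hcen
  exact ⟨r, hr⟩

end

end Groth.Agent.Helper22.DivAlg
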