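import Groth.Agent.Lib.Helper22.DivAlg2

/-!
# Degree `p` division algebras in characteristic `p`: `[v,u] = 1` gives a cyclic subfield
-/

set_option autoImplicit false

namespace Groth.Agent.Helper22.DivAlg

open Module Polynomial IntermediateField

universe u v w

theorem comp_shift_nat {K : Type u} [Field K] (g : K[X]) (h : g.comp (X + C 1) = g) (i : ℕ) :
    g.comp (X + C (i : K)) = g := by
  induction i with
  | zero => simp
  | succ i ih =>
    have : (X + C ((i + 1 : ℕ) : K) : K[X]) = (X + C 1 : K[X]).comp (X + C (i : K)) := by
      simp [add_assoc]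
    rw [this, ← comp_assoc, h, ih]

theorem isGalois_of_shift (K : Type u) (L : Type v) [Field K] [Field L] [Algebra K L]
    [FiniteDimensional K L] (p : ℕ) [Fact p.Prime] [CharP K p] (α : L)
    (hα : Algebra.adjoin K {α} = ⊤) (hdeg : (minpoly K α).natDegree ≤ p)
    (hshift : (minpoly K α).comp (X + C 1) = minpoly K α) :
    IsGalois K L ∧ finrank K L = p := by
  classical
  have hp : p.Prime := Fact.out
  haveI : CharP L p := charP_of_injective_algebraMap (algebraMap K L).injective p
  have hint : IsIntegral K α := IsIntegral.of_finite K α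
  set g := minpoly K α with hg
  have hgne : g ≠ 0 := minpoly.ne_zero hint
  have hgmap_ne : g.map (algebraMap K L) ≠ 0 := (Polynomial.map_ne_zero_iff (algebraMap K L).injective).mpr hgne
  -- the roots α + i
  have hroot : ∀ i : ℕ, (g.map (algebraMap K L)).IsRoot (α + (i : L)) := by
    intro i
    rw [IsRoot, eval_map_algebraMap]
    have h1 := comp_shift_nat g hshift i
    have h2 : aeval α (g.comp (X + C (i : K))) = aeval (α + (i : L)) g := by
      rw [aeval_comp]
      simp
    rw [← h2, h1, hg, minpoly.aeval]
  let S : Finset L := (Finset.range p).image (fun i : ℕ => α + (i : L))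
  have hScard : S.card = p := by
    rw [Finset.card_image_of_injOn, Finset.card_range]
    intro i hi j hj hij
    simp only [Finset.coe_range, Set.mem_Iio] at hi hj
    have h1 : ((i : ℕ) : L) = (j : L) := add_left_cancel hij
    have h2 := (CharP.natCast_eq_natCast L p).mp h1
    exact Nat.ModEq.eq_of_lt_of_lt h2 hi hj
  have hSle : S.val ≤ (g.map (algebraMap K L)).roots := by
    rw [Multiset.le_iff_subset S.nodup]
    intro x hx
    rw [Finset.mem_val, Finset.mem_image] at hx
    obtain ⟨i, _, rfl⟩ := hx
    exact (mem_roots hgmap_ne).mpr (hroot i)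
  have hcard1 : p ≤ (g.map (algebraMap K L)).roots.card := by
    rw [← hScard]
    exact Multiset.card_le_card hSle
  have hcard2 : (g.map (algebraMap K L)).roots.card ≤ (g.map (algebraMap K L)).natDegree :=
    card_roots' _
  have hnat : (g.map (algebraMap K L)).natDegree = g.natDegree := natDegree_map _
  have hdegp : g.natDegree = p := by omega
  have hsplits : (g.map (algebraMap K L)).Splits := by
    rw [splits_iff_card_roots]
    omega
  have hroots_eq : S.val = (g.map (algebraMap K L)).roots :=
    Multiset.eq_of_le_of_card_le hSle (by rw [Finset.card_val, hScard]; omega)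
  have hsep : g.Separable := by
    rw [← Polynomial.separable_map (algebraMap K L), ← nodup_roots_iff_of_splits hgmap_ne hsplits,
      ← hroots_eq]
    exact S.nodup
  haveI : g.IsSplittingField K L := by
    refine ⟨hsplits, ?_⟩
    rw [eq_top_iff, ← hα]
    apply Algebra.adjoin_mono
    intro x hx
    rw [Set.mem_singleton_iff] at hx
    subst hx
    rw [mem_rootSet]
    exact ⟨hgne, minpoly.aeval K x⟩
  refine ⟨IsGalois.of_separable_splitting_field hsep, ?_⟩
  have htop : K⟮α⟯ = ⊤ := by
    rw [← IntermediateField.toSubalgebra_injective.eq_iff, IntermediateField.top_toSubalgebra,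
      eq_top_iff, ← hα]
    exact IntermediateField.algebra_adjoin_le_adjoin K _
  rw [← hdegp, ← IntermediateField.adjoin.finrank hint, htop, IntermediateField.finrank_top']

theorem exists_galois_subfield (K : Type u) [Field K] (p : ℕ) [Fact p.Prime] [CharP K p]
    (A : Type v) [DivisionRing A] [Algebra K A] [Algebra.IsCentral K A] [FiniteDimensional K A]
    (hA : finrank K A = p ^ 2) (v u : A) (hvu : v * u - u * v = 1) :
    ∃ (L : Type v) (_ : Field L) (_ : Algebra K L), IsGalois K L ∧ finrank K L = p ∧
      Nonempty (L →ₐ[K] A) := by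
  have hp : p.Prime := Fact.out
  have hvu' : v * u = u * v + 1 := by rw [← hvu]; abel
  have hv0 : v ≠ 0 := by
    rintro rfl
    simp at hvu
  set w := u * v with hw
  have hvw : v * w = (w + 1) * v := by rw [hw, ← mul_assoc, hvu']
  have hpow : ∀ n : ℕ, v * w ^ n = (w + 1) ^ n * v := by
    intro n
    induction n with
    | zero => simp
    | succ n ih => rw [pow_succ, ← mul_assoc, ih, mul_assoc, hvw, ← mul_assoc, ← pow_succ]
  have hconj : ∀ q : K[X], v * aeval w q = aeval (w + 1) q * v := by
    intro q
    induction q using Polynomial.induction_on' with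
    | add q r hq hr => rw [map_add, map_add, mul_add, add_mul, hq, hr]
    | monomial n k =>
      rw [aeval_monomial, aeval_monomial, ← mul_assoc, ← Algebra.commutes k v, mul_assoc, hpow,
        mul_assoc]
  have hint : IsIntegral K w := IsIntegral.of_finite K w
  set g := minpoly K w with hg
  have h1 : aeval (w + 1) g = 0 := by
    have := hconj g
    rw [hg, minpoly.aeval, mul_zero] at this
    exact (mul_eq_zero.mp this.symm).resolve_right hv0
  have hmonic : g.Monic := minpoly.monic hint
  have hshift : g.comp (X + C 1) = g := by
    have hdvd : g ∣ g.comp (X + C 1) := by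
      apply minpoly.dvd K w
      rw [aeval_comp]
      simpa using h1
    apply Polynomial.eq_of_monic_of_dvd_of_natDegree_le hmonic (hmonic.comp_X_add_C 1) hdvd
    rw [natDegree_comp, natDegree_X_add_C, mul_one]
  -- the subalgebra
  let S : Subalgebra K A := Algebra.adjoin K {w}
  have hcomm : ∀ a ∈ ({w} : Set A), ∀ b ∈ ({w} : Set A), a * b = b * a := by
    intro a ha b hb
    rw [Set.mem_singleton_iff.mp ha, Set.mem_singleton_iff.mp hb]
  letI : CommRing S := Algebra.adjoinCommRingOfComm K hcomm
  letI : Field S := fieldOfFiniteDimensional K S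
  let α : S := ⟨w, Algebra.subset_adjoin rfl⟩
  have hminα : minpoly K α = g := by
    have := minpoly.algHom_eq S.val Subtype.val_injective α
    rw [← this]
    rfl
  have hα : Algebra.adjoin K {α} = ⊤ := by
    have := Algebra.adjoin_adjoin_coe_preimage (R := K) (s := ({w} : Set A))
    convert this using 2
    ext x
    simp [α, Subtype.ext_iff]
  have hdeg : (minpoly K α).natDegree ≤ p := by
    rw [hminα]
    exact (natDegree_minpoly_le K A w).trans
      (finrank_le_of_comm K p A hA _ (adjoin_singleton_comm K A w))
  have hshift' : (minpoly K α).comp (X + C 1) = minpoly K α := by rw [hminα]; exact hshift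
  obtain ⟨hgal, hfin⟩ := isGalois_of_shift K S p α hα hdeg hshift'
  exact ⟨S, inferInstance, inferInstance, hgal, hfin, ⟨S.val⟩⟩

end Groth.Agent.Helper22.DivAlg
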