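import Groth.Agent.Lib.Helper22.DivAlg3

/-!
# Degree `2` and `3` division algebras in characteristic `p`: Wedderburn's argument (helper22)
-/

set_option autoImplicit false

namespace Groth.Agent.Helper22.DivAlg

open Module Polynomial

universe u v

section

variable (K : Type u) [Field K] (p : ℕ) [Fact p.Prime]
  (A : Type v) [DivisionRing A] [Algebra K A] [Algebra.IsCentral K A] [FiniteDimensional K A]

include p in
theorem finrank_adjoin_eq (hA : finrank K A = p ^ 2) (a : A)
    (ha : a ∉ Set.range (algebraMap K A)) : finrank K (Algebra.adjoin K {a}) = p := by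
  have hp : p.Prime := Fact.out
  have hdvd : finrank K (Algebra.adjoin K {a}) ∣ p ^ 2 := hA ▸ finrank_subalgebra_dvd K A _
  have hle := finrank_le_of_comm K p A hA _ (adjoin_singleton_comm K A a)
  obtain ⟨j, hj, hjeq⟩ := (Nat.dvd_prime_pow hp).mp hdvd
  interval_cases j
  · exfalso
    rw [pow_zero] at hjeq
    have hbot : Algebra.adjoin K {a} = ⊥ := Subalgebra.eq_bot_of_finrank_one hjeq
    have h1 : a ∈ Algebra.adjoin K {a} := Algebra.subset_adjoin rfl
    rw [hbot] at h1
    exact ha (Algebra.mem_bot.mp h1)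
  · rw [hjeq, pow_one]
  · exfalso
    rw [hjeq] at hle
    have h1 := hp.one_lt
    nlinarith

include p in
theorem mem_adjoin_of_commute (hA : finrank K A = p ^ 2) (a : A)
    (ha : a ∉ Set.range (algebraMap K A)) (t : A) (ht : t * a = a * t) :
    t ∈ Algebra.adjoin K {a} := by
  let S : Subalgebra K A := Algebra.adjoin K {a}
  have hcomm : ∀ x ∈ ({a} : Set A), ∀ y ∈ ({a} : Set A), x * y = y * x := by
    intro x hx y hy
    rw [Set.mem_singleton_iff.mp hx, Set.mem_singleton_iff.mp hy]
  letI : CommRing S := Algebra.adjoinCommRingOfComm K hcomm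
  letI : Field S := fieldOfFiniteDimensional K S
  have hfin : finrank K S = p := finrank_adjoin_eq K p A hA a ha
  have hc : ∀ x : S, t * S.val x = S.val x * t := by
    rintro ⟨x, hx⟩
    show t * x = x * t
    induction hx using Algebra.adjoin_induction with
    | mem y hy => rw [Set.mem_singleton_iff.mp hy]; exact ht
    | algebraMap r => exact (Algebra.commutes r t).symm
    | add y z _ _ hy hz => rw [mul_add, add_mul, hy, hz]
    | mul y z _ _ hy hz => rw [← mul_assoc, hy, mul_assoc, hz, mul_assoc]
  obtain ⟨x, hx⟩ := mem_range_of_commute K p A hA S hfin S.val t hc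
  rw [← hx]
  exact x.2

variable [CharP K p]

include p in
/-- If the minimal polynomial of a separable element `a ∉ K` splits in `K[a]` (degree `≤ 2`, or
degree `≤ 3` with a second root commuting with `a`), there is `u ∉ K` with `u ^ p ∈ K`. -/
theorem exists_pow_eq_of_roots (hA : finrank K A = p ^ 2) (a : A)
    (ha : a ∉ Set.range (algebraMap K A)) (hsep : IsSeparable K a)
    (h : (minpoly K a).natDegree ≤ 2 ∨ ((minpoly K a).natDegree ≤ 3 ∧
      ∃ b, b ≠ a ∧ b * a = a * b ∧ aeval b (minpoly K a) = 0)) :
    ∃ (u : A) (k : K), u ^ p = algebraMap K A k ∧ u ∉ Set.range (algebraMap K A) := by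
  classical
  let S : Subalgebra K A := Algebra.adjoin K {a}
  have hcomm : ∀ x ∈ ({a} : Set A), ∀ y ∈ ({a} : Set A), x * y = y * x := by
    intro x hx y hy
    rw [Set.mem_singleton_iff.mp hx, Set.mem_singleton_iff.mp hy]
  letI : CommRing S := Algebra.adjoinCommRingOfComm K hcomm
  letI : Field S := fieldOfFiniteDimensional K S
  let α : S := ⟨a, Algebra.subset_adjoin rfl⟩
  have hminα : minpoly K α = minpoly K a := by
    have := minpoly.algHom_eq S.val Subtype.val_injective α
    rw [← this]
    rfl
  have hα : Algebra.adjoin K {α} = ⊤ := by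
    have := Algebra.adjoin_adjoin_coe_preimage (R := K) (s := ({a} : Set A))
    convert this using 2
    ext x
    simp [α, Subtype.ext_iff]
  have hfin : finrank K S = p := finrank_adjoin_eq K p A hA a ha
  have hint : IsIntegral K a := IsIntegral.of_finite K a
  set g := minpoly K a with hg
  have hg0 : g ≠ 0 := minpoly.ne_zero hint
  have hαroot : aeval α g = 0 := by
    rw [← hminα]
    exact minpoly.aeval K α
  have hroot : (g.map (algebraMap K S)).eval α = 0 := by
    rw [eval_map_algebraMap]
    exact hαroot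
  have hsplit : (g.map (algebraMap K S)).Splits := by
    rcases h with h2 | ⟨h3, b, hba, hbcomm, hbroot⟩
    · rcases Nat.lt_or_ge (g.map (algebraMap K S)).natDegree 2 with hlt | hge
      · exact Splits.of_natDegree_le_one (by omega)
      · have h2' : (g.map (algebraMap K S)).natDegree = 2 := by
          rw [natDegree_map] at hge ⊢
          omega
        exact Splits.of_natDegree_eq_two h2' hroot
    · have hbS : b ∈ S := mem_adjoin_of_commute K p A hA a ha b hbcomm
      let β : S := ⟨b, hbS⟩
      have hβroot : (g.map (algebraMap K S)).eval β = 0 := by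
        rw [eval_map_algebraMap]
        apply Subtype.val_injective
        have h1 := aeval_algHom_apply S.val β g
        have h2 : S.val β = b := rfl
        rw [h2, hbroot] at h1
        exact h1.symm
      have hβα : β ≠ α := fun h => hba (congrArg Subtype.val h)
      obtain ⟨q, hq⟩ : (X - C α) ∣ g.map (algebraMap K S) := dvd_iff_isRoot.mpr hroot
      have hq0 : q ≠ 0 := by
        rintro rfl
        rw [mul_zero] at hq
        exact hg0 ((Polynomial.map_eq_zero _).mp hq)
      have hqβ : q.eval β = 0 := by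
        have h1 := hβroot
        rw [hq, eval_mul, eval_sub, eval_X, eval_C] at h1
        exact (mul_eq_zero.mp h1).resolve_left (sub_ne_zero.mpr hβα)
      have hqdeg : q.natDegree + 1 = g.natDegree := by
        have h1 := congrArg natDegree hq
        rw [natDegree_map, natDegree_mul (X_sub_C_ne_zero α) hq0, natDegree_X_sub_C] at h1
        omega
      rw [hq, splits_X_sub_C_mul_iff]
      rcases Nat.lt_or_ge q.natDegree 2 with hlt | hge
      · exact Splits.of_natDegree_le_one (by omega)
      · exact Splits.of_natDegree_eq_two (by omega) hqβ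
  haveI : g.IsSplittingField K S := ⟨hsplit, by
    rw [eq_top_iff, ← hα]
    apply Algebra.adjoin_mono
    rw [Set.singleton_subset_iff, mem_rootSet]
    exact ⟨hg0, hαroot⟩⟩
  haveI : IsGalois K S := IsGalois.of_separable_splitting_field (p := g) hsep
  exact exists_pow_eq K p A hA S hfin S.val

end

/-- `x y` central implies `y x = x y` in a division ring. -/
theorem mul_comm_of_eq_smul_one {K : Type u} [Field K] {A : Type v} [DivisionRing A] [Algebra K A]
    (x y : A) (k : K) (h : x * y = k • (1 : A)) : y * x = k • (1 : A) := by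
  by_cases hx : x = 0
  · subst hx
    rw [zero_mul] at h
    rw [mul_zero]
    exact h
  · have hy : y = x⁻¹ * (k • (1 : A)) := by
      rw [← h, ← mul_assoc, inv_mul_cancel₀ hx, one_mul]
    rw [hy, mul_smul_comm, mul_one, smul_mul_assoc, inv_mul_cancel₀ hx]

/-- One step of Wedderburn's argument: from roots `a`, `b` of `F = X³ + c₂X² + c₁X + c₀` with
`b² + (a + c₂) b + (a² + c₂ a + c₁) = 0`, the third element `c = -c₂ - a - b` is again a root, the
pair `(b, c)` satisfies the same relation, and `[b,a]` conjugates `a` to `b`. -/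
theorem wedderburn_step {K : Type u} [Field K] {A : Type v} [DivisionRing A] [Algebra K A]
    (c₀ c₁ c₂ : K) (a b c : A)
    (hc : c = -(c₂ • (1 : A)) - a - b)
    (hFa : a * a * a + c₂ • (a * a) + c₁ • a + c₀ • (1 : A) = 0)
    (hFb : b * b * b + c₂ • (b * b) + c₁ • b + c₀ • (1 : A) = 0)
    (hE : b * b + a * b + c₂ • b + a * a + c₂ • a + c₁ • (1 : A) = 0) :
    (c * c * c + c₂ • (c * c) + c₁ • c + c₀ • (1 : A) = 0) ∧
    (c * c + b * c + c₂ • c + b * b + c₂ • b + c₁ • (1 : A) = 0) ∧
    (b * a - a * b) * a = b * (b * a - a * b) ∧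
    c * b - b * c = b * a - a * b ∧
    a = -(c₂ • (1 : A)) - b - c := by
  have e1 : c * (b * a) = -((b * b + a * b + c₂ • b + a * a + c₂ • a + c₁ • (1 : A)) * a) +
      (a * a * a + c₂ • (a * a) + c₁ • a + c₀ • (1 : A)) - c₀ • (1 : A) := by
    rw [hc]
    noncomm_ring
  rw [hE, hFa, zero_mul, neg_zero, zero_add, zero_sub] at e1
  have e2 : (b * a) * c = -(c₀ • (1 : A)) := by
    have := mul_comm_of_eq_smul_one c (b * a) (-c₀) (by rw [e1, neg_smul])
    rw [this, neg_smul]
  have e3 : b * a = c * c + c₂ • c + c₁ • (1 : A) -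
      (b * b + a * b + c₂ • b + a * a + c₂ • a + c₁ • (1 : A)) := by
    rw [hc]
    noncomm_ring [smul_add, smul_neg, smul_sub, smul_smul]
  rw [hE, sub_zero] at e3
  have e4 : c * c * c + c₂ • (c * c) + c₁ • c + c₀ • (1 : A) =
      (c * c + c₂ • c + c₁ • (1 : A)) * c + c₀ • (1 : A) := by
    noncomm_ring
  have e5 : c * c + b * c + c₂ • c + b * b + c₂ • b + c₁ • (1 : A) =
      b * b + a * b + c₂ • b + a * a + c₂ • a + c₁ • (1 : A) := by
    rw [hc]
    noncomm_ring [smul_add, smul_neg, smul_sub, smul_smul]
  have e6 : (b * a - a * b) * a - b * (b * a - a * b) =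
      b * (b * b + a * b + c₂ • b + a * a + c₂ • a + c₁ • (1 : A)) -
      (b * b + a * b + c₂ • b + a * a + c₂ • a + c₁ • (1 : A)) * a +
      (a * a * a + c₂ • (a * a) + c₁ • a + c₀ • (1 : A)) -
      (b * b * b + c₂ • (b * b) + c₁ • b + c₀ • (1 : A)) := by
    noncomm_ring
  rw [hE, hFa, hFb, mul_zero, zero_mul, sub_zero, add_zero, sub_zero] at e6
  refine ⟨?_, ?_, sub_eq_zero.mp e6, ?_, ?_⟩
  · rw [e4, ← e3, e2, neg_add_cancel]
  · rw [e5, hE]
  · rw [hc]
    noncomm_ring
  · rw [hc]
    abel

end Groth.Agent.Helper22.DivAlg
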