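import Groth.Agent.Lib.Helper22.DivAlg4

/-!
# Division algebras of degree `2`, `3` in characteristic `2`, `3` contain inseparable elements
-/

set_option autoImplicit false

namespace Groth.Agent.Helper22.DivAlg

open Module Polynomial

universe u v

section

variable (K : Type u) [Field K] (p : ℕ) [Fact p.Prime] [CharP K p]
  (A : Type v) [DivisionRing A] [Algebra K A] [Algebra.IsCentral K A] [FiniteDimensional K A]

include p in
theorem exists_notMem_range (hA : finrank K A = p ^ 2) :
    ∃ a : A, a ∉ Set.range (algebraMap K A) := by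
  have hp : p.Prime := Fact.out
  by_contra h
  push_neg at h
  have h1 : (⊥ : Subalgebra K A) = ⊤ := by
    ext x
    simp only [Algebra.mem_bot, Algebra.mem_top, iff_true]
    exact h x
  have h2 := Subalgebra.bot_eq_top_iff_finrank_eq_one.mp h1
  rw [hA] at h2
  have := hp.one_lt
  nlinarith

theorem exists_not_isSeparable_two [Fact (Nat.Prime 2)] [CharP K 2]
    (hA : finrank K A = 2 ^ 2) : ∃ v : A, ¬ IsSeparable K v := by
  by_contra hall
  push_neg at hall
  obtain ⟨a, ha⟩ := exists_notMem_range K 2 A hA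
  have hdeg2 : (minpoly K a).natDegree ≤ 2 :=
    (natDegree_minpoly_le K A a).trans
      (finrank_le_of_comm K 2 A hA _ (adjoin_singleton_comm K A a))
  obtain ⟨u, k, h1, h2⟩ := exists_pow_eq_of_roots K 2 A hA a ha (hall a) (Or.inl hdeg2)
  exact not_isSeparable_of_pow_eq K 2 A u k h1 h2 (hall u)

theorem exists_not_isSeparable_three [Fact (Nat.Prime 3)] [CharP K 3]
    (hA : finrank K A = 3 ^ 2) : ∃ v : A, ¬ IsSeparable K v := by
  by_contra hall
  push_neg at hall
  obtain ⟨a, ha⟩ := exists_notMem_range K 3 A hA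
  have finish : ∀ (u : A) (k : K), u ^ 3 = algebraMap K A k →
      u ∉ Set.range (algebraMap K A) → False :=
    fun u k h1 h2 => not_isSeparable_of_pow_eq K 3 A u k h1 h2 (hall u)
  set g := minpoly K a with hg
  have hint : IsIntegral K a := IsIntegral.of_finite K a
  have hmonic : g.Monic := minpoly.monic hint
  have hdeg3 : g.natDegree ≤ 3 :=
    (natDegree_minpoly_le K A a).trans
      (finrank_le_of_comm K 3 A hA _ (adjoin_singleton_comm K A a))
  by_cases hd2 : g.natDegree ≤ 2
  · obtain ⟨u, k, h1, h2⟩ := exists_pow_eq_of_roots K 3 A hA a ha (hall a) (Or.inl hd2)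
    exact finish u k h1 h2
  have hd : g.natDegree = 3 := by omega
  set c₀ := g.coeff 0 with hc₀
  set c₁ := g.coeff 1 with hc₁
  set c₂ := g.coeff 2 with hc₂
  have hF : ∀ x : A, aeval x g = x * x * x + c₂ • (x * x) + c₁ • x + c₀ • (1 : A) := by
    intro x
    have h3 : g.coeff 3 = 1 := by
      have := hmonic.coeff_natDegree
      rwa [hd] at this
    rw [aeval_eq_sum_range, hd]
    simp only [Finset.sum_range_succ, Finset.sum_range_zero, zero_add, h3, one_smul, pow_zero,
      pow_one]
    rw [← hc₀, ← hc₁, ← hc₂]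
    simp only [pow_succ, pow_zero, one_mul]
    abel
  have hFa : a * a * a + c₂ • (a * a) + c₁ • a + c₀ • (1 : A) = 0 := by
    rw [← hF]
    exact minpoly.aeval K a
  -- characteristic 3: 2 ≠ 0
  haveI : CharP A 3 := charP_of_injective_algebraMap (algebraMap K A).injective 3
  have h3A : (3 : A) = 0 := by
    have := CharP.cast_eq_zero A 3
    exact_mod_cast this
  -- a is not central, so `ad a` squared is nonzero
  obtain ⟨d, hdne⟩ : ∃ d : A, (d * a - a * d) * a - a * (d * a - a * d) ≠ 0 := by
    by_contra h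
    push_neg at h
    obtain ⟨x, hx⟩ : ∃ x : A, x * a - a * x ≠ 0 := by
      by_contra h'
      push_neg at h'
      apply ha
      have hcen : a ∈ Subalgebra.center K A := by
        rw [Subalgebra.mem_center_iff]
        intro y
        exact sub_eq_zero.mp (h' y)
      rw [Algebra.IsCentral.center_eq_bot] at hcen
      exact Algebra.mem_bot.mp hcen
    have h1 := h x
    have h2 := h (x * x)
    have key : ((x * x) * a - a * (x * x)) * a - a * ((x * x) * a - a * (x * x)) =
        x * ((x * a - a * x) * a - a * (x * a - a * x)) +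
        ((x * a - a * x) * a - a * (x * a - a * x)) * x +
        ((x * a - a * x) * (x * a - a * x) + (x * a - a * x) * (x * a - a * x)) := by
      noncomm_ring
    rw [h1, h2, mul_zero, zero_mul, zero_add, zero_add] at key
    have hsq : (x * a - a * x) * (x * a - a * x) ≠ 0 := mul_ne_zero hx hx
    apply hsq
    have h4 : (3 : A) * ((x * a - a * x) * (x * a - a * x)) = 0 := by rw [h3A, zero_mul]
    have h5 : (3 : A) * ((x * a - a * x) * (x * a - a * x)) =
        ((x * a - a * x) * (x * a - a * x) + (x * a - a * x) * (x * a - a * x)) +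
        (x * a - a * x) * (x * a - a * x) := by
      noncomm_ring
    rw [h5, ← key, zero_add] at h4
    exact h4
  set θ₀ := d * a - a * d with hθ₀
  have hθ₀ne : θ₀ ≠ 0 := by
    intro h0
    apply hdne
    rw [h0, zero_mul, mul_zero, sub_zero]
  set b := θ₀ * a * θ₀⁻¹ with hb
  have hba : b ≠ a := by
    intro h0
    apply hdne
    have : θ₀ * a = a * θ₀ := by
      have h1 : b * θ₀ = θ₀ * a := by
        rw [hb, mul_assoc, inv_mul_cancel₀ hθ₀ne, mul_one]
      rw [← h1, h0]
    rw [this, sub_self]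
  have hb2 : b * b = θ₀ * (a * a) * θ₀⁻¹ := by
    rw [hb]
    simp only [mul_assoc, inv_mul_cancel_left₀ hθ₀ne]
  have hb3 : b * b * b = θ₀ * (a * a * a) * θ₀⁻¹ := by
    rw [hb2, hb]
    simp only [mul_assoc, inv_mul_cancel_left₀ hθ₀ne]
  have hFb : b * b * b + c₂ • (b * b) + c₁ • b + c₀ • (1 : A) = 0 := by
    have h1 : θ₀ * (a * a * a + c₂ • (a * a) + c₁ • a + c₀ • (1 : A)) * θ₀⁻¹ =
        b * b * b + c₂ • (b * b) + c₁ • b + c₀ • (1 : A) := by
      rw [hb3, hb2, hb]
      simp only [mul_add, add_mul, mul_smul_comm, smul_mul_assoc, mul_one,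
        mul_inv_cancel₀ hθ₀ne]
    rw [← h1, hFa, mul_zero, zero_mul]
  have hE : b * b + a * b + c₂ • b + a * a + c₂ • a + c₁ • (1 : A) = 0 := by
    have h1 : θ₀ * (a * a) + (a + c₂ • (1 : A)) * (θ₀ * a) +
        (a * a + c₂ • a + c₁ • (1 : A)) * θ₀ =
        d * (a * a * a + c₂ • (a * a) + c₁ • a + c₀ • (1 : A)) -
        (a * a * a + c₂ • (a * a) + c₁ • a + c₀ • (1 : A)) * d := by
      rw [hθ₀]
      noncomm_ring
    rw [hFa, mul_zero, zero_mul, sub_zero] at h1
    have h2 : (θ₀ * (a * a) + (a + c₂ • (1 : A)) * (θ₀ * a) +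
        (a * a + c₂ • a + c₁ • (1 : A)) * θ₀) * θ₀⁻¹ =
        b * b + a * b + c₂ • b + a * a + c₂ • a + c₁ • (1 : A) := by
      rw [hb2, hb]
      simp only [add_mul, mul_assoc, smul_mul_assoc, one_mul, mul_inv_cancel₀ hθ₀ne, mul_one]
      abel
    rw [← h2, h1, zero_mul]
  set c := -(c₂ • (1 : A)) - a - b with hc
  obtain ⟨hFc, hEbc, hθa, hθbc, ha'⟩ := wedderburn_step c₀ c₁ c₂ a b c hc hFa hFb hE
  obtain ⟨-, hEca, hθb, hθca, hb'⟩ := wedderburn_step c₀ c₁ c₂ b c a ha' hFb hFc hEbc
  obtain ⟨-, -, hθc, -, -⟩ := wedderburn_step c₀ c₁ c₂ c a b hb' hFc hFa hEca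
  rw [hθbc] at hθb
  rw [hθca, hθbc] at hθc
  set θ := b * a - a * b with hθ
  -- θ a = b θ, θ b = c θ, θ c = a θ
  have hta : θ ^ 3 * a = a * θ ^ 3 := by
    have : θ ^ 3 = θ * θ * θ := by noncomm_ring
    rw [this]
    calc θ * θ * θ * a = θ * θ * (θ * a) := by noncomm_ring
      _ = θ * θ * (b * θ) := by rw [hθa]
      _ = θ * (θ * b) * θ := by noncomm_ring
      _ = θ * (c * θ) * θ := by rw [hθb]
      _ = (θ * c) * θ * θ := by noncomm_ring
      _ = (a * θ) * θ * θ := by rw [hθc]
      _ = a * (θ * θ * θ) := by noncomm_ring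
  have htb : θ ^ 3 * b = b * θ ^ 3 := by
    have : θ ^ 3 = θ * θ * θ := by noncomm_ring
    rw [this]
    calc θ * θ * θ * b = θ * θ * (θ * b) := by noncomm_ring
      _ = θ * θ * (c * θ) := by rw [hθb]
      _ = θ * (θ * c) * θ := by noncomm_ring
      _ = θ * (a * θ) * θ := by rw [hθc]
      _ = (θ * a) * θ * θ := by noncomm_ring
      _ = (b * θ) * θ * θ := by rw [hθa]
      _ = b * (θ * θ * θ) := by noncomm_ring
  by_cases hθ0 : θ = 0
  · have hcomm : b * a = a * b := sub_eq_zero.mp hθ0
    have hbroot : aeval b g = 0 := by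
      rw [hF]
      exact hFb
    obtain ⟨u, k, h1, h2⟩ := exists_pow_eq_of_roots K 3 A hA a ha (hall a)
      (Or.inr ⟨hdeg3, b, hba, hcomm, hbroot⟩)
    exact finish u k h1 h2
  · have ht : θ ^ 3 ∈ Set.range (algebraMap K A) := by
      by_contra htK
      have h1 : θ ^ 3 ∈ Algebra.adjoin K {a} := mem_adjoin_of_commute K 3 A hA a ha _ hta
      have h2 : Algebra.adjoin K {θ ^ 3} ≤ Algebra.adjoin K {a} :=
        Algebra.adjoin_le (by simpa using h1)
      have h3 : finrank K (Algebra.adjoin K {θ ^ 3}) = 3 := finrank_adjoin_eq K 3 A hA _ htK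
      have h4 : finrank K (Algebra.adjoin K {a}) = 3 := finrank_adjoin_eq K 3 A hA a ha
      have heq : Subalgebra.toSubmodule (Algebra.adjoin K {θ ^ 3}) =
          Subalgebra.toSubmodule (Algebra.adjoin K {a}) := by
        apply Submodule.eq_of_le_of_finrank_eq h2
        show finrank K (Algebra.adjoin K {θ ^ 3}) = finrank K (Algebra.adjoin K {a})
        rw [h3, h4]
      have haT : a ∈ Algebra.adjoin K {θ ^ 3} := by
        have h5 : a ∈ Subalgebra.toSubmodule (Algebra.adjoin K {a}) := Algebra.subset_adjoin rfl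
        rw [← heq] at h5
        exact h5
      have hb_comm : ∀ y ∈ Algebra.adjoin K {θ ^ 3}, b * y = y * b := by
        intro y hy
        induction hy using Algebra.adjoin_induction with
        | mem z hz => rw [Set.mem_singleton_iff.mp hz]; exact htb.symm
        | algebraMap r => exact (Algebra.commutes r b).symm
        | add y z _ _ hy hz => rw [mul_add, add_mul, hy, hz]
        | mul y z _ _ hy hz => rw [← mul_assoc, hy, mul_assoc, hz, mul_assoc]
      exact hθ0 (sub_eq_zero.mpr (hb_comm a haT))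
    obtain ⟨k, hk⟩ := ht
    have hθK : θ ∉ Set.range (algebraMap K A) := by
      rintro ⟨r, hr⟩
      have h1 : θ * a = a * θ := by
        rw [← hr]
        exact Algebra.commutes r a
      have h2 : (a - b) * θ = 0 := by rw [sub_mul, ← h1, hθa, sub_self]
      rcases mul_eq_zero.mp h2 with h | h
      · exact hba (sub_eq_zero.mp h).symm
      · exact hθ0 h
    exact finish θ k hk.symm hθK

end

end Groth.Agent.Helper22.DivAlg
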