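import Groth.Agent.Lib.Helper22.UnipAct
import Groth.Agent.Lib.Helper12.ComodSemisimple
import Mathlib

/-!
# Comodules over a coalgebra as modules over the dual (convolution) algebra

For a coalgebra `C` over a field `k` and a right `C`-comodule `V`, the type synonym
`AsMod k C V` carries the module structure over `WithConv (C →ₗ[k] k)` given by
`l • v = (id ⊗ l)(ρ v)`.  Subcomodules correspond to submodules, comodule maps to linear maps.
-/

set_option autoImplicit false
noncomputable section
namespace Groth.Agent.Helper22.DualAct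
open TensorProduct Groth.Agent.Helper12 WithConv
universe u v w w'

section Basic
variable {k : Type u} [Field k] {C : Type v} [AddCommGroup C] [Module k C] [Coalgebra k C]
variable (V : Type w) [AddCommGroup V] [Module k V] [HopfRep.Comod k C V]

theorem opT_add (l₁ l₂ : C →ₗ[k] k) :
    SubComod.opT V (l₁ + l₂) = SubComod.opT V l₁ + SubComod.opT V l₂ := by
  ext v
  simp [SubComod.opT_apply, slice, LinearMap.lTensor_add]

theorem opT_smul (a : k) (l : C →ₗ[k] k) :
    SubComod.opT V (a • l) = a • SubComod.opT V l := by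
  ext v
  simp [SubComod.opT_apply, slice, LinearMap.lTensor_smul]

theorem opT_zero : SubComod.opT V (0 : C →ₗ[k] k) = 0 := by
  ext v
  simp [SubComod.opT_apply, slice]

/-- the action of the dual algebra as a ring hom -/
def opTRingHom : WithConv (C →ₗ[k] k) →+* Module.End k V where
  toFun x := SubComod.opT V x.ofConv
  map_one' := (SubComod.opTHom (k := k) (C := C) V).map_one
  map_mul' := (SubComod.opTHom (k := k) (C := C) V).map_mul
  map_zero' := by rw [WithConv.ofConv_zero]; exact opT_zero V
  map_add' x y := by rw [WithConv.ofConv_add]; exact opT_add V _ _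

theorem opTRingHom_apply (x : WithConv (C →ₗ[k] k)) (v : V) :
    opTRingHom (k := k) (C := C) V x v = SubComod.opT V x.ofConv v := rfl

/-- type synonym carrying the module structure over the dual algebra -/
def AsMod (k : Type u) (C : Type v) (V : Type w) : Type w := V

instance : AddCommGroup (AsMod k C V) := inferInstanceAs (AddCommGroup V)
instance : Module k (AsMod k C V) := inferInstanceAs (Module k V)

instance instModuleDual : Module (WithConv (C →ₗ[k] k)) (AsMod k C V) :=
  Module.compHom V (opTRingHom (k := k) (C := C) V)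

/-- identity map to the synonym -/
def toMod : V ≃ₗ[k] AsMod k C V := LinearEquiv.refl k V

theorem smul_toMod (x : WithConv (C →ₗ[k] k)) (v : V) :
    x • (toMod (k := k) (C := C) V v) = toMod V (SubComod.opT V x.ofConv v) := rfl

theorem symm_smul (x : WithConv (C →ₗ[k] k)) (v : AsMod k C V) :
    (toMod (k := k) (C := C) V).symm (x • v) =
      SubComod.opT V x.ofConv ((toMod (k := k) (C := C) V).symm v) := rfl

theorem symm_smul' (x : WithConv (C →ₗ[k] k)) (v : AsMod k C V) :
    (toMod (k := k) (C := C) V).symm (x • v) =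
      slice x.ofConv (HopfRep.Comod.coact (k := k) (A := C)
        ((toMod (k := k) (C := C) V).symm v)) := rfl

instance : IsScalarTower k (WithConv (C →ₗ[k] k)) (AsMod k C V) where
  smul_assoc a x v := by
    apply (toMod (k := k) (C := C) V).symm.injective
    rw [symm_smul, map_smul, symm_smul, WithConv.ofConv_smul, opT_smul]
    rfl

/-- the `k`-subspace underlying a submodule over the dual algebra -/
def ofSub (N : Submodule (WithConv (C →ₗ[k] k)) (AsMod k C V)) : Submodule k V :=
  (N.restrictScalars k).comap (toMod (k := k) (C := C) V).toLinearMap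

theorem mem_ofSub {N : Submodule (WithConv (C →ₗ[k] k)) (AsMod k C V)} {v : V} :
    v ∈ ofSub V N ↔ toMod (k := k) (C := C) V v ∈ N := Iff.rfl

theorem ofSub_isSubcomod (N : Submodule (WithConv (C →ₗ[k] k)) (AsMod k C V)) :
    HopfRep.IsSubcomod (k := k) (A := C) (ofSub V N) := by
  intro v hv
  apply mem_range_rTensor_of_slice_mem (Module.Basis.ofVectorSpace k C)
  intro i
  exact N.smul_mem (toConv ((Module.Basis.ofVectorSpace k C).coord i)) hv

/-- the submodule over the dual algebra attached to a subcomodule -/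
def toSub (W : Submodule k V) (hW : HopfRep.IsSubcomod (k := k) (A := C) W) :
    Submodule (WithConv (C →ₗ[k] k)) (AsMod k C V) where
  carrier := {v | (toMod (k := k) (C := C) V).symm v ∈ W}
  add_mem' := fun ha hb => W.add_mem ha hb
  zero_mem' := W.zero_mem
  smul_mem' x v hv := slice_mem_of_mem_range W x.ofConv _ (hW _ hv)

theorem mem_toSub {W : Submodule k V} {hW : HopfRep.IsSubcomod (k := k) (A := C) W}
    {v : AsMod k C V} : v ∈ toSub V W hW ↔ (toMod (k := k) (C := C) V).symm v ∈ W := Iff.rfl

theorem ofSub_toSub (W : Submodule k V) (hW : HopfRep.IsSubcomod (k := k) (A := C) W) :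
    ofSub V (toSub V W hW) = W := by
  ext v
  rfl

theorem toSub_ofSub (N : Submodule (WithConv (C →ₗ[k] k)) (AsMod k C V)) :
    toSub V (ofSub V N) (ofSub_isSubcomod V N) = N := by
  ext v
  rfl

theorem ofSub_le_iff {N N' : Submodule (WithConv (C →ₗ[k] k)) (AsMod k C V)} :
    ofSub V N ≤ ofSub V N' ↔ N ≤ N' := by
  constructor
  · intro h v hv
    exact h (x := (toMod (k := k) (C := C) V).symm v) hv
  · intro h v hv
    exact h hv

theorem ofSub_injective : Function.Injective (ofSub (k := k) (C := C) V) := by
  intro N N' h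
  apply le_antisymm
  · exact (ofSub_le_iff V).mp h.le
  · exact (ofSub_le_iff V).mp h.ge

theorem toSub_le_iff {W W' : Submodule k V} {hW : HopfRep.IsSubcomod (k := k) (A := C) W}
    {hW' : HopfRep.IsSubcomod (k := k) (A := C) W'} :
    toSub V W hW ≤ toSub V W' hW' ↔ W ≤ W' := by
  rw [← ofSub_le_iff, ofSub_toSub, ofSub_toSub]

theorem ofSub_bot : ofSub V (⊥ : Submodule (WithConv (C →ₗ[k] k)) (AsMod k C V)) = ⊥ := by
  ext v
  rw [mem_ofSub, Submodule.mem_bot, Submodule.mem_bot]
  exact (toMod (k := k) (C := C) V).map_eq_zero_iff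

theorem ofSub_top : ofSub V (⊤ : Submodule (WithConv (C →ₗ[k] k)) (AsMod k C V)) = ⊤ := by
  ext v
  simp [mem_ofSub]

theorem ofSub_eq_bot {N : Submodule (WithConv (C →ₗ[k] k)) (AsMod k C V)} :
    ofSub V N = ⊥ ↔ N = ⊥ := by
  rw [← ofSub_bot (k := k) (C := C) V]
  exact (ofSub_injective V).eq_iff

theorem ofSub_eq_top {N : Submodule (WithConv (C →ₗ[k] k)) (AsMod k C V)} :
    ofSub V N = ⊤ ↔ N = ⊤ := by
  rw [← ofSub_top (k := k) (C := C) V]
  exact (ofSub_injective V).eq_iff

theorem ofSub_inf (N N' : Submodule (WithConv (C →ₗ[k] k)) (AsMod k C V)) :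
    ofSub V (N ⊓ N') = ofSub V N ⊓ ofSub V N' := by
  ext v
  simp [mem_ofSub]

theorem ofSub_sSup (s : Set (Submodule (WithConv (C →ₗ[k] k)) (AsMod k C V))) :
    ofSub V (sSup s) = sSup (ofSub V '' s) := by
  apply le_antisymm
  · have hW : HopfRep.IsSubcomod (k := k) (A := C) (sSup (ofSub V '' s)) := by
      apply isSubcomod_sSup
      rintro _ ⟨N, -, rfl⟩
      exact ofSub_isSubcomod V N
    have h1 : sSup s ≤ toSub V _ hW := by
      apply sSup_le
      intro N hN
      rw [← toSub_ofSub V N, toSub_le_iff]
      exact le_sSup ⟨N, hN, rfl⟩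
    have h2 := (ofSub_le_iff V).mpr h1
    rwa [ofSub_toSub] at h2
  · apply sSup_le
    rintro _ ⟨N, hN, rfl⟩
    exact (ofSub_le_iff V).mpr (le_sSup hN)

theorem ofSub_iSup {ι : Sort*} (f : ι → Submodule (WithConv (C →ₗ[k] k)) (AsMod k C V)) :
    ofSub V (⨆ i, f i) = ⨆ i, ofSub V (f i) := by
  rw [iSup, ofSub_sSup, iSup]
  congr 1
  ext W
  simp [Set.mem_image, Set.mem_range]

theorem ofSub_sup (N N' : Submodule (WithConv (C →ₗ[k] k)) (AsMod k C V)) :
    ofSub V (N ⊔ N') = ofSub V N ⊔ ofSub V N' := by
  rw [← sSup_pair, ofSub_sSup, Set.image_pair, sSup_pair]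

theorem isCompl_ofSub_iff {N N' : Submodule (WithConv (C →ₗ[k] k)) (AsMod k C V)} :
    IsCompl (ofSub V N) (ofSub V N') ↔ IsCompl N N' := by
  rw [isCompl_iff, isCompl_iff, disjoint_iff, disjoint_iff, codisjoint_iff, codisjoint_iff,
    ← ofSub_inf, ← ofSub_sup, ofSub_eq_bot, ofSub_eq_top]

/-- simple comodules are simple modules over the dual algebra -/
theorem isSimpleModule_iff :
    IsSimpleModule (WithConv (C →ₗ[k] k)) (AsMod k C V) ↔ HopfRep.IsSimpleComod k C V := by
  constructor
  · intro h
    refine ⟨?_, fun W hW => ?_⟩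
    · have := IsSimpleModule.nontrivial (WithConv (C →ₗ[k] k)) (AsMod k C V)
      exact (toMod (k := k) (C := C) V).toEquiv.nontrivial
    · rcases eq_bot_or_eq_top (toSub V W hW) with h1 | h1
      · left
        rw [← ofSub_toSub V W hW, h1, ofSub_bot]
      · right
        rw [← ofSub_toSub V W hW, h1, ofSub_top]
  · rintro ⟨hnt, h⟩
    haveI : Nontrivial (AsMod k C V) := (toMod (k := k) (C := C) V).symm.toEquiv.nontrivial
    haveI : Nontrivial (Submodule (WithConv (C →ₗ[k] k)) (AsMod k C V)) := inferInstance
    refine { toIsSimpleOrder := { eq_bot_or_eq_top := fun N => ?_ } }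
    rcases h (ofSub V N) (ofSub_isSubcomod V N) with h1 | h1
    · left; exact (ofSub_eq_bot V).mp h1
    · right; exact (ofSub_eq_top V).mp h1

/-- completely reducible comodules are semisimple modules over the dual algebra -/
theorem isSemisimpleModule_iff :
    IsSemisimpleModule (WithConv (C →ₗ[k] k)) (AsMod k C V) ↔
      HopfRep.IsSemisimpleComod k C V := by
  constructor
  · intro h W hW
    obtain ⟨N', hN'⟩ := exists_isCompl (toSub V W hW)
    refine ⟨ofSub V N', ofSub_isSubcomod V N', ?_⟩
    have := (isCompl_ofSub_iff V).mpr hN'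
    rwa [ofSub_toSub] at this
  · intro h
    refine { toComplementedLattice := ⟨fun N => ?_⟩ }
    obtain ⟨W', hW', hc⟩ := h (ofSub V N) (ofSub_isSubcomod V N)
    refine ⟨toSub V W' hW', ?_⟩
    rw [← isCompl_ofSub_iff, ofSub_toSub]
    exact hc

end Basic

section Hom
variable {k : Type u} [Field k] {C : Type v} [AddCommGroup C] [Module k C] [Coalgebra k C]
variable {V : Type w} [AddCommGroup V] [Module k V] [HopfRep.Comod k C V]
variable {V' : Type w'} [AddCommGroup V'] [Module k V'] [HopfRep.Comod k C V']

/-- two tensors with the same slices are equal -/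
theorem eq_of_slice_eq (x y : V ⊗[k] C) (h : ∀ l : C →ₗ[k] k, slice l x = slice l y) : x = y := by
  rw [← sub_eq_zero]
  apply range_rTensor_bot (⊥ : Submodule k V) rfl
  apply mem_range_rTensor_of_slice_mem (Module.Basis.ofVectorSpace k C)
  intro i
  rw [map_sub, h, sub_self]
  exact Submodule.zero_mem _

/-- a comodule map is linear over the dual algebra -/
def toModHom (f : V →ₗ[k] V') (hf : Hoch.IsComodHom C f) :
    AsMod k C V →ₗ[WithConv (C →ₗ[k] k)] AsMod k C V' where
  toFun v := toMod V' (f ((toMod (k := k) (C := C) V).symm v))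
  map_add' a b := by simp
  map_smul' x v := by
    apply (toMod (k := k) (C := C) V').symm.injective
    rw [RingHom.id_apply, LinearEquiv.symm_apply_apply, symm_smul', symm_smul',
      LinearEquiv.symm_apply_apply, isComodHom_apply hf, slice_rTensor]

theorem toModHom_apply (f : V →ₗ[k] V') (hf : Hoch.IsComodHom C f) (v : AsMod k C V) :
    toModHom f hf v = toMod V' (f ((toMod (k := k) (C := C) V).symm v)) := rfl

theorem toModHom_injective {f : V →ₗ[k] V'} (hf : Hoch.IsComodHom C f)
    (hinj : Function.Injective f) : Function.Injective (toModHom f hf) := by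
  intro a b hab
  have := (toMod (k := k) (C := C) V').injective hab
  exact (toMod (k := k) (C := C) V).symm.injective (hinj this)

theorem ofSub_range_toModHom (f : V →ₗ[k] V') (hf : Hoch.IsComodHom C f) :
    ofSub V' (LinearMap.range (toModHom f hf)) = LinearMap.range f := by
  ext v
  rw [mem_ofSub]
  constructor
  · rintro ⟨a, ha⟩
    exact ⟨(toMod (k := k) (C := C) V).symm a, (toMod (k := k) (C := C) V').injective ha⟩
  · rintro ⟨a, rfl⟩
    exact ⟨toMod V a, rfl⟩

/-- the underlying `k`-linear map of a map linear over the dual algebra -/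
def ofModHom (g : AsMod k C V →ₗ[WithConv (C →ₗ[k] k)] AsMod k C V') : V →ₗ[k] V' :=
  (toMod (k := k) (C := C) V').symm.toLinearMap ∘ₗ (g.restrictScalars k) ∘ₗ
    (toMod (k := k) (C := C) V).toLinearMap

theorem ofModHom_apply (g : AsMod k C V →ₗ[WithConv (C →ₗ[k] k)] AsMod k C V') (v : V) :
    ofModHom g v = (toMod (k := k) (C := C) V').symm (g (toMod V v)) := rfl

/-- a map linear over the dual algebra is a comodule map -/
theorem isComodHom_ofModHom (g : AsMod k C V →ₗ[WithConv (C →ₗ[k] k)] AsMod k C V') :
    Hoch.IsComodHom C (ofModHom g) := by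
  apply isComodHom_of_apply
  intro v
  apply eq_of_slice_eq
  intro l
  rw [slice_rTensor]
  have h1 := g.map_smul (toConv l) (toMod V v)
  have h2 := congrArg (toMod (k := k) (C := C) V').symm h1
  rw [symm_smul', smul_toMod] at h2
  exact h2.symm

/-- linear equivalences over the dual algebra give comodule isomorphisms -/
def ofModEquiv (e : AsMod k C V ≃ₗ[WithConv (C →ₗ[k] k)] AsMod k C V') : V ≃ₗ[k] V' :=
  LinearEquiv.ofBijective (ofModHom e.toLinearMap) (by
    constructor
    · intro a b hab
      have := (toMod (k := k) (C := C) V').symm.injective hab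
      exact (toMod (k := k) (C := C) V).injective (e.injective this)
    · intro b
      obtain ⟨a, ha⟩ := e.surjective (toMod V' b)
      refine ⟨(toMod (k := k) (C := C) V).symm a, ?_⟩
      rw [ofModHom_apply]
      simp only [LinearEquiv.apply_symm_apply, LinearEquiv.coe_coe]
      rw [ha]
      rfl)

theorem isComodHom_ofModEquiv (e : AsMod k C V ≃ₗ[WithConv (C →ₗ[k] k)] AsMod k C V') :
    Hoch.IsComodHom C (ofModEquiv e).toLinearMap :=
  isComodHom_ofModHom e.toLinearMap

/-- an injective comodule map identifies the source with its image, over the dual algebra -/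
def equivOfInjective (f : V →ₗ[k] V') (hf : Hoch.IsComodHom C f)
    (hinj : Function.Injective f) (N : Submodule (WithConv (C →ₗ[k] k)) (AsMod k C V'))
    (hN : ofSub V' N = LinearMap.range f) :
    AsMod k C V ≃ₗ[WithConv (C →ₗ[k] k)] ↥N :=
  (LinearEquiv.ofInjective (toModHom f hf) (toModHom_injective hf hinj)).trans
    (LinearEquiv.ofEq _ _ (by
      apply ofSub_injective
      rw [ofSub_range_toModHom, hN]))

end Hom

end Groth.Agent.Helper22.DualAct
end
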