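import Mathlib
import Groth.Agent.Lib.Helper4.DVRDom

/-!
# A DVR dominating a local UFD and identifying two coprime non-units up to a 1-unit (helper22)

For a Noetherian local UFD `R` and coprime non-units `Δ₁, Δ₂`, the ring `R[Δ₁/Δ₂]` has the proper
ideal `(𝔪, Δ₁/Δ₂ - 1)` (Gauss lemma: the kernel of `R[T] → R[Δ₁/Δ₂]` is `(Δ₂ T - Δ₁)`), and a DVR
dominating it (Helper4.DVRDom.exists_dvr) does the job.
-/

set_option autoImplicit false
set_option linter.style.haveILetI false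

namespace Groth.Agent.Helper22.DvrCoprime

open IsLocalRing Polynomial

universe u

theorem ker_le (R : Type u) [CommRing R] [IsDomain R] [UniqueFactorizationMonoid R]
    [IsLocalRing R] (L : Type u) [Field L] [Algebra R L] [IsFractionRing R L]
    (Δ₁ Δ₂ : R) (h₁ : ¬ IsUnit Δ₁) (h₂ : ¬ IsUnit Δ₂) (hcop : IsRelPrime Δ₁ Δ₂)
    (g : R[X]) (hg : aeval (algebraMap R L Δ₁ / algebraMap R L Δ₂) g = 0) :
    eval₂ (residue R) 1 g = 0 := by
  classical
  have hΔ₂0 : Δ₂ ≠ 0 := by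
    rintro rfl
    exact h₁ (hcop (dvd_refl _) (dvd_zero _))
  have hδ₂ : algebraMap R L Δ₂ ≠ 0 := by
    rw [Ne, map_eq_zero_iff _ (IsFractionRing.injective R L)]; exact hΔ₂0
  obtain ⟨t, ht⟩ : ∃ t : L, t = algebraMap R L Δ₁ / algebraMap R L Δ₂ := ⟨_, rfl⟩
  rw [← ht] at hg
  have hδ : algebraMap R L Δ₂ * t = algebraMap R L Δ₁ := by rw [ht]; field_simp
  obtain ⟨ℓ, hℓ⟩ : ∃ ℓ : R[X], ℓ = C Δ₂ * X - C Δ₁ := ⟨_, rfl⟩
  have hℓprim : ℓ.IsPrimitive := by
    intro r hr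
    have h1 : r ∣ ℓ.coeff 1 := (C_dvd_iff_dvd_coeff r ℓ).mp hr 1
    have h0 : r ∣ ℓ.coeff 0 := (C_dvd_iff_dvd_coeff r ℓ).mp hr 0
    have e1 : ℓ.coeff 1 = Δ₂ := by rw [hℓ]; simp
    have e0 : ℓ.coeff 0 = -Δ₁ := by rw [hℓ]; simp
    rw [e1] at h1
    rw [e0, dvd_neg] at h0
    exact hcop h0 h1
  have hℓmap : ℓ.map (algebraMap R L) = C (algebraMap R L Δ₂) * (X - C t) := by
    rw [hℓ, Polynomial.map_sub, Polynomial.map_mul, map_C, map_C, map_X, mul_sub, ← C_mul, hδ]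
  have hroot : (X - C t) ∣ g.map (algebraMap R L) := by
    rw [dvd_iff_isRoot, IsRoot.def, eval_map_algebraMap]; exact hg
  have hunit : IsUnit (C (algebraMap R L Δ₂) : L[X]) :=
    isUnit_C.mpr (isUnit_iff_ne_zero.mpr hδ₂)
  have hdvd1 : ℓ.map (algebraMap R L) ∣ g.map (algebraMap R L) := by
    rw [hℓmap]; exact (IsUnit.mul_left_dvd hunit).mpr hroot
  obtain ⟨h, hh⟩ := hℓprim.dvd_of_fraction_map_dvd_fraction_map hdvd1
  have hℓ0 : eval₂ (residue R) 1 ℓ = 0 := by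
    rw [hℓ, eval₂_sub, eval₂_mul, eval₂_C, eval₂_C, eval₂_X, mul_one,
      (residue_eq_zero_iff Δ₂).mpr ((mem_maximalIdeal Δ₂).mpr h₂),
      (residue_eq_zero_iff Δ₁).mpr ((mem_maximalIdeal Δ₁).mpr h₁), sub_zero]
  rw [hh, eval₂_mul, hℓ0, zero_mul]

theorem main (R : Type u) [CommRing R] [IsDomain R] [IsNoetherianRing R]
    [UniqueFactorizationMonoid R] [IsLocalRing R]
    (Δ₁ Δ₂ : R) (h₁ : ¬ IsUnit Δ₁) (h₂ : ¬ IsUnit Δ₂) (hcop : IsRelPrime Δ₁ Δ₂) :
    ∃ (A : Type u) (_ : CommRing A) (_ : IsDomain A) (_ : IsDiscreteValuationRing A) (f : R →+* A),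
      IsLocalHom f ∧ Function.Injective f ∧ ¬ IsUnit (f Δ₁) ∧
        ∃ u : Aˣ, (u : A) - 1 ∈ IsLocalRing.maximalIdeal A ∧ f Δ₁ = (u : A) * f Δ₂ := by
  classical
  let L := FractionRing R
  have hinjL : Function.Injective (algebraMap R L) := IsFractionRing.injective R L
  have hΔ₂0 : Δ₂ ≠ 0 := by
    rintro rfl
    exact h₁ (hcop (dvd_refl _) (dvd_zero _))
  have hΔ₁0 : Δ₁ ≠ 0 := by
    rintro rfl
    exact h₂ (hcop (dvd_zero _) (dvd_refl _))
  have hδ₂ : algebraMap R L Δ₂ ≠ 0 := by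
    rw [Ne, map_eq_zero_iff _ hinjL]; exact hΔ₂0
  obtain ⟨t, ht⟩ : ∃ t : L, t = algebraMap R L Δ₁ / algebraMap R L Δ₂ := ⟨_, rfl⟩
  let Φ : R[X] →ₐ[R] L := aeval t
  let R' : Subalgebra R L := Φ.range
  let Ψ : R[X] →+* ResidueField R := eval₂RingHom (residue R) 1
  have hker : ∀ g : R[X], Φ g = 0 → Ψ g = 0 := by
    intro g hg
    exact ker_le R L Δ₁ Δ₂ h₁ h₂ hcop g (by rw [← ht]; exact hg)
  have hsurj : Function.Surjective (Φ.rangeRestrict : R[X] →+* R') :=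
    Φ.rangeRestrict_surjective
  haveI : IsNoetherianRing R' :=
    isNoetherianRing_of_surjective R[X] R' (Φ.rangeRestrict : R[X] →+* R') hsurj
  let I : Ideal R' := (RingHom.ker Ψ).map (Φ.rangeRestrict : R[X] →+* R')
  have hImem : ∀ g : R[X], Ψ g = 0 → (Φ.rangeRestrict g : R') ∈ I := fun g hg =>
    Ideal.mem_map_of_mem (Φ.rangeRestrict : R[X] →+* R') ((RingHom.mem_ker).mpr hg)
  have hI : I ≠ ⊤ := by
    intro htop
    have h1 : (1 : R') ∈ I := htop ▸ Submodule.mem_top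
    obtain ⟨g, hgker, hg1⟩ := (Ideal.mem_map_iff_of_surjective _ hsurj).mp h1
    have h2 : Φ (g - 1) = 0 := by
      have h4 : Φ g = 1 := congrArg Subtype.val hg1
      rw [map_sub, map_one, h4, sub_self]
    have h3 := hker _ h2
    rw [map_sub, map_one, (RingHom.mem_ker).mp hgker, zero_sub, neg_eq_zero] at h3
    exact one_ne_zero h3
  have hinj' : Function.Injective (algebraMap R' L) := Subtype.val_injective
  have hS : Subfield.closure (Set.range (algebraMap R' L) ∪ ((∅ : Finset L) : Set L)) = ⊤ := by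
    rw [Finset.coe_empty, Set.union_empty, eq_top_iff]
    intro x _
    obtain ⟨a, s, hs, rfl⟩ := IsFractionRing.div_surjective R x
    have hmem : ∀ r : R, algebraMap R L r ∈
        Subfield.closure (Set.range (algebraMap R' L)) := fun r =>
      Subfield.subset_closure ⟨algebraMap R R' r, (IsScalarTower.algebraMap_apply R R' L r).symm⟩
    exact Subfield.div_mem _ (hmem a) (hmem s)
  have hCmem : ∀ r : R, r ∈ maximalIdeal R → algebraMap R R' r ∈ I := by
    intro r hr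
    have h1 : (Φ.rangeRestrict (C r) : R') = algebraMap R R' r := by
      apply Subtype.ext
      show aeval t (C r) = algebraMap R L r
      exact aeval_C t r
    rw [← h1]
    apply hImem
    show eval₂ (residue R) 1 (C r) = 0
    rw [eval₂_C]; exact (residue_eq_zero_iff r).mpr hr
  have ha₀ : algebraMap R R' Δ₁ ∈ I := hCmem Δ₁ ((mem_maximalIdeal Δ₁).mpr h₁)
  have ha₀' : algebraMap R R' Δ₁ ≠ 0 := by
    intro h
    have h4 : algebraMap R L Δ₁ = 0 := congrArg Subtype.val h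
    exact hΔ₁0 (hinjL (h4.trans (map_zero _).symm))
  have htmem : (Φ.rangeRestrict (X - 1) : R') ∈ I := by
    apply hImem
    show eval₂ (residue R) 1 (X - 1) = 0
    rw [eval₂_sub, eval₂_X, eval₂_one, sub_self]
  obtain ⟨O, hdvr, hAO, hIO⟩ :=
    Groth.Agent.Helper4.DVRDom.exists_dvr R' hinj' ∅ hS I hI (algebraMap R R' Δ₁) ha₀ ha₀'
  haveI := hdvr
  have hRO : ∀ r : R, algebraMap R L r ∈ O := fun r => hAO (algebraMap R R' r)
  let f : R →+* O := (algebraMap R L).codRestrict O hRO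
  have hmax : ∀ r ∈ maximalIdeal R, f r ∈ maximalIdeal O := by
    intro r hr
    obtain ⟨hmem, hmax⟩ :=
      ValuationSubring.mem_nonunits_iff_exists_mem_maximalIdeal.mp (hIO _ (hCmem r hr))
    have h5 : f r = ⟨_, hmem⟩ := Subtype.ext rfl
    rw [h5]; exact hmax
  refine ⟨O, inferInstance, inferInstance, hdvr, f, ⟨fun r hr => ?_⟩, ?_, ?_, ?_⟩
  · by_contra hru
    have h6 := hmax r ((mem_maximalIdeal r).mpr hru)
    exact (mem_maximalIdeal _).mp h6 hr
  · intro r₁ r₂ h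
    exact hinjL (congrArg Subtype.val h)
  · exact (mem_maximalIdeal _).mp (hmax Δ₁ ((mem_maximalIdeal Δ₁).mpr h₁))
  · have htR' : t ∈ R' := ⟨X, aeval_X t⟩
    have htO : t ∈ O := hAO ⟨t, htR'⟩
    obtain ⟨hmem, hmax'⟩ :=
      ValuationSubring.mem_nonunits_iff_exists_mem_maximalIdeal.mp (hIO _ htmem)
    obtain ⟨tO, htO'⟩ : ∃ tO : O, tO = ⟨t, htO⟩ := ⟨_, rfl⟩
    have h1 : tO - 1 ∈ maximalIdeal O := by
      have h7 : tO - 1 = ⟨_, hmem⟩ := by
        apply Subtype.ext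
        show (tO : L) - 1 = aeval t (X - 1)
        rw [map_sub, aeval_X, map_one, htO']
      rw [h7]; exact hmax'
    have h2 : IsUnit tO := by
      have h3 : (1 - tO) ∈ nonunits O := by
        rw [← mem_maximalIdeal]
        have h8 : 1 - tO = -(tO - 1) := by ring
        rw [h8]; exact neg_mem h1
      have h9 := isUnit_one_sub_self_of_mem_nonunits _ h3
      rwa [sub_sub_cancel] at h9
    obtain ⟨u, hu⟩ := h2
    refine ⟨u, by rw [hu]; exact h1, ?_⟩
    rw [hu, htO']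
    apply Subtype.ext
    show algebraMap R L Δ₁ = t * algebraMap R L Δ₂
    rw [ht, div_mul_cancel₀ _ hδ₂]

end Groth.Agent.Helper22.DvrCoprime
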