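import Groth.Agent.Lib.Helper22.GF02

set_option maxHeartbeats 800000

universe u
open scoped TensorProduct
open Classical

namespace Groth.Agent.Helper22.GF

section Orb
variable {A : Type u} [CommRing A] {P : Type u} [CommRing P] [Algebra A P] {M : Type u}
  (b : Module.Basis M A P) (d : ℕ)

/-- orbit sum attached to a sequence, defined as a coefficient of the tensor power law -/
noncomputable def orb (f : Fin d → M) : ⨂[A] _ : Fin d, P :=
  cE (typ f) (⨂[A] _ : Fin d, P)
    ((SymTen.tpowLaw A P d).law.toFun' (MvPolynomial M A) (xg b (Finset.univ.image f)))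

theorem orb_eq (f : Fin d → M) :
    orb b d f = ∑ g ∈ Fintype.piFinset (fun _ : Fin d => Finset.univ.image f),
      if typ g = typ f then eB b d g else 0 := by
  unfold orb
  rw [tpow_xg, map_sum]
  apply Finset.sum_congr rfl
  intro g _
  rw [cE_tmul, MvPolynomial.coeff_monomial]
  by_cases h : typ g = typ f
  · rw [if_pos h, if_pos h, one_smul]
  · rw [if_neg h, if_neg h, zero_smul]

theorem coord_orb (f g : Fin d → M) :
    (eB b d).coord g (orb b d f) = if typ g = typ f then 1 else 0 := by
  rw [orb_eq, map_sum]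
  by_cases h : typ g = typ f
  · rw [if_pos h]
    have hmem : g ∈ Fintype.piFinset (fun _ : Fin d => Finset.univ.image f) := by
      rw [Fintype.mem_piFinset]
      intro j
      rw [← support_typ, ← h, support_typ]
      exact Finset.mem_image_of_mem _ (Finset.mem_univ j)
    rw [Finset.sum_eq_single_of_mem g hmem]
    · rw [if_pos h, Module.Basis.coord_apply, Module.Basis.repr_self, Finsupp.single_eq_same]
    · intro g' _ hne
      by_cases h' : typ g' = typ f
      · rw [if_pos h', Module.Basis.coord_apply, Module.Basis.repr_self, Finsupp.single_apply,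
          if_neg hne]
      · rw [if_neg h', map_zero]
  · rw [if_neg h]
    apply Finset.sum_eq_zero
    intro g' _
    by_cases h' : typ g' = typ f
    · rw [if_pos h', Module.Basis.coord_apply, Module.Basis.repr_self, Finsupp.single_apply,
        if_neg]
      rintro rfl
      exact h h'
    · rw [if_neg h', map_zero]

/-- the retraction onto symmetric tensors (as an endomorphism) -/
noncomputable def rhoP : (⨂[A] _ : Fin d, P) →ₗ[A] (⨂[A] _ : Fin d, P) :=
  (eB b d).constr A (fun f => if rep f = f then orb b d f else 0)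

theorem rhoP_eB (f : Fin d → M) :
    rhoP b d (eB b d f) = if rep f = f then orb b d f else 0 :=
  (eB b d).constr_basis A _ f

theorem coord_rhoP (g : Fin d → M) :
    (eB b d).coord g ∘ₗ rhoP b d = (eB b d).coord (rep g) := by
  apply (eB b d).ext
  intro f
  rw [LinearMap.comp_apply, rhoP_eB, Module.Basis.coord_apply (eB b d) (rep g),
    Module.Basis.repr_self, Finsupp.single_apply]
  by_cases h1 : rep f = f
  · rw [if_pos h1, coord_orb]
    by_cases h2 : typ g = typ f
    · rw [if_pos h2, if_pos]
      rw [← h1]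
      exact ((typ_eq_iff_rep_eq g f).mp h2).symm
    · rw [if_neg h2, if_neg]
      intro h3
      apply h2
      rw [h3, typ_rep]
  · rw [if_neg h1, map_zero, if_neg]
    intro h3
    apply h1
    rw [h3, rep_rep]

theorem orb_mem_TS (f : Fin d → M) : orb b d f ∈ SymTen.TS A P d := by
  rw [SymTen.mem_TS_iff]
  intro σ
  rw [← SymTen.perm_apply]
  apply (eB b d).ext_elem
  intro g
  have h1 : (eB b d).repr (SymTen.perm A P d σ (orb b d f)) g =
      ((eB b d).coord g ∘ₗ (SymTen.perm A P d σ).toLinearMap) (orb b d f) := rfl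
  rw [h1, ← coord_perm, ← Module.Basis.coord_apply, coord_orb, coord_orb, typ_comp_perm]

theorem rhoP_mem_TS (q : ⨂[A] _ : Fin d, P) : rhoP b d q ∈ SymTen.TS A P d := by
  unfold rhoP
  rw [Module.Basis.constr_apply, Finsupp.sum]
  apply Subalgebra.sum_mem
  intro f _
  apply Subalgebra.smul_mem
  by_cases h : rep f = f
  · rw [if_pos h]
    exact orb_mem_TS b d f
  · rw [if_neg h]
    exact Subalgebra.zero_mem _

theorem ext_coord {S : Type*} [CommSemiring S] [Algebra A S]
    (w₁ w₂ : S ⊗[A] (⨂[A] _ : Fin d, P))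
    (h : ∀ g, ((eB b d).coord g).lTensor S w₁ = ((eB b d).coord g).lTensor S w₂) : w₁ = w₂ := by
  have key : ∀ (w : S ⊗[A] (⨂[A] _ : Fin d, P)) (g : Fin d → M),
      (TensorProduct.equivFinsuppOfBasisRight (eB b d) w) g =
        TensorProduct.rid A S (((eB b d).coord g).lTensor S w) := by
    intro w g
    induction w using TensorProduct.induction_on with
    | zero => simp only [map_zero, Finsupp.zero_apply]
    | tmul s q =>
      rw [TensorProduct.equivFinsuppOfBasisRight_apply_tmul_apply, LinearMap.lTensor_tmul,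
        TensorProduct.rid_tmul, Module.Basis.coord_apply]
    | add x y hx hy => simp only [map_add, Finsupp.add_apply, hx, hy]
  apply (TensorProduct.equivFinsuppOfBasisRight (eB b d)).injective
  ext g
  rw [key, key, h g]

variable (A P) in
/-- invariance of an element of `S ⊗ T^d(P)` under all permutations of the factors -/
def IsInv (S : Type*) [CommSemiring S] [Algebra A S] (w : S ⊗[A] (⨂[A] _ : Fin d, P)) : Prop :=
  ∀ σ : Equiv.Perm (Fin d), (SymTen.perm A P d σ).toLinearMap.lTensor S w = w

theorem rhoP_fix {S : Type*} [CommSemiring S] [Algebra A S] (w : S ⊗[A] (⨂[A] _ : Fin d, P))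
    (hw : IsInv A P d S w) : (rhoP b d).lTensor S w = w := by
  apply ext_coord b d
  intro g
  rw [← LinearMap.lTensor_comp_apply, coord_rhoP]
  obtain ⟨σ, hσ⟩ := rep_spec g
  rw [hσ, coord_perm, LinearMap.lTensor_comp_apply, hw σ]

theorem rhoP_fix_ground (u : ⨂[A] _ : Fin d, P) (hu : u ∈ SymTen.TS A P d) :
    rhoP b d u = u := by
  apply (eB b d).ext_elem
  intro g
  have h1 : (eB b d).repr (rhoP b d u) g = ((eB b d).coord g ∘ₗ rhoP b d) u := rfl
  rw [h1, coord_rhoP]
  obtain ⟨σ, hσ⟩ := rep_spec g
  rw [hσ, coord_perm, LinearMap.comp_apply, AlgHom.toLinearMap_apply, SymTen.perm_apply,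
    (SymTen.mem_TS_iff A P d u).mp hu σ, Module.Basis.coord_apply]

include b in
theorem dec {S : Type*} [CommSemiring S] [Algebra A S] (w : S ⊗[A] (⨂[A] _ : Fin d, P))
    (hw : IsInv A P d S w) :
    ∃ (n : ℕ) (s : Fin n → S) (u : Fin n → (⨂[A] _ : Fin d, P)),
      (∀ i, u i ∈ SymTen.TS A P d) ∧ w = ∑ i, s i ⊗ₜ[A] u i := by
  obtain ⟨n, s, q, hq⟩ := exists_fin_rep' (A := A) w
  refine ⟨n, s, fun i => rhoP b d (q i), fun i => rhoP_mem_TS b d _, ?_⟩
  have h1 := rhoP_fix b d w hw
  have h2 : (rhoP b d).lTensor S w = ∑ i, s i ⊗ₜ[A] rhoP b d (q i) := by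
    rw [hq, map_sum]
    apply Finset.sum_congr rfl
    intro i _
    rw [LinearMap.lTensor_tmul]
  rw [← h2, h1]

theorem mem_span_orb (u : ⨂[A] _ : Fin d, P) (hu : u ∈ SymTen.TS A P d) :
    u ∈ Submodule.span A (Set.range (orb b d)) := by
  rw [← rhoP_fix_ground b d u hu]
  unfold rhoP
  rw [Module.Basis.constr_apply, Finsupp.sum]
  apply Submodule.sum_mem
  intro f _
  apply Submodule.smul_mem
  by_cases h : rep f = f
  · rw [if_pos h]
    exact Submodule.subset_span ⟨f, rfl⟩
  · rw [if_neg h]
    exact Submodule.zero_mem _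

end Orb

end Groth.Agent.Helper22.GF
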