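import Mathlib
import Groth.Prelude.Def_SymTen
import Groth.Agent.Lib.Helper22.GF03

set_option maxHeartbeats 1600000
set_option autoImplicit false

universe u
open scoped TensorProduct
open Classical

namespace Groth.Agent.Helper22.ES

open Groth.Agent.Helper22.GF

/-- the tensor power -/
abbrev TP (R : Type u) [CommRing R] (A : Type u) [CommRing A] [Algebra R A] (n : ℕ) : Type u :=
  ⨂[R] _ : Fin n, A

section Gen
variable (R : Type u) [CommRing R] (A : Type u) [CommRing A] [Algebra R A] (n : ℕ)

/-- the subalgebra generated by the elementary symmetric tensors -/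
def EE : Subalgebra R (TP R A n) :=
  Algebra.adjoin R {t : TP R A n | ∃ (a : A) (j : ℕ),
    t = ∑ I ∈ (Finset.univ : Finset (Fin n)).powersetCard j,
      PiTensorProduct.tprod R (fun i : Fin n => if i ∈ I then a else (1 : A))}

variable {R A n}

/-- the embedding of the `i`-th factor -/
noncomputable def iota (i : Fin n) : A →ₐ[R] TP R A n :=
  PiTensorProduct.singleAlgHom (R := R) (A := fun _ : Fin n => A) i

theorem prod_iota_subset (I : Finset (Fin n)) (a : A) :
    ∏ i ∈ I, iota (R := R) (n := n) i a =
      PiTensorProduct.tprod R (fun i : Fin n => if i ∈ I then a else (1 : A)) := by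
  unfold iota
  simp only [PiTensorProduct.singleAlgHom_apply, MonoidHom.mulSingle_apply]
  rw [← PiTensorProduct.tprod_prod]
  congr 1
  funext k
  rw [Finset.prod_apply]
  simp only [Pi.mulSingle_apply, Finset.prod_ite_eq, Finset.prod_ite_eq']

theorem prod_iota_univ (c : Fin n → A) :
    ∏ i : Fin n, iota (R := R) (n := n) i (c i) = PiTensorProduct.tprod R c :=
  prod_single_eq_tprod n c

/-- the generating polynomial of a finite family of elements -/
noncomputable def GG (L : Type u) [Fintype L] (w : L → A) : MvPolynomial L (TP R A n) :=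
  ∏ i : Fin n, (1 + ∑ l : L, MvPolynomial.X l * MvPolynomial.C (iota (R := R) (n := n) i (w l)))

/-- the generating polynomial of a single element in the variable `l₀` -/
noncomputable def psiG (L : Type u) (l₀ : L) (a : A) : MvPolynomial L (TP R A n) :=
  ∏ i : Fin n, (1 + MvPolynomial.X l₀ * MvPolynomial.C (iota (R := R) (n := n) i a))

variable (R A n) in
/-- polynomials whose coefficients of degree at most `s` lie in `E` -/
def MM (L : Type u) (s : ℕ) : Subring (MvPolynomial L (TP R A n)) where
  carrier := {p | ∀ γ : L →₀ ℕ, Finsupp.degree γ ≤ s → MvPolynomial.coeff γ p ∈ EE R A n}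
  mul_mem' := by
    intro p q hp hq γ hγ
    rw [MvPolynomial.coeff_mul]
    apply Subalgebra.sum_mem
    intro x hx
    have hx' : x.1 + x.2 = γ := Finset.HasAntidiagonal.mem_antidiagonal.mp hx
    have hdeg : Finsupp.degree x.1 + Finsupp.degree x.2 = Finsupp.degree γ := by
      rw [← map_add, hx']
    apply Subalgebra.mul_mem
    · exact hp x.1 (by omega)
    · exact hq x.2 (by omega)
  one_mem' := by
    intro γ _
    rw [MvPolynomial.coeff_one]
    split_ifs
    · exact Subalgebra.one_mem _
    · exact Subalgebra.zero_mem _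
  add_mem' := by
    intro p q hp hq γ hγ
    rw [MvPolynomial.coeff_add]
    exact Subalgebra.add_mem _ (hp γ hγ) (hq γ hγ)
  zero_mem' := by
    intro γ _
    rw [MvPolynomial.coeff_zero]
    exact Subalgebra.zero_mem _
  neg_mem' := by
    intro p hp γ hγ
    rw [MvPolynomial.coeff_neg]
    exact Subalgebra.neg_mem _ (hp γ hγ)

theorem mem_MM {L : Type u} {s : ℕ} {p : MvPolynomial L (TP R A n)} :
    p ∈ MM R A n L s ↔
      ∀ γ : L →₀ ℕ, Finsupp.degree γ ≤ s → MvPolynomial.coeff γ p ∈ EE R A n := Iff.rfl

theorem monomial_mem_MM {L : Type u} (s : ℕ) (μ : L →₀ ℕ) (e : TP R A n) (he : e ∈ EE R A n) :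
    MvPolynomial.monomial μ e ∈ MM R A n L s := by
  rw [mem_MM]
  intro γ _
  rw [MvPolynomial.coeff_monomial]
  split_ifs
  · exact he
  · exact Subalgebra.zero_mem _

theorem psiG_mem (L : Type u) (l₀ : L) (a : A) (s : ℕ) :
    psiG (R := R) (n := n) L l₀ a ∈ MM R A n L s := by
  unfold psiG
  rw [Finset.prod_one_add, Finset.sum_powerset]
  apply Subring.sum_mem
  intro j _
  have h1 : ∀ t ∈ (Finset.univ : Finset (Fin n)).powersetCard j,
      ∏ i ∈ t, (MvPolynomial.X l₀ * MvPolynomial.C (iota (R := R) (n := n) i a)) =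
        MvPolynomial.monomial (Finsupp.single l₀ j)
          (PiTensorProduct.tprod R (fun i : Fin n => if i ∈ t then a else (1 : A))) := by
    intro t ht
    rw [Finset.prod_mul_distrib, Finset.prod_const, (Finset.mem_powersetCard.mp ht).2,
      ← map_prod, prod_iota_subset, MvPolynomial.X_pow_eq_monomial, MvPolynomial.C_apply,
      MvPolynomial.monomial_mul, add_zero, one_mul]
  rw [Finset.sum_congr rfl h1, ← map_sum]
  apply monomial_mem_MM
  exact Algebra.subset_adjoin ⟨a, j, rfl⟩

section PhiSec
variable {L : Type u} (l₀ : L)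

/-- the substitution `t_l ↦ t_l`, `s_l ↦ t_l t_{l₀}` -/
noncomputable def Phi : MvPolynomial (L ⊕ L) (TP R A n) →ₐ[TP R A n] MvPolynomial L (TP R A n) :=
  MvPolynomial.aeval
    (Sum.elim (fun l => (MvPolynomial.X l : MvPolynomial L (TP R A n)))
      (fun l => MvPolynomial.X l * MvPolynomial.X l₀))

variable (R A n L) in
/-- the substitution `t_l ↦ t_l`, `s_l ↦ 0` -/
noncomputable def Phi0 : MvPolynomial (L ⊕ L) (TP R A n) →ₐ[TP R A n] MvPolynomial L (TP R A n) :=
  MvPolynomial.aeval
    (Sum.elim (fun l => (MvPolynomial.X l : MvPolynomial L (TP R A n))) (fun _ => 0))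

theorem Phi_X_inl (l : L) :
    Phi (R := R) (A := A) (n := n) l₀ (MvPolynomial.X (Sum.inl l)) = MvPolynomial.X l := by
  unfold Phi
  rw [MvPolynomial.aeval_X]
  rfl

theorem Phi_X_inr (l : L) :
    Phi (R := R) (A := A) (n := n) l₀ (MvPolynomial.X (Sum.inr l)) =
      MvPolynomial.X l * MvPolynomial.X l₀ := by
  unfold Phi
  rw [MvPolynomial.aeval_X]
  rfl

theorem Phi_C (c : TP R A n) :
    Phi (R := R) (A := A) (n := n) l₀ (MvPolynomial.C c) = MvPolynomial.C c := by
  unfold Phi
  rw [MvPolynomial.aeval_C]
  rfl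

theorem Phi0_X_inl (l : L) :
    Phi0 R A n L (MvPolynomial.X (Sum.inl l)) = MvPolynomial.X l := by
  unfold Phi0
  rw [MvPolynomial.aeval_X]
  rfl

theorem Phi0_X_inr (l : L) :
    Phi0 R A n L (MvPolynomial.X (Sum.inr l)) = 0 := by
  unfold Phi0
  rw [MvPolynomial.aeval_X]
  rfl

theorem Phi0_C (c : TP R A n) :
    Phi0 R A n L (MvPolynomial.C c) = MvPolynomial.C c := by
  unfold Phi0
  rw [MvPolynomial.aeval_C]
  rfl

/-- exponent vectors of the images of the variables under `Phi` -/
noncomputable def nu0 : L ⊕ L → (L →₀ ℕ) :=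
  Sum.elim (fun l => Finsupp.single l 1) (fun l => Finsupp.single l 1 + Finsupp.single l₀ 1)

theorem Phivar_eq (i : L ⊕ L) :
    Sum.elim (fun l => (MvPolynomial.X l : MvPolynomial L (TP R A n)))
      (fun l => MvPolynomial.X l * MvPolynomial.X l₀) i =
    MvPolynomial.monomial (nu0 l₀ i) 1 := by
  rcases i with l | l
  · rfl
  · show MvPolynomial.monomial (Finsupp.single l 1) (1 : TP R A n) *
      MvPolynomial.monomial (Finsupp.single l₀ 1) 1 = _
    rw [MvPolynomial.monomial_mul, one_mul]
    rfl

variable [Fintype L]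

theorem Phi_monomial (μ : L ⊕ L →₀ ℕ) (c : TP R A n) :
    Phi (R := R) (A := A) (n := n) l₀ (MvPolynomial.monomial μ c) =
      MvPolynomial.monomial (∑ i : L ⊕ L, μ i • nu0 l₀ i) c := by
  unfold Phi
  rw [MvPolynomial.aeval_monomial, Finsupp.prod_fintype _ _ (fun i => pow_zero _),
    MvPolynomial.monomial_sum_index, MvPolynomial.algebraMap_eq]
  congr 1
  apply Finset.prod_congr rfl
  intro i _
  rw [Phivar_eq, MvPolynomial.monomial_pow, one_pow]

theorem degree_nu (μ : L ⊕ L →₀ ℕ) (l₁ : L) (hl₁ : μ (Sum.inr l₁) ≠ 0) :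
    Finsupp.degree μ + 1 ≤ Finsupp.degree (∑ i : L ⊕ L, μ i • nu0 l₀ i) := by
  rw [map_sum, Finsupp.degree_eq_sum μ]
  apply Nat.succ_le_of_lt
  apply Finset.sum_lt_sum
  · intro i _
    rw [map_nsmul, smul_eq_mul]
    rcases i with l | l
    · show μ (Sum.inl l) ≤ μ (Sum.inl l) * Finsupp.degree (Finsupp.single l 1)
      rw [Finsupp.degree_single, mul_one]
    · show μ (Sum.inr l) ≤
        μ (Sum.inr l) * Finsupp.degree (Finsupp.single l 1 + Finsupp.single l₀ 1)
      rw [map_add, Finsupp.degree_single, Finsupp.degree_single]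
      omega
  · refine ⟨Sum.inr l₁, Finset.mem_univ _, ?_⟩
    rw [map_nsmul, smul_eq_mul]
    show μ (Sum.inr l₁) <
      μ (Sum.inr l₁) * Finsupp.degree (Finsupp.single l₁ 1 + Finsupp.single l₀ 1)
    rw [map_add, Finsupp.degree_single, Finsupp.degree_single]
    omega

theorem monomial_case (s : ℕ) (μ : L ⊕ L →₀ ℕ) (c : TP R A n)
    (hc : Finsupp.degree μ ≤ s → c ∈ EE R A n) :
    Phi (R := R) (A := A) (n := n) l₀ (MvPolynomial.monomial μ c) -
      Phi0 R A n L (MvPolynomial.monomial μ c) ∈ MM R A n L (s + 1) := by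
  by_cases h : ∀ l, μ (Sum.inr l) = 0
  · have heq : Phi (R := R) (A := A) (n := n) l₀ (MvPolynomial.monomial μ c) =
        Phi0 R A n L (MvPolynomial.monomial μ c) := by
      unfold Phi Phi0
      rw [MvPolynomial.aeval_monomial, MvPolynomial.aeval_monomial]
      congr 1
      apply Finsupp.prod_congr
      intro i hi
      rcases i with l | l
      · rfl
      · exact absurd (h l) (Finsupp.mem_support_iff.mp hi)
    rw [heq, sub_self]
    exact Subring.zero_mem _
  · push_neg at h
    obtain ⟨l₁, hl₁⟩ := h
    have e0 : Phi0 R A n L (MvPolynomial.monomial μ c) = 0 := by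
      unfold Phi0
      rw [MvPolynomial.aeval_monomial]
      have hz : (μ.prod fun i k =>
          (Sum.elim (fun l => (MvPolynomial.X l : MvPolynomial L (TP R A n))) (fun _ => 0) i) ^ k) =
          0 := by
        rw [Finsupp.prod]
        apply Finset.prod_eq_zero (Finsupp.mem_support_iff.mpr hl₁ : Sum.inr l₁ ∈ μ.support)
        show (0 : MvPolynomial L (TP R A n)) ^ (μ (Sum.inr l₁)) = 0
        exact zero_pow hl₁
      rw [hz, mul_zero]
    rw [e0, sub_zero, Phi_monomial, mem_MM]
    intro γ hγ
    rw [MvPolynomial.coeff_monomial]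
    split_ifs with hνγ
    · apply hc
      have hdeg := degree_nu l₀ μ l₁ hl₁
      rw [hνγ] at hdeg
      omega
    · exact Subalgebra.zero_mem _

theorem Phi_sub_Phi0_mem (s : ℕ) (q : MvPolynomial (L ⊕ L) (TP R A n))
    (hq : q ∈ MM R A n (L ⊕ L) s) :
    Phi (R := R) (A := A) (n := n) l₀ q - Phi0 R A n L q ∈ MM R A n L (s + 1) := by
  have e : Phi (R := R) (A := A) (n := n) l₀ q - Phi0 R A n L q =
      ∑ μ ∈ q.support, (Phi (R := R) (A := A) (n := n) l₀
        (MvPolynomial.monomial μ (MvPolynomial.coeff μ q)) -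
        Phi0 R A n L (MvPolynomial.monomial μ (MvPolynomial.coeff μ q))) := by
    rw [Finset.sum_sub_distrib, ← map_sum, ← map_sum, ← MvPolynomial.as_sum]
  rw [e]
  apply Subring.sum_mem
  intro μ _
  exact monomial_case l₀ s μ _ (fun h => hq μ h)

end PhiSec

section Ident
variable {L : Type u} [Fintype L]

theorem Phi0_GG (w w' : L → A) :
    Phi0 R A n L (GG (R := R) (n := n) (L ⊕ L) (Sum.elim w w')) = GG (R := R) (n := n) L w := by
  unfold GG
  rw [map_prod]
  apply Finset.prod_congr rfl
  intro i _
  rw [map_add, map_one, map_sum, Fintype.sum_sum_type]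
  have h1 : ∀ l : L, Phi0 R A n L (MvPolynomial.X (Sum.inl l) *
      MvPolynomial.C (iota (R := R) (n := n) i (Sum.elim w w' (Sum.inl l)))) =
      MvPolynomial.X l * MvPolynomial.C (iota (R := R) (n := n) i (w l)) := by
    intro l
    rw [map_mul, Phi0_X_inl, Phi0_C]
    rfl
  have h2 : ∀ l : L, Phi0 R A n L (MvPolynomial.X (Sum.inr l) *
      MvPolynomial.C (iota (R := R) (n := n) i (Sum.elim w w' (Sum.inr l)))) = 0 := by
    intro l
    rw [map_mul, Phi0_X_inr, zero_mul]
  rw [Finset.sum_congr rfl (fun l _ => h1 l), Finset.sum_congr rfl (fun l _ => h2 l),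
    Finset.sum_const_zero, add_zero]

theorem factor_id {S : Type*} [CommRing S] (x c c' : L → S) (y α : S)
    (hc : ∑ l, x l * c l = ∑ l, x l * c' l + y * α) :
    1 + (∑ l, x l * c l + ∑ l, (x l * y) * (c' l * α)) =
      (1 + ∑ l, x l * c' l) * (1 + y * α) := by
  have h2 : ∑ l, (x l * y) * (c' l * α) = (∑ l, x l * c' l) * (y * α) := by
    rw [Finset.sum_mul]
    apply Finset.sum_congr rfl
    intro l _
    ring
  rw [hc, h2]
  ring

theorem Phi_GG (l₀ : L) (w : L → A) :
    Phi (R := R) (A := A) (n := n) l₀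
      (GG (R := R) (n := n) (L ⊕ L)
        (Sum.elim w (fun l => Function.update w l₀ 0 l * w l₀))) =
    GG (R := R) (n := n) L (Function.update w l₀ 0) * psiG (R := R) (n := n) L l₀ (w l₀) := by
  unfold GG psiG
  rw [map_prod, ← Finset.prod_mul_distrib]
  apply Finset.prod_congr rfl
  intro i _
  rw [map_add, map_one, map_sum, Fintype.sum_sum_type]
  have h1 : ∀ l : L, Phi (R := R) (A := A) (n := n) l₀ (MvPolynomial.X (Sum.inl l) *
      MvPolynomial.C (iota (R := R) (n := n) i
        (Sum.elim w (fun l => Function.update w l₀ 0 l * w l₀) (Sum.inl l)))) =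
      MvPolynomial.X l * MvPolynomial.C (iota (R := R) (n := n) i (w l)) := by
    intro l
    rw [map_mul, Phi_X_inl, Phi_C]
    rfl
  have h2 : ∀ l : L, Phi (R := R) (A := A) (n := n) l₀ (MvPolynomial.X (Sum.inr l) *
      MvPolynomial.C (iota (R := R) (n := n) i
        (Sum.elim w (fun l => Function.update w l₀ 0 l * w l₀) (Sum.inr l)))) =
      (MvPolynomial.X l * MvPolynomial.X l₀) *
        (MvPolynomial.C (iota (R := R) (n := n) i (Function.update w l₀ 0 l)) *
          MvPolynomial.C (iota (R := R) (n := n) i (w l₀))) := by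
    intro l
    rw [map_mul, Phi_X_inr, Phi_C]
    show _ * MvPolynomial.C (iota (R := R) (n := n) i (Function.update w l₀ 0 l * w l₀)) = _
    rw [map_mul (iota (R := R) (n := n) i), map_mul MvPolynomial.C]
  rw [Finset.sum_congr rfl (fun l _ => h1 l), Finset.sum_congr rfl (fun l _ => h2 l)]
  apply factor_id
  -- the key relation between `w` and its modification
  have h3 : ∀ l : L, MvPolynomial.X l * MvPolynomial.C (iota (R := R) (n := n) i (w l)) =
      MvPolynomial.X l * MvPolynomial.C (iota (R := R) (n := n) i (Function.update w l₀ 0 l)) +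
      (if l = l₀ then (MvPolynomial.X l₀ : MvPolynomial L (TP R A n)) *
        MvPolynomial.C (iota (R := R) (n := n) i (w l₀)) else 0) := by
    intro l
    by_cases h : l = l₀
    · rw [if_pos h, h, Function.update_self, map_zero, map_zero, mul_zero, zero_add]
    · rw [if_neg h, Function.update_of_ne h, add_zero]
  rw [Finset.sum_congr rfl (fun l _ => h3 l), Finset.sum_add_distrib,
    Finset.sum_ite_eq' Finset.univ l₀, if_pos (Finset.mem_univ l₀)]

end Ident

/-- all coefficients of the generating polynomials lie in `E` -/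
theorem GG_mem : ∀ (s : ℕ) (L : Type u) [Fintype L] (w : L → A),
    GG (R := R) (n := n) L w ∈ MM R A n L s := by
  intro s
  induction s with
  | zero =>
    intro L _ w
    rw [mem_MM]
    intro γ hγ
    have hγ0 : γ = 0 := (Finsupp.degree_eq_zero_iff γ).mp (Nat.le_zero.mp hγ)
    rw [hγ0, ← MvPolynomial.constantCoeff_eq]
    unfold GG
    rw [map_prod]
    have h1 : ∀ i : Fin n, MvPolynomial.constantCoeff
        (1 + ∑ l : L, MvPolynomial.X l *
          MvPolynomial.C (iota (R := R) (n := n) i (w l))) = 1 := by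
      intro i
      rw [map_add, map_one, map_sum]
      have h2 : ∀ l : L, MvPolynomial.constantCoeff
          ((MvPolynomial.X l : MvPolynomial L (TP R A n)) *
            MvPolynomial.C (iota (R := R) (n := n) i (w l))) = 0 := by
        intro l
        rw [map_mul, MvPolynomial.constantCoeff_X, zero_mul]
      rw [Finset.sum_congr rfl (fun l _ => h2 l), Finset.sum_const_zero, add_zero]
    rw [Finset.prod_congr rfl (fun i _ => h1 i), Finset.prod_const_one]
    exact Subalgebra.one_mem _
  | succ s ih =>
    intro L _ w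
    have key : ∀ S : Finset L, ∀ w : L → A, (∀ l, l ∉ S → w l = 0) →
        GG (R := R) (n := n) L w ∈ MM R A n L (s + 1) := by
      intro S
      induction S using Finset.induction_on with
      | empty =>
        intro w hw
        have hw0 : ∀ l, w l = 0 := fun l => hw l (Finset.notMem_empty l)
        have h1 : GG (R := R) (n := n) L w = 1 := by
          unfold GG
          apply Finset.prod_eq_one
          intro i _
          have h2 : ∑ l : L, (MvPolynomial.X l : MvPolynomial L (TP R A n)) *
              MvPolynomial.C (iota (R := R) (n := n) i (w l)) = 0 := by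
            apply Finset.sum_eq_zero
            intro l _
            rw [hw0 l, map_zero, map_zero, mul_zero]
          rw [h2, add_zero]
        rw [h1]
        exact Subring.one_mem _
      | insert l₀ S' hl₀ ihS =>
        intro w hw
        have hwt : ∀ l, l ∉ S' → Function.update w l₀ 0 l = 0 := by
          intro l hl
          by_cases h : l = l₀
          · rw [h, Function.update_self]
          · rw [Function.update_of_ne h]
            apply hw
            rw [Finset.mem_insert]
            push_neg
            exact ⟨h, hl⟩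
        have h1 := ihS (Function.update w l₀ 0) hwt
        have h2 := psiG_mem (R := R) (n := n) L l₀ (w l₀) (s + 1)
        have h3 := ih (L ⊕ L) (Sum.elim w (fun l => Function.update w l₀ 0 l * w l₀))
        have h4 := Phi_sub_Phi0_mem l₀ s _ h3
        rw [Phi_GG, Phi0_GG] at h4
        have h5 := Subring.sub_mem _ (Subring.mul_mem _ h1 h2) h4
        rw [sub_sub_cancel] at h5
        exact h5
    exact key Finset.univ w (fun l hl => absurd (Finset.mem_univ l) hl)

end Gen

end Groth.Agent.Helper22.ES
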