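import Mathlib

set_option maxHeartbeats 1600000
set_option autoImplicit false

universe u v

open scoped TensorProduct

namespace Groth.Agent.Helper22.KL

open Classical

section Basic
variable {R : Type u} [CommRing R] {K K' K'' : Type*} [AddCommGroup K] [Module R K]
  [AddCommGroup K'] [Module R K'] [AddCommGroup K''] [Module R K''] {d : ℕ}

theorem map_map' (g : K' →ₗ[R] K'') (f : K →ₗ[R] K') (z : ⨂[R] _ : Fin d, K) :
    PiTensorProduct.map (fun _ : Fin d => g) (PiTensorProduct.map (fun _ : Fin d => f) z) =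
      PiTensorProduct.map (fun _ : Fin d => g ∘ₗ f) z := by
  rw [PiTensorProduct.map_comp]
  rfl

theorem map_reindex' (g : K →ₗ[R] K') (σ : Equiv.Perm (Fin d)) (x : ⨂[R] _ : Fin d, K) :
    PiTensorProduct.map (fun _ : Fin d => g) (PiTensorProduct.reindex R (fun _ : Fin d => K) σ x) =
      PiTensorProduct.reindex R (fun _ : Fin d => K') σ (PiTensorProduct.map (fun _ : Fin d => g) x) :=
  PiTensorProduct.map_reindex (fun _ : Fin d => g) σ x

variable (R K d) in
/-- `x, z ↦ x ⊗ z : K → T^d K → T^{d+1} K` -/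
noncomputable def mu : K →ₗ[R] (⨂[R] _ : Fin d, K) →ₗ[R] (⨂[R] _ : Fin (d + 1), K) :=
  (PiTensorProduct.lift (R := R) (s := fun _ : Fin d => K)
    (E := ⨂[R] _ : Fin (d + 1), K)).toLinearMap ∘ₗ
    (PiTensorProduct.tprod R (s := fun _ : Fin (d + 1) => K)).curryLeft

theorem mu_tprod (x : K) (v : Fin d → K) :
    mu R K d x (PiTensorProduct.tprod R v) =
      PiTensorProduct.tprod R (Fin.cons x v : Fin (d + 1) → K) := by
  show PiTensorProduct.lift ((PiTensorProduct.tprod R (s := fun _ : Fin (d + 1) => K)).curryLeft x)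
    (PiTensorProduct.tprod R v) = _
  rw [PiTensorProduct.lift.tprod, MultilinearMap.curryLeft_apply]

theorem map_mu (g₀ g : K →ₗ[R] K') (x : K) (z : ⨂[R] _ : Fin d, K) :
    PiTensorProduct.map (Fin.cons g₀ (fun _ => g) : Fin (d + 1) → (K →ₗ[R] K')) (mu R K d x z) =
      mu R K' d (g₀ x) (PiTensorProduct.map (fun _ : Fin d => g) z) := by
  induction z using PiTensorProduct.induction_on with
  | smul_tprod r v =>
    simp only [map_smul]
    rw [mu_tprod, PiTensorProduct.map_tprod, PiTensorProduct.map_tprod, mu_tprod]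
    refine congrArg (fun w : Fin (d + 1) → K' => r • PiTensorProduct.tprod R w) ?_
    funext i
    refine Fin.cases ?_ (fun j => ?_) i
    · simp only [Fin.cons_zero]
    · simp only [Fin.cons_succ]
  | add a b ha hb => rw [map_add, map_add, map_add, map_add, ha, hb]

theorem cons_const (g : K →ₗ[R] K') :
    (Fin.cons g (fun _ => g) : Fin (d + 1) → (K →ₗ[R] K')) = fun _ => g := by
  funext i
  refine Fin.cases ?_ (fun j => ?_) i
  · simp only [Fin.cons_zero]
  · simp only [Fin.cons_succ]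

theorem map_mu_const (g : K →ₗ[R] K') (x : K) (z : ⨂[R] _ : Fin d, K) :
    PiTensorProduct.map (fun _ : Fin (d + 1) => g) (mu R K d x z) =
      mu R K' d (g x) (PiTensorProduct.map (fun _ : Fin d => g) z) := by
  rw [← map_mu, cons_const]

variable (R K d) in
noncomputable def hh : K →ₗ[R] MultilinearMap R (fun _ : Fin d => K) ((⨂[R] _ : Fin d, K) ⊗[R] K) where
  toFun b := ((TensorProduct.mk R (⨂[R] _ : Fin d, K) K).flip b).compMultilinearMap
    (PiTensorProduct.tprod R)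
  map_add' b b' := by
    ext v
    simp [TensorProduct.tmul_add]
  map_smul' r b := by
    ext v
    simp

variable (R K d) in
/-- `T^{d+1} K → T^d K ⊗ K`, `u ↦ (tail u) ⊗ u 0` -/
noncomputable def theta : (⨂[R] _ : Fin (d + 1), K) →ₗ[R] (⨂[R] _ : Fin d, K) ⊗[R] K :=
  PiTensorProduct.lift (LinearMap.uncurryLeft (M := fun _ : Fin (d + 1) => K) (hh R K d))

theorem theta_tprod (u : Fin (d + 1) → K) :
    theta R K d (PiTensorProduct.tprod R u) = PiTensorProduct.tprod R (Fin.tail u) ⊗ₜ[R] u 0 := by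
  unfold theta
  rw [PiTensorProduct.lift.tprod, LinearMap.uncurryLeft_apply]
  rfl

theorem theta_mu (x : K) (z : ⨂[R] _ : Fin d, K) : theta R K d (mu R K d x z) = z ⊗ₜ[R] x := by
  induction z using PiTensorProduct.induction_on with
  | smul_tprod r v =>
    rw [map_smul, map_smul, mu_tprod, theta_tprod, Fin.tail_cons, Fin.cons_zero,
      TensorProduct.smul_tmul']
  | add a b ha hb => rw [map_add, map_add, ha, hb, TensorProduct.add_tmul]

theorem exists_decomp {ι : Type*} [Fintype ι] (e : Module.Basis ι R K)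
    (w : ⨂[R] _ : Fin (d + 1), K) :
    ∃ wc : ι → (⨂[R] _ : Fin d, K), w = ∑ i, mu R K d (e i) (wc i) := by
  induction w using PiTensorProduct.induction_on with
  | smul_tprod r u =>
    refine ⟨fun i => (r * e.repr (u 0) i) • PiTensorProduct.tprod R (Fin.tail u), ?_⟩
    have h0 : u 0 = ∑ i, e.repr (u 0) i • e i := (e.sum_repr (u 0)).symm
    have h1 : PiTensorProduct.tprod R u =
        mu R K d (u 0) (PiTensorProduct.tprod R (Fin.tail u)) := by
      rw [mu_tprod, Fin.cons_self_tail]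
    have h2 : r • mu R K d (u 0) (PiTensorProduct.tprod R (Fin.tail u)) =
        r • mu R K d (∑ i, e.repr (u 0) i • e i) (PiTensorProduct.tprod R (Fin.tail u)) :=
      congrArg (fun y => r • mu R K d y (PiTensorProduct.tprod R (Fin.tail u))) h0
    rw [h1, h2, map_sum, LinearMap.sum_apply, Finset.smul_sum]
    apply Finset.sum_congr rfl
    intro i _
    rw [map_smul, LinearMap.smul_apply, map_smul, smul_smul]
  | add a b ha hb =>
    obtain ⟨wa, hwa⟩ := ha
    obtain ⟨wb, hwb⟩ := hb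
    refine ⟨fun i => wa i + wb i, ?_⟩
    have h3 : ∑ i, mu R K d (e i) (wa i + wb i) =
        ∑ i, mu R K d (e i) (wa i) + ∑ i, mu R K d (e i) (wb i) := by
      rw [← Finset.sum_add_distrib]
      apply Finset.sum_congr rfl
      intro i _
      rw [map_add]
    rw [h3, ← hwa, ← hwb]

theorem isEmpty_map (g : K →ₗ[R] K') (z : ⨂[R] _ : Fin 0, K) :
    PiTensorProduct.isEmptyEquiv (Fin 0) (PiTensorProduct.map (fun _ : Fin 0 => g) z) =
      PiTensorProduct.isEmptyEquiv (Fin 0) z := by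
  induction z using PiTensorProduct.induction_on with
  | smul_tprod r v =>
    rw [map_smul, map_smul, map_smul, PiTensorProduct.map_tprod,
      PiTensorProduct.isEmptyEquiv_apply_tprod, PiTensorProduct.isEmptyEquiv_apply_tprod]
  | add a b ha hb => rw [map_add, map_add, map_add, ha, hb]

end Basic

section KLsec
variable (R : Type u) [CommRing R] (B : Type v) [AddCommGroup B] [Module R B]

/-- the tensor-power equational criterion, for finitely many tensors -/
def KLP (d : ℕ) : Prop :=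
  ∀ (m : ℕ) (f : (Fin m →₀ R) →ₗ[R] B) (q : ℕ) (w : Fin q → (⨂[R] _ : Fin d, (Fin m →₀ R))),
    (∀ j, PiTensorProduct.map (fun _ : Fin d => f) (w j) = 0) →
    ∃ (k : ℕ) (a : (Fin m →₀ R) →ₗ[R] (Fin k →₀ R)) (y : (Fin k →₀ R) →ₗ[R] B),
      f = y ∘ₗ a ∧ ∀ j, PiTensorProduct.map (fun _ : Fin d => a) (w j) = 0

/-- the tensor-power equational criterion, for one tensor -/
def KLS (d : ℕ) : Prop :=
  ∀ (m : ℕ) (f : (Fin m →₀ R) →ₗ[R] B) (w : ⨂[R] _ : Fin d, (Fin m →₀ R)),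
    PiTensorProduct.map (fun _ : Fin d => f) w = 0 →
    ∃ (k : ℕ) (a : (Fin m →₀ R) →ₗ[R] (Fin k →₀ R)) (y : (Fin k →₀ R) →ₗ[R] B),
      f = y ∘ₗ a ∧ PiTensorProduct.map (fun _ : Fin d => a) w = 0

variable {R B}

theorem multi_of_single {d : ℕ} (h : KLS R B d) : KLP R B d := by
  intro m f q
  induction q generalizing m with
  | zero =>
    intro w _
    exact ⟨m, LinearMap.id, f, (LinearMap.comp_id f).symm, fun j => j.elim0⟩
  | succ q ih =>
    intro w hw
    obtain ⟨k₁, a₁, y₁, h₁, hw₁⟩ := h m f (w 0) (hw 0)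
    have hw' : ∀ j : Fin q, PiTensorProduct.map (fun _ : Fin d => y₁)
        (PiTensorProduct.map (fun _ : Fin d => a₁) (w j.succ)) = 0 := by
      intro j
      rw [map_map', ← h₁]
      exact hw j.succ
    obtain ⟨k₂, a₂, y₂, h₂, hw₂⟩ := ih k₁ y₁
      (fun j => PiTensorProduct.map (fun _ : Fin d => a₁) (w j.succ)) hw'
    refine ⟨k₂, a₂ ∘ₗ a₁, y₂, ?_, ?_⟩
    · rw [← LinearMap.comp_assoc, ← h₂, ← h₁]
    · intro j
      rw [← map_map']
      refine Fin.cases ?_ (fun j' => ?_) j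
      · rw [hw₁, map_zero]
      · exact hw₂ j'

theorem kls_zero : KLS R B 0 := by
  intro m f w hw
  have h0 : w = 0 := by
    apply (PiTensorProduct.isEmptyEquiv (Fin 0)).injective
    rw [← isEmpty_map f w, hw, map_zero, map_zero]
  refine ⟨m, LinearMap.id, f, (LinearMap.comp_id f).symm, ?_⟩
  rw [h0, map_zero]

theorem common_refinement [Module.Flat R B] {m k₁ k₂ : ℕ} (f : (Fin m →₀ R) →ₗ[R] B)
    (a₁ : (Fin m →₀ R) →ₗ[R] (Fin k₁ →₀ R)) (y₁ : (Fin k₁ →₀ R) →ₗ[R] B) (h₁ : f = y₁ ∘ₗ a₁)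
    (a₂ : (Fin m →₀ R) →ₗ[R] (Fin k₂ →₀ R)) (y₂ : (Fin k₂ →₀ R) →ₗ[R] B) (h₂ : f = y₂ ∘ₗ a₂) :
    ∃ (k₃ : ℕ) (g₁ : (Fin k₁ →₀ R) →ₗ[R] (Fin k₃ →₀ R))
      (g₂ : (Fin k₂ →₀ R) →ₗ[R] (Fin k₃ →₀ R)) (y₃ : (Fin k₃ →₀ R) →ₗ[R] B),
      y₃ ∘ₗ g₁ = y₁ ∧ y₃ ∘ₗ g₂ = y₂ ∧ g₁ ∘ₗ a₁ = g₂ ∘ₗ a₂ := by
  have h0 : (y₁.coprod y₂) ∘ₗ
      (LinearMap.inl R (Fin k₁ →₀ R) (Fin k₂ →₀ R) ∘ₗ a₁ -
        LinearMap.inr R (Fin k₁ →₀ R) (Fin k₂ →₀ R) ∘ₗ a₂) = 0 := by
    rw [LinearMap.comp_sub, ← LinearMap.comp_assoc, ← LinearMap.comp_assoc,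
      LinearMap.coprod_inl, LinearMap.coprod_inr, ← h₁, ← h₂, sub_self]
  obtain ⟨k₃, a, y₃, hya, haf⟩ := Module.Flat.exists_factorization_of_comp_eq_zero_of_free h0
  refine ⟨k₃, a ∘ₗ LinearMap.inl R _ _, a ∘ₗ LinearMap.inr R _ _, y₃, ?_, ?_, ?_⟩
  · rw [← LinearMap.comp_assoc, ← hya, LinearMap.coprod_inl]
  · rw [← LinearMap.comp_assoc, ← hya, LinearMap.coprod_inr]
  · rw [LinearMap.comp_sub] at haf
    have haf' : a ∘ₗ LinearMap.inl R (Fin k₁ →₀ R) (Fin k₂ →₀ R) ∘ₗ a₁ =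
        a ∘ₗ LinearMap.inr R (Fin k₁ →₀ R) (Fin k₂ →₀ R) ∘ₗ a₂ := sub_eq_zero.mp haf
    rw [LinearMap.comp_assoc, LinearMap.comp_assoc]
    exact haf'

theorem kls_succ [Module.Flat R B] {d : ℕ} (hd : KLP R B d) : KLS R B (d + 1) := by
  intro m f w hw
  obtain ⟨wc, hwc⟩ := exists_decomp (Finsupp.basisSingleOne (R := R) (ι := Fin m)) w
  have he : ∀ i : Fin m, (Finsupp.basisSingleOne (R := R) (ι := Fin m)) i =
      Finsupp.single i (1 : R) := fun i => by rw [Finsupp.coe_basisSingleOne]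
  simp only [he] at hwc
  -- apply `theta` to the vanishing
  have h1 : ∑ i : Fin m, PiTensorProduct.map (fun _ : Fin d => f) (wc i) ⊗ₜ[R]
      f (Finsupp.single i 1) = 0 := by
    have h2 := congrArg (theta R B d) hw
    rw [map_zero, hwc, map_sum, map_sum] at h2
    rw [← h2]
    apply Finset.sum_congr rfl
    intro i _
    rw [map_mu_const, theta_mu]
  have hinj : Function.Injective (LinearMap.rTensor B (Submodule.span R (Set.range
      (fun i : Fin m => PiTensorProduct.map (fun _ : Fin d => f) (wc i)))).subtype) :=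
    Module.Flat.rTensor_preserves_injective_linearMap _ (Submodule.injective_subtype _)
  obtain ⟨k, a, y, hay, ham⟩ :=
    TensorProduct.vanishesTrivially_of_sum_tmul_eq_zero_of_rTensor_injective R hinj h1
  have hay' : ∀ i : Fin m, f (Finsupp.single i 1) = ∑ j, a i j • y j := hay
  have ham' : ∀ j : Fin k, ∑ i, a i j • PiTensorProduct.map (fun _ : Fin d => f) (wc i) = 0 := ham
  -- the first factorization
  obtain ⟨a₁, ha₁⟩ : ∃ a₁ : (Fin m →₀ R) →ₗ[R] (Fin k →₀ R), a₁ =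
      Finsupp.linearCombination R (fun i : Fin m => ∑ j, a i j • Finsupp.single j (1 : R)) :=
    ⟨_, rfl⟩
  obtain ⟨y₁, hy₁⟩ : ∃ y₁ : (Fin k →₀ R) →ₗ[R] B, y₁ = Finsupp.linearCombination R y :=
    ⟨_, rfl⟩
  have ha₁e : ∀ i : Fin m, a₁ (Finsupp.single i 1) = ∑ j, a i j • Finsupp.single j (1 : R) := by
    intro i
    rw [ha₁, Finsupp.linearCombination_single, one_smul]
  have hf₁ : f = y₁ ∘ₗ a₁ := by
    apply (Finsupp.basisSingleOne (R := R) (ι := Fin m)).ext
    intro i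
    rw [he, LinearMap.comp_apply, ha₁e, map_sum, hay' i]
    apply Finset.sum_congr rfl
    intro j _
    rw [map_smul, hy₁, Finsupp.linearCombination_single, one_smul]
  -- the second factorization, from the induction hypothesis
  have hw'' : ∀ j : Fin k, PiTensorProduct.map (fun _ : Fin d => f)
      ((fun j : Fin k => ∑ i, a i j • wc i) j) = 0 := by
    intro j
    show PiTensorProduct.map (fun _ : Fin d => f) (∑ i, a i j • wc i) = 0
    rw [map_sum, ← ham' j]
    apply Finset.sum_congr rfl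
    intro i _
    rw [map_smul]
  obtain ⟨k₂, a₂, y₂, hf₂, hw₂⟩ := hd m f k (fun j : Fin k => ∑ i, a i j • wc i) hw''
  obtain ⟨k₃, g₁, g₂, y₃, hg₁, hg₂, hg⟩ := common_refinement f a₁ y₁ hf₁ a₂ y₂ hf₂
  refine ⟨k₃, g₁ ∘ₗ a₁, y₃, ?_, ?_⟩
  · rw [← LinearMap.comp_assoc, hg₁]
    exact hf₁
  · have hcons : (fun _ : Fin (d + 1) => g₁ ∘ₗ a₁) =
        (Fin.cons (g₁ ∘ₗ a₁) (fun _ => g₂ ∘ₗ a₂) :
          Fin (d + 1) → ((Fin m →₀ R) →ₗ[R] (Fin k₃ →₀ R))) := by
      rw [← hg, cons_const]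
    rw [hcons, hwc, map_sum]
    have h3 : ∀ i : Fin m, PiTensorProduct.map
        (Fin.cons (g₁ ∘ₗ a₁) (fun _ => g₂ ∘ₗ a₂) :
          Fin (d + 1) → ((Fin m →₀ R) →ₗ[R] (Fin k₃ →₀ R)))
        (mu R (Fin m →₀ R) d (Finsupp.single i 1) (wc i)) =
        ∑ j : Fin k, mu R (Fin k₃ →₀ R) d (g₁ (Finsupp.single j 1))
          (PiTensorProduct.map (fun _ : Fin d => g₂ ∘ₗ a₂) (a i j • wc i)) := by
      intro i
      rw [map_mu, LinearMap.comp_apply, ha₁e, map_sum, map_sum, LinearMap.sum_apply]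
      apply Finset.sum_congr rfl
      intro j _
      rw [map_smul, map_smul, LinearMap.smul_apply, map_smul, map_smul]
    rw [Finset.sum_congr rfl (fun i _ => h3 i), Finset.sum_comm]
    apply Finset.sum_eq_zero
    intro j _
    rw [← map_sum, ← map_sum, ← map_map', hw₂ j, map_zero, map_zero]

theorem kl [Module.Flat R B] : ∀ d : ℕ, KLP R B d := by
  intro d
  induction d with
  | zero => exact multi_of_single kls_zero
  | succ d ih => exact multi_of_single (kls_succ ih)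

end KLsec

end Groth.Agent.Helper22.KL
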