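import Mathlib
import Groth.Prelude.Def_SymTen
import Groth.Agent.Lib.Helper22.GF03
import Groth.Agent.Lib.Helper22.KL1

set_option maxHeartbeats 1600000
set_option autoImplicit false

universe u v

open scoped TensorProduct

namespace Groth.Agent.Helper22.KL

open Classical

section Rep
variable {R : Type u} [CommRing R] {N : Type*} [AddCommGroup N] [Module R N] {n : ℕ}

theorem combine_left {m₁ m₂ : ℕ} (v₁ : Fin m₁ → N) (v₂ : Fin m₂ → N)
    (z : ⨂[R] _ : Fin n, (Fin m₁ →₀ R)) :
    PiTensorProduct.map (fun _ : Fin n => Finsupp.linearCombination R (Fin.append v₁ v₂))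
      (PiTensorProduct.map (fun _ : Fin n => Finsupp.lmapDomain R R (Fin.castAdd m₂)) z) =
    PiTensorProduct.map (fun _ : Fin n => Finsupp.linearCombination R v₁) z := by
  rw [map_map', Finsupp.linearCombination_comp_lmapDomain]
  have e1 : Fin.append v₁ v₂ ∘ Fin.castAdd m₂ = v₁ := by
    funext i
    exact Fin.append_left v₁ v₂ i
  rw [e1]

theorem combine_right {m₁ m₂ : ℕ} (v₁ : Fin m₁ → N) (v₂ : Fin m₂ → N)
    (z : ⨂[R] _ : Fin n, (Fin m₂ →₀ R)) :
    PiTensorProduct.map (fun _ : Fin n => Finsupp.linearCombination R (Fin.append v₁ v₂))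
      (PiTensorProduct.map (fun _ : Fin n => Finsupp.lmapDomain R R (Fin.natAdd m₁)) z) =
    PiTensorProduct.map (fun _ : Fin n => Finsupp.linearCombination R v₂) z := by
  rw [map_map', Finsupp.linearCombination_comp_lmapDomain]
  have e1 : Fin.append v₁ v₂ ∘ Fin.natAdd m₁ = v₂ := by
    funext i
    exact Fin.append_right v₁ v₂ i
  rw [e1]

/-- every tensor comes from a finite free module -/
theorem exists_rep (t : ⨂[R] _ : Fin n, N) :
    ∃ (m : ℕ) (v : Fin m → N) (t' : ⨂[R] _ : Fin n, (Fin m →₀ R)),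
      PiTensorProduct.map (fun _ : Fin n => Finsupp.linearCombination R v) t' = t := by
  induction t using PiTensorProduct.induction_on with
  | smul_tprod r u =>
    refine ⟨n, u, r • PiTensorProduct.tprod R (fun i => Finsupp.single i (1 : R)), ?_⟩
    rw [map_smul, PiTensorProduct.map_tprod]
    refine congrArg (fun w : Fin n → N => r • PiTensorProduct.tprod R w) ?_
    funext i
    rw [Finsupp.linearCombination_single, one_smul]
  | add a b ha hb =>
    obtain ⟨m₁, v₁, t₁, h₁⟩ := ha
    obtain ⟨m₂, v₂, t₂, h₂⟩ := hb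
    refine ⟨m₁ + m₂, Fin.append v₁ v₂,
      PiTensorProduct.map (fun _ : Fin n => Finsupp.lmapDomain R R (Fin.castAdd m₂)) t₁ +
      PiTensorProduct.map (fun _ : Fin n => Finsupp.lmapDomain R R (Fin.natAdd m₁)) t₂, ?_⟩
    rw [map_add, combine_left, combine_right, h₁, h₂]

theorem exists_rep_multi : ∀ (q : ℕ) (t : Fin q → (⨂[R] _ : Fin n, N)),
    ∃ (m : ℕ) (v : Fin m → N) (t' : Fin q → (⨂[R] _ : Fin n, (Fin m →₀ R))),
      ∀ j, PiTensorProduct.map (fun _ : Fin n => Finsupp.linearCombination R v) (t' j) = t j := by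
  intro q
  induction q with
  | zero =>
    intro t
    exact ⟨0, Fin.elim0, Fin.elim0, fun j => j.elim0⟩
  | succ q ih =>
    intro t
    obtain ⟨m₁, v₁, t₁, h₁⟩ := ih (fun j => t j.succ)
    obtain ⟨m₂, v₂, t₂, h₂⟩ := exists_rep (t 0)
    refine ⟨m₁ + m₂, Fin.append v₁ v₂,
      (Fin.cons
        (PiTensorProduct.map (fun _ : Fin n => Finsupp.lmapDomain R R (Fin.natAdd m₁)) t₂)
        (fun j => PiTensorProduct.map (fun _ : Fin n => Finsupp.lmapDomain R R (Fin.castAdd m₂))
          (t₁ j)) : Fin (q + 1) → (⨂[R] _ : Fin n, (Fin (m₁ + m₂) →₀ R))), ?_⟩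
    intro j
    refine Fin.cases ?_ (fun j' => ?_) j
    · rw [Fin.cons_zero, combine_right, h₂]
    · rw [Fin.cons_succ, combine_left, h₁ j']

end Rep

section Lift
variable {R : Type u} [CommRing R] {M N : Type*} [AddCommGroup M] [Module R M]
  [AddCommGroup N] [Module R N]

/-- lifting a map from a finite free module along a surjection -/
theorem exists_lift_lc (f : M →ₗ[R] N) (hf : Function.Surjective f) {k : ℕ}
    (y : (Fin k →₀ R) →ₗ[R] N) : ∃ y' : (Fin k →₀ R) →ₗ[R] M, f ∘ₗ y' = y := by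
  choose mm hmm using fun j : Fin k => hf (y (Finsupp.single j 1))
  refine ⟨Finsupp.linearCombination R mm, ?_⟩
  apply (Finsupp.basisSingleOne (R := R) (ι := Fin k)).ext
  intro j
  rw [Finsupp.coe_basisSingleOne, LinearMap.comp_apply, Finsupp.linearCombination_single,
    one_smul, hmm]

/-- the tensor-power criterion with an arbitrary finite index type -/
theorem kl_fintype [Module.Flat R N] {ι : Type*} [Fintype ι] (d m : ℕ)
    (f : (Fin m →₀ R) →ₗ[R] N) (w : ι → (⨂[R] _ : Fin d, (Fin m →₀ R)))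
    (hw : ∀ j, PiTensorProduct.map (fun _ : Fin d => f) (w j) = 0) :
    ∃ (k : ℕ) (a : (Fin m →₀ R) →ₗ[R] (Fin k →₀ R)) (y : (Fin k →₀ R) →ₗ[R] N),
      f = y ∘ₗ a ∧ ∀ j, PiTensorProduct.map (fun _ : Fin d => a) (w j) = 0 := by
  obtain ⟨k, a, y, h1, h2⟩ := kl (R := R) (B := N) d m f (Fintype.card ι)
    (fun j => w ((Fintype.equivFin ι).symm j)) (fun j => hw _)
  refine ⟨k, a, y, h1, fun j => ?_⟩
  have h3 := h2 (Fintype.equivFin ι j)
  rwa [Equiv.symm_apply_apply] at h3

/-- S14672: symmetric tensors lift along a surjection onto a flat module -/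
theorem sym_lift [Module.Flat R N] (f : M →ₗ[R] N) (hf : Function.Surjective f) (n : ℕ)
    (t : ⨂[R] _ : Fin n, N)
    (ht : ∀ σ : Equiv.Perm (Fin n), PiTensorProduct.reindex R (fun _ : Fin n => N) σ t = t) :
    ∃ s : ⨂[R] _ : Fin n, M,
      (∀ σ : Equiv.Perm (Fin n), PiTensorProduct.reindex R (fun _ : Fin n => M) σ s = s) ∧
      PiTensorProduct.map (fun _ : Fin n => f) s = t := by
  obtain ⟨m, v, t', ht'⟩ := exists_rep (R := R) t
  obtain ⟨k, a, y, h1, h2⟩ := kl_fintype n m (Finsupp.linearCombination R v)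
    (fun σ : Equiv.Perm (Fin n) =>
      PiTensorProduct.reindex R (fun _ : Fin n => (Fin m →₀ R)) σ t' - t')
    (fun σ => by
      show PiTensorProduct.map (fun _ : Fin n => Finsupp.linearCombination R v)
        (PiTensorProduct.reindex R (fun _ : Fin n => (Fin m →₀ R)) σ t' - t') = 0
      rw [map_sub, map_reindex', ht', ht σ, sub_self])
  obtain ⟨y', hy'⟩ := exists_lift_lc f hf y
  have hsym : ∀ σ : Equiv.Perm (Fin n),
      PiTensorProduct.reindex R (fun _ : Fin n => (Fin k →₀ R)) σ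
        (PiTensorProduct.map (fun _ : Fin n => a) t') =
      PiTensorProduct.map (fun _ : Fin n => a) t' := by
    intro σ
    have h3 : PiTensorProduct.map (fun _ : Fin n => a)
        (PiTensorProduct.reindex R (fun _ : Fin n => (Fin m →₀ R)) σ t' - t') = 0 := h2 σ
    rw [map_sub, sub_eq_zero, map_reindex'] at h3
    exact h3
  refine ⟨PiTensorProduct.map (fun _ : Fin n => y')
    (PiTensorProduct.map (fun _ : Fin n => a) t'), ?_, ?_⟩
  · intro σ
    rw [← map_reindex', hsym σ]
  · rw [map_map', map_map', hy', ← h1, ht']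

end Lift

section FlatTS
variable (R : Type u) [CommRing R] (M : Type u) [AddCommGroup M] [Module R M]

/-- the submodule of symmetric tensors, in the form of S14671 -/
noncomputable def TSm (n : ℕ) : Submodule R (⨂[R] _ : Fin n, M) :=
  ⨅ σ : Equiv.Perm (Fin n),
    LinearMap.eqLocus (PiTensorProduct.reindex R (fun _ : Fin n => M) σ).toLinearMap LinearMap.id

variable {R M}

theorem mem_TSm {n : ℕ} (t : ⨂[R] _ : Fin n, M) :
    t ∈ TSm R M n ↔
      ∀ σ : Equiv.Perm (Fin n), PiTensorProduct.reindex R (fun _ : Fin n => M) σ t = t := by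
  unfold TSm
  rw [Submodule.mem_iInf]
  apply forall_congr'
  intro σ
  rw [LinearMap.mem_eqLocus]
  rfl

/-- S14671: symmetric tensors of a flat module are flat -/
theorem flat_TSm [Module.Flat R M] (n : ℕ) : Module.Flat R ↥(TSm R M n) := by
  apply Module.Flat.of_forall_exists_factorization
  intro l f x hx
  -- the finitely many symmetric tensors
  have htsym : ∀ i : Fin l, ∀ σ : Equiv.Perm (Fin n),
      PiTensorProduct.reindex R (fun _ : Fin n => M) σ (x (Finsupp.single i 1)).1 =
        (x (Finsupp.single i 1)).1 := fun i => (mem_TSm _).mp (x (Finsupp.single i 1)).2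
  obtain ⟨m, v, t', ht'⟩ := exists_rep_multi (R := R) l
    (fun i => ((x (Finsupp.single i 1)).1 : ⨂[R] _ : Fin n, M))
  have hxf : ∑ i : Fin l, f i • ((x (Finsupp.single i 1)).1 : ⨂[R] _ : Fin n, M) = 0 := by
    have h1 : f = ∑ i : Fin l, f i • Finsupp.single i (1 : R) := by
      conv_lhs => rw [← Finsupp.sum_single f]
      rw [Finsupp.sum_fintype _ _ (fun _ => Finsupp.single_zero _)]
      apply Finset.sum_congr rfl
      intro i _
      rw [Finsupp.smul_single_one]
    have h2 := congrArg (fun z : ↥(TSm R M n) => (z : ⨂[R] _ : Fin n, M)) hx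
    simp only [Submodule.coe_zero] at h2
    rw [← h2]
    conv_rhs => rw [h1]
    rw [map_sum, Submodule.coe_sum]
    apply Finset.sum_congr rfl
    intro i _
    rw [map_smul, Submodule.coe_smul]
  -- kill the asymmetry and the relation in a finite free module
  obtain ⟨k₁, a₁, y₁, h1, h2⟩ := kl_fintype n m (Finsupp.linearCombination R v)
    (fun idx : (Fin l × Equiv.Perm (Fin n)) ⊕ Unit =>
      Sum.elim (fun p : Fin l × Equiv.Perm (Fin n) =>
        PiTensorProduct.reindex R (fun _ : Fin n => (Fin m →₀ R)) p.2 (t' p.1) - t' p.1)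
        (fun _ => ∑ i : Fin l, f i • t' i) idx)
    (fun idx => by
      rcases idx with ⟨i, σ⟩ | u
      · show PiTensorProduct.map (fun _ : Fin n => Finsupp.linearCombination R v)
          (PiTensorProduct.reindex R (fun _ : Fin n => (Fin m →₀ R)) σ (t' i) - t' i) = 0
        rw [map_sub, map_reindex', ht' i, htsym i σ, sub_self]
      · show PiTensorProduct.map (fun _ : Fin n => Finsupp.linearCombination R v)
          (∑ i : Fin l, f i • t' i) = 0
        rw [map_sum, ← hxf]
        apply Finset.sum_congr rfl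
        intro i _
        rw [map_smul, ht' i])
  have hsym : ∀ (i : Fin l) (σ : Equiv.Perm (Fin n)),
      PiTensorProduct.reindex R (fun _ : Fin n => (Fin k₁ →₀ R)) σ
        (PiTensorProduct.map (fun _ : Fin n => a₁) (t' i)) =
      PiTensorProduct.map (fun _ : Fin n => a₁) (t' i) := by
    intro i σ
    have h3 : PiTensorProduct.map (fun _ : Fin n => a₁)
        (PiTensorProduct.reindex R (fun _ : Fin n => (Fin m →₀ R)) σ (t' i) - t' i) = 0 :=
      h2 (Sum.inl (i, σ))
    rw [map_sub, sub_eq_zero, map_reindex'] at h3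
    exact h3
  have hrel : ∑ i : Fin l, f i • PiTensorProduct.map (fun _ : Fin n => a₁) (t' i) = 0 := by
    have h3 : PiTensorProduct.map (fun _ : Fin n => a₁) (∑ i : Fin l, f i • t' i) = 0 :=
      h2 (Sum.inr ())
    rw [map_sum] at h3
    rw [← h3]
    apply Finset.sum_congr rfl
    intro i _
    rw [map_smul]
  -- pass to the Pi-algebra `P = Fin k₁ → R` to use the symmetrising retraction
  obtain ⟨ψ, hψ⟩ : ∃ ψ : (Fin k₁ →₀ R) ≃ₗ[R] (Fin k₁ → R),
      ψ = Finsupp.linearEquivFunOnFinite R R (Fin k₁) := ⟨_, rfl⟩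
  obtain ⟨b, hb⟩ : ∃ b : Module.Basis (ULift.{u} (Fin k₁)) R (Fin k₁ → R),
      b = (Pi.basisFun R (Fin k₁)).reindex Equiv.ulift.symm := ⟨_, rfl⟩
  obtain ⟨tb, htb⟩ : ∃ tb : Fin l → (⨂[R] _ : Fin n, (Fin k₁ → R)),
      tb = fun i => PiTensorProduct.map (fun _ : Fin n => ψ.toLinearMap)
        (PiTensorProduct.map (fun _ : Fin n => a₁) (t' i)) := ⟨_, rfl⟩
  have htbsym : ∀ i, tb i ∈ SymTen.TS R (Fin k₁ → R) n := by
    intro i
    rw [SymTen.mem_TS_iff]
    intro σ
    rw [htb]
    show PiTensorProduct.reindex R (fun _ : Fin n => (Fin k₁ → R)) σ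
      (PiTensorProduct.map (fun _ : Fin n => ψ.toLinearMap)
        (PiTensorProduct.map (fun _ : Fin n => a₁) (t' i))) = _
    rw [← map_reindex', hsym i σ]
  have htbrel : ∑ i : Fin l, f i • tb i = 0 := by
    rw [htb]
    have h3 := congrArg (PiTensorProduct.map (fun _ : Fin n => ψ.toLinearMap)) hrel
    rw [map_sum, map_zero] at h3
    rw [← h3]
    apply Finset.sum_congr rfl
    intro i _
    rw [map_smul]
  -- the map `T^n P → TS^n M`
  obtain ⟨Y, hY⟩ : ∃ Y : (⨂[R] _ : Fin n, (Fin k₁ → R)) →ₗ[R] (⨂[R] _ : Fin n, M),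
      Y = PiTensorProduct.map (fun _ : Fin n => y₁ ∘ₗ ψ.symm.toLinearMap) ∘ₗ GF.rhoP b n :=
    ⟨_, rfl⟩
  have hYmem : ∀ z, Y z ∈ TSm R M n := by
    intro z
    rw [mem_TSm]
    intro σ
    rw [hY, LinearMap.comp_apply, ← map_reindex']
    have h3 := (SymTen.mem_TS_iff R (Fin k₁ → R) n _).mp (GF.rhoP_mem_TS b n z) σ
    rw [h3]
  have hYtb : ∀ i, Y (tb i) = (x (Finsupp.single i 1)).1 := by
    intro i
    rw [hY, LinearMap.comp_apply, GF.rhoP_fix_ground b n (tb i) (htbsym i), htb]
    show PiTensorProduct.map (fun _ : Fin n => y₁ ∘ₗ ψ.symm.toLinearMap)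
      (PiTensorProduct.map (fun _ : Fin n => ψ.toLinearMap)
        (PiTensorProduct.map (fun _ : Fin n => a₁) (t' i))) = _
    rw [map_map', map_map']
    have h4 : ((y₁ ∘ₗ ψ.symm.toLinearMap) ∘ₗ ψ.toLinearMap) ∘ₗ a₁ =
        Finsupp.linearCombination R v := by
      rw [h1]
      ext z
      simp
    rw [h4, ht' i]
  -- a basis of `T^n P` indexed by `Fin k`
  obtain ⟨bL, hbL⟩ : ∃ bL : Module.Basis (Fin (Fintype.card (Fin n → ULift.{u} (Fin k₁)))) R
      (⨂[R] _ : Fin n, (Fin k₁ → R)),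
      bL = (GF.eB b n).reindex (Fintype.equivFin (Fin n → ULift.{u} (Fin k₁))) := ⟨_, rfl⟩
  refine ⟨Fintype.card (Fin n → ULift.{u} (Fin k₁)),
    bL.repr.toLinearMap ∘ₗ Finsupp.linearCombination R tb,
    (LinearMap.codRestrict (TSm R M n) Y hYmem) ∘ₗ bL.repr.symm.toLinearMap, ?_, ?_⟩
  · apply (Finsupp.basisSingleOne (R := R) (ι := Fin l)).ext
    intro i
    rw [Finsupp.coe_basisSingleOne]
    apply Subtype.ext
    show (x (Finsupp.single i 1)).1 = Y (bL.repr.symm (bL.repr
      (Finsupp.linearCombination R tb (Finsupp.single i 1))))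
    rw [LinearEquiv.symm_apply_apply, Finsupp.linearCombination_single, one_smul, hYtb i]
  · show bL.repr (Finsupp.linearCombination R tb f) = 0
    have h5 : Finsupp.linearCombination R tb f = ∑ i : Fin l, f i • tb i := by
      rw [Finsupp.linearCombination_apply, Finsupp.sum_fintype]
      intro i
      rw [zero_smul]
    rw [h5, htbrel, map_zero]

end FlatTS

end Groth.Agent.Helper22.KL
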