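import Groth.Agent.Lib.Helper22.ES1
import Groth.Agent.Lib.Helper22.KL2

set_option maxHeartbeats 1600000
set_option autoImplicit false

universe u
open scoped TensorProduct
open Classical

namespace Groth.Agent.Helper22.ES

open Groth.Agent.Helper22.GF

theorem mem_piFinset_of_typ_eq {M : Type*} {d : ℕ} (f g : Fin d → M) (h : typ g = typ f) :
    g ∈ Fintype.piFinset (fun _ : Fin d => Finset.univ.image f) := by
  rw [Fintype.mem_piFinset]
  intro j
  rw [← support_typ, ← h, support_typ]
  exact Finset.mem_image_of_mem _ (Finset.mem_univ j)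

section Coeff
variable {R : Type u} [CommRing R] {A : Type u} [CommRing A] [Algebra R A] {n : ℕ}

/-- the top-degree coefficients of the generating polynomial are the orbit sums -/
theorem coeff_GG_typ (L : Type u) [Fintype L] (w : L → A) (f : Fin n → L) :
    MvPolynomial.coeff (typ f) (GG (R := R) (n := n) L w) =
      ∑ g : Fin n → L,
        if typ g = typ f then PiTensorProduct.tprod R (fun i => w (g i)) else 0 := by
  unfold GG
  rw [Finset.prod_one_add, MvPolynomial.coeff_sum,
    Finset.sum_eq_single (Finset.univ : Finset (Fin n))]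
  · rw [Finset.prod_univ_sum, MvPolynomial.coeff_sum, Fintype.piFinset_univ]
    apply Finset.sum_congr rfl
    intro g _
    have h1 : ∏ i : Fin n, ((MvPolynomial.X (g i) : MvPolynomial L (TP R A n)) *
        MvPolynomial.C (iota (R := R) (n := n) i (w (g i)))) =
        MvPolynomial.monomial (typ g) (PiTensorProduct.tprod R (fun i => w (g i))) := by
      rw [Finset.prod_mul_distrib, prod_X_eq_monomial, ← map_prod,
        prod_iota_univ (fun i => w (g i)), MvPolynomial.C_apply, MvPolynomial.monomial_mul,
        add_zero, one_mul]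
    rw [h1, MvPolynomial.coeff_monomial]
  · intro t _ ht
    have hhom : MvPolynomial.IsHomogeneous
        (∏ i ∈ t, ∑ l : L, (MvPolynomial.X l : MvPolynomial L (TP R A n)) *
          MvPolynomial.C (iota (R := R) (n := n) i (w l))) (∑ _i ∈ t, 1) := by
      apply MvPolynomial.IsHomogeneous.prod
      intro i _
      apply MvPolynomial.IsHomogeneous.sum
      intro l _
      exact (MvPolynomial.isHomogeneous_X _ l).mul (MvPolynomial.isHomogeneous_C _ _)
    apply hhom.coeff_eq_zero
    rw [degree_typ, Finset.sum_const, smul_eq_mul, mul_one]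
    intro h
    apply ht
    apply Finset.eq_univ_of_card
    rw [← h, Fintype.card_fin]
  · intro h
    exact absurd (Finset.mem_powerset.mpr (Finset.subset_univ _)) h

/-- the elementary symmetric tensors are symmetric -/
theorem esym_mem_TS (a : A) (j : ℕ) :
    (∑ I ∈ (Finset.univ : Finset (Fin n)).powersetCard j,
      PiTensorProduct.tprod R (fun i : Fin n => if i ∈ I then a else (1 : A))) ∈
      SymTen.TS R A n := by
  rw [SymTen.mem_TS_iff]
  intro σ
  rw [map_sum]
  have h1 : ∀ I : Finset (Fin n),
      PiTensorProduct.reindex R (fun _ : Fin n => A) σ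
        (PiTensorProduct.tprod R (fun i : Fin n => if i ∈ I then a else (1 : A))) =
      PiTensorProduct.tprod R
        (fun i : Fin n => if i ∈ I.map σ.toEmbedding then a else (1 : A)) := by
    intro I
    rw [PiTensorProduct.reindex_tprod]
    congr 1
    funext i
    have h2 : σ.symm i ∈ I ↔ i ∈ I.map σ.toEmbedding := by
      rw [Finset.mem_map_equiv]
    by_cases h3 : σ.symm i ∈ I
    · rw [if_pos h3, if_pos (h2.mp h3)]
    · rw [if_neg h3, if_neg (fun h4 => h3 (h2.mpr h4))]
  rw [Finset.sum_congr rfl (fun I _ => h1 I)]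
  apply Finset.sum_nbij' (fun I => I.map σ.toEmbedding) (fun I => I.map σ.symm.toEmbedding)
  · intro I hI
    rw [Finset.mem_powersetCard] at hI ⊢
    exact ⟨Finset.subset_univ _, by rw [Finset.card_map]; exact hI.2⟩
  · intro I hI
    rw [Finset.mem_powersetCard] at hI ⊢
    exact ⟨Finset.subset_univ _, by rw [Finset.card_map]; exact hI.2⟩
  · intro I _
    ext x
    simp only [Finset.mem_map_equiv, Equiv.symm_symm, Equiv.symm_apply_apply]
  · intro I _
    ext x
    simp only [Finset.mem_map_equiv, Equiv.symm_symm, Equiv.apply_symm_apply]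
  · intro I _
    rfl

end Coeff

section StepA
variable {R : Type u} [CommRing R] {A : Type u} [CommRing A] [Algebra R A] {n : ℕ}

/-- for a flat algebra the symmetric tensors are spanned by orbit sums -/
theorem mem_span_orbW [Module.Flat R A] (t : TP R A n) (ht : t ∈ SymTen.TS R A n) :
    t ∈ Submodule.span R {x : TP R A n | ∃ (L : Type u) (_ : Fintype L) (w : L → A)
        (f : Fin n → L), x = ∑ g : Fin n → L,
          if typ g = typ f then PiTensorProduct.tprod R (fun i => w (g i)) else 0} := by
  obtain ⟨m, v, t', ht'⟩ := KL.exists_rep (R := R) t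
  have htsym : ∀ σ : Equiv.Perm (Fin n),
      PiTensorProduct.reindex R (fun _ : Fin n => A) σ t = t :=
    (SymTen.mem_TS_iff R A n t).mp ht
  obtain ⟨k, a, y, h1, h2⟩ := KL.kl_fintype n m (Finsupp.linearCombination R v)
    (fun σ : Equiv.Perm (Fin n) =>
      PiTensorProduct.reindex R (fun _ : Fin n => (Fin m →₀ R)) σ t' - t')
    (fun σ => by
      show PiTensorProduct.map (fun _ : Fin n => Finsupp.linearCombination R v)
        (PiTensorProduct.reindex R (fun _ : Fin n => (Fin m →₀ R)) σ t' - t') = 0
      rw [map_sub, KL.map_reindex', ht', htsym σ, sub_self])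
  have hsym : ∀ σ : Equiv.Perm (Fin n),
      PiTensorProduct.reindex R (fun _ : Fin n => (Fin k →₀ R)) σ
        (PiTensorProduct.map (fun _ : Fin n => a) t') =
      PiTensorProduct.map (fun _ : Fin n => a) t' := by
    intro σ
    have h3 : PiTensorProduct.map (fun _ : Fin n => a)
        (PiTensorProduct.reindex R (fun _ : Fin n => (Fin m →₀ R)) σ t' - t') = 0 := h2 σ
    rw [map_sub, sub_eq_zero, KL.map_reindex'] at h3
    exact h3
  obtain ⟨ψ, hψ⟩ : ∃ ψ : (Fin k →₀ R) ≃ₗ[R] (Fin k → R),
      ψ = Finsupp.linearEquivFunOnFinite R R (Fin k) := ⟨_, rfl⟩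
  obtain ⟨b, hb⟩ : ∃ b : Module.Basis (ULift.{u} (Fin k)) R (Fin k → R),
      b = (Pi.basisFun R (Fin k)).reindex Equiv.ulift.symm := ⟨_, rfl⟩
  obtain ⟨tb, htb⟩ : ∃ tb : ⨂[R] _ : Fin n, (Fin k → R),
      tb = PiTensorProduct.map (fun _ : Fin n => ψ.toLinearMap)
        (PiTensorProduct.map (fun _ : Fin n => a) t') := ⟨_, rfl⟩
  have htbsym : tb ∈ SymTen.TS R (Fin k → R) n := by
    rw [SymTen.mem_TS_iff]
    intro σ
    rw [htb, ← KL.map_reindex', hsym σ]
  obtain ⟨Y, hY⟩ : ∃ Y : (⨂[R] _ : Fin n, (Fin k → R)) →ₗ[R] TP R A n,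
      Y = PiTensorProduct.map (fun _ : Fin n => y ∘ₗ ψ.symm.toLinearMap) := ⟨_, rfl⟩
  have hYtb : Y tb = t := by
    rw [hY, htb, KL.map_map', KL.map_map']
    have h4 : ((y ∘ₗ ψ.symm.toLinearMap) ∘ₗ ψ.toLinearMap) ∘ₗ a = y ∘ₗ a := by
      apply LinearMap.ext
      intro x
      show y (ψ.symm (ψ (a x))) = y (a x)
      rw [LinearEquiv.symm_apply_apply]
    rw [h4, ← h1, ht']
  have hspan := mem_span_orb b n tb htbsym
  rw [← hYtb]
  have hmap : Y tb ∈ Submodule.map Y (Submodule.span R (Set.range (orb b n))) :=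
    Submodule.mem_map_of_mem hspan
  rw [Submodule.map_span] at hmap
  refine Submodule.span_mono ?_ hmap
  rintro _ ⟨_, ⟨f, rfl⟩, rfl⟩
  refine ⟨ULift.{u} (Fin k), inferInstance, fun l => y (ψ.symm (b l)), f, ?_⟩
  rw [orb_eq, map_sum]
  refine Eq.trans ?_ (Finset.sum_subset (Finset.subset_univ ?s) ?_)
  · apply Finset.sum_congr rfl
    intro g _
    by_cases h : typ g = typ f
    · rw [if_pos h, if_pos h, eB_apply, hY, PiTensorProduct.map_tprod]
      rfl
    · rw [if_neg h, if_neg h, map_zero]
  · intro g _ hg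
    rw [if_neg]
    intro h
    exact hg (mem_piFinset_of_typ_eq f g h)

end StepA

/-- S14673: for a flat algebra the symmetric tensors are generated by the elementary symmetric
tensors -/
theorem main14673 (R : Type u) [CommRing R] (A : Type u) [CommRing A] [Algebra R A]
    [Module.Flat R A] (n : ℕ) :
    SymTen.TS R A n = Algebra.adjoin R {t : ⨂[R] _ : Fin n, A | ∃ (a : A) (j : ℕ),
      t = ∑ I ∈ (Finset.univ : Finset (Fin n)).powersetCard j,
        PiTensorProduct.tprod R (fun i : Fin n => if i ∈ I then a else (1 : A))} := by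
  apply le_antisymm
  · intro t ht
    have h1 := mem_span_orbW t ht
    have hle : Submodule.span R {x : TP R A n | ∃ (L : Type u) (_ : Fintype L) (w : L → A)
        (f : Fin n → L), x = ∑ g : Fin n → L,
          if typ g = typ f then PiTensorProduct.tprod R (fun i => w (g i)) else 0} ≤
        Subalgebra.toSubmodule (EE R A n) := by
      rw [Submodule.span_le]
      rintro _ ⟨L, hL, w, f, rfl⟩
      rw [← coeff_GG_typ]
      exact GG_mem n L w (typ f) (le_of_eq (degree_typ f))
    exact hle h1
  · apply Algebra.adjoin_le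
    rintro _ ⟨a, j, rfl⟩
    exact esym_mem_TS a j

end Groth.Agent.Helper22.ES
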