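import Mathlib

/-!
# Eilenberg–Watts: right exact coproduct-preserving functors between module categories are tensors
-/

set_option autoImplicit false
universe u
open CategoryTheory CategoryTheory.Limits TensorProduct

namespace Groth.Agent.Helper22.EW

section basics
variable {A : Type u} [CommRing A]

/-- multiplication by `a` on `A`. -/
noncomputable def mu (a : A) : ModuleCat.of A A ⟶ ModuleCat.of A A :=
  ModuleCat.ofHom (LinearMap.lsmul A A a)

/-- the map `A → M`, `1 ↦ m`. -/
noncomputable def rho {M : ModuleCat.{u} A} (m : M) : ModuleCat.of A A ⟶ M :=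
  ModuleCat.ofHom (LinearMap.toSpanSingleton A M m)

lemma mu_apply (a x : A) : (mu a).hom x = a * x := rfl

lemma rho_apply {M : ModuleCat.{u} A} (m : M) (x : A) : (rho m).hom x = x • m := rfl

lemma mu_one : mu (1 : A) = 𝟙 (ModuleCat.of A A) := by
  refine ModuleCat.hom_ext (LinearMap.ext fun x => ?_)
  show (1 : A) * x = x
  exact one_mul x

lemma mu_mul (a b : A) : mu (a * b) = mu b ≫ mu a := by
  refine ModuleCat.hom_ext (LinearMap.ext fun x => ?_)
  show a * b * x = a * (b * x)
  exact mul_assoc a b x

lemma mu_add (a b : A) : mu (a + b) = mu a + mu b := by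
  refine ModuleCat.hom_ext (LinearMap.ext fun x => ?_)
  show (a + b) * x = a * x + b * x
  exact add_mul a b x

lemma mu_zero : mu (0 : A) = 0 := by
  refine ModuleCat.hom_ext (LinearMap.ext fun x => ?_)
  show (0 : A) * x = 0
  exact zero_mul x

lemma rho_add {M : ModuleCat.{u} A} (m m' : M) : rho (m + m') = rho m + rho m' := by
  refine ModuleCat.hom_ext (LinearMap.ext fun x => ?_)
  show x • (m + m') = x • m + x • m'
  exact smul_add x m m'

lemma rho_zero {M : ModuleCat.{u} A} : rho (0 : M) = 0 := by
  refine ModuleCat.hom_ext (LinearMap.ext fun x => ?_)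
  show x • (0 : M) = 0
  exact smul_zero x

lemma mu_comp_rho {M : ModuleCat.{u} A} (a : A) (m : M) : mu a ≫ rho m = rho (a • m) := by
  refine ModuleCat.hom_ext (LinearMap.ext fun x => ?_)
  show (a * x) • m = x • a • m
  rw [mul_comm a x, mul_smul]

lemma rho_comp {M N : ModuleCat.{u} A} (m : M) (f : M ⟶ N) : rho m ≫ f = rho (f.hom m) := by
  refine ModuleCat.hom_ext (LinearMap.ext fun x => ?_)
  show f.hom (x • m) = x • f.hom m
  exact f.hom.map_smul x m

lemma rho_self (a : A) : rho (M := ModuleCat.of A A) a = mu a := by
  refine ModuleCat.hom_ext (LinearMap.ext fun x => ?_)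
  show x * a = a * x
  exact mul_comm x a

variable (A)

/-- free module on `J`. -/
noncomputable abbrev Fr (J : Type u) : ModuleCat.{u} A := ModuleCat.of A (J →₀ A)

/-- inclusion of a summand -/
noncomputable def inc (J : Type u) (j : J) : ModuleCat.of A A ⟶ Fr A J :=
  ModuleCat.ofHom (Finsupp.lsingle j)

/-- projection to a summand -/
noncomputable def prj (J : Type u) (j : J) : Fr A J ⟶ ModuleCat.of A A :=
  ModuleCat.ofHom (Finsupp.lapply j)

lemma rho_single (J : Type u) (j : J) :
    rho (M := Fr A J) (Finsupp.single j (1 : A)) = inc A J j := by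
  refine ModuleCat.hom_ext (LinearMap.ext fun x => ?_)
  show x • Finsupp.single j (1 : A) = Finsupp.single j x
  rw [Finsupp.smul_single, smul_eq_mul, mul_one]

/-- the free module is the coproduct of copies of `A`. -/
noncomputable def isColimitFr (J : Type u) :
    IsColimit (Cofan.mk (Fr A J) (inc A J)) :=
  Cofan.IsColimit.mk _
    (fun t => ModuleCat.ofHom (Finsupp.lsum A fun j => ((t.inj j).hom : A →ₗ[A] t.pt)))
    (fun t j => by
      refine ModuleCat.hom_ext (LinearMap.ext fun x => ?_)
      show Finsupp.lsum A (fun j => ((t.inj j).hom : A →ₗ[A] t.pt)) (Finsupp.single j x)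
        = (t.inj j).hom x
      rw [Finsupp.lsum_single])
    (fun t m hm => by
      refine ModuleCat.hom_ext (Finsupp.lhom_ext' fun j => LinearMap.ext fun x => ?_)
      have h := LinearMap.congr_fun (congrArg ModuleCat.Hom.hom (hm j)) x
      show m.hom (Finsupp.single j x)
        = Finsupp.lsum A (fun j => ((t.inj j).hom : A →ₗ[A] t.pt)) (Finsupp.single j x)
      rw [Finsupp.lsum_single]
      exact h)

/-- canonical presentation: the surjection from the free module on `M`. -/
noncomputable def piM (M : ModuleCat.{u} A) : Fr A (M : Type u) ⟶ M :=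
  ModuleCat.ofHom (Finsupp.linearCombination A (id : M → M))

lemma piM_surjective (M : ModuleCat.{u} A) : Function.Surjective (piM A M).hom :=
  Finsupp.linearCombination_id_surjective A M

/-- kernel of the canonical presentation -/
noncomputable abbrev NN (M : ModuleCat.{u} A) : Submodule A ((M : Type u) →₀ A) := LinearMap.ker (piM A M).hom

/-- second step of canonical presentation -/
noncomputable def dM (M : ModuleCat.{u} A) : Fr A (NN A M : Type u) ⟶ Fr A (M : Type u) :=
  ModuleCat.ofHom ((NN A M).subtype ∘ₗ Finsupp.linearCombination A (id : NN A M → NN A M))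

lemma dM_piM (M : ModuleCat.{u} A) : dM A M ≫ piM A M = 0 := by
  refine ModuleCat.hom_ext (LinearMap.ext fun x => ?_)
  show (piM A M).hom ((NN A M).subtype (Finsupp.linearCombination A (id : NN A M → NN A M) x)) = 0
  exact LinearMap.mem_ker.1 (Finsupp.linearCombination A (id : NN A M → NN A M) x).2

lemma exact_dM_piM (M : ModuleCat.{u} A) : Function.Exact (dM A M).hom (piM A M).hom := by
  intro y
  constructor
  · intro hy
    obtain ⟨x, hx⟩ := Finsupp.linearCombination_id_surjective A (NN A M)
      ⟨y, LinearMap.mem_ker.2 hy⟩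
    refine ⟨x, ?_⟩
    show (NN A M).subtype (Finsupp.linearCombination A (id : NN A M → NN A M) x) = y
    rw [hx]
    rfl
  · rintro ⟨x, rfl⟩
    exact LinearMap.congr_fun (congrArg ModuleCat.Hom.hom (dM_piM A M)) x

end basics

section functor
variable {A B : Type u} [CommRing A] [CommRing B] (F : ModuleCat.{u} A ⥤ ModuleCat.{u} B)

/-- the bimodule `F(A)` -/
def KK : Type u := F.obj (ModuleCat.of A A)

noncomputable instance instAddCommGroupKK : AddCommGroup (KK F) :=
  inferInstanceAs (AddCommGroup (F.obj (ModuleCat.of A A)))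

noncomputable instance instModuleBKK : Module B (KK F) :=
  inferInstanceAs (Module B (F.obj (ModuleCat.of A A)))

lemma additive_of_pfc [PreservesFiniteColimits F] : F.Additive := by
  have := preservesBinaryBiproducts_of_preservesBinaryCoproducts F
  exact Functor.additive_of_preservesBinaryBiproducts F

variable [F.Additive]

/-- the action of `A` on `F(A)` -/
noncomputable def phi : A →+* Module.End B (F.obj (ModuleCat.of A A)) where
  toFun a := (F.map (mu a)).hom
  map_one' := by
    show (F.map (mu (1 : A))).hom = 1
    rw [mu_one, F.map_id]; rfl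
  map_mul' a b := by
    show (F.map (mu (a * b))).hom = (F.map (mu a)).hom * (F.map (mu b)).hom
    rw [mu_mul, F.map_comp]; rfl
  map_zero' := by
    show (F.map (mu (0 : A))).hom = 0
    rw [mu_zero, F.map_zero]; rfl
  map_add' a b := by
    show (F.map (mu (a + b))).hom = (F.map (mu a)).hom + (F.map (mu b)).hom
    rw [mu_add, F.map_add]; rfl

noncomputable instance instModuleAKK : Module A (KK F) :=
  Module.compHom (F.obj (ModuleCat.of A A)) (phi F)

lemma smul_def (a : A) (k : KK F) : a • k = (F.map (mu a)).hom k := rfl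

instance instSMulCommClassKK : SMulCommClass A B (KK F) :=
  ⟨fun a b k => (F.map (mu a)).hom.map_smul b k⟩

/-- the comparison map as an additive map -/
noncomputable def thetaAdd (M : ModuleCat.{u} A) : KK F ⊗[A] M →+ F.obj M :=
  TensorProduct.liftAddHom
    { toFun := fun k : KK F =>
        { toFun := fun m : M => (F.map (rho m)).hom k
          map_zero' := by
            show (F.map (rho (0 : M))).hom k = 0
            rw [rho_zero, F.map_zero]; rfl
          map_add' := fun m m' => by
            show (F.map (rho (m + m'))).hom k = (F.map (rho m)).hom k + (F.map (rho m')).hom k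
            rw [rho_add, F.map_add]; rfl }
      map_zero' := by
        refine AddMonoidHom.ext fun m => ?_
        show (F.map (rho m)).hom (0 : F.obj (ModuleCat.of A A)) = 0
        exact map_zero _
      map_add' := fun k k' => by
        refine AddMonoidHom.ext fun m => ?_
        show (F.map (rho m)).hom ((k : F.obj (ModuleCat.of A A)) + k')
          = (F.map (rho m)).hom k + (F.map (rho m)).hom k'
        exact map_add _ _ _ }
    (fun a k m => by
      show (F.map (rho m)).hom (a • k) = (F.map (rho (a • m))).hom k
      rw [← mu_comp_rho a m, F.map_comp]; rfl)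

lemma thetaAdd_tmul (M : ModuleCat.{u} A) (k : KK F) (m : M) :
    thetaAdd F M (k ⊗ₜ[A] m) = (F.map (rho m)).hom k := rfl

/-- the comparison map `F(A) ⊗ M → F(M)` -/
noncomputable def theta (M : ModuleCat.{u} A) : KK F ⊗[A] M →ₗ[B] F.obj M where
  toFun := thetaAdd F M
  map_add' := (thetaAdd F M).map_add
  map_smul' b z := by
    show thetaAdd F M (b • z) = b • thetaAdd F M z
    induction z using TensorProduct.induction_on with
    | zero => simp only [smul_zero, map_zero]
    | tmul k m =>
      rw [TensorProduct.smul_tmul']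
      show (F.map (rho m)).hom (b • k) = b • (F.map (rho m)).hom k
      exact (F.map (rho m)).hom.map_smul b k
    | add x y hx hy => simp only [smul_add, map_add, hx, hy]

lemma theta_tmul (M : ModuleCat.{u} A) (k : KK F) (m : M) :
    theta F M (k ⊗ₜ[A] m) = (F.map (rho m)).hom k := rfl

lemma theta_natural {M N : ModuleCat.{u} A} (f : M ⟶ N) (x : KK F ⊗[A] M) :
    theta F N (LinearMap.lTensor (KK F) f.hom x) = (F.map f).hom (theta F M x) := by
  induction x using TensorProduct.induction_on with
  | zero => simp only [map_zero]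
  | tmul k m =>
    rw [LinearMap.lTensor_tmul, theta_tmul, theta_tmul, ← rho_comp m f, F.map_comp]
    rfl
  | add x y hx hy => simp only [map_add, hx, hy]

lemma theta_self_eq (z : KK F ⊗[A] (ModuleCat.of A A : ModuleCat.{u} A)) :
    theta F (ModuleCat.of A A) z = TensorProduct.rid A (KK F) z := by
  induction z using TensorProduct.induction_on with
  | zero => simp only [map_zero]; rfl
  | tmul k a =>
    have h1 : theta F (ModuleCat.of A A) (k ⊗ₜ[A] a) = (F.map (rho a)).hom k := rfl
    have h2 : TensorProduct.rid A (KK F) (k ⊗ₜ[A] a) = a • k := TensorProduct.rid_tmul k a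
    rw [h1, h2, rho_self]
    rfl
  | add x y hx hy => simp only [map_add, hx, hy]; rfl

lemma theta_self_zero (w : KK F ⊗[A] (ModuleCat.of A A : ModuleCat.{u} A))
    (hw : theta F (ModuleCat.of A A) w = 0) : w = 0 := by
  have h := theta_self_eq F w
  rw [hw] at h
  exact (LinearEquiv.map_eq_zero_iff (TensorProduct.rid A (KK F))).1 h.symm

lemma theta_free_injective (J : Type u) : Function.Injective (theta F (Fr A J)) := by
  classical
  refine (injective_iff_map_eq_zero (theta F (Fr A J))).2 fun z hz => ?_
  have key : ∀ i : J,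
      LinearMap.lTensor (KK F) (Finsupp.lapply i : (J →₀ A) →ₗ[A] A) z = 0 := by
    intro i
    have h1 := theta_natural F (prj A J i) z
    rw [hz, map_zero] at h1
    exact theta_self_zero F _ h1
  apply (TensorProduct.finsuppRight A A (KK F) A J).injective
  rw [map_zero]
  refine Finsupp.ext fun i => ?_
  rw [TensorProduct.finsuppRight_apply]
  exact key i

lemma eq_top_of_ranges_le (hsum : ∀ J : Type u, PreservesColimitsOfShape (Discrete J) F)
    (J : Type u) (S : Submodule B (F.obj (Fr A J)))
    (hS : ∀ j, LinearMap.range (F.map (inc A J j)).hom ≤ S) : S = ⊤ := by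
  haveI := hsum J
  have hc := isColimitOfPreserves F (isColimitFr A J)
  have h0 : (ModuleCat.ofHom S.mkQ : F.obj (Fr A J) ⟶ ModuleCat.of B (_ ⧸ S)) = 0 := by
    refine hc.hom_ext (fun j => ?_)
    obtain ⟨j⟩ := j
    rw [Limits.comp_zero]
    refine ModuleCat.hom_ext (LinearMap.ext fun x => ?_)
    show S.mkQ ((F.map (inc A J j)).hom x) = 0
    rw [Submodule.mkQ_apply, Submodule.Quotient.mk_eq_zero]
    exact hS j ⟨x, rfl⟩
  rw [eq_top_iff]
  intro y _
  have h1 : S.mkQ y = 0 := LinearMap.congr_fun (congrArg ModuleCat.Hom.hom h0) y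
  rwa [Submodule.mkQ_apply, Submodule.Quotient.mk_eq_zero] at h1

lemma theta_free_surjective (hsum : ∀ J : Type u, PreservesColimitsOfShape (Discrete J) F)
    (J : Type u) : Function.Surjective (theta F (Fr A J)) := by
  refine LinearMap.range_eq_top.1 (eq_top_of_ranges_le F hsum J _ fun j => ?_)
  rintro _ ⟨k, rfl⟩
  refine ⟨(k : KK F) ⊗ₜ[A] (Finsupp.single j (1 : A) : J →₀ A), ?_⟩
  rw [theta_tmul, rho_single]

variable [PreservesFiniteColimits F]

lemma F_exact (M : ModuleCat.{u} A) :
    Function.Exact (F.map (dM A M)).hom (F.map (piM A M)).hom := by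
  let S : ShortComplex (ModuleCat.{u} A) := ShortComplex.mk (dM A M) (piM A M) (dM_piM A M)
  have hS : S.Exact := ModuleCat.shortComplex_exact S (exact_dM_piM A M)
  have hepi : Epi S.g := (ModuleCat.epi_iff_surjective _).2 (piM_surjective A M)
  have hS' : (S.map F).Exact := hS.map_of_epi_of_preservesCokernel F hepi inferInstance
  exact (ShortComplex.ShortExact.moduleCat_exact_iff_function_exact (S.map F)).1 hS'

lemma F_pi_surjective (M : ModuleCat.{u} A) : Function.Surjective (F.map (piM A M)).hom := by
  haveI : Epi (piM A M) := (ModuleCat.epi_iff_surjective _).2 (piM_surjective A M)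
  have h : Epi (F.map (piM A M)) := inferInstance
  exact (ModuleCat.epi_iff_surjective _).1 h

lemma theta_surjective (hsum : ∀ J : Type u, PreservesColimitsOfShape (Discrete J) F)
    (M : ModuleCat.{u} A) : Function.Surjective (theta F M) := by
  intro y
  obtain ⟨y', hy'⟩ := F_pi_surjective F M y
  obtain ⟨z', hz'⟩ := theta_free_surjective F hsum (M : Type u) y'
  refine ⟨LinearMap.lTensor (KK F) (piM A M).hom z', ?_⟩
  rw [theta_natural, hz', hy']

lemma theta_injective (hsum : ∀ J : Type u, PreservesColimitsOfShape (Discrete J) F)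
    (M : ModuleCat.{u} A) : Function.Injective (theta F M) := by
  refine (injective_iff_map_eq_zero (theta F M)).2 fun z hz => ?_
  obtain ⟨z', rfl⟩ := LinearMap.lTensor_surjective (KK F) (piM_surjective A M) z
  have h1 : (F.map (piM A M)).hom (theta F (Fr A (M : Type u)) z') = 0 :=
    (theta_natural F (piM A M) z').symm.trans hz
  obtain ⟨y'', hy''⟩ := (F_exact F M _).1 h1
  obtain ⟨z'', hz''⟩ := theta_free_surjective F hsum (NN A M : Type u) y''
  have h2 : theta F (Fr A (M : Type u)) (LinearMap.lTensor (KK F) (dM A M).hom z'')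
      = theta F (Fr A (M : Type u)) z' :=
    (theta_natural F (dM A M) z'').trans (by rw [hz'', hy''])
  have h3 := theta_free_injective F (M : Type u) h2
  have h4 : (piM A M).hom ∘ₗ (dM A M).hom = 0 := congrArg ModuleCat.Hom.hom (dM_piM A M)
  rw [← h3, ← LinearMap.lTensor_comp_apply, h4, LinearMap.lTensor_zero, LinearMap.zero_apply]

end functor

theorem main (A B : Type u) [CommRing A] [CommRing B]
    (F : ModuleCat.{u} A ⥤ ModuleCat.{u} B) [PreservesFiniteColimits F]
    (hsum : ∀ J : Type u, PreservesColimitsOfShape (Discrete J) F) :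
    ∃ (K : Type u) (_ : AddCommGroup K) (_ : Module A K) (_ : Module B K) (_ : SMulCommClass A B K)
      (η : ∀ M : ModuleCat.{u} A, (K ⊗[A] M) ≃ₗ[B] F.obj M),
      ∀ (M N : ModuleCat.{u} A) (f : M ⟶ N) (x : K ⊗[A] M),
        η N (LinearMap.lTensor K f.hom x) = F.map f (η M x) := by
  haveI : F.Additive := additive_of_pfc F
  exact ⟨KK F, inferInstance, inferInstance, inferInstance, inferInstance,
    fun M => LinearEquiv.ofBijective (theta F M)
      ⟨theta_injective F hsum M, theta_surjective F hsum M⟩,
    fun M N f x => theta_natural F f x⟩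

end Groth.Agent.Helper22.EW
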