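import Mathlib
import Groth.Prelude.Def_EtRam
import Groth.Agent.Lib.Helper4.DVRDom

/-!
# Totally ramified Eisenstein extensions `X^q - π^n X - π` of a DVR (for S7157)

`totRam`: if `θ` is integral over the DVR `A`, generates the field `L` over `A` and satisfies
`θ^q = π + π^n θ`, then `A[θ]` is a DVR with uniformizer `θ`, it is the only valuation subring of `L`
dominating `A`, and its residue field is that of `A`.
`exists_ext`: the Eisenstein polynomial `X^q - π^n X - π` gives a separable extension of degree `q`.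
-/

set_option autoImplicit false

namespace Groth.Agent.Helper22.EisTot

universe u

open Polynomial

section totram

variable {A : Type u} [CommRing A] [IsDomain A] [IsDiscreteValuationRing A]
  {L : Type u} [Field L] [Algebra A L]

theorem pi_ne_zero (π : A) (hπ : IsLocalRing.maximalIdeal A = Ideal.span {π}) : π ≠ 0 := by
  intro h0
  apply IsDiscreteValuationRing.not_a_field A
  rw [hπ, h0, Ideal.span_singleton_eq_bot]

set_option maxHeartbeats 1600000 in
theorem totRam_aux (π : A) (hπ : IsLocalRing.maximalIdeal A = Ideal.span {π}) (n' q' : ℕ)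
    (hinj : Function.Injective (algebraMap A L)) (θ : L)
    (hθ : θ ^ (q' + 1) = algebraMap A L π + algebraMap A L π ^ (n' + 1) * θ)
    (B : Subalgebra A L) (hfr : IsFractionRing B L) (hN : IsNoetherianRing B)
    (hint : Algebra.IsIntegral A B) (hBint : ∀ x ∈ B, IsIntegral A x) (hmem : θ ∈ B)
    (hdecomp : ∀ x ∈ B, ∃ a : A, ∃ c ∈ B, x = algebraMap A L a + θ * c)
    (hle : ∀ V : ValuationSubring L, (∀ a : A, algebraMap A L a ∈ V) → θ ∈ V → ∀ x ∈ B, x ∈ V) :
    EtRam.IsTotallyRamified A (algebraMap A L) ∧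
      ∃ b' : L, b' ∈ integralClosure A L ∧
        θ ^ (q' + 1) = algebraMap A L π + θ ^ ((n' + 1) * (q' + 1)) * b' := by
  haveI := hfr
  haveI := hN
  haveI := hint
  have hπmemA : π ∈ IsLocalRing.maximalIdeal A := by
    rw [hπ]; exact Ideal.mem_span_singleton_self π
  have hπ0 : π ≠ 0 := pi_ne_zero π hπ
  have hθ0 : θ ≠ 0 := by
    intro h0
    rw [h0, zero_pow (show q' + 1 ≠ 0 by omega), mul_zero, add_zero] at hθ
    exact hπ0 (hinj (by rw [← hθ, map_zero]))
  obtain ⟨θB, hθB⟩ : ∃ t : B, (t : L) = θ := ⟨⟨θ, hmem⟩, rfl⟩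
  obtain ⟨πB, hπB, hπB'⟩ : ∃ t : B, (t : L) = algebraMap A L π ∧ t = algebraMap A B π :=
    ⟨algebraMap A B π, rfl, rfl⟩
  have hθB0 : θB ≠ 0 := by
    intro h0
    apply hθ0
    rw [← hθB, h0]
    rfl
  have hrel : θB ^ (q' + 1) = πB + πB ^ (n' + 1) * θB := by
    apply Subtype.ext
    simp only [Subalgebra.coe_add, Subalgebra.coe_mul, Subalgebra.coe_pow, hθB, hπB]
    exact hθ
  have H1 : ∀ x : B, ∃ a : A, ∃ c : B, x = algebraMap A B a + θB * c := by
    intro x
    obtain ⟨a, c, hc, hx⟩ := hdecomp x x.2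
    refine ⟨a, ⟨c, hc⟩, Subtype.ext ?_⟩
    simp only [Subalgebra.coe_add, Subalgebra.coe_mul, Subalgebra.coe_algebraMap, hθB]
    exact hx
  have hπmem : πB ∈ (Ideal.span {θB} : Ideal B) := by
    rw [Ideal.mem_span_singleton]
    exact ⟨θB ^ q' - πB ^ (n' + 1), by linear_combination (-1 : B) * hrel⟩
  have hAmax : ∀ a ∈ IsLocalRing.maximalIdeal A,
      algebraMap A B a ∈ (Ideal.span {θB} : Ideal B) := by
    intro a ha
    rw [hπ, Ideal.mem_span_singleton'] at ha
    obtain ⟨a', rfl⟩ := ha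
    rw [map_mul, ← hπB']
    exact Ideal.mul_mem_left _ _ hπmem
  have hmaxθ : ∀ 𝔫 : Ideal B, 𝔫.IsMaximal → θB ∈ 𝔫 := by
    intro 𝔫 h𝔫
    haveI := h𝔫
    have h1 : (𝔫.comap (algebraMap A B)).IsMaximal :=
      Ideal.isMaximal_comap_of_isIntegral_of_isMaximal 𝔫
    have h2 : 𝔫.comap (algebraMap A B) = IsLocalRing.maximalIdeal A :=
      IsLocalRing.eq_maximalIdeal h1
    have h3 : π ∈ 𝔫.comap (algebraMap A B) := by rw [h2]; exact hπmemA
    have h4 : πB ∈ 𝔫 := by rw [hπB']; exact h3
    have h5 : θB ^ (q' + 1) ∈ 𝔫 := by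
      rw [hrel]
      exact Ideal.add_mem _ h4
        (Ideal.mul_mem_right _ _ (Ideal.pow_mem_of_mem _ h4 _ (Nat.succ_pos n')))
    exact h𝔫.isPrime.mem_of_pow_mem _ h5
  have hspanmax : (Ideal.span {θB} : Ideal B).IsMaximal := by
    rw [Ideal.isMaximal_iff]
    refine ⟨?_, ?_⟩
    · intro h1
      obtain ⟨𝔫, h𝔫⟩ := Ideal.exists_maximal B
      have hle' : (Ideal.span {θB} : Ideal B) ≤ 𝔫 :=
        (Ideal.span_singleton_le_iff_mem 𝔫).mpr (hmaxθ 𝔫 h𝔫)
      exact (Ideal.ne_top_iff_one 𝔫).mp h𝔫.ne_top (hle' h1)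
    · intro J x hJ hx hxJ
      obtain ⟨a, c, hxac⟩ := H1 x
      have ha : a ∉ IsLocalRing.maximalIdeal A := by
        intro ha
        apply hx
        rw [hxac]
        exact Ideal.add_mem _ (hAmax a ha)
          (Ideal.mul_mem_right _ _ (Ideal.mem_span_singleton_self θB))
      have hau : IsUnit a := IsLocalRing.notMem_maximalIdeal.mp ha
      have hθJ : θB ∈ J := hJ (Ideal.mem_span_singleton_self θB)
      have haJ : algebraMap A B a ∈ J := by
        have e : algebraMap A B a = x - θB * c := by rw [hxac]; ring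
        rw [e]
        exact Ideal.sub_mem _ hxJ (Ideal.mul_mem_right _ _ hθJ)
      have hJtop := Ideal.eq_top_of_isUnit_mem J haJ (hau.map (algebraMap A B))
      rw [hJtop]
      exact Submodule.mem_top
  have hloc : IsLocalRing B :=
    IsLocalRing.of_unique_max_ideal (ExistsUnique.intro (Ideal.span {θB}) hspanmax fun 𝔫 h𝔫 =>
      (hspanmax.eq_of_le h𝔫.ne_top
        ((Ideal.span_singleton_le_iff_mem 𝔫).mpr (hmaxθ 𝔫 h𝔫))).symm)
  haveI := hloc
  have hmB : IsLocalRing.maximalIdeal B = Ideal.span {θB} :=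
    (IsLocalRing.eq_maximalIdeal hspanmax).symm
  have hθmax : θB ∈ IsLocalRing.maximalIdeal B := by
    rw [hmB]; exact Ideal.mem_span_singleton_self θB
  have hnf : ¬ IsField B := by
    rw [IsLocalRing.isField_iff_maximalIdeal_eq, hmB, Ideal.span_singleton_eq_bot]
    exact hθB0
  haveI hVR : ValuationRing B :=
    ((IsDiscreteValuationRing.TFAE B hnf).out 1 4).mpr
      (show Submodule.IsPrincipal (IsLocalRing.maximalIdeal B) from ⟨⟨θB, hmB⟩⟩)
  obtain ⟨VB, hVB⟩ : ∃ VB : ValuationSubring L, ∀ x : L, x ∈ VB ↔ x ∈ B := by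
    refine ⟨{ B.toSubring with
      mem_or_inv_mem' := ?_ }, fun x => Iff.rfl⟩
    intro x
    rcases ValuationRing.isInteger_or_isInteger B x with ⟨y, hy⟩ | ⟨y, hy⟩
    · left
      have hy' : (y : L) = x := hy
      rw [← hy']
      exact y.2
    · right
      have hy' : (y : L) = x⁻¹ := hy
      rw [← hy']
      exact y.2
  have H2 : ∀ y : B, y ∈ IsLocalRing.maximalIdeal B → VB.valuation (y : L) < 1 := by
    intro y hy
    have hyV : (y : L) ∈ VB := (hVB _).mpr y.2
    refine (VB.valuation_lt_one_iff ⟨(y : L), hyV⟩).mp ?_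
    rw [IsLocalRing.mem_maximalIdeal, mem_nonunits_iff] at hy ⊢
    intro hu
    apply hy
    obtain ⟨z, hz⟩ := isUnit_iff_exists_inv.mp hu
    have hzB : (z : L) ∈ B := (hVB _).mp z.2
    have h1 : (y : L) * (z : L) = 1 := congrArg Subtype.val hz
    exact isUnit_iff_exists_inv.mpr ⟨⟨(z : L), hzB⟩, Subtype.ext h1⟩
  have hdom : EtRam.Dominates A (algebraMap A L) VB := by
    unfold EtRam.Dominates
    refine ⟨fun a => (hVB _).mpr (B.algebraMap_mem a), fun a ha => ?_⟩
    have h := H2 (algebraMap A B a) (by rw [hmB]; exact hAmax a ha)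
    rwa [Subalgebra.coe_algebraMap] at h
  have hUniq : ∀ V : ValuationSubring L, EtRam.Dominates A (algebraMap A L) V → V = VB := by
    intro V hV
    obtain ⟨hV1, hV2⟩ := hV
    have hπV : (⟨algebraMap A L π, hV1 π⟩ : V) ∈ IsLocalRing.maximalIdeal V :=
      (V.valuation_lt_one_iff ⟨_, hV1 π⟩).mpr (hV2 π hπmemA)
    have hne1 : (1 : V) ∉ IsLocalRing.maximalIdeal V :=
      (Ideal.ne_top_iff_one _).mp (IsLocalRing.maximalIdeal.isMaximal V).ne_top
    have hθV : θ ∈ V := by
      by_contra hθV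
      have hz : θ⁻¹ ∈ V := (V.mem_or_inv_mem θ).resolve_left hθV
      have h1 : θ ^ (q' + 1) * θ⁻¹ ^ (q' + 1) = 1 := by
        rw [← mul_pow, mul_inv_cancel₀ hθ0, one_pow]
      have h2 : θ * θ⁻¹ ^ (q' + 1) = θ⁻¹ ^ q' := by
        rw [pow_succ', ← mul_assoc, mul_inv_cancel₀ hθ0, one_mul]
      have hid : (1 : L) = algebraMap A L π * θ⁻¹ ^ (q' + 1) +
          algebraMap A L π ^ (n' + 1) * θ⁻¹ ^ q' := by
        calc (1 : L) = θ ^ (q' + 1) * θ⁻¹ ^ (q' + 1) := h1.symm
          _ = (algebraMap A L π + algebraMap A L π ^ (n' + 1) * θ) * θ⁻¹ ^ (q' + 1) := by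
              rw [hθ]
          _ = algebraMap A L π * θ⁻¹ ^ (q' + 1) +
              algebraMap A L π ^ (n' + 1) * (θ * θ⁻¹ ^ (q' + 1)) := by ring
          _ = _ := by rw [h2]
      apply hne1
      have e : (1 : V) = ⟨algebraMap A L π, hV1 π⟩ * ⟨θ⁻¹, hz⟩ ^ (q' + 1) +
          ⟨algebraMap A L π, hV1 π⟩ ^ (n' + 1) * ⟨θ⁻¹, hz⟩ ^ q' := by
        apply Subtype.ext
        push_cast
        exact hid
      rw [e]
      exact Ideal.add_mem _ (Ideal.mul_mem_right _ _ hπV)
        (Ideal.mul_mem_right _ _ (Ideal.pow_mem_of_mem _ hπV _ (Nat.succ_pos n')))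
    have hBV : ∀ x ∈ B, x ∈ V := hle V hV1 hθV
    have hθVmax : (⟨θ, hθV⟩ : V) ∈ IsLocalRing.maximalIdeal V := by
      have h5 : (⟨θ, hθV⟩ : V) ^ (q' + 1) ∈ IsLocalRing.maximalIdeal V := by
        have e : (⟨θ, hθV⟩ : V) ^ (q' + 1) = ⟨algebraMap A L π, hV1 π⟩ +
            ⟨algebraMap A L π, hV1 π⟩ ^ (n' + 1) * ⟨θ, hθV⟩ := by
          apply Subtype.ext
          push_cast
          exact hθ
        rw [e]
        exact Ideal.add_mem _ hπV
          (Ideal.mul_mem_right _ _ (Ideal.pow_mem_of_mem _ hπV _ (Nat.succ_pos n')))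
      exact (IsLocalRing.maximalIdeal.isMaximal V).isPrime.mem_of_pow_mem _ h5
    have hVsubB : ∀ x ∈ V, x ∈ B := by
      intro x hxV
      by_contra hxB
      have hx0 : x ≠ 0 := by
        intro h0
        exact hxB (by rw [h0]; exact B.zero_mem)
      rcases ValuationRing.isInteger_or_isInteger B x with ⟨y, hy⟩ | ⟨y, hy⟩
      · have hy' : (y : L) = x := hy
        exact hxB (by rw [← hy']; exact y.2)
      · have hy' : (y : L) = x⁻¹ := hy
        have hymax : y ∈ IsLocalRing.maximalIdeal B := by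
          rw [IsLocalRing.mem_maximalIdeal, mem_nonunits_iff]
          intro hu
          obtain ⟨z, hz⟩ := isUnit_iff_exists_inv.mp hu
          have hz' : (y : L) * (z : L) = 1 := congrArg Subtype.val hz
          apply hxB
          have hxz : x = (z : L) := by
            calc x = x * 1 := (mul_one x).symm
              _ = x * (x⁻¹ * (z : L)) := by rw [← hy', hz']
              _ = (z : L) := by rw [← mul_assoc, mul_inv_cancel₀ hx0, one_mul]
          rw [hxz]
          exact z.2
        rw [hmB, Ideal.mem_span_singleton] at hymax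
        obtain ⟨c, hc⟩ := hymax
        have hcL : x⁻¹ = θ * (c : L) := by
          rw [← hy', hc, Subalgebra.coe_mul, hθB]
        apply hne1
        have e : (1 : V) = ⟨θ, hθV⟩ * (⟨x, hxV⟩ * ⟨(c : L), hBV _ c.2⟩) := by
          apply Subtype.ext
          show (1 : L) = θ * (x * (c : L))
          rw [mul_left_comm, ← hcL, mul_inv_cancel₀ hx0]
        rw [e]
        exact Ideal.mul_mem_right _ _ hθVmax
    exact ValuationSubring.ext V VB fun x =>
      ⟨fun hx => (hVB x).mpr (hVsubB x hx), fun hx => hBV x ((hVB x).mp hx)⟩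
  have hres : ∀ (V : ValuationSubring L) (h : EtRam.Dominates A (algebraMap A L) V),
      Function.Surjective (fun a : A =>
        IsLocalRing.residue V (RingHom.codRestrict (algebraMap A L) V h.1 a)) := by
    intro V h
    have hV : V = VB := hUniq V h
    have hVB' : ∀ x : L, x ∈ V ↔ x ∈ B := by rw [hV]; exact hVB
    have H2' : ∀ y : B, y ∈ IsLocalRing.maximalIdeal B → V.valuation (y : L) < 1 := by
      rw [hV]; exact H2
    intro r
    obtain ⟨x, rfl⟩ := IsLocalRing.residue_surjective r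
    obtain ⟨a, c, hc, hx⟩ := hdecomp (x : L) ((hVB' _).mp x.2)
    refine ⟨a, ?_⟩
    show IsLocalRing.residue V (RingHom.codRestrict (algebraMap A L) V h.1 a) =
      IsLocalRing.residue V x
    rw [← sub_eq_zero, ← map_sub, IsLocalRing.residue_eq_zero_iff]
    refine (V.valuation_lt_one_iff _).mpr ?_
    have e : ((RingHom.codRestrict (algebraMap A L) V h.1 a - x : V) : L) = -(θ * c) := by
      have e0 : ((RingHom.codRestrict (algebraMap A L) V h.1 a - x : V) : L) =
          algebraMap A L a - (x : L) := rfl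
      rw [e0, hx]
      ring
    rw [e, Valuation.map_neg]
    have h2 := H2' (θB * ⟨c, hc⟩) (Ideal.mul_mem_right _ _ hθmax)
    rwa [Subalgebra.coe_mul, hθB] at h2
  have hu : IsUnit (1 + πB ^ n' * θB) := by
    rw [← IsLocalRing.notMem_maximalIdeal]
    intro hmem'
    have h1 : (1 : B) ∈ IsLocalRing.maximalIdeal B := by
      have h := Ideal.sub_mem _ hmem' (Ideal.mul_mem_left _ (πB ^ n') hθmax)
      rwa [add_sub_cancel_right] at h
    exact (Ideal.ne_top_iff_one _).mp (IsLocalRing.maximalIdeal.isMaximal B).ne_top h1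
  obtain ⟨w, hw⟩ := isUnit_iff_exists_inv.mp hu
  have hπw : πB = θB ^ (q' + 1) * w := by
    linear_combination (-w) * hrel + (-πB) * hw
  have hpow : πB ^ (n' + 1) = θB ^ ((n' + 1) * (q' + 1)) * w ^ (n' + 1) := by
    rw [hπw, mul_pow, ← pow_mul, mul_comm (q' + 1)]
  have hfinalB : θB ^ (q' + 1) =
      πB + θB ^ ((n' + 1) * (q' + 1)) * (w ^ (n' + 1) * θB) := by
    calc θB ^ (q' + 1) = πB + πB ^ (n' + 1) * θB := hrel
      _ = πB + θB ^ ((n' + 1) * (q' + 1)) * (w ^ (n' + 1) * θB) := by rw [hpow]; ring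
  refine ⟨?_, (w : L) ^ (n' + 1) * θ, hBint _ (B.mul_mem (B.pow_mem w.2 _) hmem), ?_⟩
  · unfold EtRam.IsTotallyRamified
    exact ⟨⟨VB, hdom⟩, fun V V' hV hV' => (hUniq V hV).trans (hUniq V' hV').symm, hres⟩
  · have h := congrArg (fun x : B => (x : L)) hfinalB
    simp only [Subalgebra.coe_add, Subalgebra.coe_mul, Subalgebra.coe_pow, hθB, hπB] at h
    exact h

theorem totRam (π : A) (hπ : IsLocalRing.maximalIdeal A = Ideal.span {π}) (n q : ℕ) (hn : 1 ≤ n)
    (hq : 0 < q) (hinj : Function.Injective (algebraMap A L)) (θ : L) (hθint : IsIntegral A θ)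
    (hθ : θ ^ q = algebraMap A L π + algebraMap A L π ^ n * θ)
    (hgen : Subfield.closure (Set.range (algebraMap A L) ∪ {θ}) = ⊤) :
    EtRam.IsTotallyRamified A (algebraMap A L) ∧
      ∃ b' : L, b' ∈ integralClosure A L ∧ θ ^ q = algebraMap A L π + θ ^ (n * q) * b' := by
  obtain ⟨n', rfl⟩ : ∃ n', n = n' + 1 := ⟨n - 1, by omega⟩
  obtain ⟨q', rfl⟩ : ∃ q', q = q' + 1 := ⟨q - 1, by omega⟩
  have hfr : IsFractionRing (Algebra.adjoin A ({θ} : Set L)) L :=
    Groth.Agent.Helper4.DVRDom.isFractionRing_adjoin A hinj {θ} hgen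
  have hN : IsNoetherianRing (Algebra.adjoin A ({θ} : Set L)) := by
    have h := Groth.Agent.Helper4.DVRDom.isNoetherianRing_adjoin A ({θ} : Finset L)
    rwa [Finset.coe_singleton] at h
  have hint : Algebra.IsIntegral A (Algebra.adjoin A ({θ} : Set L)) :=
    Algebra.IsIntegral.adjoin (fun x hx => by
      rw [Set.mem_singleton_iff] at hx; rw [hx]; exact hθint)
  have hBint : ∀ x ∈ Algebra.adjoin A ({θ} : Set L), IsIntegral A x := by
    intro x hx
    have hle : Algebra.adjoin A ({θ} : Set L) ≤ integralClosure A L :=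
      Algebra.adjoin_le (Set.singleton_subset_iff.mpr hθint)
    exact hle hx
  have hdecomp : ∀ x ∈ Algebra.adjoin A ({θ} : Set L), ∃ a : A,
      ∃ c ∈ Algebra.adjoin A ({θ} : Set L), x = algebraMap A L a + θ * c := by
    intro x hx
    rw [Algebra.adjoin_singleton_eq_range_aeval] at hx
    obtain ⟨P, rfl⟩ := (AlgHom.mem_range _).mp hx
    refine ⟨P.coeff 0, Polynomial.aeval θ P.divX, Polynomial.aeval_mem_adjoin_singleton A θ, ?_⟩
    have h := congrArg (Polynomial.aeval θ) (Polynomial.divX_mul_X_add P)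
    simp only [map_add, map_mul, Polynomial.aeval_X, Polynomial.aeval_C] at h
    rw [← h]
    ring
  have hle : ∀ V : ValuationSubring L, (∀ a : A, algebraMap A L a ∈ V) → θ ∈ V →
      ∀ x ∈ Algebra.adjoin A ({θ} : Set L), x ∈ V := by
    intro V hV1 hθV
    exact Groth.Agent.Helper4.DVRDom.adjoin_le_valuationSubring A V hV1 {θ}
      (fun g hg => by rw [Set.mem_singleton_iff] at hg; rw [hg]; exact hθV)
  exact totRam_aux π hπ n' q' hinj θ hθ _ hfr hN hint hBint
    (Algebra.self_mem_adjoin_singleton A θ) hdecomp hle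

end totram

section eis

variable {A : Type u} [CommRing A] [IsDomain A] [IsDiscreteValuationRing A]

/-- The Eisenstein polynomial `X^q - π^n X - π`. -/
noncomputable def eisPoly (π : A) (n q : ℕ) : A[X] := X ^ q - (C (π ^ n) * X + C π)

theorem eisPoly_monic (π : A) (n q : ℕ) (hq : 2 ≤ q) : (eisPoly π n q).Monic := by
  unfold eisPoly
  apply Polynomial.monic_X_pow_sub
  exact lt_of_le_of_lt Polynomial.degree_linear_le (by exact_mod_cast (by omega : 1 < q))

theorem eisPoly_natDegree (π : A) (n q : ℕ) (hq : 2 ≤ q) : (eisPoly π n q).natDegree = q := by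
  unfold eisPoly
  have h : (C (π ^ n) * X + C π : A[X]).natDegree < (X ^ q : A[X]).natDegree := by
    rw [Polynomial.natDegree_X_pow]
    exact lt_of_le_of_lt Polynomial.natDegree_linear_le (by omega)
  rw [Polynomial.natDegree_sub_eq_left_of_natDegree_lt h, Polynomial.natDegree_X_pow]

theorem eisPoly_coeff_zero (π : A) (n q : ℕ) (hq : 2 ≤ q) : (eisPoly π n q).coeff 0 = -π := by
  unfold eisPoly
  rw [coeff_sub, coeff_add, coeff_X_pow, if_neg (show ¬ (0 = q) by omega), coeff_C_mul,
    coeff_X_zero, coeff_C_zero, mul_zero, zero_add, zero_sub]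

theorem eisPoly_coeff_one (π : A) (n q : ℕ) (hq : 2 ≤ q) :
    (eisPoly π n q).coeff 1 = -(π ^ n) := by
  unfold eisPoly
  rw [coeff_sub, coeff_add, coeff_X_pow, if_neg (show ¬ (1 = q) by omega), coeff_C_mul,
    coeff_X_one, coeff_C, if_neg one_ne_zero, mul_one, add_zero, zero_sub]

theorem eisPoly_coeff_mem (π : A) (n q : ℕ) (hn : 1 ≤ n) (I : Ideal A) (hπI : π ∈ I) (i : ℕ)
    (hi : i < q) : (eisPoly π n q).coeff i ∈ I := by
  unfold eisPoly
  rw [coeff_sub, coeff_add, coeff_X_pow, if_neg (show ¬ (i = q) by omega), coeff_C_mul, zero_sub]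
  refine neg_mem (I.add_mem (I.mul_mem_right _ (I.pow_mem_of_mem hπI n (by omega))) ?_)
  rw [coeff_C]
  split_ifs
  · exact hπI
  · exact I.zero_mem

theorem eisPoly_eis (π : A) (hπ : IsLocalRing.maximalIdeal A = Ideal.span {π}) (n q : ℕ)
    (hn : 1 ≤ n) (hq : 2 ≤ q) :
    (eisPoly π n q).IsEisensteinAt (IsLocalRing.maximalIdeal A) := by
  have hπmem : π ∈ IsLocalRing.maximalIdeal A := by
    rw [hπ]; exact Ideal.mem_span_singleton_self π
  have hπ0 : π ≠ 0 := pi_ne_zero π hπ
  refine ⟨?_, ?_, ?_⟩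
  · rw [(eisPoly_monic π n q hq).leadingCoeff]
    exact (Ideal.ne_top_iff_one _).mp (IsLocalRing.maximalIdeal.isMaximal A).ne_top
  · intro i hi
    rw [eisPoly_natDegree π n q hq] at hi
    exact eisPoly_coeff_mem π n q hn _ hπmem i hi
  · rw [eisPoly_coeff_zero π n q hq, hπ, Ideal.span_singleton_pow, Ideal.mem_span_singleton,
      dvd_neg]
    intro hdvd
    have h1 : π ∣ 1 := by
      have h2 : π * π ∣ π * 1 := by rw [mul_one, ← pow_two]; exact hdvd
      exact (mul_dvd_mul_iff_left hπ0).mp h2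
    have hu : IsUnit π := isUnit_of_dvd_one h1
    exact mem_nonunits_iff.mp ((IsLocalRing.mem_maximalIdeal π).mp hπmem) hu

end eis

theorem exists_ext (A K : Type u) [CommRing A] [IsDomain A] [IsDiscreteValuationRing A] [Field K]
    [Algebra A K] [IsFractionRing A K]
    (π : A) (hπ : IsLocalRing.maximalIdeal A = Ideal.span {π}) (n : ℕ) (hn : 1 ≤ n) (q : ℕ)
    (hq : 2 ≤ q) :
    ∃ (L : Type u) (_ : Field L) (_ : Algebra K L) (_ : Algebra A L) (_ : IsScalarTower A K L),
      Module.finrank K L = q ∧ Algebra.IsSeparable K L ∧ ∃ θ : L, IsIntegral A θ ∧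
        θ ^ q = algebraMap A L π + algebraMap A L π ^ n * θ ∧
        Subfield.closure (Set.range (algebraMap A L) ∪ {θ}) = ⊤ ∧
        Function.Injective (algebraMap A L) := by
  have hπ0 : π ≠ 0 := pi_ne_zero π hπ
  have hmonic := eisPoly_monic π n q hq
  have hnd := eisPoly_natDegree π n q hq
  have hirr : Irreducible (eisPoly π n q) :=
    (eisPoly_eis π hπ n q hn hq).irreducible (IsLocalRing.maximalIdeal.isMaximal A).isPrime
      hmonic.isPrimitive (by rw [hnd]; omega)
  have hgirr : Irreducible ((eisPoly π n q).map (algebraMap A K)) :=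
    (hmonic.irreducible_iff_irreducible_map_fraction_map (K := K)).mp hirr
  obtain ⟨g, hg⟩ : ∃ g : K[X], g = (eisPoly π n q).map (algebraMap A K) := ⟨_, rfl⟩
  rw [← hg] at hgirr
  haveI : Fact (Irreducible g) := ⟨hgirr⟩
  have hg0 : g ≠ 0 := hgirr.ne_zero
  have hgnd : g.natDegree = q := by rw [hg, hmonic.natDegree_map, hnd]
  have hrootK : Polynomial.aeval (AdjoinRoot.root g) g = 0 := by
    rw [AdjoinRoot.aeval_eq, AdjoinRoot.mk_self]
  have hrootA : Polynomial.aeval (AdjoinRoot.root g) (eisPoly π n q) = 0 := by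
    rw [← Polynomial.aeval_map_algebraMap K, ← hg]
    exact hrootK
  have hθ : (AdjoinRoot.root g) ^ q = algebraMap A (AdjoinRoot g) π +
      algebraMap A (AdjoinRoot g) π ^ n * AdjoinRoot.root g := by
    have h := hrootA
    unfold eisPoly at h
    simp only [map_sub, map_add, map_mul, map_pow, Polynomial.aeval_X, Polynomial.aeval_C] at h
    linear_combination h
  have hgsep : g.Separable := by
    rw [Polynomial.separable_iff_derivative_ne_zero hgirr]
    intro h0
    have h1 := congrArg (fun P => Polynomial.coeff P 0) h0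
    simp only [Polynomial.coeff_derivative, Polynomial.coeff_zero, hg, Polynomial.coeff_map,
      zero_add, eisPoly_coeff_one π n q hq, Nat.cast_zero, mul_one, map_neg, neg_eq_zero,
      map_pow] at h1
    have h2 : algebraMap A K π = 0 := (pow_eq_zero_iff (by omega : n ≠ 0)).mp h1
    exact hπ0 ((IsFractionRing.injective A K) (by rw [h2, map_zero]))
  have hK : ∀ c : K, algebraMap K (AdjoinRoot g) c ∈
      Subfield.closure (Set.range (algebraMap A (AdjoinRoot g)) ∪ {AdjoinRoot.root g}) := by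
    intro c
    obtain ⟨a, b, _, rfl⟩ := IsFractionRing.div_surjective A c
    simp only [map_div₀, ← IsScalarTower.algebraMap_apply A K (AdjoinRoot g)]
    exact Subfield.div_mem _ (Subfield.subset_closure (Or.inl ⟨a, rfl⟩))
      (Subfield.subset_closure (Or.inl ⟨b, rfl⟩))
  refine ⟨AdjoinRoot g, inferInstance, inferInstance, inferInstance, inferInstance, ?_, ?_,
    AdjoinRoot.root g, ⟨eisPoly π n q, hmonic, ?_⟩, hθ, ?_, ?_⟩
  · rw [(AdjoinRoot.powerBasis hg0).finrank, AdjoinRoot.powerBasis_dim, hgnd]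
  · have hsepθ : IsSeparable K (AdjoinRoot.root g) := by
      unfold IsSeparable
      exact hgsep.of_dvd (minpoly.dvd K _ hrootK)
    rw [← separableClosure.eq_top_iff, eq_top_iff, ← IntermediateField.adjoin_root_eq_top g,
      IntermediateField.adjoin_simple_le_iff, mem_separableClosure_iff]
    exact hsepθ
  · rw [← Polynomial.aeval_def]
    exact hrootA
  · rw [eq_top_iff]
    intro x _
    obtain ⟨P, rfl⟩ := AdjoinRoot.mk_surjective x
    rw [← AdjoinRoot.aeval_eq, Polynomial.aeval_eq_sum_range]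
    refine sum_mem fun i _ => ?_
    rw [Algebra.smul_def]
    have hroot_mem : AdjoinRoot.root g ∈ Subfield.closure
        (Set.range (algebraMap A (AdjoinRoot g)) ∪ {AdjoinRoot.root g}) :=
      Subfield.subset_closure (Set.mem_union_right _ (Set.mem_singleton _))
    exact Subfield.mul_mem _ (hK _) (pow_mem hroot_mem i)
  · rw [IsScalarTower.algebraMap_eq A K (AdjoinRoot g), RingHom.coe_comp]
    exact (algebraMap K (AdjoinRoot g)).injective.comp (IsFractionRing.injective A K)

theorem main (p : ℕ) (hp : p.Prime) (A K : Type u)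
    [CommRing A] [IsDomain A] [IsDiscreteValuationRing A] [Field K] [Algebra A K]
    [IsFractionRing A K]
    (π : A) (hπ : IsLocalRing.maximalIdeal A = Ideal.span {π})
    (n : ℕ) (hn : 1 < n) (k : ℕ) :
    ∃ (L : Type u) (_ : Field L) (_ : Algebra K L) (_ : Algebra A L) (_ : IsScalarTower A K L),
      Module.finrank K L = p ^ k ∧ Algebra.IsSeparable K L ∧
      EtRam.IsTotallyRamified A (algebraMap A L) ∧
      ∃ πB b b' : L, πB ∈ integralClosure A L ∧ b ∈ integralClosure A L ∧
        b' ∈ integralClosure A L ∧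
        πB ^ (p ^ k) = algebraMap A L π + algebraMap A L π ^ n * b ∧
        πB ^ (p ^ k) = algebraMap A L π + πB ^ (n * p ^ k) * b' := by
  have hπmem : π ∈ IsLocalRing.maximalIdeal A := by
    rw [hπ]; exact Ideal.mem_span_singleton_self π
  rcases Nat.eq_zero_or_pos k with hk | hk
  · subst hk
    have hu : IsUnit (1 - π ^ n) := by
      rw [← IsLocalRing.notMem_maximalIdeal]
      intro hmem'
      have h1 : (1 : A) ∈ IsLocalRing.maximalIdeal A := by
        have h := Ideal.add_mem _ hmem' (Ideal.pow_mem_of_mem _ hπmem n (by omega))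
        rwa [sub_add_cancel] at h
      exact (Ideal.ne_top_iff_one _).mp (IsLocalRing.maximalIdeal.isMaximal A).ne_top h1
    obtain ⟨u, hu'⟩ := isUnit_iff_exists_inv.mp hu
    have hθ : (algebraMap A K (π * u)) ^ 1 =
        algebraMap A K π + algebraMap A K π ^ n * algebraMap A K (π * u) := by
      have h := congrArg (algebraMap A K) hu'
      simp only [map_mul, map_sub, map_one, map_pow] at h
      simp only [pow_one, map_mul]
      linear_combination (algebraMap A K π) * h
    have hgen : Subfield.closure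
        (Set.range (algebraMap A K) ∪ {algebraMap A K (π * u)}) = ⊤ := by
      rw [eq_top_iff]
      intro x _
      obtain ⟨a, b, _, rfl⟩ := IsFractionRing.div_surjective A x
      exact Subfield.div_mem _ (Subfield.subset_closure (Or.inl ⟨a, rfl⟩))
        (Subfield.subset_closure (Or.inl ⟨b, rfl⟩))
    obtain ⟨htot, -⟩ := totRam π hπ n 1 hn.le one_pos (IsFractionRing.injective A K)
      (algebraMap A K (π * u)) isIntegral_algebraMap hθ hgen
    refine ⟨K, inferInstance, inferInstance, inferInstance, inferInstance, ?_, ?_, htot,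
      algebraMap A K π, 0, 0, isIntegral_algebraMap, Subalgebra.zero_mem _,
      Subalgebra.zero_mem _, ?_, ?_⟩
    · simp
    · infer_instance
    · simp
    · simp
  · have hq : 2 ≤ p ^ k := by
      have := Nat.one_lt_pow hk.ne' hp.one_lt
      omega
    obtain ⟨L, iF, iKL, iAL, iT, hfin, hsep, θ, hθint, hθ, hgen, hinj⟩ :=
      exists_ext A K π hπ n hn.le (p ^ k) hq
    obtain ⟨htot, b', hb', hb'eq⟩ := totRam π hπ n (p ^ k) hn.le (by omega) hinj θ hθint hθ hgen
    exact ⟨L, iF, iKL, iAL, iT, hfin, hsep, htot, θ, θ, b', hθint, hθint, hb', hθ, hb'eq⟩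

end Groth.Agent.Helper22.EisTot
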