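import Mathlib

/-!
# Projective modules over a ring with simple Artinian residue ring (helper library for S13847)

`A` is a ring whose quotient by the Jacobson radical `J` is simple Artinian.

* `bijective_of_red`: a map between finitely generated projective modules which is bijective modulo
  `J` is bijective (noncommutative Nakayama).
* `red`: the reduction ring homomorphism `End_A(P) → End_A(P / J P)`; it is surjective for projective
  `P`, and its kernel is the Jacobson radical of `End_A(P)` for `P` finitely generated projective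
  with `P / J P` semisimple.
* `main`: finitely generated projective modules with isomorphic endomorphism rings are isomorphic.
-/

set_option autoImplicit false
set_option linter.unusedVariables false
set_option linter.style.haveILetI false

universe u v

namespace Groth.Agent.Helper22.EndIso

variable {A : Type u} [Ring A]

theorem eq_top_of_sup_jacobson_smul {M : Type*} [AddCommGroup M] [Module A M] [Module.Finite A M]
    (N : Submodule A M) (h : N ⊔ Ring.jacobson A • (⊤ : Submodule A M) = ⊤) : N = ⊤ := by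
  have hle : (⊤ : Submodule A (M ⧸ N)) ≤ Ring.jacobson A • (⊤ : Submodule A (M ⧸ N)) := by
    intro x _
    obtain ⟨x, rfl⟩ := N.mkQ_surjective x
    have hx : x ∈ N ⊔ Ring.jacobson A • (⊤ : Submodule A M) := by
      rw [h]
      exact Submodule.mem_top
    obtain ⟨n, hn, z, hz, rfl⟩ := Submodule.mem_sup.mp hx
    have hn0 : N.mkQ n = 0 := by
      rw [Submodule.mkQ_apply]
      exact (Submodule.Quotient.mk_eq_zero N).mpr hn
    rw [map_add, hn0, zero_add]
    have h2 : N.mkQ z ∈ Submodule.map N.mkQ (Ring.jacobson A • (⊤ : Submodule A M)) :=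
      Submodule.mem_map_of_mem hz
    rw [Submodule.map_smul''] at h2
    exact Submodule.smul_mono le_rfl le_top h2
  have hbot := Submodule.FG.eq_bot_of_le_jacobson_smul Module.Finite.fg_top hle
  rw [eq_top_iff]
  intro x _
  have hx : N.mkQ x ∈ (⊤ : Submodule A (M ⧸ N)) := Submodule.mem_top
  rw [hbot, Submodule.mem_bot, Submodule.mkQ_apply] at hx
  exact (Submodule.Quotient.mk_eq_zero N).mp hx

theorem bijective_of_red {P Q : Type*} [AddCommGroup P] [Module A P] [Module.Finite A P]
    [AddCommGroup Q] [Module A Q] [Module.Finite A Q] [Module.Projective A Q]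
    (f : P →ₗ[A] Q)
    (hs : ∀ y : Q, ∃ x : P, y - f x ∈ Ring.jacobson A • (⊤ : Submodule A Q))
    (hi : ∀ x : P, f x ∈ Ring.jacobson A • (⊤ : Submodule A Q) →
      x ∈ Ring.jacobson A • (⊤ : Submodule A P)) :
    Function.Bijective f := by
  have hsurj : Function.Surjective f := by
    rw [← LinearMap.range_eq_top]
    apply eq_top_of_sup_jacobson_smul
    rw [eq_top_iff]
    intro y _
    obtain ⟨x, hx⟩ := hs y
    have hy : y = f x + (y - f x) := by abel
    rw [hy]
    exact Submodule.add_mem_sup (LinearMap.mem_range_self f x) hx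
  refine ⟨?_, hsurj⟩
  obtain ⟨s, hs'⟩ := Module.projective_lifting_property f LinearMap.id hsurj
  have hfs : ∀ y, f (s y) = y := fun y => LinearMap.congr_fun hs' y
  let p : P →ₗ[A] P := LinearMap.id - s ∘ₗ f
  have hp_apply : ∀ x, p x = x - s (f x) := fun x => rfl
  have hp_range : LinearMap.range p = LinearMap.ker f := by
    apply le_antisymm
    · rintro _ ⟨x, rfl⟩
      rw [LinearMap.mem_ker, hp_apply, map_sub, hfs, sub_self]
    · intro x hx
      rw [LinearMap.mem_ker] at hx
      exact ⟨x, by rw [hp_apply, hx, map_zero, sub_zero]⟩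
  have hKfg : (LinearMap.ker f).FG := by
    rw [← hp_range, LinearMap.range_eq_map]
    exact Module.Finite.fg_top.map p
  have hKle : LinearMap.ker f ≤ Ring.jacobson A • LinearMap.ker f := by
    intro x hx
    have hx0 : f x = 0 := LinearMap.mem_ker.mp hx
    have h1 : x ∈ Ring.jacobson A • (⊤ : Submodule A P) :=
      hi x (by rw [hx0]; exact zero_mem _)
    have h2 : p x ∈ Submodule.map p (Ring.jacobson A • (⊤ : Submodule A P)) :=
      Submodule.mem_map_of_mem h1
    rw [Submodule.map_smul'', Submodule.map_top, hp_range] at h2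
    have h3 : p x = x := by rw [hp_apply, hx0, map_zero, sub_zero]
    rwa [h3] at h2
  have hK := Submodule.FG.eq_bot_of_le_jacobson_smul hKfg hKle
  exact LinearMap.ker_eq_bot.mp hK

theorem smul_top_le_comap {P Q : Type*} [AddCommGroup P] [Module A P] [AddCommGroup Q]
    [Module A Q] (f : P →ₗ[A] Q) :
    Ring.jacobson A • (⊤ : Submodule A P) ≤
      Submodule.comap f (Ring.jacobson A • (⊤ : Submodule A Q)) := by
  rw [← Submodule.map_le_iff_le_comap, Submodule.map_smul'']
  exact Submodule.smul_mono le_rfl le_top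

/-- reduction of endomorphisms modulo the Jacobson radical -/
noncomputable def red (P : Type*) [AddCommGroup P] [Module A P] :
    Module.End A P →+* Module.End A (P ⧸ (Ring.jacobson A • (⊤ : Submodule A P))) where
  toFun f := Submodule.mapQ _ _ f (smul_top_le_comap f)
  map_one' := Submodule.linearMap_qext _ (LinearMap.ext fun x => rfl)
  map_mul' f g := Submodule.linearMap_qext _ (LinearMap.ext fun x => rfl)
  map_zero' := Submodule.linearMap_qext _ (LinearMap.ext fun x => rfl)
  map_add' f g := Submodule.linearMap_qext _ (LinearMap.ext fun x => rfl)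

theorem red_apply (P : Type*) [AddCommGroup P] [Module A P] (f : Module.End A P) (x : P) :
    red P f (Submodule.Quotient.mk x) = Submodule.Quotient.mk (f x) := rfl

theorem red_surjective (P : Type*) [AddCommGroup P] [Module A P] [Module.Projective A P] :
    Function.Surjective (red (A := A) P) := by
  intro g
  obtain ⟨f, hf⟩ := Module.projective_lifting_property
    (Submodule.mkQ (Ring.jacobson A • (⊤ : Submodule A P)))
    (g ∘ₗ Submodule.mkQ (Ring.jacobson A • (⊤ : Submodule A P))) (Submodule.mkQ_surjective _)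
  refine ⟨f, ?_⟩
  apply Submodule.linearMap_qext
  exact LinearMap.ext fun x => LinearMap.congr_fun hf x

theorem isUnit_of_red_eq_one {P : Type*} [AddCommGroup P] [Module A P] [Module.Finite A P]
    [Module.Projective A P] (y : Module.End A P) (hy : red P y = 1) : IsUnit y := by
  rw [Module.End.isUnit_iff]
  have hyx : ∀ x : P, (Submodule.Quotient.mk (y x) :
      P ⧸ (Ring.jacobson A • (⊤ : Submodule A P))) = Submodule.Quotient.mk x := fun x => by
    rw [← red_apply, hy]
    rfl
  apply bijective_of_red (y : P →ₗ[A] P)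
  · intro x
    refine ⟨x, ?_⟩
    rw [← Submodule.Quotient.mk_eq_zero, Submodule.Quotient.mk_sub, hyx, sub_self]
  · intro x hx
    rw [← Submodule.Quotient.mk_eq_zero] at hx ⊢
    rw [← hyx]
    exact hx

theorem mem_jacobson_of_red_eq_zero {P : Type*} [AddCommGroup P] [Module A P] [Module.Finite A P]
    [Module.Projective A P] (z : Module.End A P) (hz : red P z = 0) :
    z ∈ Ring.jacobson (Module.End A P) := by
  rw [Ring.jacobson_eq_sInf_isMaximal, Submodule.mem_sInf]
  intro m hm
  have hm' : IsCoatom m := Ideal.isMaximal_def.mp hm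
  by_contra hzm
  have hsup : m ⊔ Submodule.span (Module.End A P) {z} = ⊤ := by
    apply hm'.2
    refine lt_of_le_of_ne le_sup_left ?_
    intro heq
    apply hzm
    rw [heq]
    exact Submodule.mem_sup_right (Submodule.mem_span_singleton_self z)
  have h1 : (1 : Module.End A P) ∈ m ⊔ Submodule.span (Module.End A P) {z} :=
    hsup ▸ Submodule.mem_top
  obtain ⟨y, hy, w, hw, hyw⟩ := Submodule.mem_sup.mp h1
  obtain ⟨g, rfl⟩ := Submodule.mem_span_singleton.mp hw
  have hy1 : red P y = 1 := by
    have hyeq : y = 1 - g • z := eq_sub_of_add_eq hyw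
    rw [hyeq, map_sub, map_one, smul_eq_mul, map_mul, hz, mul_zero, sub_zero]
  obtain ⟨u, rfl⟩ := isUnit_of_red_eq_one y hy1
  apply hm'.1
  rw [eq_top_iff]
  intro x _
  have hx : x = (x * ((u⁻¹ : (Module.End A P)ˣ) : Module.End A P)) • (u : Module.End A P) := by
    rw [smul_eq_mul, mul_assoc, Units.inv_mul, mul_one]
  rw [hx]
  exact m.smul_mem _ hy

theorem red_eq_zero_of_mem_jacobson (P : Type*) [AddCommGroup P] [Module A P]
    [Module.Finite A P] [Module.Projective A P]
    [IsSemisimpleModule A (P ⧸ (Ring.jacobson A • (⊤ : Submodule A P)))]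
    (z : Module.End A P) (hz : z ∈ Ring.jacobson (Module.End A P)) : red P z = 0 := by
  haveI : RingHomSurjective (red (A := A) P) := ⟨red_surjective P⟩
  haveI : IsSemisimpleRing (Module.End A (P ⧸ (Ring.jacobson A • (⊤ : Submodule A P)))) :=
    IsSemisimpleRing.moduleEnd A _
  have h1 := Ring.le_comap_jacobson (red (A := A) P) hz
  have h2 : Ring.jacobson (Module.End A (P ⧸ (Ring.jacobson A • (⊤ : Submodule A P)))) = ⊥ :=
    IsSemisimpleRing.jacobson_eq_bot _
  rw [Ideal.mem_comap, h2, Submodule.mem_bot] at h1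
  exact h1

theorem card_le_of_orthogonal {M S : Type*} [AddCommGroup M] [Module A M] [AddCommGroup S]
    [Module A S] [IsSimpleModule A S] (a b : ℕ) (ψ : M ≃ₗ[A] (Fin a → S))
    (q : Fin b → Module.End A M) (hqq : ∀ i, q i * q i = q i)
    (hq0 : ∀ i j, i ≠ j → q i * q j = 0) (hne : ∀ i, q i ≠ 0) : b ≤ a := by
  classical
  have hlen : Module.length A M = a := by
    rw [ψ.length_eq, Module.length_pi, Module.length_eq_one, mul_one,
      ENat.card_eq_coe_fintype_card, Fintype.card_fin]
  let Φ : M →ₗ[A] (Π i : Fin b, LinearMap.range (q i)) :=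
    LinearMap.pi fun i => (q i).rangeRestrict
  have hΦ : Function.Surjective Φ := by
    intro w
    refine ⟨∑ i, (w i : M), ?_⟩
    funext j
    apply Subtype.ext
    show q j (∑ i, (w i : M)) = (w j : M)
    rw [map_sum, Finset.sum_eq_single j]
    · obtain ⟨z, hz⟩ := (w j).2
      rw [← hz]
      show (q j * q j) z = q j z
      rw [hqq]
    · intro i _ hij
      obtain ⟨z, hz⟩ := (w i).2
      rw [← hz]
      show (q j * q i) z = 0
      rw [hq0 j i (Ne.symm hij)]
      rfl
    · intro h
      exact absurd (Finset.mem_univ j) h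
  have h1 := Module.length_le_of_surjective Φ hΦ
  rw [Module.length_pi_of_fintype, hlen] at h1
  have h2 : (b : ℕ∞) ≤ ∑ i : Fin b, Module.length A (LinearMap.range (q i)) := by
    have hb : (b : ℕ∞) = ∑ i : Fin b, (1 : ℕ∞) := by simp
    rw [hb]
    refine Finset.sum_le_sum fun i _ => ?_
    haveI : Nontrivial (LinearMap.range (q i)) := by
      have hex : ∃ z, q i z ≠ 0 := by
        by_contra hcon
        push Not at hcon
        exact hne i (LinearMap.ext hcon)
      obtain ⟨z, hz⟩ := hex
      exact ⟨⟨⟨q i z, LinearMap.mem_range_self _ z⟩, 0, fun h => hz (congrArg Subtype.val h)⟩⟩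
    exact Order.one_le_iff_pos.mpr Module.length_pos
  exact_mod_cast h2.trans h1

theorem le_of_ringEquiv {S : Type*} [AddCommGroup S] [Module A S] [IsSimpleModule A S]
    (P Q : Type*) [AddCommGroup P] [Module A P] [Module.Finite A P] [Module.Projective A P]
    [AddCommGroup Q] [Module A Q] [Module.Finite A Q] [Module.Projective A Q]
    (e : Module.End A P ≃+* Module.End A Q) (a b : ℕ)
    (ψP : (P ⧸ (Ring.jacobson A • (⊤ : Submodule A P))) ≃ₗ[A] (Fin a → S))
    (ψQ : (Q ⧸ (Ring.jacobson A • (⊤ : Submodule A Q))) ≃ₗ[A] (Fin b → S)) : b ≤ a := by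
  classical
  haveI hssP : IsSemisimpleModule A (P ⧸ (Ring.jacobson A • (⊤ : Submodule A P))) :=
    IsSemisimpleModule.congr ψP
  haveI hssQ : IsSemisimpleModule A (Q ⧸ (Ring.jacobson A • (⊤ : Submodule A Q))) :=
    IsSemisimpleModule.congr ψQ
  have key : ∀ z : Module.End A P, red P z = 0 ↔ red Q (e z) = 0 := by
    intro z
    haveI : RingHomSurjective (e : Module.End A P →+* Module.End A Q) := ⟨e.surjective⟩
    haveI : RingHomSurjective (e.symm : Module.End A Q →+* Module.End A P) :=
      ⟨e.symm.surjective⟩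
    constructor
    · intro hz
      have h1 := mem_jacobson_of_red_eq_zero z hz
      have h2 := Ring.le_comap_jacobson (e : Module.End A P →+* Module.End A Q) h1
      exact red_eq_zero_of_mem_jacobson Q (e z) h2
    · intro hz
      have h1 := mem_jacobson_of_red_eq_zero (e z) hz
      have h2 := Ring.le_comap_jacobson (e.symm : Module.End A Q →+* Module.End A P) h1
      have h3 := red_eq_zero_of_mem_jacobson P _ h2
      simpa using h3
  let c : Fin b → Module.End A (Fin b → S) := fun i =>
    (LinearMap.single A (fun _ : Fin b => S) i) ∘ₗ (LinearMap.proj i)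
  have hcc : ∀ i, c i * c i = c i := by
    intro i
    refine LinearMap.ext fun w => ?_
    show (Pi.single i ((Pi.single i (w i) : Fin b → S) i) : Fin b → S) = Pi.single i (w i)
    rw [Pi.single_eq_same]
  have hc0 : ∀ i j, i ≠ j → c i * c j = 0 := by
    intro i j hij
    refine LinearMap.ext fun w => ?_
    show (Pi.single i ((Pi.single j (w j) : Fin b → S) i) : Fin b → S) = 0
    rw [Pi.single_eq_of_ne hij, Pi.single_zero]
  have hcne : ∀ i, c i ≠ 0 := by
    intro i h0
    haveI := IsSimpleModule.nontrivial A S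
    obtain ⟨s, hs⟩ := exists_ne (0 : S)
    have h1 := congrFun (LinearMap.congr_fun h0 (Pi.single i s)) i
    have h2 : c i (Pi.single i s) i = s := by
      show (Pi.single i ((Pi.single i s : Fin b → S) i) : Fin b → S) i = s
      rw [Pi.single_eq_same, Pi.single_eq_same]
    rw [h2] at h1
    exact hs h1
  let κ : Module.End A (Fin b → S) ≃+*
      Module.End A (Q ⧸ (Ring.jacobson A • (⊤ : Submodule A Q))) := ψQ.symm.conjRingEquiv
  choose y hy using fun i => red_surjective (A := A) Q (κ (c i))
  let x : Fin b → Module.End A P := fun i => e.symm (y i)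
  have hex : ∀ i, e (x i) = y i := fun i => e.apply_symm_apply _
  refine card_le_of_orthogonal a b ψP (fun i => red P (x i)) ?_ ?_ ?_
  · intro i
    show red P (x i) * red P (x i) = red P (x i)
    rw [← map_mul, ← sub_eq_zero, ← map_sub, key, map_sub, map_mul, hex, map_sub, map_mul, hy i,
      ← map_mul, hcc, sub_self]
  · intro i j hij
    show red P (x i) * red P (x j) = 0
    rw [← map_mul, key, map_mul, hex, hex, map_mul, hy i, hy j, ← map_mul, hc0 i j hij, map_zero]
  · intro i h0
    have h1 : red P (x i) = 0 := h0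
    rw [key, hex, hy i] at h1
    exact hcne i ((map_eq_zero_iff κ κ.injective).mp h1)

theorem lift_iso {P Q : Type*} [AddCommGroup P] [Module A P] [Module.Finite A P]
    [Module.Projective A P] [AddCommGroup Q] [Module A Q] [Module.Finite A Q]
    [Module.Projective A Q]
    (ψ : (P ⧸ (Ring.jacobson A • (⊤ : Submodule A P))) ≃ₗ[A]
      (Q ⧸ (Ring.jacobson A • (⊤ : Submodule A Q)))) : Nonempty (P ≃ₗ[A] Q) := by
  obtain ⟨f, hf⟩ := Module.projective_lifting_property
    (Submodule.mkQ (Ring.jacobson A • (⊤ : Submodule A Q)))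
    ((ψ : _ →ₗ[A] _) ∘ₗ Submodule.mkQ (Ring.jacobson A • (⊤ : Submodule A P)))
    (Submodule.mkQ_surjective _)
  have hf' : ∀ x : P, (Submodule.Quotient.mk (f x) :
      Q ⧸ (Ring.jacobson A • (⊤ : Submodule A Q))) = ψ (Submodule.Quotient.mk x) :=
    fun x => LinearMap.congr_fun hf x
  refine ⟨LinearEquiv.ofBijective f (bijective_of_red f ?_ ?_)⟩
  · intro y
    obtain ⟨x, hx⟩ := Submodule.mkQ_surjective (Ring.jacobson A • (⊤ : Submodule A P))
      (ψ.symm (Submodule.Quotient.mk y))
    refine ⟨x, ?_⟩
    rw [← Submodule.Quotient.mk_eq_zero, Submodule.Quotient.mk_sub, hf' x]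
    have hx' : (Submodule.Quotient.mk x : P ⧸ (Ring.jacobson A • (⊤ : Submodule A P))) =
        ψ.symm (Submodule.Quotient.mk y) := hx
    rw [hx', LinearEquiv.apply_symm_apply, sub_self]
  · intro x hx
    rw [← Submodule.Quotient.mk_eq_zero] at hx ⊢
    rw [hf'] at hx
    exact ψ.map_eq_zero_iff.mp hx

theorem isSimpleModule_restrict (S₀ : Ideal (A ⧸ Ring.jacobson A))
    [IsSimpleModule (A ⧸ Ring.jacobson A) S₀] : IsSimpleModule A S₀ := by
  have hone : ∀ a : A, a • (1 : A ⧸ Ring.jacobson A) = Ideal.Quotient.mk (Ring.jacobson A) a := by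
    intro a
    show Ideal.Quotient.mk (Ring.jacobson A) (a • (1 : A)) = _
    rw [smul_eq_mul, mul_one]
  let l : S₀ →ₛₗ[Ideal.Quotient.mk (Ring.jacobson A)] S₀ :=
    { toFun := id
      map_add' := fun _ _ => rfl
      map_smul' := fun a x => by
        show a • x = Ideal.Quotient.mk (Ring.jacobson A) a • x
        rw [← smul_one_smul (A ⧸ Ring.jacobson A) a x, hone] }
  exact (LinearMap.isSimpleModule_iff_of_bijective l Function.bijective_id).mpr inferInstance

theorem decomp [IsSimpleRing (A ⧸ Ring.jacobson A)] [IsArtinianRing (A ⧸ Ring.jacobson A)]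
    (S₀ : Ideal (A ⧸ Ring.jacobson A)) [IsSimpleModule (A ⧸ Ring.jacobson A) S₀]
    (P : Type*) [AddCommGroup P] [Module A P] [Module.Finite A P] :
    ∃ n : ℕ, Nonempty ((P ⧸ (Ring.jacobson A • (⊤ : Submodule A P))) ≃ₗ[A] (Fin n → S₀)) := by
  haveI : IsScalarTower A (A ⧸ Ring.jacobson A) (P ⧸ (Ring.jacobson A • (⊤ : Submodule A P))) :=
    Module.IsTorsionBySet.isScalarTower
      (Module.isTorsionBySet_quotient_ideal_smul P (Ring.jacobson A))
  haveI : Module.Finite (A ⧸ Ring.jacobson A)
      (P ⧸ (Ring.jacobson A • (⊤ : Submodule A P))) :=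
    Module.Finite.of_restrictScalars_finite A _ _
  have hiso : IsIsotypic (A ⧸ Ring.jacobson A) (A ⧸ Ring.jacobson A) :=
    (isSimpleRing_isArtinianRing_iff.mp ⟨inferInstance, inferInstance⟩).2.1
  have hty : IsIsotypicOfType (A ⧸ Ring.jacobson A)
      (P ⧸ (Ring.jacobson A • (⊤ : Submodule A P))) S₀ := fun m _ => by
    obtain ⟨I, ⟨e⟩⟩ :=
      IsSemisimpleRing.exists_linearEquiv_ideal_of_isSimpleModule (A ⧸ Ring.jacobson A) m
    haveI : IsSimpleModule (A ⧸ Ring.jacobson A) I := IsSimpleModule.congr e.symm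
    exact ⟨e.trans (hiso S₀ I).some⟩
  obtain ⟨n, ⟨ψ⟩⟩ := hty.linearEquiv_fun
  exact ⟨n, ⟨ψ.restrictScalars A⟩⟩

theorem main (A : Type u) [Ring A] [IsSimpleRing (A ⧸ Ring.jacobson A)]
    [IsArtinianRing (A ⧸ Ring.jacobson A)] (P Q : Type v) [AddCommGroup P] [Module A P]
    [Module.Finite A P] [Module.Projective A P] [AddCommGroup Q] [Module A Q] [Module.Finite A Q]
    [Module.Projective A Q] (e : Module.End A P ≃+* Module.End A Q) : Nonempty (P ≃ₗ[A] Q) := by
  obtain ⟨S₀, hS₀⟩ := IsAtomic.exists_atom (Ideal (A ⧸ Ring.jacobson A))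
  haveI : IsSimpleModule (A ⧸ Ring.jacobson A) S₀ := isSimpleModule_iff_isAtom.mpr hS₀
  haveI : IsSimpleModule A S₀ := isSimpleModule_restrict S₀
  obtain ⟨a, ⟨ψP⟩⟩ := decomp S₀ P
  obtain ⟨b, ⟨ψQ⟩⟩ := decomp S₀ Q
  have hab : a = b :=
    le_antisymm (le_of_ringEquiv Q P e.symm b a ψQ ψP) (le_of_ringEquiv P Q e a b ψP ψQ)
  subst hab
  exact lift_iso (ψP.trans ψQ.symm)

end Groth.Agent.Helper22.EndIso
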