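import Mathlib
import Groth.Prelude.Def_EtRam

/-!
# Artin–Schreier normal form over a weakly unramified extension of DVRs (for S7155)

`normal_form`: for `ξ = b / π^N` in the fraction field `L` of `B` there is `a ∈ K` such that in every
"target" `(F, V, ϖ)` (a field over `L` with a valuation ring in which `π` is, up to a high power, a
`p^r`-th power of `ϖ`) the element `ξ - a` is, modulo `V` and Artin–Schreier elements `c^p - c`,
either `0` or `ϖ^(-P) * bs` with `p ∣ P` and `bs` not a `p`-th power in the residue field.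
-/

set_option autoImplicit false
set_option linter.deprecated false
universe u

open IsLocalRing

namespace Groth.Agent.Helper22.EppNF

section Val
variable {F : Type*} [Field F] {V : ValuationSubring F}

theorem val_mul_lt {x y : F} (hx : V.valuation x < 1) (hy : y ∈ V) :
    V.valuation (x * y) < 1 := by
  rw [map_mul]
  have hy' : V.valuation y ≤ 1 := (ValuationSubring.valuation_le_one_iff V y).mpr hy
  calc V.valuation x * V.valuation y ≤ V.valuation x * 1 := mul_le_mul' le_rfl hy'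
    _ = V.valuation x := mul_one _
    _ < 1 := hx

theorem val_pow_lt {x : F} (hx : V.valuation x < 1) {k : ℕ} (hk : 0 < k) :
    V.valuation (x ^ k) < 1 := by
  rw [map_pow]
  exact pow_lt_one₀ zero_le' hx (Nat.pos_iff_ne_zero.mp hk)

theorem mem_of_val_lt {x : F} (hx : V.valuation x < 1) : x ∈ V :=
  (ValuationSubring.valuation_le_one_iff V x).mp hx.le

end Val

/-- `x` is, modulo the valuation ring, of Artin–Schreier form `c ^ p - c`. -/
def InG {F : Type*} [Field F] (V : ValuationSubring F) (p : ℕ) (x : F) : Prop :=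
  ∃ c : F, x - (c ^ p - c) ∈ V

/-- the conclusion of the normal form -/
def Concl {F : Type*} [Field F] (p N r : ℕ) (V : ValuationSubring F) (ϖ : F) (x : F) : Prop :=
  InG V p x ∨ ∃ (P : ℕ) (bs : F), p ∣ P ∧ 0 < P ∧ P ≤ p ^ r * N ∧
    (∀ t i : ℕ, P = p ^ t * i → ¬ p ∣ i → i ≤ N) ∧ bs ∈ V ∧
    (∀ v ∈ V, ¬ V.valuation (bs - v ^ p) < 1) ∧ InG V p (x - (ϖ ^ P)⁻¹ * bs)

section InG
variable {F : Type*} [Field F] {V : ValuationSubring F} {p : ℕ}

theorem InG.of_mem [hp : Fact p.Prime] {x : F} (hx : x ∈ V) : InG V p x :=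
  ⟨0, by rw [zero_pow hp.out.ne_zero, sub_zero, sub_zero]; exact hx⟩

theorem InG.add [hp : Fact p.Prime] [CharP F p] {x y : F} (hx : InG V p x) (hy : InG V p y) :
    InG V p (x + y) := by
  obtain ⟨c, hc⟩ := hx
  obtain ⟨d, hd⟩ := hy
  refine ⟨c + d, ?_⟩
  have h : x + y - ((c + d) ^ p - (c + d)) = (x - (c ^ p - c)) + (y - (d ^ p - d)) := by
    rw [add_pow_char c d p]; ring
  rw [h]
  exact add_mem hc hd

theorem InG.wp (c : F) : InG V p (c ^ p - c) :=
  ⟨c, by rw [sub_self]; exact zero_mem V⟩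

theorem InG.pow_sub [hp : Fact p.Prime] [CharP F p] (x : F) (m : ℕ) :
    InG V p (x ^ (p ^ m) - x) := by
  induction m with
  | zero =>
    rw [pow_zero, pow_one, sub_self]
    exact InG.of_mem (zero_mem V)
  | succ m ih =>
    have h : x ^ (p ^ (m + 1)) - x =
        ((x ^ (p ^ m)) ^ p - x ^ (p ^ m)) + (x ^ (p ^ m) - x) := by
      rw [pow_succ p m, pow_mul]; ring
    rw [h]
    exact (InG.wp _).add ih

theorem Concl.mono {N N' r : ℕ} {ϖ x : F} (hx : Concl p N r V ϖ x) (hN : N ≤ N') :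
    Concl p N' r V ϖ x := by
  rcases hx with hx | ⟨P, bs, h1, h2, h3, h4, h5, h6, h7⟩
  · exact Or.inl hx
  · exact Or.inr ⟨P, bs, h1, h2, le_trans h3 (Nat.mul_le_mul_left _ hN),
      fun t i ht hi => le_trans (h4 t i ht hi) hN, h5, h6, h7⟩

theorem Concl.add_InG [hp : Fact p.Prime] [CharP F p] {N r : ℕ} {ϖ x y : F}
    (hx : Concl p N r V ϖ x) (hy : InG V p y) : Concl p N r V ϖ (x + y) := by
  rcases hx with hx | ⟨P, bs, h1, h2, h3, h4, h5, h6, h7⟩
  · exact Or.inl (hx.add hy)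
  · refine Or.inr ⟨P, bs, h1, h2, h3, h4, h5, h6, ?_⟩
    have h : x + y - (ϖ ^ P)⁻¹ * bs = (x - (ϖ ^ P)⁻¹ * bs) + y := by ring
    rw [h]
    exact h7.add hy

theorem Concl.add_lead [hp : Fact p.Prime] [CharP F p] {N r : ℕ} {ϖ x main G : F} {P₁ : ℕ}
    (hϖ0 : ϖ ≠ 0) (hϖlt : V.valuation ϖ < 1) (hx : Concl p N r V ϖ x)
    (hpP₁ : p ∣ P₁) (hP₁pos : 0 < P₁) (hP₁le : P₁ ≤ p ^ r * (N + 1))
    (hP₁i : ∀ t i : ℕ, P₁ = p ^ t * i → ¬ p ∣ i → i ≤ N + 1)
    (hne : ∀ P' : ℕ, P' ≤ p ^ r * N → (∀ t i : ℕ, P' = p ^ t * i → ¬ p ∣ i → i ≤ N) →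
      P' ≠ P₁)
    (hG : G ∈ V) (hGnp : ∀ v ∈ V, ¬ V.valuation (G - v ^ p) < 1)
    (hmain : InG V p (main - (ϖ ^ P₁)⁻¹ * G)) : Concl p (N + 1) r V ϖ (x + main) := by
  rcases hx with hx | ⟨P', bs', h1, h2, h3, h4, h5, h6, h7⟩
  · refine Or.inr ⟨P₁, G, hpP₁, hP₁pos, hP₁le, hP₁i, hG, hGnp, ?_⟩
    have h : x + main - (ϖ ^ P₁)⁻¹ * G = x + (main - (ϖ ^ P₁)⁻¹ * G) := by ring
    rw [h]
    exact hx.add hmain
  · have hne' := hne P' h3 h4
    rcases Nat.lt_or_gt_of_ne hne' with hlt | hgt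
    · obtain ⟨k, hk⟩ : ∃ k, P₁ = P' + k := ⟨P₁ - P', by omega⟩
      have hkpos : 0 < k := by omega
      have hsmall : V.valuation (ϖ ^ k * bs') < 1 := val_mul_lt (val_pow_lt hϖlt hkpos) h5
      have hinv : (ϖ ^ P₁)⁻¹ * ϖ ^ k = (ϖ ^ P')⁻¹ := by
        rw [hk, pow_add, mul_inv, mul_assoc, inv_mul_cancel₀ (pow_ne_zero k hϖ0), mul_one]
      refine Or.inr ⟨P₁, G + ϖ ^ k * bs', hpP₁, hP₁pos, hP₁le, hP₁i,
        add_mem hG (mem_of_val_lt hsmall), ?_, ?_⟩
      · intro v hv hlt'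
        apply hGnp v hv
        have h : G - v ^ p = (G + ϖ ^ k * bs' - v ^ p) - ϖ ^ k * bs' := by ring
        rw [h]
        exact (V.valuation).map_sub_lt hlt' hsmall
      · have h : x + main - (ϖ ^ P₁)⁻¹ * (G + ϖ ^ k * bs') =
            (x - (ϖ ^ P')⁻¹ * bs') + (main - (ϖ ^ P₁)⁻¹ * G) := by
          rw [← hinv]; ring
        rw [h]
        exact h7.add hmain
    · obtain ⟨k, hk⟩ : ∃ k, P' = P₁ + k := ⟨P' - P₁, by omega⟩
      have hkpos : 0 < k := by omega
      have hsmall : V.valuation (ϖ ^ k * G) < 1 := val_mul_lt (val_pow_lt hϖlt hkpos) hG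
      have hinv : (ϖ ^ P')⁻¹ * ϖ ^ k = (ϖ ^ P₁)⁻¹ := by
        rw [hk, pow_add, mul_inv, mul_assoc, inv_mul_cancel₀ (pow_ne_zero k hϖ0), mul_one]
      refine Or.inr ⟨P', bs' + ϖ ^ k * G, h1, h2,
        le_trans h3 (Nat.mul_le_mul_left _ (Nat.le_succ N)),
        fun t i ht hi => le_trans (h4 t i ht hi) (Nat.le_succ N),
        add_mem h5 (mem_of_val_lt hsmall), ?_, ?_⟩
      · intro v hv hlt'
        apply h6 v hv
        have h : bs' - v ^ p = (bs' + ϖ ^ k * G - v ^ p) - ϖ ^ k * G := by ring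
        rw [h]
        exact (V.valuation).map_sub_lt hlt' hsmall
      · have h : x + main - (ϖ ^ P')⁻¹ * (bs' + ϖ ^ k * G) =
            (x - (ϖ ^ P')⁻¹ * bs') + (main - (ϖ ^ P₁)⁻¹ * G) := by
          rw [← hinv]; ring
        rw [h]
        exact h7.add hmain

theorem Concl.step [hp : Fact p.Prime] [CharP F p] {N r m d : ℕ} {ϖ x G PiF : F}
    (hd : r = m + (d + 1)) (hϖ0 : ϖ ≠ 0) (hϖlt : V.valuation ϖ < 1)
    (hx : Concl p N r V ϖ x) (h2b : ¬ (p ∣ N + 1 ∧ 0 < m)) (hG : G ∈ V)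
    (hGnp : ∀ v ∈ V, ¬ V.valuation (G - v ^ p) < 1)
    (hδ : (PiF ^ (N + 1))⁻¹ - (ϖ ^ (p ^ r * (N + 1)))⁻¹ ∈ V) :
    Concl p (N + 1) r V ϖ (x + G ^ (p ^ m) * (PiF ^ (N + 1))⁻¹) := by
  have hexp : p ^ (d + 1) * (N + 1) * p ^ m = p ^ r * (N + 1) := by
    rw [hd, pow_add]; ring
  have hY : ((ϖ ^ (p ^ (d + 1) * (N + 1)))⁻¹ * G) ^ (p ^ m) =
      (ϖ ^ (p ^ r * (N + 1)))⁻¹ * G ^ (p ^ m) := by
    rw [mul_pow, inv_pow, ← pow_mul, hexp]
  have hmain : InG V p (G ^ (p ^ m) * (PiF ^ (N + 1))⁻¹ -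
      (ϖ ^ (p ^ (d + 1) * (N + 1)))⁻¹ * G) := by
    have hdec : G ^ (p ^ m) * (PiF ^ (N + 1))⁻¹ - (ϖ ^ (p ^ (d + 1) * (N + 1)))⁻¹ * G =
        (((ϖ ^ (p ^ (d + 1) * (N + 1)))⁻¹ * G) ^ (p ^ m) -
          (ϖ ^ (p ^ (d + 1) * (N + 1)))⁻¹ * G) +
          G ^ (p ^ m) * ((PiF ^ (N + 1))⁻¹ - (ϖ ^ (p ^ r * (N + 1)))⁻¹) := by
      rw [hY]; ring
    rw [hdec]
    exact (InG.pow_sub _ m).add (InG.of_mem (mul_mem (pow_mem hG _) hδ))
  have hpP₁ : p ∣ p ^ (d + 1) * (N + 1) :=
    Dvd.dvd.mul_right (dvd_pow_self p (Nat.succ_ne_zero d)) _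
  have hP₁pos : 0 < p ^ (d + 1) * (N + 1) :=
    Nat.mul_pos (pow_pos hp.out.pos _) (Nat.succ_pos N)
  have hP₁le : p ^ (d + 1) * (N + 1) ≤ p ^ r * (N + 1) :=
    Nat.mul_le_mul_right _ (Nat.pow_le_pow_right hp.out.pos (by omega))
  have hP₁i : ∀ t i : ℕ, p ^ (d + 1) * (N + 1) = p ^ t * i → ¬ p ∣ i → i ≤ N + 1 := by
    intro t i hti hpi
    have hcop : Nat.Coprime i (p ^ (d + 1)) :=
      Nat.Coprime.pow_right _ ((Nat.Prime.coprime_iff_not_dvd hp.out).mpr hpi).symm
    have hdvd : i ∣ p ^ (d + 1) * (N + 1) := ⟨p ^ t, by rw [hti, mul_comm]⟩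
    exact Nat.le_of_dvd (Nat.succ_pos N) (Nat.Coprime.dvd_of_dvd_mul_left hcop hdvd)
  have hne : ∀ P' : ℕ, P' ≤ p ^ r * N →
      (∀ t i : ℕ, P' = p ^ t * i → ¬ p ∣ i → i ≤ N) → P' ≠ p ^ (d + 1) * (N + 1) := by
    intro P' hle hi heq
    by_cases hpd : p ∣ N + 1
    · have hm0 : m = 0 := by
        by_contra hm
        exact h2b ⟨hpd, Nat.pos_of_ne_zero hm⟩
      rw [heq, hd, hm0, zero_add] at hle
      have := Nat.le_of_mul_le_mul_left hle (pow_pos hp.out.pos _)
      omega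
    · have := hi (d + 1) (N + 1) heq hpd
      omega
  exact Concl.add_lead hϖ0 hϖlt hx hpP₁ hP₁pos hP₁le hP₁i hne hG hGnp hmain

end InG

/-! ### the residue field dichotomy -/

theorem exists_nonpow (p : ℕ) (κ : Type*) [Field κ] (x : κ) :
    ∀ n : ℕ, (¬ ∃ y : κ, y ^ (p ^ n) = x) →
      ∃ (m : ℕ) (g : κ), g ^ (p ^ m) = x ∧ ∀ h : κ, g ≠ h ^ p := by
  intro n
  induction n with
  | zero =>
    intro h
    exact absurd ⟨x, by rw [pow_zero, pow_one]⟩ h
  | succ n ih =>
    intro h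
    by_cases h' : ∃ y : κ, y ^ (p ^ n) = x
    · obtain ⟨y, hy⟩ := h'
      refine ⟨n, y, hy, fun w hw => h ⟨w, ?_⟩⟩
      rw [pow_succ, mul_comm (p ^ n) p, pow_mul, ← hw, hy]
    · exact ih h'

section Dich
variable (p : ℕ) [hp : Fact p.Prime] (A B : Type u) [CommRing A] [IsLocalRing A] [CommRing B]
  [IsLocalRing B] [Algebra A B] [IsLocalHom (algebraMap A B)]

theorem dichotomy
    (hk : ∀ x : ResidueField B, (∀ n : ℕ, ∃ y : ResidueField B, y ^ (p ^ n) = x) ↔
      x ∈ Set.range (algebraMap (ResidueField A) (ResidueField B))) (b : B) :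
    (∃ a₁ : A, b - algebraMap A B a₁ ∈ maximalIdeal B) ∨
    ∃ (m : ℕ) (g : B), (∀ h : B, residue B g ≠ residue B h ^ p) ∧
      b - g ^ (p ^ m) ∈ maximalIdeal B := by
  by_cases hx : residue B b ∈ Set.range (algebraMap (ResidueField A) (ResidueField B))
  · left
    obtain ⟨abar, habar⟩ := hx
    obtain ⟨a₁, rfl⟩ := residue_surjective abar
    refine ⟨a₁, ?_⟩
    rw [← residue_eq_zero_iff, map_sub, sub_eq_zero, ← habar]
    rfl
  · right
    have h1 : ¬ ∀ n : ℕ, ∃ y : ResidueField B, y ^ (p ^ n) = residue B b :=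
      fun h => hx ((hk _).mp h)
    obtain ⟨n, hn⟩ := not_forall.mp h1
    obtain ⟨m, gbar, hg, hgnp⟩ := exists_nonpow p _ (residue B b) n hn
    obtain ⟨g, rfl⟩ := residue_surjective gbar
    refine ⟨m, g, fun h => hgnp (residue B h), ?_⟩
    rw [← residue_eq_zero_iff, map_sub, map_pow, hg, sub_self]

theorem perfect_of_hk [CharP (ResidueField B) p]
    (hk : ∀ x : ResidueField B, (∀ n : ℕ, ∃ y : ResidueField B, y ^ (p ^ n) = x) ↔
      x ∈ Set.range (algebraMap (ResidueField A) (ResidueField B))) (a : A) :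
    ∃ s : A, a - s ^ p ∈ maximalIdeal A := by
  haveI : ExpChar (ResidueField B) p := ExpChar.prime hp.out
  have h1 : ∀ n : ℕ, ∃ y : ResidueField B,
      y ^ (p ^ n) = algebraMap (ResidueField A) (ResidueField B) (residue A a) :=
    (hk _).mpr ⟨_, rfl⟩
  obtain ⟨y, hy⟩ := h1 1
  rw [pow_one] at hy
  have h2 : ∀ n : ℕ, ∃ w : ResidueField B, w ^ (p ^ n) = y := by
    intro n
    obtain ⟨w, hw⟩ := h1 (n + 1)
    refine ⟨w, ?_⟩
    apply frobenius_inj (ResidueField B) p
    rw [frobenius_def, frobenius_def, ← pow_mul, ← pow_succ, hw, hy]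
  obtain ⟨sbar, hs⟩ := (hk y).mp h2
  obtain ⟨s, rfl⟩ := residue_surjective sbar
  refine ⟨s, ?_⟩
  rw [← residue_eq_zero_iff, map_sub, map_pow, sub_eq_zero]
  apply (algebraMap (ResidueField A) (ResidueField B)).injective
  rw [map_pow, hs, hy]

end Dich

/-! ### targets -/

/-- A target for the normal form: a field `F` over `L` with a valuation ring `V` containing the
image of `B`, an element `ϖ` of positive valuation whose `p^r`-th power is `Pi` up to a
principal unit of high level, such that non-`p`-th powers of the residue field of `B` stay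
non-`p`-th powers modulo the maximal ideal of `V`. -/
structure Tgt (p : ℕ) (B L : Type u) [CommRing B] [IsLocalRing B] [Field L] [Algebra B L]
    (Pi : L) (F : Type u) [Field F] [Algebra L F] (V : ValuationSubring F) (ϖ : F)
    (r Nmax : ℕ) : Prop where
  memB : ∀ b : B, algebraMap L F (algebraMap B L b) ∈ V
  memϖ : ϖ ∈ V
  ϖ_ne : ϖ ≠ 0
  ϖ_lt : V.valuation ϖ < 1
  prec : ∀ j : ℕ, j ≤ Nmax → (algebraMap L F Pi ^ j)⁻¹ - (ϖ ^ (p ^ r * j))⁻¹ ∈ V
  nonpow : ∀ g : B, (∀ h : B, residue B g ≠ residue B h ^ p) → ∀ v ∈ V,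
    ¬ V.valuation (algebraMap L F (algebraMap B L g) - v ^ p) < 1

section NF
variable (p : ℕ) [hp : Fact p.Prime] (A B K L : Type u) [CommRing A] [IsDomain A]
  [IsDiscreteValuationRing A] [CommRing B] [IsDomain B] [IsDiscreteValuationRing B] [Algebra A B]
  [IsLocalHom (algebraMap A B)] [Field K] [Field L] [Algebra A K] [IsFractionRing A K]
  [Algebra B L] [IsFractionRing B L] [Algebra K L] [Algebra A L] [IsScalarTower A K L]
  [IsScalarTower A B L]

theorem normal_form
    (hk : ∀ x : ResidueField B, (∀ n : ℕ, ∃ y : ResidueField B, y ^ (p ^ n) = x) ↔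
      x ∈ Set.range (algebraMap (ResidueField A) (ResidueField B)))
    (π : A) (hπ0 : π ≠ 0) (hπB : maximalIdeal B = Ideal.span {algebraMap A B π}) :
    ∀ (N : ℕ) (b : B), ∃ (a : K) (r₀ : ℕ), ∀ (F : Type u) [Field F] [Algebra L F] [CharP F p]
      (V : ValuationSubring F) (ϖ : F) (r Nmax : ℕ),
      Tgt p B L (algebraMap A L π) F V ϖ r Nmax → r₀ ≤ r → N ≤ Nmax →
      Concl p N r V ϖ
        (algebraMap L F (algebraMap B L b / algebraMap A L π ^ N - algebraMap K L a)) := by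
  have hPi0 : algebraMap A L π ≠ 0 := by
    rw [IsScalarTower.algebraMap_apply A K L]
    exact (map_ne_zero _).mpr ((map_ne_zero_iff _ (IsFractionRing.injective A K)).mpr hπ0)
  have hPiB : algebraMap B L (algebraMap A B π) = algebraMap A L π :=
    (IsScalarTower.algebraMap_apply A B L π).symm
  have h3 : ∀ (N : ℕ) (u v : L), (u * algebraMap A L π + v) / algebraMap A L π ^ (N + 1) =
      u / algebraMap A L π ^ N + v / algebraMap A L π ^ (N + 1) := by
    intro N u v
    rw [add_div, pow_succ, mul_div_mul_right _ _ hPi0]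
  intro N
  induction N with
  | zero =>
    intro b
    refine ⟨0, 0, ?_⟩
    intro F _ _ _ V ϖ r Nmax tgt _ _
    rw [pow_zero, div_one, map_zero, sub_zero]
    exact Or.inl (InG.of_mem (tgt.memB b))
  | succ N ih =>
    intro b
    rcases dichotomy p A B hk b with ⟨a₁, ha₁⟩ | ⟨m, g, hg, hbg⟩
    · rw [hπB, Ideal.mem_span_singleton'] at ha₁
      obtain ⟨b', hb'⟩ := ha₁
      obtain ⟨a', r₀, hI⟩ := ih b'
      have hbL : algebraMap B L b =
          algebraMap B L b' * algebraMap A L π + algebraMap A L a₁ := by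
        have h := congrArg (algebraMap B L) hb'
        rw [map_mul, map_sub, hPiB, ← IsScalarTower.algebraMap_apply A B L] at h
        linear_combination (-1 : L) * h
      refine ⟨a' + algebraMap A K a₁ / algebraMap A K π ^ (N + 1), r₀, ?_⟩
      intro F _ _ _ V ϖ r Nmax tgt hr hN
      have haK : algebraMap K L (a' + algebraMap A K a₁ / algebraMap A K π ^ (N + 1)) =
          algebraMap K L a' + algebraMap A L a₁ / algebraMap A L π ^ (N + 1) := by
        rw [map_add, map_div₀, map_pow, ← IsScalarTower.algebraMap_apply A K L,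
          ← IsScalarTower.algebraMap_apply A K L]
      have key : algebraMap B L b / algebraMap A L π ^ (N + 1) -
          algebraMap K L (a' + algebraMap A K a₁ / algebraMap A K π ^ (N + 1)) =
          algebraMap B L b' / algebraMap A L π ^ N - algebraMap K L a' := by
        rw [hbL, haK, h3]; ring
      rw [key]
      exact (hI F V ϖ r Nmax tgt hr (Nat.le_of_succ_le hN)).mono (Nat.le_succ N)
    · rw [hπB, Ideal.mem_span_singleton'] at hbg
      obtain ⟨b', hb'⟩ := hbg
      have hbL : algebraMap B L b =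
          algebraMap B L b' * algebraMap A L π + algebraMap B L g ^ (p ^ m) := by
        have h := congrArg (algebraMap B L) hb'
        rw [map_mul, map_sub, hPiB, map_pow] at h
        linear_combination (-1 : L) * h
      by_cases h2a : p ∣ N + 1 ∧ 0 < m
      · obtain ⟨⟨j, hj⟩, hm⟩ := h2a
        obtain ⟨m', rfl⟩ : ∃ m', m = m' + 1 := ⟨m - 1, by omega⟩
        have h2j : 2 * j ≤ p * j := Nat.mul_le_mul_right j hp.out.two_le
        obtain ⟨e, he⟩ : ∃ e, N = j + e := ⟨N - j, by omega⟩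
        obtain ⟨a, r₀, hI⟩ := ih (g ^ (p ^ m') * algebraMap A B π ^ e + b')
        refine ⟨a, r₀, ?_⟩
        intro F _ _ _ V ϖ r Nmax tgt hr hN
        have hb''L : algebraMap B L (g ^ (p ^ m') * algebraMap A B π ^ e + b') =
            algebraMap B L g ^ (p ^ m') * algebraMap A L π ^ e + algebraMap B L b' := by
          rw [map_add, map_mul, map_pow, map_pow, hPiB]
        have h1 : (algebraMap B L g ^ (p ^ m') / algebraMap A L π ^ j) ^ p =
            algebraMap B L g ^ (p ^ (m' + 1)) / algebraMap A L π ^ (N + 1) := by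
          rw [div_pow, ← pow_mul, ← pow_mul, ← pow_succ, mul_comm j p, ← hj]
        have h2 : (algebraMap B L g ^ (p ^ m') * algebraMap A L π ^ e + algebraMap B L b') /
            algebraMap A L π ^ N =
            algebraMap B L g ^ (p ^ m') / algebraMap A L π ^ j +
              algebraMap B L b' / algebraMap A L π ^ N := by
          rw [add_div, he, pow_add, mul_div_mul_right _ _ (pow_ne_zero e hPi0)]
        have key : algebraMap B L b / algebraMap A L π ^ (N + 1) - algebraMap K L a =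
            (algebraMap B L (g ^ (p ^ m') * algebraMap A B π ^ e + b') / algebraMap A L π ^ N -
              algebraMap K L a) +
            ((algebraMap B L g ^ (p ^ m') / algebraMap A L π ^ j) ^ p -
              algebraMap B L g ^ (p ^ m') / algebraMap A L π ^ j) := by
          rw [hbL, hb''L, h3, h2, h1]; ring
        have hc : algebraMap L F ((algebraMap B L g ^ (p ^ m') / algebraMap A L π ^ j) ^ p -
            algebraMap B L g ^ (p ^ m') / algebraMap A L π ^ j) =
            (algebraMap L F (algebraMap B L g ^ (p ^ m') / algebraMap A L π ^ j)) ^ p -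
              algebraMap L F (algebraMap B L g ^ (p ^ m') / algebraMap A L π ^ j) := by
          rw [map_sub, map_pow]
        rw [key, map_add, hc]
        exact ((hI F V ϖ r Nmax tgt hr (Nat.le_of_succ_le hN)).add_InG (InG.wp _)).mono
          (Nat.le_succ N)
      · obtain ⟨a, r₀', hI⟩ := ih b'
        refine ⟨a, max r₀' (m + 1), ?_⟩
        intro F _ _ _ V ϖ r Nmax tgt hr hN
        have hr1 : r₀' ≤ r := le_trans (le_max_left _ _) hr
        have hr2 : m + 1 ≤ r := le_trans (le_max_right _ _) hr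
        obtain ⟨d, hd⟩ : ∃ d, r = m + (d + 1) := ⟨r - m - 1, by omega⟩
        have key : algebraMap B L b / algebraMap A L π ^ (N + 1) - algebraMap K L a =
            (algebraMap B L b' / algebraMap A L π ^ N - algebraMap K L a) +
              algebraMap B L g ^ (p ^ m) * (algebraMap A L π ^ (N + 1))⁻¹ := by
          rw [hbL, h3]; ring
        have hF : algebraMap L F
            (algebraMap B L b / algebraMap A L π ^ (N + 1) - algebraMap K L a) =
            algebraMap L F (algebraMap B L b' / algebraMap A L π ^ N - algebraMap K L a) +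
              algebraMap L F (algebraMap B L g) ^ (p ^ m) *
                (algebraMap L F (algebraMap A L π) ^ (N + 1))⁻¹ := by
          rw [key, map_add, map_mul, map_pow, map_inv₀, map_pow]
        rw [hF]
        exact Concl.step hd tgt.ϖ_ne tgt.ϖ_lt
          (hI F V ϖ r Nmax tgt hr1 (Nat.le_of_succ_le hN)) h2a (tgt.memB g)
          (tgt.nonpow g hg) (tgt.prec (N + 1) hN)

end NF

end Groth.Agent.Helper22.EppNF
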