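import Mathlib
import Groth.Prelude.Def_EtRam
import Groth.Agent.Lib.Helper22.Abh

/-!
# Base change of a tamely ramified extension along an extension of DVRs (S9307)
-/

set_option autoImplicit false
universe u

open TensorProduct IsLocalRing

namespace Groth.Agent.Helper22.TameBC

open Groth.Agent.Helper22.SolTower Groth.Agent.Helper22.WUGen Groth.Agent.Helper22.CompCtx
  Groth.Agent.Helper22.WUSep Groth.Agent.Helper22.KummerCT Groth.Agent.Helper22.Abh

theorem exists_bezout (c₁ cB : ℕ) (h₁ : 0 < c₁) (hB : 0 < cB) (hc : Nat.Coprime c₁ cB) :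
    ∃ p q : ℕ, p * c₁ = q * cB + 1 := by
  rcases Nat.lt_or_ge 1 cB with h | h
  · obtain ⟨m, _, hm⟩ := Nat.exists_mul_mod_eq_one_of_coprime hc h
    refine ⟨m, c₁ * m / cB, ?_⟩
    have h3 := Nat.div_add_mod (c₁ * m) cB
    rw [hm] at h3
    rw [mul_comm m c₁, mul_comm (c₁ * m / cB) cB]
    exact h3.symm
  · have h1 : cB = 1 := by omega
    exact ⟨1, c₁ - 1, by rw [h1]; omega⟩

theorem ramIdx_eq' {R S : Type*} [CommRing R] [IsLocalRing R] [CommRing S] [IsDomain S]
    [IsLocalRing S] [Algebra R S] (πR : R) (hπR : maximalIdeal R = Ideal.span {πR}) (πS : S)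
    (hπS : maximalIdeal S = Ideal.span {πS}) (hπS0 : πS ≠ 0) (n : ℕ) (u : S) (hu : IsUnit u)
    (h : algebraMap R S πR = πS ^ n * u) :
    Ideal.ramificationIdx' (maximalIdeal R) (maximalIdeal S) = n := by
  have hnu : ¬ IsUnit πS := by
    have h3 : πS ∈ maximalIdeal S := by rw [hπS]; exact Ideal.mem_span_singleton_self _
    exact (mem_maximalIdeal _).mp h3
  have hmap : Ideal.map (algebraMap R S) (maximalIdeal R) = (maximalIdeal S) ^ n := by
    rw [hπR, hπS, Ideal.map_span, Set.image_singleton, Ideal.span_singleton_pow,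
      Ideal.span_singleton_eq_span_singleton]
    obtain ⟨u', rfl⟩ := hu
    exact Associated.symm ⟨u', h.symm⟩
  apply Ideal.ramificationIdx'_spec
  · rw [hmap]
  · rw [hmap, hπS, Ideal.span_singleton_pow, Ideal.span_singleton_pow,
      Ideal.span_singleton_le_span_singleton, pow_dvd_pow_iff hπS0 hnu]
    omega

theorem isSeparable_of_pow_eq (k E : Type*) [Field k] [Field E] [Algebra k E] (g : ℕ)
    (hg : ((g : ℕ) : k) ≠ 0) (c t : E) (hc : IsSeparable k c) (hc0 : c ≠ 0) (ht : t ^ g = c) :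
    IsSeparable k t := by
  have hcS : c ∈ separableClosure k E := mem_separableClosure_iff.mpr hc
  haveI : Algebra.IsSeparable k (separableClosure k E) := separableClosure.isSeparable k E
  apply IsSeparable.of_algebra_isSeparable_of_isSeparable k (E := separableClosure k E)
  have hgS : ((g : ℕ) : separableClosure k E) ≠ 0 := by
    have h3 : algebraMap k (separableClosure k E) ((g : ℕ) : k) ≠ 0 :=
      (_root_.map_ne_zero _).mpr hg
    rwa [map_natCast] at h3
  have hc0' : (⟨c, hcS⟩ : separableClosure k E) ≠ 0 := fun h => hc0 (congrArg Subtype.val h)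
  have hsep : (Polynomial.X ^ g - Polynomial.C (⟨c, hcS⟩ : separableClosure k E) :
      Polynomial (separableClosure k E)).Separable :=
    Polynomial.separable_X_pow_sub_C _ hgS hc0'
  have hroot : Polynomial.aeval t (Polynomial.X ^ g -
      Polynomial.C (⟨c, hcS⟩ : separableClosure k E) : Polynomial (separableClosure k E)) = 0 := by
    rw [map_sub, map_pow, Polynomial.aeval_X, Polynomial.aeval_C, ht]
    exact sub_self c
  exact hsep.of_dvd (minpoly.dvd (separableClosure k E) t hroot)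

theorem tame_core (A B K L K₁ M : Type u) [CommRing A] [IsDomain A] [IsDiscreteValuationRing A]
    [CommRing B] [IsDomain B] [IsDiscreteValuationRing B] [Algebra A B]
    [IsLocalHom (algebraMap A B)] (hinj : Function.Injective (algebraMap A B))
    [Field K] [Field L] [Field K₁] [Field M] [Algebra A K] [IsFractionRing A K] [Algebra B L]
    [IsFractionRing B L]
    [Algebra K L] [Algebra A L] [IsScalarTower A K L] [IsScalarTower A B L]
    [Algebra K K₁] [FiniteDimensional K K₁] [Algebra K M] [Algebra L M] [Algebra K₁ M]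
    [IsScalarTower K L M] [IsScalarTower K K₁ M]
    (htame : EtRam.IsTamelyRamified A ((algebraMap K K₁).comp (algebraMap A K)))
    (hadj : Algebra.adjoin L (Set.range (algebraMap K₁ M)) = ⊤) (W : ValuationSubring M)
    (hW : EtRam.Dominates B ((algebraMap L M).comp (algebraMap B L)) W) :
    letI : Algebra B W :=
      (RingHom.codRestrict ((algebraMap L M).comp (algebraMap B L)) W hW.1).toAlgebra
    ∀ (_ : IsLocalHom (algebraMap B W)),
      Algebra.IsSeparable (ResidueField B) (ResidueField W) ∧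
      ∀ p : ℕ, p.Prime → CharP (ResidueField B) p →
        ¬ p ∣ Ideal.ramificationIdx' (maximalIdeal B) (maximalIdeal W) := by
  classical
  intro instLoc
  letI algBW : Algebra B W :=
    (RingHom.codRestrict ((algebraMap L M).comp (algebraMap B L)) W hW.1).toAlgebra
  haveI : IsLocalHom (algebraMap B W) := instLoc
  show Algebra.IsSeparable (ResidueField B) (ResidueField W) ∧
      ∀ p : ℕ, p.Prime → CharP (ResidueField B) p →
        ¬ p ∣ Ideal.ramificationIdx' (maximalIdeal B) (maximalIdeal W)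
  have hdomA := dominates_bottom A B K L K₁ M W hW
  letI algAV : Algebra A (W.comap (algebraMap K₁ M)) :=
    (RingHom.codRestrict ((algebraMap K K₁).comp (algebraMap A K)) _ hdomA.1).toAlgebra
  haveI locAV : IsLocalHom (algebraMap A (W.comap (algebraMap K₁ M))) :=
    isLocalHom_of_dominates _ _ hdomA
  haveI dvrV : IsDiscreteValuationRing (W.comap (algebraMap K₁ M)) :=
    isDVR_of_dominates A K K₁ _ hdomA
  haveI intκ : Algebra.IsIntegral (ResidueField A)
      (ResidueField (W.comap (algebraMap K₁ M))) :=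
    residue_isIntegral A K K₁ _ hdomA locAV
  obtain ⟨hsepA, htameA⟩ := @htame (W.comap (algebraMap K₁ M)) hdomA locAV
  haveI : Algebra.IsSeparable (ResidueField A) (ResidueField (W.comap (algebraMap K₁ M))) :=
    hsepA
  obtain ⟨πA, hπA⟩ := IsDiscreteValuationRing.exists_irreducible A
  obtain ⟨πB, hπB⟩ := IsDiscreteValuationRing.exists_irreducible B
  obtain ⟨π₁, hπ₁⟩ := IsDiscreteValuationRing.exists_irreducible (W.comap (algebraMap K₁ M))
  have hπAmem : πA ∈ maximalIdeal A := (mem_maximalIdeal _).mpr hπA.not_isUnit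
  have hneB : algebraMap A B πA ≠ 0 := fun h0 => hπA.ne_zero ((map_eq_zero_iff _ hinj).mp h0)
  obtain ⟨eB, wB, hB⟩ := IsDiscreteValuationRing.associated_pow_irreducible hneB hπB
  have hinjAV : Function.Injective (algebraMap A (W.comap (algebraMap K₁ M))) :=
    injective_codRestrict A K K₁ _ hdomA
  have hne : algebraMap A (W.comap (algebraMap K₁ M)) πA ≠ 0 := fun h0 =>
    hπA.ne_zero ((map_eq_zero_iff _ hinjAV).mp h0)
  obtain ⟨e₁, u₁, h₁⟩ := IsDiscreteValuationRing.associated_pow_irreducible hne hπ₁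
  have hram₁ : Ideal.ramificationIdx' (maximalIdeal A)
      (maximalIdeal (W.comap (algebraMap K₁ M))) = e₁ :=
    ramIdx_eq πA hπA π₁ hπ₁ e₁ u₁ h₁
  have heB0 : 0 < eB := by
    rcases Nat.eq_zero_or_pos eB with h | h
    · exfalso
      rw [h, pow_zero] at hB
      have hu : IsUnit (algebraMap A B πA) := IsUnit.of_mul_eq_one _ hB
      exact (mem_maximalIdeal _).mp (map_nonunit (algebraMap A B) πA hπAmem) hu
    · exact h
  have he₁0 : 0 < e₁ := by
    rcases Nat.eq_zero_or_pos e₁ with h | h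
    · exfalso
      rw [h, pow_zero] at h₁
      have hu : IsUnit (algebraMap A (W.comap (algebraMap K₁ M)) πA) :=
        IsUnit.of_mul_eq_one _ h₁
      exact (mem_maximalIdeal _).mp
        (map_nonunit (algebraMap A (W.comap (algebraMap K₁ M))) πA hπAmem) hu
    · exact h
  -- the gcd and the Bezout relation
  obtain ⟨c₁, cB, hcop, hc₁, hcB⟩ := Nat.exists_coprime e₁ eB
  obtain ⟨g, hgdef⟩ : ∃ g : ℕ, g = Nat.gcd e₁ eB := ⟨_, rfl⟩
  rw [← hgdef] at hc₁ hcB
  have hg0 : 0 < g := by rw [hgdef]; exact Nat.gcd_pos_of_pos_left _ he₁0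
  have hc₁0 : 0 < c₁ := by
    rcases Nat.eq_zero_or_pos c₁ with h | h
    · rw [h, zero_mul] at hc₁; omega
    · exact h
  have hcB0 : 0 < cB := by
    rcases Nat.eq_zero_or_pos cB with h | h
    · rw [h, zero_mul] at hcB; omega
    · exact h
  obtain ⟨p, q, hpq⟩ := exists_bezout c₁ cB hc₁0 hcB0 hcop
  have hge₁ : g ∣ e₁ := Dvd.intro_left c₁ hc₁.symm
  have hgκ : ((g : ℕ) : ResidueField A) ≠ 0 := by
    obtain ⟨p', hp'⟩ := CharP.exists (ResidueField A)
    intro h
    have h3 : p' ∣ g := (CharP.cast_eq_zero_iff (ResidueField A) p' g).mp h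
    rcases CharP.char_is_prime_or_zero (ResidueField A) p' with hpp | hp0
    · have h4 : ¬ p' ∣ Ideal.ramificationIdx' (maximalIdeal A)
          (maximalIdeal (W.comap (algebraMap K₁ M))) := htameA p' hpp hp'
      rw [hram₁] at h4
      exact h4 (dvd_trans h3 hge₁)
    · rw [hp0] at h3
      have h5 := Nat.eq_zero_of_zero_dvd h3
      omega
  -- the two maps to `W`
  obtain ⟨θ₁, hθ₁⟩ : ∃ θ₁ : B →+* W,
      θ₁ = RingHom.codRestrict ((algebraMap L M).comp (algebraMap B L)) W hW.1 := ⟨_, rfl⟩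
  obtain ⟨θ₂, hθ₂⟩ : ∃ θ₂ : (W.comap (algebraMap K₁ M)) →+* W,
      θ₂ = EtRam.inclOfComap W (algebraMap K₁ M) := ⟨_, rfl⟩
  haveI locθ₂ : IsLocalHom θ₂ := by rw [hθ₂]; infer_instance
  haveI locθ₁ : IsLocalHom θ₁ := by rw [hθ₁]; exact isLocalHom_of_dominates _ _ hW
  have hθ₁v : ∀ b : B, ((θ₁ b : W) : M) = algebraMap L M (algebraMap B L b) := by
    intro b; rw [hθ₁]; rfl
  have hθ₂v : ∀ v : W.comap (algebraMap K₁ M), ((θ₂ v : W) : M) = algebraMap K₁ M (v : K₁) := by
    intro v; rw [hθ₂]; rfl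
  have hθ₁alg : ∀ b : B, algebraMap B W b = θ₁ b := by
    intro b; rw [hθ₁]; rfl
  have hcompat : ∀ a : A, θ₁ (algebraMap A B a) =
      θ₂ (algebraMap A (W.comap (algebraMap K₁ M)) a) := by
    intro a
    apply Subtype.ext
    rw [hθ₁v, hθ₂v]
    exact (compat_apply A B K L K₁ M a).symm
  have hθ₁inj : Function.Injective θ₁ := by
    intro x y hxy
    have h1 : algebraMap L M (algebraMap B L x) = algebraMap L M (algebraMap B L y) := by
      rw [← hθ₁v, ← hθ₁v, hxy]
    exact IsFractionRing.injective B L ((algebraMap L M).injective h1)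
  have hθ₂inj : Function.Injective θ₂ := by
    intro x y hxy
    have h1 : algebraMap K₁ M (x : K₁) = algebraMap K₁ M (y : K₁) := by
      rw [← hθ₂v, ← hθ₂v, hxy]
    exact Subtype.ext ((algebraMap K₁ M).injective h1)
  have hπBmem : πB ∈ maximalIdeal B := (mem_maximalIdeal _).mpr hπB.not_isUnit
  have hπBm : θ₁ πB ∈ maximalIdeal W := map_nonunit θ₁ _ hπBmem
  have hπB0 : θ₁ πB ≠ 0 := fun h0 => hπB.ne_zero (hθ₁inj (by rw [h0, map_zero]))
  have hπ₁mem : π₁ ∈ maximalIdeal (W.comap (algebraMap K₁ M)) :=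
    (mem_maximalIdeal _).mpr hπ₁.not_isUnit
  have hπ0 : θ₂ π₁ ≠ 0 := fun h0 => hπ₁.ne_zero (hθ₂inj (by rw [h0, map_zero]))
  have hsepB : ∀ w : W, w ≠ 0 → ∃ n : ℕ, ¬ (θ₁ πB) ^ n ∣ w := by
    apply sep_of_dvd W θ₁ hθ₁inj _ πB hπB hπBm
    intro w hw0
    rw [hθ₁]
    exact exists_dvd B K L K₁ M hadj W hW w hw0
  -- elements of `M`
  obtain ⟨x, hx⟩ : ∃ x : M, x = ((θ₁ πB : W) : M) := ⟨_, rfl⟩
  obtain ⟨y, hy⟩ : ∃ y : M, y = ((θ₂ π₁ : W) : M) := ⟨_, rfl⟩
  have hx0 : x ≠ 0 := by rw [hx]; exact fun h => hπB0 (Subtype.ext h)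
  have hy0 : y ≠ 0 := by rw [hy]; exact fun h => hπ0 (Subtype.ext h)
  obtain ⟨P', hP'⟩ : ∃ P' : M, P' = ((θ₁ (algebraMap A B πA) : W) : M) := ⟨_, rfl⟩
  have hP'0 : P' ≠ 0 := by
    rw [hP']
    intro h
    exact hneB (hθ₁inj (by rw [map_zero]; exact Subtype.ext h))
  obtain ⟨wB', hwB'⟩ : ∃ wB' : M, wB' = ((θ₁ (wB : B) : W) : M) := ⟨_, rfl⟩
  obtain ⟨wBi', hwBi'⟩ : ∃ wBi' : M, wBi' = ((θ₁ ((wB⁻¹ : Bˣ) : B) : W) : M) := ⟨_, rfl⟩
  obtain ⟨u', hu'⟩ : ∃ u' : M,
      u' = ((θ₂ (u₁ : W.comap (algebraMap K₁ M)) : W) : M) := ⟨_, rfl⟩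
  have hwB : wB' * wBi' = 1 := by
    rw [hwB', hwBi']
    have h3 : θ₁ (wB : B) * θ₁ ((wB⁻¹ : Bˣ) : B) = 1 := by
      rw [← map_mul, Units.mul_inv, map_one]
    exact congrArg Subtype.val h3
  have hwB'0 : wB' ≠ 0 := left_ne_zero_of_mul_eq_one hwB
  have E1 : P' * wB' = x ^ eB := by
    rw [hP', hwB', hx]
    have h3 : θ₁ (algebraMap A B πA) * θ₁ (wB : B) = (θ₁ πB) ^ eB := by
      rw [← map_mul, hB, map_pow]
    exact congrArg Subtype.val h3
  have E2 : P' * u' = y ^ e₁ := by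
    rw [hP', hu', hy]
    have h3 : θ₁ (algebraMap A B πA) * θ₂ (u₁ : W.comap (algebraMap K₁ M)) =
        (θ₂ π₁) ^ e₁ := by
      rw [hcompat, ← map_mul, h₁, map_pow]
    exact congrArg Subtype.val h3
  -- the root `t` of a unit
  obtain ⟨t, ht⟩ : ∃ t : M, t = y ^ c₁ / x ^ cB := ⟨_, rfl⟩
  have ht0 : t ≠ 0 := by
    rw [ht]; exact div_ne_zero (pow_ne_zero _ hy0) (pow_ne_zero _ hx0)
  have hyg : (y ^ c₁) ^ g = P' * u' := by rw [← pow_mul, ← hc₁, E2]
  have hxg : (x ^ cB) ^ g = P' * wB' := by rw [← pow_mul, ← hcB, E1]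
  have hteg : t ^ g = wBi' * u' := by
    rw [ht, div_pow, hyg, hxg, div_eq_iff (mul_ne_zero hP'0 hwB'0)]
    linear_combination (-(P' * u')) * hwB
  have hcW : wBi' * u' ∈ W := by
    rw [hwBi', hu']
    exact mul_mem (θ₁ _).2 (θ₂ _).2
  have htW : t ∈ W := by
    rcases W.mem_or_inv_mem t with h | h
    · exact h
    · obtain ⟨k, hk⟩ : ∃ k, g = k + 1 := ⟨g - 1, by omega⟩
      have e : t = t ^ g * (t⁻¹) ^ k := by
        rw [hk, inv_pow, pow_succ, mul_assoc, mul_comm t, ← mul_assoc,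
          mul_inv_cancel₀ (pow_ne_zero k ht0), one_mul]
      rw [e, hteg]
      exact mul_mem hcW (pow_mem h k)
  obtain ⟨τ, hτdef⟩ : ∃ τ : W, τ = ⟨t, htW⟩ := ⟨_, rfl⟩
  have hτv : (τ : M) = t := by rw [hτdef]
  have hτ : τ ^ g = θ₁ ((wB⁻¹ : Bˣ) : B) * θ₂ (u₁ : W.comap (algebraMap K₁ M)) := by
    apply Subtype.ext
    show (τ : M) ^ g = ((θ₁ ((wB⁻¹ : Bˣ) : B) : W) : M) *
      ((θ₂ (u₁ : W.comap (algebraMap K₁ M)) : W) : M)
    rw [hτv, hteg, hwBi', hu']
  have hτu : IsUnit τ := by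
    have h3 : IsUnit (τ ^ g) := by
      rw [hτ]
      exact ((wB⁻¹).isUnit.map θ₁).mul (u₁.isUnit.map θ₂)
    exact (isUnit_pow_iff hg0.ne').mp h3
  -- the uniformizer
  obtain ⟨ϖM, hϖM⟩ : ∃ ϖM : M, ϖM = x ^ p / y ^ q := ⟨_, rfl⟩
  have hϖM0 : ϖM ≠ 0 := by
    rw [hϖM]; exact div_ne_zero (pow_ne_zero _ hx0) (pow_ne_zero _ hy0)
  have hA1 : (x ^ p / y ^ q) ^ c₁ = x ^ (q * cB) * x / y ^ (q * c₁) := by
    rw [div_pow, ← pow_mul, ← pow_mul, hpq, pow_succ]
  have hA2 : (y ^ c₁ / x ^ cB) ^ q = y ^ (q * c₁) / x ^ (q * cB) := by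
    rw [div_pow, ← pow_mul, ← pow_mul, mul_comm c₁ q, mul_comm cB q]
  have hX : x = ϖM ^ c₁ * t ^ q := by
    rw [hϖM, ht, hA1, hA2, div_mul_div_comm,
      eq_div_iff (mul_ne_zero (pow_ne_zero _ hy0) (pow_ne_zero _ hx0))]
    ring
  have hB1 : (x ^ p / y ^ q) ^ cB = x ^ (p * cB) / y ^ (q * cB) := by
    rw [div_pow, ← pow_mul, ← pow_mul]
  have hB2 : (y ^ c₁ / x ^ cB) ^ p = y ^ (q * cB) * y / x ^ (p * cB) := by
    rw [div_pow, ← pow_mul, ← pow_mul, mul_comm c₁ p, hpq, pow_succ, mul_comm cB p]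
  have hY : y = ϖM ^ cB * t ^ p := by
    rw [hϖM, ht, hB1, hB2, div_mul_div_comm,
      eq_div_iff (mul_ne_zero (pow_ne_zero _ hy0) (pow_ne_zero _ hx0))]
    ring
  have hnotinv : ϖM⁻¹ ∉ W := by
    intro hinv
    have h3 : τ ^ q = θ₁ πB * (⟨ϖM⁻¹, hinv⟩ : W) ^ c₁ := by
      apply Subtype.ext
      show (τ : M) ^ q = ((θ₁ πB : W) : M) * (ϖM⁻¹) ^ c₁
      rw [hτv, ← hx, inv_pow, eq_mul_inv_iff_mul_eq₀ (pow_ne_zero _ hϖM0), mul_comm]
      exact hX.symm
    have h4 : IsUnit (τ ^ q) := hτu.pow q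
    rw [h3] at h4
    exact (mem_maximalIdeal _).mp (Ideal.mul_mem_right _ _ hπBm) h4
  have hϖW : ϖM ∈ W := (W.mem_or_inv_mem ϖM).resolve_right hnotinv
  obtain ⟨ϖ, hϖdef⟩ : ∃ ϖ : W, ϖ = ⟨ϖM, hϖW⟩ := ⟨_, rfl⟩
  have hϖv : (ϖ : M) = ϖM := by rw [hϖdef]
  have hϖm : ϖ ∈ maximalIdeal W := by
    rw [mem_maximalIdeal, mem_nonunits_iff]
    intro hu
    obtain ⟨v, hv⟩ := hu.exists_right_inv
    apply hnotinv
    have h4 : (ϖ : M) * (v : M) = 1 := congrArg Subtype.val hv
    rw [hϖv] at h4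
    rw [← eq_inv_of_mul_eq_one_right h4]
    exact v.2
  have hϖ0 : ϖ ≠ 0 := by
    intro h
    apply hϖM0
    rw [← hϖv, h]
    rfl
  have hθ₁πB : θ₁ πB = ϖ ^ c₁ * τ ^ q := by
    apply Subtype.ext
    show ((θ₁ πB : W) : M) = (ϖ : M) ^ c₁ * (τ : M) ^ q
    rw [hϖv, hτv, ← hx]
    exact hX
  have hθ₂π₁ : θ₂ π₁ = ϖ ^ cB * τ ^ p := by
    apply Subtype.ext
    show ((θ₂ π₁ : W) : M) = (ϖ : M) ^ cB * (τ : M) ^ p
    rw [hϖv, hτv, ← hy]
    exact hY
  have hsep : ∀ w : W, w ≠ 0 → ∃ n : ℕ, ¬ ϖ ^ n ∣ w := by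
    intro w hw0
    obtain ⟨n, hn⟩ := hsepB w hw0
    refine ⟨c₁ * n, fun hdiv => hn ?_⟩
    have h3 : (θ₁ πB) ^ n = ϖ ^ (c₁ * n) * (τ ^ q) ^ n := by rw [hθ₁πB, mul_pow, ← pow_mul]
    have h4 : (θ₁ πB) ^ n ∣ w * (τ ^ q) ^ n := by rw [h3]; exact mul_dvd_mul_right hdiv _
    exact (((hτu.pow q).pow n).dvd_mul_right).mp h4
  have hE : VNR (ResidueField (W.comap (algebraMap K₁ M)) ⊗[ResidueField A] ResidueField B) :=
    vnr_of_separable _ _ _
  haveI hredE' : IsReduced
      (ResidueField (W.comap (algebraMap K₁ M)) ⊗[ResidueField A] ResidueField B) :=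
    hE.isReduced
  haveI hredE : IsReduced (ResidueField B ⊗[ResidueField A]
      ResidueField (W.comap (algebraMap K₁ M))) :=
    isReduced_of_injective (Algebra.TensorProduct.comm (ResidueField A) (ResidueField B)
      (ResidueField (W.comap (algebraMap K₁ M)))) (AlgEquiv.injective _)
  have hτcl : τ ∈ Subring.closure (Set.range θ₁ ∪ Set.range θ₂ ∪ {τ, ϖ}) :=
    Subring.subset_closure (Set.mem_union_right _ (Set.mem_insert _ _))
  have hϖcl : ϖ ∈ Subring.closure (Set.range θ₁ ∪ Set.range θ₂ ∪ {τ, ϖ}) :=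
    Subring.subset_closure
      (Set.mem_union_right _ (Set.mem_insert_of_mem _ (Set.mem_singleton _)))
  have h1 : ∃ s ∈ Subring.closure (Set.range θ₁ ∪ Set.range θ₂ ∪ {τ, ϖ}),
      θ₁ πB = ϖ * s := by
    refine ⟨ϖ ^ (c₁ - 1) * τ ^ q,
      Subring.mul_mem _ (Subring.pow_mem _ hϖcl _) (Subring.pow_mem _ hτcl _), ?_⟩
    rw [hθ₁πB, ← mul_assoc, mul_pow_sub_one hc₁0.ne']
  have h2 : ∃ s ∈ Subring.closure (Set.range θ₁ ∪ Set.range θ₂ ∪ {τ, ϖ}),
      θ₂ π₁ = ϖ * s := by
    refine ⟨ϖ ^ (cB - 1) * τ ^ p,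
      Subring.mul_mem _ (Subring.pow_mem _ hϖcl _) (Subring.pow_mem _ hτcl _), ?_⟩
    rw [hθ₂π₁, ← mul_assoc, mul_pow_sub_one hcB0.ne']
  obtain ⟨hC1, hC2⟩ := GKT A B (W.comap (algebraMap K₁ M)) M W θ₁ θ₂ hcompat πB
    hπB.maximalIdeal_eq π₁ hπ₁.maximalIdeal_eq τ ϖ g hg0 hgκ ((wB⁻¹ : Bˣ) : B) (wB⁻¹).isUnit
    (u₁ : W.comap (algebraMap K₁ M)) u₁.isUnit hτ h1 h2
    hϖm hϖ0 hsep (fun S h1 h2 hinv =>
      gen_comp B L K₁ M hadj W S (fun b => by rw [← hθ₁v]; exact h1 b)
        (fun k hk => by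
          have h3 := h2 ⟨k, hk⟩
          rw [hθ₂v] at h3
          exact h3) hinv)
  have hmW : maximalIdeal W = Ideal.span {ϖ} := by
    apply le_antisymm
    · intro w hw
      exact Ideal.mem_span_singleton.mpr (hC1 w hw)
    · rw [Ideal.span_singleton_le_iff_mem]
      exact hϖm
  have hramW : Ideal.ramificationIdx' (maximalIdeal B) (maximalIdeal W) = c₁ :=
    ramIdx_eq' πB hπB.maximalIdeal_eq ϖ hmW hϖ0 c₁ (τ ^ q) (hτu.pow q)
      (by rw [hθ₁alg]; exact hθ₁πB)
  have hgkB : ((g : ℕ) : ResidueField B) ≠ 0 := by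
    have h3 : algebraMap (ResidueField A) (ResidueField B) ((g : ℕ) : ResidueField A) ≠ 0 :=
      (_root_.map_ne_zero _).mpr hgκ
    rwa [map_natCast] at h3
  refine ⟨?_, ?_⟩
  · -- separable residue field extension
    have hringhom : (algebraMap (ResidueField B) (ResidueField W)).comp
        (algebraMap (ResidueField A) (ResidueField B)) =
        (ResidueField.map θ₂).comp (algebraMap (ResidueField A)
          (ResidueField (W.comap (algebraMap K₁ M)))) := by
      refine RingHom.ext (fun c => ?_)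
      obtain ⟨a, rfl⟩ := residue_surjective c
      show residue W (algebraMap B W (algebraMap A B a)) =
        residue W (θ₂ (algebraMap A (W.comap (algebraMap K₁ M)) a))
      rw [hθ₁alg, hcompat]
    have hP1 : ∀ b : B, IsSeparable (ResidueField B) (residue W (θ₁ b)) := by
      intro b
      rw [← hθ₁alg]
      have hz : residue W (algebraMap B W b) =
          algebraMap (ResidueField B) (ResidueField W) (residue B b) := rfl
      rw [hz]
      exact isSeparable_algebraMap _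
    have hP2 : ∀ v : W.comap (algebraMap K₁ M),
        IsSeparable (ResidueField B) (residue W (θ₂ v)) := by
      intro v
      have hz : residue W (θ₂ v) = ResidueField.map θ₂ (residue _ v) := rfl
      rw [hz]
      have hx1 : IsSeparable (ResidueField A) (residue (W.comap (algebraMap K₁ M)) v) :=
        Algebra.IsSeparable.isSeparable (ResidueField A) _
      have hq : Polynomial.aeval (ResidueField.map θ₂ (residue _ v))
          ((minpoly (ResidueField A) (residue (W.comap (algebraMap K₁ M)) v)).map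
            (algebraMap (ResidueField A) (ResidueField B))) = 0 := by
        rw [Polynomial.aeval_def, Polynomial.eval₂_map, hringhom, ← Polynomial.hom_eval₂,
          ← Polynomial.aeval_def, minpoly.aeval, map_zero]
      have hx' : (minpoly (ResidueField A)
          (residue (W.comap (algebraMap K₁ M)) v)).Separable := hx1
      exact Polynomial.Separable.of_dvd
        (Polynomial.Separable.map (f := algebraMap (ResidueField A) (ResidueField B)) hx')
        (minpoly.dvd (ResidueField B) _ hq)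
    have hPτ : IsSeparable (ResidueField B) (residue W τ) := by
      refine isSeparable_of_pow_eq (ResidueField B) (ResidueField W) g hgkB
        (residue W (θ₁ ((wB⁻¹ : Bˣ) : B)) *
          residue W (θ₂ (u₁ : W.comap (algebraMap K₁ M)))) (residue W τ) ?_ ?_ ?_
      · exact Field.isSeparable_mul (hP1 _) (hP2 _)
      · rw [← map_mul]
        exact ((((wB⁻¹).isUnit.map θ₁).mul (u₁.isUnit.map θ₂)).map (residue W)).ne_zero
      · rw [← map_pow, hτ, map_mul]
    rw [Algebra.isSeparable_def]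
    intro z
    obtain ⟨w, rfl⟩ := residue_surjective z
    refine hC2 (fun w => IsSeparable (ResidueField B) (residue W w)) hP1 hP2 hPτ ?_ ?_ ?_ ?_ w
    · show IsSeparable (ResidueField B) (residue W ϖ)
      have h0 : residue W ϖ = 0 := (residue_eq_zero_iff _).mpr hϖm
      rw [h0, ← map_zero (algebraMap (ResidueField B) (ResidueField W))]
      exact isSeparable_algebraMap _
    · intro x y hx hy
      show IsSeparable (ResidueField B) (residue W (x + y))
      rw [map_add]; exact Field.isSeparable_add hx hy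
    · intro x y hx hy
      show IsSeparable (ResidueField B) (residue W (x * y))
      rw [map_mul]; exact Field.isSeparable_mul hx hy
    · intro x y hx hxy
      show IsSeparable (ResidueField B) (residue W y)
      have h1 : residue W y = (residue W x)⁻¹ :=
        eq_inv_of_mul_eq_one_right (by rw [← map_mul, hxy, map_one])
      rw [h1]; exact Field.isSeparable_inv hx
  · -- the ramification index is prime to the residue characteristic
    intro p' hp' hcp'
    rw [hramW]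
    intro hdvd
    have hcpA : CharP (ResidueField A) p' :=
      ((algebraMap (ResidueField A) (ResidueField B)).charP_iff
        (algebraMap (ResidueField A) (ResidueField B)).injective p').mpr hcp'
    have h4 : ¬ p' ∣ Ideal.ramificationIdx' (maximalIdeal A)
        (maximalIdeal (W.comap (algebraMap K₁ M))) := htameA p' hp' hcpA
    rw [hram₁] at h4
    apply h4
    rw [hc₁]
    exact Dvd.dvd.mul_right hdvd g

theorem main (A B K L K' : Type u) [CommRing A] [IsDomain A]
    [IsDiscreteValuationRing A] [CommRing B] [IsDomain B] [IsDiscreteValuationRing B] [Algebra A B]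
    [IsLocalHom (algebraMap A B)] (hinj : Function.Injective (algebraMap A B))
    [Field K] [Field L] [Field K'] [Algebra A K] [IsFractionRing A K] [Algebra B L]
    [IsFractionRing B L]
    [Algebra K L] [Algebra A L] [IsScalarTower A K L] [IsScalarTower A B L]
    [Algebra K K'] [FiniteDimensional K K']
    (h : EtRam.IsTamelyRamified A ((algebraMap K K').comp (algebraMap A K)))
    (F : Type u) [Field F] [Algebra (K' ⊗[K] L) F]
    (hF : Function.Surjective (algebraMap (K' ⊗[K] L) F)) :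
    EtRam.IsTamelyRamified B ((algebraMap (K' ⊗[K] L) F).comp
      ((Algebra.TensorProduct.includeRight : L →ₐ[K] K' ⊗[K] L).toRingHom.comp
        (algebraMap B L))) := by
  intro V hV
  letI algLF : Algebra L F := ((algebraMap (K' ⊗[K] L) F).comp
    (Algebra.TensorProduct.includeRight : L →ₐ[K] K' ⊗[K] L).toRingHom).toAlgebra
  letI algK'F : Algebra K' F := ((algebraMap (K' ⊗[K] L) F).comp
    (Algebra.TensorProduct.includeLeftRingHom : K' →+* K' ⊗[K] L)).toAlgebra
  letI algKF : Algebra K F := ((algebraMap L F).comp (algebraMap K L)).toAlgebra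
  haveI : IsScalarTower K L F := IsScalarTower.of_algebraMap_eq (fun _ => rfl)
  haveI : IsScalarTower K K' F := IsScalarTower.of_algebraMap_eq (fun k => by
    show algebraMap (K' ⊗[K] L) F ((1 : K') ⊗ₜ[K] algebraMap K L k) =
      algebraMap (K' ⊗[K] L) F ((algebraMap K K' k) ⊗ₜ[K] (1 : L))
    have e : (1 : K') ⊗ₜ[K] algebraMap K L k = (algebraMap K K' k) ⊗ₜ[K] (1 : L) := by
      rw [Algebra.algebraMap_eq_smul_one, Algebra.algebraMap_eq_smul_one, TensorProduct.smul_tmul]
    rw [e])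
  have hLF : ∀ l : L, algebraMap L F l = algebraMap (K' ⊗[K] L) F ((1 : K') ⊗ₜ[K] l) :=
    fun l => rfl
  have hK'F : ∀ k : K', algebraMap K' F k = algebraMap (K' ⊗[K] L) F (k ⊗ₜ[K] (1 : L)) :=
    fun k => rfl
  have hadj : Algebra.adjoin L (Set.range (algebraMap K' F)) = ⊤ := by
    have key : ∀ t : K' ⊗[K] L, algebraMap (K' ⊗[K] L) F t ∈
        Algebra.adjoin L (Set.range (algebraMap K' F)) := by
      intro t
      induction t using TensorProduct.induction_on with
      | zero => rw [map_zero]; exact Subalgebra.zero_mem _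
      | tmul k l =>
        have h1 : k ⊗ₜ[K] l = (k ⊗ₜ[K] (1 : L)) * ((1 : K') ⊗ₜ[K] l) := by
          rw [Algebra.TensorProduct.tmul_mul_tmul, mul_one, one_mul]
        rw [h1, map_mul, ← hLF, ← hK'F]
        exact Subalgebra.mul_mem _ (Algebra.subset_adjoin ⟨k, rfl⟩) (Subalgebra.algebraMap_mem _ l)
      | add x y hx hy => rw [map_add]; exact Subalgebra.add_mem _ hx hy
    apply eq_top_iff.mpr
    intro x _
    obtain ⟨t, rfl⟩ := hF x
    exact key t
  intro inst
  exact tame_core A B K L K' F hinj h hadj V hV inst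

end Groth.Agent.Helper22.TameBC
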