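import Mathlib
import Groth.Prelude.Def_EtRam
import Groth.Agent.Lib.Helper22.TameBC
import Groth.Agent.S1990

/-!
# Composita and Galois closures of unramified / tamely ramified extensions (S1991)
-/

set_option autoImplicit false
universe u

open TensorProduct IsLocalRing

namespace Groth.Agent.Helper22.GalClos

open Groth.Agent.Helper22.SolTower Groth.Agent.Helper22.WUGen Groth.Agent.Helper22.CompCtx
  Groth.Agent.Helper22.WUSep Groth.Agent.Helper22.KummerCT Groth.Agent.Helper22.Abh
  Groth.Agent.Helper22.TameBC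

/-! ### trivial extensions -/

theorem fin_of_surj (K E : Type u) [Field K] [Field E] [Algebra K E]
    (hs : Function.Surjective (algebraMap K E)) : FiniteDimensional K E :=
  Module.Finite.of_surjective (Algebra.linearMap K E) hs

theorem sep_of_surj (K E : Type u) [Field K] [Field E] [Algebra K E]
    (hs : Function.Surjective (algebraMap K E)) : Algebra.IsSeparable K E := by
  rw [Algebra.isSeparable_def]
  intro x
  obtain ⟨k, rfl⟩ := hs x
  exact isSeparable_algebraMap k

theorem unram_self (A K M : Type u) [CommRing A] [IsDomain A] [IsDiscreteValuationRing A]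
    [Field K] [Algebra A K] [IsFractionRing A K] [Field M] [Algebra K M]
    (hsurj : Function.Surjective (algebraMap K M)) :
    EtRam.IsUnramifiedExt A ((algebraMap K M).comp (algebraMap A K)) := by
  intro V hV
  intro instLoc
  letI algAV : Algebra A V :=
    (RingHom.codRestrict ((algebraMap K M).comp (algebraMap A K)) V hV.1).toAlgebra
  haveI : IsLocalHom (algebraMap A V) := instLoc
  show EtRam.IsWeaklyUnramified A V ∧
    Algebra.IsSeparable (ResidueField A) (ResidueField V)
  have hAV : ∀ a : A, ((algebraMap A V a : V) : M) = algebraMap K M (algebraMap A K a) :=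
    fun a => rfl
  have hsurjAV : Function.Surjective (algebraMap A V) := by
    intro v
    obtain ⟨k, hk⟩ := hsurj (v : M)
    rcases ValuationRing.isInteger_or_isInteger A k with h | h
    · obtain ⟨a, ha⟩ := RingHom.mem_rangeS.mp h
      exact ⟨a, Subtype.ext (by rw [hAV, ha, hk])⟩
    · obtain ⟨a, ha⟩ := RingHom.mem_rangeS.mp h
      by_cases hv0 : (v : M) = 0
      · exact ⟨0, Subtype.ext (by rw [map_zero, hv0]; rfl)⟩
      · have hmul : (algebraMap A V a) * v = 1 := by
          apply Subtype.ext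
          show ((algebraMap A V a : V) : M) * (v : M) = 1
          rw [hAV, ha, map_inv₀, hk, inv_mul_cancel₀ hv0]
        have hu : IsUnit (algebraMap A V a) := IsUnit.of_mul_eq_one _ hmul
        have hua : IsUnit a := instLoc.map_nonunit a hu
        obtain ⟨u, rfl⟩ := hua
        refine ⟨((u⁻¹ : Aˣ) : A), ?_⟩
        have h1 : algebraMap A V (u : A) * algebraMap A V ((u⁻¹ : Aˣ) : A) = 1 := by
          rw [← map_mul, Units.mul_inv, map_one]
        calc algebraMap A V ((u⁻¹ : Aˣ) : A)
            = algebraMap A V ((u⁻¹ : Aˣ) : A) * (algebraMap A V (u : A) * v) := by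
              rw [hmul, mul_one]
          _ = (algebraMap A V (u : A) * algebraMap A V ((u⁻¹ : Aˣ) : A)) * v := by ring
          _ = v := by rw [h1, one_mul]
  constructor
  · show (maximalIdeal A).map (algebraMap A V) = maximalIdeal V
    apply le_antisymm
    · exact Ideal.map_le_iff_le_comap.mpr (fun a ha => map_nonunit (algebraMap A V) a ha)
    · intro w hw
      obtain ⟨a, rfl⟩ := hsurjAV w
      apply Ideal.mem_map_of_mem
      rw [mem_maximalIdeal, mem_nonunits_iff]
      intro hu
      exact (mem_maximalIdeal _).mp hw (hu.map (algebraMap A V))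
  · rw [Algebra.isSeparable_def]
    intro z
    obtain ⟨w, rfl⟩ := residue_surjective z
    obtain ⟨a, rfl⟩ := hsurjAV w
    have hz : residue V (algebraMap A V a) =
        algebraMap (ResidueField A) (ResidueField V) (residue A a) := rfl
    rw [hz]
    exact isSeparable_algebraMap _

theorem tame_of_unram (A K M : Type u) [CommRing A] [IsDomain A] [IsDiscreteValuationRing A]
    [Field K] [Algebra A K] [IsFractionRing A K] [Field M] [Algebra K M]
    (h : EtRam.IsUnramifiedExt A ((algebraMap K M).comp (algebraMap A K))) :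
    EtRam.IsTamelyRamified A ((algebraMap K M).comp (algebraMap A K)) := by
  intro V hV
  intro instLoc
  letI algAV : Algebra A V :=
    (RingHom.codRestrict ((algebraMap K M).comp (algebraMap A K)) V hV.1).toAlgebra
  haveI : IsLocalHom (algebraMap A V) := instLoc
  obtain ⟨hwu, hsep⟩ := @h V hV instLoc
  show Algebra.IsSeparable (ResidueField A) (ResidueField V) ∧
    ∀ p : ℕ, p.Prime → CharP (ResidueField A) p →
      ¬ p ∣ Ideal.ramificationIdx' (maximalIdeal A) (maximalIdeal V)
  refine ⟨hsep, ?_⟩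
  intro p hp _
  obtain ⟨πA, hπA⟩ := IsDiscreteValuationRing.exists_irreducible A
  have hinjAV : Function.Injective (algebraMap A V) := by
    intro x y hxy
    have h1 : algebraMap K M (algebraMap A K x) = algebraMap K M (algebraMap A K y) :=
      congrArg Subtype.val hxy
    exact IsFractionRing.injective A K ((algebraMap K M).injective h1)
  have hmV : maximalIdeal V = Ideal.span {algebraMap A V πA} := by
    have h3 : (maximalIdeal A).map (algebraMap A V) = maximalIdeal V := hwu
    rw [← h3, hπA.maximalIdeal_eq, Ideal.map_span, Set.image_singleton]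
  have hram : Ideal.ramificationIdx' (maximalIdeal A) (maximalIdeal V) = 1 :=
    ramIdx_eq' πA hπA.maximalIdeal_eq (algebraMap A V πA) hmV
      (fun h0 => hπA.ne_zero (hinjAV (by rw [h0, map_zero]))) 1 1 isUnit_one
      (by rw [pow_one, mul_one])
  rw [hram]
  intro hdvd
  have h5 := Nat.le_of_dvd one_pos hdvd
  have h6 := hp.one_lt
  omega

/-! ### finiteness and separability of a compositum -/

theorem fin_sep_of_adj (K L₁ L₂ M : Type u) [Field K] [Field L₁] [Field L₂] [Field M]
    [Algebra K L₁] [Algebra K L₂] [Algebra K M] [Algebra L₁ M] [Algebra L₂ M]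
    [IsScalarTower K L₁ M] [IsScalarTower K L₂ M] [FiniteDimensional K L₁]
    [FiniteDimensional K L₂] [Algebra.IsSeparable K L₁] [Algebra.IsSeparable K L₂]
    (hadj : Algebra.adjoin L₁ (Set.range (algebraMap L₂ M)) = ⊤) :
    FiniteDimensional K M ∧ Algebra.IsSeparable K M := by
  obtain ⟨Φ, hΦ⟩ : ∃ Φ : L₁ ⊗[K] L₂ →ₐ[K] M,
      Φ = Algebra.TensorProduct.productMap (IsScalarTower.toAlgHom K L₁ M)
        (IsScalarTower.toAlgHom K L₂ M) := ⟨_, rfl⟩
  have hΦt : ∀ x y, Φ (x ⊗ₜ[K] y) = algebraMap L₁ M x * algebraMap L₂ M y := by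
    intro x y
    rw [hΦ, Algebra.TensorProduct.productMap_apply_tmul]
    rfl
  have hsurj : Function.Surjective Φ := by
    have key : ∀ m ∈ Algebra.adjoin L₁ (Set.range (algebraMap L₂ M)), m ∈ Φ.range := by
      intro m hm
      induction hm using Algebra.adjoin_induction with
      | mem x hx =>
        obtain ⟨l, rfl⟩ := hx
        exact (AlgHom.mem_range Φ).mpr ⟨1 ⊗ₜ l, by rw [hΦt, map_one, one_mul]⟩
      | algebraMap l =>
        exact (AlgHom.mem_range Φ).mpr ⟨l ⊗ₜ 1, by rw [hΦt, map_one, mul_one]⟩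
      | add x y _ _ hx hy => exact Φ.range.add_mem hx hy
      | mul x y _ _ hx hy => exact Φ.range.mul_mem hx hy
    intro m
    exact (AlgHom.mem_range Φ).mp (key m (by rw [hadj]; exact Algebra.mem_top))
  constructor
  · exact Module.Finite.of_surjective Φ.toLinearMap hsurj
  · rw [Algebra.isSeparable_def]
    intro m
    obtain ⟨t, rfl⟩ := hsurj m
    induction t using TensorProduct.induction_on with
    | zero =>
      rw [map_zero, ← map_zero (algebraMap K M)]
      exact isSeparable_algebraMap _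
    | tmul x y =>
      rw [hΦt]
      apply Field.isSeparable_mul
      · show (minpoly K (algebraMap L₁ M x)).Separable
        rw [minpoly.algebraMap_eq (algebraMap L₁ M).injective]
        exact Algebra.IsSeparable.isSeparable K x
      · show (minpoly K (algebraMap L₂ M y)).Separable
        rw [minpoly.algebraMap_eq (algebraMap L₂ M).injective]
        exact Algebra.IsSeparable.isSeparable K y
    | add x y hx hy =>
      rw [map_add]
      exact Field.isSeparable_add hx hy

/-! ### composita of unramified / tamely ramified extensions -/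

theorem comp_unram (A K L₁ L₂ M : Type u) [CommRing A] [IsDomain A] [IsDiscreteValuationRing A]
    [Field K] [Algebra A K] [IsFractionRing A K] [Field L₁] [Field L₂] [Field M]
    [Algebra K L₁] [Algebra K L₂] [Algebra K M] [Algebra L₁ M] [Algebra L₂ M]
    [IsScalarTower K L₁ M] [IsScalarTower K L₂ M] [FiniteDimensional K L₁]
    [FiniteDimensional K L₂] [Algebra.IsSeparable K L₁] [Algebra.IsSeparable K L₂]
    (hadj : Algebra.adjoin L₁ (Set.range (algebraMap L₂ M)) = ⊤)
    (h₁ : EtRam.IsUnramifiedExt A ((algebraMap K L₁).comp (algebraMap A K)))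
    (h₂ : EtRam.IsUnramifiedExt A ((algebraMap K L₂).comp (algebraMap A K))) :
    EtRam.IsUnramifiedExt A ((algebraMap K M).comp (algebraMap A K)) := by
  obtain ⟨hfin, hsep⟩ := fin_sep_of_adj K L₁ L₂ M hadj
  haveI := hfin
  haveI := hsep
  refine (Groth.Agent.S1990.result A K L₁ M).2 h₁ (fun V hV => ?_)
  letI algAV : Algebra A V :=
    (RingHom.codRestrict ((algebraMap K L₁).comp (algebraMap A K)) V hV.1).toAlgebra
  haveI locAV : IsLocalHom (algebraMap A V) := isLocalHom_of_dominates _ _ hV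
  haveI dvrV : IsDiscreteValuationRing V := isDVR_of_dominates A K L₁ V hV
  letI algAL : Algebra A L₁ := ((algebraMap K L₁).comp (algebraMap A K)).toAlgebra
  haveI : IsScalarTower A K L₁ := IsScalarTower.of_algebraMap_eq (fun _ => rfl)
  haveI : IsScalarTower A V L₁ := IsScalarTower.of_algebraMap_eq (fun _ => rfl)
  intro W hW
  intro inst
  exact unram_core A V K L₁ L₂ M h₂ hadj W hW inst

theorem comp_tame (A K L₁ L₂ M : Type u) [CommRing A] [IsDomain A] [IsDiscreteValuationRing A]
    [Field K] [Algebra A K] [IsFractionRing A K] [Field L₁] [Field L₂] [Field M]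
    [Algebra K L₁] [Algebra K L₂] [Algebra K M] [Algebra L₁ M] [Algebra L₂ M]
    [IsScalarTower K L₁ M] [IsScalarTower K L₂ M] [FiniteDimensional K L₁]
    [FiniteDimensional K L₂] [Algebra.IsSeparable K L₁] [Algebra.IsSeparable K L₂]
    (hadj : Algebra.adjoin L₁ (Set.range (algebraMap L₂ M)) = ⊤)
    (h₁ : EtRam.IsTamelyRamified A ((algebraMap K L₁).comp (algebraMap A K)))
    (h₂ : EtRam.IsTamelyRamified A ((algebraMap K L₂).comp (algebraMap A K))) :
    EtRam.IsTamelyRamified A ((algebraMap K M).comp (algebraMap A K)) := by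
  obtain ⟨hfin, hsep⟩ := fin_sep_of_adj K L₁ L₂ M hadj
  haveI := hfin
  haveI := hsep
  refine (Groth.Agent.S1990.result A K L₁ M).1 h₁ (fun V hV => ?_)
  letI algAV : Algebra A V :=
    (RingHom.codRestrict ((algebraMap K L₁).comp (algebraMap A K)) V hV.1).toAlgebra
  haveI locAV : IsLocalHom (algebraMap A V) := isLocalHom_of_dominates _ _ hV
  haveI dvrV : IsDiscreteValuationRing V := isDVR_of_dominates A K L₁ V hV
  have hinjAV : Function.Injective (algebraMap A V) := injective_codRestrict A K L₁ V hV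
  letI algAL : Algebra A L₁ := ((algebraMap K L₁).comp (algebraMap A K)).toAlgebra
  haveI : IsScalarTower A K L₁ := IsScalarTower.of_algebraMap_eq (fun _ => rfl)
  haveI : IsScalarTower A V L₁ := IsScalarTower.of_algebraMap_eq (fun _ => rfl)
  intro W hW
  intro inst
  exact tame_core A V K L₁ L₂ M hinjAV h₂ hadj W hW inst

/-! ### composita inside an algebraic closure -/

theorem adjoin_eq_top_of_sup (K Ω L₁ L₂ : Type u) [Field K] [Field Ω] [Field L₁] [Field L₂]
    [Algebra K Ω] [Algebra.IsAlgebraic K Ω] [Algebra K L₁] [Algebra K L₂]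
    (N : IntermediateField K Ω) [Algebra L₁ N] [Algebra L₂ N] [IsScalarTower K L₁ N]
    (E₁ E₂ : IntermediateField K Ω) (hN : N = E₁ ⊔ E₂)
    (h₁ : ∀ ω ∈ E₁, ∃ x : L₁, ((algebraMap L₁ N x : N) : Ω) = ω)
    (h₂ : ∀ ω ∈ E₂, ∃ y : L₂, ((algebraMap L₂ N y : N) : Ω) = ω) :
    Algebra.adjoin L₁ (Set.range (algebraMap L₂ N)) = ⊤ := by
  obtain ⟨T, hT⟩ : ∃ T : Subalgebra L₁ N,
      T = Algebra.adjoin L₁ (Set.range (algebraMap L₂ N)) := ⟨_, rfl⟩
  rw [← hT]
  have hle₁ : E₁.toSubalgebra ≤ (T.restrictScalars K).map N.val := by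
    intro ω hω
    obtain ⟨x, hx⟩ := h₁ ω ((IntermediateField.mem_toSubalgebra _ _).mp hω)
    exact Subalgebra.mem_map.mpr ⟨algebraMap L₁ N x,
      (Subalgebra.mem_restrictScalars K).mpr (Subalgebra.algebraMap_mem T x), hx⟩
  have hle₂ : E₂.toSubalgebra ≤ (T.restrictScalars K).map N.val := by
    intro ω hω
    obtain ⟨y, hy⟩ := h₂ ω ((IntermediateField.mem_toSubalgebra _ _).mp hω)
    refine Subalgebra.mem_map.mpr ⟨algebraMap L₂ N y,
      (Subalgebra.mem_restrictScalars K).mpr ?_, hy⟩
    rw [hT]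
    exact Algebra.subset_adjoin ⟨y, rfl⟩
  have hsup : (E₁ ⊔ E₂).toSubalgebra ≤ (T.restrictScalars K).map N.val := by
    rw [IntermediateField.sup_toSubalgebra_of_isAlgebraic_left]
    exact sup_le hle₁ hle₂
  apply eq_top_iff.mpr
  intro n _
  have hn : (n : Ω) ∈ (E₁ ⊔ E₂).toSubalgebra := by
    rw [IntermediateField.mem_toSubalgebra, ← hN]
    exact n.2
  obtain ⟨m, hm, hmn⟩ := Subalgebra.mem_map.mp (hsup hn)
  have hmn' : m = n := Subtype.ext hmn
  rw [← hmn']
  exact (Subalgebra.mem_restrictScalars K).mp hm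

theorem exists_compositum (K L₁ L₂ : Type u) [Field K] [Field L₁] [Field L₂] [Algebra K L₁]
    [Algebra K L₂] [FiniteDimensional K L₁] [FiniteDimensional K L₂] :
    ∃ (M : Type u) (_ : Field M) (_ : Algebra K M) (_ : Algebra L₁ M) (_ : Algebra L₂ M)
      (_ : IsScalarTower K L₁ M) (_ : IsScalarTower K L₂ M),
      Algebra.adjoin L₁ (Set.range (algebraMap L₂ M)) = ⊤ := by
  obtain ⟨f₁⟩ : Nonempty (L₁ →ₐ[K] AlgebraicClosure K) := ⟨IsAlgClosed.lift⟩
  obtain ⟨f₂⟩ : Nonempty (L₂ →ₐ[K] AlgebraicClosure K) := ⟨IsAlgClosed.lift⟩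
  obtain ⟨N, hN⟩ : ∃ N : IntermediateField K (AlgebraicClosure K),
      N = f₁.fieldRange ⊔ f₂.fieldRange := ⟨_, rfl⟩
  have hle₁ : f₁.fieldRange ≤ N := by rw [hN]; exact le_sup_left
  have hle₂ : f₂.fieldRange ≤ N := by rw [hN]; exact le_sup_right
  letI a₁ : Algebra L₁ ↥N := (f₁.codRestrict N.toSubalgebra
    (fun x => hle₁ (AlgHom.mem_fieldRange.mpr ⟨x, rfl⟩))).toRingHom.toAlgebra
  letI a₂ : Algebra L₂ ↥N := (f₂.codRestrict N.toSubalgebra
    (fun x => hle₂ (AlgHom.mem_fieldRange.mpr ⟨x, rfl⟩))).toRingHom.toAlgebra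
  haveI t₁ : IsScalarTower K L₁ ↥N := IsScalarTower.of_algebraMap_eq (fun k =>
    Subtype.ext (f₁.commutes k).symm)
  haveI t₂ : IsScalarTower K L₂ ↥N := IsScalarTower.of_algebraMap_eq (fun k =>
    Subtype.ext (f₂.commutes k).symm)
  refine ⟨↥N, inferInstance, inferInstance, a₁, a₂, t₁, t₂, ?_⟩
  exact adjoin_eq_top_of_sup K (AlgebraicClosure K) L₁ L₂ N f₁.fieldRange f₂.fieldRange hN
    (fun ω hω => by
      obtain ⟨x, rfl⟩ := AlgHom.mem_fieldRange.mp hω
      exact ⟨x, rfl⟩)
    (fun ω hω => by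
      obtain ⟨y, rfl⟩ := AlgHom.mem_fieldRange.mp hω
      exact ⟨y, rfl⟩)

/-! ### Galois closures -/

section Closure
variable (K : Type u) [Field K] (Q : ∀ (E : Type u) [Field E] [Algebra K E], Prop)

theorem step
    (hcomp : ∀ (L₁ L₂ M : Type u) [Field L₁] [Field L₂] [Field M] [Algebra K L₁] [Algebra K L₂]
      [Algebra K M] [Algebra L₁ M] [Algebra L₂ M] [IsScalarTower K L₁ M] [IsScalarTower K L₂ M]
      [FiniteDimensional K L₁] [FiniteDimensional K L₂] [Algebra.IsSeparable K L₁]
      [Algebra.IsSeparable K L₂], Algebra.adjoin L₁ (Set.range (algebraMap L₂ M)) = ⊤ →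
      Q L₁ → Q L₂ → Q M)
    (L : Type u) [Field L] [Algebra K L] [FiniteDimensional K L] [Algebra.IsSeparable K L]
    (hL : Q L) (E : IntermediateField K (AlgebraicClosure K))
    (f : L →ₐ[K] AlgebraicClosure K)
    (hfin : FiniteDimensional K E) (hsep : Algebra.IsSeparable K E) (hQ : Q E) :
    FiniteDimensional K ↥(f.fieldRange ⊔ E) ∧ Algebra.IsSeparable K ↥(f.fieldRange ⊔ E) ∧
      Q ↥(f.fieldRange ⊔ E) := by
  obtain ⟨N, hN⟩ : ∃ N : IntermediateField K (AlgebraicClosure K),
      N = f.fieldRange ⊔ E := ⟨_, rfl⟩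
  rw [← hN]
  have hle₁ : E ≤ N := by rw [hN]; exact le_sup_right
  have hle₂ : f.fieldRange ≤ N := by rw [hN]; exact le_sup_left
  letI a₁ : Algebra ↥E ↥N := (IntermediateField.inclusion hle₁).toRingHom.toAlgebra
  letI a₂ : Algebra L ↥N := (f.codRestrict N.toSubalgebra
    (fun x => hle₂ (AlgHom.mem_fieldRange.mpr ⟨x, rfl⟩))).toRingHom.toAlgebra
  haveI t₁ : IsScalarTower K ↥E ↥N := IsScalarTower.of_algebraMap_eq (fun k => rfl)
  haveI t₂ : IsScalarTower K L ↥N := IsScalarTower.of_algebraMap_eq (fun k =>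
    Subtype.ext (f.commutes k).symm)
  have hadj : Algebra.adjoin ↥E (Set.range (algebraMap L ↥N)) = ⊤ :=
    adjoin_eq_top_of_sup K (AlgebraicClosure K) ↥E L N E f.fieldRange
      (by rw [hN]; exact sup_comm _ _)
      (fun ω hω => ⟨⟨ω, hω⟩, rfl⟩)
      (fun ω hω => by
        obtain ⟨x, rfl⟩ := AlgHom.mem_fieldRange.mp hω
        exact ⟨x, rfl⟩)
  obtain ⟨h1, h2⟩ := fin_sep_of_adj K ↥E L ↥N hadj
  exact ⟨h1, h2, hcomp ↥E L ↥N hadj hQ hL⟩

theorem galois_closure
    (hbot : ∀ (E : Type u) [Field E] [Algebra K E], Function.Surjective (algebraMap K E) → Q E)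
    (hcomp : ∀ (L₁ L₂ M : Type u) [Field L₁] [Field L₂] [Field M] [Algebra K L₁] [Algebra K L₂]
      [Algebra K M] [Algebra L₁ M] [Algebra L₂ M] [IsScalarTower K L₁ M] [IsScalarTower K L₂ M]
      [FiniteDimensional K L₁] [FiniteDimensional K L₂] [Algebra.IsSeparable K L₁]
      [Algebra.IsSeparable K L₂], Algebra.adjoin L₁ (Set.range (algebraMap L₂ M)) = ⊤ →
      Q L₁ → Q L₂ → Q M)
    (L : Type u) [Field L] [Algebra K L] [FiniteDimensional K L] [Algebra.IsSeparable K L]
    (hL : Q L) :
    ∃ (M : Type u) (_ : Field M) (_ : Algebra K M) (_ : FiniteDimensional K M)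
      (_ : IsGalois K M) (_ : L →ₐ[K] M), Q M := by
  classical
  have key : ∀ S : Finset (L →ₐ[K] AlgebraicClosure K),
      FiniteDimensional K ↥(S.sup (fun f => f.fieldRange)) ∧
      Algebra.IsSeparable K ↥(S.sup (fun f => f.fieldRange)) ∧
      Q ↥(S.sup (fun f => f.fieldRange)) := by
    intro S
    induction S using Finset.induction_on with
    | empty =>
      rw [Finset.sup_empty]
      have hs : Function.Surjective
          (algebraMap K ↥(⊥ : IntermediateField K (AlgebraicClosure K))) := by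
        intro x
        obtain ⟨k, hk⟩ := IntermediateField.mem_bot.mp x.2
        exact ⟨k, Subtype.ext hk⟩
      exact ⟨fin_of_surj _ _ hs, sep_of_surj _ _ hs, hbot _ hs⟩
    | insert f S hf ih =>
      rw [Finset.sup_insert]
      exact step K Q hcomp L hL _ f ih.1 ih.2.1 ih.2.2
  obtain ⟨hfin, hsep, hQ⟩ := key Finset.univ
  rw [Finset.sup_univ_eq_iSup] at hfin hsep hQ
  haveI hnorm : Normal K ↥(⨆ f : L →ₐ[K] AlgebraicClosure K, f.fieldRange) :=
    normalClosure.normal K L (AlgebraicClosure K)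
  have hgal : IsGalois K ↥(⨆ f : L →ₐ[K] AlgebraicClosure K, f.fieldRange) :=
    isGalois_iff.mpr ⟨hsep, hnorm⟩
  obtain ⟨f₀⟩ : Nonempty (L →ₐ[K] AlgebraicClosure K) := ⟨IsAlgClosed.lift⟩
  refine ⟨↥(⨆ f : L →ₐ[K] AlgebraicClosure K, f.fieldRange), inferInstance, inferInstance,
    hfin, hgal, f₀.codRestrict
      (⨆ f : L →ₐ[K] AlgebraicClosure K, f.fieldRange).toSubalgebra
      (fun x => (le_iSup (fun f : L →ₐ[K] AlgebraicClosure K => f.fieldRange) f₀)
        (AlgHom.mem_fieldRange.mpr ⟨x, rfl⟩)), hQ⟩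

end Closure

end Groth.Agent.Helper22.GalClos
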