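import Mathlib
import Groth.Prelude.Def_EtRam
import Groth.Agent.Lib.Helper22.GalClos
import Groth.Agent.Lib.Helper22.TotRam

/-!
# Tamely ramified extensions become unramified after adjoining a root of the uniformizer
(S9329, S9328)
-/

set_option autoImplicit false
universe u

open TensorProduct IsLocalRing

namespace Groth.Agent.Helper22.TameKum

open Groth.Agent.Helper22.SolTower Groth.Agent.Helper22.WUGen Groth.Agent.Helper22.CompCtx
  Groth.Agent.Helper22.WUSep Groth.Agent.Helper22.KummerCT Groth.Agent.Helper22.Abh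
  Groth.Agent.Helper22.TameBC Groth.Agent.Helper22.GalClos Groth.Agent.Helper22.TotRam

/-! ### small generalities -/

theorem geomRed_of_separable (κ k : Type u) [Field κ] [Field k] [Algebra κ k]
    [Algebra.IsSeparable κ k] : Algebra.IsGeometricallyReduced κ k := by
  rw [Algebra.isGeometricallyReduced_field_iff]
  haveI : IsReduced (k ⊗[κ] AlgebraicClosure κ) :=
    (vnr_of_separable κ k (AlgebraicClosure κ)).isReduced
  exact isReduced_of_injective (Algebra.TensorProduct.comm κ (AlgebraicClosure κ) k)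
    (AlgEquiv.injective _)

theorem dominates_of_comap {L M : Type u} [Field L] [Field M] (W : ValuationSubring M)
    (j : L →+* M) : EtRam.Dominates (W.comap j) (j.comp (W.comap j).subtype) W := by
  refine ⟨fun v => ValuationSubring.mem_comap.mp v.2, fun v hv => ?_⟩
  have h3 : EtRam.inclOfComap W j v ∈ maximalIdeal W :=
    map_nonunit (EtRam.inclOfComap W j) v hv
  exact (ValuationSubring.valuation_lt_one_iff W _).mp h3

theorem exists_compositum2 (K L₁ L₂ : Type u) [Field K] [Field L₁] [Field L₂] [Algebra K L₁]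
    [Algebra K L₂] [FiniteDimensional K L₁] [FiniteDimensional K L₂] :
    ∃ (M : Type u) (_ : Field M) (_ : Algebra K M) (_ : Algebra L₁ M) (_ : Algebra L₂ M)
      (_ : IsScalarTower K L₁ M) (_ : IsScalarTower K L₂ M),
      Algebra.adjoin L₁ (Set.range (algebraMap L₂ M)) = ⊤ ∧
      Algebra.adjoin L₂ (Set.range (algebraMap L₁ M)) = ⊤ := by
  obtain ⟨f₁⟩ : Nonempty (L₁ →ₐ[K] AlgebraicClosure K) := ⟨IsAlgClosed.lift⟩
  obtain ⟨f₂⟩ : Nonempty (L₂ →ₐ[K] AlgebraicClosure K) := ⟨IsAlgClosed.lift⟩
  obtain ⟨N, hN⟩ : ∃ N : IntermediateField K (AlgebraicClosure K),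
      N = f₁.fieldRange ⊔ f₂.fieldRange := ⟨_, rfl⟩
  have hle₁ : f₁.fieldRange ≤ N := by rw [hN]; exact le_sup_left
  have hle₂ : f₂.fieldRange ≤ N := by rw [hN]; exact le_sup_right
  letI a₁ : Algebra L₁ ↥N := (f₁.codRestrict N.toSubalgebra
    (fun x => hle₁ (AlgHom.mem_fieldRange.mpr ⟨x, rfl⟩))).toRingHom.toAlgebra
  letI a₂ : Algebra L₂ ↥N := (f₂.codRestrict N.toSubalgebra
    (fun x => hle₂ (AlgHom.mem_fieldRange.mpr ⟨x, rfl⟩))).toRingHom.toAlgebra
  haveI t₁ : IsScalarTower K L₁ ↥N := IsScalarTower.of_algebraMap_eq (fun k =>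
    Subtype.ext (f₁.commutes k).symm)
  haveI t₂ : IsScalarTower K L₂ ↥N := IsScalarTower.of_algebraMap_eq (fun k =>
    Subtype.ext (f₂.commutes k).symm)
  refine ⟨↥N, inferInstance, inferInstance, a₁, a₂, t₁, t₂, ?_, ?_⟩
  · exact adjoin_eq_top_of_sup K (AlgebraicClosure K) L₁ L₂ N f₁.fieldRange f₂.fieldRange hN
      (fun ω hω => by
        obtain ⟨x, rfl⟩ := AlgHom.mem_fieldRange.mp hω
        exact ⟨x, rfl⟩)
      (fun ω hω => by
        obtain ⟨y, rfl⟩ := AlgHom.mem_fieldRange.mp hω
        exact ⟨y, rfl⟩)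
  · exact adjoin_eq_top_of_sup K (AlgebraicClosure K) L₂ L₁ N f₂.fieldRange f₁.fieldRange
      (by rw [hN]; exact sup_comm _ _)
      (fun ω hω => by
        obtain ⟨y, rfl⟩ := AlgHom.mem_fieldRange.mp hω
        exact ⟨y, rfl⟩)
      (fun ω hω => by
        obtain ⟨x, rfl⟩ := AlgHom.mem_fieldRange.mp hω
        exact ⟨x, rfl⟩)

/-! ### the Kummer field -/

theorem exists_kummer_field (K : Type u) [Field K] (e : ℕ) (he : 0 < e) (c : K) (hc : c ≠ 0)
    (heK : ((e : ℕ) : K) ≠ 0) :
    ∃ (K' : Type u) (_ : Field K') (_ : Algebra K K') (z : K'),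
      FiniteDimensional K K' ∧ Algebra.IsSeparable K K' ∧ z ^ e = algebraMap K K' c ∧
      ∀ x : K', ∃ r : Polynomial K, r.natDegree < e ∧ x = Polynomial.aeval z r := by
  obtain ⟨f, hf⟩ : ∃ f : Polynomial K, f = Polynomial.X ^ e - Polynomial.C c := ⟨_, rfl⟩
  have hfmonic : f.Monic := by rw [hf]; exact Polynomial.monic_X_pow_sub_C c he.ne'
  have hfdeg : f.natDegree = e := by rw [hf]; exact Polynomial.natDegree_X_pow_sub_C
  have hfnu : ¬ IsUnit f := by
    intro hu
    have h3 := Polynomial.natDegree_eq_zero_of_isUnit hu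
    omega
  obtain ⟨q, hqm, hqirr, hqf⟩ := Polynomial.exists_monic_irreducible_factor f hfnu
  haveI : Fact (Irreducible q) := ⟨hqirr⟩
  have hmkf : AdjoinRoot.mk q f = 0 := AdjoinRoot.mk_eq_zero.mpr hqf
  have hsepf : f.Separable := by rw [hf]; exact Polynomial.separable_X_pow_sub_C c heK hc
  have hzroot : Polynomial.aeval (AdjoinRoot.root q) f = 0 := by
    rw [AdjoinRoot.aeval_eq, hmkf]
  refine ⟨AdjoinRoot q, inferInstance, inferInstance, AdjoinRoot.root q, ?_, ?_, ?_, ?_⟩
  · exact hqm.finite_adjoinRoot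
  · have hzsep : IsSeparable K (AdjoinRoot.root q) := hsepf.of_dvd (minpoly.dvd K _ hzroot)
    have hpow : ∀ n : ℕ, IsSeparable K ((AdjoinRoot.root q) ^ n) := by
      intro n
      induction n with
      | zero =>
        rw [pow_zero, ← map_one (algebraMap K (AdjoinRoot q))]
        exact isSeparable_algebraMap _
      | succ n ih =>
        rw [pow_succ]
        exact Field.isSeparable_mul ih hzsep
    rw [Algebra.isSeparable_def]
    intro x
    obtain ⟨p, rfl⟩ := AdjoinRoot.mk_surjective x
    rw [← AdjoinRoot.aeval_eq]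
    induction p using Polynomial.induction_on' with
    | add p₁ p₂ h₁ h₂ =>
      rw [map_add]
      exact Field.isSeparable_add h₁ h₂
    | monomial n a =>
      rw [Polynomial.aeval_monomial]
      exact Field.isSeparable_mul (isSeparable_algebraMap a) (hpow n)
  · have h3 := hzroot
    rw [hf, map_sub, map_pow, Polynomial.aeval_X, Polynomial.aeval_C] at h3
    exact sub_eq_zero.mp h3
  · intro x
    obtain ⟨p, rfl⟩ := AdjoinRoot.mk_surjective x
    refine ⟨p %ₘ f, ?_, ?_⟩
    · have hne1 : f ≠ 1 := by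
        intro h1
        rw [h1, Polynomial.natDegree_one] at hfdeg
        omega
      have h3 := Polynomial.natDegree_modByMonic_lt p hfmonic hne1
      rw [hfdeg] at h3
      exact h3
    · rw [AdjoinRoot.aeval_eq]
      have h4 : p = p %ₘ f + f * (p /ₘ f) := (Polynomial.modByMonic_add_div p f).symm
      conv_lhs => rw [h4]
      rw [map_add, map_mul, hmkf, zero_mul, add_zero]

/-! ### the Eisenstein span argument -/

theorem clear_denom (A K : Type u) [CommRing A] [IsDomain A] [IsDiscreteValuationRing A]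
    [Field K] [Algebra A K] [IsFractionRing A K] (π : A) (hπ : Irreducible π) (a : K) :
    ∃ (s : ℕ) (b : A), algebraMap A K π ^ s * a = algebraMap A K b := by
  obtain ⟨x, y, hy, rfl⟩ := IsFractionRing.div_surjective A a
  have hy0 : y ≠ 0 := nonZeroDivisors.ne_zero hy
  obtain ⟨n, u, hu⟩ := IsDiscreteValuationRing.associated_pow_irreducible hy0 hπ
  refine ⟨n, (u : A) * x, ?_⟩
  have hyK : algebraMap A K y ≠ 0 :=
    (map_ne_zero_iff _ (IsFractionRing.injective A K)).mpr hy0
  rw [← map_pow, ← hu, map_mul, map_mul, mul_div_assoc', div_eq_iff hyK]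
  ring

theorem clear_denoms (A K : Type u) [CommRing A] [IsDomain A] [IsDiscreteValuationRing A]
    [Field K] [Algebra A K] [IsFractionRing A K] (π : A) (hπ : Irreducible π) (a : ℕ → K)
    (e : ℕ) : ∃ s : ℕ, ∀ i < e, ∃ b : A, algebraMap A K π ^ s * a i = algebraMap A K b := by
  induction e with
  | zero => exact ⟨0, fun i hi => absurd hi (Nat.not_lt_zero i)⟩
  | succ e ih =>
    obtain ⟨s₁, h₁⟩ := ih
    obtain ⟨s₂, b₂, h₂⟩ := clear_denom A K π hπ (a e)
    refine ⟨s₁ + s₂, fun i hi => ?_⟩
    rcases Nat.lt_succ_iff_lt_or_eq.mp hi with h | h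
    · obtain ⟨b, hb⟩ := h₁ i h
      refine ⟨π ^ s₂ * b, ?_⟩
      rw [map_mul, map_pow, ← hb, pow_add]
      ring
    · refine ⟨π ^ s₁ * b₂, ?_⟩
      rw [h, map_mul, map_pow, ← h₂, pow_add]
      ring

theorem eis_claim (A K' : Type u) [CommRing A] [IsDomain A] [IsDiscreteValuationRing A]
    [Field K'] (g : A →+* K') (hginj : Function.Injective g) (π : A)
    (hπ : maximalIdeal A = Ideal.span {π}) (z : K') (e : ℕ) (he : 0 < e) (hz : z ^ e = g π)
    (V' : ValuationSubring K') (hAV : ∀ a : A, g a ∈ V') (hzV : z ∈ V') (hznu : z⁻¹ ∉ V')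
    (x : K') (hx : x ∈ V') :
    ∀ (s : ℕ) (b : ℕ → A), g π ^ s * x = ∑ i ∈ Finset.range e, g (b i) * z ^ i →
      ∃ c : ℕ → A, x = ∑ i ∈ Finset.range e, g (c i) * z ^ i := by
  classical
  have hπ0 : π ≠ 0 := by
    intro h0
    have h3 : maximalIdeal A = ⊥ := by
      rw [hπ, h0]
      exact Ideal.span_singleton_eq_bot.mpr rfl
    exact IsDiscreteValuationRing.not_a_field A h3
  have hgπ0 : g π ≠ 0 := fun h => hπ0 (hginj (by rw [h, map_zero]))
  have hz0 : z ≠ 0 := by
    intro h0
    rw [h0, zero_pow he.ne'] at hz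
    exact hgπ0 hz.symm
  intro s
  induction s with
  | zero =>
    intro b hb
    exact ⟨b, by rw [← hb, pow_zero, one_mul]⟩
  | succ s ih =>
    intro b hb
    by_cases hall : ∀ i, i < e → π ∣ b i
    · have hex : ∀ i, ∃ c : A, i < e → b i = π * c := by
        intro i
        by_cases hi : i < e
        · obtain ⟨c, hc⟩ := hall i hi
          exact ⟨c, fun _ => hc⟩
        · exact ⟨0, fun h => absurd h hi⟩
      choose c hc using hex
      apply ih c
      have h1 : g π * (g π ^ s * x) = g π * ∑ i ∈ Finset.range e, g (c i) * z ^ i := by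
        rw [← mul_assoc, ← pow_succ', hb, Finset.mul_sum]
        apply Finset.sum_congr rfl
        intro i hi
        rw [hc i (Finset.mem_range.mp hi), map_mul]
        ring
      exact mul_left_cancel₀ hgπ0 h1
    · exfalso
      push_neg at hall
      have hex : ∃ i, i < e ∧ ¬ π ∣ b i := hall
      obtain ⟨i₀, ⟨hi₀e, hi₀nd⟩, hmin'⟩ : ∃ i₀, (i₀ < e ∧ ¬ π ∣ b i₀) ∧
          ∀ i < i₀, ¬ (i < e ∧ ¬ π ∣ b i) :=
        ⟨Nat.find hex, Nat.find_spec hex, fun i hi => Nat.find_min hex hi⟩
      have hmin : ∀ i, i < i₀ → π ∣ b i := by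
        intro i hi
        by_contra hnd
        exact hmin' i hi ⟨lt_trans hi hi₀e, hnd⟩
      have hunit : IsUnit (b i₀) := by
        by_contra hnu
        have h3 : b i₀ ∈ maximalIdeal A := (mem_maximalIdeal _).mpr hnu
        rw [hπ, Ideal.mem_span_singleton] at h3
        exact hi₀nd h3
      obtain ⟨m, hm⟩ : ∃ m, e = i₀ + 1 + m := ⟨e - (i₀ + 1), by omega⟩
      have hD : ∀ (T : Finset ℕ), (∀ i ∈ T, i < e ∧ i ≠ i₀) →
          ∃ y ∈ V', ∑ i ∈ T, g (b i) * z ^ i = z ^ (i₀ + 1) * y := by
        intro T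
        induction T using Finset.induction_on with
        | empty =>
          intro _
          exact ⟨0, zero_mem V', by rw [Finset.sum_empty, mul_zero]⟩
        | insert i T hiT ihT =>
          intro hT
          obtain ⟨y, hy, hsum⟩ := ihT (fun j hj => hT j (Finset.mem_insert_of_mem hj))
          obtain ⟨hie, hine⟩ := hT i (Finset.mem_insert_self i T)
          rw [Finset.sum_insert hiT, hsum]
          rcases lt_or_gt_of_ne hine with hlt | hgt
          · obtain ⟨c, hc⟩ := hmin i hlt
            refine ⟨z ^ m * g c * z ^ i + y,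
              add_mem (mul_mem (mul_mem (pow_mem hzV m) (hAV c)) (pow_mem hzV i)) hy,
              ?_⟩
            rw [hc, map_mul, ← hz, hm]
            ring
          · obtain ⟨j, hj⟩ : ∃ j, i = i₀ + 1 + j := ⟨i - (i₀ + 1), by omega⟩
            refine ⟨g (b i) * z ^ j + y,
              add_mem (mul_mem (hAV _) (pow_mem hzV j)) hy, ?_⟩
            have hzi : z ^ i = z ^ (i₀ + 1) * z ^ j := by rw [hj, pow_add]
            rw [hzi]
            ring
      obtain ⟨y₂, hy₂, hrest⟩ := hD ((Finset.range e).erase i₀) (fun i hi => by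
        rw [Finset.mem_erase, Finset.mem_range] at hi
        exact ⟨hi.2, hi.1⟩)
      have hsplit : g (b i₀) * z ^ i₀ + ∑ i ∈ (Finset.range e).erase i₀, g (b i) * z ^ i =
          ∑ i ∈ Finset.range e, g (b i) * z ^ i :=
        Finset.add_sum_erase (Finset.range e) (fun i => g (b i) * z ^ i) (Finset.mem_range.mpr hi₀e)
      have hze : z ^ e = z ^ (i₀ + 1) * z ^ m := by rw [hm, pow_add]
      have htot : g π ^ (s + 1) * x = z ^ (i₀ + 1) * (z ^ m * g π ^ s * x) := by
        rw [pow_succ, ← hz, hze]
        ring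
      have hkey : g (b i₀) * z ^ i₀ = z ^ (i₀ + 1) * (z ^ m * g π ^ s * x - y₂) := by
        rw [mul_sub, ← htot, ← hrest, hb, ← hsplit]
        ring
      have hkey2 : g (b i₀) = z * (z ^ m * g π ^ s * x - y₂) := by
        have h3 : z ^ i₀ * g (b i₀) = z ^ i₀ * (z * (z ^ m * g π ^ s * x - y₂)) := by
          rw [mul_comm, hkey]
          ring
        exact mul_left_cancel₀ (pow_ne_zero _ hz0) h3
      have hy₁ : z ^ m * g π ^ s * x - y₂ ∈ V' :=
        sub_mem (mul_mem (mul_mem (pow_mem hzV m) (pow_mem (hAV π) s)) hx) hy₂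
      obtain ⟨u, hu⟩ := hunit
      apply hznu
      have h5 : g (b i₀) * g ((u⁻¹ : Aˣ) : A) = 1 := by
        rw [← hu, ← map_mul, Units.mul_inv, map_one]
      have h6 : z * ((z ^ m * g π ^ s * x - y₂) * g ((u⁻¹ : Aˣ) : A)) = 1 := by
        rw [← mul_assoc, ← hkey2, h5]
      rw [← eq_inv_of_mul_eq_one_right h6]
      exact mul_mem hy₁ (hAV _)

theorem eis_span (A K K' : Type u) [CommRing A] [IsDomain A] [IsDiscreteValuationRing A]
    [Field K] [Algebra A K] [IsFractionRing A K] [Field K'] [Algebra K K'] (π : A)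
    (hπ : maximalIdeal A = Ideal.span {π}) (z : K') (e : ℕ) (he : 0 < e)
    (hz : z ^ e = algebraMap K K' (algebraMap A K π))
    (hspan : ∀ x : K', ∃ r : Polynomial K, r.natDegree < e ∧ x = Polynomial.aeval z r)
    (V' : ValuationSubring K') (hAV : ∀ a : A, algebraMap K K' (algebraMap A K a) ∈ V')
    (hzV : z ∈ V') (hznu : z⁻¹ ∉ V') (x : K') (hx : x ∈ V') :
    ∃ c : ℕ → A, x = ∑ i ∈ Finset.range e, algebraMap K K' (algebraMap A K (c i)) * z ^ i := by
  have hπirr : Irreducible π := (IsDiscreteValuationRing.irreducible_iff_uniformizer π).mpr hπ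
  obtain ⟨r, hr, hxr⟩ := hspan x
  obtain ⟨s, hs⟩ := clear_denoms A K π hπirr (fun i => r.coeff i) e
  have hex : ∀ i, ∃ b : A, i < e → algebraMap A K π ^ s * r.coeff i = algebraMap A K b := by
    intro i
    by_cases hi : i < e
    · obtain ⟨b, hb⟩ := hs i hi
      exact ⟨b, fun _ => hb⟩
    · exact ⟨0, fun h => absurd h hi⟩
  choose b hb using hex
  have hginj : Function.Injective ((algebraMap K K').comp (algebraMap A K)) :=
    (algebraMap K K').injective.comp (IsFractionRing.injective A K)
  refine eis_claim A K' ((algebraMap K K').comp (algebraMap A K)) hginj π hπ z e he hz V' hAV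
    hzV hznu x hx s b ?_
  show (algebraMap K K' (algebraMap A K π)) ^ s * x =
    ∑ i ∈ Finset.range e, algebraMap K K' (algebraMap A K (b i)) * z ^ i
  rw [hxr, Polynomial.aeval_eq_sum_range' hr, Finset.mul_sum]
  apply Finset.sum_congr rfl
  intro i hi
  rw [← hb i (Finset.mem_range.mp hi), map_mul, map_pow, Algebra.smul_def]
  ring

/-! ### the unramifiedness statement -/

theorem kummer_unram_core (A K L K' M A' : Type u) [CommRing A] [IsDomain A]
    [IsDiscreteValuationRing A] [Field K] [Algebra A K] [IsFractionRing A K] [Field L]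
    [Algebra K L] [FiniteDimensional K L] [Field K'] [Algebra K K'] [FiniteDimensional K K']
    [Field M] [Algebra K M] [Algebra K' M] [Algebra L M] [IsScalarTower K K' M]
    [IsScalarTower K L M]
    (hadj₁ : Algebra.adjoin K' (Set.range (algebraMap L M)) = ⊤)
    (hadj₂ : Algebra.adjoin L (Set.range (algebraMap K' M)) = ⊤)
    (π : A) (hπ : maximalIdeal A = Ideal.span {π}) (e : ℕ) (he : 0 < e) (z : K')
    (hz : z ^ e = algebraMap K K' (algebraMap A K π))
    (hspan : ∀ x : K', ∃ r : Polynomial K, r.natDegree < e ∧ x = Polynomial.aeval z r)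
    (htame : EtRam.IsTamelyRamified A ((algebraMap K L).comp (algebraMap A K)))
    (hdvde : ∀ m : ℕ, 0 < m → m ≤ Module.finrank K L → ((m : ℕ) : ResidueField A) ≠ 0 → m ∣ e)
    [CommRing A'] [IsLocalRing A'] [Algebra A' K'] (r' : A') (hr'm : r' ∈ maximalIdeal A')
    (hr'z : algebraMap A' K' r' = z)
    (hA'A : ∀ a : A, ∃ a' : A', algebraMap A' K' a' = algebraMap K K' (algebraMap A K a)) :
    EtRam.IsUnramifiedExt A' ((algebraMap K' M).comp (algebraMap A' K')) := by
  classical
  intro W hW
  intro instLoc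
  letI algA'W : Algebra A' W :=
    (RingHom.codRestrict ((algebraMap K' M).comp (algebraMap A' K')) W hW.1).toAlgebra
  haveI : IsLocalHom (algebraMap A' W) := instLoc
  show EtRam.IsWeaklyUnramified A' W ∧
    Algebra.IsSeparable (ResidueField A') (ResidueField W)
  have hπirr : Irreducible π := (IsDiscreteValuationRing.irreducible_iff_uniformizer π).mpr hπ
  have hπAmem : π ∈ maximalIdeal A := (mem_maximalIdeal _).mpr hπirr.not_isUnit
  haveI := isLocalHom_id A
  -- `W` dominates `A`
  have hcompK' : ∀ a : A, algebraMap K' M (algebraMap K K' (algebraMap A K a)) =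
      algebraMap K M (algebraMap A K a) := by
    intro a
    rw [← IsScalarTower.algebraMap_apply K K' M]
  have hzMW : algebraMap K' M z ∈ W := by
    rw [← hr'z]; exact hW.1 r'
  have hzMlt : W.valuation (algebraMap K' M z) < 1 := by
    rw [← hr'z]; exact hW.2 r' hr'm
  have hzMm : (⟨algebraMap K' M z, hzMW⟩ : W) ∈ maximalIdeal W :=
    (ValuationSubring.valuation_lt_one_iff W _).mpr hzMlt
  have hmem : ∀ a : A, algebraMap K M (algebraMap A K a) ∈ W := by
    intro a
    obtain ⟨a', ha'⟩ := hA'A a
    rw [← hcompK', ← ha']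
    exact hW.1 a'
  have hWA : EtRam.Dominates A ((algebraMap K M).comp (algebraMap A K)) W := by
    refine ⟨hmem, fun a ha => ?_⟩
    rw [hπ, Ideal.mem_span_singleton'] at ha
    obtain ⟨b, rfl⟩ := ha
    have h3 : (⟨algebraMap K M (algebraMap A K (b * π)), hmem _⟩ : W) =
        ⟨algebraMap K M (algebraMap A K b), hmem b⟩ *
          (⟨algebraMap K' M z, hzMW⟩ : W) ^ e := by
      apply Subtype.ext
      show algebraMap K M (algebraMap A K (b * π)) =
        algebraMap K M (algebraMap A K b) * (algebraMap K' M z) ^ e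
      rw [← map_pow, hz, hcompK', map_mul, map_mul]
    have h4 : (⟨algebraMap K M (algebraMap A K (b * π)), hmem _⟩ : W) ∈ maximalIdeal W := by
      rw [h3]
      exact Ideal.mul_mem_left _ _ (Ideal.pow_mem_of_mem _ hzMm e he)
    exact (ValuationSubring.valuation_lt_one_iff W _).mp h4
  have hdomV : EtRam.Dominates A ((algebraMap K L).comp (algebraMap A K))
      (W.comap (algebraMap L M)) :=
    dominates_comap (RingHom.id A) _ (algebraMap L M) ((algebraMap K M).comp (algebraMap A K))
      (fun a => by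
        show algebraMap L M (algebraMap K L (algebraMap A K a)) =
          algebraMap K M (algebraMap A K a)
        rw [← IsScalarTower.algebraMap_apply K L M]) W hWA
  have hdomV' : EtRam.Dominates A ((algebraMap K K').comp (algebraMap A K))
      (W.comap (algebraMap K' M)) :=
    dominates_comap (RingHom.id A) _ (algebraMap K' M) ((algebraMap K M).comp (algebraMap A K))
      (fun a => by
        show algebraMap K' M (algebraMap K K' (algebraMap A K a)) =
          algebraMap K M (algebraMap A K a)
        rw [← IsScalarTower.algebraMap_apply K K' M]) W hWA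
  -- structures on `V = W ∩ L` and `V' = W ∩ K'`
  letI algAV : Algebra A (W.comap (algebraMap L M)) :=
    (RingHom.codRestrict ((algebraMap K L).comp (algebraMap A K)) _ hdomV.1).toAlgebra
  haveI locAV : IsLocalHom (algebraMap A (W.comap (algebraMap L M))) :=
    isLocalHom_of_dominates _ _ hdomV
  haveI dvrV : IsDiscreteValuationRing (W.comap (algebraMap L M)) :=
    isDVR_of_dominates A K L _ hdomV
  have hinjAV : Function.Injective (algebraMap A (W.comap (algebraMap L M))) :=
    injective_codRestrict A K L _ hdomV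
  letI algAV' : Algebra A (W.comap (algebraMap K' M)) :=
    (RingHom.codRestrict ((algebraMap K K').comp (algebraMap A K)) _ hdomV'.1).toAlgebra
  haveI locAV' : IsLocalHom (algebraMap A (W.comap (algebraMap K' M))) :=
    isLocalHom_of_dominates _ _ hdomV'
  haveI dvrV' : IsDiscreteValuationRing (W.comap (algebraMap K' M)) :=
    isDVR_of_dominates A K K' _ hdomV'
  have hinjAV' : Function.Injective (algebraMap A (W.comap (algebraMap K' M))) :=
    injective_codRestrict A K K' _ hdomV'
  letI algAL : Algebra A L := ((algebraMap K L).comp (algebraMap A K)).toAlgebra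
  haveI : IsScalarTower A K L := IsScalarTower.of_algebraMap_eq (fun _ => rfl)
  haveI : IsScalarTower A (W.comap (algebraMap L M)) L :=
    IsScalarTower.of_algebraMap_eq (fun _ => rfl)
  letI algAK' : Algebra A K' := ((algebraMap K K').comp (algebraMap A K)).toAlgebra
  haveI : IsScalarTower A K K' := IsScalarTower.of_algebraMap_eq (fun _ => rfl)
  haveI : IsScalarTower A (W.comap (algebraMap K' M)) K' :=
    IsScalarTower.of_algebraMap_eq (fun _ => rfl)
  -- tameness at `V`
  obtain ⟨hsepV, htameV⟩ := @htame (W.comap (algebraMap L M)) hdomV locAV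
  haveI : Algebra.IsSeparable (ResidueField A) (ResidueField (W.comap (algebraMap L M))) := hsepV
  haveI : Algebra.IsGeometricallyReduced (ResidueField A)
      (ResidueField (W.comap (algebraMap L M))) := geomRed_of_separable _ _
  -- the ramification index of `V`
  obtain ⟨ϖV, hϖV⟩ := IsDiscreteValuationRing.exists_irreducible (W.comap (algebraMap L M))
  have hneV : algebraMap A (W.comap (algebraMap L M)) π ≠ 0 := fun h0 =>
    hπirr.ne_zero ((map_eq_zero_iff _ hinjAV).mp h0)
  obtain ⟨eV, uV, hV⟩ := IsDiscreteValuationRing.associated_pow_irreducible hneV hϖV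
  have hramV : Ideal.ramificationIdx' (maximalIdeal A)
      (maximalIdeal (W.comap (algebraMap L M))) = eV :=
    ramIdx_eq π hπirr ϖV hϖV eV uV hV
  have heV0 : 0 < eV := by
    rcases Nat.eq_zero_or_pos eV with h | h
    · exfalso
      rw [h, pow_zero] at hV
      have hu : IsUnit (algebraMap A (W.comap (algebraMap L M)) π) := IsUnit.of_mul_eq_one _ hV
      exact (mem_maximalIdeal _).mp
        (map_nonunit (algebraMap A (W.comap (algebraMap L M))) π hπAmem) hu
    · exact h
  have heVle : eV ≤ Module.finrank K L := by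
    have hli := linIndep_pow A K L (W.comap (algebraMap L M))
      (algebraMap A (W.comap (algebraMap L M))) (fun b => rfl) ϖV hϖV.ne_zero hϖV.not_isUnit π
      hπirr eV (uV : W.comap (algebraMap L M)) uV.isUnit hV
    have h3 := hli.fintype_card_le_finrank
    rwa [Fintype.card_fin] at h3
  have heVκ : ((eV : ℕ) : ResidueField A) ≠ 0 := by
    obtain ⟨p, hp⟩ := CharP.exists (ResidueField A)
    intro h0
    have h3 : p ∣ eV := (CharP.cast_eq_zero_iff (ResidueField A) p eV).mp h0
    rcases CharP.char_is_prime_or_zero (ResidueField A) p with hpp | hp0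
    · have h4 : ¬ p ∣ Ideal.ramificationIdx' (maximalIdeal A)
          (maximalIdeal (W.comap (algebraMap L M))) := htameV p hpp hp
      rw [hramV] at h4
      exact h4 h3
    · rw [hp0] at h3
      have h5 := Nat.eq_zero_of_zero_dvd h3
      omega
  have heVe : eV ∣ e := hdvde eV heV0 heVle heVκ
  -- the ramification index of `V'`
  have hz0 : z ≠ 0 := by
    intro h0
    rw [h0, zero_pow he.ne'] at hz
    have h3 : algebraMap A K π = 0 := (map_eq_zero_iff _ (algebraMap K K').injective).mp hz.symm
    exact hπirr.ne_zero ((map_eq_zero_iff _ (IsFractionRing.injective A K)).mp h3)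
  obtain ⟨ϖ', hϖ'⟩ := IsDiscreteValuationRing.exists_irreducible (W.comap (algebraMap K' M))
  have hzV' : z ∈ W.comap (algebraMap K' M) := ValuationSubring.mem_comap.mpr hzMW
  obtain ⟨zV, hzVdef⟩ : ∃ zV : W.comap (algebraMap K' M), zV = ⟨z, hzV'⟩ := ⟨_, rfl⟩
  have hzVv : (zV : K') = z := by rw [hzVdef]
  have hzV0 : zV ≠ 0 := by
    intro h
    apply hz0
    rw [← hzVv, h]
    rfl
  obtain ⟨k, w, hkw⟩ := IsDiscreteValuationRing.associated_pow_irreducible hzV0 hϖ'
  have hzVe : algebraMap A (W.comap (algebraMap K' M)) π = zV ^ e := by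
    apply Subtype.ext
    show algebraMap K K' (algebraMap A K π) = (zV : K') ^ e
    rw [hzVv, hz]
  have hramV' : Ideal.ramificationIdx' (maximalIdeal A)
      (maximalIdeal (W.comap (algebraMap K' M))) = k * e :=
    ramIdx_eq π hπirr ϖ' hϖ' (k * e) (w ^ e) (by
      rw [hzVe, Units.val_pow_eq_pow_val, ← mul_pow, hkw, ← pow_mul])
  -- Abhyankar: `W` is weakly unramified over `V'`
  have hW_V : EtRam.Dominates (W.comap (algebraMap L M))
      ((algebraMap L M).comp (algebraMap (W.comap (algebraMap L M)) L)) W :=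
    dominates_of_comap W (algebraMap L M)
  have hchar : CharZero (ResidueField A) ∨ ∃ p : ℕ, p.Prime ∧ CharP (ResidueField A) p ∧
      ¬ p ∣ Ideal.ramificationIdx' (maximalIdeal A)
        (maximalIdeal (W.comap (algebraMap L M))) := by
    obtain ⟨p, hp⟩ := CharP.exists (ResidueField A)
    rcases CharP.char_is_prime_or_zero (ResidueField A) p with hpp | hp0
    · exact Or.inr ⟨p, hpp, hp, htameV p hpp hp⟩
    · left
      rw [hp0] at hp
      haveI := hp
      exact CharP.charP_to_charZero (ResidueField A)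
  have habh := abh_core A (W.comap (algebraMap L M)) K L K' M hinjAV hchar hadj₂ W hW_V
    hdomV'.1 (by
      show Ideal.ramificationIdx' (maximalIdeal A) (maximalIdeal (W.comap (algebraMap L M))) ∣
        Ideal.ramificationIdx' (maximalIdeal A) (maximalIdeal (W.comap (algebraMap K' M)))
      rw [hramV, hramV']
      exact dvd_trans heVe (dvd_mul_left e k))
  have hWU : (maximalIdeal (W.comap (algebraMap K' M))).map
      (EtRam.inclOfComap W (algebraMap K' M)) = maximalIdeal W := habh.1
  -- the residue field of `W` is separable over that of `V'`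
  have hW_V' : EtRam.Dominates (W.comap (algebraMap K' M))
      ((algebraMap K' M).comp (algebraMap (W.comap (algebraMap K' M)) K')) W :=
    dominates_of_comap W (algebraMap K' M)
  letI algV'W : Algebra (W.comap (algebraMap K' M)) W :=
    (RingHom.codRestrict ((algebraMap K' M).comp (algebraMap (W.comap (algebraMap K' M)) K')) W
      hW_V'.1).toAlgebra
  haveI locV'W : IsLocalHom (algebraMap (W.comap (algebraMap K' M)) W) :=
    isLocalHom_of_dominates _ _ hW_V'
  have htc := tame_core A (W.comap (algebraMap K' M)) K K' L M hinjAV' htame hadj₁ W hW_V' locV'W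
  haveI hsepW : Algebra.IsSeparable (ResidueField (W.comap (algebraMap K' M)))
      (ResidueField W) := htc.1
  -- `V'` is the image of `A'`
  have hznu : z⁻¹ ∉ W.comap (algebraMap K' M) := by
    intro hmem'
    have h3 := ValuationSubring.mem_comap.mp hmem'
    rw [map_inv₀] at h3
    have hzM0 : algebraMap K' M z ≠ 0 := (_root_.map_ne_zero _).mpr hz0
    exact ((val_lt_one_iff W hzM0).mp hzMlt) h3
  have hF3 : ∀ v : W.comap (algebraMap K' M), ∃ a' : A', algebraMap A' K' a' = (v : K') := by
    intro v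
    obtain ⟨c, hc⟩ := eis_span A K K' π hπ z e he hz hspan (W.comap (algebraMap K' M))
      hdomV'.1 hzV' hznu (v : K') v.2
    have hex : ∀ i, ∃ a' : A', algebraMap A' K' a' =
        algebraMap K K' (algebraMap A K (c i)) := fun i => hA'A (c i)
    choose a' ha' using hex
    refine ⟨∑ i ∈ Finset.range e, a' i * r' ^ i, ?_⟩
    rw [hc, map_sum]
    apply Finset.sum_congr rfl
    intro i _
    rw [map_mul, map_pow, ha', hr'z]
  have hincl : ∀ (v : W.comap (algebraMap K' M)) (a' : A'), algebraMap A' K' a' = (v : K') →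
      algebraMap A' W a' = EtRam.inclOfComap W (algebraMap K' M) v := by
    intro v a' h
    apply Subtype.ext
    show algebraMap K' M (algebraMap A' K' a') = algebraMap K' M (v : K')
    rw [h]
  constructor
  · show (maximalIdeal A').map (algebraMap A' W) = maximalIdeal W
    apply le_antisymm
    · exact Ideal.map_le_iff_le_comap.mpr (fun a ha => map_nonunit (algebraMap A' W) a ha)
    · rw [← hWU]
      refine Ideal.map_le_iff_le_comap.mpr (fun v hv => ?_)
      obtain ⟨a', ha'⟩ := hF3 v
      rw [Ideal.mem_comap, ← hincl v a' ha']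
      apply Ideal.mem_map_of_mem
      rw [mem_maximalIdeal, mem_nonunits_iff]
      intro hu
      have h3 : IsUnit (EtRam.inclOfComap W (algebraMap K' M) v) := by
        rw [← hincl v a' ha']
        exact hu.map (algebraMap A' W)
      exact (mem_maximalIdeal _).mp
        (map_nonunit (EtRam.inclOfComap W (algebraMap K' M)) v hv) h3
  · obtain ⟨ψ, hψ⟩ : ∃ ψ : A' →+* (W.comap (algebraMap K' M)),
        ψ = RingHom.codRestrict (algebraMap A' K') (W.comap (algebraMap K' M))
          (fun a' => ValuationSubring.mem_comap.mpr (hW.1 a')) := ⟨_, rfl⟩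
    have hψv : ∀ a', ((ψ a' : W.comap (algebraMap K' M)) : K') = algebraMap A' K' a' := by
      intro a'; rw [hψ]; rfl
    have hψW : ∀ a', algebraMap (W.comap (algebraMap K' M)) W (ψ a') = algebraMap A' W a' := by
      intro a'
      apply Subtype.ext
      show algebraMap K' M ((ψ a' : W.comap (algebraMap K' M)) : K') =
        algebraMap K' M (algebraMap A' K' a')
      rw [hψv]
    haveI locψ : IsLocalHom ψ := by
      constructor
      intro a' hu
      have h3 : IsUnit (algebraMap A' W a') := by
        rw [← hψW]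
        exact hu.map _
      exact instLoc.map_nonunit a' h3
    have hψsurj : Function.Surjective ψ := by
      intro v
      obtain ⟨a', ha'⟩ := hF3 v
      exact ⟨a', Subtype.ext (by rw [hψv, ha'])⟩
    have hσsurj : Function.Surjective (ResidueField.map ψ) := by
      intro y
      obtain ⟨v, rfl⟩ := residue_surjective y
      obtain ⟨a', rfl⟩ := hψsurj v
      exact ⟨residue A' a', ResidueField.map_residue ψ a'⟩
    have hcomp : (algebraMap (ResidueField (W.comap (algebraMap K' M))) (ResidueField W)).comp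
        (ResidueField.map ψ) = algebraMap (ResidueField A') (ResidueField W) := by
      refine RingHom.ext (fun y => ?_)
      obtain ⟨a', rfl⟩ := residue_surjective y
      show algebraMap (ResidueField (W.comap (algebraMap K' M))) (ResidueField W)
        (ResidueField.map ψ (residue A' a')) = residue W (algebraMap A' W a')
      rw [ResidueField.map_residue, ← hψW]
      rfl
    rw [Algebra.isSeparable_def]
    intro y
    have hy : IsSeparable (ResidueField (W.comap (algebraMap K' M))) y :=
      Algebra.IsSeparable.isSeparable _ y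
    obtain ⟨f₀, hf₀⟩ := Polynomial.map_surjective (ResidueField.map ψ) hσsurj
      (minpoly (ResidueField (W.comap (algebraMap K' M))) y)
    have hf₀sep : f₀.Separable := by
      rw [← Polynomial.separable_map (ResidueField.map ψ), hf₀]
      exact hy
    have hroot : Polynomial.aeval y f₀ = 0 := by
      rw [Polynomial.aeval_def, ← hcomp, ← Polynomial.eval₂_map, hf₀, ← Polynomial.aeval_def,
        minpoly.aeval]
    exact hf₀sep.of_dvd (minpoly.dvd (ResidueField A') y hroot)

theorem tame_kummer (A K L : Type u) [CommRing A] [IsDomain A] [IsDiscreteValuationRing A]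
    [Field K] [Algebra A K] [IsFractionRing A K] [Field L] [Algebra K L] [FiniteDimensional K L]
    [Algebra.IsSeparable K L] (π : A) (hπ : maximalIdeal A = Ideal.span {π})
    (h : EtRam.IsTamelyRamified A ((algebraMap K L).comp (algebraMap A K))) :
    ∃ e₀ : ℕ, 0 < e₀ ∧ ((e₀ : ℕ) : ResidueField A) ≠ 0 ∧
      ∀ e : ℕ, 0 < e → ((e : ℕ) : ResidueField A) ≠ 0 → e₀ ∣ e →
        ∃ (L' : Type u) (_ : Field L') (_ : Algebra K L')
          (_ : Algebra (AdjoinRoot (Polynomial.X ^ e - Polynomial.C π : Polynomial A)) L')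
          (_ : L →ₐ[K] L'),
          FiniteDimensional K L' ∧ Algebra.IsSeparable K L' ∧
          (algebraMap (AdjoinRoot (Polynomial.X ^ e - Polynomial.C π : Polynomial A)) L').comp
              (AdjoinRoot.of (Polynomial.X ^ e - Polynomial.C π)) =
            (algebraMap K L').comp (algebraMap A K) ∧
          ∀ [IsLocalRing (AdjoinRoot (Polynomial.X ^ e - Polynomial.C π : Polynomial A))],
            EtRam.IsUnramifiedExt (AdjoinRoot (Polynomial.X ^ e - Polynomial.C π : Polynomial A))
              (algebraMap (AdjoinRoot (Polynomial.X ^ e - Polynomial.C π : Polynomial A)) L') := by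
  classical
  have hπirr : Irreducible π := (IsDiscreteValuationRing.irreducible_iff_uniformizer π).mpr hπ
  have hπAmem : π ∈ maximalIdeal A := (mem_maximalIdeal _).mpr hπirr.not_isUnit
  obtain ⟨e₀, he₀def⟩ : ∃ e₀ : ℕ, e₀ = ∏ m ∈ (Finset.Icc 1 (Module.finrank K L)).filter
      (fun m : ℕ => ((m : ℕ) : ResidueField A) ≠ 0), m := ⟨_, rfl⟩
  have he₀pos : 0 < e₀ := by
    rw [he₀def]
    apply Finset.prod_pos
    intro m hm
    rw [Finset.mem_filter, Finset.mem_Icc] at hm
    omega
  have he₀κ : ((e₀ : ℕ) : ResidueField A) ≠ 0 := by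
    rw [he₀def, Nat.cast_prod, Finset.prod_ne_zero_iff]
    intro m hm
    rw [Finset.mem_filter] at hm
    exact hm.2
  have he₀dvd : ∀ m : ℕ, 0 < m → m ≤ Module.finrank K L →
      ((m : ℕ) : ResidueField A) ≠ 0 → m ∣ e₀ := by
    intro m h1 h2 h3
    rw [he₀def]
    exact Finset.dvd_prod_of_mem (fun m : ℕ => m) (by
      rw [Finset.mem_filter, Finset.mem_Icc]
      exact ⟨⟨h1, h2⟩, h3⟩)
  refine ⟨e₀, he₀pos, he₀κ, ?_⟩
  intro e he heκ he₀e
  have hπK : algebraMap A K π ≠ 0 := fun h0 =>
    hπirr.ne_zero ((map_eq_zero_iff _ (IsFractionRing.injective A K)).mp h0)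
  have heK : ((e : ℕ) : K) ≠ 0 := by
    intro h0
    apply heκ
    have h3 : algebraMap A K ((e : ℕ) : A) = 0 := by rw [map_natCast]; exact h0
    have h4 : ((e : ℕ) : A) = 0 := (map_eq_zero_iff _ (IsFractionRing.injective A K)).mp h3
    have h5 : residue A ((e : ℕ) : A) = 0 := by rw [h4, map_zero]
    rwa [map_natCast] at h5
  obtain ⟨K', fK', aK', z, hfinK', hsepK', hz, hspan⟩ :=
    exists_kummer_field K e he (algebraMap A K π) hπK heK
  obtain ⟨M, fM, aKM, aK'M, aLM, t₁, t₂, hadj₁, hadj₂⟩ := exists_compositum2 K K' L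
  obtain ⟨hfinM, hsepM⟩ := fin_sep_of_adj K K' L M hadj₁
  have hroot : (Polynomial.X ^ e - Polynomial.C π : Polynomial A).eval₂
      ((algebraMap K K').comp (algebraMap A K)) z = 0 := by
    rw [Polynomial.eval₂_sub, Polynomial.eval₂_pow, Polynomial.eval₂_X, Polynomial.eval₂_C, hz]
    exact sub_self _
  letI aA'K' : Algebra (AdjoinRoot (Polynomial.X ^ e - Polynomial.C π : Polynomial A)) K' :=
    (AdjoinRoot.lift ((algebraMap K K').comp (algebraMap A K)) z hroot).toAlgebra
  letI aA'M : Algebra (AdjoinRoot (Polynomial.X ^ e - Polynomial.C π : Polynomial A)) M :=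
    ((algebraMap K' M).comp
      (algebraMap (AdjoinRoot (Polynomial.X ^ e - Polynomial.C π : Polynomial A)) K')).toAlgebra
  refine ⟨M, fM, aKM, aA'M, IsScalarTower.toAlgHom K L M, hfinM, hsepM, ?_, ?_⟩
  · refine RingHom.ext (fun a => ?_)
    show algebraMap K' M (AdjoinRoot.lift ((algebraMap K K').comp (algebraMap A K)) z hroot
      (AdjoinRoot.of _ a)) = algebraMap K M (algebraMap A K a)
    rw [AdjoinRoot.lift_of]
    show algebraMap K' M (algebraMap K K' (algebraMap A K a)) = _
    rw [← IsScalarTower.algebraMap_apply K K' M]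
  · intro instLoc
    have hrootnu : AdjoinRoot.root (Polynomial.X ^ e - Polynomial.C π : Polynomial A) ∈
        maximalIdeal (AdjoinRoot (Polynomial.X ^ e - Polynomial.C π : Polynomial A)) := by
      rw [mem_maximalIdeal, mem_nonunits_iff]
      intro hu
      have hχ0 : (Polynomial.X ^ e - Polynomial.C π : Polynomial A).eval₂ (residue A) 0 = 0 := by
        rw [Polynomial.eval₂_sub, Polynomial.eval₂_pow, Polynomial.eval₂_X, Polynomial.eval₂_C,
          zero_pow he.ne', zero_sub, neg_eq_zero]
        exact (residue_eq_zero_iff _).mpr hπAmem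
      have h3 : IsUnit (AdjoinRoot.lift (residue A) 0 hχ0 (AdjoinRoot.root _)) := hu.map _
      rw [AdjoinRoot.lift_root] at h3
      exact not_isUnit_zero h3
    exact kummer_unram_core A K L K' M
      (AdjoinRoot (Polynomial.X ^ e - Polynomial.C π : Polynomial A)) hadj₁ hadj₂ π hπ e he z hz
      hspan h (fun m h1 h2 h3 => dvd_trans (he₀dvd m h1 h2 h3) he₀e)
      (AdjoinRoot.root _) hrootnu (AdjoinRoot.lift_root hroot)
      (fun a => ⟨AdjoinRoot.of _ a, AdjoinRoot.lift_of hroot⟩)

end Groth.Agent.Helper22.TameKum
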