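import Mathlib
import Groth.Prelude.Def_EtRam
import Groth.Agent.Lib.Helper22.ASCases2
import Groth.Agent.Lib.Helper22.ASGal
import Groth.Agent.Lib.Helper22.TameKum

/-!
# Artin–Schreier reduction over a DVR with perfect residue field, and composition of totally
ramified extensions (for S7155)
-/

set_option autoImplicit false
set_option linter.deprecated false
universe u

open IsLocalRing Polynomial

namespace Groth.Agent.Helper22.EppRed

open Groth.Agent.Helper22.ASCases Groth.Agent.Helper22.ASGal Groth.Agent.Helper22.TameKum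
  Groth.Agent.Helper22.WUGen

section Reduce
variable (p : ℕ) [hp : Fact p.Prime] (A K : Type u) [CommRing A] [IsDomain A]
  [IsDiscreteValuationRing A] [Field K] [Algebra A K] [IsFractionRing A K] [CharP K p]

theorem as_reduce (hperf : ∀ α : A, ∃ ρ : A, α - ρ ^ p ∈ maximalIdeal A) (π : A)
    (hπ : maximalIdeal A = Ideal.span {π}) (hπ0 : π ≠ 0) :
    ∀ (N : ℕ) (α : A), ∃ (c ared : K) (a₀ : A),
      algebraMap A K α / algebraMap A K π ^ N = (c ^ p - c) + algebraMap A K a₀ + ared ∧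
      (ared = 0 ∨ ∃ (n : ℕ) (u : Aˣ), 0 < n ∧ ¬ p ∣ n ∧
        ared * algebraMap A K π ^ n = algebraMap A K u) := by
  have hPi0 : algebraMap A K π ≠ 0 :=
    (map_ne_zero_iff _ (IsFractionRing.injective A K)).mpr hπ0
  intro N
  induction N with
  | zero =>
    intro α
    refine ⟨0, 0, α, ?_, Or.inl rfl⟩
    rw [pow_zero, div_one, zero_pow hp.out.ne_zero, sub_zero, zero_add, add_zero]
  | succ N ih =>
    intro α
    by_cases hα : α ∈ maximalIdeal A
    · rw [hπ, Ideal.mem_span_singleton'] at hα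
      obtain ⟨α', hα'⟩ := hα
      obtain ⟨c, ared, a₀, h1, h2⟩ := ih α'
      refine ⟨c, ared, a₀, ?_, h2⟩
      rw [← h1, ← hα', map_mul, pow_succ, mul_div_mul_right _ _ hPi0]
    · have hu : IsUnit α := by
        rw [mem_maximalIdeal, mem_nonunits_iff, not_not] at hα
        exact hα
      by_cases hpN : p ∣ N + 1
      · obtain ⟨j, hj⟩ := hpN
        obtain ⟨ρ, hρ⟩ := hperf α
        rw [hπ, Ideal.mem_span_singleton'] at hρ
        obtain ⟨α'', hα''⟩ := hρ
        have h2j : 2 * j ≤ p * j := Nat.mul_le_mul_right j hp.out.two_le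
        obtain ⟨e, he⟩ : ∃ e, N = j + e := ⟨N - j, by omega⟩
        obtain ⟨c', ared, a₀, h1, h2⟩ := ih (α'' + ρ * π ^ e)
        refine ⟨algebraMap A K ρ / algebraMap A K π ^ j + c', ared, a₀, ?_, h2⟩
        have hαK : algebraMap A K α =
            algebraMap A K α'' * algebraMap A K π + algebraMap A K ρ ^ p := by
          have h := congrArg (algebraMap A K) hα''
          rw [map_mul, map_sub, map_pow] at h
          linear_combination (-1 : K) * h
        have e1 : (algebraMap A K ρ / algebraMap A K π ^ j + c') ^ p =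
            algebraMap A K ρ ^ p / algebraMap A K π ^ (N + 1) + c' ^ p := by
          rw [add_pow_char, div_pow, ← pow_mul, mul_comm j p, ← hj]
        have e2 : (algebraMap A K α'' * algebraMap A K π + algebraMap A K ρ ^ p) /
            algebraMap A K π ^ (N + 1) =
            algebraMap A K α'' / algebraMap A K π ^ N +
              algebraMap A K ρ ^ p / algebraMap A K π ^ (N + 1) := by
          rw [add_div, pow_succ, mul_div_mul_right _ _ hPi0]
        have e3 : (algebraMap A K α'' + algebraMap A K ρ * algebraMap A K π ^ e) /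
            algebraMap A K π ^ N =
            algebraMap A K α'' / algebraMap A K π ^ N +
              algebraMap A K ρ / algebraMap A K π ^ j := by
          rw [add_div, he, pow_add, mul_div_mul_right _ _ (pow_ne_zero e hPi0)]
        rw [map_add, map_mul, map_pow, e3] at h1
        rw [hαK, e2, e1]
        linear_combination h1
      · refine ⟨0, algebraMap A K α / algebraMap A K π ^ (N + 1), 0, ?_,
          Or.inr ⟨N + 1, hu.unit, Nat.succ_pos N, hpN, ?_⟩⟩
        · rw [zero_pow hp.out.ne_zero, sub_zero, map_zero, zero_add, zero_add]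
        · rw [div_mul_cancel₀ _ (pow_ne_zero _ hPi0), IsUnit.unit_spec]

theorem as_totRam (π : A) (hπ : maximalIdeal A = Ideal.span {π}) (t : K) (n : ℕ) (hn : 0 < n)
    (hpn : ¬ p ∣ n) (u : Aˣ) (ht : t * algebraMap A K π ^ n = algebraMap A K u)
    (K₂ : Type u) [Field K₂] [Algebra K K₂] (y : K₂) (hy : y ^ p - y = algebraMap K K₂ t)
    (hgen : IntermediateField.adjoin K {y} = ⊤) :
    FiniteDimensional K K₂ ∧ Algebra.IsSeparable K K₂ ∧
      EtRam.IsTotallyRamified A ((algebraMap K K₂).comp (algebraMap A K)) := by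
  obtain ⟨hgal, hfin, -, hle, -⟩ := as_galois p K K₂ t y hy hgen
  haveI := hfin
  haveI := hgal
  letI algAK₂ : Algebra A K₂ := ((algebraMap K K₂).comp (algebraMap A K)).toAlgebra
  haveI : IsScalarTower A K K₂ := IsScalarTower.of_algebraMap_eq (fun _ => rfl)
  have h1p : (X : A[X]).degree < (p : WithBot ℕ) := by
    rw [degree_X]; exact_mod_cast hp.out.one_lt
  have hmonic : (X ^ p - X : A[X]).Monic := monic_X_pow_sub h1p
  have hdeg : (X ^ p - X : A[X]).natDegree = p := by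
    rw [natDegree_sub_eq_left_of_natDegree_lt
      (by rw [natDegree_X_pow, natDegree_X]; exact hp.out.one_lt), natDegree_X_pow]
  have hz : aeval y (X ^ p - X : A[X]) * algebraMap A K₂ π ^ n = algebraMap A K₂ u := by
    rw [map_sub, map_pow, aeval_X, hy, IsScalarTower.algebraMap_apply A K K₂ π,
      IsScalarTower.algebraMap_apply A K K₂ (u : A), ← map_pow, ← map_mul, ht]
  obtain ⟨htr, -⟩ :=
    totRam_of_pole A K K₂ p hp.out hle π hπ (X ^ p - X) hmonic hdeg y n hn hpn u hz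
  rw [IsScalarTower.algebraMap_eq A K K₂] at htr
  exact ⟨hfin, inferInstance, htr⟩

theorem exists_as_ext (π : A) (hπ : maximalIdeal A = Ideal.span {π}) (t : K) (n : ℕ)
    (hn : 0 < n) (hpn : ¬ p ∣ n) (u : Aˣ)
    (ht : t * algebraMap A K π ^ n = algebraMap A K u) :
    ∃ (K₂ : Type u) (_ : Field K₂) (_ : Algebra K K₂), FiniteDimensional K K₂ ∧
      Algebra.IsSeparable K K₂ ∧
      EtRam.IsTotallyRamified A ((algebraMap K K₂).comp (algebraMap A K)) ∧
      ∃ y : K₂, y ^ p - y = algebraMap K K₂ t := by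
  classical
  have hdegf : (X ^ p - (X + C t) : K[X]).natDegree = p := by
    rw [natDegree_sub_eq_left_of_natDegree_lt
      (by rw [natDegree_X_pow, natDegree_X_add_C]; exact hp.out.one_lt), natDegree_X_pow]
  have hf0 : (X ^ p - (X + C t) : K[X]) ≠ 0 := by
    intro h0
    rw [h0, natDegree_zero] at hdegf
    exact hp.out.ne_zero hdegf.symm
  have hfnu : ¬ IsUnit (X ^ p - (X + C t) : K[X]) :=
    not_isUnit_of_natDegree_pos _ (by rw [hdegf]; exact hp.out.pos)
  obtain ⟨h, hirr, hdvd⟩ := WfDvdMonoid.exists_irreducible_factor hfnu hf0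
  haveI : Fact (Irreducible h) := ⟨hirr⟩
  have hy : (AdjoinRoot.root h) ^ p - AdjoinRoot.root h = algebraMap K (AdjoinRoot h) t := by
    have h0 : aeval (AdjoinRoot.root h) (X ^ p - (X + C t) : K[X]) = 0 := by
      rw [AdjoinRoot.aeval_eq]; exact AdjoinRoot.mk_eq_zero.mpr hdvd
    rw [map_sub, map_pow, aeval_X, map_add, aeval_X, aeval_C] at h0
    linear_combination h0
  have hgen : IntermediateField.adjoin K {AdjoinRoot.root h} = ⊤ := by
    rw [eq_top_iff]
    intro x _
    have hx : x ∈ Algebra.adjoin K {AdjoinRoot.root h} := by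
      rw [AdjoinRoot.adjoinRoot_eq_top]; exact Algebra.mem_top
    exact IntermediateField.algebra_adjoin_le_adjoin K _ hx
  obtain ⟨h1, h2, h3⟩ :=
    as_totRam p A K π hπ t n hn hpn u ht (AdjoinRoot h) (AdjoinRoot.root h) hy hgen
  exact ⟨AdjoinRoot h, inferInstance, inferInstance, h1, h2, h3, AdjoinRoot.root h, hy⟩

theorem exists_K₂ (hperf : ∀ α : A, ∃ ρ : A, α - ρ ^ p ∈ maximalIdeal A) (a : K) :
    ∃ (c ared : K) (a₀ : A), a = (c ^ p - c) + algebraMap A K a₀ + ared ∧
      ∃ (K₂ : Type u) (_ : Field K₂) (_ : Algebra K K₂), FiniteDimensional K K₂ ∧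
        Algebra.IsSeparable K K₂ ∧
        EtRam.IsTotallyRamified A ((algebraMap K K₂).comp (algebraMap A K)) ∧
        ∃ y : K₂, y ^ p - y = algebraMap K K₂ ared := by
  obtain ⟨π, hπirr⟩ := IsDiscreteValuationRing.exists_irreducible A
  have hπ : maximalIdeal A = Ideal.span {π} := hπirr.maximalIdeal_eq
  have hPi0 : algebraMap A K π ≠ 0 :=
    (map_ne_zero_iff _ (IsFractionRing.injective A K)).mpr hπirr.ne_zero
  obtain ⟨s, b, hb⟩ := clear_denom A K π hπirr a
  have ha : a = algebraMap A K b / algebraMap A K π ^ s := by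
    rw [eq_div_iff (pow_ne_zero s hPi0), mul_comm]; exact hb
  obtain ⟨c, ared, a₀, h1, h2⟩ := as_reduce p A K hperf π hπ hπirr.ne_zero s b
  refine ⟨c, ared, a₀, by rw [ha]; exact h1, ?_⟩
  rcases h2 with h0 | ⟨n, u, hn, hpn, hu⟩
  · obtain ⟨K₂, fK₂, algK₂, h3, h4, h5, -⟩ :=
      exists_as_ext p A K π hπ (algebraMap A K π)⁻¹ 1 Nat.one_pos
        (Nat.Prime.not_dvd_one hp.out) 1
        (by rw [pow_one, inv_mul_cancel₀ hPi0, Units.val_one, map_one])
    exact ⟨K₂, fK₂, algK₂, h3, h4, h5, 0,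
      by rw [h0, map_zero, zero_pow hp.out.ne_zero, sub_zero]⟩
  · obtain ⟨K₂, fK₂, algK₂, h3, h4, h5, y, hy⟩ := exists_as_ext p A K π hπ ared n hn hpn u hu
    exact ⟨K₂, fK₂, algK₂, h3, h4, h5, y, hy⟩

end Reduce

/-! ### composition of totally ramified extensions -/

theorem totRam_comp (A K₁ K₂ : Type u) [CommRing A] [IsLocalRing A] [Field K₁] [Field K₂]
    [Algebra K₁ K₂] (g₁ : A →+* K₁) (h₁ : EtRam.IsTotallyRamified A g₁)
    (h₂ : ∀ V₁ : ValuationSubring K₁, EtRam.Dominates A g₁ V₁ →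
      EtRam.IsTotallyRamified ↥V₁ ((algebraMap K₁ K₂).comp (algebraMap ↥V₁ K₁))) :
    EtRam.IsTotallyRamified A ((algebraMap K₁ K₂).comp g₁) := by
  obtain ⟨⟨V₁, hV₁⟩, huniq₁, hres₁⟩ := h₁
  have hcomap : ∀ V₂ : ValuationSubring K₂,
      EtRam.Dominates A ((algebraMap K₁ K₂).comp g₁) V₂ →
      EtRam.Dominates A g₁ (V₂.comap (algebraMap K₁ K₂)) := by
    intro V₂ hV₂
    haveI := isLocalHom_id A
    exact dominates_comap (RingHom.id A) g₁ (algebraMap K₁ K₂) ((algebraMap K₁ K₂).comp g₁)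
      (fun a => rfl) V₂ hV₂
  have hdom2 : ∀ V₂ : ValuationSubring K₂,
      EtRam.Dominates ↥(V₂.comap (algebraMap K₁ K₂))
        ((algebraMap K₁ K₂).comp (algebraMap ↥(V₂.comap (algebraMap K₁ K₂)) K₁)) V₂ := by
    intro V₂
    have h := dominates_of_comap V₂ (algebraMap K₁ K₂)
    exact ⟨fun v => h.1 v, fun v hv => h.2 v hv⟩
  have aux : ∀ (V₂' : ValuationSubring K₂) (X Y : ValuationSubring K₁), X = Y →
      EtRam.Dominates ↥X ((algebraMap K₁ K₂).comp (algebraMap ↥X K₁)) V₂' →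
      EtRam.Dominates ↥Y ((algebraMap K₁ K₂).comp (algebraMap ↥Y K₁)) V₂' := by
    intro V₂' X Y hXY h
    subst hXY
    exact h
  refine ⟨?_, ?_, ?_⟩
  · obtain ⟨⟨V₂, hV₂⟩, -, -⟩ := h₂ V₁ hV₁
    refine ⟨V₂, fun a => ?_, fun a ha => ?_⟩
    · exact hV₂.1 ⟨g₁ a, hV₁.1 a⟩
    · have hm : (⟨g₁ a, hV₁.1 a⟩ : V₁) ∈ maximalIdeal V₁ :=
        (ValuationSubring.valuation_lt_one_iff V₁ _).mpr (hV₁.2 a ha)
      exact hV₂.2 ⟨g₁ a, hV₁.1 a⟩ hm
  · intro V₂ V₂' hV₂ hV₂'
    have e : V₂'.comap (algebraMap K₁ K₂) = V₂.comap (algebraMap K₁ K₂) :=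
      huniq₁ _ _ (hcomap V₂' hV₂') (hcomap V₂ hV₂)
    exact (h₂ _ (hcomap V₂ hV₂)).2.1 V₂ V₂' (hdom2 V₂) (aux V₂' _ _ e (hdom2 V₂'))
  · intro V₂ hV₂ w
    obtain ⟨v, hv⟩ := (h₂ _ (hcomap V₂ hV₂)).2.2 V₂ (hdom2 V₂) w
    obtain ⟨a, ha⟩ := hres₁ _ (hcomap V₂ hV₂) (residue _ v)
    refine ⟨a, ?_⟩
    have hmX : (RingHom.codRestrict g₁ _ (hcomap V₂ hV₂).1 a - v) ∈
        maximalIdeal ↥(V₂.comap (algebraMap K₁ K₂)) := by
      rw [← residue_eq_zero_iff, map_sub, sub_eq_zero]
      exact ha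
    have hmV₂ := map_nonunit (EtRam.inclOfComap V₂ (algebraMap K₁ K₂)) _ hmX
    rw [← hv]
    show residue V₂ _ = residue V₂ _
    rw [← sub_eq_zero, ← map_sub, residue_eq_zero_iff]
    have heq : RingHom.codRestrict ((algebraMap K₁ K₂).comp g₁) V₂ hV₂.1 a -
        RingHom.codRestrict ((algebraMap K₁ K₂).comp
          (algebraMap ↥(V₂.comap (algebraMap K₁ K₂)) K₁)) V₂ (hdom2 V₂).1 v =
        EtRam.inclOfComap V₂ (algebraMap K₁ K₂)
          (RingHom.codRestrict g₁ _ (hcomap V₂ hV₂).1 a - v) := by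
      apply Subtype.ext
      show algebraMap K₁ K₂ (g₁ a) - algebraMap K₁ K₂ (v : K₁) =
        algebraMap K₁ K₂ (g₁ a - (v : K₁))
      rw [map_sub]
    rw [heq]
    exact hmV₂

/-- perfectness of the residue field passes to a dominating valuation ring with the same
residue field -/
theorem perf_of_dom (p : ℕ) (A K₁ : Type u) [CommRing A] [IsLocalRing A] [Field K₁]
    (g : A →+* K₁) (V₁ : ValuationSubring K₁) (hV₁ : EtRam.Dominates A g V₁)
    (hres : Function.Surjective
      (fun a : A => residue V₁ (RingHom.codRestrict g V₁ hV₁.1 a)))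
    (hperfA : ∀ a : A, ∃ s : A, a - s ^ p ∈ maximalIdeal A) :
    ∀ α : ↥V₁, ∃ ρ : ↥V₁, α - ρ ^ p ∈ maximalIdeal ↥V₁ := by
  intro α
  obtain ⟨a, ha⟩ := hres (residue V₁ α)
  obtain ⟨s, hs⟩ := hperfA a
  haveI := isLocalHom_of_dominates g V₁ hV₁
  refine ⟨RingHom.codRestrict g V₁ hV₁.1 s, ?_⟩
  have h1 : RingHom.codRestrict g V₁ hV₁.1 (a - s ^ p) ∈ maximalIdeal ↥V₁ :=
    map_nonunit _ _ hs
  have h2 : α - RingHom.codRestrict g V₁ hV₁.1 a ∈ maximalIdeal ↥V₁ := by
    rw [← residue_eq_zero_iff, map_sub, sub_eq_zero]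
    exact ha.symm
  have h3 : α - (RingHom.codRestrict g V₁ hV₁.1 s) ^ p =
      (α - RingHom.codRestrict g V₁ hV₁.1 a) + RingHom.codRestrict g V₁ hV₁.1 (a - s ^ p) := by
    rw [map_sub, map_pow]; ring
  rw [h3]
  exact Ideal.add_mem _ h2 h1

/-- integral elements lie in every valuation ring containing the base -/
theorem mem_of_isIntegral (A K₁ : Type u) [CommRing A] [Field K₁] [Algebra A K₁]
    (V : ValuationSubring K₁) (hAV : ∀ a : A, algebraMap A K₁ a ∈ V) (x : K₁)
    (hx : IsIntegral A x) : x ∈ V := by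
  letI algAV : Algebra A V := (RingHom.codRestrict (algebraMap A K₁) V hAV).toAlgebra
  haveI : IsScalarTower A V K₁ := IsScalarTower.of_algebraMap_eq (fun _ => rfl)
  have h1 : IsIntegral V x := hx.tower_top
  obtain ⟨y, hy⟩ := IsIntegrallyClosed.isIntegral_iff.mp h1
  rw [← hy]
  exact y.2

end Groth.Agent.Helper22.EppRed
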