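import Mathlib
import Groth.Prelude.Def_EtRam

/-!
# Kummer-type extensions `(1 + w z)^p = 1 + w^p ξ`: basic facts (helper library)

Cyclotomic facts for `w = 1 - ζ`, the polynomial `P` with `w^p P = (1 + w X)^p - 1`,
and the Galois / degree statement for Kummer extensions of prime degree.
-/

set_option autoImplicit false
universe u

open Polynomial IsLocalRing

namespace Groth.Agent.Helper22.KumFacts

/-! ### cyclotomic facts -/

theorem isPrimitiveRoot_of_aeval (p : ℕ) (hp : p.Prime) (A : Type*) [CommRing A] [IsDomain A]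
    [CharZero A] (ζ : A) (hζ : aeval ζ (cyclotomic p ℤ) = 0) : IsPrimitiveRoot ζ p := by
  haveI : NeZero ((p : ℕ) : A) := ⟨Nat.cast_ne_zero.mpr hp.ne_zero⟩
  have h1 : eval ζ (cyclotomic p A) = 0 := by
    rw [← map_cyclotomic_int p A, eval_map, ← algebraMap_int_eq, ← aeval_def]
    exact hζ
  exact isRoot_cyclotomic_iff.mp h1

theorem one_sub_mem (p : ℕ) (hp : p.Prime) (A : Type*) [CommRing A] [IsLocalRing A]
    [CharP (ResidueField A) p] (ζ : A) (hζp : ζ ^ p = 1) : 1 - ζ ∈ maximalIdeal A := by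
  haveI : Fact p.Prime := ⟨hp⟩
  rw [← residue_eq_zero_iff]
  have h1 : (residue A (1 - ζ)) ^ p = 0 := by
    rw [map_sub, map_one, sub_pow_char, one_pow, ← map_pow, hζp, map_one, sub_self]
  exact (pow_eq_zero_iff hp.ne_zero).mp h1

theorem natCast_eq_pow_mul_unit (p : ℕ) (hp : p.Prime) (A : Type*) [CommRing A] [IsDomain A]
    (ζ : A) (hprim : IsPrimitiveRoot ζ p) :
    ∃ ε : A, IsUnit ε ∧ (p : A) = (1 - ζ) ^ (p - 1) * ε := by
  have hp1 : p - 1 + 1 = p := Nat.sub_add_cancel hp.one_le
  have hprim' : IsPrimitiveRoot ζ (p - 1 + 1) := by rw [hp1]; exact hprim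
  have h1 := hprim'.prod_one_sub_pow_eq_order
  have h2 : ∀ k : ℕ, (1 - ζ ^ (k + 1)) = (1 - ζ) * ∑ i ∈ Finset.range (k + 1), ζ ^ i :=
    fun k => (mul_neg_geom_sum ζ (k + 1)).symm
  refine ⟨∏ k ∈ Finset.range (p - 1), ∑ i ∈ Finset.range (k + 1), ζ ^ i, ?_, ?_⟩
  · apply Finset.prod_induction _ IsUnit (fun a b ha hb => ha.mul hb) isUnit_one
    intro k hk
    rw [Finset.mem_range] at hk
    apply hprim.geom_sum_isUnit hp.two_le
    apply Nat.Coprime.symm
    rw [Nat.Prime.coprime_iff_not_dvd hp]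
    exact Nat.not_dvd_of_pos_of_lt (Nat.succ_pos k) (by omega)
  · have h3 : ((p - 1 : ℕ) : A) + 1 = (p : A) := by
      rw [← Nat.cast_add_one, hp1]
    rw [← h3, ← h1, Finset.prod_congr rfl (fun k _ => h2 k), Finset.prod_mul_distrib,
      Finset.prod_const, Finset.card_range]

/-! ### the polynomial `P` -/

theorem monic_of_eq (p : ℕ) (hp : p.Prime) (A : Type*) [CommRing A] [IsDomain A] (w : A)
    (hw0 : w ≠ 0) (P : A[X]) (hP : C (w ^ p) * P = (1 + C w * X) ^ p - 1) :
    P.Monic ∧ P.natDegree = p := by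
  have hR : (1 + C w * X : A[X]) = C w * X + C 1 := by rw [C_1, add_comm]
  have hRdeg : (1 + C w * X : A[X]).natDegree = 1 := by rw [hR]; exact natDegree_linear hw0
  have hRlc : (1 + C w * X : A[X]).leadingCoeff = w := by rw [hR]; exact leadingCoeff_linear hw0
  have hRpdeg : ((1 + C w * X : A[X]) ^ p).natDegree = p := by
    rw [natDegree_pow, hRdeg, mul_one]
  have hRplc : ((1 + C w * X : A[X]) ^ p).leadingCoeff = w ^ p := by
    rw [leadingCoeff_pow, hRlc]
  have hlt : (1 : A[X]).natDegree < ((1 + C w * X : A[X]) ^ p).natDegree := by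
    rw [natDegree_one, hRpdeg]; exact hp.pos
  have hwp0 : w ^ p ≠ 0 := pow_ne_zero p hw0
  have hdeg : P.natDegree = p := by
    have h1 := congrArg natDegree hP
    rw [natDegree_C_mul hwp0, natDegree_sub_eq_left_of_natDegree_lt hlt, hRpdeg] at h1
    exact h1
  have hlc : P.leadingCoeff = 1 := by
    have h1 := congrArg leadingCoeff hP
    rw [leadingCoeff_mul, leadingCoeff_C, leadingCoeff_sub_of_degree_lt (degree_lt_degree hlt),
      hRplc] at h1
    exact mul_left_cancel₀ hwp0 (by rw [h1, mul_one])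
  exact ⟨hlc, hdeg⟩

theorem P_eval {A : Type*} [CommRing A] (p : ℕ) (w : A) (P : A[X])
    (hP : C (w ^ p) * P = (1 + C w * X) ^ p - 1) {B : Type*} [CommRing B] [Algebra A B]
    (t : B) : algebraMap A B w ^ p * aeval t P = (1 + algebraMap A B w * t) ^ p - 1 := by
  have h := congrArg (aeval t) hP
  simp only [map_mul, map_sub, map_pow, map_add, map_one, aeval_C, aeval_X] at h
  exact h

theorem derivative_eq (p : ℕ) (hp : p.Prime) (A : Type*) [CommRing A] [IsDomain A] (w : A)
    (hw0 : w ≠ 0) (P : A[X]) (hP : C (w ^ p) * P = (1 + C w * X) ^ p - 1) (ε : A)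
    (hpw : (p : A) = w ^ (p - 1) * ε) :
    derivative P = C ε * (1 + C w * X) ^ (p - 1) := by
  have h1 := congrArg derivative hP
  have hd : derivative (1 + C w * X : A[X]) = C w := by
    rw [derivative_add, derivative_one, derivative_C_mul, derivative_X, mul_one, zero_add]
  rw [derivative_C_mul, derivative_sub, derivative_one, sub_zero, derivative_pow, hd] at h1
  have hwp : w ^ p = w ^ (p - 1) * w := by rw [← pow_succ, Nat.sub_add_cancel hp.one_le]
  have hC0 : (C (w ^ p) : A[X]) ≠ 0 := by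
    rw [ne_eq, C_eq_zero]; exact pow_ne_zero p hw0
  apply mul_left_cancel₀ hC0
  rw [h1, hpw, hwp]
  simp only [C_mul]
  ring

theorem sep_of_eq (p : ℕ) (hp : p.Prime) (A : Type*) [CommRing A] [IsDomain A] [IsLocalRing A]
    (w : A) (hw0 : w ≠ 0) (hwm : w ∈ maximalIdeal A) (P : A[X])
    (hP : C (w ^ p) * P = (1 + C w * X) ^ p - 1) (ε : A) (hε : IsUnit ε)
    (hpw : (p : A) = w ^ (p - 1) * ε) (a : A) :
    ((P - C a).map (residue A)).Separable := by
  have hwres : residue A w = 0 := (residue_eq_zero_iff w).mpr hwm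
  have hder : derivative ((P - C a).map (residue A)) = C (residue A ε) := by
    rw [derivative_map, derivative_sub, derivative_C, sub_zero,
      derivative_eq p hp A w hw0 P hP ε hpw]
    simp only [Polynomial.map_mul, Polynomial.map_pow, Polynomial.map_add, Polynomial.map_one,
      Polynomial.map_C, Polynomial.map_X, hwres, C_0, zero_mul, add_zero, one_pow, mul_one]
  have hne : residue A ε ≠ 0 := (hε.map (residue A)).ne_zero
  rw [separable_def, hder]
  exact ⟨0, C (residue A ε)⁻¹, by rw [zero_mul, zero_add, ← C_mul, inv_mul_cancel₀ hne, C_1]⟩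

/-- `Q(c) π^{m d}` is integral when `c π^m` is and `deg Q ≤ d`. -/
theorem aeval_div_mem {A L : Type*} [CommRing A] [Field L] [Algebra A L] (π r : A) (c : L)
    (m : ℕ) (hc : c * algebraMap A L π ^ m = algebraMap A L r) (Q : A[X]) (d : ℕ)
    (hQ : Q.natDegree ≤ d) :
    ∃ b₀ : A, aeval c Q * algebraMap A L π ^ (m * d) = algebraMap A L b₀ := by
  refine ⟨∑ i ∈ Finset.range (d + 1), Q.coeff i * r ^ i * π ^ (m * (d - i)), ?_⟩
  rw [aeval_eq_sum_range' (Nat.lt_succ_of_le hQ), Finset.sum_mul, map_sum]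
  apply Finset.sum_congr rfl
  intro i hi
  rw [Finset.mem_range] at hi
  have hid : m * d = m * i + m * (d - i) := by
    rw [← Nat.mul_add]; congr 1; omega
  rw [Algebra.smul_def, hid, pow_add]
  simp only [map_mul, map_pow]
  rw [← hc]
  ring

/-! ### generators -/

theorem adjoin_eq_top_of_affine (K L : Type*) [Field K] [Field L] [Algebra K L] (z z' : L)
    (c d : K) (h : z = algebraMap K L c * z' + algebraMap K L d)
    (hadj : Algebra.adjoin K {z} = ⊤) : Algebra.adjoin K {z'} = ⊤ := by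
  rw [eq_top_iff, ← hadj]
  apply Algebra.adjoin_le
  rw [Set.singleton_subset_iff]
  have hmem : algebraMap K L c * z' + algebraMap K L d ∈ Algebra.adjoin K {z'} :=
    Subalgebra.add_mem _ (Subalgebra.mul_mem _ (Subalgebra.algebraMap_mem _ _)
      (Algebra.subset_adjoin rfl)) (Subalgebra.algebraMap_mem _ _)
  rw [← h] at hmem
  exact hmem

theorem finrank_one_of_mem_range (K L : Type*) [Field K] [Field L] [Algebra K L] (y : L)
    (hadj : Algebra.adjoin K {y} = ⊤) (hy : y ∈ Set.range (algebraMap K L)) :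
    Module.finrank K L = 1 := by
  have h1 : Algebra.adjoin K {y} = ⊥ := by
    rw [eq_bot_iff]
    apply Algebra.adjoin_le
    rw [Set.singleton_subset_iff]
    obtain ⟨c, rfl⟩ := hy
    exact Subalgebra.algebraMap_mem _ c
  rw [finrank_eq_one_iff_of_nonzero' (1 : L) one_ne_zero]
  intro x
  have hx : x ∈ (⊥ : Subalgebra K L) := by rw [← h1, hadj]; exact Algebra.mem_top
  obtain ⟨c, hc⟩ := Algebra.mem_bot.mp hx
  exact ⟨c, by rw [← hc, Algebra.algebraMap_eq_smul_one]⟩

/-! ### Kummer extensions of prime degree -/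

theorem kummer_galois (p : ℕ) (hp : p.Prime) (K L : Type u) [Field K] [Field L] [Algebra K L]
    [CharZero K] (ζ : K) (hζ : IsPrimitiveRoot ζ p) (η : K) (y : L)
    (hy : y ^ p = algebraMap K L η) (hadj : Algebra.adjoin K {y} = ⊤) :
    IsGalois K L ∧ FiniteDimensional K L ∧
      (Module.finrank K L = 1 ∨ Module.finrank K L = p) := by
  have hfmonic : (X ^ p - C η : K[X]).Monic := monic_X_pow_sub_C η hp.ne_zero
  have hroot : aeval y (X ^ p - C η : K[X]) = 0 := by
    rw [map_sub, map_pow, aeval_X, aeval_C, hy, sub_self]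
  have hζL : IsPrimitiveRoot (algebraMap K L ζ) p :=
    hζ.map_of_injective (algebraMap K L).injective
  have hfL : (X ^ p - C η : K[X]).map (algebraMap K L) = X ^ p - C (algebraMap K L η) := by
    simp only [Polynomial.map_sub, Polynomial.map_pow, Polynomial.map_X, Polynomial.map_C]
  have hsplits : ((X ^ p - C η : K[X]).map (algebraMap K L)).Splits := by
    rw [hfL]
    exact X_pow_sub_C_splits_of_isPrimitiveRoot hζL hy
  haveI hsf : IsSplittingField K L (X ^ p - C η) := by
    refine IsSplittingField.mk hsplits ?_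
    rw [eq_top_iff, ← hadj]
    apply Algebra.adjoin_mono
    rw [Set.singleton_subset_iff, mem_rootSet]
    exact ⟨hfmonic.ne_zero, hroot⟩
  haveI hfin : FiniteDimensional K L := IsSplittingField.finiteDimensional L (X ^ p - C η)
  have hnormal : Normal K L := Normal.of_isSplittingField (X ^ p - C η)
  have hgal : IsGalois K L := isGalois_iff.mpr ⟨inferInstance, hnormal⟩
  refine ⟨hgal, hfin, ?_⟩
  by_cases hb : ∃ b : K, b ^ p = η
  · left
    obtain ⟨b, hb⟩ := hb
    apply finrank_one_of_mem_range K L y hadj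
    by_cases hb0 : b = 0
    · refine ⟨0, ?_⟩
      rw [map_zero]
      have h0 : y ^ p = 0 := by rw [hy, ← hb, hb0, zero_pow hp.ne_zero, map_zero]
      exact ((pow_eq_zero_iff hp.ne_zero).mp h0).symm
    · have hbL : algebraMap K L b ≠ 0 := by rwa [ne_eq, map_eq_zero]
      haveI : NeZero p := ⟨hp.ne_zero⟩
      have h1 : (y * (algebraMap K L b)⁻¹) ^ p = 1 := by
        rw [mul_pow, hy, ← hb, map_pow, inv_pow, mul_inv_cancel₀ (pow_ne_zero p hbL)]
      obtain ⟨i, -, hi⟩ := hζL.eq_pow_of_pow_eq_one h1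
      refine ⟨ζ ^ i * b, ?_⟩
      rw [map_mul, map_pow, hi, mul_assoc, inv_mul_cancel₀ hbL, mul_one]
  · right
    push_neg at hb
    have hirr : Irreducible (X ^ p - C η : K[X]) := X_pow_sub_C_irreducible_of_prime hp hb
    exact finrank_of_isSplittingField_X_pow_sub_C ⟨ζ, (mem_primitiveRoots hp.pos).mpr hζ⟩ hirr L

end Groth.Agent.Helper22.KumFacts
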