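import Mathlib
import Groth.Prelude.Def_EtRam
import Groth.Agent.Lib.Helper22.EppNF
import Groth.Agent.Lib.Helper22.TotRam
import Groth.Agent.Lib.Helper22.ASCases2
import Groth.Agent.Lib.Helper22.ASGal
import Groth.Agent.Lib.Helper22.KumFacts

/-!
# The local analysis at a compositum for the Artin–Schreier step of Epp's theorem (S7155)
-/

set_option autoImplicit false
set_option linter.deprecated false
universe u

open TensorProduct IsLocalRing Polynomial

namespace Groth.Agent.Helper22.EppTop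

open Groth.Agent.Helper22.SolTower Groth.Agent.Helper22.WUGen Groth.Agent.Helper22.WUSep
  Groth.Agent.Helper22.TotRam Groth.Agent.Helper22.EppNF Groth.Agent.Helper22.ASGal
  Groth.Agent.Helper22.KumFacts
open Groth.Agent.Helper22.CompCtx (dominates_bottom compat_apply gen_comp exists_dvd)
open Groth.Agent.Helper22.ASCases (dvr_of_dominates insep_core)

/-- the canonical map into an intermediate field -/
def toInter {L M' K₂ : Type*} [Field L] [Field M'] [Field K₂] [Algebra L M']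
    (E : IntermediateField L M') (f : K₂ →+* M') (h : ∀ x, f x ∈ E) : K₂ →+* ↥E where
  toFun x := ⟨f x, h x⟩
  map_one' := Subtype.ext (map_one f)
  map_mul' x y := Subtype.ext (map_mul f x y)
  map_zero' := Subtype.ext (map_zero f)
  map_add' x y := Subtype.ext (map_add f x y)

theorem Q_trans {K₂ E M' : Type u} [Field K₂] [Field E] [Field M'] (f : K₂ →+* E)
    (j : E →+* M') (W : ValuationSubring M') (h1 : Q (W.comap j) f) (h2 : Q W j) :
    Q W (j.comp f) := by
  intro z hz hz0 hzinv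
  obtain ⟨e, heW, he0, heinv, hdiv⟩ := h2 z hz hz0 hzinv
  have heV : e ∈ W.comap j := ValuationSubring.mem_comap.mpr heW
  have heinv' : e⁻¹ ∉ W.comap j := by
    intro h
    apply heinv
    have h3 := ValuationSubring.mem_comap.mp h
    rwa [map_inv₀] at h3
  obtain ⟨a, haV, ha0, hainv, hdiv'⟩ := h1 e heV he0 heinv'
  have hje0 : j e ≠ 0 := (map_ne_zero j).mpr he0
  refine ⟨a, ValuationSubring.mem_comap.mp haV, ha0, ?_, ?_⟩
  · intro h
    apply hainv
    apply ValuationSubring.mem_comap.mpr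
    rw [map_inv₀]
    exact h
  · have h3 : j (e / f a) ∈ W := ValuationSubring.mem_comap.mp hdiv'
    have h4 : z / (j.comp f) a = (z / j e) * j (e / f a) := by
      rw [map_div₀, RingHom.comp_apply, div_mul_div_comm, mul_comm z (j e),
        mul_div_mul_left _ _ hje0]
    rw [h4]
    exact mul_mem hdiv h3

/-! ### the residue field of the compositum with a totally ramified extension -/

section Ctx
variable (A B K L K₁ M : Type u) [CommRing A] [IsDomain A] [IsDiscreteValuationRing A]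
    [CommRing B] [IsDomain B] [IsDiscreteValuationRing B] [Algebra A B]
    [IsLocalHom (algebraMap A B)]
    [Field K] [Field L] [Field K₁] [Field M] [Algebra A K] [IsFractionRing A K] [Algebra B L]
    [IsFractionRing B L]
    [Algebra K L] [Algebra A L] [IsScalarTower A K L] [IsScalarTower A B L]
    [Algebra K K₁] [FiniteDimensional K K₁] [Algebra K M] [Algebra L M] [Algebra K₁ M]
    [IsScalarTower K L M] [IsScalarTower K K₁ M]

theorem res_surj (hw : EtRam.IsWeaklyUnramified A B)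
    (hres : ∀ (V : ValuationSubring K₁)
      (h : EtRam.Dominates A ((algebraMap K K₁).comp (algebraMap A K)) V),
      Function.Surjective (fun a : A =>
        residue V (RingHom.codRestrict ((algebraMap K K₁).comp (algebraMap A K)) V h.1 a)))
    (hadj : Algebra.adjoin L (Set.range (algebraMap K₁ M)) = ⊤) (W : ValuationSubring M)
    (hW : EtRam.Dominates B ((algebraMap L M).comp (algebraMap B L)) W) :
    ∀ w : W, ∃ b : B,
      w - RingHom.codRestrict ((algebraMap L M).comp (algebraMap B L)) W hW.1 b ∈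
        maximalIdeal W := by
  classical
  have hdomA := dominates_bottom A B K L K₁ M W hW
  letI algAV : Algebra A (W.comap (algebraMap K₁ M)) :=
    (RingHom.codRestrict ((algebraMap K K₁).comp (algebraMap A K)) _ hdomA.1).toAlgebra
  haveI locAV : IsLocalHom (algebraMap A (W.comap (algebraMap K₁ M))) :=
    isLocalHom_of_dominates _ _ hdomA
  haveI dvrV : IsDiscreteValuationRing (W.comap (algebraMap K₁ M)) :=
    isDVR_of_dominates A K K₁ _ hdomA
  obtain ⟨π₁, hπ₁⟩ := IsDiscreteValuationRing.exists_irreducible (W.comap (algebraMap K₁ M))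
  obtain ⟨πA, hπA⟩ := IsDiscreteValuationRing.exists_irreducible A
  have hw' : (maximalIdeal A).map (algebraMap A B) = maximalIdeal B := hw
  have hπB : Irreducible (algebraMap A B πA) := by
    rw [IsDiscreteValuationRing.irreducible_iff_uniformizer, ← hw', hπA.maximalIdeal_eq,
      Ideal.map_span, Set.image_singleton]
  obtain ⟨θ₁, hθ₁⟩ : ∃ θ₁ : B →+* W,
      θ₁ = RingHom.codRestrict ((algebraMap L M).comp (algebraMap B L)) W hW.1 := ⟨_, rfl⟩
  obtain ⟨θ₂, hθ₂⟩ : ∃ θ₂ : (W.comap (algebraMap K₁ M)) →+* W,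
      θ₂ = EtRam.inclOfComap W (algebraMap K₁ M) := ⟨_, rfl⟩
  haveI locθ₂ : IsLocalHom θ₂ := by rw [hθ₂]; infer_instance
  haveI locθ₁ : IsLocalHom θ₁ := by rw [hθ₁]; exact isLocalHom_of_dominates _ _ hW
  have hθ₁v : ∀ b : B, ((θ₁ b : W) : M) = algebraMap L M (algebraMap B L b) := by
    intro b; rw [hθ₁]; rfl
  have hθ₂v : ∀ v : W.comap (algebraMap K₁ M), ((θ₂ v : W) : M) = algebraMap K₁ M (v : K₁) := by
    intro v; rw [hθ₂]; rfl
  have hcompat : ∀ a : A, θ₁ (algebraMap A B a) =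
      θ₂ (algebraMap A (W.comap (algebraMap K₁ M)) a) := by
    intro a
    apply Subtype.ext
    rw [hθ₁v, hθ₂v]
    exact (compat_apply A B K L K₁ M a).symm
  have hθ₁inj : Function.Injective θ₁ := by
    intro x y hxy
    have h1 : algebraMap L M (algebraMap B L x) = algebraMap L M (algebraMap B L y) := by
      rw [← hθ₁v, ← hθ₁v, hxy]
    exact IsFractionRing.injective B L ((algebraMap L M).injective h1)
  have hθ₂inj : Function.Injective θ₂ := by
    intro x y hxy
    have h1 : algebraMap K₁ M (x : K₁) = algebraMap K₁ M (y : K₁) := by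
      rw [← hθ₂v, ← hθ₂v, hxy]
    exact Subtype.ext ((algebraMap K₁ M).injective h1)
  have hπAmem : πA ∈ maximalIdeal A := (mem_maximalIdeal _).mpr hπA.not_isUnit
  have hπBmem : algebraMap A B πA ∈ maximalIdeal B := map_nonunit (algebraMap A B) πA hπAmem
  have hπBm : θ₁ (algebraMap A B πA) ∈ maximalIdeal W := map_nonunit θ₁ _ hπBmem
  have hπ₁mem : π₁ ∈ maximalIdeal (W.comap (algebraMap K₁ M)) :=
    (mem_maximalIdeal _).mpr hπ₁.not_isUnit
  have hπm : θ₂ π₁ ∈ maximalIdeal W := map_nonunit θ₂ π₁ hπ₁mem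
  have hπ0 : θ₂ π₁ ≠ 0 := fun h0 => hπ₁.ne_zero (hθ₂inj (by rw [h0, map_zero]))
  have hsepB : ∀ w : W, w ≠ 0 → ∃ n : ℕ, ¬ (θ₁ (algebraMap A B πA)) ^ n ∣ w := by
    apply sep_of_dvd W θ₁ hθ₁inj _ (algebraMap A B πA) hπB hπBm
    intro w hw0
    rw [hθ₁]
    exact exists_dvd B K L K₁ M hadj W hW w hw0
  have hinjAV : Function.Injective (algebraMap A (W.comap (algebraMap K₁ M))) :=
    injective_codRestrict A K K₁ _ hdomA
  have hne : algebraMap A (W.comap (algebraMap K₁ M)) πA ≠ 0 := fun h0 =>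
    hπA.ne_zero ((map_eq_zero_iff _ hinjAV).mp h0)
  obtain ⟨e, u, hu⟩ := IsDiscreteValuationRing.associated_pow_irreducible hne hπ₁
  have hrel : θ₁ (algebraMap A B πA) * θ₂ (u : W.comap (algebraMap K₁ M)) = (θ₂ π₁) ^ e := by
    rw [hcompat, ← map_mul, hu, map_pow]
  have hsep : ∀ w : W, w ≠ 0 → ∃ n : ℕ, ¬ (θ₂ π₁) ^ n ∣ w := by
    intro w hw0
    obtain ⟨n, hn⟩ := hsepB w hw0
    refine ⟨e * n, fun hdiv => hn ?_⟩
    have h1 : (θ₂ π₁) ^ (e * n) =
        (θ₁ (algebraMap A B πA)) ^ n * (θ₂ (u : W.comap (algebraMap K₁ M))) ^ n := by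
      rw [pow_mul, ← hrel, mul_pow]
    rw [h1] at hdiv
    exact dvd_of_mul_right_dvd hdiv
  have hsurjκ : Function.Surjective (algebraMap (ResidueField A)
      (ResidueField (W.comap (algebraMap K₁ M)))) := by
    intro z
    obtain ⟨a, ha⟩ := hres _ hdomA z
    exact ⟨residue A a, ha⟩
  have hE : VNR (ResidueField B ⊗[ResidueField A]
      ResidueField (W.comap (algebraMap K₁ M))) := by
    refine VNR.of_surjective (Algebra.TensorProduct.includeLeftRingHom :
      ResidueField B →+* ResidueField B ⊗[ResidueField A]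
        ResidueField (W.comap (algebraMap K₁ M))) ?_ (vnr_field (ResidueField B))
    intro t
    induction t using TensorProduct.induction_on with
    | zero => exact ⟨0, map_zero _⟩
    | tmul b x =>
      obtain ⟨c, rfl⟩ := hsurjκ x
      refine ⟨c • b, ?_⟩
      show (c • b) ⊗ₜ[ResidueField A] (1 : ResidueField (W.comap (algebraMap K₁ M))) =
        b ⊗ₜ[ResidueField A] (algebraMap (ResidueField A)
          (ResidueField (W.comap (algebraMap K₁ M))) c)
      rw [Algebra.algebraMap_eq_smul_one, TensorProduct.smul_tmul]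
    | add x y hx hy =>
      obtain ⟨x', rfl⟩ := hx
      obtain ⟨y', rfl⟩ := hy
      exact ⟨x' + y', map_add _ _ _⟩
  obtain ⟨-, hC2⟩ := CT A B (W.comap (algebraMap K₁ M)) M W θ₁ θ₂ hcompat hw π₁
    hπ₁.maximalIdeal_eq hπm hπ0 hE hsep (fun S h1 h2 hinv =>
      gen_comp B L K₁ M hadj W S (fun b => by rw [← hθ₁v]; exact h1 b)
        (fun k hk => by
          have h3 := h2 ⟨k, hk⟩
          rw [hθ₂v] at h3
          exact h3) hinv)
  have hP1 : ∀ r : B, ∃ b : B, θ₁ r - θ₁ b ∈ maximalIdeal W :=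
    fun r => ⟨r, by rw [sub_self]; exact Ideal.zero_mem _⟩
  have hP2 : ∀ r : W.comap (algebraMap K₁ M), ∃ b : B, θ₂ r - θ₁ b ∈ maximalIdeal W := by
    intro r
    obtain ⟨a, ha⟩ := hres _ hdomA (residue _ r)
    refine ⟨algebraMap A B a, ?_⟩
    rw [hcompat, ← map_sub]
    apply map_nonunit θ₂
    rw [← residue_eq_zero_iff, map_sub, sub_eq_zero]
    exact ha.symm
  have hP3 : ∀ x y : W, (∃ b : B, x - θ₁ b ∈ maximalIdeal W) →
      (∃ b : B, y - θ₁ b ∈ maximalIdeal W) → ∃ b : B, x + y - θ₁ b ∈ maximalIdeal W := by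
    rintro x y ⟨b₁, h₁⟩ ⟨b₂, h₂⟩
    refine ⟨b₁ + b₂, ?_⟩
    have h : x + y - θ₁ (b₁ + b₂) = (x - θ₁ b₁) + (y - θ₁ b₂) := by rw [map_add]; ring
    rw [h]
    exact Ideal.add_mem _ h₁ h₂
  have hP4 : ∀ x y : W, (∃ b : B, x - θ₁ b ∈ maximalIdeal W) →
      (∃ b : B, y - θ₁ b ∈ maximalIdeal W) → ∃ b : B, x * y - θ₁ b ∈ maximalIdeal W := by
    rintro x y ⟨b₁, h₁⟩ ⟨b₂, h₂⟩
    refine ⟨b₁ * b₂, ?_⟩
    have h : x * y - θ₁ (b₁ * b₂) = x * (y - θ₁ b₂) + θ₁ b₂ * (x - θ₁ b₁) := by
      rw [map_mul]; ring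
    rw [h]
    exact Ideal.add_mem _ (Ideal.mul_mem_left _ _ h₂) (Ideal.mul_mem_left _ _ h₁)
  have hP5 : ∀ x y : W, (∃ b : B, x - θ₁ b ∈ maximalIdeal W) → x * y = 1 →
      ∃ b : B, y - θ₁ b ∈ maximalIdeal W := by
    rintro x y ⟨b, hb⟩ hxy
    have hxu : IsUnit x := IsUnit.of_mul_eq_one y hxy
    have hbu : IsUnit (θ₁ b) := by
      by_contra hnu
      have h1 : θ₁ b ∈ maximalIdeal W := (mem_maximalIdeal _).mpr hnu
      have h2 : x ∈ maximalIdeal W := by
        have h3 := Ideal.add_mem _ hb h1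
        rwa [sub_add_cancel] at h3
      exact (mem_maximalIdeal _).mp h2 hxu
    have hbu' : IsUnit b := isUnit_of_map_unit θ₁ b hbu
    obtain ⟨b', hb'⟩ := hbu'.exists_right_inv
    refine ⟨b', ?_⟩
    have h3 : θ₁ b * θ₁ b' = 1 := by rw [← map_mul, hb', map_one]
    have h4 : y - θ₁ b' = -(y * θ₁ b' * (x - θ₁ b)) := by
      linear_combination (θ₁ b') * hxy - y * h3
    rw [h4]
    exact neg_mem (Ideal.mul_mem_left _ _ hb)
  intro w
  obtain ⟨b, hb⟩ := hC2 (fun w => ∃ b : B, w - θ₁ b ∈ maximalIdeal W) hP1 hP2 hP3 hP4 hP5 w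
  subst hθ₁
  exact ⟨b, hb⟩

end Ctx

/-! ### the approximation of powers of `π` by powers of a root -/

theorem prec_of_rel {F : Type*} [Field F] (V : ValuationSubring F) (PiF ϖ β : F) (q n : ℕ)
    (hq : 0 < q) (hn : 2 ≤ n) (hPi0 : PiF ≠ 0) (hPilt : V.valuation PiF < 1) (hϖ : ϖ ∈ V)
    (hβ : β ∈ V) (hrel : ϖ ^ q = PiF + PiF ^ n * β) :
    ϖ ≠ 0 ∧ V.valuation ϖ < 1 ∧
      ∀ j : ℕ, j + 1 ≤ n → (PiF ^ j)⁻¹ - (ϖ ^ (q * j))⁻¹ ∈ V := by
  obtain ⟨n', rfl⟩ : ∃ n', n = n' + 1 := ⟨n - 1, by omega⟩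
  have hn' : 0 < n' := by omega
  have hPiV : PiF ∈ V := mem_of_val_lt hPilt
  obtain ⟨U, hUdef⟩ : ∃ U : F, U = 1 + PiF ^ n' * β := ⟨_, rfl⟩
  have hU : ϖ ^ q = PiF * U := by rw [hrel, hUdef, pow_succ]; ring
  have hsmall : V.valuation (PiF ^ n' * β) < 1 := val_mul_lt (val_pow_lt hPilt hn') hβ
  have hUval : V.valuation U = 1 := by
    rw [hUdef]; exact (V.valuation).map_one_add_of_lt hsmall
  have hU0 : U ≠ 0 := by
    intro h0
    rw [h0, map_zero] at hUval
    exact zero_ne_one hUval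
  have hϖ0 : ϖ ≠ 0 := by
    intro h0
    rw [h0, zero_pow hq.ne'] at hU
    exact mul_ne_zero hPi0 hU0 hU.symm
  have hϖlt : V.valuation ϖ < 1 := by
    have h1 : V.valuation (ϖ ^ q) < 1 := by
      rw [hU, map_mul, hUval, mul_one]; exact hPilt
    by_contra hge
    have h2 : V.valuation ϖ = 1 :=
      le_antisymm ((ValuationSubring.valuation_le_one_iff V ϖ).mpr hϖ) (not_lt.mp hge)
    rw [map_pow, h2, one_pow] at h1
    exact lt_irrefl _ h1
  refine ⟨hϖ0, hϖlt, ?_⟩
  have hUpow : ∀ j : ℕ, ∃ t ∈ V, U ^ j = 1 + PiF ^ n' * t := by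
    intro j
    induction j with
    | zero => exact ⟨0, zero_mem V, by rw [pow_zero, mul_zero, add_zero]⟩
    | succ j ih =>
      obtain ⟨t, htV, ht⟩ := ih
      refine ⟨t + β + PiF ^ n' * t * β,
        add_mem (add_mem htV hβ) (mul_mem (mul_mem (pow_mem hPiV n') htV) hβ), ?_⟩
      rw [pow_succ, ht, hUdef]; ring
  intro j hj
  obtain ⟨t, htV, ht⟩ := hUpow j
  obtain ⟨e, he⟩ : ∃ e, n' = j + e := ⟨n' - j, by omega⟩
  obtain ⟨T, hT⟩ : ∃ T : F, T = U ^ j := ⟨_, rfl⟩
  rw [← hT] at ht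
  have hTval : V.valuation T = 1 := by rw [hT, map_pow, hUval, one_pow]
  have hT0 : T ≠ 0 := by
    intro h0
    rw [h0, map_zero] at hTval
    exact zero_ne_one hTval
  have hTinv : T⁻¹ ∈ V :=
    (ValuationSubring.valuation_le_one_iff V _).mp (by rw [map_inv₀, hTval, inv_one])
  have hPj0 : PiF ^ j ≠ 0 := pow_ne_zero j hPi0
  have hpow : ϖ ^ (q * j) = PiF ^ j * T := by rw [pow_mul, hU, mul_pow, hT]
  have hT1 : T - 1 = PiF ^ j * (PiF ^ e * t) := by
    rw [ht, add_sub_cancel_left, he, pow_add, mul_assoc]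
  have key : (PiF ^ j)⁻¹ - (ϖ ^ (q * j))⁻¹ = T⁻¹ * (PiF ^ e * t) := by
    rw [hpow, mul_inv]
    have e1 : (PiF ^ j)⁻¹ - (PiF ^ j)⁻¹ * T⁻¹ = (PiF ^ j)⁻¹ * T⁻¹ * (T - 1) := by
      rw [mul_sub, mul_one, mul_assoc, inv_mul_cancel₀ hT0, mul_one]
    rw [e1, hT1, mul_comm ((PiF ^ j)⁻¹) T⁻¹, mul_assoc, ← mul_assoc ((PiF ^ j)⁻¹),
      inv_mul_cancel₀ hPj0, one_mul]
  rw [key]
  exact mul_mem hTinv (mul_mem (pow_mem hPiV e) htV)

/-! ### the degree `p` step over a DVR: unramified or purely inseparable residue extension -/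

theorem top_core (p : ℕ) [hp : Fact p.Prime] (A E M' : Type u) [CommRing A] [IsDomain A]
    [IsDiscreteValuationRing A] [Field E] [Algebra A E] [IsFractionRing A E] [Field M']
    [Algebra E M'] [Algebra A M'] [IsScalarTower A E M'] [CharP E p] [FiniteDimensional E M']
    (W : ValuationSubring M') [Algebra A W] [IsScalarTower A W M'] [IsLocalHom (algebraMap A W)]
    (ϖ : A) (hϖ0 : ϖ ≠ 0) (hϖm : ϖ ∈ maximalIdeal A)
    (z' : M') (hadj : Algebra.adjoin E {z'} = ⊤) (x : E)
    (hz' : z' ^ p - z' = algebraMap E M' x)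
    (hx : (∃ (c : E) (v : A), x - (c ^ p - c) = algebraMap A E v) ∨
      ∃ (P : ℕ) (bs : A) (c : E) (v : A), p ∣ P ∧ 0 < P ∧
        (∀ r : A, residue A bs ≠ residue A r ^ p) ∧
        x - (algebraMap A E ϖ ^ P)⁻¹ * algebraMap A E bs - (c ^ p - c) = algebraMap A E v) :
    EtRam.IsWeaklyUnramified A W := by
  classical
  haveI : CharP M' p := charP_of_injective_algebraMap (algebraMap E M').injective p
  haveI : CharP A p := (algebraMap A E).charP (IsFractionRing.injective A E) p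
  haveI : CharP (ResidueField A) p := charP_residue p hp.out A
  obtain ⟨πA, hπirr⟩ := IsDiscreteValuationRing.exists_irreducible A
  have hπ : maximalIdeal A = Ideal.span {πA} := hπirr.maximalIdeal_eq
  have h1 : ∀ c : E, (z' - algebraMap E M' c) ^ p = z' ^ p - algebraMap E M' c ^ p :=
    fun c => sub_pow_char _ _
  rcases hx with ⟨c, v, hv⟩ | ⟨P, bs, c, v, hpP, hPpos, hbs, hv⟩
  · -- the unramified case
    have hAW : ∀ a : A, algebraMap A M' a = ((algebraMap A W a : W) : M') :=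
      fun a => IsScalarTower.algebraMap_apply A W M' a
    have hdom : EtRam.Dominates A (algebraMap A M') W :=
      ⟨fun a => by rw [hAW]; exact (algebraMap A W a).2,
       fun a ha => by
        rw [hAW]
        exact (ValuationSubring.valuation_lt_one_iff W _).mp
          (map_nonunit (algebraMap A W) a ha)⟩
    haveI : IsDiscreteValuationRing W := dvr_of_dominates A E M' W hdom
    have hz'' : (z' - algebraMap E M' c) ^ p - (z' - algebraMap E M' c) = algebraMap A M' v := by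
      rw [IsScalarTower.algebraMap_apply A E M', ← hv, map_sub, map_sub, map_pow, h1]
      linear_combination hz'
    have h1p : (X + C v : A[X]).degree < (p : WithBot ℕ) := by
      rw [degree_X_add_C]; exact_mod_cast hp.out.one_lt
    have hmonic : (X ^ p - (X + C v) : A[X]).Monic := monic_X_pow_sub h1p
    have hroot : aeval (z' - algebraMap E M' c) (X ^ p - (X + C v) : A[X]) = 0 := by
      rw [map_sub, map_pow, aeval_X, map_add, aeval_X, aeval_C]
      linear_combination hz''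
    have hsepf : ((X ^ p - (X + C v) : A[X]).map (residue A)).Separable := by
      rw [Polynomial.map_sub, Polynomial.map_pow, Polynomial.map_add, Polynomial.map_X,
        Polynomial.map_C]
      exact as_separable p _ _
    have hadj'' : Algebra.adjoin E {z' - algebraMap E M' c} = ⊤ :=
      adjoin_eq_top_of_affine E M' z' _ 1 c (by rw [map_one, one_mul, sub_add_cancel]) hadj
    exact (Groth.Agent.Helper22.ASCases.unram_core A E M' πA hπ _ hmonic _ hroot hsepf
      hadj'' W).1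
  · -- the purely inseparable case
    obtain ⟨j, hj⟩ := hpP
    have hjpos : 0 < j := by
      rcases Nat.eq_zero_or_pos j with h0 | h0
      · rw [h0, mul_zero] at hj; omega
      · exact h0
    have h2j : 2 * j ≤ p * j := Nat.mul_le_mul_right j hp.out.two_le
    obtain ⟨e, he⟩ : ∃ e, P = e + j := ⟨P - j, by omega⟩
    have hepos : 0 < e := by omega
    have hϖM0 : algebraMap A M' ϖ ≠ 0 := by
      rw [IsScalarTower.algebraMap_apply A E M']
      exact (_root_.map_ne_zero _).mpr ((map_ne_zero_iff _ (IsFractionRing.injective A E)).mpr hϖ0)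
    have hx' : x = (algebraMap A E ϖ ^ P)⁻¹ * algebraMap A E bs + algebraMap A E v +
        (c ^ p - c) := by
      linear_combination hv
    have hzp : (z' - algebraMap E M' c) ^ p = (z' - algebraMap E M' c) +
        (algebraMap A M' ϖ ^ P)⁻¹ * algebraMap A M' bs + algebraMap A M' v := by
      have h2 : algebraMap E M' x = (algebraMap A M' ϖ ^ P)⁻¹ * algebraMap A M' bs +
          algebraMap A M' v + (algebraMap E M' c ^ p - algebraMap E M' c) := by
        rw [hx']
        simp only [map_add, map_sub, map_mul, map_pow, map_inv₀,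
          ← IsScalarTower.algebraMap_apply A E M']
      rw [h1]
      linear_combination hz' + h2
    obtain ⟨w, hw⟩ : ∃ w : M', w = algebraMap A M' ϖ ^ j * (z' - algebraMap E M' c) :=
      ⟨_, rfl⟩
    have h5 : algebraMap A M' ϖ ^ P * (algebraMap A M' ϖ ^ P)⁻¹ = 1 :=
      mul_inv_cancel₀ (pow_ne_zero P hϖM0)
    have h6 : algebraMap A M' ϖ ^ P = algebraMap A M' ϖ ^ e * algebraMap A M' ϖ ^ j := by
      rw [he, pow_add]
    have hwp : w ^ p = algebraMap A M' ϖ ^ e * w +
        (algebraMap A M' bs + algebraMap A M' ϖ ^ P * algebraMap A M' v) := by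
      rw [hw, mul_pow, ← pow_mul, mul_comm j p, ← hj, hzp]
      linear_combination algebraMap A M' bs * h5 + (z' - algebraMap E M' c) * h6
    have h1p : (C (ϖ ^ e) * X + C (bs + ϖ ^ P * v) : A[X]).degree < (p : WithBot ℕ) :=
      lt_of_le_of_lt degree_linear_le (by exact_mod_cast hp.out.one_lt)
    have hmonic : (X ^ p - (C (ϖ ^ e) * X + C (bs + ϖ ^ P * v)) : A[X]).Monic :=
      monic_X_pow_sub h1p
    have hroot : aeval w (X ^ p - (C (ϖ ^ e) * X + C (bs + ϖ ^ P * v)) : A[X]) = 0 := by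
      simp only [map_sub, map_add, map_mul, map_pow, aeval_X, aeval_C]
      rw [hwp]; ring
    have hem : ϖ ^ e ∈ maximalIdeal A := Ideal.pow_mem_of_mem _ hϖm e hepos
    have hPm : ϖ ^ P * v ∈ maximalIdeal A :=
      Ideal.mul_mem_right _ _ (Ideal.pow_mem_of_mem _ hϖm P hPpos)
    have hred : (X ^ p - (C (ϖ ^ e) * X + C (bs + ϖ ^ P * v)) : A[X]).map (residue A) =
        X ^ p - C (residue A (bs + ϖ ^ P * v)) := by
      rw [Polynomial.map_sub, Polynomial.map_pow, Polynomial.map_X, Polynomial.map_add,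
        Polynomial.map_mul, Polynomial.map_C, Polynomial.map_C, Polynomial.map_X,
        (residue_eq_zero_iff _).mpr hem, C_0, zero_mul, zero_add]
    have ha : ∀ r : A, residue A (bs + ϖ ^ P * v) ≠ residue A r ^ p := by
      intro r
      rw [map_add, (residue_eq_zero_iff _).mpr hPm, add_zero]
      exact hbs r
    have hadjw : Algebra.adjoin E {w} = ⊤ :=
      adjoin_eq_top_of_affine E M' z' w ((algebraMap A E ϖ ^ j)⁻¹) c (by
        rw [hw, map_inv₀, map_pow, ← IsScalarTower.algebraMap_apply A E M', ← mul_assoc,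
          inv_mul_cancel₀ (pow_ne_zero j hϖM0), one_mul, sub_add_cancel]) hadj
    exact (insep_core A E M' p hp.out πA hπ _ ha w _ hmonic hroot hred hadjw W).1

/-! ### the main local statement -/

section Top
variable (p : ℕ) [hp : Fact p.Prime]
  (A B K L K₁ K₂ E M' : Type u) [CommRing A] [IsDomain A] [IsDiscreteValuationRing A]
  [CommRing B] [IsDomain B] [IsDiscreteValuationRing B] [Algebra A B]
  [IsLocalHom (algebraMap A B)]
  [Field K] [Field L] [Field K₁] [Field K₂] [Field E] [Field M']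
  [Algebra A K] [IsFractionRing A K] [Algebra B L] [IsFractionRing B L]
  [Algebra K L] [Algebra A L] [IsScalarTower A K L] [IsScalarTower A B L]
  [Algebra K K₁] [Algebra K₁ K₂] [Algebra K K₂] [IsScalarTower K K₁ K₂] [FiniteDimensional K K₂]
  [Algebra K E] [Algebra L E] [Algebra K₂ E] [IsScalarTower K L E] [IsScalarTower K K₂ E]
  [Algebra E M'] [CharP L p]

theorem top (hw : EtRam.IsWeaklyUnramified A B)
    (hK₂ : EtRam.IsTotallyRamified A ((algebraMap K K₂).comp (algebraMap A K)))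
    (π : A) (hπ : maximalIdeal A = Ideal.span {π})
    (n k N r₀ : ℕ) (hn : N + 2 ≤ n) (hk : r₀ ≤ k)
    (πB β a₀ c ared : K₁) (a : K) (ξ : L) (y' : K₂)
    (hV₁ : ∀ V₁ : ValuationSubring K₁,
      EtRam.Dominates A ((algebraMap K K₁).comp (algebraMap A K)) V₁ →
      πB ∈ V₁ ∧ β ∈ V₁ ∧ a₀ ∈ V₁)
    (hrel : πB ^ (p ^ k) = algebraMap K K₁ (algebraMap A K π) +
      algebraMap K K₁ (algebraMap A K π) ^ n * β)
    (hdec : algebraMap K K₁ a = (c ^ p - c) + a₀ + ared)
    (hy' : y' ^ p - y' = algebraMap K₁ K₂ ared)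
    (hNF : ∀ (F : Type u) [Field F] [Algebra L F] [CharP F p] (V : ValuationSubring F) (ϖ : F)
      (r Nmax : ℕ), Tgt p B L (algebraMap A L π) F V ϖ r Nmax → r₀ ≤ r → N ≤ Nmax →
      Concl p N r V ϖ (algebraMap L F (ξ - algebraMap K L a)))
    (hadjE : Algebra.adjoin L (Set.range (algebraMap K₂ E)) = ⊤)
    (W : ValuationSubring M')
    (hV' : EtRam.Dominates B ((algebraMap L E).comp (algebraMap B L))
      (W.comap (algebraMap E M')))
    (zM : M') (hzM : zM ^ p - zM = algebraMap E M' (algebraMap L E ξ))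
    (hadjM : Algebra.adjoin E {zM} = ⊤) :
    Q W ((algebraMap E M').comp (algebraMap K₂ E)) := by
  classical
  haveI : CharP E p := charP_of_injective_algebraMap (algebraMap L E).injective p
  haveI : CharP M' p := charP_of_injective_algebraMap (algebraMap E M').injective p
  haveI : CharP K p := (algebraMap K L).charP (algebraMap K L).injective p
  haveI : CharP K₂ p := charP_of_injective_algebraMap (algebraMap K K₂).injective p
  obtain ⟨V', hV'def⟩ : ∃ V' : ValuationSubring E, V' = W.comap (algebraMap E M') := ⟨_, rfl⟩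
  rw [← hV'def] at hV'
  -- `E` is finite over `L`
  haveI hfinLE : FiniteDimensional L E := by
    have hsurj : Function.Surjective (Algebra.TensorProduct.productLeftAlgHom
        (Algebra.ofId L E) (IsScalarTower.toAlgHom K K₂ E)) := by
      rw [← AlgHom.range_eq_top, eq_top_iff, ← hadjE]
      apply Algebra.adjoin_le
      rintro _ ⟨y, rfl⟩
      have h1 : (Algebra.TensorProduct.productLeftAlgHom (Algebra.ofId L E)
          (IsScalarTower.toAlgHom K K₂ E)) ((1 : L) ⊗ₜ[K] y) = algebraMap K₂ E y := by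
        show Algebra.TensorProduct.lift _ _ _ ((1 : L) ⊗ₜ[K] y) = _
        rw [Algebra.TensorProduct.lift_tmul, map_one, one_mul]
        rfl
      exact ⟨_, h1⟩
    exact Module.Finite.of_surjective (Algebra.TensorProduct.productLeftAlgHom
      (Algebra.ofId L E) (IsScalarTower.toAlgHom K K₂ E)).toLinearMap hsurj
  haveI dvrV' : IsDiscreteValuationRing ↥V' := isDVR_of_dominates B L E V' hV'
  have hwf := weak_full A B K L K₂ E hw hK₂.2.2 hadjE V' hV'
  have hQ₁ : Q V' (algebraMap K₂ E) := (wu_iff V' (algebraMap K₂ E)).mp hwf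
  have hrs := res_surj A B K L K₂ E hw hK₂.2.2 hadjE V' hV'
  -- the images of the elements of `K₁`
  have hdomA₂ := dominates_bottom A B K L K₂ E V' hV'
  haveI := isLocalHom_id A
  have hdomA₁ : EtRam.Dominates A ((algebraMap K K₁).comp (algebraMap A K))
      ((V'.comap (algebraMap K₂ E)).comap (algebraMap K₁ K₂)) :=
    dominates_comap (RingHom.id A) _ (algebraMap K₁ K₂)
      ((algebraMap K K₂).comp (algebraMap A K))
      (fun a => by
        show algebraMap K₁ K₂ (algebraMap K K₁ (algebraMap A K a)) =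
          algebraMap K K₂ (algebraMap A K a)
        rw [← IsScalarTower.algebraMap_apply K K₁ K₂]) _ hdomA₂
  obtain ⟨hπBV, hβV, ha₀V⟩ := hV₁ _ hdomA₁
  have hmemV' : ∀ x : K₁, x ∈ (V'.comap (algebraMap K₂ E)).comap (algebraMap K₁ K₂) →
      algebraMap K₂ E (algebraMap K₁ K₂ x) ∈ V' :=
    fun x hx => ValuationSubring.mem_comap.mp (ValuationSubring.mem_comap.mp hx)
  have hϖV := hmemV' πB hπBV
  have hβE := hmemV' β hβV
  have ha₀E := hmemV' a₀ ha₀V
  have hchain : ∀ x : K, algebraMap K₂ E (algebraMap K₁ K₂ (algebraMap K K₁ x)) =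
      algebraMap L E (algebraMap K L x) := by
    intro x
    rw [← IsScalarTower.algebraMap_apply K K₁ K₂, ← IsScalarTower.algebraMap_apply K K₂ E,
      IsScalarTower.algebraMap_apply K L E]
  have hPiF : algebraMap K₂ E (algebraMap K₁ K₂ (algebraMap K K₁ (algebraMap A K π))) =
      algebraMap L E (algebraMap A L π) := by
    rw [hchain, ← IsScalarTower.algebraMap_apply A K L]
  have hrelE : (algebraMap K₂ E (algebraMap K₁ K₂ πB)) ^ (p ^ k) =
      algebraMap L E (algebraMap A L π) +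
        algebraMap L E (algebraMap A L π) ^ n * algebraMap K₂ E (algebraMap K₁ K₂ β) := by
    have h := congrArg (fun x => algebraMap K₂ E (algebraMap K₁ K₂ x)) hrel
    simp only [map_pow, map_add, map_mul] at h
    rw [hPiF] at h
    exact h
  have hπm : π ∈ maximalIdeal A := by rw [hπ]; exact Ideal.subset_span rfl
  have hπBm : algebraMap A B π ∈ maximalIdeal B := map_nonunit (algebraMap A B) π hπm
  have hPilt : V'.valuation (algebraMap L E (algebraMap A L π)) < 1 := by
    have h := hV'.2 _ hπBm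
    rw [IsScalarTower.algebraMap_apply A B L]
    exact h
  have hπ0 : π ≠ 0 := ((IsDiscreteValuationRing.irreducible_iff_uniformizer π).mpr hπ).ne_zero
  have hPi0 : algebraMap L E (algebraMap A L π) ≠ 0 := by
    rw [IsScalarTower.algebraMap_apply A K L]
    exact (_root_.map_ne_zero _).mpr ((_root_.map_ne_zero _).mpr
      ((map_ne_zero_iff _ (IsFractionRing.injective A K)).mpr hπ0))
  obtain ⟨hϖ0, hϖlt, hprec⟩ := prec_of_rel V' (algebraMap L E (algebraMap A L π))
    (algebraMap K₂ E (algebraMap K₁ K₂ πB)) (algebraMap K₂ E (algebraMap K₁ K₂ β)) (p ^ k) n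
    (pow_pos hp.out.pos k) (by omega) hPi0 hPilt hϖV hβE hrelE
  -- non-`p`-th powers stay so
  have hnonpow : ∀ g : B, (∀ h : B, residue B g ≠ residue B h ^ p) → ∀ v ∈ V',
      ¬ V'.valuation (algebraMap L E (algebraMap B L g) - v ^ p) < 1 := by
    intro g hg v hv hlt
    obtain ⟨b, hb⟩ := hrs ⟨v, hv⟩
    obtain ⟨θ₁, hθ₁⟩ : ∃ θ₁ : B →+* ↥V',
        θ₁ = RingHom.codRestrict ((algebraMap L E).comp (algebraMap B L)) V' hV'.1 := ⟨_, rfl⟩
    rw [← hθ₁] at hb
    haveI : IsLocalHom θ₁ := by rw [hθ₁]; exact isLocalHom_of_dominates _ _ hV'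
    have h1 : θ₁ g - (⟨v, hv⟩ : ↥V') ^ p ∈ maximalIdeal ↥V' := by
      rw [hθ₁]
      exact (ValuationSubring.valuation_lt_one_iff V' _).mpr hlt
    have h2 : (⟨v, hv⟩ : ↥V') ^ p - θ₁ b ^ p ∈ maximalIdeal ↥V' := by
      obtain ⟨d, hd⟩ := sub_dvd_pow_sub_pow (⟨v, hv⟩ : ↥V') (θ₁ b) p
      rw [hd]
      exact Ideal.mul_mem_right _ _ hb
    have h3 : θ₁ (g - b ^ p) ∈ maximalIdeal ↥V' := by
      have h4 : θ₁ (g - b ^ p) = (θ₁ g - (⟨v, hv⟩ : ↥V') ^ p) +
          ((⟨v, hv⟩ : ↥V') ^ p - θ₁ b ^ p) := by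
        rw [map_sub, map_pow]; ring
      rw [h4]
      exact Ideal.add_mem _ h1 h2
    have h5 : g - b ^ p ∈ maximalIdeal B := by
      by_contra hnm
      have hu : IsUnit (g - b ^ p) := by
        rw [mem_maximalIdeal, mem_nonunits_iff, not_not] at hnm
        exact hnm
      exact (mem_maximalIdeal _).mp h3 (hu.map θ₁)
    apply hg b
    rw [← map_pow, ← sub_eq_zero, ← map_sub, residue_eq_zero_iff]
    exact h5
  have tgt : Tgt p B L (algebraMap A L π) E V' (algebraMap K₂ E (algebraMap K₁ K₂ πB)) k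
      (N + 1) :=
    { memB := fun b => hV'.1 b
      memϖ := hϖV
      ϖ_ne := hϖ0
      ϖ_lt := hϖlt
      prec := fun j hj => hprec j (by omega)
      nonpow := hnonpow }
  have hC := hNF E V' (algebraMap K₂ E (algebraMap K₁ K₂ πB)) k (N + 1) tgt hk (Nat.le_succ N)
  -- the new generator
  obtain ⟨e₀, he₀⟩ : ∃ e₀ : E, e₀ = algebraMap K₂ E (y' + algebraMap K₁ K₂ c) := ⟨_, rfl⟩
  have hdec' : algebraMap K K₁ a - a₀ = (c ^ p - c) + ared := by rw [hdec]; ring
  have he₀p : e₀ ^ p - e₀ =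
      algebraMap L E (algebraMap K L a) - algebraMap K₂ E (algebraMap K₁ K₂ a₀) := by
    have h1 : (y' + algebraMap K₁ K₂ c) ^ p - (y' + algebraMap K₁ K₂ c) =
        algebraMap K₁ K₂ (algebraMap K K₁ a - a₀) := by
      rw [hdec', add_pow_char, map_add, map_sub, map_pow, ← hy']; ring
    rw [he₀, ← map_pow, ← map_sub, h1, map_sub, map_sub, hchain]
  obtain ⟨x, hxdef⟩ : ∃ x : E, x = algebraMap L E (ξ - algebraMap K L a) +
      algebraMap K₂ E (algebraMap K₁ K₂ a₀) := ⟨_, rfl⟩
  obtain ⟨z', hz'def⟩ : ∃ z' : M', z' = zM - algebraMap E M' e₀ := ⟨_, rfl⟩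
  have hz' : z' ^ p - z' = algebraMap E M' x := by
    have h2 : (zM - algebraMap E M' e₀) ^ p = zM ^ p - algebraMap E M' e₀ ^ p :=
      sub_pow_char _ _
    have h3 : algebraMap E M' x = algebraMap E M' (algebraMap L E ξ) -
        (algebraMap E M' e₀ ^ p - algebraMap E M' e₀) := by
      rw [← map_pow, ← map_sub, ← map_sub, he₀p, hxdef, map_sub]
      congr 1
      ring
    rw [hz'def, h2, h3, ← hzM]
    ring
  have hCx : Concl p N k V' (algebraMap K₂ E (algebraMap K₁ K₂ πB)) x := by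
    rw [hxdef]
    exact hC.add_InG (InG.of_mem ha₀E)
  have hadjz' : Algebra.adjoin E {z'} = ⊤ :=
    adjoin_eq_top_of_affine E M' zM z' 1 e₀
      (by rw [hz'def, map_one, one_mul, sub_add_cancel]) hadjM
  have hgen' : IntermediateField.adjoin E {z'} = ⊤ := by
    rw [eq_top_iff]
    intro y _
    have hy : y ∈ Algebra.adjoin E {z'} := by rw [hadjz']; exact Algebra.mem_top
    exact IntermediateField.algebra_adjoin_le_adjoin E _ hy
  obtain ⟨-, hfinEM, -, -, -⟩ := as_galois p E M' x z' hz' hgen'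
  haveI := hfinEM
  -- conversion of the normal form
  have hxform : (∃ (c' : E) (v : ↥V'), x - (c' ^ p - c') = algebraMap ↥V' E v) ∨
      ∃ (P : ℕ) (bs : ↥V') (c' : E) (v : ↥V'), p ∣ P ∧ 0 < P ∧
        (∀ r : ↥V', residue ↥V' bs ≠ residue ↥V' r ^ p) ∧
        x - (algebraMap ↥V' E ⟨algebraMap K₂ E (algebraMap K₁ K₂ πB), hϖV⟩ ^ P)⁻¹ *
          algebraMap ↥V' E bs - (c' ^ p - c') = algebraMap ↥V' E v := by
    rcases hCx with ⟨c', hc'⟩ | ⟨P, bs, hpP, hPpos, -, -, hbs, hnp, c', hc'⟩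
    · exact Or.inl ⟨c', ⟨_, hc'⟩, rfl⟩
    · refine Or.inr ⟨P, ⟨bs, hbs⟩, c', ⟨_, hc'⟩, hpP, hPpos, ?_, rfl⟩
      intro r heq
      apply hnp (r : E) r.2
      have hm : ((⟨bs, hbs⟩ : ↥V') - r ^ p) ∈ maximalIdeal ↥V' := by
        rw [← residue_eq_zero_iff, map_sub, map_pow, heq, sub_self]
      exact (ValuationSubring.valuation_lt_one_iff V' _).mp hm
  have hϖm : (⟨algebraMap K₂ E (algebraMap K₁ K₂ πB), hϖV⟩ : ↥V') ∈ maximalIdeal ↥V' :=
    (ValuationSubring.valuation_lt_one_iff V' _).mpr hϖlt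
  have hϖA0 : (⟨algebraMap K₂ E (algebraMap K₁ K₂ πB), hϖV⟩ : ↥V') ≠ 0 :=
    fun h => hϖ0 (congrArg Subtype.val h)
  subst hV'def
  letI algVM : Algebra ↥(W.comap (algebraMap E M')) M' :=
    ((algebraMap E M').comp (algebraMap ↥(W.comap (algebraMap E M')) E)).toAlgebra
  haveI : IsScalarTower ↥(W.comap (algebraMap E M')) E M' :=
    IsScalarTower.of_algebraMap_eq (fun _ => rfl)
  letI algVW : Algebra ↥(W.comap (algebraMap E M')) ↥W :=
    (EtRam.inclOfComap W (algebraMap E M')).toAlgebra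
  haveI : IsScalarTower ↥(W.comap (algebraMap E M')) ↥W M' :=
    IsScalarTower.of_algebraMap_eq (fun _ => rfl)
  haveI : IsLocalHom (algebraMap ↥(W.comap (algebraMap E M')) ↥W) :=
    EtRam.isLocalHom_inclOfComap W (algebraMap E M')
  have hwu := top_core p ↥(W.comap (algebraMap E M')) E M' W _ hϖA0 hϖm z' hadjz' x hz' hxform
  have hQ₂ : Q W (algebraMap E M') := (wu_iff W (algebraMap E M')).mp hwu
  exact Q_trans (algebraMap K₂ E) (algebraMap E M') W hQ₁ hQ₂

end Top

end Groth.Agent.Helper22.EppTop
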