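import Groth.Agent.Lib.Helper12.Unipotent
import Mathlib

/-!
# Subcomodules as comodules (over a field), and the action of functionals on comodules
-/

set_option autoImplicit false

namespace Groth.Agent.Helper22.SubComod

open TensorProduct Groth.Agent.Helper12

universe u v w

section Sub

variable {k : Type u} [Field k] {C : Type v} [AddCommGroup C] [Module k C] [Coalgebra k C]
variable {V : Type w} [AddCommGroup V] [Module k V] [HopfRep.Comod k C V]

omit [Coalgebra k C] [HopfRep.Comod k C V] in
theorem rTensor_subtype_injective (W : Submodule k V) (M : Type*) [AddCommGroup M] [Module k M] :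
    Function.Injective (W.subtype.rTensor M) :=
  Module.Flat.rTensor_preserves_injective_linearMap _ W.injective_subtype

omit [Field k] [Coalgebra k C] [HopfRep.Comod k C V] in
theorem rTensor_lTensor_comm {k : Type u} [CommRing k] {C : Type v} [AddCommGroup C] [Module k C]
    {V : Type w} [AddCommGroup V] [Module k V]
    {W' : Type*} [AddCommGroup W'] [Module k W'] {D : Type*} [AddCommGroup D]
    [Module k D] (j : W' →ₗ[k] V) (f : C →ₗ[k] D) (z : W' ⊗[k] C) :
    j.rTensor D (f.lTensor W' z) = f.lTensor V (j.rTensor C z) := by
  rw [← LinearMap.comp_apply, ← LinearMap.comp_apply, LinearMap.rTensor_comp_lTensor,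
    LinearMap.lTensor_comp_rTensor]

/-- the coaction restricted to a subcomodule -/
noncomputable def subCoact (W : Submodule k V) (hW : HopfRep.IsSubcomod (k := k) (A := C) W) :
    W →ₗ[k] W ⊗[k] C :=
  (LinearEquiv.ofInjective (W.subtype.rTensor C) (rTensor_subtype_injective W C)).symm.toLinearMap ∘ₗ
    LinearMap.codRestrict (LinearMap.range (W.subtype.rTensor C))
      (HopfRep.Comod.coact (k := k) (A := C) ∘ₗ W.subtype) (fun w => hW w w.2)

theorem rTensor_subCoact (W : Submodule k V) (hW : HopfRep.IsSubcomod (k := k) (A := C) W)
    (w : W) : W.subtype.rTensor C (subCoact W hW w) =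
      HopfRep.Comod.coact (k := k) (A := C) (w : V) := by
  unfold subCoact
  rw [LinearMap.comp_apply]
  have := LinearEquiv.apply_symm_apply
    (LinearEquiv.ofInjective (W.subtype.rTensor C) (rTensor_subtype_injective W C))
    (LinearMap.codRestrict (LinearMap.range (W.subtype.rTensor C))
      (HopfRep.Comod.coact (k := k) (A := C) ∘ₗ W.subtype) (fun w => hW w w.2) w)
  have h2 := congrArg Subtype.val this
  rw [LinearEquiv.ofInjective_apply] at h2
  exact h2

/-- a subcomodule is a comodule -/
@[reducible] noncomputable def subComod (W : Submodule k V)
    (hW : HopfRep.IsSubcomod (k := k) (A := C) W) : HopfRep.Comod k C W where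
  coact := subCoact W hW
  coassoc := by
    apply LinearMap.ext
    intro w
    apply rTensor_subtype_injective W (C ⊗[k] C)
    simp only [LinearMap.comp_apply, LinearEquiv.coe_coe]
    -- right side
    have hR : W.subtype.rTensor (C ⊗[k] C)
        ((CoalgebraStruct.comul (R := k) (A := C)).lTensor W (subCoact W hW w)) =
        (CoalgebraStruct.comul (R := k) (A := C)).lTensor V
          (HopfRep.Comod.coact (k := k) (A := C) (w : V)) := by
      rw [rTensor_lTensor_comm, rTensor_subCoact W hW w]
    rw [hR]
    have hco := LinearMap.congr_fun (HopfRep.Comod.coassoc (k := k) (A := C) (V := V)) (w : V)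
    simp only [LinearMap.comp_apply, LinearEquiv.coe_coe] at hco
    rw [← hco, ← rTensor_subCoact W hW w]
    generalize subCoact W hW w = z
    induction z using TensorProduct.induction_on with
    | zero => simp
    | tmul x c =>
      simp only [LinearMap.rTensor_tmul, Submodule.subtype_apply]
      rw [← rTensor_subCoact W hW x]
      generalize subCoact W hW x = y
      induction y using TensorProduct.induction_on with
      | zero => simp
      | tmul x' c' => simp
      | add a b ha hb => simp only [TensorProduct.add_tmul, map_add, ha, hb]
    | add a b ha hb => simp only [map_add, ha, hb]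
  counit_comp := by
    apply LinearMap.ext
    intro w
    apply rTensor_subtype_injective W k
    simp only [LinearMap.comp_apply, LinearMap.flip_apply, TensorProduct.mk_apply,
      LinearMap.rTensor_tmul, Submodule.subtype_apply]
    have hcu := LinearMap.congr_fun (HopfRep.Comod.counit_comp (k := k) (A := C) (V := V)) (w : V)
    simp only [LinearMap.comp_apply, LinearMap.flip_apply, TensorProduct.mk_apply] at hcu
    rw [← hcu, rTensor_lTensor_comm, rTensor_subCoact W hW w]

theorem subComod_coact (W : Submodule k V) (hW : HopfRep.IsSubcomod (k := k) (A := C) W)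
    (w : W) : W.subtype.rTensor C
      (@HopfRep.Comod.coact k C _ _ _ _ W _ _ (subComod W hW) w) =
      HopfRep.Comod.coact (k := k) (A := C) (w : V) :=
  rTensor_subCoact W hW w

end Sub

end Groth.Agent.Helper22.SubComod
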