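import Mathlib
import Groth.Prelude.Def_GLin
import Groth.Prelude.Def_Hoch
import Groth.Agent.Lib.Helper22.SubComod
import Groth.Agent.Lib.Helper12.ComodSub

/-!
# Orbits of unipotent groups on affine schemes are closed: comodule part (helper22)

For a commutative Hopf algebra `H` over a field `k` coacting on a `k`-algebra `A`, and a rational
point `x` of `A`: the orbit map `φ : A → H` is a comodule map; for every algebra map `y : A → K`
the translated orbit map `τ_y = (y ⊗ id) ∘ ρ : A → K ⊗ H` has a subcomodule as kernel, and when `H`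
is unipotent and `ker φ ≤ ker y`, `ker τ_y = ker φ`.
-/

set_option autoImplicit false
universe u v w w'

open TensorProduct Groth.Agent.Helper12

namespace Groth.Agent.Helper22.KR

section Gen

variable {k : Type u} [Field k] {C : Type v} [AddCommGroup C] [Module k C] [Coalgebra k C]
  {V : Type w} [AddCommGroup V] [Module k V] [HopfRep.Comod k C V]

theorem gen_le (v : V) (W : Submodule k V) (hW : HopfRep.IsSubcomod (k := k) (A := C) W)
    (hv : v ∈ W) : gen (k := k) (C := C) v ≤ W := by
  unfold gen
  rw [Submodule.span_le]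
  rintro _ ⟨l, rfl⟩
  exact slice_mem_of_mem_range W l _ (hW v hv)

end Gen

section Fixed

variable {k : Type u} [Field k] {H : Type v} [CommRing H] [HopfAlgebra k H]

theorem eq_smul_one_of_comul_eq (h : H)
    (hh : CoalgebraStruct.comul (R := k) h = h ⊗ₜ[k] (1 : H)) :
    h = CoalgebraStruct.counit (R := k) h • (1 : H) := by
  have h1 := Coalgebra.rTensor_counit_comul (R := k) h
  rw [hh, LinearMap.rTensor_tmul] at h1
  have h2 := congrArg (TensorProduct.lid k H) h1
  rw [TensorProduct.lid_tmul, TensorProduct.lid_tmul, one_smul] at h2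
  exact h2.symm

/-- A nonzero finite-dimensional subcomodule of the regular comodule of a unipotent Hopf algebra
contains `1`. -/
theorem one_mem_of_isUnipotent (hU : HopfRep.IsUnipotent k H) (W : Submodule k H)
    (hW : HopfRep.IsSubcomod (k := k) (A := H) W) [Module.Finite k W] (hne : W ≠ ⊥) :
    (1 : H) ∈ W := by
  letI : HopfRep.Comod k H W := SubComod.subComod W hW
  haveI : Nontrivial W := Submodule.nontrivial_iff_ne_bot.mpr hne
  have hfix := hU W inferInstance inferInstance
  obtain ⟨w, hwmem, hw0⟩ := Submodule.exists_mem_ne_zero_of_ne_bot hfix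
  have hw1 : HopfRep.Comod.coact (k := k) (A := H) w = w ⊗ₜ[k] (1 : H) := hwmem
  have hw2 := SubComod.subComod_coact W hW w
  rw [hw1, LinearMap.rTensor_tmul] at hw2
  have hw3 : CoalgebraStruct.comul (R := k) (w : H) = (w : H) ⊗ₜ[k] (1 : H) := hw2.symm
  have hw4 := eq_smul_one_of_comul_eq (w : H) hw3
  obtain ⟨c, hc⟩ : ∃ c : k, c = CoalgebraStruct.counit (R := k) (w : H) := ⟨_, rfl⟩
  rw [← hc] at hw4
  have hc0 : c ≠ 0 := by
    intro h0
    rw [h0, zero_smul] at hw4
    exact hw0 (Subtype.ext hw4)
  have h1 : (1 : H) = c⁻¹ • (w : H) := by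
    rw [hw4, smul_smul, inv_mul_cancel₀ hc0, one_smul]
  rw [h1]
  exact W.smul_mem _ w.2

end Fixed

section Orbit

variable {k : Type u} [Field k] {H : Type v} [CommRing H] [HopfAlgebra k H]
  {A : Type w} [CommRing A] [Algebra k A] [HopfRep.Comod k H A] [GLin.IsCoactAlg k H A]

theorem map_apply_eq_rTensor {K : Type w'} [CommRing K] [Algebra k K] (y : A →ₐ[k] K)
    (z : A ⊗[k] H) :
    Algebra.TensorProduct.map y (AlgHom.id k H) z = y.toLinearMap.rTensor H z := by
  induction z using TensorProduct.induction_on with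
  | zero => simp
  | tmul a h => simp
  | add z₁ z₂ h₁ h₂ => simp only [map_add, h₁, h₂]

theorem orbitHom_apply (x : A →ₐ[k] k) (a : A) :
    GLin.orbitHom k H x a = TensorProduct.lid k H
      (x.toLinearMap.rTensor H (HopfRep.Comod.coact (k := k) (A := H) a)) := by
  rw [← map_apply_eq_rTensor]
  rfl

/-- `a ⊗ h ↦ x(a) h`. -/
noncomputable def Lx (x : A →ₐ[k] k) (M : Type*) [AddCommGroup M] [Module k M] :
    A ⊗[k] M →ₗ[k] M :=
  (TensorProduct.lid k M).toLinearMap ∘ₗ x.toLinearMap.rTensor M

theorem Lx_tmul (x : A →ₐ[k] k) (M : Type*) [AddCommGroup M] [Module k M] (a : A) (m : M) :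
    Lx x M (a ⊗ₜ m) = x a • m := by
  simp [Lx]

theorem comul_Lx (x : A →ₐ[k] k) (z : A ⊗[k] H) :
    CoalgebraStruct.comul (R := k) (Lx x H z) =
      Lx x (H ⊗[k] H) ((CoalgebraStruct.comul (R := k) (A := H)).lTensor A z) := by
  induction z using TensorProduct.induction_on with
  | zero => simp
  | tmul a h => rw [Lx_tmul, map_smul, LinearMap.lTensor_tmul, Lx_tmul]
  | add z₁ z₂ h₁ h₂ => simp only [map_add, h₁, h₂]

theorem Lx_assoc (x : A →ₐ[k] k) (w : (A ⊗[k] H) ⊗[k] H) :
    Lx x (H ⊗[k] H) (TensorProduct.assoc k A H H w) = (Lx x H).rTensor H w := by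
  induction w using TensorProduct.induction_on with
  | zero => simp
  | tmul t h' =>
    induction t using TensorProduct.induction_on with
    | zero => simp
    | tmul a h =>
      rw [TensorProduct.assoc_tmul, Lx_tmul, LinearMap.rTensor_tmul, Lx_tmul,
        TensorProduct.smul_tmul']
    | add t₁ t₂ h₁ h₂ => simp only [TensorProduct.add_tmul, map_add, h₁, h₂]
  | add w₁ w₂ h₁ h₂ => simp only [map_add, h₁, h₂]

theorem orbitHom_eq_Lx (x : A →ₐ[k] k) :
    (GLin.orbitHom k H x).toLinearMap = Lx x H ∘ₗ HopfRep.Comod.coact (k := k) (A := H) := by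
  apply LinearMap.ext
  intro a
  exact orbitHom_apply x a

/-- The orbit map is a map of comodules (to the regular comodule). -/
theorem orbitHom_isComodHom (x : A →ₐ[k] k) :
    Hoch.IsComodHom H (GLin.orbitHom k H x).toLinearMap := by
  apply LinearMap.ext
  intro a
  have hco := LinearMap.congr_fun (HopfRep.Comod.coassoc (k := k) (A := H) (V := A)) a
  simp only [LinearMap.comp_apply, LinearEquiv.coe_coe] at hco
  show CoalgebraStruct.comul (R := k) ((GLin.orbitHom k H x).toLinearMap a) =
    (GLin.orbitHom k H x).toLinearMap.rTensor H (HopfRep.Comod.coact (k := k) (A := H) a)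
  rw [orbitHom_eq_Lx, LinearMap.comp_apply, comul_Lx, ← hco, Lx_assoc, LinearMap.rTensor_comp,
    LinearMap.comp_apply]

theorem comul_orbitHom (x : A →ₐ[k] k) (a : A) :
    CoalgebraStruct.comul (R := k) (GLin.orbitHom k H x a) =
      (GLin.orbitHom k H x).toLinearMap.rTensor H (HopfRep.Comod.coact (k := k) (A := H) a) :=
  LinearMap.congr_fun (orbitHom_isComodHom x) a

/-- The translated orbit map of a `K`-point `y`. -/
noncomputable def tau {K : Type w'} [CommRing K] [Algebra k K] (y : A →ₐ[k] K) :
    A →ₐ[k] K ⊗[k] H :=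
  (Algebra.TensorProduct.map y (AlgHom.id k H)).comp (GLin.coactAlgHom k H A)

theorem tau_apply {K : Type w'} [CommRing K] [Algebra k K] (y : A →ₐ[k] K) (a : A) :
    tau (H := H) y a = y.toLinearMap.rTensor H (HopfRep.Comod.coact (k := k) (A := H) a) := by
  rw [← map_apply_eq_rTensor]
  rfl

theorem ker_tau_isSubcomod {K : Type w'} [CommRing K] [Algebra k K] (y : A →ₐ[k] K) :
    HopfRep.IsSubcomod (k := k) (A := H) (LinearMap.ker (tau (H := H) y).toLinearMap) := by
  intro a ha
  have ha' : tau (H := H) y a = 0 := ha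
  apply mem_range_rTensor_of_slice_mem (Module.Basis.ofVectorSpace k H)
  intro i
  rw [LinearMap.mem_ker]
  show tau (H := H) y (slice _ (HopfRep.Comod.coact (k := k) (A := H) a)) = 0
  rw [tau_apply, coact_slice_coact, SubComod.rTensor_lTensor_comm, ← tau_apply, ha', map_zero]

theorem ker_orbitHom_isSubcomod (x : A →ₐ[k] k) :
    HopfRep.IsSubcomod (k := k) (A := H) (LinearMap.ker (GLin.orbitHom k H x).toLinearMap) := by
  have h := comap_isSubcomod (orbitHom_isComodHom (H := H) x) ⊥ (by
    intro w hw
    rw [(Submodule.mem_bot k).mp hw, map_zero]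
    exact Submodule.zero_mem _)
  exact h

/-- Unipotent groups act "simply" on orbit closures: if `ker φ ≤ ker y` then `ker τ_y = ker φ`. -/
theorem ker_tau_eq (hU : HopfRep.IsUnipotent k H) (x : A →ₐ[k] k) {K : Type w'} [CommRing K]
    [Algebra k K] [Nontrivial (K ⊗[k] H)] (y : A →ₐ[k] K)
    (hy : ∀ a, GLin.orbitHom k H x a = 0 → y a = 0) (a : A) :
    tau (H := H) y a = 0 ↔ GLin.orbitHom k H x a = 0 := by
  constructor
  · intro ha
    by_contra hne
    let W : Submodule k A := LinearMap.ker (tau (H := H) y).toLinearMap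
    have hW : HopfRep.IsSubcomod (k := k) (A := H) W := ker_tau_isSubcomod y
    have haW : a ∈ W := ha
    let V : Submodule k A := gen (k := k) (C := H) a
    have hVW : V ≤ W := gen_le a W hW haW
    haveI : Module.Finite k V := gen_finite a
    let V' : Submodule k H := V.map (GLin.orbitHom k H x).toLinearMap
    have hV' : HopfRep.IsSubcomod (k := k) (A := H) V' :=
      map_isSubcomod (orbitHom_isComodHom x) V (gen_isSubcomod a)
    haveI : Module.Finite k V' := Module.Finite.map V _
    have hV'ne : V' ≠ ⊥ := by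
      intro h0
      have h1 : GLin.orbitHom k H x a ∈ V' := Submodule.mem_map_of_mem (mem_gen a)
      rw [h0] at h1
      exact hne ((Submodule.mem_bot k).mp h1)
    have h1 : (1 : H) ∈ V' := one_mem_of_isUnipotent hU V' hV' hV'ne
    obtain ⟨v, hvV, hv1⟩ := h1
    have hv1' : GLin.orbitHom k H x v = 1 := hv1
    have h2 : GLin.orbitHom k H x (v - 1) = 0 := by
      rw [map_sub, hv1', map_one, sub_self]
    have h3 : tau (H := H) y (v - 1) = 0 := by
      -- ker φ ≤ ker τ
      have hsub := ker_orbitHom_isSubcomod (H := H) x (v - 1) h2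
      obtain ⟨z, hz⟩ := hsub
      rw [tau_apply, ← hz, ← LinearMap.comp_apply, ← LinearMap.rTensor_comp]
      have h0 : y.toLinearMap ∘ₗ
          (LinearMap.ker (GLin.orbitHom k H x).toLinearMap).subtype = 0 := by
        apply LinearMap.ext
        intro b
        exact hy b b.2
      rw [h0, LinearMap.rTensor_zero, LinearMap.zero_apply]
    have h4 : tau (H := H) y v = 0 := hVW hvV
    rw [map_sub, h4, map_one, zero_sub, neg_eq_zero] at h3
    exact one_ne_zero h3
  · intro ha
    have hsub := ker_orbitHom_isSubcomod (H := H) x a ha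
    obtain ⟨z, hz⟩ := hsub
    rw [tau_apply, ← hz, ← LinearMap.comp_apply, ← LinearMap.rTensor_comp]
    have h0 : y.toLinearMap ∘ₗ
        (LinearMap.ker (GLin.orbitHom k H x).toLinearMap).subtype = 0 := by
      apply LinearMap.ext
      intro b
      exact hy b b.2
    rw [h0, LinearMap.rTensor_zero, LinearMap.zero_apply]

end Orbit

end Groth.Agent.Helper22.KR
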