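import Mathlib
import Groth.Prelude.Def_GLin
import Groth.Prelude.Def_ComodSub
import Groth.Agent.Lib.Helper12.Comod
import Groth.Agent.Lib.Helper22.KR1
import Groth.Agent.Lib.Helper22.StabOpen5

/-!
# Equivariant Zariski main theorem: comodule part (helper22)

* a subspace of a comodule over a reduced finitely generated Hopf algebra over an algebraically
  closed field which is stable under all rational points is a subcomodule;
* the integral closure of `S` in `R` (for an equivariant map `S → R` of comodule algebras) is a
  subcomodule;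
* a subalgebra of a comodule algebra all of whose slices stay inside is a comodule algebra.
-/

set_option autoImplicit false
set_option maxHeartbeats 400000

namespace Groth.Agent.Helper22.EqZMT

open TensorProduct Groth.Agent.Helper12

universe u

section Slice

variable {k : Type u} [Field k] {C : Type u} [AddCommGroup C] [Module k C]
variable {U V : Type u} [AddCommGroup U] [Module k U] [AddCommGroup V] [Module k V]

theorem slice_rTensor (f : U →ₗ[k] V) (l : C →ₗ[k] k) (t : U ⊗[k] C) :
    slice l (f.rTensor C t) = f (slice l t) := by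
  induction t using TensorProduct.induction_on with
  | zero => simp
  | tmul u c => rw [LinearMap.rTensor_tmul, slice_tmul, slice_tmul, map_smul]
  | add x y hx hy => simp only [map_add, hx, hy]

theorem mem_range_rTensor_of_slice (f : U →ₗ[k] V) (x : V ⊗[k] C)
    (h : ∀ l : C →ₗ[k] k, slice l x ∈ LinearMap.range f) :
    x ∈ LinearMap.range (f.rTensor C) := by
  obtain ⟨y, hy⟩ := mem_range_rTensor_of_slice_mem (Module.Basis.ofVectorSpace k C)
    (LinearMap.range f) x (fun i => h _)
  obtain ⟨z, hz⟩ := LinearMap.rTensor_surjective C (LinearMap.surjective_rangeRestrict f) y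
  refine ⟨z, ?_⟩
  have hcomp : (LinearMap.range f).subtype ∘ₗ f.rangeRestrict = f := LinearMap.ext fun _ => rfl
  rw [← hy, ← hz, ← LinearMap.rTensor_comp_apply, hcomp]

end Slice

section MapR

variable {k : Type u} [Field k] {A : Type u} [CommRing A] [Algebra k A]
variable {R : Type u} [CommRing R] [Algebra k R] {S : Type u} [CommRing S] [Algebra k S]

theorem map_eq_rTensor' (ι : S →ₐ[k] R) (t : S ⊗[k] A) :
    Algebra.TensorProduct.map ι (AlgHom.id k A) t = ι.toLinearMap.rTensor A t := by
  induction t using TensorProduct.induction_on with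
  | zero => simp
  | tmul s a =>
    rw [Algebra.TensorProduct.map_tmul, LinearMap.rTensor_tmul]
    rfl
  | add x y hx hy => rw [map_add, map_add, hx, hy]

end MapR

section Pts

variable {k : Type u} [Field k] {A : Type u} [CommRing A] [HopfAlgebra k A]
variable {V : Type u} [AddCommGroup V] [Module k V]

/-- slice of a tensor along a functional on the left factor -/
noncomputable def lslice (f : V →ₗ[k] k) : V ⊗[k] A →ₗ[k] A :=
  (TensorProduct.lid k A).toLinearMap ∘ₗ LinearMap.rTensor A f

theorem lslice_tmul (f : V →ₗ[k] k) (v : V) (a : A) :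
    lslice f (v ⊗ₜ[k] a) = f v • a := by
  simp [lslice]

theorem apply_lslice (f : V →ₗ[k] k) (l : A →ₗ[k] k) (t : V ⊗[k] A) :
    l (lslice f t) = f (slice l t) := by
  induction t using TensorProduct.induction_on with
  | zero => simp
  | tmul v a =>
    rw [lslice_tmul, slice_tmul, map_smul, map_smul, smul_eq_mul, smul_eq_mul, mul_comm]
  | add x y hx hy => simp only [map_add, hx, hy]

/-- if all slices along rational points lie in `W`, so do all slices -/
theorem slice_mem_of_forall_pt [IsAlgClosed k] [Algebra.FiniteType k A] [IsReduced A]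
    (W : Submodule k V) (t : V ⊗[k] A)
    (h : ∀ g : A →ₐ[k] k, slice g.toLinearMap t ∈ W) (l : A →ₗ[k] k) : slice l t ∈ W := by
  by_contra hx
  obtain ⟨f, hfx, hfW⟩ := Submodule.exists_dual_map_eq_bot_of_notMem hx inferInstance
  have ha : lslice (A := A) f t = 0 := by
    apply (Groth.Agent.Helper22.StabOpen.isNilpotent_of_forall_point' (k := k) _ ?_).eq_zero
    intro g
    have h1 := apply_lslice f g.toLinearMap t
    rw [AlgHom.toLinearMap_apply] at h1
    rw [h1]
    have h2 : f (slice g.toLinearMap t) ∈ W.map f := Submodule.mem_map_of_mem (h g)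
    rw [hfW] at h2
    exact (Submodule.mem_bot k).1 h2
  apply hfx
  rw [← apply_lslice f l t, ha, map_zero]

theorem isSubcomod_of_forall_pt [IsAlgClosed k] [Algebra.FiniteType k A] [IsReduced A]
    [HopfRep.Comod k A V] (W : Submodule k V)
    (h : ∀ (g : A →ₐ[k] k) (w : V), w ∈ W →
      slice g.toLinearMap (HopfRep.Comod.coact (k := k) (A := A) w) ∈ W) :
    HopfRep.IsSubcomod (k := k) (A := A) W := by
  intro w hw
  exact mem_range_rTensor_of_slice_mem (Module.Basis.ofVectorSpace k A) W _
    (fun i => slice_mem_of_forall_pt W _ (fun g => h g w hw) _)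

end Pts

section IntCl

/-- the integral closure of `S` in `R`, as a `k`-subalgebra -/
def intCl (k S R : Type u) [Field k] [CommRing S] [Algebra k S] [CommRing R] [Algebra k R]
    [Algebra S R] [IsScalarTower k S R] : Subalgebra k R :=
  (integralClosure S R).restrictScalars k

theorem mem_intCl {k S R : Type u} [Field k] [CommRing S] [Algebra k S] [CommRing R] [Algebra k R]
    [Algebra S R] [IsScalarTower k S R] {x : R} :
    x ∈ Subalgebra.toSubmodule (intCl k S R) ↔ IsIntegral S x := Iff.rfl

end IntCl

section Act

variable {k : Type u} [Field k] {A : Type u} [CommRing A] [HopfAlgebra k A]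
variable {R : Type u} [CommRing R] [Algebra k R] [HopfRep.Comod k A R] [GLin.IsCoactAlg k A R]
variable {S : Type u} [CommRing S] [Algebra k S] [HopfRep.Comod k A S] [GLin.IsCoactAlg k A S]

/-- the action of a point, as an algebra endomorphism -/
noncomputable def actA (g : A →ₐ[k] k) : R →ₐ[k] R :=
  (Groth.Agent.Helper22.StabOpen.slA g).comp (GLin.coactAlgHom k A R)

theorem slA_eq_slice (g : A →ₐ[k] k) (t : R ⊗[k] A) :
    Groth.Agent.Helper22.StabOpen.slA g t = slice g.toLinearMap t := by
  induction t using TensorProduct.induction_on with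
  | zero => simp
  | tmul r a =>
    rw [Groth.Agent.Helper22.StabOpen.slA_tmul, slice_tmul]
    rfl
  | add x y hx hy => simp only [map_add, hx, hy]

theorem actA_apply (g : A →ₐ[k] k) (x : R) :
    actA g x = slice g.toLinearMap (HopfRep.Comod.coact (k := k) (A := A) x) := by
  unfold actA
  rw [AlgHom.comp_apply, GLin.coactAlgHom_apply, slA_eq_slice]

variable [Algebra S R] [IsScalarTower k S R]

theorem actA_algebraMap
    (hequiv : ∀ s : S, HopfRep.Comod.coact (k := k) (A := A) (algebraMap S R s) =
      Algebra.TensorProduct.map (IsScalarTower.toAlgHom k S R) (AlgHom.id k A)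
        (HopfRep.Comod.coact (k := k) (A := A) s))
    (g : A →ₐ[k] k) (s : S) :
    actA g (algebraMap S R s) = algebraMap S R (actA g s) := by
  rw [actA_apply, actA_apply, hequiv, map_eq_rTensor', slice_rTensor]
  rfl

theorem isIntegral_actA
    (hequiv : ∀ s : S, HopfRep.Comod.coact (k := k) (A := A) (algebraMap S R s) =
      Algebra.TensorProduct.map (IsScalarTower.toAlgHom k S R) (AlgHom.id k A)
        (HopfRep.Comod.coact (k := k) (A := A) s))
    (g : A →ₐ[k] k) (x : R) (hx : IsIntegral S x) : IsIntegral S (actA g x) := by
  have h := IsIntegral.map_of_comp_eq (R := S) (S := R) (T := S) (U := R)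
    (actA (R := S) g).toRingHom (actA (R := R) g).toRingHom
    (RingHom.ext fun s => (actA_algebraMap hequiv g s).symm) hx
  exact h


theorem intCl_isSubcomod [IsAlgClosed k] [Algebra.FiniteType k A] [IsReduced A]
    (hequiv : ∀ s : S, HopfRep.Comod.coact (k := k) (A := A) (algebraMap S R s) =
      Algebra.TensorProduct.map (IsScalarTower.toAlgHom k S R) (AlgHom.id k A)
        (HopfRep.Comod.coact (k := k) (A := A) s)) :
    HopfRep.IsSubcomod (k := k) (A := A) (Subalgebra.toSubmodule (intCl k S R)) := by
  apply isSubcomod_of_forall_pt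
  intro g w hw
  rw [← actA_apply, mem_intCl]
  exact isIntegral_actA hequiv g w (mem_intCl.1 hw)

end Act

section SubAlg

variable {k : Type u} [Field k] (A : Type u) [CommRing A] [HopfAlgebra k A]
variable {R : Type u} [CommRing R] [Algebra k R] [HopfRep.Comod k A R] [GLin.IsCoactAlg k A R]
variable (B : Subalgebra k R)

/-- all slices of coactions of elements of `B` lie in `B` -/
def SliceStable : Prop :=
  ∀ x ∈ B, ∀ l : A →ₗ[k] k, slice l (HopfRep.Comod.coact (k := k) (A := A) x) ∈ B

theorem rTensor_val_injective : Function.Injective (B.val.toLinearMap.rTensor A) :=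
  Module.Flat.rTensor_preserves_injective_linearMap _ Subtype.val_injective

variable {A B}

theorem coact_mem_range (hB : SliceStable A B) (w : B) :
    HopfRep.Comod.coact (k := k) (A := A) (w : R) ∈
      LinearMap.range (B.val.toLinearMap.rTensor A) :=
  mem_range_rTensor_of_slice _ _ (fun l => ⟨⟨_, hB w w.2 l⟩, rfl⟩)

/-- the restricted coaction -/
noncomputable def subCoact (hB : SliceStable A B) : ↥B →ₗ[k] ↥B ⊗[k] A :=
  (LinearEquiv.ofInjective (B.val.toLinearMap.rTensor A)
      (rTensor_val_injective A B)).symm.toLinearMap ∘ₗ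
    LinearMap.codRestrict (LinearMap.range (B.val.toLinearMap.rTensor A))
      (HopfRep.Comod.coact (k := k) (A := A) ∘ₗ B.val.toLinearMap)
      (fun w => coact_mem_range hB w)

theorem rTensor_subCoact (hB : SliceStable A B) (w : B) :
    B.val.toLinearMap.rTensor A (subCoact hB w) =
      HopfRep.Comod.coact (k := k) (A := A) (w : R) := by
  unfold subCoact
  rw [LinearMap.comp_apply, LinearEquiv.coe_coe, LinearEquiv.ofInjective_symm_apply]
  rfl

/-- the comodule structure on a slice-stable subalgebra -/
@[reducible] noncomputable def subComod (hB : SliceStable A B) : HopfRep.Comod k A ↥B where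
  coact := subCoact hB
  coassoc := ComodSub.coassoc_of_emb (inferInstance : HopfRep.Comod k A R) (subCoact hB)
    B.val.toLinearMap (LinearMap.ext fun w => rTensor_subCoact hB w)
    (Module.Flat.rTensor_preserves_injective_linearMap _ (rTensor_val_injective A B))
  counit_comp := ComodSub.counit_of_emb (inferInstance : HopfRep.Comod k A R) (subCoact hB)
    B.val.toLinearMap (LinearMap.ext fun w => rTensor_subCoact hB w)
    (Module.Flat.rTensor_preserves_injective_linearMap _ Subtype.val_injective)

theorem subComod_isCoactAlg (hB : SliceStable A B) :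
    letI := subComod hB
    GLin.IsCoactAlg k A ↥B := by
  letI := subComod hB
  refine ⟨?_, ?_⟩
  · apply rTensor_val_injective A B
    show B.val.toLinearMap.rTensor A (subCoact hB 1) = B.val.toLinearMap.rTensor A 1
    rw [rTensor_subCoact, Algebra.TensorProduct.one_def, LinearMap.rTensor_tmul]
    show HopfRep.Comod.coact (k := k) (A := A) (1 : R) = (1 : R) ⊗ₜ[k] (1 : A)
    rw [GLin.IsCoactAlg.coact_one (k := k), Algebra.TensorProduct.one_def]
  · intro f g
    apply rTensor_val_injective A B
    show B.val.toLinearMap.rTensor A (subCoact hB (f * g)) =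
      B.val.toLinearMap.rTensor A (subCoact hB f * subCoact hB g)
    rw [rTensor_subCoact, ← map_eq_rTensor', map_mul, map_eq_rTensor', map_eq_rTensor',
      rTensor_subCoact, rTensor_subCoact]
    exact GLin.IsCoactAlg.coact_mul (k := k) (f : R) (g : R)

theorem coact_val (hB : SliceStable A B) (s : B) :
    HopfRep.Comod.coact (k := k) (A := A) (B.val s) =
      Algebra.TensorProduct.map B.val (AlgHom.id k A) ((subComod hB).coact s) := by
  rw [map_eq_rTensor']
  exact (rTensor_subCoact hB s).symm

theorem coact_codRestrict {S : Type u} [CommRing S] [Algebra k S] [HopfRep.Comod k A S]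
    [Algebra S R] [IsScalarTower k S R]
    (hB : SliceStable A B) (hS : ∀ s : S, IsScalarTower.toAlgHom k S R s ∈ B)
    (hequiv : ∀ s : S, HopfRep.Comod.coact (k := k) (A := A) (algebraMap S R s) =
      Algebra.TensorProduct.map (IsScalarTower.toAlgHom k S R) (AlgHom.id k A)
        (HopfRep.Comod.coact (k := k) (A := A) s)) (s : S) :
    (subComod hB).coact ((IsScalarTower.toAlgHom k S R).codRestrict B hS s) =
      Algebra.TensorProduct.map ((IsScalarTower.toAlgHom k S R).codRestrict B hS) (AlgHom.id k A)
        (HopfRep.Comod.coact (k := k) (A := A) s) := by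
  apply rTensor_val_injective A B
  show B.val.toLinearMap.rTensor A (subCoact hB _) = _
  rw [rTensor_subCoact, map_eq_rTensor', ← LinearMap.rTensor_comp_apply]
  have hc : B.val.toLinearMap ∘ₗ ((IsScalarTower.toAlgHom k S R).codRestrict B hS).toLinearMap =
      (IsScalarTower.toAlgHom k S R).toLinearMap := LinearMap.ext fun _ => rfl
  rw [hc, ← map_eq_rTensor']
  exact hequiv s

end SubAlg

end Groth.Agent.Helper22.EqZMT
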