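import Groth.Agent.Lib.Helper22.EqZMT1

/-!
# Equivariant Zariski main theorem: construction of the finite equivariant subalgebra (helper22)
-/

set_option autoImplicit false
set_option maxHeartbeats 400000

namespace Groth.Agent.Helper22.EqZMT

open TensorProduct Groth.Agent.Helper12

universe u

section Construct

variable {k : Type u} [Field k] {A : Type u} [CommRing A] [HopfAlgebra k A]
variable {R : Type u} [CommRing R] [Algebra k R] [HopfRep.Comod k A R] [GLin.IsCoactAlg k A R]
variable {S : Type u} [CommRing S] [Algebra k S] [HopfRep.Comod k A S] [GLin.IsCoactAlg k A S]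
variable [Algebra S R] [IsScalarTower k S R]

theorem exists_stable_subalgebra [IsAlgClosed k] [Algebra.FiniteType k A] [IsReduced A]
    [Algebra.FiniteType k S] [Algebra.FiniteType k R] [Algebra.QuasiFinite S R]
    (hequiv : ∀ s : S, HopfRep.Comod.coact (k := k) (A := A) (algebraMap S R s) =
      Algebra.TensorProduct.map (IsScalarTower.toAlgHom k S R) (AlgHom.id k A)
        (HopfRep.Comod.coact (k := k) (A := A) s)) :
    ∃ (B : Subalgebra k R) (T : Finset R), SliceStable A B ∧ B.FG ∧
      (∀ s : S, IsScalarTower.toAlgHom k S R s ∈ B) ∧ (∀ x ∈ B, IsIntegral S x) ∧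
      (∀ r ∈ T, r ∈ B) ∧ Ideal.span (T : Set R) = ⊤ ∧
      (∀ r ∈ T, ∀ x : R, ∃ n : ℕ, r ^ n * x ∈ B) := by
  classical
  haveI : Algebra.FiniteType S R := Algebra.FiniteType.of_restrictScalars_finiteType k S R
  let G : Set R := {r | IsIntegral S r ∧ ∀ x : R, ∃ m : ℕ, IsIntegral S (r ^ m * x)}
  have hspan : Ideal.span G = ⊤ := by
    by_contra hne
    obtain ⟨M, hM, hle⟩ := Ideal.exists_le_maximal _ hne
    haveI := hM.isPrime
    obtain ⟨r, hrM, hr1, hr2⟩ := Algebra.zariskisMainProperty_iff.mp
      (Algebra.ZariskisMainProperty.of_finiteType (R := S) M)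
    exact hrM (hle (Ideal.subset_span ⟨hr1, hr2⟩))
  have h1 : (1 : R) ∈ Submodule.span R G := by
    have h0 : (1 : R) ∈ Ideal.span G := by rw [hspan]; exact Submodule.mem_top
    exact h0
  obtain ⟨T, hTG, h1T⟩ := Submodule.mem_span_finite_of_mem_span h1
  have hT : Ideal.span (T : Set R) = ⊤ := (Ideal.eq_top_iff_one _).2 h1T
  obtain ⟨X, hX⟩ := (Algebra.FiniteType.out : (⊤ : Subalgebra k R).FG)
  obtain ⟨t, ht⟩ := (Algebra.FiniteType.out : (⊤ : Subalgebra k S).FG)
  have hm : ∀ r x : R, ∃ m : ℕ, r ∈ G → IsIntegral S (r ^ m * x) := by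
    intro r x
    by_cases hr : r ∈ G
    · obtain ⟨m, hm⟩ := hr.2 x
      exact ⟨m, fun _ => hm⟩
    · exact ⟨0, fun h => absurd h hr⟩
  choose m hm using hm
  let F : Finset R := T ∪ (T ×ˢ X).image (fun p => p.1 ^ m p.1 p.2 * p.2)
  have hF : ∀ y ∈ F, IsIntegral S y := by
    intro y hy
    rcases Finset.mem_union.1 hy with hy | hy
    · exact (hTG (Finset.mem_coe.2 hy)).1
    · obtain ⟨p, hp, rfl⟩ := Finset.mem_image.1 hy
      exact hm p.1 p.2 (hTG (Finset.mem_coe.2 (Finset.mem_product.1 hp).1))
  have hb : ∀ y : R, ∃ b : Finset R,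
      Submodule.span k (b : Set R) = gen (k := k) (C := A) y := by
    intro y
    haveI := gen_finite (k := k) (C := A) y
    exact (Submodule.fg_iff_finiteDimensional _).2 inferInstance
  choose b hb using hb
  let s₀ : Set R := (⋃ y ∈ (F : Set R), (b y : Set R)) ∪
    (IsScalarTower.toAlgHom k S R) '' (t : Set S)
  have hs₀ : s₀.Finite :=
    (Set.Finite.biUnion F.finite_toSet (fun y _ => (b y).finite_toSet)).union
      (t.finite_toSet.image _)
  let B : Subalgebra k R := Algebra.adjoin k s₀
  have hgenB : ∀ y ∈ F, gen (k := k) (C := A) y ≤ Subalgebra.toSubmodule B := by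
    intro y hy
    rw [← hb y, Submodule.span_le]
    intro z hz
    exact Algebra.subset_adjoin (Or.inl (Set.mem_biUnion (Finset.mem_coe.2 hy) hz))
  have hFB : ∀ y ∈ F, y ∈ B := fun y hy => hgenB y hy (mem_gen (k := k) (C := A) y)
  have hSB : ∀ s : S, IsScalarTower.toAlgHom k S R s ∈ B := by
    intro s
    have h1 : (IsScalarTower.toAlgHom k S R).range =
        Algebra.adjoin k ((IsScalarTower.toAlgHom k S R) '' (t : Set S)) := by
      rw [← AlgHom.map_adjoin, ht, Algebra.map_top]
    have h2 : IsScalarTower.toAlgHom k S R s ∈ (IsScalarTower.toAlgHom k S R).range := ⟨s, rfl⟩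
    rw [h1] at h2
    exact Algebra.adjoin_mono Set.subset_union_right h2
  have hint : ∀ x ∈ B, IsIntegral S x := by
    have hle : B ≤ intCl k S R := by
      apply Algebra.adjoin_le
      rintro z (hz | ⟨s, -, rfl⟩)
      · obtain ⟨y, hy, hzy⟩ := Set.mem_iUnion₂.1 hz
        have h3 : z ∈ gen (k := k) (C := A) y := by
          rw [← hb y]; exact Submodule.subset_span hzy
        exact Groth.Agent.Helper22.KR.gen_le y _ (intCl_isSubcomod hequiv)
          (mem_intCl.2 (hF y (Finset.mem_coe.1 hy))) h3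
      · show IsIntegral S (algebraMap S R s)
        exact isIntegral_algebraMap
    exact fun x hx => hle hx
  have hstab : SliceStable A B := by
    let T' : Subalgebra k (R ⊗[k] A) := (Algebra.TensorProduct.map B.val (AlgHom.id k A)).range
    have hgen : ∀ z ∈ s₀, ∀ l : A →ₗ[k] k,
        slice l (HopfRep.Comod.coact (k := k) (A := A) z) ∈ B := by
      rintro z (hz | ⟨s, -, rfl⟩) l
      · obtain ⟨y, hy, hzy⟩ := Set.mem_iUnion₂.1 hz
        have h3 : z ∈ gen (k := k) (C := A) y := by
          rw [← hb y]; exact Submodule.subset_span hzy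
        exact hgenB y (Finset.mem_coe.1 hy)
          (slice_mem_of_mem_range _ l _ (gen_isSubcomod (k := k) (C := A) y z h3))
      · show slice l (HopfRep.Comod.coact (k := k) (A := A) (algebraMap S R s)) ∈ B
        rw [hequiv, map_eq_rTensor', slice_rTensor]
        exact hSB _
    have hle : B ≤ T'.comap (GLin.coactAlgHom k A R) := by
      apply Algebra.adjoin_le
      intro z hz
      show GLin.coactAlgHom k A R z ∈ T'
      rw [GLin.coactAlgHom_apply]
      obtain ⟨y, hy⟩ := mem_range_rTensor_of_slice B.val.toLinearMap _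
        (fun l => ⟨⟨_, hgen z hz l⟩, rfl⟩)
      refine (AlgHom.mem_range _).2 ⟨y, ?_⟩
      rw [← hy]
      exact map_eq_rTensor' B.val y
    intro x hx l
    obtain ⟨y, hy⟩ := (AlgHom.mem_range _).1 (hle hx)
    have hy' : HopfRep.Comod.coact (k := k) (A := A) x = B.val.toLinearMap.rTensor A y := by
      rw [← map_eq_rTensor']
      exact hy.symm
    rw [hy', slice_rTensor]
    exact (slice l y).2
  have hTB : ∀ r ∈ T, r ∈ B := fun r hr => hFB r (Finset.mem_union_left _ hr)
  have hloc : ∀ r ∈ T, ∀ x : R, ∃ n : ℕ, r ^ n * x ∈ B := by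
    intro r hr x
    have hpow : Submonoid.powers r ≤ B.toSubmonoid := Submonoid.powers_le.2 (hTB r hr)
    have hle : Algebra.adjoin k (X : Set R) ≤ B.saturation (Submonoid.powers r) hpow := by
      apply Algebra.adjoin_le
      intro x hx
      show ∃ m' ∈ Submonoid.powers r, m' * x ∈ B
      refine ⟨r ^ m r x, ⟨m r x, rfl⟩, ?_⟩
      exact hFB _ (Finset.mem_union_right _ (Finset.mem_image.2
        ⟨(r, x), Finset.mem_product.2 ⟨hr, Finset.mem_coe.1 hx⟩, rfl⟩))
    have hx : x ∈ Algebra.adjoin k (X : Set R) := by rw [hX]; exact Algebra.mem_top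
    obtain ⟨mm, hmm, hn⟩ := hle hx
    obtain ⟨n, rfl⟩ := (Submonoid.mem_powers_iff _ _).1 hmm
    exact ⟨n, hn⟩
  exact ⟨B, T, hstab, Subalgebra.fg_def.2 ⟨s₀, hs₀, rfl⟩, hSB, hint, hTB, hT, hloc⟩

end Construct

section Fin

variable {k : Type u} [Field k] {R : Type u} [CommRing R] [Algebra k R]
variable {S : Type u} [CommRing S] [Algebra k S] [Algebra S R] [IsScalarTower k S R]

theorem finite_codRestrict (B : Subalgebra k R) (hfg : B.FG)
    (hS : ∀ s : S, IsScalarTower.toAlgHom k S R s ∈ B) (hint : ∀ x ∈ B, IsIntegral S x) :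
    ((IsScalarTower.toAlgHom k S R).codRestrict B hS).toRingHom.Finite := by
  set ψ := (IsScalarTower.toAlgHom k S R).codRestrict B hS with hψ
  apply RingHom.IsIntegral.to_finite
  · intro x
    obtain ⟨p, hp, hpx⟩ := hint x x.2
    refine ⟨p, hp, ?_⟩
    apply Subtype.val_injective
    have h := Polynomial.hom_eval₂ p ψ.toRingHom B.val.toRingHom x
    have hc : B.val.toRingHom.comp ψ.toRingHom = algebraMap S R := RingHom.ext fun _ => rfl
    rw [hc] at h
    exact h.trans hpx
  · apply RingHom.FiniteType.of_comp_finiteType (f := algebraMap k S)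
    have hc : ψ.toRingHom.comp (algebraMap k S) = algebraMap k ↥B := ψ.comp_algebraMap
    rw [hc]
    exact RingHom.finiteType_algebraMap.2 ((Subalgebra.fg_iff_finiteType B).1 hfg)

end Fin

section Sch

open AlgebraicGeometry CategoryTheory

variable {k : Type u} [Field k] {R : Type u} [CommRing R] [Algebra k R]

theorem isOpenImmersion_val (B : Subalgebra k R) (T : Finset R) (hTB : ∀ r ∈ T, r ∈ B)
    (hT : Ideal.span (T : Set R) = ⊤) (hloc : ∀ r ∈ T, ∀ x : R, ∃ n : ℕ, r ^ n * x ∈ B) :
    IsOpenImmersion (Spec.map (CommRingCat.ofHom B.val.toRingHom)) := by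
  have hex : ∀ P : Ideal R, P.IsPrime → ∃ r ∈ T, r ∉ P := by
    intro P hP
    by_contra hcon
    push_neg at hcon
    have hle : Ideal.span (T : Set R) ≤ P :=
      Ideal.span_le.2 (fun r hr => hcon r (Finset.mem_coe.1 hr))
    rw [hT] at hle
    exact hP.ne_top (top_le_iff.1 hle)
  have hle : ∀ (P Q : Ideal R), P.IsPrime → Q.IsPrime →
      Ideal.comap B.val.toRingHom P = Ideal.comap B.val.toRingHom Q → P ≤ Q := by
    intro P Q hP hQ hPQ x hx
    obtain ⟨r, hrT, hrQ⟩ := hex Q hQ
    obtain ⟨n, hn⟩ := hloc r hrT x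
    have h1 : (⟨r ^ n * x, hn⟩ : B) ∈ Ideal.comap B.val.toRingHom P := by
      show r ^ n * x ∈ P
      exact P.mul_mem_left _ hx
    rw [hPQ] at h1
    have h2 : r ^ n * x ∈ Q := h1
    exact (hQ.mem_or_mem h2).resolve_left (fun h => hrQ (hQ.mem_of_pow_mem n h))
  apply IsOpenImmersion.of_forall_source_exists
  · intro x y hxy
    have h1 : PrimeSpectrum.comap B.val.toRingHom x = PrimeSpectrum.comap B.val.toRingHom y := hxy
    have h2 : Ideal.comap B.val.toRingHom (x : PrimeSpectrum R).asIdeal =
        Ideal.comap B.val.toRingHom (y : PrimeSpectrum R).asIdeal :=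
      congrArg PrimeSpectrum.asIdeal h1
    exact PrimeSpectrum.ext (le_antisymm
      (hle _ _ (x : PrimeSpectrum R).isPrime (y : PrimeSpectrum R).isPrime h2)
      (hle _ _ (y : PrimeSpectrum R).isPrime (x : PrimeSpectrum R).isPrime h2.symm))
  · intro x
    obtain ⟨r, hrT, hrx⟩ := hex (x : PrimeSpectrum R).asIdeal (x : PrimeSpectrum R).isPrime
    refine ⟨Spec (CommRingCat.of (Localization.Away r)),
      Spec.map (CommRingCat.ofHom (algebraMap R (Localization.Away r))), inferInstance, ?_, ?_⟩
    · have h := Scheme.Hom.opensRange_localizationAway (R := CommRingCat.of R) r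
      rw [h]
      exact hrx
    · rw [← Spec.map_comp, ← CommRingCat.ofHom_comp]
      letI : Algebra B (Localization.Away r) :=
        ((algebraMap R (Localization.Away r)).comp B.val.toRingHom).toAlgebra
      haveI : IsLocalization.Away (⟨r, hTB r hrT⟩ : B) (Localization.Away r) := by
        refine (isLocalization_iff _ _).2 ⟨?_, ?_, ?_⟩
        · rintro ⟨_, n, rfl⟩
          show IsUnit (algebraMap R (Localization.Away r) (r ^ n))
          rw [map_pow]
          exact (IsLocalization.Away.algebraMap_isUnit r).pow n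
        · intro z
          obtain ⟨n, c, hc⟩ := IsLocalization.Away.surj r z
          obtain ⟨m, hm⟩ := hloc r hrT c
          refine ⟨(⟨r ^ m * c, hm⟩, ⟨(⟨r, hTB r hrT⟩ : B) ^ (n + m), n + m, rfl⟩), ?_⟩
          show z * algebraMap R (Localization.Away r) (r ^ (n + m)) =
            algebraMap R (Localization.Away r) (r ^ m * c)
          rw [map_pow, pow_add, ← mul_assoc, hc, map_mul, map_pow, mul_comm]
        · intro a b hab
          have hab' : algebraMap R (Localization.Away r) (a : R) =
              algebraMap R (Localization.Away r) (b : R) := hab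
          obtain ⟨c, hc⟩ := (IsLocalization.eq_iff_exists (Submonoid.powers r)
            (Localization.Away r)).1 hab'
          obtain ⟨n, hn⟩ := (Submonoid.mem_powers_iff _ _).1 c.2
          refine ⟨⟨(⟨r, hTB r hrT⟩ : B) ^ n, n, rfl⟩, Subtype.ext ?_⟩
          show r ^ n * (a : R) = r ^ n * (b : R)
          rw [hn]
          exact hc
      exact IsOpenImmersion.of_isLocalization (⟨r, hTB r hrT⟩ : B)

end Sch

end Groth.Agent.Helper22.EqZMT
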