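import Mathlib
import Groth.Prelude.Def_EtRam
import Groth.Agent.Lib.Helper22.SolTower

/-!
# Étale elements over a valuation ring; one-step unramified extensions (helper library for S7162)

Fix a field `F` with a valuation subring `𝒱`, an element `ϖ` (a "uniformizer of the base") and a
field `k₀` mapping to the residue field of `𝒱` (the "residue field of the base").

* `IsEt 𝒱 H θ`: `θ` is a root of a monic polynomial with coefficients in `H ∩ 𝒱` whose derivative at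
  `θ` is a unit of `𝒱`.
* `Good 𝒱 ϖ k₀ H`: the subfield `H` is "unramified over the base": `ϖ` generates the maximal ideal
  of `𝒱 ∩ H`, every nonzero element of `H` is bounded below by a power of `ϖ`, and the residues of
  `𝒱 ∩ H` are separable algebraic over `k₀`.
* `good_adjoin`: adjoining an étale element preserves `Good`.
* `etClosure`: the étale closure of a subfield; `good_etClosure`: it is `Good` if the base is.
-/

set_option autoImplicit false
set_option linter.deprecated false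
set_option linter.unusedVariables false
universe u

open Polynomial IsLocalRing

namespace Groth.Agent.Helper22.EtU

section Basics
variable {F : Type u} [Field F] (𝒱 : ValuationSubring F)

theorem val_pos {x : F} (hx : x ≠ 0) : 0 < 𝒱.valuation x :=
  zero_lt_iff.mpr ((Valuation.ne_zero_iff _).mpr hx)

theorem val_eq_one_iff (x : F) : 𝒱.valuation x = 1 ↔ x ≠ 0 ∧ x ∈ 𝒱 ∧ x⁻¹ ∈ 𝒱 := by
  constructor
  · intro h
    refine ⟨?_, ?_, ?_⟩
    · intro h0
      rw [h0, map_zero] at h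
      exact zero_ne_one h
    · exact (𝒱.valuation_le_one_iff x).mp h.le
    · apply (𝒱.valuation_le_one_iff _).mp
      rw [map_inv₀, h, inv_one]
  · rintro ⟨h0, h1, h2⟩
    have a1 := (𝒱.valuation_le_one_iff x).mpr h1
    have a2 := (𝒱.valuation_le_one_iff _).mpr h2
    rw [map_inv₀] at a2
    exact le_antisymm a1 ((inv_le_one₀ (val_pos 𝒱 h0)).mp a2)

theorem val_comap_eq_one {K' : Type u} [Field K'] (j : K' →+* F) (x : K') :
    (𝒱.comap j).valuation x = 1 ↔ 𝒱.valuation (j x) = 1 := by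
  constructor
  · intro h
    obtain ⟨h0, h1, h2⟩ := (val_eq_one_iff _ x).mp h
    refine (val_eq_one_iff 𝒱 (j x)).mpr
      ⟨(_root_.map_ne_zero j).mpr h0, ValuationSubring.mem_comap.mp h1, ?_⟩
    have h3 := ValuationSubring.mem_comap.mp h2
    rwa [map_inv₀] at h3
  · intro h
    obtain ⟨h0, h1, h2⟩ := (val_eq_one_iff 𝒱 (j x)).mp h
    refine (val_eq_one_iff _ x).mpr
      ⟨(_root_.map_ne_zero j).mp h0, ValuationSubring.mem_comap.mpr h1, ?_⟩
    apply ValuationSubring.mem_comap.mpr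
    rw [map_inv₀]
    exact h2

theorem val_comap_lt_one {K' : Type u} [Field K'] (j : K' →+* F) (x : K') :
    (𝒱.comap j).valuation x < 1 ↔ 𝒱.valuation (j x) < 1 := by
  have hle : (𝒱.comap j).valuation x ≤ 1 ↔ 𝒱.valuation (j x) ≤ 1 := by
    rw [ValuationSubring.valuation_le_one_iff, ValuationSubring.valuation_le_one_iff,
      ValuationSubring.mem_comap]
  rw [lt_iff_le_and_ne, lt_iff_le_and_ne]
  exact and_congr hle (not_congr (val_comap_eq_one 𝒱 j x))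

/-- A simple root of a polynomial over a field is separable over that field. -/
theorem isSeparable_of_simple_root {F₁ E₁ : Type*} [Field F₁] [Field E₁] [Algebra F₁ E₁] (x : E₁)
    (f : F₁[X]) (h0 : aeval x f = 0) (h1 : aeval x (derivative f) ≠ 0) : IsSeparable F₁ x := by
  have hf0 : f ≠ 0 := by
    rintro rfl
    apply h1
    rw [derivative_zero, map_zero]
  have hint : IsIntegral F₁ x := IsAlgebraic.isIntegral ⟨f, hf0, h0⟩
  obtain ⟨g, hg⟩ := minpoly.dvd F₁ x h0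
  have hd : aeval x (derivative (minpoly F₁ x)) ≠ 0 := by
    intro h
    apply h1
    rw [hg, derivative_mul, map_add, map_mul, map_mul, h, minpoly.aeval, zero_mul, zero_mul,
      add_zero]
  have hne : derivative (minpoly F₁ x) ≠ 0 := by
    intro h
    apply hd
    rw [h, map_zero]
  exact (separable_iff_derivative_ne_zero (minpoly.irreducible hint)).mpr hne

/-- separability of an element can be tested after an algebra embedding -/
theorem isSeparable_of_algHom_apply {F₁ E₁ E₂ : Type*} [Field F₁] [Field E₁] [Field E₂]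
    [Algebra F₁ E₁] [Algebra F₁ E₂] (f : E₁ →ₐ[F₁] E₂) (x : E₁) (h : IsSeparable F₁ (f x)) :
    IsSeparable F₁ x := by
  unfold IsSeparable at h ⊢
  rwa [minpoly.algHom_eq f f.toRingHom.injective] at h

end Basics

section Defs
variable {F : Type u} [Field F] (𝒱 : ValuationSubring F)

/-- `θ` is étale over the subfield `H` with respect to the valuation ring `𝒱`. -/
def IsEt (H : Subfield F) (θ : F) : Prop :=
  ∃ q : F[X], q.Monic ∧ (∀ i, q.coeff i ∈ H ∧ q.coeff i ∈ 𝒱) ∧ q.eval θ = 0 ∧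
    𝒱.valuation (q.derivative.eval θ) = 1

theorem IsEt.mono {H H' : Subfield F} (h : H ≤ H') {θ : F} (hθ : IsEt 𝒱 H θ) : IsEt 𝒱 H' θ := by
  obtain ⟨q, h1, h2, h3, h4⟩ := hθ
  exact ⟨q, h1, fun i => ⟨h (h2 i).1, (h2 i).2⟩, h3, h4⟩

/-- transport of étale elements along a field embedding -/
theorem IsEt.map {K' : Type u} [Field K'] (j : K' →+* F) (G : Subfield K') (θ' : K')
    (h : IsEt (𝒱.comap j) G θ') : IsEt 𝒱 (G.map j) (j θ') := by
  obtain ⟨q, hqm, hqc, hqθ, hqd⟩ := h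
  refine ⟨q.map j, hqm.map j, fun i => ?_, ?_, ?_⟩
  · rw [Polynomial.coeff_map]
    exact ⟨Subfield.mem_map.mpr ⟨_, (hqc i).1, rfl⟩, ValuationSubring.mem_comap.mp (hqc i).2⟩
  · rw [Polynomial.eval_map, Polynomial.eval₂_hom, hqθ, map_zero]
  · rw [Polynomial.derivative_map, Polynomial.eval_map, Polynomial.eval₂_hom]
    exact (val_comap_eq_one 𝒱 j _).mp hqd

/-- pull-back of étale elements along a field embedding -/
theorem IsEt.comap {K' : Type u} [Field K'] (j : K' →+* F) (G : Subfield K') (θ' : K')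
    (h : IsEt 𝒱 (G.map j) (j θ')) : IsEt (𝒱.comap j) G θ' := by
  obtain ⟨q, hqm, hqc, hqθ, hqd⟩ := h
  have hql : q ∈ Polynomial.lifts j := by
    rw [Polynomial.lifts_iff_coeff_lifts]
    intro n
    obtain ⟨c, -, hc⟩ := Subfield.mem_map.mp (hqc n).1
    exact ⟨c, hc⟩
  obtain ⟨q', hq'map, -, hq'm⟩ := Polynomial.lifts_and_natDegree_eq_and_monic hql hqm
  refine ⟨q', hq'm, fun i => ?_, ?_, ?_⟩
  · have hci : j (q'.coeff i) = q.coeff i := by rw [← hq'map, Polynomial.coeff_map]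
    constructor
    · obtain ⟨c, hcG, hc⟩ := Subfield.mem_map.mp (hqc i).1
      have hcc : c = q'.coeff i := j.injective (by rw [hc, hci])
      rw [← hcc]
      exact hcG
    · rw [ValuationSubring.mem_comap, hci]
      exact (hqc i).2
  · apply j.injective
    rw [map_zero, ← Polynomial.eval₂_hom, ← Polynomial.eval_map, hq'map]
    exact hqθ
  · rw [val_comap_eq_one, ← Polynomial.eval₂_hom, ← Polynomial.eval_map,
      ← Polynomial.derivative_map, hq'map]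
    exact hqd

/-- the subfield `G` is closed under adjoining étale elements -/
def EtClosed (G : Subfield F) : Prop := ∀ θ, IsEt 𝒱 G θ → θ ∈ G

/-- the étale closure of a subfield -/
def etClosure (G₀ : Subfield F) : Subfield F := sInf {G | G₀ ≤ G ∧ EtClosed 𝒱 G}

theorem le_etClosure (G₀ : Subfield F) : G₀ ≤ etClosure 𝒱 G₀ :=
  le_sInf (fun _ hG => hG.1)

theorem etClosed_etClosure (G₀ : Subfield F) : EtClosed 𝒱 (etClosure 𝒱 G₀) := by
  intro θ hθ
  rw [etClosure, Subfield.mem_sInf]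
  intro G hG
  exact hG.2 θ (hθ.mono 𝒱 (sInf_le hG))

theorem etClosure_le {G₀ G : Subfield F} (h1 : G₀ ≤ G) (h2 : EtClosed 𝒱 G) :
    etClosure 𝒱 G₀ ≤ G :=
  sInf_le ⟨h1, h2⟩

/-- induction principle for the étale closure, formulated inside the closure -/
theorem etClosure_induction (G₀ : Subfield F) (G : Subfield ↥(etClosure 𝒱 G₀))
    (h0 : ∀ x : ↥(etClosure 𝒱 G₀), (x : F) ∈ G₀ → x ∈ G)
    (hcl : EtClosed (𝒱.comap (etClosure 𝒱 G₀).subtype) G) : G = ⊤ := by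
  have hle : etClosure 𝒱 G₀ ≤ G.map (etClosure 𝒱 G₀).subtype := by
    apply etClosure_le
    · intro x hx
      exact Subfield.mem_map.mpr ⟨⟨x, le_etClosure 𝒱 G₀ hx⟩, h0 _ hx, rfl⟩
    · intro θ hθ
      have hθK : θ ∈ etClosure 𝒱 G₀ := by
        apply etClosed_etClosure 𝒱 G₀ θ
        apply hθ.mono 𝒱
        intro y hy
        obtain ⟨z, -, hz⟩ := Subfield.mem_map.mp hy
        rw [← hz]
        exact z.2
      have h1 : IsEt (𝒱.comap (etClosure 𝒱 G₀).subtype) G ⟨θ, hθK⟩ :=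
        IsEt.comap 𝒱 (etClosure 𝒱 G₀).subtype G ⟨θ, hθK⟩ hθ
      exact Subfield.mem_map.mpr ⟨⟨θ, hθK⟩, hcl _ h1, rfl⟩
  rw [eq_top_iff]
  intro x _
  obtain ⟨y, hy, hyx⟩ := Subfield.mem_map.mp (hle x.2)
  have hxy : y = x := Subtype.ext hyx
  rw [← hxy]
  exact hy

variable (ϖ : F) (k₀ : Type u) [Field k₀] [Algebra k₀ (ResidueField ↥𝒱)]

/-- `ϖ` divides every element of the maximal ideal of `𝒱 ∩ H` -/
def Div (H : Subfield F) : Prop :=
  ∀ y ∈ H, 𝒱.valuation y < 1 → 𝒱.valuation y ≤ 𝒱.valuation ϖ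

/-- every nonzero element of `H` is bounded below by a power of `ϖ` -/
def Arch (H : Subfield F) : Prop :=
  ∀ y ∈ H, y ≠ 0 → ∃ m : ℕ, 𝒱.valuation ϖ ^ m ≤ 𝒱.valuation y

/-- the residues of `𝒱 ∩ H` are separable algebraic over `k₀` -/
def Rsep (H : Subfield F) : Prop :=
  ∀ (x : F) (hx : x ∈ 𝒱), x ∈ H →
    IsLocalRing.residue ↥𝒱 ⟨x, hx⟩ ∈ separableClosure k₀ (ResidueField ↥𝒱)

/-- `H` is unramified over the base -/
def Good (H : Subfield F) : Prop := Div 𝒱 ϖ H ∧ Arch 𝒱 ϖ H ∧ Rsep 𝒱 k₀ H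

theorem Good.mono {H H' : Subfield F} (h : H' ≤ H) (hG : Good 𝒱 ϖ k₀ H) : Good 𝒱 ϖ k₀ H' :=
  ⟨fun y hy => hG.1 y (h hy), fun y hy => hG.2.1 y (h hy), fun x hx hxH => hG.2.2 x hx (h hxH)⟩

end Defs

section LemmaU
variable {F : Type u} [Field F] (𝒱 : ValuationSubring F) (ϖ : F) (k₀ : Type u) [Field k₀]
  [Algebra k₀ (ResidueField ↥𝒱)]

/-- **Key lemma**: adjoining an étale element to a good subfield gives a good subfield. -/
theorem good_adjoin (hϖ0 : ϖ ≠ 0) (hϖ1 : 𝒱.valuation ϖ < 1) (H : Subfield F) (hϖH : ϖ ∈ H)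
    (hG : Good 𝒱 ϖ k₀ H) (θ : F) (hθ : IsEt 𝒱 H θ) :
    Good 𝒱 ϖ k₀ (H ⊔ Subfield.closure {θ}) := by
  classical
  obtain ⟨hDiv, hArch, hRsep⟩ := hG
  obtain ⟨q, hqm, hqc, hqθ, hqd⟩ := hθ
  have hϖ𝒱 : ϖ ∈ 𝒱 := (𝒱.valuation_le_one_iff ϖ).mp hϖ1.le
  have hϖpos : 0 < 𝒱.valuation ϖ := val_pos 𝒱 hϖ0
  -- the subring `R = H ∩ 𝒱`
  obtain ⟨R, hR⟩ : ∃ R : Subring F, R = H.toSubring ⊓ 𝒱.toSubring := ⟨_, rfl⟩
  have hRmem : ∀ x : F, x ∈ R ↔ x ∈ H ∧ x ∈ 𝒱 := fun x => by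
    rw [hR, Subring.mem_inf]
    exact Iff.rfl
  let ι : ↥R →+* F := R.subtype
  let inc : ↥R →+* ↥𝒱 := RingHom.codRestrict ι 𝒱 (fun x => ((hRmem x).mp x.2).2)
  let ρ : ↥R →+* ResidueField ↥𝒱 := (IsLocalRing.residue ↥𝒱).comp inc
  let ϖR : ↥R := ⟨ϖ, (hRmem ϖ).mpr ⟨hϖH, hϖ𝒱⟩⟩
  have hιpow : ∀ m : ℕ, ι (ϖR ^ m) = ϖ ^ m := fun m => map_pow ι ϖR m
  -- lift `q` to `R[X]`
  have hql : q ∈ Polynomial.lifts ι := by
    rw [Polynomial.lifts_iff_coeff_lifts]
    intro n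
    exact ⟨⟨q.coeff n, (hRmem _).mpr (hqc n)⟩, rfl⟩
  obtain ⟨q₀, hq₀map, -, hq₀m⟩ := Polynomial.lifts_and_natDegree_eq_and_monic hql hqm
  have hιeq : (algebraMap ↥𝒱 F).comp inc = ι := RingHom.ext (fun x => rfl)
  have hq₀θ : Polynomial.eval₂ ι θ q₀ = 0 := by
    rw [← Polynomial.eval_map, hq₀map]
    exact hqθ
  -- `θ ∈ 𝒱`
  have hθ𝒱 : θ ∈ 𝒱 := by
    have hint : IsIntegral ↥𝒱 θ := by
      refine ⟨q₀.map inc, hq₀m.map inc, ?_⟩
      rw [Polynomial.eval₂_map, hιeq]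
      exact hq₀θ
    obtain ⟨y, hy⟩ := IsIntegrallyClosed.isIntegral_iff.mp hint
    rw [← hy]
    exact y.2
  let θ₀ : ↥𝒱 := ⟨θ, hθ𝒱⟩
  let θb : ResidueField ↥𝒱 := IsLocalRing.residue ↥𝒱 θ₀
  have hev_coe : ∀ P : (↥R)[X],
      ((Polynomial.eval₂ inc θ₀ P : ↥𝒱) : F) = Polynomial.eval₂ ι θ P := by
    intro P
    have h := Polynomial.hom_eval₂ P inc (algebraMap ↥𝒱 F) θ₀
    rw [hιeq] at h
    exact h
  have hev_res : ∀ P : (↥R)[X],
      IsLocalRing.residue ↥𝒱 (Polynomial.eval₂ inc θ₀ P) = Polynomial.eval₂ ρ θb P := by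
    intro P
    exact Polynomial.hom_eval₂ P inc (IsLocalRing.residue ↥𝒱) θ₀
  have hvalP_mem : ∀ P : (↥R)[X], Polynomial.eval₂ ι θ P ∈ 𝒱 := by
    intro P
    rw [← hev_coe P]
    exact (Polynomial.eval₂ inc θ₀ P).2
  have hvalP_le : ∀ P : (↥R)[X], 𝒱.valuation (Polynomial.eval₂ ι θ P) ≤ 1 := fun P =>
    (𝒱.valuation_le_one_iff _).mpr (hvalP_mem P)
  -- the kernel of `ρ`
  have hkermem : ∀ x : ↥R, x ∈ RingHom.ker ρ ↔ 𝒱.valuation (x : F) < 1 := by
    intro x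
    rw [RingHom.mem_ker]
    show IsLocalRing.residue ↥𝒱 (inc x) = 0 ↔ _
    rw [IsLocalRing.residue_eq_zero_iff, ValuationSubring.valuation_lt_one_iff]
    exact Iff.rfl
  haveI hmax : (RingHom.ker ρ).IsMaximal := by
    rw [Ideal.isMaximal_iff]
    refine ⟨?_, ?_⟩
    · intro h
      have h' := (hkermem 1).mp h
      rw [show ((1 : ↥R) : F) = 1 from rfl, map_one] at h'
      exact lt_irrefl _ h'
    · intro J x _ hx hxJ
      have hx1 : ¬ 𝒱.valuation (x : F) < 1 := fun h => hx ((hkermem x).mpr h)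
      have hx𝒱 : (x : F) ∈ 𝒱 := ((hRmem _).mp x.2).2
      have hxv : 𝒱.valuation (x : F) = 1 :=
        le_antisymm ((𝒱.valuation_le_one_iff _).mpr hx𝒱) (not_lt.mp hx1)
      obtain ⟨hx0, -, hxinv⟩ := (val_eq_one_iff 𝒱 _).mp hxv
      have hinvR : (x : F)⁻¹ ∈ R := (hRmem _).mpr ⟨H.inv_mem ((hRmem _).mp x.2).1, hxinv⟩
      have h1 : (1 : ↥R) = x * ⟨(x : F)⁻¹, hinvR⟩ := by
        apply Subtype.ext
        show (1 : F) = (x : F) * (x : F)⁻¹
        rw [mul_inv_cancel₀ hx0]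
      rw [h1]
      exact J.mul_mem_right _ hxJ
  letI : Field (↥R ⧸ RingHom.ker ρ) := Ideal.Quotient.field _
  let mk : ↥R →+* (↥R ⧸ RingHom.ker ρ) := Ideal.Quotient.mk (RingHom.ker ρ)
  have hmksurj : Function.Surjective mk := Ideal.Quotient.mk_surjective
  have hmkker : RingHom.ker mk = RingHom.ker ρ := Ideal.mk_ker
  let ρt : (↥R ⧸ RingHom.ker ρ) →+* ResidueField ↥𝒱 := RingHom.kerLift ρ
  letI algkH : Algebra (↥R ⧸ RingHom.ker ρ) (ResidueField ↥𝒱) := ρt.toAlgebra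
  have hρt : ρt.comp mk = ρ := RingHom.ext (fun x => RingHom.kerLift_mk ρ x)
  have haeval : ∀ P : (↥R)[X], Polynomial.aeval θb (P.map mk) = Polynomial.eval₂ ρ θb P := by
    intro P
    rw [Polynomial.aeval_def, Polynomial.eval₂_map]
    show Polynomial.eval₂ (ρt.comp mk) θb P = _
    rw [hρt]
  have hρq₀ : Polynomial.eval₂ ρ θb q₀ = 0 := by
    rw [← hev_res]
    have h1 : Polynomial.eval₂ inc θ₀ q₀ = 0 := by
      apply Subtype.ext
      rw [hev_coe, hq₀θ]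
      rfl
    rw [h1, map_zero]
  have hroot : Polynomial.aeval θb (q₀.map mk) = 0 := by rw [haeval, hρq₀]
  obtain ⟨rb, hrb⟩ := minpoly.dvd (↥R ⧸ RingHom.ker ρ) θb hroot
  -- the derivative does not vanish at `θb`
  have hderiv_ne : Polynomial.eval₂ ρ θb (derivative q₀) ≠ 0 := by
    rw [← hev_res]
    intro h0
    have hmem : Polynomial.eval₂ inc θ₀ (derivative q₀) ∈ IsLocalRing.maximalIdeal ↥𝒱 :=
      (IsLocalRing.residue_eq_zero_iff _).mp h0
    rw [ValuationSubring.valuation_lt_one_iff, hev_coe] at hmem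
    have h1 : Polynomial.eval₂ ι θ (derivative q₀) = Polynomial.eval θ (derivative q) := by
      rw [← hq₀map, Polynomial.derivative_map, Polynomial.eval_map]
    rw [h1, hqd] at hmem
    exact lt_irrefl _ hmem
  have hrbθ : Polynomial.aeval θb rb ≠ 0 := by
    intro h0
    apply hderiv_ne
    rw [← haeval, ← Polynomial.derivative_map, hrb, Polynomial.derivative_mul, map_add, map_mul,
      map_mul, h0, minpoly.aeval, mul_zero, zero_mul, add_zero]
  obtain ⟨r, hr⟩ := Polynomial.map_surjective mk hmksurj rb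
  have hrθ : Polynomial.eval₂ ρ θb r ≠ 0 := by
    rw [← haeval, hr]
    exact hrbθ
  have hrunit : 𝒱.valuation (Polynomial.eval₂ ι θ r) = 1 := by
    have hnm : Polynomial.eval₂ inc θ₀ r ∉ IsLocalRing.maximalIdeal ↥𝒱 := by
      intro hm
      apply hrθ
      rw [← hev_res]
      exact (IsLocalRing.residue_eq_zero_iff _).mpr hm
    rw [ValuationSubring.valuation_lt_one_iff, hev_coe] at hnm
    exact le_antisymm (hvalP_le r) (not_lt.mp hnm)
  -- the kernel is generated by `ϖ`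
  have hker_le : RingHom.ker mk ≤ Ideal.span {ϖR} := by
    intro x hx
    rw [hmkker] at hx
    have hv := (hkermem x).mp hx
    have hle := hDiv _ ((hRmem _).mp x.2).1 hv
    have hdiv𝒱 : (x : F) / ϖ ∈ 𝒱 := by
      apply (𝒱.valuation_le_one_iff _).mp
      rw [map_div₀]
      exact (div_le_one₀ hϖpos).mpr hle
    have hdivR : (x : F) / ϖ ∈ R :=
      (hRmem _).mpr ⟨H.div_mem ((hRmem _).mp x.2).1 hϖH, hdiv𝒱⟩
    rw [Ideal.mem_span_singleton']
    refine ⟨⟨(x : F) / ϖ, hdivR⟩, ?_⟩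
    apply Subtype.ext
    show (x : F) / ϖ * ϖ = x
    field_simp
  -- the descent step
  have hD : ∀ P : (↥R)[X], 𝒱.valuation (Polynomial.eval₂ ι θ P) < 1 →
      ∃ S : (↥R)[X],
        Polynomial.eval₂ ι θ P * Polynomial.eval₂ ι θ r = ϖ * Polynomial.eval₂ ι θ S := by
    intro P hP
    have hPres : Polynomial.eval₂ ρ θb P = 0 := by
      rw [← hev_res]
      apply (IsLocalRing.residue_eq_zero_iff _).mpr
      rw [ValuationSubring.valuation_lt_one_iff, hev_coe]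
      exact hP
    have hPa : Polynomial.aeval θb (P.map mk) = 0 := by rw [haeval, hPres]
    obtain ⟨P1b, hP1b⟩ := minpoly.dvd (↥R ⧸ RingHom.ker ρ) θb hPa
    obtain ⟨P1, hP1⟩ := Polynomial.map_surjective mk hmksurj P1b
    have hT : (P * r - P1 * q₀) ∈ RingHom.ker (Polynomial.mapRingHom mk) := by
      rw [RingHom.mem_ker, Polynomial.coe_mapRingHom, Polynomial.map_sub, Polynomial.map_mul,
        Polynomial.map_mul, hr, hP1, hP1b, hrb]
      ring
    rw [Polynomial.ker_mapRingHom] at hT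
    have hT2 : (P * r - P1 * q₀) ∈ Ideal.span {(Polynomial.C ϖR : (↥R)[X])} := by
      have h1 : Ideal.map (Polynomial.C : ↥R →+* (↥R)[X]) (RingHom.ker mk) ≤
          Ideal.map (Polynomial.C : ↥R →+* (↥R)[X]) (Ideal.span {ϖR}) := Ideal.map_mono hker_le
      have h2 := h1 hT
      rwa [Ideal.map_span, Set.image_singleton] at h2
    obtain ⟨S, hS⟩ := Ideal.mem_span_singleton'.mp hT2
    refine ⟨S, ?_⟩
    have h3 := congrArg (Polynomial.eval₂ ι θ) hS
    rw [Polynomial.eval₂_mul, Polynomial.eval₂_C, Polynomial.eval₂_sub, Polynomial.eval₂_mul,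
      Polynomial.eval₂_mul, hq₀θ, mul_zero, sub_zero] at h3
    rw [← h3]
    exact mul_comm _ _
  have hstep : ∀ (m : ℕ) (y : F) (P S : (↥R)[X]), ϖ ^ (m + 1) * y = Polynomial.eval₂ ι θ P →
      Polynomial.eval₂ ι θ P * Polynomial.eval₂ ι θ r = ϖ * Polynomial.eval₂ ι θ S →
      ϖ ^ m * (y * Polynomial.eval₂ ι θ r) = Polynomial.eval₂ ι θ S := by
    intro m y P S hP hS
    have h1 : ϖ * (ϖ ^ m * (y * Polynomial.eval₂ ι θ r)) = ϖ * Polynomial.eval₂ ι θ S := by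
      rw [← hS, ← hP, pow_succ]
      ring
    exact mul_left_cancel₀ hϖ0 h1
  -- elements of `H` in the form `ϖ ^ m * y = P(θ)`
  have hY_of_H : ∀ y ∈ H, ∃ m : ℕ, ∃ P : (↥R)[X], ϖ ^ m * y = Polynomial.eval₂ ι θ P := by
    intro y hy
    by_cases hy0 : y = 0
    · exact ⟨0, 0, by rw [hy0, Polynomial.eval₂_zero, mul_zero]⟩
    · obtain ⟨m, hm⟩ := hArch y⁻¹ (H.inv_mem hy) (inv_ne_zero hy0)
      have hmem𝒱 : ϖ ^ m * y ∈ 𝒱 := by
        apply (𝒱.valuation_le_one_iff _).mp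
        rw [map_mul, map_pow]
        rw [map_inv₀] at hm
        calc 𝒱.valuation ϖ ^ m * 𝒱.valuation y
            ≤ (𝒱.valuation y)⁻¹ * 𝒱.valuation y := mul_le_mul' hm le_rfl
          _ = 1 := inv_mul_cancel₀ (val_pos 𝒱 hy0).ne'
      refine ⟨m, Polynomial.C ⟨ϖ ^ m * y,
        (hRmem _).mpr ⟨H.mul_mem (H.pow_mem hϖH m) hy, hmem𝒱⟩⟩, ?_⟩
      rw [Polynomial.eval₂_C]
      rfl
  let Ysub : Subalgebra ↥H F :=
    { carrier := {y | ∃ m : ℕ, ∃ P : (↥R)[X], ϖ ^ m * y = Polynomial.eval₂ ι θ P}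
      mul_mem' := by
        rintro a b ⟨m₁, P₁, h₁⟩ ⟨m₂, P₂, h₂⟩
        refine ⟨m₁ + m₂, P₁ * P₂, ?_⟩
        rw [Polynomial.eval₂_mul, ← h₁, ← h₂, pow_add]
        ring
      add_mem' := by
        rintro a b ⟨m₁, P₁, h₁⟩ ⟨m₂, P₂, h₂⟩
        refine ⟨m₁ + m₂, Polynomial.C (ϖR ^ m₂) * P₁ + Polynomial.C (ϖR ^ m₁) * P₂, ?_⟩
        rw [Polynomial.eval₂_add, Polynomial.eval₂_mul, Polynomial.eval₂_mul, Polynomial.eval₂_C,
          Polynomial.eval₂_C, ← h₁, ← h₂, hιpow, hιpow, pow_add]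
        ring
      algebraMap_mem' := fun h => hY_of_H _ h.2 }
  have hYsub : ∀ y : F, y ∈ Ysub ↔
      ∃ m : ℕ, ∃ P : (↥R)[X], ϖ ^ m * y = Polynomial.eval₂ ι θ P := fun y => Iff.rfl
  -- `θ` is algebraic over `H`
  have hqH : q ∈ Polynomial.lifts (algebraMap ↥H F) := by
    rw [Polynomial.lifts_iff_coeff_lifts]
    intro n
    exact ⟨⟨q.coeff n, (hqc n).1⟩, rfl⟩
  obtain ⟨qH, hqHmap, -, hqHm⟩ := Polynomial.lifts_and_natDegree_eq_and_monic hqH hqm
  have hθalg : IsAlgebraic ↥H θ := by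
    refine ⟨qH, hqHm.ne_zero, ?_⟩
    rw [Polynomial.aeval_def, ← Polynomial.eval_map, hqHmap]
    exact hqθ
  have hYall : ∀ y ∈ H ⊔ Subfield.closure {θ},
      ∃ m : ℕ, ∃ P : (↥R)[X], ϖ ^ m * y = Polynomial.eval₂ ι θ P := by
    intro y hy
    have hle : H ⊔ Subfield.closure {θ} ≤ (IntermediateField.adjoin ↥H {θ}).toSubfield := by
      apply sup_le
      · intro x hx
        exact (IntermediateField.adjoin ↥H {θ}).algebraMap_mem ⟨x, hx⟩
      · rw [Subfield.closure_le]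
        intro x hx
        rw [Set.mem_singleton_iff.mp hx]
        exact IntermediateField.mem_adjoin_simple_self ↥H θ
    have h1 : y ∈ (IntermediateField.adjoin ↥H {θ}).toSubalgebra := hle hy
    rw [IntermediateField.adjoin_toSubalgebra_of_isAlgebraic (by
      intro x hx
      rw [Set.mem_singleton_iff.mp hx]
      exact hθalg)] at h1
    have h2 : Algebra.adjoin ↥H {θ} ≤ Ysub := Algebra.adjoin_le (by
      intro x hx
      rw [Set.mem_singleton_iff.mp hx]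
      exact (hYsub θ).mpr ⟨0, Polynomial.X, by rw [Polynomial.eval₂_X, pow_zero, one_mul]⟩)
    exact (hYsub y).mp (h2 h1)
  -- Arch
  have hArch1 : Arch 𝒱 ϖ (H ⊔ Subfield.closure {θ}) := by
    intro y hy hy0
    obtain ⟨m, P, hmP⟩ := hYall y⁻¹ ((H ⊔ Subfield.closure {θ}).inv_mem hy)
    refine ⟨m, ?_⟩
    have hle := hvalP_le P
    rw [← hmP, map_mul, map_pow, map_inv₀] at hle
    have hpos := val_pos 𝒱 hy0
    calc 𝒱.valuation ϖ ^ m
        = 𝒱.valuation ϖ ^ m * (𝒱.valuation y)⁻¹ * 𝒱.valuation y := by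
          rw [mul_assoc, inv_mul_cancel₀ hpos.ne', mul_one]
      _ ≤ 1 * 𝒱.valuation y := mul_le_mul' hle le_rfl
      _ = 𝒱.valuation y := one_mul _
  -- Div
  have hDivm : ∀ m : ℕ, ∀ (y : F) (P : (↥R)[X]), ϖ ^ m * y = Polynomial.eval₂ ι θ P →
      𝒱.valuation y < 1 → 𝒱.valuation y ≤ 𝒱.valuation ϖ := by
    intro m
    induction m with
    | zero =>
      intro y P hP hy
      rw [pow_zero, one_mul] at hP
      obtain ⟨S, hS⟩ := hD P (by rw [← hP]; exact hy)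
      have h1 := congrArg 𝒱.valuation hS
      rw [map_mul, map_mul, hrunit, mul_one, ← hP] at h1
      rw [h1]
      calc 𝒱.valuation ϖ * 𝒱.valuation (Polynomial.eval₂ ι θ S)
          ≤ 𝒱.valuation ϖ * 1 := mul_le_mul' le_rfl (hvalP_le S)
        _ = 𝒱.valuation ϖ := mul_one _
    | succ m ih =>
      intro y P hP hy
      have hlt : 𝒱.valuation (Polynomial.eval₂ ι θ P) < 1 := by
        rw [← hP, map_mul, map_pow]
        calc 𝒱.valuation ϖ ^ (m + 1) * 𝒱.valuation y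
            ≤ 1 * 𝒱.valuation y := mul_le_mul' (pow_le_one' hϖ1.le _) le_rfl
          _ = 𝒱.valuation y := one_mul _
          _ < 1 := hy
      obtain ⟨S, hS⟩ := hD P hlt
      have hS' := hstep m y P S hP hS
      have h1 := ih (y * Polynomial.eval₂ ι θ r) S hS' (by
        rw [map_mul, hrunit, mul_one]
        exact hy)
      rwa [map_mul, hrunit, mul_one] at h1
  -- Rsep
  have hsepR : ∀ x : ↥R, ρ x ∈ separableClosure k₀ (ResidueField ↥𝒱) := fun x =>
    hRsep (x : F) ((hRmem _).mp x.2).2 ((hRmem _).mp x.2).1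
  have hθsep : θb ∈ separableClosure k₀ (ResidueField ↥𝒱) := by
    rw [mem_separableClosure_iff]
    haveI := separableClosure.isSeparable k₀ (ResidueField ↥𝒱)
    let ρE : ↥R →+* ↥(separableClosure k₀ (ResidueField ↥𝒱)) :=
      RingHom.codRestrict ρ (separableClosure k₀ (ResidueField ↥𝒱)) hsepR
    have hcomp : (algebraMap ↥(separableClosure k₀ (ResidueField ↥𝒱))
        (ResidueField ↥𝒱)).comp ρE = ρ := RingHom.ext (fun x => rfl)
    have hsepE : IsSeparable ↥(separableClosure k₀ (ResidueField ↥𝒱)) θb := by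
      apply isSeparable_of_simple_root θb (q₀.map ρE)
      · rw [Polynomial.aeval_def, Polynomial.eval₂_map, hcomp]
        exact hρq₀
      · rw [Polynomial.derivative_map, Polynomial.aeval_def, Polynomial.eval₂_map, hcomp]
        exact hderiv_ne
    exact IsSeparable.of_algebra_isSeparable_of_isSeparable k₀ hsepE
  have hPk : ∀ P : (↥R)[X],
      Polynomial.eval₂ ρ θb P ∈ separableClosure k₀ (ResidueField ↥𝒱) := by
    intro P
    induction P using Polynomial.induction_on' with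
    | add p q hp hq =>
      rw [Polynomial.eval₂_add]
      exact add_mem hp hq
    | monomial n a =>
      rw [Polynomial.eval₂_monomial]
      exact mul_mem (hsepR a) (pow_mem hθsep n)
  have hRm : ∀ m : ℕ, ∀ (y : F) (hy : y ∈ 𝒱) (P : (↥R)[X]),
      ϖ ^ m * y = Polynomial.eval₂ ι θ P →
      IsLocalRing.residue ↥𝒱 ⟨y, hy⟩ ∈ separableClosure k₀ (ResidueField ↥𝒱) := by
    intro m
    induction m with
    | zero =>
      intro y hy P hP
      rw [pow_zero, one_mul] at hP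
      have h1 : (⟨y, hy⟩ : ↥𝒱) = Polynomial.eval₂ inc θ₀ P := by
        apply Subtype.ext
        rw [hev_coe]
        exact hP
      rw [h1, hev_res]
      exact hPk P
    | succ m ih =>
      intro y hy P hP
      have hlt : 𝒱.valuation (Polynomial.eval₂ ι θ P) < 1 := by
        rw [← hP, map_mul, map_pow]
        calc 𝒱.valuation ϖ ^ (m + 1) * 𝒱.valuation y
            ≤ 𝒱.valuation ϖ ^ (m + 1) * 1 :=
              mul_le_mul' le_rfl ((𝒱.valuation_le_one_iff _).mpr hy)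
          _ = 𝒱.valuation ϖ ^ (m + 1) := mul_one _
          _ < 1 := pow_lt_one' hϖ1 (Nat.succ_ne_zero m)
      obtain ⟨S, hS⟩ := hD P hlt
      have hS' := hstep m y P S hP hS
      have hy' : y * Polynomial.eval₂ ι θ r ∈ 𝒱 := mul_mem hy (hvalP_mem r)
      have h1 := ih _ hy' S hS'
      have h2 : IsLocalRing.residue ↥𝒱 ⟨y * Polynomial.eval₂ ι θ r, hy'⟩ =
          IsLocalRing.residue ↥𝒱 ⟨y, hy⟩ * Polynomial.eval₂ ρ θb r := by
        rw [← hev_res, ← map_mul]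
        congr 1
        apply Subtype.ext
        show y * Polynomial.eval₂ ι θ r = y * ((Polynomial.eval₂ inc θ₀ r : ↥𝒱) : F)
        rw [hev_coe]
      rw [h2] at h1
      have h3 : IsLocalRing.residue ↥𝒱 ⟨y, hy⟩ =
          IsLocalRing.residue ↥𝒱 ⟨y, hy⟩ * Polynomial.eval₂ ρ θb r *
            (Polynomial.eval₂ ρ θb r)⁻¹ := by
        rw [mul_assoc, mul_inv_cancel₀ hrθ, mul_one]
      rw [h3]
      exact mul_mem h1 (inv_mem (hPk r))
  refine ⟨?_, hArch1, ?_⟩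
  · intro y hy hlt
    obtain ⟨m, P, hmP⟩ := hYall y hy
    exact hDivm m y P hmP hlt
  · intro x hx hxH
    obtain ⟨m, P, hmP⟩ := hYall x hxH
    exact hRm m x hx P hmP

/-- Zorn: a good subfield containing `ϖ` is contained in a good étale-closed subfield. -/
theorem exists_good_closed (hϖ0 : ϖ ≠ 0) (hϖ1 : 𝒱.valuation ϖ < 1) (H₀ : Subfield F)
    (hϖH : ϖ ∈ H₀) (h₀ : Good 𝒱 ϖ k₀ H₀) :
    ∃ Hs : Subfield F, H₀ ≤ Hs ∧ Good 𝒱 ϖ k₀ Hs ∧ EtClosed 𝒱 Hs := by
  have hzorn : ∀ c ⊆ {H : Subfield F | H₀ ≤ H ∧ Good 𝒱 ϖ k₀ H}, IsChain (· ≤ ·) c → ∀ y ∈ c,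
      ∃ ub ∈ {H : Subfield F | H₀ ≤ H ∧ Good 𝒱 ϖ k₀ H}, ∀ z ∈ c, z ≤ ub := by
    intro c hc hchain y hy
    refine ⟨sSup c, ⟨le_trans (hc hy).1 (le_sSup hy), ?_⟩, fun z hz => le_sSup hz⟩
    have hdir : DirectedOn (· ≤ ·) c := hchain.directedOn
    have hmem : ∀ {x : F}, x ∈ sSup c → ∃ s ∈ c, x ∈ s := fun hx =>
      (Subfield.mem_sSup_of_directedOn ⟨y, hy⟩ hdir).mp hx
    refine ⟨?_, ?_, ?_⟩
    · intro x hx hlt
      obtain ⟨s, hs, hxs⟩ := hmem hx
      exact (hc hs).2.1 x hxs hlt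
    · intro x hx hx0
      obtain ⟨s, hs, hxs⟩ := hmem hx
      exact (hc hs).2.2.1 x hxs hx0
    · intro x hx𝒱 hx
      obtain ⟨s, hs, hxs⟩ := hmem hx
      exact (hc hs).2.2.2 x hx𝒱 hxs
  obtain ⟨m, -, hmax⟩ := zorn_le_nonempty₀ {H : Subfield F | H₀ ≤ H ∧ Good 𝒱 ϖ k₀ H} hzorn H₀
    ⟨le_rfl, h₀⟩
  refine ⟨m, hmax.prop.1, hmax.prop.2, ?_⟩
  intro θ hθ
  have hgood := good_adjoin 𝒱 ϖ k₀ hϖ0 hϖ1 m (hmax.prop.1 hϖH) hmax.prop.2 θ hθ
  have hle : m ⊔ Subfield.closure {θ} ≤ m :=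
    hmax.le_of_ge ⟨le_trans hmax.prop.1 le_sup_left, hgood⟩ le_sup_left
  have h1 : θ ∈ m ⊔ Subfield.closure {θ} :=
    (le_sup_right : Subfield.closure {θ} ≤ m ⊔ Subfield.closure {θ})
      (Subfield.subset_closure (Set.mem_singleton θ))
  exact hle h1

theorem good_etClosure (hϖ0 : ϖ ≠ 0) (hϖ1 : 𝒱.valuation ϖ < 1) (G₀ : Subfield F)
    (hϖG : ϖ ∈ G₀) (h₀ : Good 𝒱 ϖ k₀ G₀) : Good 𝒱 ϖ k₀ (etClosure 𝒱 G₀) := by
  obtain ⟨Hs, h1, h2, h3⟩ := exists_good_closed 𝒱 ϖ k₀ hϖ0 hϖ1 G₀ hϖG h₀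
  exact h2.mono 𝒱 ϖ k₀ (etClosure_le 𝒱 h1 h3)

/-- **Base change**: if `K'` is étale-generated over `G₀` (w.r.t. `Av = 𝒱 ∩ K'`), and `E` is a good
subfield of `F` containing the image of `G₀`, then the compositum of `E` and `K'` is good. -/
theorem good_sup_range {K' : Type u} [Field K'] (Av : ValuationSubring K') (j : K' →+* F)
    (hj : 𝒱.comap j = Av) (G₀ : Subfield K')
    (hind : ∀ G : Subfield K', G₀ ≤ G → EtClosed Av G → G = ⊤)
    (hϖ0 : ϖ ≠ 0) (hϖ1 : 𝒱.valuation ϖ < 1) (E : Subfield F) (hϖE : ϖ ∈ E)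
    (hE : Good 𝒱 ϖ k₀ E) (hG₀E : G₀.map j ≤ E) : Good 𝒱 ϖ k₀ (E ⊔ j.fieldRange) := by
  subst hj
  have hmapmono : ∀ {s t : Subfield K'}, s ≤ t → s.map j ≤ t.map j := by
    intro s t hst x hx
    obtain ⟨y, hy, hyx⟩ := Subfield.mem_map.mp hx
    exact Subfield.mem_map.mpr ⟨y, hst hy, hyx⟩
  have hzorn : ∀ c ⊆ {G : Subfield K' | G₀ ≤ G ∧ Good 𝒱 ϖ k₀ (E ⊔ G.map j)}, IsChain (· ≤ ·) c →
      ∀ y ∈ c, ∃ ub ∈ {G : Subfield K' | G₀ ≤ G ∧ Good 𝒱 ϖ k₀ (E ⊔ G.map j)}, ∀ z ∈ c, z ≤ ub := by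
    intro c hc hchain y hy
    refine ⟨sSup c, ⟨le_trans (hc hy).1 (le_sSup hy), ?_⟩, fun z hz => le_sSup hz⟩
    have hTchain : IsChain (· ≤ ·) ((fun s : Subfield K' => E ⊔ s.map j) '' c) := by
      rintro _ ⟨s, hs, rfl⟩ _ ⟨t, ht, rfl⟩ _
      rcases hchain.total hs ht with h | h
      · exact Or.inl (sup_le_sup_left (hmapmono h) E)
      · exact Or.inr (sup_le_sup_left (hmapmono h) E)
    have hTne : ((fun s : Subfield K' => E ⊔ s.map j) '' c).Nonempty := ⟨_, ⟨y, hy, rfl⟩⟩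
    have hle : E ⊔ (sSup c).map j ≤ sSup ((fun s : Subfield K' => E ⊔ s.map j) '' c) := by
      apply sup_le
      · exact le_trans (le_sup_left : E ≤ E ⊔ y.map j) (le_sSup ⟨y, hy, rfl⟩)
      · rw [Subfield.map_le_iff_le_comap]
        apply sSup_le
        intro s hs x hx
        rw [Subfield.mem_comap]
        have h6 : E ⊔ s.map j ≤ sSup ((fun s : Subfield K' => E ⊔ s.map j) '' c) :=
          le_sSup ⟨s, hs, rfl⟩
        have h7 : j x ∈ E ⊔ s.map j :=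
          (le_sup_right : s.map j ≤ E ⊔ s.map j) (Subfield.mem_map.mpr ⟨x, hx, rfl⟩)
        exact h6 h7
    have hmem : ∀ {x : F}, x ∈ E ⊔ (sSup c).map j → ∃ s ∈ c, x ∈ E ⊔ s.map j := by
      intro x hx
      obtain ⟨t, ⟨s, hs, rfl⟩, hxt⟩ :=
        (Subfield.mem_sSup_of_directedOn hTne hTchain.directedOn).mp (hle hx)
      exact ⟨s, hs, hxt⟩
    refine ⟨?_, ?_, ?_⟩
    · intro x hx hlt
      obtain ⟨s, hs, hxs⟩ := hmem hx
      exact (hc hs).2.1 x hxs hlt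
    · intro x hx hx0
      obtain ⟨s, hs, hxs⟩ := hmem hx
      exact (hc hs).2.2.1 x hxs hx0
    · intro x hx𝒱 hx
      obtain ⟨s, hs, hxs⟩ := hmem hx
      exact (hc hs).2.2.2 x hx𝒱 hxs
  obtain ⟨m, -, hmax⟩ := zorn_le_nonempty₀
    {G : Subfield K' | G₀ ≤ G ∧ Good 𝒱 ϖ k₀ (E ⊔ G.map j)} hzorn G₀
    ⟨le_rfl, by rw [sup_eq_left.mpr hG₀E]; exact hE⟩
  have hcl : EtClosed (𝒱.comap j) m := by
    intro θ' hθ'
    have h1 : IsEt 𝒱 (E ⊔ m.map j) (j θ') :=
      (IsEt.map 𝒱 j m θ' hθ').mono 𝒱 le_sup_right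
    have h2 := good_adjoin 𝒱 ϖ k₀ hϖ0 hϖ1 (E ⊔ m.map j)
      ((le_sup_left : E ≤ E ⊔ m.map j) hϖE) hmax.prop.2 (j θ') h1
    have h3 : E ⊔ (m ⊔ Subfield.closure {θ'}).map j ≤
        (E ⊔ m.map j) ⊔ Subfield.closure {j θ'} := by
      apply sup_le (le_trans le_sup_left le_sup_left)
      rw [Subfield.map_le_iff_le_comap]
      apply sup_le
      · intro x hx
        rw [Subfield.mem_comap]
        exact (le_trans le_sup_right le_sup_left :
          m.map j ≤ (E ⊔ m.map j) ⊔ Subfield.closure {j θ'})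
          (Subfield.mem_map.mpr ⟨x, hx, rfl⟩)
      · rw [Subfield.closure_le]
        intro x hx
        rw [Set.mem_singleton_iff.mp hx]
        show j θ' ∈ (E ⊔ m.map j) ⊔ Subfield.closure {j θ'}
        exact (le_sup_right : Subfield.closure {j θ'} ≤
          (E ⊔ m.map j) ⊔ Subfield.closure {j θ'})
          (Subfield.subset_closure (Set.mem_singleton _))
    have h4 : m ⊔ Subfield.closure {θ'} ≤ m :=
      hmax.le_of_ge ⟨le_trans hmax.prop.1 le_sup_left, h2.mono 𝒱 ϖ k₀ h3⟩ le_sup_left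
    exact h4 ((le_sup_right : Subfield.closure {θ'} ≤ m ⊔ Subfield.closure {θ'})
      (Subfield.subset_closure (Set.mem_singleton _)))
  have htop := hind m hmax.prop.1 hcl
  have h5 := hmax.prop.2
  rw [htop, ← RingHom.fieldRange_eq_map] at h5
  exact h5

end LemmaU

end Groth.Agent.Helper22.EtU
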