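import Mathlib
import Groth.Prelude.Def_EtRam
import Groth.Agent.Lib.Helper22.SolTower
import Groth.Agent.Lib.Helper22.EtU

/-!
# Étale closure: base case, DVR property and separably closed residue field (for S7162)

* `good_base`: the fraction field of a DVR dominated by `𝒱` is `Good`.
* `isDVR_comap`: a `Good` subfield cuts out a discrete valuation ring.
* `isSepClosed_residue`: an étale-closed subfield of an algebraically closed field has separably
  closed residue field.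
* `etClosed_sepClosure`: the relative separable closure is étale-closed.
* `comap_eq_of_dominates`: a valuation subring dominating a valuation subring restricts to it.
-/

set_option autoImplicit false
set_option linter.deprecated false
set_option linter.unusedVariables false
universe u

open Polynomial IsLocalRing

namespace Groth.Agent.Helper22.EtCl

open Groth.Agent.Helper22.EtU

section
variable {F : Type u} [Field F] (𝒱 : ValuationSubring F)

theorem good_base (A₀ K₀ : Type u) [CommRing A₀] [IsDomain A₀] [IsDiscreteValuationRing A₀]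
    [Field K₀] [Algebra A₀ K₀] [IsFractionRing A₀ K₀] (j : K₀ →+* F)
    (hdom : EtRam.Dominates A₀ (j.comp (algebraMap A₀ K₀)) 𝒱) (π₀ : A₀) (hπ₀ : Irreducible π₀)
    [Algebra (ResidueField A₀) (ResidueField ↥𝒱)]
    (hres : ∀ a : A₀, algebraMap (ResidueField A₀) (ResidueField ↥𝒱) (IsLocalRing.residue A₀ a) =
      IsLocalRing.residue ↥𝒱 ⟨j (algebraMap A₀ K₀ a), hdom.1 a⟩) :
    Good 𝒱 (j (algebraMap A₀ K₀ π₀)) (ResidueField A₀) j.fieldRange := by
  have hle1 : ∀ a : A₀, 𝒱.valuation (j (algebraMap A₀ K₀ a)) ≤ 1 := fun a =>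
    (𝒱.valuation_le_one_iff _).mpr (hdom.1 a)
  have hunit : ∀ u : A₀, IsUnit u → 𝒱.valuation (j (algebraMap A₀ K₀ u)) = 1 := by
    intro u hu
    obtain ⟨w, hw⟩ := hu.exists_right_inv
    have h3 : 𝒱.valuation (j (algebraMap A₀ K₀ u)) * 𝒱.valuation (j (algebraMap A₀ K₀ w)) = 1 := by
      rw [← map_mul, ← map_mul, ← map_mul, hw, map_one, map_one, map_one]
    apply le_antisymm (hle1 u)
    calc (1 : 𝒱.ValueGroup)
        = 𝒱.valuation (j (algebraMap A₀ K₀ u)) * 𝒱.valuation (j (algebraMap A₀ K₀ w)) := h3.symm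
      _ ≤ 𝒱.valuation (j (algebraMap A₀ K₀ u)) * 1 := mul_le_mul' le_rfl (hle1 w)
      _ = 𝒱.valuation (j (algebraMap A₀ K₀ u)) := mul_one _
  have hmaxle : ∀ a : A₀, a ∈ maximalIdeal A₀ →
      𝒱.valuation (j (algebraMap A₀ K₀ a)) ≤ 𝒱.valuation (j (algebraMap A₀ K₀ π₀)) := by
    intro a ha
    rw [hπ₀.maximalIdeal_eq, Ideal.mem_span_singleton'] at ha
    obtain ⟨c, hc⟩ := ha
    rw [← hc, map_mul, map_mul, map_mul]
    calc 𝒱.valuation (j (algebraMap A₀ K₀ c)) * 𝒱.valuation (j (algebraMap A₀ K₀ π₀))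
        ≤ 1 * 𝒱.valuation (j (algebraMap A₀ K₀ π₀)) := mul_le_mul' (hle1 c) le_rfl
      _ = 𝒱.valuation (j (algebraMap A₀ K₀ π₀)) := one_mul _
  -- elements of `K₀` whose image lies in `𝒱` come from `A₀`
  have hint : ∀ x : K₀, j x ∈ 𝒱 → ∃ a : A₀, algebraMap A₀ K₀ a = x := by
    intro x hx
    rcases ValuationRing.isInteger_or_isInteger A₀ x with ⟨a, ha⟩ | ⟨a, ha⟩
    · exact ⟨a, ha⟩
    · by_cases hx0 : x = 0
      · exact ⟨0, by rw [hx0, map_zero]⟩
      by_cases hau : IsUnit a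
      · obtain ⟨w, hw⟩ := hau.exists_right_inv
        refine ⟨w, ?_⟩
        have h1 : algebraMap A₀ K₀ a * algebraMap A₀ K₀ w = 1 := by rw [← map_mul, hw, map_one]
        have ha' : algebraMap A₀ K₀ a = x⁻¹ := ha
        rw [ha'] at h1
        rw [eq_inv_of_mul_eq_one_right h1, inv_inv]
      · exfalso
        have ham : a ∈ maximalIdeal A₀ := (mem_maximalIdeal a).mpr hau
        have h2 : 𝒱.valuation (j (algebraMap A₀ K₀ a)) < 1 := hdom.2 a ham
        have ha' : algebraMap A₀ K₀ a = x⁻¹ := ha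
        rw [ha', map_inv₀, map_inv₀] at h2
        have h3 := (𝒱.valuation_le_one_iff _).mpr hx
        have hpos : 0 < 𝒱.valuation (j x) := val_pos 𝒱 ((_root_.map_ne_zero j).mpr hx0)
        rw [inv_lt_one₀ hpos] at h2
        exact absurd h3 (not_le.mpr h2)
  refine ⟨?_, ?_, ?_⟩
  · intro y hy hlt
    obtain ⟨x, rfl⟩ := RingHom.mem_fieldRange.mp hy
    obtain ⟨a, rfl⟩ := hint x ((𝒱.valuation_le_one_iff _).mp hlt.le)
    apply hmaxle
    rw [mem_maximalIdeal, mem_nonunits_iff]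
    intro hu
    rw [hunit a hu] at hlt
    exact lt_irrefl _ hlt
  · intro y hy hy0
    obtain ⟨x, rfl⟩ := RingHom.mem_fieldRange.mp hy
    by_cases hx𝒱 : j x ∈ 𝒱
    · obtain ⟨a, rfl⟩ := hint x hx𝒱
      have ha0 : a ≠ 0 := by
        rintro rfl
        apply hy0
        rw [map_zero, map_zero]
      obtain ⟨n, hn⟩ := IsDiscreteValuationRing.associated_pow_irreducible ha0 hπ₀
      obtain ⟨u, hu⟩ := hn
      refine ⟨n, ?_⟩
      have h1 : 𝒱.valuation (j (algebraMap A₀ K₀ a)) *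
          𝒱.valuation (j (algebraMap A₀ K₀ (u : A₀))) =
          𝒱.valuation (j (algebraMap A₀ K₀ π₀)) ^ n := by
        rw [← map_mul, ← map_mul, ← map_mul, hu, map_pow, map_pow, map_pow]
      rw [hunit _ u.isUnit, mul_one] at h1
      rw [h1]
    · refine ⟨0, ?_⟩
      rw [pow_zero]
      exact le_of_lt (not_le.mp (fun h => hx𝒱 ((𝒱.valuation_le_one_iff _).mp h)))
  · intro x hx hxr
    obtain ⟨x₀, rfl⟩ := RingHom.mem_fieldRange.mp hxr
    obtain ⟨a, rfl⟩ := hint x₀ hx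
    rw [mem_separableClosure_iff]
    have h1 : IsLocalRing.residue ↥𝒱 ⟨j (algebraMap A₀ K₀ a), hx⟩ =
        algebraMap (ResidueField A₀) (ResidueField ↥𝒱) (IsLocalRing.residue A₀ a) :=
      (hres a).symm
    rw [h1]
    exact isSeparable_algebraMap _

theorem isDVR_comap (ϖ : F) {K' : Type u} [Field K'] (j : K' →+* F) (ϖ' : K') (hj : j ϖ' = ϖ)
    (hϖ0 : ϖ ≠ 0) (hϖ1 : 𝒱.valuation ϖ < 1)
    (hDiv : ∀ x : K', 𝒱.valuation (j x) < 1 → 𝒱.valuation (j x) ≤ 𝒱.valuation ϖ)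
    (hArch : ∀ x : K', x ≠ 0 → ∃ m : ℕ, 𝒱.valuation ϖ ^ m ≤ 𝒱.valuation (j x)) :
    IsDiscreteValuationRing ↥(𝒱.comap j) := by
  apply IsDiscreteValuationRing.ofHasUnitMulPowIrreducibleFactorization
  have hϖpos : 0 < 𝒱.valuation ϖ := val_pos 𝒱 hϖ0
  have hϖ'mem : ϖ' ∈ 𝒱.comap j := by
    rw [ValuationSubring.mem_comap, hj]
    exact (𝒱.valuation_le_one_iff _).mp hϖ1.le
  have hϖ'0 : ϖ' ≠ 0 := fun h => hϖ0 (by rw [← hj, h, map_zero])
  obtain ⟨p, hp⟩ : ∃ p : ↥(𝒱.comap j), (p : K') = ϖ' := ⟨⟨ϖ', hϖ'mem⟩, rfl⟩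
  have hvle : ∀ x : ↥(𝒱.comap j), 𝒱.valuation (j x) ≤ 1 := fun x =>
    (𝒱.valuation_le_one_iff _).mpr (ValuationSubring.mem_comap.mp x.2)
  have hunit : ∀ x : ↥(𝒱.comap j), IsUnit x ↔ 𝒱.valuation (j x) = 1 := by
    intro x
    rw [ValuationSubring.valuation_eq_one_iff, val_comap_eq_one]
  have hdivide : ∀ x : ↥(𝒱.comap j), 𝒱.valuation (j x) < 1 →
      ∃ x' : ↥(𝒱.comap j), x = p * x' := by
    intro x hx
    have hle := hDiv x hx
    have hmem : (x : K') / ϖ' ∈ 𝒱.comap j := by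
      rw [ValuationSubring.mem_comap, map_div₀, hj]
      apply (𝒱.valuation_le_one_iff _).mp
      rw [map_div₀]
      exact (div_le_one₀ hϖpos).mpr hle
    refine ⟨⟨_, hmem⟩, ?_⟩
    apply Subtype.ext
    show (x : K') = (p : K') * ((x : K') / ϖ')
    rw [hp]
    field_simp
  have hpv : 𝒱.valuation (j (p : K')) = 𝒱.valuation ϖ := by rw [hp, hj]
  refine ⟨p, ?_, ?_⟩
  · rw [irreducible_iff]
    refine ⟨?_, ?_⟩
    · rw [hunit, hpv]
      exact hϖ1.ne
    · intro a b hab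
      by_contra hcon
      rw [not_or] at hcon
      obtain ⟨ha, hb⟩ := hcon
      rw [hunit] at ha hb
      have ha1 : 𝒱.valuation (j a) < 1 := lt_of_le_of_ne (hvle a) ha
      have hb1 : 𝒱.valuation (j b) < 1 := lt_of_le_of_ne (hvle b) hb
      have ha2 := hDiv a ha1
      have hprod : 𝒱.valuation ϖ = 𝒱.valuation (j a) * 𝒱.valuation (j b) := by
        rw [← hpv, ← map_mul, ← map_mul]
        have h1 : (p : K') = (a : K') * (b : K') := congrArg Subtype.val hab
        rw [h1]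
      have hlt : 𝒱.valuation ϖ < 𝒱.valuation ϖ := by
        calc 𝒱.valuation ϖ = 𝒱.valuation (j a) * 𝒱.valuation (j b) := hprod
          _ ≤ 𝒱.valuation ϖ * 𝒱.valuation (j b) := mul_le_mul' ha2 le_rfl
          _ < 𝒱.valuation ϖ * 1 := mul_lt_mul_of_pos_left hb1 hϖpos
          _ = 𝒱.valuation ϖ := mul_one _
      exact lt_irrefl _ hlt
  · intro x hx0
    have hx0' : (x : K') ≠ 0 := fun h => hx0 (Subtype.ext h)
    obtain ⟨m, hm⟩ := hArch x hx0'
    clear hx0'
    induction m generalizing x with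
    | zero =>
      rw [pow_zero] at hm
      have h1 : 𝒱.valuation (j x) = 1 := le_antisymm (hvle x) hm
      exact ⟨0, by rw [pow_zero]; exact (associated_one_iff_isUnit.mpr ((hunit x).mpr h1)).symm⟩
    | succ m ih =>
      by_cases h1 : 𝒱.valuation (j x) = 1
      · exact ⟨0, by
          rw [pow_zero]; exact (associated_one_iff_isUnit.mpr ((hunit x).mpr h1)).symm⟩
      · have hlt : 𝒱.valuation (j x) < 1 := lt_of_le_of_ne (hvle x) h1
        obtain ⟨x', hx'⟩ := hdivide x hlt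
        have hx'0 : x' ≠ 0 := by
          rintro rfl
          exact hx0 (by rw [hx', mul_zero])
        have e : 𝒱.valuation (j x) = 𝒱.valuation ϖ * 𝒱.valuation (j x') := by
          rw [hx']
          show 𝒱.valuation (j ((p : K') * (x' : K'))) = _
          rw [map_mul, map_mul, hpv]
        have hm' : 𝒱.valuation ϖ ^ m ≤ 𝒱.valuation (j x') := by
          rw [e, pow_succ'] at hm
          exact le_of_mul_le_mul_left hm hϖpos
        obtain ⟨n, hn⟩ := @ih x' hx'0 hm'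
        exact ⟨n + 1, by rw [pow_succ', hx']; exact hn.mul_left p⟩

theorem isSepClosed_residue [IsAlgClosed F] {K' : Type u} [Field K'] (j : K' →+* F)
    (hcl : ∀ θ, IsEt 𝒱 j.fieldRange θ → ∃ x, j x = θ) :
    IsSepClosed (ResidueField ↥(𝒱.comap j)) := by
  classical
  apply IsSepClosed.of_exists_root
  intro p hpm hpirr hpsep
  obtain ⟨g₁, hg₁⟩ := Polynomial.map_surjective (IsLocalRing.residue ↥(𝒱.comap j))
    IsLocalRing.residue_surjective p
  obtain ⟨g, hgmap, hgdeg, hgm⟩ := Polynomial.lifts_and_natDegree_eq_and_monic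
    ((Polynomial.mem_lifts p).mpr ⟨g₁, hg₁⟩) hpm
  have hjV : (algebraMap ↥𝒱 F).comp (EtRam.inclOfComap 𝒱 j) = j.comp (𝒱.comap j).subtype :=
    RingHom.ext (fun x => rfl)
  have hgFm : (g.map (j.comp (𝒱.comap j).subtype)).Monic := hgm.map _
  have hdeg : (g.map (j.comp (𝒱.comap j).subtype)).degree ≠ 0 := by
    have hpos : 0 < (g.map (j.comp (𝒱.comap j).subtype)).natDegree := by
      rw [hgm.natDegree_map, hgdeg]
      exact Irreducible.natDegree_pos hpirr
    exact (Polynomial.natDegree_pos_iff_degree_pos.mp hpos).ne'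
  obtain ⟨θ, hθ⟩ := IsAlgClosed.exists_root _ hdeg
  have hθ0 : (g.map (j.comp (𝒱.comap j).subtype)).eval θ = 0 := hθ
  have hθ0' : Polynomial.eval₂ (j.comp (𝒱.comap j).subtype) θ g = 0 := by
    rw [← Polynomial.eval_map]
    exact hθ0
  have hθ𝒱 : θ ∈ 𝒱 := by
    have hint : IsIntegral ↥𝒱 θ := by
      refine ⟨g.map (EtRam.inclOfComap 𝒱 j), hgm.map _, ?_⟩
      rw [Polynomial.eval₂_map, hjV]
      exact hθ0'
    obtain ⟨y, hy⟩ := IsIntegrallyClosed.isIntegral_iff.mp hint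
    rw [← hy]
    exact y.2
  have hev_coe : ∀ P : (↥(𝒱.comap j))[X],
      ((Polynomial.eval₂ (EtRam.inclOfComap 𝒱 j) ⟨θ, hθ𝒱⟩ P : ↥𝒱) : F) =
        Polynomial.eval₂ (j.comp (𝒱.comap j).subtype) θ P := by
    intro P
    have h := Polynomial.hom_eval₂ P (EtRam.inclOfComap 𝒱 j) (algebraMap ↥𝒱 F) ⟨θ, hθ𝒱⟩
    rw [hjV] at h
    exact h
  have hder : 𝒱.valuation ((g.map (j.comp (𝒱.comap j).subtype)).derivative.eval θ) = 1 := by
    obtain ⟨a, b, hab⟩ := hpsep
    obtain ⟨a₁, ha₁⟩ := Polynomial.map_surjective (IsLocalRing.residue ↥(𝒱.comap j))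
      IsLocalRing.residue_surjective a
    obtain ⟨b₁, hb₁⟩ := Polynomial.map_surjective (IsLocalRing.residue ↥(𝒱.comap j))
      IsLocalRing.residue_surjective b
    have hker : a₁ * g + b₁ * derivative g - 1 ∈
        RingHom.ker (Polynomial.mapRingHom (IsLocalRing.residue ↥(𝒱.comap j))) := by
      rw [RingHom.mem_ker, Polynomial.coe_mapRingHom, Polynomial.map_sub, Polynomial.map_add,
        Polynomial.map_mul, Polynomial.map_mul, Polynomial.map_one, ← Polynomial.derivative_map,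
        ha₁, hb₁, hgmap, hab, sub_self]
    rw [Polynomial.ker_mapRingHom] at hker
    have hle : Ideal.map (Polynomial.C : ↥(𝒱.comap j) →+* (↥(𝒱.comap j))[X])
        (RingHom.ker (IsLocalRing.residue ↥(𝒱.comap j))) ≤
        Ideal.comap (Polynomial.eval₂RingHom (EtRam.inclOfComap 𝒱 j) ⟨θ, hθ𝒱⟩)
          (maximalIdeal ↥𝒱) := by
      rw [Ideal.map_le_iff_le_comap]
      intro x hx
      rw [Ideal.mem_comap, Ideal.mem_comap]
      show Polynomial.eval₂ (EtRam.inclOfComap 𝒱 j) ⟨θ, hθ𝒱⟩ (Polynomial.C x) ∈ _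
      rw [Polynomial.eval₂_C]
      have hxm : x ∈ maximalIdeal ↥(𝒱.comap j) :=
        (IsLocalRing.residue_eq_zero_iff x).mp (RingHom.mem_ker.mp hx)
      exact map_nonunit (EtRam.inclOfComap 𝒱 j) x hxm
    have hmem := hle hker
    rw [Ideal.mem_comap] at hmem
    have hg0 : Polynomial.eval₂RingHom (EtRam.inclOfComap 𝒱 j) ⟨θ, hθ𝒱⟩ g = 0 := by
      apply Subtype.ext
      show ((Polynomial.eval₂ (EtRam.inclOfComap 𝒱 j) ⟨θ, hθ𝒱⟩ g : ↥𝒱) : F) = 0
      rw [hev_coe]
      exact hθ0'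
    rw [map_sub, map_add, map_mul, map_mul, hg0, mul_zero, zero_add, map_one] at hmem
    have hu : IsUnit (Polynomial.eval₂RingHom (EtRam.inclOfComap 𝒱 j) ⟨θ, hθ𝒱⟩ b₁ *
        Polynomial.eval₂RingHom (EtRam.inclOfComap 𝒱 j) ⟨θ, hθ𝒱⟩ (derivative g)) := by
      by_contra hnu
      have h1 : Polynomial.eval₂RingHom (EtRam.inclOfComap 𝒱 j) ⟨θ, hθ𝒱⟩ b₁ *
          Polynomial.eval₂RingHom (EtRam.inclOfComap 𝒱 j) ⟨θ, hθ𝒱⟩ (derivative g) ∈
          maximalIdeal ↥𝒱 := (mem_maximalIdeal _).mpr hnu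
      have h2 := Ideal.sub_mem _ h1 hmem
      rw [sub_sub_cancel] at h2
      exact (Ideal.ne_top_iff_one _).mp (IsLocalRing.maximalIdeal.isMaximal ↥𝒱).ne_top h2
    have hu2 := isUnit_of_mul_isUnit_right hu
    have h3 := (ValuationSubring.valuation_eq_one_iff 𝒱 _).mp hu2
    have h4 : ((Polynomial.eval₂RingHom (EtRam.inclOfComap 𝒱 j) ⟨θ, hθ𝒱⟩ (derivative g) : ↥𝒱) :
        F) = (g.map (j.comp (𝒱.comap j).subtype)).derivative.eval θ := by
      show ((Polynomial.eval₂ (EtRam.inclOfComap 𝒱 j) ⟨θ, hθ𝒱⟩ (derivative g) : ↥𝒱) : F) = _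
      rw [hev_coe, Polynomial.derivative_map, Polynomial.eval_map]
    rw [h4] at h3
    exact h3
  have hIsEt : IsEt 𝒱 j.fieldRange θ := by
    refine ⟨g.map (j.comp (𝒱.comap j).subtype), hgFm, fun i => ?_, hθ0, hder⟩
    rw [Polynomial.coeff_map]
    exact ⟨RingHom.mem_fieldRange.mpr ⟨(g.coeff i : K'), rfl⟩,
      ValuationSubring.mem_comap.mp (g.coeff i).2⟩
  obtain ⟨x, hx⟩ := hcl θ hIsEt
  have hxV : x ∈ 𝒱.comap j := by
    rw [ValuationSubring.mem_comap, hx]
    exact hθ𝒱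
  refine ⟨IsLocalRing.residue _ ⟨x, hxV⟩, ?_⟩
  have hg0 : g.eval (⟨x, hxV⟩ : ↥(𝒱.comap j)) = 0 := by
    have hinj : Function.Injective (j.comp (𝒱.comap j).subtype) :=
      j.injective.comp Subtype.val_injective
    apply hinj
    rw [map_zero, ← Polynomial.eval₂_hom]
    show Polynomial.eval₂ (j.comp (𝒱.comap j).subtype) (j x) g = 0
    rw [hx]
    exact hθ0'
  rw [← hgmap, Polynomial.eval_map, Polynomial.eval₂_hom, hg0, map_zero]

theorem etClosed_sepClosure (K₀ : Type u) [Field K₀] [Algebra K₀ F] :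
    EtClosed 𝒱 (separableClosure K₀ F).toSubfield := by
  intro θ hθ
  obtain ⟨q, hqm, hqc, hqθ, hqd⟩ := hθ
  have hql : q ∈ Polynomial.lifts (algebraMap ↥(separableClosure K₀ F) F) := by
    rw [Polynomial.lifts_iff_coeff_lifts]
    intro n
    exact ⟨⟨q.coeff n, (hqc n).1⟩, rfl⟩
  obtain ⟨qS, hqSmap, -, -⟩ := Polynomial.lifts_and_natDegree_eq_and_monic hql hqm
  haveI := separableClosure.isSeparable K₀ F
  have hsep : IsSeparable ↥(separableClosure K₀ F) θ := by
    apply isSeparable_of_simple_root θ qS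
    · rw [Polynomial.aeval_def, ← Polynomial.eval_map, hqSmap]
      exact hqθ
    · rw [Polynomial.aeval_def, ← Polynomial.eval_map, ← Polynomial.derivative_map, hqSmap]
      intro h0
      rw [h0, map_zero] at hqd
      exact zero_ne_one hqd
  have h1 : IsSeparable K₀ θ := IsSeparable.of_algebra_isSeparable_of_isSeparable K₀ hsep
  exact mem_separableClosure_iff.mpr h1

end

theorem comap_eq_of_dominates {L' M : Type u} [Field L'] [Field M] (Bv : ValuationSubring L')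
    (j : L' →+* M) (W : ValuationSubring M)
    (h : EtRam.Dominates ↥Bv (j.comp (algebraMap ↥Bv L')) W) : W.comap j = Bv := by
  apply le_antisymm
  · intro x hx
    by_contra hxB
    have hx0 : x ≠ 0 := fun h0 => hxB (by rw [h0]; exact zero_mem Bv)
    have hinv : x⁻¹ ∈ Bv := (Bv.mem_or_inv_mem x).resolve_left hxB
    have hnu : (⟨x⁻¹, hinv⟩ : ↥Bv) ∈ maximalIdeal ↥Bv := by
      rw [Groth.Agent.Helper22.SolTower.mem_max_iff]
      right
      show (x⁻¹)⁻¹ ∉ Bv
      rw [inv_inv]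
      exact hxB
    have hlt' : W.valuation (j x⁻¹) < 1 := h.2 _ hnu
    rw [map_inv₀, map_inv₀] at hlt'
    have hle := (W.valuation_le_one_iff _).mpr (ValuationSubring.mem_comap.mp hx)
    have hpos : 0 < W.valuation (j x) := val_pos W ((_root_.map_ne_zero j).mpr hx0)
    rw [inv_lt_one₀ hpos] at hlt'
    exact absurd hle (not_le.mpr hlt')
  · intro x hx
    exact ValuationSubring.mem_comap.mpr (h.1 ⟨x, hx⟩)

end Groth.Agent.Helper22.EtCl
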