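import Mathlib
import Groth.Prelude.Def_EtRam
import Groth.Agent.Lib.Helper22.SolTower
import Groth.Agent.Lib.Helper22.WUGen
import Groth.Agent.Lib.Helper22.CompCtx
import Groth.Agent.Lib.Helper22.WUSep
import Groth.Agent.Lib.Helper22.EtU
import Groth.Agent.Lib.Helper22.EtCl
import Groth.Agent.Lib.Helper9.SepFS

/-!
# Descent of solutions along an étale-generated extension

Let `A ⊆ B` be an extension of discrete valuation rings with fraction fields `K ⊆ L`, and let
`K' ⊆ L'` be extensions of `K`, `L` with `K'/K` generated by étale elements (with respect to a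
valuation ring `Bv` of `L'` dominating `B`).  If the finite extension `K₁/K'` is a solution for
`Bv ∩ K' ⊆ Bv`, then a suitable finite (splitting field) extension `N/K` is a solution for `A ⊆ B`.
-/

set_option autoImplicit false
universe u

open Polynomial IsLocalRing

namespace Groth.Agent.Helper22.EtDesc

open Groth.Agent.Helper22.EtU Groth.Agent.Helper22.EtCl Groth.Agent.Helper22

/-- domination of `W ∩ L` by `W` -/
theorem dominates_comap_self {L M : Type u} [Field L] [Field M] (W : ValuationSubring M)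
    (j : L →+* M) : EtRam.Dominates ↥(W.comap j) (j.comp (algebraMap ↥(W.comap j) L)) W := by
  refine ⟨fun v => ValuationSubring.mem_comap.mp v.2, fun v hv => ?_⟩
  have h3 : EtRam.inclOfComap W j v ∈ maximalIdeal ↥W :=
    map_nonunit (EtRam.inclOfComap W j) v hv
  exact (ValuationSubring.valuation_lt_one_iff W _).mp h3

/-- the two natural algebra structures on residue fields give the same notion of geometric
reducedness -/
theorem geomRed_default {R S : Type u} [CommRing R] [IsLocalRing R] [CommRing S] [IsLocalRing S]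
    [Algebra R S] [IsLocalHom (algebraMap R S)]
    (h : @Algebra.IsGeometricallyReduced (ResidueField R) (ResidueField S) _ _
      (ResidueField.map (algebraMap R S)).toAlgebra) :
    Algebra.IsGeometricallyReduced (ResidueField R) (ResidueField S) := by
  have e : ∀ (P Q : Algebra (ResidueField R) (ResidueField S)), P = Q →
      @Algebra.IsGeometricallyReduced (ResidueField R) (ResidueField S) _ _ P →
      @Algebra.IsGeometricallyReduced (ResidueField R) (ResidueField S) _ _ Q := by
    intro P Q hPQ hP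
    subst hPQ
    exact hP
  refine e _ _ ?_ h
  apply Algebra.algebra_ext
  intro r
  obtain ⟨a, rfl⟩ := residue_surjective r
  rfl

/-- generation of an intermediate field as an algebra over itself -/
theorem adjoin_range_eq_top {F E R : Type*} [Field F] [Field E] [Algebra F E]
    (S : IntermediateField F E) (f : R → ↥S)
    (hS : ∀ x ∈ S, x ∈ Algebra.adjoin F (Set.range (fun r => ((f r : ↥S) : E)))) :
    Algebra.adjoin F (Set.range f) = ⊤ := by
  rw [eq_top_iff]
  intro x _
  have key : ∀ y ∈ Algebra.adjoin F (Set.range (fun r => ((f r : ↥S) : E))),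
      ∃ h : y ∈ S, (⟨y, h⟩ : ↥S) ∈ Algebra.adjoin F (Set.range f) := by
    intro y hy
    induction hy using Algebra.adjoin_induction with
    | mem y hy =>
      obtain ⟨r, rfl⟩ := hy
      exact ⟨(f r).2, Algebra.subset_adjoin ⟨r, rfl⟩⟩
    | algebraMap l =>
      exact ⟨S.algebraMap_mem l, (Algebra.adjoin F (Set.range f)).algebraMap_mem l⟩
    | add y z _ _ hy hz =>
      obtain ⟨h1, h2⟩ := hy
      obtain ⟨h3, h4⟩ := hz
      exact ⟨S.add_mem h1 h3, (Algebra.adjoin F (Set.range f)).add_mem h2 h4⟩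
    | mul y z _ _ hy hz =>
      obtain ⟨h1, h2⟩ := hy
      obtain ⟨h3, h4⟩ := hz
      exact ⟨S.mul_mem h1 h3, (Algebra.adjoin F (Set.range f)).mul_mem h2 h4⟩
  obtain ⟨h, hx⟩ := key (x : E) (hS _ x.2)
  exact hx

/-- weak unramifiedness over a subfield all of whose small elements are divisible by `π` -/
theorem Q_of_div {N' N Mt : Type u} [Field N'] [Field N] [Field Mt] (Wt : ValuationSubring Mt)
    (f' : N' →+* Mt) (jN : N →+* Mt) (E : Subfield Mt) (hE : ∀ x, f' x ∈ E) (πV : N)
    (hπ0 : jN πV ≠ 0) (hπ1 : Wt.valuation (jN πV) < 1) (hDiv : Div Wt (jN πV) E)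
    (hQ : SolTower.Q Wt f') : SolTower.Q Wt jN := by
  intro z hz hz0 hzinv
  obtain ⟨a', ha'W, ha'0, ha'inv, hdiv⟩ := hQ z hz hz0 hzinv
  have hy0 : f' a' ≠ 0 := (_root_.map_ne_zero f').mpr ha'0
  have hlt : Wt.valuation (f' a') < 1 := (SolTower.val_lt_one_iff Wt hy0).mpr ha'inv
  have hle : Wt.valuation (f' a') ≤ Wt.valuation (jN πV) := hDiv (f' a') (hE a') hlt
  have h1 : Wt.valuation (z / f' a') ≤ 1 := (Wt.valuation_le_one_iff _).mpr hdiv
  have h2 : Wt.valuation z = Wt.valuation (z / f' a') * Wt.valuation (f' a') := by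
    rw [← map_mul, div_mul_cancel₀ z hy0]
  have h3 : Wt.valuation z ≤ Wt.valuation (jN πV) := by
    rw [h2]
    calc Wt.valuation (z / f' a') * Wt.valuation (f' a')
        ≤ 1 * Wt.valuation (f' a') := mul_le_mul' h1 le_rfl
      _ = Wt.valuation (f' a') := one_mul _
      _ ≤ Wt.valuation (jN πV) := hle
  have hπN0 : πV ≠ 0 := fun h => hπ0 (by rw [h, map_zero])
  refine ⟨πV, (Wt.valuation_le_one_iff _).mp hπ1.le, hπN0,
    (SolTower.val_lt_one_iff Wt hπ0).mp hπ1, ?_⟩
  rw [← Wt.valuation_le_one_iff, map_div₀]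
  exact (div_le_one₀ (val_pos Wt hπ0)).mpr h3

/-- geometric reducedness of residue field extensions composes with separable algebraic ones -/
theorem geomRed_comp {R S T : Type u} [CommRing R] [IsLocalRing R] [CommRing S] [IsLocalRing S]
    [CommRing T] [IsLocalRing T] (i₁ : R →+* S) (i₂ : S →+* T) (i₃ : R →+* T)
    [IsLocalHom i₁] [IsLocalHom i₂] [IsLocalHom i₃] (hcomp : ∀ x, i₂ (i₁ x) = i₃ x)
    (hsep : ∀ s : S, @IsSeparable (ResidueField R) (ResidueField T) _ _
      (ResidueField.map i₃).toAlgebra (residue T (i₂ s)))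
    (hgr : @Algebra.IsGeometricallyReduced (ResidueField S) (ResidueField T) _ _
      (ResidueField.map i₂).toAlgebra) :
    @Algebra.IsGeometricallyReduced (ResidueField R) (ResidueField T) _ _
      (ResidueField.map i₃).toAlgebra := by
  letI a₁ : Algebra (ResidueField R) (ResidueField S) := (ResidueField.map i₁).toAlgebra
  letI a₂ : Algebra (ResidueField S) (ResidueField T) := (ResidueField.map i₂).toAlgebra
  letI a₃ : Algebra (ResidueField R) (ResidueField T) := (ResidueField.map i₃).toAlgebra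
  have hcomm : ∀ x : ResidueField R,
      ResidueField.map i₂ (ResidueField.map i₁ x) = ResidueField.map i₃ x := by
    intro x
    obtain ⟨a, rfl⟩ := residue_surjective x
    show residue T (i₂ (i₁ a)) = residue T (i₃ a)
    rw [hcomp]
  haveI tow : IsScalarTower (ResidueField R) (ResidueField S) (ResidueField T) :=
    IsScalarTower.of_algebraMap_eq (fun x => (hcomm x).symm)
  let g : ResidueField S →ₐ[ResidueField R] ResidueField T :=
    { toRingHom := ResidueField.map i₂
      commutes' := fun x => hcomm x }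
  haveI sep : Algebra.IsSeparable (ResidueField R) (ResidueField S) := by
    rw [Algebra.isSeparable_def]
    intro x
    obtain ⟨s, rfl⟩ := residue_surjective x
    exact isSeparable_of_algHom_apply g (residue S s) (hsep s)
  haveI fe1 : Algebra.FormallyEtale (ResidueField R) (ResidueField S) :=
    Algebra.FormallyEtale.of_isSeparable _ _
  haveI fs1 : Algebra.FormallySmooth (ResidueField R) (ResidueField S) := inferInstance
  haveI gr2 : Algebra.IsGeometricallyReduced (ResidueField S) (ResidueField T) := hgr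
  haveI fs2 : Algebra.FormallySmooth (ResidueField S) (ResidueField T) :=
    Groth.Agent.Helper9.SepFS.formallySmooth_iff_isGeometricallyReduced.mpr gr2
  haveI fs3 : Algebra.FormallySmooth (ResidueField R) (ResidueField T) :=
    Algebra.FormallySmooth.comp (ResidueField R) (ResidueField S) (ResidueField T)
  exact Groth.Agent.Helper9.SepFS.formallySmooth_iff_isGeometricallyReduced.mp fs3

/-- an embedding of `K₁` over `K'` into `Mt` with image inside the compositum of `N` and `K'` -/
theorem exists_sigma (K K' K₁ N Mt : Type u) [Field K] [Field K'] [Field K₁] [Field N] [Field Mt]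
    [Algebra K K'] [Algebra K' K₁] [Algebra K K₁] [IsScalarTower K K' K₁] [Algebra K N]
    {n : ℕ} (b : Module.Basis (Fin n) K' K₁)
    (hb : ∀ i, IsIntegral K (b i) ∧ ((minpoly K (b i)).map (algebraMap K N)).Splits)
    (jK' : K' →+* Mt) (jN : N →+* Mt)
    (hKN : ∀ x : K, jN (algebraMap K N x) = jK' (algebraMap K K' x)) :
    ∃ σ : K₁ →+* Mt, (∀ x : K', σ (algebraMap K' K₁ x) = jK' x) ∧
      ∀ x : K₁, σ x ∈ jN.fieldRange ⊔ jK'.fieldRange := by
  letI algK'Mt : Algebra K' Mt := jK'.toAlgebra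
  letI algNMt : Algebra N Mt := jN.toAlgebra
  letI algKMt : Algebra K Mt := (jK'.comp (algebraMap K K')).toAlgebra
  haveI tKK'Mt : IsScalarTower K K' Mt := IsScalarTower.of_algebraMap_eq (fun _ => rfl)
  haveI tKNMt : IsScalarTower K N Mt := IsScalarTower.of_algebraMap_eq (fun x => (hKN x).symm)
  have hsplit : ∀ i, ((minpoly K (b i)).map (algebraMap K Mt)).Splits := by
    intro i
    have h1 := ((hb i).2).map (algebraMap N Mt)
    rw [Polynomial.map_map, ← IsScalarTower.algebraMap_eq K N Mt] at h1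
    exact h1
  have hS : IntermediateField.adjoin K' (Set.range b) = ⊤ := by
    have key : ∀ x : K₁, x ∈ IntermediateField.adjoin K' (Set.range b) := by
      intro x
      have hx := b.mem_span x
      induction hx using Submodule.span_induction with
      | mem y hy => exact IntermediateField.subset_adjoin K' _ hy
      | zero => exact zero_mem _
      | add y z _ _ hy hz => exact add_mem hy hz
      | smul c y _ hy =>
        rw [Algebra.smul_def]
        exact mul_mem (IntermediateField.algebraMap_mem _ c) hy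
    rw [eq_top_iff]
    intro x _
    exact key x
  have hK : ∀ s ∈ Set.range b,
      IsIntegral K' s ∧ ((minpoly K' s).map (algebraMap K' Mt)).Splits := by
    rintro _ ⟨i, rfl⟩
    have hint : IsIntegral K' (b i) := (hb i).1.tower_top
    refine ⟨hint, ?_⟩
    have hdvd : minpoly K' (b i) ∣ (minpoly K (b i)).map (algebraMap K K') :=
      minpoly.dvd_map_of_isScalarTower K K' (b i)
    have hdvd2 := Polynomial.map_dvd (algebraMap K' Mt) hdvd
    rw [Polynomial.map_map, ← IsScalarTower.algebraMap_eq K K' Mt] at hdvd2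
    exact Polynomial.Splits.of_dvd (hsplit i)
      (Polynomial.map_ne_zero (minpoly.ne_zero (hb i).1)) hdvd2
  obtain ⟨σ⟩ := IntermediateField.nonempty_algHom_of_adjoin_splits hK hS
  have hroot : ∀ i, σ (b i) ∈ jN.fieldRange := by
    intro i
    have hmem : σ (b i) ∈ (minpoly K (b i)).rootSet Mt := by
      rw [Polynomial.mem_rootSet']
      refine ⟨Polynomial.map_ne_zero (minpoly.ne_zero (hb i).1), ?_⟩
      have h2 := Polynomial.aeval_algHom_apply (σ.restrictScalars K) (b i) (minpoly K (b i))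
      rw [minpoly.aeval, map_zero] at h2
      exact h2
    rw [← Polynomial.Splits.image_rootSet (hb i).2 (IsScalarTower.toAlgHom K N Mt)] at hmem
    obtain ⟨r, -, hr⟩ := hmem
    exact RingHom.mem_fieldRange.mpr ⟨r, hr⟩
  refine ⟨σ.toRingHom, fun x => σ.commutes x, ?_⟩
  intro x
  show σ x ∈ jN.fieldRange ⊔ jK'.fieldRange
  have hx := b.mem_span x
  induction hx using Submodule.span_induction with
  | mem y hy =>
    obtain ⟨i, rfl⟩ := hy
    exact (le_sup_left : jN.fieldRange ≤ jN.fieldRange ⊔ jK'.fieldRange) (hroot i)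
  | zero => rw [map_zero]; exact zero_mem _
  | add y z _ _ hy hz => rw [map_add]; exact add_mem hy hz
  | smul c y _ hy =>
    rw [Algebra.smul_def, map_mul]
    refine mul_mem ((le_sup_right : jK'.fieldRange ≤ jN.fieldRange ⊔ jK'.fieldRange) ?_) hy
    exact RingHom.mem_fieldRange.mpr ⟨c, (σ.commutes c).symm⟩

/-- **The local step**: in a big field `Mt` containing `L'` and `N` (generated by them), with a
valuation ring `Wt` dominating `Bv`, the extension `Wt ∩ N ⊆ Wt` is weakly unramified with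
geometrically reduced residue field extension. -/
theorem local_step (K K' L' K₁ N Mt : Type u) [Field K] [Field K'] [Field L'] [Field K₁] [Field N]
    [Field Mt] [Algebra K K'] [Algebra K' L'] [Algebra K' K₁] [FiniteDimensional K' K₁]
    [Algebra K N] [FiniteDimensional K N]
    (Bv : ValuationSubring L') [IsDiscreteValuationRing ↥Bv]
    [IsDiscreteValuationRing ↥(Bv.comap (algebraMap K' L'))]
    (hind : ∀ G : Subfield K', (algebraMap K K').fieldRange ≤ G →
      EtClosed (Bv.comap (algebraMap K' L')) G → G = ⊤)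
    (hsol : EtRam.IsSolution ↥Bv K' L' K₁)
    (j₀ : L' →+* Mt) (jN : N →+* Mt) (σ : K₁ →+* Mt)
    (hσ : ∀ x : K', σ (algebraMap K' K₁ x) = j₀ (algebraMap K' L' x))
    (hKN : ∀ x : K, jN (algebraMap K N x) = j₀ (algebraMap K' L' (algebraMap K K' x)))
    (Wt : ValuationSubring Mt)
    (hdom : EtRam.Dominates ↥Bv (j₀.comp (algebraMap ↥Bv L')) Wt)
    (hσmem : ∀ x : K₁, σ x ∈ jN.fieldRange ⊔ (j₀.comp (algebraMap K' L')).fieldRange)
    (hgen : ∀ T : Subring Mt, (∀ x, j₀ x ∈ T) → (∀ x, jN x ∈ T) → (∀ x ∈ T, x⁻¹ ∈ T) → T = ⊤)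
    [IsDiscreteValuationRing ↥(Wt.comap jN)] :
    letI : Algebra ↥(Wt.comap jN) ↥Wt := (EtRam.inclOfComap Wt jN).toAlgebra
    EtRam.IsWeaklyUnramified ↥(Wt.comap jN) ↥Wt ∧
      @Algebra.IsGeometricallyReduced (ResidueField ↥(Wt.comap jN)) (ResidueField ↥Wt) _ _
        (ResidueField.map (EtRam.inclOfComap Wt jN)).toAlgebra := by
  classical
  letI algL'Mt : Algebra L' Mt := j₀.toAlgebra
  letI algK₁Mt : Algebra K₁ Mt := σ.toAlgebra
  letI algK'Mt : Algebra K' Mt := (j₀.comp (algebraMap K' L')).toAlgebra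
  haveI tK'L'Mt : IsScalarTower K' L' Mt := IsScalarTower.of_algebraMap_eq (fun _ => rfl)
  haveI tK'K₁Mt : IsScalarTower K' K₁ Mt :=
    IsScalarTower.of_algebraMap_eq (fun x => (hσ x).symm)
  letI algNMt : Algebra N Mt := jN.toAlgebra
  letI algKMt : Algebra K Mt := (jN.comp (algebraMap K N)).toAlgebra
  haveI tKNMt : IsScalarTower K N Mt := IsScalarTower.of_algebraMap_eq (fun _ => rfl)
  letI algKK₁ : Algebra K K₁ := ((algebraMap K' K₁).comp (algebraMap K K')).toAlgebra
  haveI tKK₁Mt : IsScalarTower K K₁ Mt := IsScalarTower.of_algebraMap_eq (fun x => by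
    show jN (algebraMap K N x) = σ (algebraMap K' K₁ (algebraMap K K' x))
    rw [hKN, hσ])
  -- bases
  obtain ⟨b, -⟩ : ∃ b : Module.Basis (Fin (Module.finrank K' K₁)) K' K₁,
      b = Module.finBasis K' K₁ := ⟨_, rfl⟩
  obtain ⟨bN, -⟩ : ∃ bN : Module.Basis (Fin (Module.finrank K N)) K N,
      bN = Module.finBasis K N := ⟨_, rfl⟩
  -- the field `M₁ = L'·σ(K₁)`
  have hσint : ∀ x : K₁, IsIntegral L' (σ x) := by
    intro x
    have h1 : IsIntegral K' x := Algebra.IsIntegral.isIntegral x
    have h2 : IsIntegral K' (algebraMap K₁ Mt x) := h1.algebraMap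
    exact h2.tower_top
  obtain ⟨M₁, hbM₁, hM₁alg, fdM₁⟩ : ∃ M₁ : IntermediateField L' Mt, (∀ i, σ (b i) ∈ M₁) ∧
      M₁.toSubalgebra = Algebra.adjoin L' (Set.range fun i => σ (b i)) ∧
      FiniteDimensional L' ↥M₁ := by
    refine ⟨IntermediateField.adjoin L' (Set.range fun i => σ (b i)),
      fun i => IntermediateField.subset_adjoin L' _ ⟨i, rfl⟩, ?_, ?_⟩
    · exact IntermediateField.adjoin_toSubalgebra_of_isAlgebraic (by
        rintro _ ⟨i, rfl⟩
        exact (hσint (b i)).isAlgebraic)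
    · exact IntermediateField.finiteDimensional_adjoin (by
        rintro _ ⟨i, rfl⟩
        exact hσint (b i))
  have hσM₁ : ∀ x : K₁, σ x ∈ M₁ := by
    intro x
    have hx := b.mem_span x
    induction hx using Submodule.span_induction with
    | mem y hy =>
      obtain ⟨i, rfl⟩ := hy
      exact hbM₁ i
    | zero => rw [map_zero]; exact zero_mem _
    | add y z _ _ hy hz => rw [map_add]; exact add_mem hy hz
    | smul c y _ hy =>
      rw [Algebra.smul_def, map_mul, hσ]
      exact mul_mem (M₁.algebraMap_mem (algebraMap K' L' c)) hy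
  letI algK₁M₁ : Algebra K₁ ↥M₁ := (σ.codRestrict M₁ hσM₁).toAlgebra
  letI algK'M₁ : Algebra K' ↥M₁ := ((algebraMap L' ↥M₁).comp (algebraMap K' L')).toAlgebra
  haveI tK'L'M₁ : IsScalarTower K' L' ↥M₁ := IsScalarTower.of_algebraMap_eq (fun _ => rfl)
  haveI tK'K₁M₁ : IsScalarTower K' K₁ ↥M₁ :=
    IsScalarTower.of_algebraMap_eq (fun x => Subtype.ext (hσ x).symm)
  haveI tK₁M₁Mt : IsScalarTower K₁ ↥M₁ Mt := IsScalarTower.of_algebraMap_eq (fun _ => rfl)
  have hadj₁ : Algebra.adjoin L' (Set.range (algebraMap K₁ ↥M₁)) = ⊤ := by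
    apply adjoin_range_eq_top M₁ (algebraMap K₁ ↥M₁)
    intro x hx
    have h1 : x ∈ M₁.toSubalgebra := hx
    rw [hM₁alg] at h1
    refine Algebra.adjoin_mono ?_ h1
    rintro _ ⟨i, rfl⟩
    exact ⟨b i, rfl⟩
  -- the valuation ring `W₁ = Wt ∩ M₁`
  obtain ⟨W₁, hdom₁, hdomW₁⟩ : ∃ W₁ : ValuationSubring ↥M₁,
      EtRam.Dominates ↥Bv ((algebraMap L' ↥M₁).comp (algebraMap ↥Bv L')) W₁ ∧
      EtRam.Dominates ↥W₁ ((algebraMap ↥M₁ Mt).comp (algebraMap ↥W₁ ↥M₁)) Wt :=
    ⟨Wt.comap (algebraMap ↥M₁ Mt),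
      WUGen.dominates_comap (RingHom.id ↥Bv) ((algebraMap L' ↥M₁).comp (algebraMap ↥Bv L'))
        (algebraMap ↥M₁ Mt) (j₀.comp (algebraMap ↥Bv L')) (fun _ => rfl) Wt hdom,
      dominates_comap_self Wt (algebraMap ↥M₁ Mt)⟩
  haveI dvrW₁ : IsDiscreteValuationRing ↥W₁ := WUSep.isDVR_of_dominates ↥Bv L' ↥M₁ W₁ hdom₁
  have hdomV₁ : EtRam.Dominates ↥(Bv.comap (algebraMap K' L'))
      ((algebraMap K' K₁).comp (algebraMap ↥(Bv.comap (algebraMap K' L')) K'))
      (W₁.comap (algebraMap K₁ ↥M₁)) :=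
    WUGen.dominates_comap (EtRam.inclOfComap Bv (algebraMap K' L'))
      ((algebraMap K' K₁).comp (algebraMap ↥(Bv.comap (algebraMap K' L')) K'))
      (algebraMap K₁ ↥M₁) ((algebraMap L' ↥M₁).comp (algebraMap ↥Bv L'))
      (fun a => Subtype.ext (hσ (a : K'))) W₁ hdom₁
  haveI dvrV₁ : IsDiscreteValuationRing ↥(W₁.comap (algebraMap K₁ ↥M₁)) :=
    WUSep.isDVR_of_dominates ↥(Bv.comap (algebraMap K' L')) K' K₁ _ hdomV₁
  -- the solution property
  obtain ⟨hwu₁, hgr₁⟩ := hsol ↥M₁ hadj₁ W₁ hdom₁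
  letI algV₁W₁ : Algebra ↥(W₁.comap (algebraMap K₁ ↥M₁)) ↥W₁ :=
    (EtRam.inclOfComap W₁ (algebraMap K₁ ↥M₁)).toAlgebra
  haveI locV₁W₁ : IsLocalHom (algebraMap ↥(W₁.comap (algebraMap K₁ ↥M₁)) ↥W₁) :=
    EtRam.isLocalHom_inclOfComap W₁ (algebraMap K₁ ↥M₁)
  letI algV₁M₁ : Algebra ↥(W₁.comap (algebraMap K₁ ↥M₁)) ↥M₁ :=
    ((algebraMap K₁ ↥M₁).comp (algebraMap ↥(W₁.comap (algebraMap K₁ ↥M₁)) K₁)).toAlgebra
  haveI tV₁K₁M₁ : IsScalarTower ↥(W₁.comap (algebraMap K₁ ↥M₁)) K₁ ↥M₁ :=
    IsScalarTower.of_algebraMap_eq (fun _ => rfl)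
  haveI tV₁W₁M₁ : IsScalarTower ↥(W₁.comap (algebraMap K₁ ↥M₁)) ↥W₁ ↥M₁ :=
    IsScalarTower.of_algebraMap_eq (fun _ => rfl)
  haveI grd : Algebra.IsGeometricallyReduced (ResidueField ↥(W₁.comap (algebraMap K₁ ↥M₁)))
      (ResidueField ↥W₁) := geomRed_default hgr₁
  -- the field `N' = K₁·N`
  have hσE : ∀ x : K₁, algebraMap K₁ Mt x ∈
      jN.fieldRange ⊔ (j₀.comp (algebraMap K' L')).fieldRange := hσmem
  obtain ⟨N', hbN', hN'E, fdN'⟩ : ∃ N' : IntermediateField K₁ Mt, (∀ i, jN (bN i) ∈ N') ∧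
      (∀ x ∈ N', x ∈ jN.fieldRange ⊔ (j₀.comp (algebraMap K' L')).fieldRange) ∧
      FiniteDimensional K₁ ↥N' := by
    refine ⟨IntermediateField.adjoin K₁ (Set.range fun i => jN (bN i)),
      fun i => IntermediateField.subset_adjoin K₁ _ ⟨i, rfl⟩, ?_, ?_⟩
    · have hle : IntermediateField.adjoin K₁ (Set.range fun i => jN (bN i)) ≤
          Subfield.toIntermediateField
            (jN.fieldRange ⊔ (j₀.comp (algebraMap K' L')).fieldRange) hσE := by
        rw [IntermediateField.adjoin_le_iff]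
        rintro _ ⟨i, rfl⟩
        exact (le_sup_left : jN.fieldRange ≤
          jN.fieldRange ⊔ (j₀.comp (algebraMap K' L')).fieldRange)
          (RingHom.mem_fieldRange.mpr ⟨bN i, rfl⟩)
      intro x hx
      exact hle hx
    · exact IntermediateField.finiteDimensional_adjoin (by
        rintro _ ⟨i, rfl⟩
        have h1 : IsIntegral K (bN i) := Algebra.IsIntegral.isIntegral _
        have h2 : IsIntegral K (algebraMap N Mt (bN i)) := h1.algebraMap
        exact h2.tower_top)
  have hjNN' : ∀ x : N, jN x ∈ N' := by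
    intro x
    have hx := bN.mem_span x
    induction hx using Submodule.span_induction with
    | mem y hy =>
      obtain ⟨i, rfl⟩ := hy
      exact hbN' i
    | zero => rw [map_zero]; exact zero_mem _
    | add y z _ _ hy hz => rw [map_add]; exact add_mem hy hz
    | smul c y _ hy =>
      rw [Algebra.smul_def, map_mul]
      refine mul_mem ?_ hy
      have h1 : jN (algebraMap K N c) =
          algebraMap K₁ Mt (algebraMap K' K₁ (algebraMap K K' c)) := by
        rw [hKN]
        exact (hσ _).symm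
      rw [h1]
      exact N'.algebraMap_mem _
  -- `Mt` is generated by `M₁` and `N'`
  have hTint : ∀ x ∈ Algebra.adjoin ↥M₁ (Set.range (algebraMap ↥N' Mt)), IsIntegral ↥M₁ x := by
    have hle : Algebra.adjoin ↥M₁ (Set.range (algebraMap ↥N' Mt)) ≤ integralClosure ↥M₁ Mt :=
      Algebra.adjoin_le (by
        rintro _ ⟨y, rfl⟩
        have h1 : IsIntegral K₁ y := Algebra.IsIntegral.isIntegral y
        have h2 : IsIntegral K₁ (algebraMap ↥N' Mt y) := h1.algebraMap
        exact h2.tower_top)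
    exact fun x hx => hle hx
  have hadj₂ : Algebra.adjoin ↥M₁ (Set.range (algebraMap ↥N' Mt)) = ⊤ := by
    have htop := hgen (Algebra.adjoin ↥M₁ (Set.range (algebraMap ↥N' Mt))).toSubring
      (fun x => (Algebra.adjoin ↥M₁ (Set.range (algebraMap ↥N' Mt))).algebraMap_mem
        (algebraMap L' ↥M₁ x))
      (fun x => Algebra.subset_adjoin ⟨⟨jN x, hjNN' x⟩, rfl⟩)
      (fun x hx => Subalgebra.inv_mem_of_algebraic
        (Algebra.adjoin ↥M₁ (Set.range (algebraMap ↥N' Mt))) (x := ⟨x, hx⟩)
        (hTint x hx).isAlgebraic)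
    apply eq_top_iff.mpr
    intro x _
    have h3 : x ∈ (Algebra.adjoin ↥M₁ (Set.range (algebraMap ↥N' Mt))).toSubring := by
      rw [htop]; exact Subring.mem_top x
    exact h3
  -- apply the unramified base change theorem to `V₁ ⊆ W₁` and `N'/K₁`
  obtain ⟨hwu', hgr'⟩ := WUSep.sol_core ↥(W₁.comap (algebraMap K₁ ↥M₁)) ↥W₁ K₁ ↥M₁ ↥N' Mt
    hwu₁ hadj₂ Wt hdomW₁
  -- goodness of `N·K'`
  obtain ⟨πV, hπV⟩ := IsDiscreteValuationRing.exists_irreducible ↥(Wt.comap jN)
  letI algκ : Algebra (ResidueField ↥(Wt.comap jN)) (ResidueField ↥Wt) :=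
    (ResidueField.map (EtRam.inclOfComap Wt jN)).toAlgebra
  have hdomV : EtRam.Dominates ↥(Wt.comap jN) (jN.comp (algebraMap ↥(Wt.comap jN) N)) Wt :=
    dominates_comap_self Wt jN
  have hbase := good_base Wt ↥(Wt.comap jN) N jN hdomV πV hπV (fun a => rfl)
  have hπmax : πV ∈ maximalIdeal ↥(Wt.comap jN) := (mem_maximalIdeal _).mpr hπV.not_isUnit
  have hϖ1 : Wt.valuation (jN (algebraMap ↥(Wt.comap jN) N πV)) < 1 := hdomV.2 πV hπmax
  have hϖ0 : jN (algebraMap ↥(Wt.comap jN) N πV) ≠ 0 := by
    intro h0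
    have h1 : algebraMap ↥(Wt.comap jN) N πV = 0 := (_root_.map_eq_zero jN).mp h0
    exact hπV.ne_zero (Subtype.ext h1)
  have hcomapBv : Wt.comap j₀ = Bv := comap_eq_of_dominates Bv j₀ Wt hdom
  have hj : Wt.comap (j₀.comp (algebraMap K' L')) = Bv.comap (algebraMap K' L') := by
    rw [← hcomapBv]
    rfl
  have hG₀E : ((algebraMap K K').fieldRange).map (j₀.comp (algebraMap K' L')) ≤
      jN.fieldRange := by
    intro x hx
    obtain ⟨y, hy, rfl⟩ := Subfield.mem_map.mp hx
    obtain ⟨c, rfl⟩ := RingHom.mem_fieldRange.mp hy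
    exact RingHom.mem_fieldRange.mpr ⟨algebraMap K N c, hKN c⟩
  obtain ⟨hDiv, -, hRsep⟩ := good_sup_range Wt _ (ResidueField ↥(Wt.comap jN))
    (Bv.comap (algebraMap K' L')) (j₀.comp (algebraMap K' L')) hj (algebraMap K K').fieldRange
    hind hϖ0 hϖ1 jN.fieldRange (RingHom.mem_fieldRange.mpr ⟨_, rfl⟩) hbase hG₀E
  refine ⟨?_, ?_⟩
  · -- weakly unramified
    have hwu'' : (maximalIdeal ↥(Wt.comap (algebraMap ↥N' Mt))).map
        (EtRam.inclOfComap Wt (algebraMap ↥N' Mt)) = maximalIdeal ↥Wt := hwu'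
    have hQ' : SolTower.Q Wt (algebraMap ↥N' Mt) :=
      (SolTower.wu_iff Wt (algebraMap ↥N' Mt)).mp hwu''
    have hQ : SolTower.Q Wt jN :=
      Q_of_div Wt (algebraMap ↥N' Mt) jN _ (fun x => hN'E _ x.2)
        (algebraMap ↥(Wt.comap jN) N πV) hϖ0 hϖ1 hDiv hQ'
    exact (SolTower.wu_iff Wt jN).mpr hQ
  · -- geometrically reduced residue field extension
    obtain ⟨i₁, hi₁⟩ : ∃ i₁ : ↥(Wt.comap jN) →+* ↥(Wt.comap (algebraMap ↥N' Mt)),
        ∀ x, ((i₁ x : ↥N') : Mt) = jN (x : N) :=
      ⟨RingHom.codRestrict ((RingHom.codRestrict jN N' hjNN').comp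
          (algebraMap ↥(Wt.comap jN) N)) (Wt.comap (algebraMap ↥N' Mt))
          (fun x => ValuationSubring.mem_comap.mpr (ValuationSubring.mem_comap.mp x.2)),
        fun x => rfl⟩
    have hcomp : ∀ x, EtRam.inclOfComap Wt (algebraMap ↥N' Mt) (i₁ x) =
        EtRam.inclOfComap Wt jN x := fun x => Subtype.ext (hi₁ x)
    haveI loci₁ : IsLocalHom i₁ := by
      haveI : IsLocalHom ((EtRam.inclOfComap Wt (algebraMap ↥N' Mt)).comp i₁) := by
        have e : (EtRam.inclOfComap Wt (algebraMap ↥N' Mt)).comp i₁ =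
            EtRam.inclOfComap Wt jN := RingHom.ext hcomp
        rw [e]
        infer_instance
      exact isLocalHom_of_comp i₁ (EtRam.inclOfComap Wt (algebraMap ↥N' Mt))
    exact geomRed_comp i₁ (EtRam.inclOfComap Wt (algebraMap ↥N' Mt))
      (EtRam.inclOfComap Wt jN) hcomp
      (fun s => mem_separableClosure_iff.mp
        (hRsep ((s : ↥N') : Mt) (ValuationSubring.mem_comap.mp s.2) (hN'E _ (s : ↥N').2)))
      hgr'

/-- descent of the solution property to a field `N` splitting the minimal polynomials of a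
basis of `K₁/K'` -/
theorem descent_core (A B K L : Type u) [CommRing A] [IsDomain A] [IsDiscreteValuationRing A]
    [CommRing B] [IsDomain B] [IsDiscreteValuationRing B] [Algebra A B]
    [IsLocalHom (algebraMap A B)]
    [Field K] [Field L] [Algebra A K] [IsFractionRing A K] [Algebra B L] [IsFractionRing B L]
    [Algebra K L] [Algebra A L] [IsScalarTower A K L] [IsScalarTower A B L]
    (K' L' : Type u) [Field K'] [Field L'] [Algebra K K'] [Algebra L L'] [Algebra K' L']
    (hcompat : ∀ x : K, algebraMap L L' (algebraMap K L x) = algebraMap K' L' (algebraMap K K' x))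
    (Bv : ValuationSubring L') [IsDiscreteValuationRing ↥Bv]
    (hdomB : EtRam.Dominates B ((algebraMap L L').comp (algebraMap B L)) Bv)
    [IsDiscreteValuationRing ↥(Bv.comap (algebraMap K' L'))]
    (hind : ∀ G : Subfield K', (algebraMap K K').fieldRange ≤ G →
      EtClosed (Bv.comap (algebraMap K' L')) G → G = ⊤)
    (K₁ : Type u) [Field K₁] [Algebra K' K₁] [FiniteDimensional K' K₁]
    (hsol : EtRam.IsSolution ↥Bv K' L' K₁)
    [Algebra K K₁] [IsScalarTower K K' K₁]
    (N : Type u) [Field N] [Algebra K N] [FiniteDimensional K N]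
    {n : ℕ} (b : Module.Basis (Fin n) K' K₁)
    (hb : ∀ i, IsIntegral K (b i) ∧ ((minpoly K (b i)).map (algebraMap K N)).Splits) :
    EtRam.IsSolution B K L N := by
  intro M _ _ _ _ _ _ hadj W hW
  letI algBBv : Algebra B ↥Bv :=
    (RingHom.codRestrict ((algebraMap L L').comp (algebraMap B L)) Bv hdomB.1).toAlgebra
  haveI locBBv : IsLocalHom (algebraMap B ↥Bv) := WUGen.isLocalHom_of_dominates _ _ hdomB
  letI algBL' : Algebra B L' := ((algebraMap L L').comp (algebraMap B L)).toAlgebra
  haveI tBBvL' : IsScalarTower B ↥Bv L' := IsScalarTower.of_algebraMap_eq (fun _ => rfl)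
  haveI tBLL' : IsScalarTower B L L' := IsScalarTower.of_algebraMap_eq (fun _ => rfl)
  have hinjBBv : Function.Injective (algebraMap B ↥Bv) := by
    intro x y hxy
    have h1 : algebraMap L L' (algebraMap B L x) = algebraMap L L' (algebraMap B L y) :=
      congrArg Subtype.val hxy
    exact IsFractionRing.injective B L ((algebraMap L L').injective h1)
  obtain ⟨Mt, _, j₀, j', Wt, hcomm, hcomapW, hdomBv, hgen⟩ :=
    SolTower.exists_compositum B ↥Bv L L' M hinjBBv W hW
  subst hcomapW
  have hcommx : ∀ l : L, j₀ (algebraMap L L' l) = j' (algebraMap L M l) :=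
    fun l => RingHom.congr_fun hcomm l
  have hKN : ∀ x : K, (j'.comp (algebraMap N M)) (algebraMap K N x) =
      j₀ (algebraMap K' L' (algebraMap K K' x)) := by
    intro x
    show j' (algebraMap N M (algebraMap K N x)) = _
    rw [← IsScalarTower.algebraMap_apply K N M, IsScalarTower.algebraMap_apply K L M,
      ← hcommx, hcompat]
  have hgen' : ∀ T : Subring Mt, (∀ x, j₀ x ∈ T) → (∀ x, (j'.comp (algebraMap N M)) x ∈ T) →
      (∀ x ∈ T, x⁻¹ ∈ T) → T = ⊤ := by
    intro T h1 h2 h3
    refine hgen T h1 ?_ h3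
    have key : ∀ x ∈ Algebra.adjoin L (Set.range (algebraMap N M)), j' x ∈ T := by
      intro x hx
      induction hx using Algebra.adjoin_induction with
      | mem x hx =>
        obtain ⟨y, rfl⟩ := hx
        exact h2 y
      | algebraMap l =>
        rw [← hcommx]
        exact h1 _
      | add x y _ _ hx hy => rw [map_add]; exact T.add_mem hx hy
      | mul x y _ _ hx hy => rw [map_mul]; exact T.mul_mem hx hy
    intro x
    exact key x (by rw [hadj]; exact Algebra.mem_top)
  obtain ⟨σ, hσ, hσmem⟩ := exists_sigma K K' K₁ N Mt b hb (j₀.comp (algebraMap K' L'))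
    (j'.comp (algebraMap N M)) hKN
  have hdomV : EtRam.Dominates A ((algebraMap K N).comp (algebraMap A K))
      (Wt.comap (j'.comp (algebraMap N M))) :=
    CompCtx.dominates_bottom A B K L N M (Wt.comap j') hW
  haveI dvrV : IsDiscreteValuationRing ↥(Wt.comap (j'.comp (algebraMap N M))) :=
    WUSep.isDVR_of_dominates A K N _ hdomV
  have hloc := local_step K K' L' K₁ N Mt Bv hind hsol j₀ (j'.comp (algebraMap N M)) σ hσ hKN Wt
    hdomBv hσmem hgen'
  exact SolTower.transfer_sol (algebraMap N M) j' Wt hloc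

/-- **Descent**: a solution for `Bv ∩ K' ⊆ Bv` yields a solution for `A ⊆ B`. -/
theorem descent (A B K L : Type u) [CommRing A] [IsDomain A] [IsDiscreteValuationRing A]
    [CommRing B] [IsDomain B] [IsDiscreteValuationRing B] [Algebra A B]
    [IsLocalHom (algebraMap A B)]
    [Field K] [Field L] [Algebra A K] [IsFractionRing A K] [Algebra B L] [IsFractionRing B L]
    [Algebra K L] [Algebra A L] [IsScalarTower A K L] [IsScalarTower A B L]
    (K' L' : Type u) [Field K'] [Field L'] [Algebra K K'] [Algebra L L'] [Algebra K' L']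
    (hcompat : ∀ x : K, algebraMap L L' (algebraMap K L x) = algebraMap K' L' (algebraMap K K' x))
    [Algebra.IsSeparable K K']
    (Bv : ValuationSubring L') [IsDiscreteValuationRing ↥Bv]
    (hdomB : EtRam.Dominates B ((algebraMap L L').comp (algebraMap B L)) Bv)
    (Av : ValuationSubring K') (hAv : Bv.comap (algebraMap K' L') = Av)
    [IsDiscreteValuationRing ↥Av]
    (hind : ∀ G : Subfield K', (algebraMap K K').fieldRange ≤ G → EtClosed Av G → G = ⊤)
    (K₁ : Type u) [Field K₁] [Algebra K' K₁] [FiniteDimensional K' K₁]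
    (hsol : EtRam.IsSolution ↥Bv K' L' K₁) :
    ∃ (N : Type u) (_ : Field N) (_ : Algebra K N), FiniteDimensional K N ∧
      EtRam.IsSolution B K L N ∧ (Algebra.IsSeparable K' K₁ → Algebra.IsSeparable K N) := by
  classical
  subst hAv
  letI algKK₁ : Algebra K K₁ := ((algebraMap K' K₁).comp (algebraMap K K')).toAlgebra
  haveI tKK'K₁ : IsScalarTower K K' K₁ := IsScalarTower.of_algebraMap_eq (fun _ => rfl)
  haveI intKK₁ : Algebra.IsIntegral K K₁ := Algebra.IsIntegral.trans K'
  obtain ⟨b, -⟩ : ∃ b : Module.Basis (Fin (Module.finrank K' K₁)) K' K₁,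
      b = Module.finBasis K' K₁ := ⟨_, rfl⟩
  obtain ⟨p, hp⟩ : ∃ p : K[X], p = ∏ i, minpoly K (b i) := ⟨_, rfl⟩
  have hbint : ∀ i, IsIntegral K (b i) := fun i => Algebra.IsIntegral.isIntegral _
  have hp0 : p ≠ 0 := by
    rw [hp]
    exact Finset.prod_ne_zero_iff.mpr (fun i _ => minpoly.ne_zero (hbint i))
  have hbsplit : ∀ i, ((minpoly K (b i)).map (algebraMap K p.SplittingField)).Splits := by
    intro i
    refine Polynomial.Splits.of_dvd (Polynomial.SplittingField.splits p)
      (Polynomial.map_ne_zero hp0) ?_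
    apply Polynomial.map_dvd
    rw [hp]
    exact Finset.dvd_prod_of_mem _ (Finset.mem_univ i)
  refine ⟨p.SplittingField, inferInstance, inferInstance, inferInstance, ?_, ?_⟩
  · exact descent_core A B K L K' L' hcompat Bv hdomB hind K₁ hsol p.SplittingField b
      (fun i => ⟨hbint i, hbsplit i⟩)
  · intro hsepK₁
    haveI := hsepK₁
    haveI sepKK₁ : Algebra.IsSeparable K K₁ := Algebra.IsSeparable.trans K K' K₁
    rw [← separableClosure.eq_top_iff, eq_top_iff]
    intro x _
    have hx : x ∈ Algebra.adjoin K (p.rootSet p.SplittingField) := by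
      rw [Polynomial.IsSplittingField.adjoin_rootSet p.SplittingField p]
      exact Algebra.mem_top
    have hle : Algebra.adjoin K (p.rootSet p.SplittingField) ≤
        (separableClosure K p.SplittingField).toSubalgebra := by
      apply Algebra.adjoin_le
      intro y hy
      have hy0 : Polynomial.aeval y p = 0 := Polynomial.aeval_eq_zero_of_mem_rootSet hy
      have hy1 : Polynomial.aeval y (∏ i, minpoly K (b i)) = 0 :=
        (congrArg (Polynomial.aeval y) hp).symm.trans hy0
      rw [map_prod, Finset.prod_eq_zero_iff] at hy1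
      obtain ⟨i, -, hi⟩ := hy1
      have hdvd : minpoly K y ∣ minpoly K (b i) := minpoly.dvd K y hi
      have hsepi : (minpoly K (b i)).Separable := Algebra.IsSeparable.isSeparable K (b i)
      exact mem_separableClosure_iff.mpr (hsepi.of_dvd hdvd)
    exact hle hx

end Groth.Agent.Helper22.EtDesc
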