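import Mathlib
import Groth.Prelude.Def_EtRam
import Groth.Agent.Lib.Helper22.SolTower
import Groth.Agent.Lib.Helper22.WUGen
import Groth.Agent.Lib.Helper22.TotRam
import Groth.Agent.Lib.Helper22.EtU
import Groth.Agent.Lib.Helper22.EtCl
import Groth.Agent.Lib.Helper22.EtDesc

/-!
# Strictly henselian extensions reflecting solutions

For an extension `A ⊆ B` of discrete valuation rings we construct, inside an algebraic closure `Ω`
of the fraction field `L` of `B` equipped with a valuation ring `𝒲` dominating `B`, the "étale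
closures" `K' ⊆ L'` of `K ⊆ L`, and `A' = 𝒲 ∩ K'`, `B' = 𝒲 ∩ L'`.
-/

set_option autoImplicit false
universe u

open Polynomial IsLocalRing

namespace Groth.Agent.Helper22.EtSH

open Groth.Agent.Helper22.EtU Groth.Agent.Helper22.EtCl Groth.Agent.Helper22.EtDesc
open Groth.Agent.Helper22

theorem main_core (A B K L : Type u) [CommRing A] [IsDomain A]
    [IsDiscreteValuationRing A] [CommRing B] [IsDomain B] [IsDiscreteValuationRing B] [Algebra A B]
    (hinj : Function.Injective (algebraMap A B)) [IsLocalHom (algebraMap A B)]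
    [Field K] [Field L] [Algebra A K] [IsFractionRing A K] [Algebra B L] [IsFractionRing B L]
    [Algebra K L] [Algebra A L] [IsScalarTower A K L] [IsScalarTower A B L]
    (Ω : Type u) [Field Ω] [Algebra L Ω] [IsAlgClosed Ω] :
    ∃ (A' B' K' L' : Type u) (_ : CommRing A') (_ : IsDomain A') (_ : IsDiscreteValuationRing A')
      (_ : CommRing B') (_ : IsDomain B') (_ : IsDiscreteValuationRing B') (_ : Field K') (_ : Field L')
      (_ : Algebra A A') (_ : Algebra B B') (_ : Algebra A' B') (_ : Algebra A B')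
      (_ : IsScalarTower A B B') (_ : IsScalarTower A A' B')
      (_ : Algebra A' K') (_ : IsFractionRing A' K') (_ : Algebra B' L') (_ : IsFractionRing B' L')
      (_ : Algebra K' L') (_ : Algebra A' L') (_ : IsScalarTower A' K' L') (_ : IsScalarTower A' B' L')
      (_ : Algebra K K') (_ : Algebra A K') (_ : IsScalarTower A K K') (_ : IsScalarTower A A' K')
      (_ : Algebra L L') (_ : Algebra B L') (_ : IsScalarTower B L L') (_ : IsScalarTower B B' L')
      (hA : IsLocalHom (algebraMap A A')) (hB : IsLocalHom (algebraMap B B')) (_ : IsLocalHom (algebraMap A' B')),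
      Function.Injective (algebraMap A A') ∧ Function.Injective (algebraMap B B') ∧
      Function.Injective (algebraMap A' B') ∧
      Algebra.IsSeparable K K' ∧ Algebra.IsSeparable L L' ∧
      (letI := (IsLocalRing.ResidueField.map (algebraMap A A')).toAlgebra
       IsSepClosure (IsLocalRing.ResidueField A) (IsLocalRing.ResidueField A')) ∧
      (letI := (IsLocalRing.ResidueField.map (algebraMap B B')).toAlgebra
       IsSepClosure (IsLocalRing.ResidueField B) (IsLocalRing.ResidueField B')) ∧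
      ((∃ (K₁ : Type u) (_ : Field K₁) (_ : Algebra K' K₁), FiniteDimensional K' K₁ ∧ EtRam.IsSolution B' K' L' K₁) →
        ∃ (K₁ : Type u) (_ : Field K₁) (_ : Algebra K K₁), FiniteDimensional K K₁ ∧ EtRam.IsSolution B K L K₁) ∧
      ((∃ (K₁ : Type u) (_ : Field K₁) (_ : Algebra K' K₁), FiniteDimensional K' K₁ ∧ Algebra.IsSeparable K' K₁ ∧
          EtRam.IsSolution B' K' L' K₁) →
        ∃ (K₁ : Type u) (_ : Field K₁) (_ : Algebra K K₁), FiniteDimensional K K₁ ∧ Algebra.IsSeparable K K₁ ∧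
          EtRam.IsSolution B K L K₁) := by
  classical
  letI algKΩ : Algebra K Ω := ((algebraMap L Ω).comp (algebraMap K L)).toAlgebra
  haveI tKLΩ : IsScalarTower K L Ω := IsScalarTower.of_algebraMap_eq (fun _ => rfl)
  obtain ⟨𝒲, h𝒲B⟩ := TotRam.exists_dominating ((algebraMap L Ω).comp (algebraMap B L))
  have hAB : ∀ a : A, algebraMap K Ω (algebraMap A K a) =
      algebraMap L Ω (algebraMap B L (algebraMap A B a)) := by
    intro a
    show algebraMap L Ω (algebraMap K L (algebraMap A K a)) = _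
    rw [← IsScalarTower.algebraMap_apply A K L, IsScalarTower.algebraMap_apply A B L]
  have h𝒲A : EtRam.Dominates A ((algebraMap K Ω).comp (algebraMap A K)) 𝒲 := by
    refine ⟨fun a => ?_, fun a ha => ?_⟩
    · show algebraMap K Ω (algebraMap A K a) ∈ 𝒲
      rw [hAB]
      exact h𝒲B.1 _
    · show 𝒲.valuation (algebraMap K Ω (algebraMap A K a)) < 1
      rw [hAB]
      exact h𝒲B.2 _ (map_nonunit (algebraMap A B) a ha)
  obtain ⟨πA, hπA⟩ := IsDiscreteValuationRing.exists_irreducible A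
  obtain ⟨πB, hπB⟩ := IsDiscreteValuationRing.exists_irreducible B
  haveI locA𝒲 : IsLocalHom
      (RingHom.codRestrict ((algebraMap K Ω).comp (algebraMap A K)) 𝒲 h𝒲A.1) :=
    WUGen.isLocalHom_of_dominates _ _ h𝒲A
  haveI locB𝒲 : IsLocalHom
      (RingHom.codRestrict ((algebraMap L Ω).comp (algebraMap B L)) 𝒲 h𝒲B.1) :=
    WUGen.isLocalHom_of_dominates _ _ h𝒲B
  letI algκA : Algebra (ResidueField A) (ResidueField ↥𝒲) :=
    (ResidueField.map
      (RingHom.codRestrict ((algebraMap K Ω).comp (algebraMap A K)) 𝒲 h𝒲A.1)).toAlgebra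
  letI algκB : Algebra (ResidueField B) (ResidueField ↥𝒲) :=
    (ResidueField.map
      (RingHom.codRestrict ((algebraMap L Ω).comp (algebraMap B L)) 𝒲 h𝒲B.1)).toAlgebra
  have hbaseA := good_base 𝒲 A K (algebraMap K Ω) h𝒲A πA hπA (fun a => rfl)
  have hbaseB := good_base 𝒲 B L (algebraMap L Ω) h𝒲B πB hπB (fun a => rfl)
  have hϖA1 : 𝒲.valuation (algebraMap K Ω (algebraMap A K πA)) < 1 :=
    h𝒲A.2 πA ((mem_maximalIdeal _).mpr hπA.not_isUnit)
  have hϖB1 : 𝒲.valuation (algebraMap L Ω (algebraMap B L πB)) < 1 :=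
    h𝒲B.2 πB ((mem_maximalIdeal _).mpr hπB.not_isUnit)
  have hϖA0 : algebraMap K Ω (algebraMap A K πA) ≠ 0 := by
    intro h0
    have h1 : algebraMap A K πA = 0 := (_root_.map_eq_zero (algebraMap K Ω)).mp h0
    exact hπA.ne_zero ((_root_.map_eq_zero_iff _ (IsFractionRing.injective A K)).mp h1)
  have hϖB0 : algebraMap L Ω (algebraMap B L πB) ≠ 0 := by
    intro h0
    have h1 : algebraMap B L πB = 0 := (_root_.map_eq_zero (algebraMap L Ω)).mp h0
    exact hπB.ne_zero ((_root_.map_eq_zero_iff _ (IsFractionRing.injective B L)).mp h1)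
  -- the étale closures
  obtain ⟨Ket, hK₀Ket, hclK, hminK, hgoodK, hindK⟩ : ∃ Ket : Subfield Ω,
      (algebraMap K Ω).fieldRange ≤ Ket ∧ EtClosed 𝒲 Ket ∧
      (∀ G : Subfield Ω, (algebraMap K Ω).fieldRange ≤ G → EtClosed 𝒲 G → Ket ≤ G) ∧
      Good 𝒲 (algebraMap K Ω (algebraMap A K πA)) (ResidueField A) Ket ∧
      (∀ G : Subfield ↥Ket, (∀ x : ↥Ket, (x : Ω) ∈ (algebraMap K Ω).fieldRange → x ∈ G) →
        EtClosed (𝒲.comap Ket.subtype) G → G = ⊤) :=
    ⟨etClosure 𝒲 (algebraMap K Ω).fieldRange, le_etClosure 𝒲 _, etClosed_etClosure 𝒲 _,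
      fun G h1 h2 => etClosure_le 𝒲 h1 h2,
      good_etClosure 𝒲 _ _ hϖA0 hϖA1 _ (RingHom.mem_fieldRange.mpr ⟨_, rfl⟩) hbaseA,
      fun G h0 hcl => etClosure_induction 𝒲 _ G h0 hcl⟩
  obtain ⟨Let, hL₀Let, hclL, hminL, hgoodL⟩ : ∃ Let : Subfield Ω,
      (algebraMap L Ω).fieldRange ≤ Let ∧ EtClosed 𝒲 Let ∧
      (∀ G : Subfield Ω, (algebraMap L Ω).fieldRange ≤ G → EtClosed 𝒲 G → Let ≤ G) ∧
      Good 𝒲 (algebraMap L Ω (algebraMap B L πB)) (ResidueField B) Let :=
    ⟨etClosure 𝒲 (algebraMap L Ω).fieldRange, le_etClosure 𝒲 _, etClosed_etClosure 𝒲 _,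
      fun G h1 h2 => etClosure_le 𝒲 h1 h2,
      good_etClosure 𝒲 _ _ hϖB0 hϖB1 _ (RingHom.mem_fieldRange.mpr ⟨_, rfl⟩) hbaseB⟩
  have hK₀L₀ : (algebraMap K Ω).fieldRange ≤ (algebraMap L Ω).fieldRange := by
    intro x hx
    obtain ⟨c, rfl⟩ := RingHom.mem_fieldRange.mp hx
    exact RingHom.mem_fieldRange.mpr ⟨algebraMap K L c, rfl⟩
  have hKL : Ket ≤ Let := hminK Let (le_trans hK₀L₀ hL₀Let) hclL
  have hKmem : ∀ x : K, algebraMap K Ω x ∈ Ket :=
    fun x => hK₀Ket (RingHom.mem_fieldRange.mpr ⟨x, rfl⟩)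
  have hLmem : ∀ x : L, algebraMap L Ω x ∈ Let :=
    fun x => hL₀Let (RingHom.mem_fieldRange.mpr ⟨x, rfl⟩)
  -- the discrete valuation rings
  haveI dvrAv : IsDiscreteValuationRing ↥(𝒲.comap Ket.subtype) :=
    isDVR_comap 𝒲 _ Ket.subtype ⟨_, hKmem (algebraMap A K πA)⟩ rfl hϖA0 hϖA1
      (fun x hx => hgoodK.1 _ x.2 hx)
      (fun x hx => hgoodK.2.1 _ x.2 (fun h => hx (Subtype.ext h)))
  haveI dvrBv : IsDiscreteValuationRing ↥(𝒲.comap Let.subtype) :=
    isDVR_comap 𝒲 _ Let.subtype ⟨_, hLmem (algebraMap B L πB)⟩ rfl hϖB0 hϖB1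
      (fun x hx => hgoodL.1 _ x.2 hx)
      (fun x hx => hgoodL.2.1 _ x.2 (fun h => hx (Subtype.ext h)))
  -- algebra structures
  letI algKK' : Algebra K ↥Ket := (RingHom.codRestrict (algebraMap K Ω) Ket hKmem).toAlgebra
  letI algLL' : Algebra L ↥Let := (RingHom.codRestrict (algebraMap L Ω) Let hLmem).toAlgebra
  letI algK'L' : Algebra ↥Ket ↥Let := (Subfield.inclusion hKL).toAlgebra
  letI algAK' : Algebra A ↥Ket := ((algebraMap K ↥Ket).comp (algebraMap A K)).toAlgebra
  letI algBL' : Algebra B ↥Let := ((algebraMap L ↥Let).comp (algebraMap B L)).toAlgebra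
  haveI tAKK' : IsScalarTower A K ↥Ket := IsScalarTower.of_algebraMap_eq (fun _ => rfl)
  haveI tBLL' : IsScalarTower B L ↥Let := IsScalarTower.of_algebraMap_eq (fun _ => rfl)
  have hdomA' : EtRam.Dominates A ((algebraMap K ↥Ket).comp (algebraMap A K))
      (𝒲.comap Ket.subtype) :=
    WUGen.dominates_comap (RingHom.id A) ((algebraMap K ↥Ket).comp (algebraMap A K)) Ket.subtype
      ((algebraMap K Ω).comp (algebraMap A K)) (fun _ => rfl) 𝒲 h𝒲A
  have hdomB' : EtRam.Dominates B ((algebraMap L ↥Let).comp (algebraMap B L))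
      (𝒲.comap Let.subtype) :=
    WUGen.dominates_comap (RingHom.id B) ((algebraMap L ↥Let).comp (algebraMap B L)) Let.subtype
      ((algebraMap L Ω).comp (algebraMap B L)) (fun _ => rfl) 𝒲 h𝒲B
  letI algAA' : Algebra A ↥(𝒲.comap Ket.subtype) :=
    (RingHom.codRestrict ((algebraMap K ↥Ket).comp (algebraMap A K)) (𝒲.comap Ket.subtype)
      hdomA'.1).toAlgebra
  letI algBB' : Algebra B ↥(𝒲.comap Let.subtype) :=
    (RingHom.codRestrict ((algebraMap L ↥Let).comp (algebraMap B L)) (𝒲.comap Let.subtype)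
      hdomB'.1).toAlgebra
  haveI locAA' : IsLocalHom (algebraMap A ↥(𝒲.comap Ket.subtype)) :=
    WUGen.isLocalHom_of_dominates _ _ hdomA'
  haveI locBB' : IsLocalHom (algebraMap B ↥(𝒲.comap Let.subtype)) :=
    WUGen.isLocalHom_of_dominates _ _ hdomB'
  letI algA'B' : Algebra ↥(𝒲.comap Ket.subtype) ↥(𝒲.comap Let.subtype) :=
    (RingHom.codRestrict ((Subfield.inclusion hKL).comp (𝒲.comap Ket.subtype).subtype)
      (𝒲.comap Let.subtype)
      (fun x => ValuationSubring.mem_comap.mpr (ValuationSubring.mem_comap.mp x.2))).toAlgebra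
  letI algAB' : Algebra A ↥(𝒲.comap Let.subtype) :=
    ((algebraMap B ↥(𝒲.comap Let.subtype)).comp (algebraMap A B)).toAlgebra
  haveI tABB' : IsScalarTower A B ↥(𝒲.comap Let.subtype) :=
    IsScalarTower.of_algebraMap_eq (fun _ => rfl)
  haveI tAA'B' : IsScalarTower A ↥(𝒲.comap Ket.subtype) ↥(𝒲.comap Let.subtype) :=
    IsScalarTower.of_algebraMap_eq (fun a => Subtype.ext (Subtype.ext (hAB a).symm))
  letI algA'L' : Algebra ↥(𝒲.comap Ket.subtype) ↥Let :=
    ((algebraMap ↥Ket ↥Let).comp (algebraMap ↥(𝒲.comap Ket.subtype) ↥Ket)).toAlgebra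
  haveI tA'K'L' : IsScalarTower ↥(𝒲.comap Ket.subtype) ↥Ket ↥Let :=
    IsScalarTower.of_algebraMap_eq (fun _ => rfl)
  haveI tA'B'L' : IsScalarTower ↥(𝒲.comap Ket.subtype) ↥(𝒲.comap Let.subtype) ↥Let :=
    IsScalarTower.of_algebraMap_eq (fun _ => rfl)
  haveI tAA'K' : IsScalarTower A ↥(𝒲.comap Ket.subtype) ↥Ket :=
    IsScalarTower.of_algebraMap_eq (fun _ => rfl)
  haveI tBB'L' : IsScalarTower B ↥(𝒲.comap Let.subtype) ↥Let :=
    IsScalarTower.of_algebraMap_eq (fun _ => rfl)
  haveI locA'B' : IsLocalHom (algebraMap ↥(𝒲.comap Ket.subtype) ↥(𝒲.comap Let.subtype)) := by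
    constructor
    intro x hx
    rw [SolTower.isUnit_iff] at hx ⊢
    obtain ⟨h0, hinv⟩ := hx
    refine ⟨fun h => h0 ?_, ?_⟩
    · show Subfield.inclusion hKL (x : ↥Ket) = 0
      rw [h, map_zero]
    · have h1 := ValuationSubring.mem_comap.mp hinv
      rw [map_inv₀] at h1
      apply ValuationSubring.mem_comap.mpr
      rw [map_inv₀]
      exact h1
  -- separability of the field extensions
  have hsepK : Algebra.IsSeparable K ↥Ket := by
    have hle : Ket ≤ (separableClosure K Ω).toSubfield := hminK _ (by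
      intro x hx
      obtain ⟨c, rfl⟩ := RingHom.mem_fieldRange.mp hx
      exact (separableClosure K Ω).algebraMap_mem c) (etClosed_sepClosure 𝒲 K)
    rw [Algebra.isSeparable_def]
    intro x
    have h1 : IsSeparable K (x : Ω) := mem_separableClosure_iff.mp (hle x.2)
    exact isSeparable_of_algHom_apply
      ({ toRingHom := Ket.subtype, commutes' := fun _ => rfl } : ↥Ket →ₐ[K] Ω) x h1
  have hsepL : Algebra.IsSeparable L ↥Let := by
    have hle : Let ≤ (separableClosure L Ω).toSubfield := hminL _ (by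
      intro x hx
      obtain ⟨c, rfl⟩ := RingHom.mem_fieldRange.mp hx
      exact (separableClosure L Ω).algebraMap_mem c) (etClosed_sepClosure 𝒲 L)
    rw [Algebra.isSeparable_def]
    intro x
    have h1 : IsSeparable L (x : Ω) := mem_separableClosure_iff.mp (hle x.2)
    exact isSeparable_of_algHom_apply
      ({ toRingHom := Let.subtype, commutes' := fun _ => rfl } : ↥Let →ₐ[L] Ω) x h1
  -- the data for descent
  have hcompat : ∀ x : K, algebraMap L ↥Let (algebraMap K L x) =
      algebraMap ↥Ket ↥Let (algebraMap K ↥Ket x) := fun x => Subtype.ext rfl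
  have hAv : (𝒲.comap Let.subtype).comap (algebraMap ↥Ket ↥Let) = 𝒲.comap Ket.subtype :=
    ValuationSubring.ext _ _ (fun x => Iff.rfl)
  have hind : ∀ G : Subfield ↥Ket, (algebraMap K ↥Ket).fieldRange ≤ G →
      EtClosed (𝒲.comap Ket.subtype) G → G = ⊤ := by
    intro G hG hcl
    refine hindK G (fun x hx => ?_) hcl
    obtain ⟨c, hc⟩ := RingHom.mem_fieldRange.mp hx
    exact hG (RingHom.mem_fieldRange.mpr ⟨c, Subtype.ext hc⟩)
  refine ⟨↥(𝒲.comap Ket.subtype), ↥(𝒲.comap Let.subtype), ↥Ket, ↥Let, inferInstance,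
    inferInstance, dvrAv, inferInstance, inferInstance, dvrBv, inferInstance, inferInstance,
    algAA', algBB', algA'B', algAB', tABB', tAA'B', inferInstance, inferInstance, inferInstance,
    inferInstance, algK'L', algA'L', tA'K'L', tA'B'L', algKK', algAK', tAKK', tAA'K', algLL',
    algBL', tBLL', tBB'L', locAA', locBB', locA'B', ?_, ?_, ?_, hsepK, hsepL, ?_, ?_, ?_, ?_⟩
  · intro x y hxy
    have h1 : algebraMap K Ω (algebraMap A K x) = algebraMap K Ω (algebraMap A K y) :=
      congrArg (fun z : ↥(𝒲.comap Ket.subtype) => ((z : ↥Ket) : Ω)) hxy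
    exact IsFractionRing.injective A K ((algebraMap K Ω).injective h1)
  · intro x y hxy
    have h1 : algebraMap L Ω (algebraMap B L x) = algebraMap L Ω (algebraMap B L y) :=
      congrArg (fun z : ↥(𝒲.comap Let.subtype) => ((z : ↥Let) : Ω)) hxy
    exact IsFractionRing.injective B L ((algebraMap L Ω).injective h1)
  · intro x y hxy
    have h1 : ((x : ↥Ket) : Ω) = ((y : ↥Ket) : Ω) :=
      congrArg (fun z : ↥(𝒲.comap Let.subtype) => ((z : ↥Let) : Ω)) hxy
    exact Subtype.ext (Subtype.ext h1)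
  · -- residue field of `A'`
    letI algκAA' : Algebra (ResidueField A) (ResidueField ↥(𝒲.comap Ket.subtype)) :=
      (ResidueField.map (algebraMap A ↥(𝒲.comap Ket.subtype))).toAlgebra
    show IsSepClosure (ResidueField A) (ResidueField ↥(𝒲.comap Ket.subtype))
    have hsc : IsSepClosed (ResidueField ↥(𝒲.comap Ket.subtype)) :=
      isSepClosed_residue 𝒲 Ket.subtype (fun θ hθ => by
        rw [Subfield.fieldRange_subtype] at hθ
        exact ⟨⟨θ, hclK θ hθ⟩, rfl⟩)
    let gκ : ResidueField ↥(𝒲.comap Ket.subtype) →ₐ[ResidueField A] ResidueField ↥𝒲 :=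
      { toRingHom := ResidueField.map (EtRam.inclOfComap 𝒲 Ket.subtype)
        commutes' := fun r => by
          obtain ⟨a, rfl⟩ := residue_surjective r
          rfl }
    have hsepκ : Algebra.IsSeparable (ResidueField A)
        (ResidueField ↥(𝒲.comap Ket.subtype)) := by
      rw [Algebra.isSeparable_def]
      intro x
      obtain ⟨v, rfl⟩ := residue_surjective x
      have h1 : IsSeparable (ResidueField A)
          (residue ↥𝒲 ⟨((v : ↥Ket) : Ω), ValuationSubring.mem_comap.mp v.2⟩) :=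
        mem_separableClosure_iff.mp (hgoodK.2.2 _ _ (v : ↥Ket).2)
      exact isSeparable_of_algHom_apply gκ (residue _ v) h1
    exact ⟨hsc, hsepκ⟩
  · -- residue field of `B'`
    letI algκBB' : Algebra (ResidueField B) (ResidueField ↥(𝒲.comap Let.subtype)) :=
      (ResidueField.map (algebraMap B ↥(𝒲.comap Let.subtype))).toAlgebra
    show IsSepClosure (ResidueField B) (ResidueField ↥(𝒲.comap Let.subtype))
    have hsc : IsSepClosed (ResidueField ↥(𝒲.comap Let.subtype)) :=
      isSepClosed_residue 𝒲 Let.subtype (fun θ hθ => by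
        rw [Subfield.fieldRange_subtype] at hθ
        exact ⟨⟨θ, hclL θ hθ⟩, rfl⟩)
    let gκ : ResidueField ↥(𝒲.comap Let.subtype) →ₐ[ResidueField B] ResidueField ↥𝒲 :=
      { toRingHom := ResidueField.map (EtRam.inclOfComap 𝒲 Let.subtype)
        commutes' := fun r => by
          obtain ⟨a, rfl⟩ := residue_surjective r
          rfl }
    have hsepκ : Algebra.IsSeparable (ResidueField B)
        (ResidueField ↥(𝒲.comap Let.subtype)) := by
      rw [Algebra.isSeparable_def]
      intro x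
      obtain ⟨v, rfl⟩ := residue_surjective x
      have h1 : IsSeparable (ResidueField B)
          (residue ↥𝒲 ⟨((v : ↥Let) : Ω), ValuationSubring.mem_comap.mp v.2⟩) :=
        mem_separableClosure_iff.mp (hgoodL.2.2 _ _ (v : ↥Let).2)
      exact isSeparable_of_algHom_apply gκ (residue _ v) h1
    exact ⟨hsc, hsepκ⟩
  · rintro ⟨K₁, instK₁, algK₁, hfd, hsol⟩
    haveI := hfd
    haveI := hsepK
    obtain ⟨N, fN, aN, hfdN, hsolN, -⟩ := descent A B K L ↥Ket ↥Let hcompat
      (𝒲.comap Let.subtype) hdomB' (𝒲.comap Ket.subtype) hAv hind K₁ hsol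
    exact ⟨N, fN, aN, hfdN, hsolN⟩
  · rintro ⟨K₁, instK₁, algK₁, hfd, hsep, hsol⟩
    haveI := hfd
    haveI := hsepK
    obtain ⟨N, fN, aN, hfdN, hsolN, hsepN⟩ := descent A B K L ↥Ket ↥Let hcompat
      (𝒲.comap Let.subtype) hdomB' (𝒲.comap Ket.subtype) hAv hind K₁ hsol
    exact ⟨N, fN, aN, hfdN, hsepN hsep, hsolN⟩

end Groth.Agent.Helper22.EtSH
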