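import Mathlib

/-!
# `A[T_1..T_m]` is free over itself via `T_i ↦ T_i ^ p` with basis the reduced monomials (helper22)
-/

set_option autoImplicit false

namespace Groth.Agent.Helper22.ExpandFree

open MvPolynomial

variable {σ : Type*} [Fintype σ] {A : Type*} [CommRing A] (p : ℕ)

/-- exponent vector of a reduced monomial -/
noncomputable def toF (e : σ → Fin p) : σ →₀ ℕ :=
  Finsupp.equivFunOnFinite.symm (fun i => (e i : ℕ))

@[simp] lemma toF_apply (e : σ → Fin p) (i : σ) : toF p e i = (e i : ℕ) := rfl

lemma prod_eq_monomial (e : σ → Fin p) :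
    (∏ i, (X i : MvPolynomial σ A) ^ (e i : ℕ)) = monomial (toF p e) 1 := by
  rw [monomial_eq, C_1, one_mul, Finsupp.prod_fintype]
  · rfl
  · intro i; exact pow_zero _

lemma exists_divmod (hp : 0 < p) (b : σ →₀ ℕ) :
    ∃ (a : σ →₀ ℕ) (e : σ → Fin p), b = p • a + toF p e := by
  refine ⟨b.mapRange (· / p) (by simp), fun i => ⟨b i % p, Nat.mod_lt _ hp⟩, ?_⟩
  ext i
  simp only [Finsupp.coe_add, Finsupp.coe_smul, Pi.add_apply, Pi.smul_apply,
    Finsupp.mapRange_apply, toF_apply, smul_eq_mul]
  exact (Nat.div_add_mod (b i) p).symm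

lemma not_dvd_of_ne (a u w : ℕ) (hu : u < p) (hw : w < p) (huw : w ≠ u)
    (hle : w ≤ p * a + u) : ¬ p ∣ (p * a + u - w) := by
  rintro ⟨k, hk⟩
  have h1 : p * a + u = p * k + w := by omega
  have h2 : (p * a + u) % p = (p * k + w) % p := by rw [h1]
  rw [Nat.mul_add_mod, Nat.mul_add_mod, Nat.mod_eq_of_lt hu, Nat.mod_eq_of_lt hw] at h2
  exact huw h2.symm

lemma coeff_term (hp : 0 < p) (c : MvPolynomial σ A) (e e0 : σ → Fin p) (a : σ →₀ ℕ) :
    coeff (p • a + toF p e0) (expand p c * monomial (toF p e) 1) =
      if e = e0 then coeff a c else 0 := by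
  classical
  rw [coeff_mul_monomial', mul_one]
  by_cases hee : e = e0
  · subst hee
    rw [if_pos (le_add_self), if_pos rfl, add_tsub_cancel_right, coeff_expand_smul p hp.ne']
  · rw [if_neg hee]
    split_ifs with hle
    · obtain ⟨i, hi⟩ := Function.ne_iff.mp hee
      apply coeff_expand_of_not_dvd (i := i)
      have hle' := hle i
      simp only [Finsupp.coe_add, Finsupp.coe_smul, Pi.add_apply, Pi.smul_apply, toF_apply,
        smul_eq_mul, Finsupp.coe_tsub, Pi.sub_apply] at hle' ⊢
      exact not_dvd_of_ne p (a i) (e0 i) (e i) (e0 i).2 (e i).2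
        (fun h => hi (Fin.ext h)) hle'
    · rfl

/-- The reduced monomials form a basis of `A[T]` over any ring `R` mapping onto `A[T]` and acting
through `expand p`. -/
theorem exists_basis (hp : 0 < p) (R : Type*) [CommRing R] [Algebra R (MvPolynomial σ A)]
    (j : MvPolynomial σ A →+* R) (hj : Function.Surjective j)
    (hjalg : ∀ f, algebraMap R (MvPolynomial σ A) (j f) = expand p f) :
    ∃ b : Module.Basis (σ → Fin p) R (MvPolynomial σ A),
      ∀ e, b e = ∏ i, (X i : MvPolynomial σ A) ^ (e i : ℕ) := by
  classical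
  set v : (σ → Fin p) → MvPolynomial σ A := fun e => ∏ i, (X i : MvPolynomial σ A) ^ (e i : ℕ)
    with hv
  have hve : ∀ e, v e = monomial (toF p e) 1 := fun e => prod_eq_monomial p e
  have hli : LinearIndependent R v := by
    rw [Fintype.linearIndependent_iff]
    intro g hg e0
    choose c hc using fun e => hj (g e)
    have hsum : ∑ e, expand p (c e) * monomial (toF p e) 1 = 0 := by
      rw [← hg]
      refine Finset.sum_congr rfl fun e _ => ?_
      rw [Algebra.smul_def, ← hc e, hjalg, hve]
    have hc0 : c e0 = 0 := by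
      ext a
      have h1 := congrArg (coeff (p • a + toF p e0)) hsum
      rw [coeff_sum, coeff_zero] at h1
      rw [coeff_zero, ← h1]
      symm
      rw [Finset.sum_eq_single e0]
      · rw [coeff_term p hp, if_pos rfl]
      · intro e _ hne
        rw [coeff_term p hp, if_neg hne]
      · intro h; exact absurd (Finset.mem_univ _) h
    rw [← hc e0, hc0, map_zero]
  have hsp : ⊤ ≤ Submodule.span R (Set.range v) := by
    intro f _
    clear * - hp hjalg hve
    induction f using MvPolynomial.induction_on' with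
    | monomial b a0 =>
      obtain ⟨a, e, rfl⟩ := exists_divmod p hp b
      have h1 : (monomial (p • a + toF p e) a0 : MvPolynomial σ A) =
          (j (monomial a a0)) • v e := by
        rw [Algebra.smul_def, hjalg, expand_monomial, hve, monomial_mul, mul_one]
      rw [h1]
      exact Submodule.smul_mem _ _ (Submodule.subset_span ⟨e, rfl⟩)
    | add f g hf hg => exact Submodule.add_mem _ hf hg
  exact ⟨Module.Basis.mk hli hsp, fun e => by rw [Module.Basis.coe_mk]⟩

end Groth.Agent.Helper22.ExpandFree
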