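import Mathlib

set_option maxHeartbeats 800000

namespace Groth.Agent.Helper22.GF

open Classical

section Typ
variable {M : Type*} {d : ℕ}

/-- the type (multiplicity vector) of a finite sequence -/
noncomputable def typ (f : Fin d → M) : M →₀ ℕ := ∑ j, Finsupp.single (f j) 1

theorem typ_apply (f : Fin d → M) (m : M) :
    typ f m = (Finset.univ.filter (fun j => f j = m)).card := by
  unfold typ
  rw [Finsupp.finsetSum_apply, Finset.card_filter]
  apply Finset.sum_congr rfl
  intro j _
  rw [Finsupp.single_apply]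

theorem typ_comp_perm (f : Fin d → M) (σ : Equiv.Perm (Fin d)) : typ (f ∘ σ) = typ f := by
  unfold typ
  exact Equiv.sum_comp σ (fun j => Finsupp.single (f j) 1)

theorem card_fiber (f : Fin d → M) (m : M) : Fintype.card {j // f j = m} = typ f m := by
  rw [typ_apply, Fintype.card_subtype]

theorem exists_perm_of_typ_eq (f g : Fin d → M) (h : typ f = typ g) :
    ∃ σ : Equiv.Perm (Fin d), g = f ∘ σ := by
  have hc : ∀ m, Fintype.card {j // g j = m} = Fintype.card {j // f j = m} := by
    intro m
    rw [card_fiber, card_fiber, h]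
  have e : ∀ m, {j // g j = m} ≃ {j // f j = m} := fun m => (Fintype.card_eq.mp (hc m)).some
  refine ⟨(Equiv.sigmaFiberEquiv g).symm.trans
    ((Equiv.sigmaCongrRight e).trans (Equiv.sigmaFiberEquiv f)), ?_⟩
  funext j
  exact ((e (g j) ⟨j, rfl⟩).2).symm

/-- sequences up to permutation -/
def seqSetoid (M : Type*) (d : ℕ) : Setoid (Fin d → M) where
  r f g := ∃ σ : Equiv.Perm (Fin d), g = f ∘ σ
  iseqv := by
    refine ⟨fun f => ⟨1, rfl⟩, ?_, ?_⟩
    · rintro f g ⟨σ, h⟩
      refine ⟨σ⁻¹, ?_⟩
      subst h
      funext j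
      show f j = f (σ (σ.symm j))
      rw [Equiv.apply_symm_apply]
    · rintro f g k ⟨σ, h⟩ ⟨τ, h'⟩
      refine ⟨σ * τ, ?_⟩
      subst h
      subst h'
      rfl

/-- chosen representative of the class of a sequence -/
noncomputable def rep (f : Fin d → M) : Fin d → M :=
  (Quotient.mk (seqSetoid M d) f).out

theorem rep_spec (f : Fin d → M) : ∃ σ : Equiv.Perm (Fin d), rep f = f ∘ σ :=
  (seqSetoid M d).iseqv.symm (Quotient.mk_out (s := seqSetoid M d) f)

theorem rep_eq_of_rel {f g : Fin d → M} (h : ∃ σ : Equiv.Perm (Fin d), g = f ∘ σ) :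
    rep g = rep f := by
  show (Quotient.mk (seqSetoid M d) g).out = (Quotient.mk (seqSetoid M d) f).out
  rw [Quotient.sound (s := seqSetoid M d) h]

theorem rep_comp (f : Fin d → M) (σ : Equiv.Perm (Fin d)) : rep (f ∘ σ) = rep f :=
  rep_eq_of_rel ⟨σ, rfl⟩

theorem rep_rep (f : Fin d → M) : rep (rep f) = rep f := by
  obtain ⟨σ, hσ⟩ := rep_spec f
  calc rep (rep f) = rep (f ∘ σ) := by rw [hσ]
    _ = rep f := rep_comp f σ

theorem typ_rep (f : Fin d → M) : typ (rep f) = typ f := by
  obtain ⟨σ, hσ⟩ := rep_spec f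
  rw [hσ, typ_comp_perm]

theorem typ_eq_iff_rep_eq (f g : Fin d → M) : typ f = typ g ↔ rep f = rep g := by
  constructor
  · intro h
    exact (rep_eq_of_rel (exists_perm_of_typ_eq f g h)).symm
  · intro h
    rw [← typ_rep f, ← typ_rep g, h]

theorem support_typ (f : Fin d → M) : (typ f).support = Finset.univ.image f := by
  ext m
  rw [Finsupp.mem_support_iff, typ_apply, Finset.card_ne_zero, Finset.filter_nonempty_iff,
    Finset.mem_image]

theorem degree_typ (f : Fin d → M) : Finsupp.degree (typ f) = d := by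
  unfold typ
  rw [map_sum]
  simp only [Finsupp.degree_single]
  rw [Finset.sum_const, Finset.card_univ, Fintype.card_fin, smul_eq_mul, mul_one]

theorem exists_typ_eq : ∀ (d : ℕ) (K : M →₀ ℕ), Finsupp.degree K = d →
    ∃ f : Fin d → M, typ f = K := by
  intro d
  induction d with
  | zero =>
    intro K hK
    refine ⟨Fin.elim0, ?_⟩
    have hK0 : K = 0 := (Finsupp.degree_eq_zero_iff K).mp hK
    rw [hK0]
    unfold typ
    exact Finset.sum_of_isEmpty _
  | succ d ih =>
    intro K hK
    have hne : K ≠ 0 := by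
      rintro rfl
      rw [map_zero] at hK
      exact absurd hK (Nat.succ_ne_zero d).symm
    obtain ⟨m, hm⟩ := Finsupp.support_nonempty_iff.mpr hne
    have hm' : K m ≠ 0 := Finsupp.mem_support_iff.mp hm
    have hK' : (K - Finsupp.single m 1) + Finsupp.single m 1 = K := by
      ext x
      rw [Finsupp.add_apply, Finsupp.tsub_apply, Finsupp.single_apply]
      by_cases hx : m = x
      · subst hx
        rw [if_pos rfl]
        omega
      · rw [if_neg hx]
        omega
    have hdeg : Finsupp.degree (K - Finsupp.single m 1) = d := by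
      have h2 := congrArg (fun z => Finsupp.degree z) hK'
      simp only [map_add, Finsupp.degree_single] at h2
      rw [hK] at h2
      omega
    obtain ⟨f', hf'⟩ := ih _ hdeg
    refine ⟨Fin.cons m f', ?_⟩
    unfold typ
    rw [Fin.sum_univ_succ, Fin.cons_zero]
    simp only [Fin.cons_succ]
    rw [add_comm]
    unfold typ at hf'
    rw [hf', hK']

theorem prod_X_eq_monomial (R : Type*) [CommSemiring R] (g : Fin d → M) :
    ∏ j, (MvPolynomial.X (g j) : MvPolynomial M R) = MvPolynomial.monomial (typ g) 1 := by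
  unfold typ
  rw [MvPolynomial.monomial_sum_one]
  rfl

theorem sum_rep_typ {N : Type*} [AddCommMonoid N] (K : M →₀ ℕ) (s : Finset M) (c : N) :
    (∑ g ∈ Fintype.piFinset (fun _ : Fin d => s),
      (if typ g = K then (if rep g = g then c else 0) else 0)) =
      if (K.support ⊆ s ∧ Finsupp.degree K = d) then c else 0 := by
  by_cases h : K.support ⊆ s ∧ Finsupp.degree K = d
  · rw [if_pos h]
    obtain ⟨f₀, hf₀⟩ := exists_typ_eq d K h.2
    have hg₀ : typ (rep f₀) = K := by rw [typ_rep, hf₀]
    have hmem : rep f₀ ∈ Fintype.piFinset (fun _ : Fin d => s) := by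
      rw [Fintype.mem_piFinset]
      intro j
      apply h.1
      rw [← hg₀, support_typ]
      exact Finset.mem_image_of_mem _ (Finset.mem_univ j)
    rw [Finset.sum_eq_single_of_mem (rep f₀) hmem]
    · rw [if_pos hg₀, if_pos (rep_rep f₀)]
    · intro g _ hne
      by_cases h1 : typ g = K
      · rw [if_pos h1]
        by_cases h2 : rep g = g
        · exfalso
          apply hne
          rw [← h2]
          exact (typ_eq_iff_rep_eq g f₀).mp (h1.trans hf₀.symm)
        · rw [if_neg h2]
      · rw [if_neg h1]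
  · rw [if_neg h]
    apply Finset.sum_eq_zero
    intro g hg
    rw [Fintype.mem_piFinset] at hg
    by_cases h1 : typ g = K
    · exfalso
      apply h
      constructor
      · rw [← h1, support_typ]
        intro m hm
        obtain ⟨j, _, rfl⟩ := Finset.mem_image.mp hm
        exact hg j
      · rw [← h1, degree_typ]
    · rw [if_neg h1]

end Typ

end Groth.Agent.Helper22.GF
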