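import Mathlib
import Groth.Agent.Lib.Helper22.GF01

set_option maxHeartbeats 800000
set_option autoImplicit false

namespace Groth.Agent.Helper22.SG

open Classical

section Graded
variable {A B : Type*} [CommRing A] [CommRing B] [Algebra A B] (𝒜 : ℕ → Submodule A B)
  [GradedAlgebra 𝒜]

/-- a graded algebra generated in degree one: `𝒜 k ≤ 𝒜 (k-1) * 𝒜 1` for `k ≥ 1` -/
theorem le_mul_degOne (hgen : Algebra.adjoin A (𝒜 1 : Set B) = ⊤) (k : ℕ) (hk : 0 < k) :
    𝒜 k ≤ 𝒜 (k - 1) * 𝒜 1 := by
  intro b hb
  have hcl : ∀ π ∈ Submonoid.closure (𝒜 1 : Set B),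
      ∃ m, π ∈ 𝒜 m ∧ (0 < m → π ∈ 𝒜 (m - 1) * 𝒜 1) := by
    intro π hπ
    induction hπ using Submonoid.closure_induction_right with
    | one => exact ⟨0, SetLike.one_mem_graded 𝒜, fun h => absurd h (lt_irrefl 0)⟩
    | mul_right x hx y hy ih =>
      obtain ⟨m, hm, -⟩ := ih
      refine ⟨m + 1, SetLike.mul_mem_graded hm hy, fun _ => ?_⟩
      rw [Nat.add_sub_cancel]
      exact Submodule.mul_mem_mul hm hy
  have hbspan : b ∈ Submodule.span A (Submonoid.closure (𝒜 1 : Set B) : Set B) := by
    rw [← Algebra.adjoin_eq_span, hgen, Algebra.top_toSubmodule]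
    exact Submodule.mem_top
  have hle : Submodule.span A (Submonoid.closure (𝒜 1 : Set B) : Set B) ≤
      (𝒜 (k - 1) * 𝒜 1).comap (GradedAlgebra.proj 𝒜 k) := by
    rw [Submodule.span_le]
    intro π hπ
    obtain ⟨m, hm, hm'⟩ := hcl π hπ
    show GradedAlgebra.proj 𝒜 k π ∈ 𝒜 (k - 1) * 𝒜 1
    rw [GradedAlgebra.proj_apply]
    by_cases hmk : m = k
    · subst hmk
      rw [DirectSum.decompose_of_mem_same 𝒜 hm]
      exact hm' hk
    · rw [DirectSum.decompose_of_mem_ne 𝒜 hm hmk]
      exact zero_mem _
  have h2 : GradedAlgebra.proj 𝒜 k b ∈ 𝒜 (k - 1) * 𝒜 1 := hle hbspan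
  rwa [GradedAlgebra.proj_apply, DirectSum.decompose_of_mem_same 𝒜 hb] at h2

end Graded

section Multi
variable {A B : Type*} [CommRing A] [CommRing B] [Algebra A B] {d : ℕ}

/-- multilinearity: if the entries lie in spans, the pure tensor lies in the span of pure tensors
of generators -/
theorem tprod_mem_of_span (S : Fin d → Set B) (W : Submodule A (PiTensorProduct A (fun _ : Fin d => B)))
    (hW : ∀ b' : Fin d → B, (∀ i, b' i ∈ S i) → PiTensorProduct.tprod A b' ∈ W)
    (b : Fin d → B) (hb : ∀ i, b i ∈ Submodule.span A (S i)) :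
    PiTensorProduct.tprod A b ∈ W := by
  have key : ∀ s : Finset (Fin d), ∀ b : Fin d → B, (∀ i ∈ s, b i ∈ Submodule.span A (S i)) →
      (∀ i, i ∉ s → b i ∈ S i) → PiTensorProduct.tprod A b ∈ W := by
    intro s
    induction s using Finset.induction_on with
    | empty =>
      intro b _ h2
      exact hW b (fun i => h2 i (Finset.notMem_empty i))
    | insert a s ha ih =>
      intro b h1 h2
      have hgen : ∀ y ∈ Submodule.span A (S a),
          PiTensorProduct.tprod A (Function.update b a y) ∈ W := by
        intro y hy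
        induction hy using Submodule.span_induction with
        | mem y hy =>
          apply ih
          · intro i hi
            have hia : i ≠ a := fun h => ha (h ▸ hi)
            rw [Function.update_of_ne hia]
            exact h1 i (Finset.mem_insert_of_mem hi)
          · intro i hi
            by_cases hia : i = a
            · rw [hia, Function.update_self]
              exact hy
            · rw [Function.update_of_ne hia]
              apply h2
              intro hmem
              rcases Finset.mem_insert.mp hmem with h | h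
              · exact hia h
              · exact hi h
        | zero =>
          rw [MultilinearMap.map_update_zero]
          exact zero_mem _
        | add x y _ _ hx hy =>
          rw [MultilinearMap.map_update_add]
          exact add_mem hx hy
        | smul r x _ hx =>
          rw [MultilinearMap.map_update_smul]
          exact W.smul_mem r hx
      have h3 := hgen (b a) (h1 a (Finset.mem_insert_self a s))
      rwa [Function.update_eq_self] at h3
  exact key Finset.univ b (fun i _ => hb i) (fun i hi => absurd (Finset.mem_univ i) hi)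

end Multi

section HPA
variable {A B : Type*} [CommRing A] [CommRing B] [Algebra A B] (𝒜 : ℕ → Submodule A B)
  [GradedAlgebra 𝒜]
variable {ι : Type*} (N : ι → ℕ → B → Prop)

theorem hpa_pow
    (hmul : ∀ i n m x y, x ∈ 𝒜 n → y ∈ 𝒜 m → (N i (n + m) (x * y) ↔ N i n x ∧ N i m y))
    (i : ι) (n : ℕ) (x : B) (hx : x ∈ 𝒜 n) :
    ∀ m, 0 < m → (N i (m * n) (x ^ m) ↔ N i n x) := by
  intro m hm
  induction m with
  | zero => exact absurd hm (lt_irrefl 0)
  | succ m ih =>
    by_cases hm0 : m = 0
    · subst hm0
      rw [Nat.zero_add, Nat.one_mul, pow_one]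
    · have hxm : x ^ m ∈ 𝒜 (m * n) := by
        have h := SetLike.pow_mem_graded m hx
        rwa [smul_eq_mul] at h
      rw [add_one_mul, pow_succ, hmul i (m * n) n (x ^ m) x hxm hx, ih (Nat.pos_of_ne_zero hm0)]
      exact ⟨fun h => h.1, fun h => ⟨h, h⟩⟩

/-- homogeneous prime avoidance, in predicate form -/
theorem hpa
    (hadd : ∀ i n x y, x ∈ 𝒜 n → y ∈ 𝒜 n → N i n x → ¬ N i n y → N i n (x + y))
    (hmul : ∀ i n m x y, x ∈ 𝒜 n → y ∈ 𝒜 m → (N i (n + m) (x * y) ↔ N i n x ∧ N i m y)) :
    ∀ (k : ℕ) (s : Finset ι), s.card = k → (∀ i ∈ s, ∃ u ∈ 𝒜 1, N i 1 u) →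
      ∃ n, 0 < n ∧ ∃ f ∈ 𝒜 n, ∀ i ∈ s, N i n f := by
  intro k
  induction k using Nat.strong_induction_on with
  | _ k IH =>
    intro s hs hu
    rcases s.eq_empty_or_nonempty with rfl | ⟨a, ha⟩
    · exact ⟨1, Nat.one_pos, 0, zero_mem _, fun i hi => absurd hi (Finset.notMem_empty i)⟩
    · have hcard : (s.erase a).card < k := hs ▸ Finset.card_erase_lt_of_mem ha
      obtain ⟨n, hn, f, hf, hfN⟩ := IH _ hcard (s.erase a) rfl
        (fun i hi => hu i (Finset.mem_of_mem_erase hi))
      by_cases hfa : N a n f
      · refine ⟨n, hn, f, hf, fun i hi => ?_⟩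
        by_cases hia : i = a
        · rw [hia]
          exact hfa
        · exact hfN i (Finset.mem_erase.mpr ⟨hia, hi⟩)
      · by_cases hB : ∃ i ∈ s.erase a, ∀ m g, g ∈ 𝒜 m → N a m g → N i m g
        · obtain ⟨i, hi, hdom⟩ := hB
          have his : i ∈ s := Finset.mem_of_mem_erase hi
          have hia : i ≠ a := (Finset.mem_erase.mp hi).1
          have hcard' : (s.erase i).card < k := hs ▸ Finset.card_erase_lt_of_mem his
          obtain ⟨n', hn', f', hf', hfN'⟩ := IH _ hcard' (s.erase i) rfl
            (fun j hj => hu j (Finset.mem_of_mem_erase hj))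
          refine ⟨n', hn', f', hf', fun j hj => ?_⟩
          by_cases hji : j = i
          · rw [hji]
            exact hdom n' f' hf' (hfN' a (Finset.mem_erase.mpr ⟨hia.symm, ha⟩))
          · exact hfN' j (Finset.mem_erase.mpr ⟨hji, hj⟩)
        · have hB' : ∀ i ∈ s.erase a, ∃ m g, g ∈ 𝒜 m ∧ N a m g ∧ ¬ N i m g := by
            intro i hi
            by_contra hcon
            apply hB
            refine ⟨i, hi, fun m g hg hga => ?_⟩
            by_contra hgi
            exact hcon ⟨m, g, hg, hga, hgi⟩
          obtain ⟨u, hu1, hNu⟩ := hu a ha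
          have hprod : ∀ s' : Finset ι, s' ⊆ s.erase a →
              ∃ M h, 0 < M ∧ h ∈ 𝒜 M ∧ N a M h ∧ ∀ i ∈ s', ¬ N i M h := by
            intro s'
            induction s' using Finset.induction_on with
            | empty =>
              intro _
              exact ⟨1, u, Nat.one_pos, hu1, hNu, fun i hi => absurd hi (Finset.notMem_empty i)⟩
            | insert j s' hj ih =>
              intro hsub
              obtain ⟨M, h, hM, hh, hNa, hNi⟩ :=
                ih (fun x hx => hsub (Finset.mem_insert_of_mem hx))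
              obtain ⟨m, g, hg, hga, hgj⟩ := hB' j (hsub (Finset.mem_insert_self j s'))
              refine ⟨M + m, h * g, Nat.add_pos_left hM m, SetLike.mul_mem_graded hh hg,
                (hmul a M m h g hh hg).mpr ⟨hNa, hga⟩, ?_⟩
              intro i hi hcontra
              have hboth := (hmul i M m h g hh hg).mp hcontra
              rcases Finset.mem_insert.mp hi with hij | hi'
              · rw [hij] at hboth
                exact hgj hboth.2
              · exact hNi i hi' hboth.1
          obtain ⟨M, h, hM, hh, hNa, hNi⟩ := hprod (s.erase a) (Finset.Subset.refl _)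
          have hfM : f ^ M ∈ 𝒜 (M * n) := by
            have h' := SetLike.pow_mem_graded M hf
            rwa [smul_eq_mul] at h'
          have hhn : h ^ n ∈ 𝒜 (M * n) := by
            have h' := SetLike.pow_mem_graded n hh
            rwa [smul_eq_mul, Nat.mul_comm] at h'
          refine ⟨M * n, Nat.mul_pos hM hn, f ^ M + h ^ n, add_mem hfM hhn, fun i hi => ?_⟩
          by_cases hia : i = a
          · rw [hia, add_comm]
            apply hadd a (M * n) (h ^ n) (f ^ M) hhn hfM
            · have h' := (hpa_pow 𝒜 N hmul a M h hh n hn).mpr hNa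
              rwa [Nat.mul_comm] at h'
            · intro hc
              exact hfa ((hpa_pow 𝒜 N hmul a n f hf M hM).mp hc)
          · have hi' : i ∈ s.erase a := Finset.mem_erase.mpr ⟨hia, hi⟩
            apply hadd i (M * n) (f ^ M) (h ^ n) hfM hhn
            · exact (hpa_pow 𝒜 N hmul i n f hf M hM).mpr (hfN i hi')
            · intro hc
              rw [Nat.mul_comm] at hc
              exact hNi i hi' ((hpa_pow 𝒜 N hmul i M h hh n hn).mp hc)

end HPA

section SU
variable {A M : Type*} [CommRing A] [AddCommGroup M] [Module A M]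

theorem exists_frac (p : Ideal A) [p.IsPrime] (α : p.ResidueField) :
    ∃ r s : A, s ∉ p ∧ algebraMap A p.ResidueField s * α = algebraMap A p.ResidueField r := by
  obtain ⟨z, rfl⟩ := IsLocalRing.residue_surjective (R := Localization.AtPrime p) α
  obtain ⟨⟨r, s⟩, rfl⟩ := IsLocalization.mk'_surjective p.primeCompl z
  refine ⟨r, s.1, s.2, ?_⟩
  have h1 : ∀ x : A, algebraMap A p.ResidueField x =
      IsLocalRing.residue (Localization.AtPrime p) (algebraMap A (Localization.AtPrime p) x) :=
    fun x => rfl
  rw [h1, h1, ← map_mul, IsLocalization.mk'_spec']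

/-- a module is not the union of `d` proper "`p`-saturated" submodules when the residue field at
`p` has at least `d` elements -/
theorem exists_not_mem_of_card (p : Ideal A) [p.IsPrime] (d : ℕ)
    (hcard : (d : Cardinal) ≤ Cardinal.mk p.ResidueField)
    (H : Fin d → Submodule A M)
    (hsat : ∀ i, ∀ s : A, s ∉ p → ∀ v : M, s • v ∈ H i → v ∈ H i)
    (hne : ∀ i, ∃ v, v ∉ H i) : ∃ v, ∀ i, v ∉ H i := by
  obtain ⟨e⟩ : Nonempty (Fin d ↪ p.ResidueField) := by
    rw [← Cardinal.lift_mk_le']
    simpa using hcard
  choose r s hs hrs using fun j => exists_frac p (e j)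
  have hdist : ∀ j j', j ≠ j' → s j' * r j - s j * r j' ∉ p := by
    intro j j' hjj' hmem
    apply hjj'
    apply e.injective
    have h0 : algebraMap A p.ResidueField (s j' * r j - s j * r j') = 0 :=
      Ideal.algebraMap_residueField_eq_zero.mpr hmem
    rw [map_sub, map_mul, map_mul, ← hrs j, ← hrs j', sub_eq_zero] at h0
    have hsj : algebraMap A p.ResidueField (s j) ≠ 0 :=
      fun h => hs j (Ideal.algebraMap_residueField_eq_zero.mp h)
    have hsj' : algebraMap A p.ResidueField (s j') ≠ 0 :=
      fun h => hs j' (Ideal.algebraMap_residueField_eq_zero.mp h)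
    have h3 : (algebraMap A p.ResidueField (s j') * algebraMap A p.ResidueField (s j)) * e j =
        (algebraMap A p.ResidueField (s j') * algebraMap A p.ResidueField (s j)) * e j' := by
      rw [mul_assoc, h0]
      ring
    exact mul_left_cancel₀ (mul_ne_zero hsj' hsj) h3
  have H1 : ∀ i j (u v : M), v ∈ H i → s j • u + r j • v ∈ H i → u ∈ H i := by
    intro i j u v hv hw
    apply hsat i (s j) (hs j)
    have h := sub_mem hw ((H i).smul_mem (r j) hv)
    rwa [add_sub_cancel_right] at h
  have H2 : ∀ i j j' (u v : M), j ≠ j' → s j • u + r j • v ∈ H i → s j' • u + r j' • v ∈ H i →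
      v ∈ H i := by
    intro i j j' u v hjj' hw hw'
    apply hsat i _ (hdist j j' hjj')
    have h := sub_mem ((H i).smul_mem (s j') hw) ((H i).smul_mem (s j) hw')
    have e1 : s j' • (s j • u + r j • v) - s j • (s j' • u + r j' • v) =
        (s j' * r j - s j * r j') • v := by
      module
    rwa [e1] at h
  have key : ∀ t : Finset (Fin d), ∃ v, ∀ i ∈ t, v ∉ H i := by
    intro t
    induction t using Finset.induction_on with
    | empty => exact ⟨0, fun i hi => absurd hi (Finset.notMem_empty i)⟩
    | insert a t ha ih =>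
      obtain ⟨u, hu⟩ := ih
      by_cases hua : u ∉ H a
      · refine ⟨u, fun i hi => ?_⟩
        rcases Finset.mem_insert.mp hi with h | h
        · rw [h]
          exact hua
        · exact hu i h
      · rw [not_not] at hua
        obtain ⟨v, hv⟩ := hne a
        by_contra hcon
        have hcon' : ∀ w : M, ∃ i ∈ insert a t, w ∈ H i := by
          intro w
          by_contra hw
          apply hcon
          refine ⟨w, fun i hi hwi => hw ⟨i, hi, hwi⟩⟩
        choose g hg hwg using fun o : Option (Fin d) =>
          hcon' (o.elim v (fun j => s j • u + r j • v))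
        have hlt : (insert a t).card < (Finset.univ : Finset (Option (Fin d))).card := by
          rw [Finset.card_univ, Fintype.card_option, Fintype.card_fin]
          have h1 := Finset.card_le_univ (insert a t)
          rw [Fintype.card_fin] at h1
          exact Nat.lt_succ_of_le h1
        obtain ⟨o, -, o', -, hne', hgo⟩ :=
          Finset.exists_ne_map_eq_of_card_lt_of_maps_to hlt (f := g) (fun o _ => hg o)
        have huv : u ∈ H (g o) ∧ v ∈ H (g o) := by
          have ho := hwg o
          have ho' := hwg o'
          rw [← hgo] at ho'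
          rcases o with _ | j <;> rcases o' with _ | j'
          · exact absurd rfl hne'
          · have hv' : v ∈ H (g none) := ho
            have hw' : s j' • u + r j' • v ∈ H (g none) := ho'
            exact ⟨H1 _ j' u v hv' hw', hv'⟩
          · have hw1 : s j • u + r j • v ∈ H (g (some j)) := ho
            have hv' : v ∈ H (g (some j)) := ho'
            exact ⟨H1 _ j u v hv' hw1, hv'⟩
          · have hw1 : s j • u + r j • v ∈ H (g (some j)) := ho
            have hw2 : s j' • u + r j' • v ∈ H (g (some j)) := ho'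
            have hjj' : j ≠ j' := fun h => hne' (by rw [h])
            have hv' := H2 _ j j' u v hjj' hw1 hw2
            exact ⟨H1 _ j u v hv' hw1, hv'⟩
        rcases Finset.mem_insert.mp (hg o) with h | h
        · rw [h] at huv
          exact hv huv.2
        · exact hu _ h huv.1
  obtain ⟨v, hv⟩ := key Finset.univ
  exact ⟨v, fun i => hv i (Finset.mem_univ i)⟩

end SU

section Poly
variable {R : Type*} [CommRing R] {n d : ℕ}

/-- the linear form `∑ j, y i j * X j` -/
noncomputable def linForm (y : Fin d → Fin n → R) (i : Fin d) : MvPolynomial (Fin n) R :=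
  ∑ j, MvPolynomial.C (y i j) * MvPolynomial.X j

theorem coeff_linForm (y : Fin d → Fin n → R) (i : Fin d) (j : Fin n) :
    MvPolynomial.coeff (Finsupp.single j 1) (linForm y i) = y i j := by
  unfold linForm
  rw [MvPolynomial.coeff_sum, Finset.sum_eq_single j]
  · rw [MvPolynomial.coeff_C_mul, MvPolynomial.coeff_X, if_pos rfl, mul_one]
  · intro j' _ hj'
    rw [MvPolynomial.coeff_C_mul, MvPolynomial.coeff_X, if_neg, mul_zero]
    intro h
    exact hj' ((Finsupp.single_left_inj one_ne_zero).mp h)
  · intro h
    exact absurd (Finset.mem_univ j) h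

/-- a product of `d` linear forms over a domain whose "symmetrised coefficients" vanish -/
theorem poly_lemma [IsDomain R] (y : Fin d → Fin n → R)
    (a : (Fin d → Fin n) → R) (w : R) (h1 : ∀ I : Fin d → Fin n, ∏ i, y i (I i) = a I * w)
    (h2 : ∀ μ : Fin n →₀ ℕ, (∑ I : Fin d → Fin n, if GF.typ I = μ then a I else 0) = 0) :
    ∃ i, ∀ j, y i j = 0 := by
  have hprod : ∏ i, linForm y i = 0 := by
    have e1 : ∏ i, linForm y i = ∑ I : Fin d → Fin n,
        MvPolynomial.C (a I * w) * MvPolynomial.monomial (GF.typ I) (1 : R) := by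
      unfold linForm
      rw [Finset.prod_univ_sum, Fintype.piFinset_univ]
      apply Finset.sum_congr rfl
      intro I _
      rw [Finset.prod_mul_distrib,
        show (∏ i, MvPolynomial.C (y i (I i)) : MvPolynomial (Fin n) R) =
          MvPolynomial.C (∏ i, y i (I i)) from (map_prod MvPolynomial.C _ _).symm,
        h1 I, GF.prod_X_eq_monomial]
    rw [e1]
    ext μ
    rw [MvPolynomial.coeff_sum, MvPolynomial.coeff_zero]
    have h3 : ∀ I : Fin d → Fin n, MvPolynomial.coeff μ
        (MvPolynomial.C (a I * w) * MvPolynomial.monomial (GF.typ I) (1 : R)) =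
        (if GF.typ I = μ then a I else 0) * w := by
      intro I
      rw [MvPolynomial.coeff_C_mul, MvPolynomial.coeff_monomial]
      by_cases h : GF.typ I = μ
      · rw [if_pos h, if_pos h, mul_one]
      · rw [if_neg h, if_neg h, mul_zero, zero_mul]
    rw [Finset.sum_congr rfl (fun I _ => h3 I), ← Finset.sum_mul, h2 μ, zero_mul]
  obtain ⟨i, -, hi⟩ := Finset.prod_eq_zero_iff.mp hprod
  refine ⟨i, fun j => ?_⟩
  rw [← coeff_linForm y i j, hi, MvPolynomial.coeff_zero]

end Poly

section Rad
variable {R : Type*} [CommRing R]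

theorem pow_mem_of_forall_prime (I : Ideal R) (x : R)
    (h : ∀ q : Ideal R, q.IsPrime → I ≤ q → x ∈ q) : ∃ m : ℕ, 0 < m ∧ x ^ m ∈ I := by
  have hrad : x ∈ I.radical := by
    rw [Ideal.radical_eq_sInf, Ideal.mem_sInf]
    rintro q ⟨hIq, hq⟩
    exact h q hq hIq
  obtain ⟨m, hm⟩ := Ideal.mem_radical_iff.mp hrad
  rcases Nat.eq_zero_or_pos m with h0 | hpos
  · refine ⟨1, Nat.one_pos, ?_⟩
    rw [h0, pow_zero] at hm
    rw [(Ideal.eq_top_iff_one I).mpr hm]
    exact Submodule.mem_top
  · exact ⟨m, hpos, hm⟩

end Rad

end Groth.Agent.Helper22.SG
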