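import Mathlib
import Groth.Prelude.Def_SymTen
import Groth.Agent.Lib.Helper22.GF01
import Groth.Agent.Lib.Helper22.SG01

set_option maxHeartbeats 1600000
set_option autoImplicit false

universe u

open scoped TensorProduct

namespace Groth.Agent.Helper22.SG

open Classical
open Pointwise

section Perm
variable {A B : Type u} [CommRing A] [CommRing B] [Algebra A B] (d : ℕ)

theorem perm_perm' (σ τ : Equiv.Perm (Fin d)) (t : ⨂[A] _ : Fin d, B) :
    SymTen.perm A B d σ (SymTen.perm A B d τ t) = SymTen.perm A B d (σ * τ) t := by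
  induction t using PiTensorProduct.induction_on with
  | smul_tprod r c =>
    rw [map_smul, map_smul, map_smul, SymTen.perm_tprod, SymTen.perm_tprod, SymTen.perm_tprod]
    rfl
  | add x y hx hy => rw [map_add, map_add, map_add, hx, hy]

theorem perm_one' (t : ⨂[A] _ : Fin d, B) : SymTen.perm A B d 1 t = t := by
  induction t using PiTensorProduct.induction_on with
  | smul_tprod r c =>
    rw [map_smul, SymTen.perm_tprod]
    rfl
  | add x y hx hy => rw [map_add, hx, hy]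

theorem typsum_mem_TS {n : ℕ} (x : Fin n → B) (μ : Fin n →₀ ℕ) :
    (∑ I : Fin d → Fin n, if GF.typ I = μ then PiTensorProduct.tprod A (fun l => x (I l)) else 0) ∈
      SymTen.TS A B d := by
  rw [SymTen.mem_TS_iff]
  intro σ
  rw [← SymTen.perm_apply, map_sum]
  have h : ∀ I : Fin d → Fin n,
      SymTen.perm A B d σ
        (if GF.typ I = μ then PiTensorProduct.tprod A (fun l => x (I l)) else 0) =
      (fun I' : Fin d → Fin n =>
        if GF.typ I' = μ then PiTensorProduct.tprod A (fun l => x (I' l)) else 0)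
        ((Equiv.arrowCongr σ (Equiv.refl (Fin n))) I) := by
    intro I
    have ht : GF.typ ((Equiv.arrowCongr σ (Equiv.refl (Fin n))) I) = GF.typ I :=
      GF.typ_comp_perm I σ.symm
    show _ = if GF.typ ((Equiv.arrowCongr σ (Equiv.refl (Fin n))) I) = μ then _ else 0
    rw [ht]
    by_cases hI : GF.typ I = μ
    · rw [if_pos hI, if_pos hI, SymTen.perm_tprod]
      rfl
    · rw [if_neg hI, if_neg hI, map_zero]
  rw [Finset.sum_congr rfl (fun I _ => h I)]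
  exact Equiv.sum_comp (Equiv.arrowCongr σ (Equiv.refl (Fin n)))
    (fun I' : Fin d → Fin n =>
      if GF.typ I' = μ then PiTensorProduct.tprod A (fun l => x (I' l)) else 0)

end Perm

section Main
variable {A B : Type u} [CommRing A] [CommRing B] [Algebra A B] (𝒜 : ℕ → Submodule A B)
  [GradedAlgebra 𝒜] (d : ℕ)

/-- the generating pure tensors (all entries of the same degree) -/
def gens : Set (⨂[A] _ : Fin d, B) :=
  {t | ∃ (k : ℕ) (b : Fin d → B), (∀ i, b i ∈ 𝒜 k) ∧ t = PiTensorProduct.tprod A b}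

/-- the Segre-type subalgebra `C` -/
def CC : Subalgebra A (⨂[A] _ : Fin d, B) := Algebra.adjoin A (gens 𝒜 d)

/-- `D = C ∩ TS` -/
noncomputable def DD : Subalgebra A (⨂[A] _ : Fin d, B) := CC 𝒜 d ⊓ SymTen.TS A B d

theorem tprod_mem_CC {k : ℕ} {b : Fin d → B} (hb : ∀ i, b i ∈ 𝒜 k) :
    PiTensorProduct.tprod A b ∈ CC 𝒜 d :=
  Algebra.subset_adjoin ⟨k, b, hb, rfl⟩

theorem perm_mem_CC (σ : Equiv.Perm (Fin d)) {z : ⨂[A] _ : Fin d, B} (hz : z ∈ CC 𝒜 d) :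
    SymTen.perm A B d σ z ∈ CC 𝒜 d := by
  have h : CC 𝒜 d ≤ (CC 𝒜 d).comap (SymTen.perm A B d σ) := by
    apply Algebra.adjoin_le
    rintro _ ⟨k, b, hb, rfl⟩
    show SymTen.perm A B d σ (PiTensorProduct.tprod A b) ∈ CC 𝒜 d
    rw [SymTen.perm_tprod]
    exact tprod_mem_CC 𝒜 d (fun i => hb (σ.symm i))
  exact h hz

/-- the inclusion `D → C` -/
noncomputable def incl : ↥(DD 𝒜 d) →ₐ[A] ↥(CC 𝒜 d) := Subalgebra.inclusion inf_le_left

theorem isIntegral_incl (x : ↥(CC 𝒜 d)) : (incl 𝒜 d).toRingHom.IsIntegralElem x := by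
  rcases subsingleton_or_nontrivial (⨂[A] _ : Fin d, B) with hsub | hnt
  · refine ⟨1, Polynomial.monic_one, ?_⟩
    apply Subtype.ext
    exact Subsingleton.elim _ _
  · obtain ⟨x, hx⟩ := x
    obtain ⟨P, hP⟩ : ∃ P : Polynomial (⨂[A] _ : Fin d, B), P =
        ∏ σ : Equiv.Perm (Fin d), (Polynomial.X - Polynomial.C (SymTen.perm A B d σ x)) :=
      ⟨_, rfl⟩
    have hmonic : P.Monic := by
      rw [hP]
      exact Polynomial.monic_prod_of_monic _ _ (fun σ _ => Polynomial.monic_X_sub_C _)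
    have hcoefC : ∀ n, P.coeff n ∈ CC 𝒜 d := by
      have hmem : P ∈ Polynomial.lifts (CC 𝒜 d).val.toRingHom := by
        rw [hP]
        apply prod_mem
        intro σ _
        have h1 : (Polynomial.X : Polynomial (⨂[A] _ : Fin d, B)) ∈
            Polynomial.lifts (CC 𝒜 d).val.toRingHom := Polynomial.X_mem_lifts _
        have h2 : Polynomial.C (-(SymTen.perm A B d σ x)) ∈
            Polynomial.lifts (CC 𝒜 d).val.toRingHom :=
          Polynomial.C_mem_lifts (CC 𝒜 d).val.toRingHom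
            ⟨-(SymTen.perm A B d σ x), neg_mem (perm_mem_CC 𝒜 d σ hx)⟩
        have h3 := add_mem h1 h2
        rwa [Polynomial.C_neg, ← sub_eq_add_neg] at h3
      intro n
      obtain ⟨y, hy⟩ := (Polynomial.lifts_iff_coeff_lifts P).mp hmem n
      rw [← hy]
      exact y.2
    have hcoefS : ∀ n, P.coeff n ∈ SymTen.TS A B d := by
      intro n
      rw [SymTen.mem_TS_iff]
      intro τ
      rw [← SymTen.perm_apply]
      have hmap : Polynomial.map (SymTen.perm A B d τ).toRingHom P = P := by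
        rw [hP, Polynomial.map_prod]
        have h4 : ∀ σ : Equiv.Perm (Fin d),
            Polynomial.map (SymTen.perm A B d τ).toRingHom
              (Polynomial.X - Polynomial.C (SymTen.perm A B d σ x)) =
            (fun σ' : Equiv.Perm (Fin d) =>
              Polynomial.X - Polynomial.C (SymTen.perm A B d σ' x)) (Equiv.mulLeft τ σ) := by
          intro σ
          rw [Polynomial.map_sub, Polynomial.map_X, Polynomial.map_C]
          show _ - Polynomial.C (SymTen.perm A B d τ (SymTen.perm A B d σ x)) = _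
          rw [perm_perm']
          rfl
        rw [Finset.prod_congr rfl (fun σ _ => h4 σ)]
        exact Equiv.prod_comp (Equiv.mulLeft τ)
          (fun σ' : Equiv.Perm (Fin d) =>
            Polynomial.X - Polynomial.C (SymTen.perm A B d σ' x))
      have h5 := congrArg (fun Q => Polynomial.coeff Q n) hmap
      simp only [Polynomial.coeff_map] at h5
      exact h5
    have hmemD : P ∈ Polynomial.lifts (DD 𝒜 d).val.toRingHom := by
      rw [Polynomial.lifts_iff_coeff_lifts]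
      intro n
      exact ⟨⟨P.coeff n, Algebra.mem_inf.mpr ⟨hcoefC n, hcoefS n⟩⟩, rfl⟩
    obtain ⟨p, hp, -, hpm⟩ := Polynomial.lifts_and_degree_eq_and_monic hmemD hmonic
    refine ⟨p, hpm, ?_⟩
    apply Subtype.ext
    show (CC 𝒜 d).val.toRingHom (Polynomial.eval₂ (incl 𝒜 d).toRingHom ⟨x, hx⟩ p) = 0
    rw [Polynomial.hom_eval₂]
    have hcomp : (CC 𝒜 d).val.toRingHom.comp (incl 𝒜 d).toRingHom = (DD 𝒜 d).val.toRingHom := by
      ext y
      rfl
    rw [hcomp, ← Polynomial.eval_map, hp, hP, Polynomial.eval_prod]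
    apply Finset.prod_eq_zero (Finset.mem_univ (1 : Equiv.Perm (Fin d)))
    rw [perm_one', Polynomial.eval_sub, Polynomial.eval_X, Polynomial.eval_C]
    exact sub_self _

theorem exists_prime_over (q : Ideal ↥(DD 𝒜 d)) [q.IsPrime] :
    ∃ Q : Ideal ↥(CC 𝒜 d), Q.IsPrime ∧ ∀ y : ↥(DD 𝒜 d), incl 𝒜 d y ∈ Q ↔ y ∈ q := by
  letI : Algebra ↥(DD 𝒜 d) ↥(CC 𝒜 d) := (incl 𝒜 d).toRingHom.toAlgebra
  haveI : Algebra.IsIntegral ↥(DD 𝒜 d) ↥(CC 𝒜 d) := ⟨fun x => isIntegral_incl 𝒜 d x⟩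
  have hbot : Ideal.comap (algebraMap ↥(DD 𝒜 d) ↥(CC 𝒜 d)) ⊥ ≤ q := by
    intro y hy
    rw [Ideal.mem_comap, Ideal.mem_bot] at hy
    have h0 : y = 0 := by
      apply Subtype.ext
      have h' := congrArg Subtype.val hy
      exact h'
    rw [h0]
    exact zero_mem _
  obtain ⟨Q, -, hQ, hQq⟩ := Ideal.exists_ideal_over_prime_of_isIntegral q ⊥ hbot
  refine ⟨Q, hQ, fun y => ?_⟩
  rw [← hQq, Ideal.mem_comap]
  rfl

/-- image of an ideal of `C` in the tensor power -/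
def QQ (Q : Ideal ↥(CC 𝒜 d)) : Submodule A (⨂[A] _ : Fin d, B) :=
  (Q.restrictScalars A).map (CC 𝒜 d).val.toLinearMap

theorem mem_QQ (Q : Ideal ↥(CC 𝒜 d)) {z : ⨂[A] _ : Fin d, B} (hz : z ∈ CC 𝒜 d) :
    z ∈ QQ 𝒜 d Q ↔ (⟨z, hz⟩ : ↥(CC 𝒜 d)) ∈ Q := by
  constructor
  · rintro ⟨y, hy, hyz⟩
    have h : (⟨z, hz⟩ : ↥(CC 𝒜 d)) = y := Subtype.ext hyz.symm
    rw [h]
    exact hy
  · intro h
    exact ⟨⟨z, hz⟩, h, rfl⟩

theorem QQ_le (Q : Ideal ↥(CC 𝒜 d)) {z : ⨂[A] _ : Fin d, B} (hz : z ∈ QQ 𝒜 d Q) :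
    z ∈ CC 𝒜 d := by
  obtain ⟨y, -, rfl⟩ := hz
  exact y.2

theorem QQ_mul (Q : Ideal ↥(CC 𝒜 d)) {z w : ⨂[A] _ : Fin d, B} (hz : z ∈ QQ 𝒜 d Q)
    (hw : w ∈ CC 𝒜 d) : z * w ∈ QQ 𝒜 d Q := by
  have hzC := QQ_le 𝒜 d Q hz
  rw [mem_QQ 𝒜 d Q (mul_mem hzC hw)]
  exact Q.mul_mem_right ⟨w, hw⟩ ((mem_QQ 𝒜 d Q hzC).mp hz)

theorem QQ_prime (Q : Ideal ↥(CC 𝒜 d)) [hQ : Q.IsPrime] {z w : ⨂[A] _ : Fin d, B}
    (hz : z ∈ CC 𝒜 d) (hw : w ∈ CC 𝒜 d) (h : z * w ∈ QQ 𝒜 d Q) :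
    z ∈ QQ 𝒜 d Q ∨ w ∈ QQ 𝒜 d Q := by
  rw [mem_QQ 𝒜 d Q (mul_mem hz hw)] at h
  rw [mem_QQ 𝒜 d Q hz, mem_QQ 𝒜 d Q hw]
  exact hQ.mem_or_mem h

variable (A) {d}

/-- `c₁ⁿ ⊗ ⋯ ⊗ b ⊗ ⋯ ⊗ c_dⁿ` with `b` in position `i` -/
noncomputable def EE (c : Fin d → B) (i : Fin d) (n : ℕ) (b : B) : ⨂[A] _ : Fin d, B :=
  PiTensorProduct.tprod A (Function.update (fun l => c l ^ n) i b)

variable {A}

theorem EE_mem (c : Fin d → B) (hc : ∀ l, c l ∈ 𝒜 1) (i : Fin d) (n : ℕ) (b : B) (hb : b ∈ 𝒜 n) :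
    EE A c i n b ∈ CC 𝒜 d := by
  apply tprod_mem_CC 𝒜 d (k := n)
  intro l
  by_cases hl : l = i
  · rw [hl, Function.update_self]
    exact hb
  · rw [Function.update_of_ne hl]
    have h := SetLike.pow_mem_graded n (hc l)
    rwa [smul_eq_mul, mul_one] at h

theorem EE_add (c : Fin d → B) (i : Fin d) (n : ℕ) (x y : B) :
    EE A c i n (x + y) = EE A c i n x + EE A c i n y :=
  MultilinearMap.map_update_add _ _ _ _ _

theorem EE_mul (c : Fin d → B) (i : Fin d) (n m : ℕ) (x y : B) :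
    EE A c i (n + m) (x * y) = EE A c i n x * EE A c i m y := by
  unfold EE
  rw [PiTensorProduct.tprod_mul_tprod]
  congr 1
  funext l
  by_cases hl : l = i
  · rw [hl, Pi.mul_apply, Function.update_self, Function.update_self, Function.update_self]
  · rw [Pi.mul_apply, Function.update_of_ne hl, Function.update_of_ne hl,
      Function.update_of_ne hl, pow_add]

theorem EE_self (c : Fin d → B) (i : Fin d) : EE A c i 1 (c i) = PiTensorProduct.tprod A c := by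
  unfold EE
  congr 1
  funext l
  by_cases hl : l = i
  · rw [hl, Function.update_self]
  · rw [Function.update_of_ne hl, pow_one]

theorem prod_EE (c : Fin d → B) (n : ℕ) (b : Fin d → B) :
    ∏ i, EE A c i n (b i) =
      PiTensorProduct.tprod A b * PiTensorProduct.tprod A (fun l => (c l ^ n) ^ (d - 1)) := by
  unfold EE
  rw [← PiTensorProduct.tprod_prod, PiTensorProduct.tprod_mul_tprod]
  congr 1
  funext l
  rw [Finset.prod_apply, Pi.mul_apply]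
  have h1 : ∀ i ∈ Finset.univ.erase l,
      Function.update (fun l => c l ^ n) i (b i) l = c l ^ n := by
    intro i hi
    exact Function.update_of_ne (Finset.ne_of_mem_erase hi).symm _ _
  rw [← Finset.mul_prod_erase Finset.univ _ (Finset.mem_univ l), Function.update_self,
    Finset.prod_congr rfl h1, Finset.prod_const, Finset.card_erase_of_mem (Finset.mem_univ l),
    Finset.card_univ, Fintype.card_fin]

theorem w_mem (c : Fin d → B) (hc : ∀ l, c l ∈ 𝒜 1) (n : ℕ) :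
    PiTensorProduct.tprod A (fun l => (c l ^ n) ^ (d - 1)) ∈ CC 𝒜 d :=
  tprod_mem_CC 𝒜 d (k := (d - 1) • (n • 1))
    (fun l => SetLike.pow_mem_graded _ (SetLike.pow_mem_graded _ (hc l)))

theorem N_add (Q : Ideal ↥(CC 𝒜 d)) (c : Fin d → B) (i : Fin d) (n : ℕ) (x y : B)
    (hx : EE A c i n x ∉ QQ 𝒜 d Q) (hy : ¬ (EE A c i n y ∉ QQ 𝒜 d Q)) :
    EE A c i n (x + y) ∉ QQ 𝒜 d Q := by
  rw [not_not] at hy
  intro h
  apply hx
  have h' := sub_mem h hy
  rwa [EE_add, add_sub_cancel_right] at h'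

theorem N_mul (Q : Ideal ↥(CC 𝒜 d)) [Q.IsPrime] (c : Fin d → B) (hc : ∀ l, c l ∈ 𝒜 1)
    (i : Fin d) (n m : ℕ) (x y : B) (hx : x ∈ 𝒜 n) (hy : y ∈ 𝒜 m) :
    EE A c i (n + m) (x * y) ∉ QQ 𝒜 d Q ↔
      EE A c i n x ∉ QQ 𝒜 d Q ∧ EE A c i m y ∉ QQ 𝒜 d Q := by
  rw [EE_mul]
  have hxC := EE_mem 𝒜 c hc i n x hx
  have hyC := EE_mem 𝒜 c hc i m y hy
  constructor
  · intro h
    refine ⟨fun h1 => h (QQ_mul 𝒜 d Q h1 hyC), fun h2 => h ?_⟩
    rw [mul_comm]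
    exact QQ_mul 𝒜 d Q h2 hxC
  · rintro ⟨h1, h2⟩ h
    rcases QQ_prime 𝒜 d Q hxC hyC h with h' | h'
    · exact h1 h'
    · exact h2 h'

/-- if all `E_i(f)` avoid `Q` then `f ⊗ ⋯ ⊗ f` avoids `Q` -/
theorem tpow_not_mem (Q : Ideal ↥(CC 𝒜 d)) [hQ : Q.IsPrime] (c : Fin d → B)
    (hc : ∀ l, c l ∈ 𝒜 1) (n : ℕ) (f : B) (hf : f ∈ 𝒜 n)
    (h : ∀ i, EE A c i n f ∉ QQ 𝒜 d Q) :
    PiTensorProduct.tprod A (fun _ : Fin d => f) ∉ QQ 𝒜 d Q := by
  intro hcon
  have hw := w_mem 𝒜 c hc n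
  have hE : ∀ i, EE A c i n f ∈ CC 𝒜 d := fun i => EE_mem 𝒜 c hc i n f hf
  have hprod : ∏ i, EE A c i n f ∈ QQ 𝒜 d Q := by
    rw [prod_EE]
    exact QQ_mul 𝒜 d Q hcon hw
  have hprod' : ∏ i, (⟨EE A c i n f, hE i⟩ : ↥(CC 𝒜 d)) ∈ Q := by
    have hmemC : ∏ i, EE A c i n f ∈ CC 𝒜 d := prod_mem (fun i _ => hE i)
    have h3 := (mem_QQ 𝒜 d Q hmemC).mp hprod
    have h4 : (⟨∏ i, EE A c i n f, hmemC⟩ : ↥(CC 𝒜 d)) =
        ∏ i, (⟨EE A c i n f, hE i⟩ : ↥(CC 𝒜 d)) := by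
      apply Subtype.ext
      rw [SubmonoidClass.coe_finset_prod]
    rwa [h4] at h3
  obtain ⟨i, -, hi⟩ := (Ideal.IsPrime.prod_mem_iff).mp hprod'
  exact h i ((mem_QQ 𝒜 d Q (hE i)).mpr hi)

variable (d)

theorem main_core (hgen : Algebra.adjoin A (𝒜 1 : Set B) = ⊤) (q : Ideal ↥(DD 𝒜 d)) [q.IsPrime]
    (k : ℕ) (hk : 0 < k) (t : ⨂[A] _ : Fin d, B) (htD : t ∈ DD 𝒜 d)
    (htk : t ∈ Submodule.span A
      {s | ∃ b : Fin d → B, (∀ i, b i ∈ 𝒜 k) ∧ s = PiTensorProduct.tprod A b})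
    (htq : (⟨t, htD⟩ : ↥(DD 𝒜 d)) ∉ q) :
    ∃ Q : Ideal ↥(CC 𝒜 d), Q.IsPrime ∧
      (∀ y : ↥(DD 𝒜 d), y ∈ q → (y : ⨂[A] _ : Fin d, B) ∈ QQ 𝒜 d Q) ∧
      ∃ c : Fin d → B, (∀ l, c l ∈ 𝒜 1) ∧ PiTensorProduct.tprod A c ∉ QQ 𝒜 d Q := by
  obtain ⟨Q, hQ, hQq⟩ := exists_prime_over 𝒜 d q
  refine ⟨Q, hQ, ?_, ?_⟩
  · intro y hy
    have hyC : (y : ⨂[A] _ : Fin d, B) ∈ CC 𝒜 d := (Algebra.mem_inf.mp y.2).1
    rw [mem_QQ 𝒜 d Q hyC]
    exact (hQq y).mpr hy
  · by_contra hcon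
    have hcon' : ∀ c : Fin d → B, (∀ l, c l ∈ 𝒜 1) → PiTensorProduct.tprod A c ∈ QQ 𝒜 d Q := by
      intro c hc
      by_contra hcc
      exact hcon ⟨c, hc, hcc⟩
    apply htq
    rw [← hQq]
    have htC : t ∈ CC 𝒜 d := (Algebra.mem_inf.mp htD).1
    have h1 : t ∈ QQ 𝒜 d Q := by
      refine Submodule.span_le.mpr ?_ htk
      rintro _ ⟨b, hb, rfl⟩
      apply tprod_mem_of_span (fun _ => ((𝒜 (k - 1) : Set B) * (𝒜 1 : Set B))) (QQ 𝒜 d Q)
      · intro b' hb'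
        choose u hu v hv huv using fun i => Set.mem_mul.mp (hb' i)
        have h2 : b' = u * v := by
          funext i
          exact (huv i).symm
        rw [h2, ← PiTensorProduct.tprod_mul_tprod, mul_comm]
        exact QQ_mul 𝒜 d Q (hcon' v hv) (tprod_mem_CC 𝒜 d hu)
      · intro i
        show b i ∈ Submodule.span A ((𝒜 (k - 1) : Set B) * (𝒜 1 : Set B))
        rw [← Submodule.mul_eq_span_mul_set]
        exact le_mul_degOne 𝒜 hgen k hk (hb i)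
    exact (mem_QQ 𝒜 d Q htC).mp h1

end Main

end Groth.Agent.Helper22.SG
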