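import Groth.Agent.Lib.Helper22.GF11
import Groth.Agent.Lib.Helper22.SG02

set_option maxHeartbeats 1600000
set_option autoImplicit false

universe u
open scoped TensorProduct
open Classical

namespace Groth.Agent.Helper22.FT

open Groth.Agent.Helper22.GF

section Integral
variable {A B : Type u} [CommRing A] [CommRing B] [Algebra A B] (d : ℕ)

/-- the tensor power is integral over the symmetric tensors -/
theorem isIntegral_TS (x : ⨂[A] _ : Fin d, B) : IsIntegral ↥(SymTen.TS A B d) x := by
  rcases subsingleton_or_nontrivial (⨂[A] _ : Fin d, B) with hsub | hnt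
  · refine ⟨1, Polynomial.monic_one, ?_⟩
    exact Subsingleton.elim _ _
  · obtain ⟨P, hP⟩ : ∃ P : Polynomial (⨂[A] _ : Fin d, B), P =
        ∏ σ : Equiv.Perm (Fin d), (Polynomial.X - Polynomial.C (SymTen.perm A B d σ x)) :=
      ⟨_, rfl⟩
    have hmonic : P.Monic := by
      rw [hP]
      exact Polynomial.monic_prod_of_monic _ _ (fun σ _ => Polynomial.monic_X_sub_C _)
    have hcoefS : ∀ n, P.coeff n ∈ SymTen.TS A B d := by
      intro n
      rw [SymTen.mem_TS_iff]
      intro τ
      rw [← SymTen.perm_apply]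
      have hmap : Polynomial.map (SymTen.perm A B d τ).toRingHom P = P := by
        rw [hP, Polynomial.map_prod]
        have h4 : ∀ σ : Equiv.Perm (Fin d),
            Polynomial.map (SymTen.perm A B d τ).toRingHom
              (Polynomial.X - Polynomial.C (SymTen.perm A B d σ x)) =
            (fun σ' : Equiv.Perm (Fin d) =>
              Polynomial.X - Polynomial.C (SymTen.perm A B d σ' x)) (Equiv.mulLeft τ σ) := by
          intro σ
          rw [Polynomial.map_sub, Polynomial.map_X, Polynomial.map_C]
          show _ - Polynomial.C (SymTen.perm A B d τ (SymTen.perm A B d σ x)) = _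
          rw [SG.perm_perm']
          rfl
        rw [Finset.prod_congr rfl (fun σ _ => h4 σ)]
        exact Equiv.prod_comp (Equiv.mulLeft τ)
          (fun σ' : Equiv.Perm (Fin d) =>
            Polynomial.X - Polynomial.C (SymTen.perm A B d σ' x))
      have h5 := congrArg (fun Q => Polynomial.coeff Q n) hmap
      simp only [Polynomial.coeff_map] at h5
      exact h5
    have hmemD : P ∈ Polynomial.lifts (SymTen.TS A B d).val.toRingHom := by
      rw [Polynomial.lifts_iff_coeff_lifts]
      intro n
      exact ⟨⟨P.coeff n, hcoefS n⟩, rfl⟩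
    obtain ⟨p, hp, -, hpm⟩ := Polynomial.lifts_and_degree_eq_and_monic hmemD hmonic
    refine ⟨p, hpm, ?_⟩
    have hp' : Polynomial.map (algebraMap ↥(SymTen.TS A B d) (⨂[A] _ : Fin d, B)) p = P := hp
    rw [← Polynomial.eval_map, hp', hP, Polynomial.eval_prod]
    apply Finset.prod_eq_zero (Finset.mem_univ (1 : Equiv.Perm (Fin d)))
    rw [SG.perm_one', Polynomial.eval_sub, Polynomial.eval_X, Polynomial.eval_C]
    exact sub_self _

end Integral

section FinType
variable {R : Type u} [CommRing R] {Q : Type u} [CommRing Q] [Algebra R Q] (d : ℕ)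

/-- a tensor power of a finitely generated algebra is finitely generated -/
theorem finiteType_tensorPower [hQ : Algebra.FiniteType R Q] :
    Algebra.FiniteType R (⨂[R] _ : Fin d, Q) := by
  obtain ⟨s, hs⟩ := hQ.out
  obtain ⟨t, ht⟩ : ∃ t : Set (⨂[R] _ : Fin d, Q), t = ⋃ i : Fin d,
      (PiTensorProduct.singleAlgHom (R := R) (A := fun _ : Fin d => Q) i) '' (↑s : Set Q) :=
    ⟨_, rfl⟩
  have htfin : t.Finite := by
    rw [ht]
    exact Set.finite_iUnion (fun i => (s.finite_toSet).image _)
  have hkey : ∀ (j : Fin d) (q : Q),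
      PiTensorProduct.singleAlgHom (R := R) (A := fun _ : Fin d => Q) j q ∈ Algebra.adjoin R t := by
    intro j q
    have hq : q ∈ Algebra.adjoin R (↑s : Set Q) := by
      rw [hs]
      exact Algebra.mem_top
    have h1 : (Algebra.adjoin R (↑s : Set Q)).map
        (PiTensorProduct.singleAlgHom (R := R) (A := fun _ : Fin d => Q) j) ≤
        Algebra.adjoin R t := by
      rw [AlgHom.map_adjoin]
      apply Algebra.adjoin_mono
      intro y hy
      rw [ht]
      exact Set.mem_iUnion.mpr ⟨j, hy⟩
    exact h1 (Subalgebra.mem_map.mpr ⟨q, hq, rfl⟩)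
  refine ⟨Subalgebra.fg_def.mpr ⟨t, htfin, ?_⟩⟩
  rw [eq_top_iff]
  intro x _
  have hx : x ∈ Submodule.span R
      (Set.range (PiTensorProduct.tprod R (s := fun _ : Fin d => Q))) := by
    rw [PiTensorProduct.span_tprod_eq_top]
    exact Submodule.mem_top
  have hle : Submodule.span R (Set.range (PiTensorProduct.tprod R (s := fun _ : Fin d => Q))) ≤
      Subalgebra.toSubmodule (Algebra.adjoin R t) := by
    rw [Submodule.span_le]
    rintro _ ⟨z, rfl⟩
    show PiTensorProduct.tprod R z ∈ Algebra.adjoin R t
    rw [← prod_single_eq_tprod d z]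
    exact Subalgebra.prod_mem _ (fun j _ => hkey j (z j))
  exact hle hx

/-- Noether's theorem via Artin--Tate: over a noetherian base the symmetric tensors of a finitely
generated algebra are finitely generated -/
theorem fg_TS_noeth [IsNoetherianRing R] [Algebra.FiniteType R Q] :
    (⊤ : Subalgebra R ↥(SymTen.TS R Q d)).FG := by
  haveI h1 : Algebra.FiniteType R (⨂[R] _ : Fin d, Q) := finiteType_tensorPower d
  haveI h2 : Algebra.IsIntegral ↥(SymTen.TS R Q d) (⨂[R] _ : Fin d, Q) :=
    ⟨fun x => isIntegral_TS d x⟩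
  haveI h3 : Algebra.FiniteType ↥(SymTen.TS R Q d) (⨂[R] _ : Fin d, Q) :=
    Algebra.FiniteType.of_restrictScalars_finiteType R ↥(SymTen.TS R Q d) (⨂[R] _ : Fin d, Q)
  haveI h4 : Module.Finite ↥(SymTen.TS R Q d) (⨂[R] _ : Fin d, Q) := Algebra.IsIntegral.finite
  exact fg_of_fg_of_fg R ↥(SymTen.TS R Q d) (⨂[R] _ : Fin d, Q) h1.out Module.Finite.fg_top
    (fun x y h => Subtype.ext h)

end FinType

section Psi
variable {R : Type u} [CommRing R] {A : Type u} [CommRing A] [Algebra R A]
  {Q : Type u} [CommRing Q] [Algebra R Q] {P : Type u} [CommRing P] [Algebra A P] [Algebra R P]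
  [IsScalarTower R A P] (j : Q →ₐ[R] P) (d : ℕ)

/-- the comparison map between tensor powers over different base rings -/
noncomputable def Psi : (⨂[R] _ : Fin d, Q) →ₐ[R] (⨂[A] _ : Fin d, P) :=
  PiTensorProduct.liftAlgHom
    (((PiTensorProduct.tprod A (s := fun _ : Fin d => P)).restrictScalars R).compLinearMap
      (fun _ => j.toLinearMap))
    (by
      show PiTensorProduct.tprod A (fun i : Fin d => j ((1 : Fin d → Q) i)) = 1
      rw [PiTensorProduct.one_def]
      congr 1
      funext i
      exact map_one j)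
    (by
      intro x y
      show PiTensorProduct.tprod A (fun i : Fin d => j ((x * y) i)) =
        PiTensorProduct.tprod A (fun i : Fin d => j (x i)) *
          PiTensorProduct.tprod A (fun i : Fin d => j (y i))
      rw [PiTensorProduct.tprod_mul_tprod]
      congr 1
      funext i
      exact map_mul j (x i) (y i))

theorem Psi_tprod (z : Fin d → Q) :
    Psi (A := A) j d (PiTensorProduct.tprod R z) = PiTensorProduct.tprod A (fun i => j (z i)) := by
  unfold Psi
  rw [PiTensorProduct.liftAlgHom_apply, PiTensorProduct.lift.tprod]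
  rfl

theorem Psi_perm (σ : Equiv.Perm (Fin d)) (x : ⨂[R] _ : Fin d, Q) :
    Psi (A := A) j d (SymTen.perm R Q d σ x) = SymTen.perm A P d σ (Psi (A := A) j d x) := by
  induction x using PiTensorProduct.induction_on with
  | smul_tprod r z =>
    have h1 : SymTen.perm R Q d σ (r • PiTensorProduct.tprod R z) =
        r • PiTensorProduct.tprod R (fun i => z (σ.symm i)) := by
      rw [map_smul, SymTen.perm_tprod]
    have h2 : Psi (A := A) j d (r • PiTensorProduct.tprod R z) =
        r • PiTensorProduct.tprod A (fun i => j (z i)) := by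
      rw [map_smul, Psi_tprod]
    have h3 : Psi (A := A) j d (r • PiTensorProduct.tprod R (fun i => z (σ.symm i))) =
        r • PiTensorProduct.tprod A (fun i => j (z (σ.symm i))) := by
      rw [map_smul, Psi_tprod]
    have h4 : SymTen.perm A P d σ (r • PiTensorProduct.tprod A (fun i => j (z i))) =
        r • PiTensorProduct.tprod A (fun i => j (z (σ.symm i))) := by
      have h5 := LinearMap.map_smul_of_tower (SymTen.perm A P d σ).toLinearMap r
        (PiTensorProduct.tprod A (fun i => j (z i)))
      rw [AlgHom.toLinearMap_apply, AlgHom.toLinearMap_apply, SymTen.perm_tprod] at h5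
      exact h5
    rw [h1, h3, h2, h4]
  | add x y hx hy => rw [map_add, map_add, map_add, map_add, hx, hy]

theorem Psi_mem_TS (x : ⨂[R] _ : Fin d, Q) (hx : x ∈ SymTen.TS R Q d) :
    Psi (A := A) j d x ∈ SymTen.TS A P d := by
  rw [SymTen.mem_TS_iff]
  intro σ
  rw [← SymTen.perm_apply, ← Psi_perm, SymTen.perm_apply, (SymTen.mem_TS_iff R Q d x).mp hx σ]

variable {M : Type u} (b₀ : Module.Basis M R Q) (b : Module.Basis M A P)
  (hj : ∀ m, j (b₀ m) = b m)

include hj in
theorem Psi_eB (g : Fin d → M) : Psi (A := A) j d (eB b₀ d g) = eB b d g := by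
  rw [eB_apply, eB_apply, Psi_tprod]
  congr 1
  funext i
  exact hj (g i)

include hj in
theorem Psi_orb (f : Fin d → M) : Psi (A := A) j d (orb b₀ d f) = orb b d f := by
  rw [orb_eq, orb_eq, map_sum]
  apply Finset.sum_congr rfl
  intro g _
  by_cases h : typ g = typ f
  · rw [if_pos h, if_pos h, Psi_eB j d b₀ b hj]
  · rw [if_neg h, if_neg h, map_zero]

include hj in
/-- finite generation of symmetric tensors descends from a noetherian base ring -/
theorem fg_TS_of_noeth_base [IsNoetherianRing R] [Algebra.FiniteType R Q] :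
    (SymTen.TS A P d).FG := by
  obtain ⟨G₀, hG₀⟩ := fg_TS_noeth (R := R) (Q := Q) d
  refine ⟨G₀.image (fun g => Psi (A := A) j d g.1), ?_⟩
  have key : ∀ x : ↥(SymTen.TS R Q d),
      x ∈ Algebra.adjoin R (↑G₀ : Set ↥(SymTen.TS R Q d)) →
      Psi (A := A) j d x.1 ∈ Algebra.adjoin A
        (↑(G₀.image (fun g => Psi (A := A) j d g.1)) : Set (⨂[A] _ : Fin d, P)) := by
    intro x hx
    induction hx using Algebra.adjoin_induction with
    | mem x hx =>
      apply Algebra.subset_adjoin
      rw [Finset.coe_image]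
      exact ⟨x, hx, rfl⟩
    | algebraMap r =>
      have e1 : Psi (A := A) j d ((algebraMap R ↥(SymTen.TS R Q d) r).1) =
          algebraMap A (⨂[A] _ : Fin d, P) (algebraMap R A r) := by
        show Psi (A := A) j d (algebraMap R (⨂[R] _ : Fin d, Q) r) = _
        rw [AlgHom.commutes]
        exact IsScalarTower.algebraMap_apply R A _ r
      rw [e1]
      exact Subalgebra.algebraMap_mem _ _
    | add x y hx hy ihx ihy =>
      show Psi (A := A) j d (x.1 + y.1) ∈ _
      rw [map_add]
      exact Subalgebra.add_mem _ ihx ihy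
    | mul x y hx hy ihx ihy =>
      show Psi (A := A) j d (x.1 * y.1) ∈ _
      rw [map_mul]
      exact Subalgebra.mul_mem _ ihx ihy
  apply le_antisymm
  · apply Algebra.adjoin_le
    intro y hy
    rw [Finset.coe_image] at hy
    obtain ⟨g, -, rfl⟩ := hy
    exact Psi_mem_TS j d g.1 g.2
  · intro u hu
    have h1 := mem_span_orb b d u hu
    have hle : Submodule.span A (Set.range (orb b d)) ≤
        Subalgebra.toSubmodule (Algebra.adjoin A
          (↑(G₀.image (fun g => Psi (A := A) j d g.1)) : Set (⨂[A] _ : Fin d, P))) := by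
      rw [Submodule.span_le]
      rintro _ ⟨f, rfl⟩
      show orb b d f ∈ Algebra.adjoin A _
      rw [← Psi_orb j d b₀ b hj f]
      have hmem : (⟨orb b₀ d f, orb_mem_TS b₀ d f⟩ : ↥(SymTen.TS R Q d)) ∈
          Algebra.adjoin R (↑G₀ : Set ↥(SymTen.TS R Q d)) := by
        rw [hG₀]
        exact Algebra.mem_top
      exact key _ hmem
    exact hle h1

end Psi

/-- the symmetric tensors of a polynomial ring in finitely many variables are a finitely generated
algebra, over any base ring -/
theorem fg_TS_mvPolynomial (A : Type u) [CommRing A] (ι : Type u) [Fintype ι] (d : ℕ) :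
    (SymTen.TS A (MvPolynomial ι A) d).FG := by
  obtain ⟨R₀, hR₀⟩ : ∃ R₀ : Subring A, R₀ = (Int.castRingHom A).range := ⟨_, rfl⟩
  haveI : IsNoetherianRing ↥R₀ := by
    rw [hR₀]
    exact isNoetherianRing_of_surjective ℤ _ (Int.castRingHom A).rangeRestrict
      (Int.castRingHom A).rangeRestrict_surjective
  refine fg_TS_of_noeth_base (R := ↥R₀) (A := A) (Q := MvPolynomial ι ↥R₀)
    (P := MvPolynomial ι A) (MvPolynomial.mapAlgHom (Algebra.ofId ↥R₀ A)) d
    (MvPolynomial.basisMonomials ι ↥R₀) (MvPolynomial.basisMonomials ι A) ?_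
  intro m
  rw [MvPolynomial.coe_basisMonomials, MvPolynomial.coe_basisMonomials,
    MvPolynomial.mapAlgHom_apply, MvPolynomial.map_monomial]
  congr 1

/-- S13713: the divided power algebra of a finitely generated algebra is finitely generated -/
theorem main13713 {A : Type u} [CommRing A] {B : Type u} [CommRing B] [Algebra A B]
    {C : Type u} [CommRing C] [Algebra A C] {d : ℕ} (γ : PolLaw.MulLaw A B C d)
    (hγ : PolLaw.IsGammaD γ) [hB : Algebra.FiniteType A B] : Algebra.FiniteType A C := by
  obtain ⟨ι, hι, π, hπ⟩ := Algebra.FiniteType.iff_quotient_mvPolynomial'.mp hB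
  haveI : Algebra.FiniteType A ↥(SymTen.TS A (MvPolynomial ι A) d) :=
    ⟨(Subalgebra.fg_top _).mpr (fg_TS_mvPolynomial A ι d)⟩
  apply Algebra.FiniteType.of_surjective
    (thetaAlg (MvPolynomial.basisMonomials ι A) π γ)
  intro c
  obtain ⟨u, hu, huc⟩ := thetaT_surj (MvPolynomial.basisMonomials ι A) π hπ γ hγ c
  exact ⟨⟨u, hu⟩, huc⟩

end Groth.Agent.Helper22.FT
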