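import Mathlib

/-!
# Fibre dimensions of finite modules (universe-polymorphic)

`exists_nhd_fibDim_le` is adapted from helper4's `Lib/Helper4/DRank.lean` (there for modules in the
universe of the ring); here the module may live in another universe.
-/

namespace Groth.Agent.Helper22.FibDim

open TensorProduct

universe u v w

variable {A : Type u} [CommRing A]

theorem span_tmul_eq_top_of_subsingleton {C : Type v} [AddCommGroup C] [Module A C]
    (K : Type w) [Field K] [Algebra A K] {ι : Type*} (c : ι → C)
    (h : Subsingleton (K ⊗[A] (C ⧸ Submodule.span A (Set.range c)))) :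
    Submodule.span K (Set.range fun i => (1 : K) ⊗ₜ[A] c i) = ⊤ := by
  set S := Submodule.span A (Set.range c)
  have hex := lTensor_exact K (LinearMap.exact_subtype_mkQ S) (Submodule.mkQ_surjective S)
  have h1 : S.baseChange K = ⊤ := by
    rw [eq_top_iff]
    intro v _
    have hv : (S.mkQ.lTensor K) v = 0 := Subsingleton.elim _ _
    obtain ⟨w, hw⟩ := (hex v).mp hv
    exact ⟨w, hw⟩
  rw [← h1, Submodule.baseChange_span, ← Set.range_comp]
  rfl

/-- upper semicontinuity of the fibre dimension of a finite module -/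
theorem exists_nhd_fibDim_le (C : Type v) [AddCommGroup C] [Module A C] [Module.Finite A C]
    (x : PrimeSpectrum A) :
    ∃ U : Set (PrimeSpectrum A), IsOpen U ∧ x ∈ U ∧ ∀ y ∈ U,
      Module.finrank y.asIdeal.ResidueField (y.asIdeal.ResidueField ⊗[A] C) ≤
        Module.finrank x.asIdeal.ResidueField (x.asIdeal.ResidueField ⊗[A] C) := by
  set κ := x.asIdeal.ResidueField
  set s : Set (κ ⊗[A] C) := Set.range (TensorProduct.mk A κ C 1) with hs_def
  have hs : Submodule.span κ s = ⊤ := by
    rw [hs_def, ← Set.image_univ, ← Submodule.baseChange_span, Submodule.span_univ,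
      Submodule.baseChange_top]
  obtain ⟨f, hfs, hfspan, -⟩ := Submodule.exists_fun_fin_finrank_span_eq κ s
  replace hfspan : Submodule.span κ (Set.range f) = ⊤ := hfspan.trans hs
  have hn : Module.finrank κ (Submodule.span κ s) = Module.finrank κ (κ ⊗[A] C) := by
    rw [hs, finrank_top]
  choose c hc using hfs
  have hc' : ∀ i, (1 : κ) ⊗ₜ[A] c i = f i := hc
  set S := Submodule.span A (Set.range c) with hS
  have hsub : Subsingleton (κ ⊗[A] (C ⧸ S)) := by
    have hsurj : Function.Surjective (S.mkQ.baseChange κ) :=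
      LinearMap.lTensor_surjective κ (Submodule.mkQ_surjective S)
    have hker : LinearMap.ker (S.mkQ.baseChange κ) = ⊤ := by
      rw [eq_top_iff, ← hfspan, Submodule.span_le]
      rintro _ ⟨i, rfl⟩
      rw [SetLike.mem_coe, LinearMap.mem_ker, ← hc', LinearMap.baseChange_tmul]
      have : S.mkQ (c i) = 0 :=
        (Submodule.Quotient.mk_eq_zero S).mpr (Submodule.subset_span ⟨i, rfl⟩)
      rw [this, tmul_zero]
    refine ⟨fun a b => ?_⟩
    obtain ⟨a', rfl⟩ := hsurj a
    obtain ⟨b', rfl⟩ := hsurj b
    have ha : a' ∈ LinearMap.ker (S.mkQ.baseChange κ) := hker ▸ Submodule.mem_top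
    have hb : b' ∈ LinearMap.ker (S.mkQ.baseChange κ) := hker ▸ Submodule.mem_top
    rw [LinearMap.mem_ker.mp ha, LinearMap.mem_ker.mp hb]
  refine ⟨(Module.support A (C ⧸ S))ᶜ, ?_, ?_, ?_⟩
  · rw [isOpen_compl_iff, Module.support_eq_zeroLocus]
    exact PrimeSpectrum.isClosed_zeroLocus _
  · rw [Set.mem_compl_iff, Module.mem_support_iff_nontrivial_residueField_tensorProduct,
      not_nontrivial_iff_subsingleton]
    exact hsub
  · intro y hy
    rw [Set.mem_compl_iff, Module.mem_support_iff_nontrivial_residueField_tensorProduct,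
      not_nontrivial_iff_subsingleton] at hy
    have := span_tmul_eq_top_of_subsingleton y.asIdeal.ResidueField c hy
    have h2 := finrank_le_of_span_eq_top this
    rw [Fintype.card_fin, hn] at h2
    exact h2

/-- fibre dimension count for a map `δ : M → F` into a finite free module:
`dim coker + dim M = rank F + dim ker` on each fibre. -/
theorem fib_identity {M F : Type v} [AddCommGroup M] [Module A M] [Module.Finite A M]
    [AddCommGroup F] [Module A F] [Module.Finite A F] [Module.Free A F]
    (δ : M →ₗ[A] F) (x : PrimeSpectrum A) :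
    Module.finrank x.asIdeal.ResidueField
        (x.asIdeal.ResidueField ⊗[A] (F ⧸ LinearMap.range δ)) +
      Module.finrank x.asIdeal.ResidueField (x.asIdeal.ResidueField ⊗[A] M) =
    Module.finrank A F +
      Module.finrank x.asIdeal.ResidueField
        (LinearMap.ker (δ.baseChange x.asIdeal.ResidueField)) := by
  haveI : Nontrivial A := ⟨⟨0, 1, fun h => x.2.ne_top ((Ideal.eq_top_iff_one _).mpr
    (h ▸ x.asIdeal.zero_mem))⟩⟩
  have hex : Function.Exact (δ.baseChange x.asIdeal.ResidueField) ((LinearMap.range δ).mkQ.baseChange x.asIdeal.ResidueField) :=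
    lTensor_exact x.asIdeal.ResidueField (LinearMap.exact_map_mkQ_range δ) (Submodule.mkQ_surjective _)
  have hsurj : Function.Surjective ((LinearMap.range δ).mkQ.baseChange x.asIdeal.ResidueField) :=
    LinearMap.lTensor_surjective x.asIdeal.ResidueField (Submodule.mkQ_surjective _)
  have h1 := LinearMap.finrank_range_add_finrank_ker (δ.baseChange x.asIdeal.ResidueField)
  have h2 := LinearMap.finrank_range_add_finrank_ker ((LinearMap.range δ).mkQ.baseChange x.asIdeal.ResidueField)
  have h3 : LinearMap.range ((LinearMap.range δ).mkQ.baseChange x.asIdeal.ResidueField) = ⊤ :=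
    LinearMap.range_eq_top.mpr hsurj
  have h4 : LinearMap.ker ((LinearMap.range δ).mkQ.baseChange x.asIdeal.ResidueField) =
      LinearMap.range (δ.baseChange x.asIdeal.ResidueField) := LinearMap.exact_iff.mp hex
  have h5 : Module.finrank x.asIdeal.ResidueField (x.asIdeal.ResidueField ⊗[A] F) = Module.finrank A F := Module.finrank_baseChange
  rw [h3, finrank_top, h4, h5] at h2
  omega

/-- If the fibrewise kernel dimension of `δ : M → F` is locally constant then so are the fibre
dimensions of `M` and of `coker δ`. -/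
theorem isLocallyConstant_of_ker {M F : Type v} [AddCommGroup M] [Module A M]
    [Module.Finite A M] [AddCommGroup F] [Module A F] [Module.Finite A F] [Module.Free A F]
    (δ : M →ₗ[A] F)
    (h : IsLocallyConstant (fun x : PrimeSpectrum A =>
      Module.finrank x.asIdeal.ResidueField
        (LinearMap.ker (δ.baseChange x.asIdeal.ResidueField)))) :
    IsLocallyConstant (fun x : PrimeSpectrum A =>
        Module.finrank x.asIdeal.ResidueField (x.asIdeal.ResidueField ⊗[A] M)) ∧
      IsLocallyConstant (fun x : PrimeSpectrum A =>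
        Module.finrank x.asIdeal.ResidueField
          (x.asIdeal.ResidueField ⊗[A] (F ⧸ LinearMap.range δ))) := by
  have key : ∀ x : PrimeSpectrum A, ∃ U : Set (PrimeSpectrum A), IsOpen U ∧ x ∈ U ∧ ∀ y ∈ U,
      Module.finrank y.asIdeal.ResidueField (y.asIdeal.ResidueField ⊗[A] M) =
        Module.finrank x.asIdeal.ResidueField (x.asIdeal.ResidueField ⊗[A] M) ∧
      Module.finrank y.asIdeal.ResidueField
          (y.asIdeal.ResidueField ⊗[A] (F ⧸ LinearMap.range δ)) =
        Module.finrank x.asIdeal.ResidueField
          (x.asIdeal.ResidueField ⊗[A] (F ⧸ LinearMap.range δ)) := by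
    intro x
    obtain ⟨U1, hU1, hx1, h1⟩ := exists_nhd_fibDim_le M x
    obtain ⟨U2, hU2, hx2, h2⟩ := exists_nhd_fibDim_le (F ⧸ LinearMap.range δ) x
    refine ⟨U1 ∩ U2 ∩ _, (hU1.inter hU2).inter (h.isOpen_fiber
      (Module.finrank x.asIdeal.ResidueField
        (LinearMap.ker (δ.baseChange x.asIdeal.ResidueField)))), ⟨⟨hx1, hx2⟩, rfl⟩, ?_⟩
    rintro y ⟨⟨hy1, hy2⟩, hy3⟩
    have hy3' : Module.finrank y.asIdeal.ResidueField
        (LinearMap.ker (δ.baseChange y.asIdeal.ResidueField)) =
      Module.finrank x.asIdeal.ResidueField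
        (LinearMap.ker (δ.baseChange x.asIdeal.ResidueField)) := hy3
    have ky := fib_identity δ y
    have kx := fib_identity δ x
    have a1 := h1 y hy1
    have a2 := h2 y hy2
    constructor <;> omega
  constructor
  · rw [IsLocallyConstant.iff_exists_open]
    intro x
    obtain ⟨U, hU, hxU, hy⟩ := key x
    exact ⟨U, hU, hxU, fun y hyU => (hy y hyU).1⟩
  · rw [IsLocallyConstant.iff_exists_open]
    intro x
    obtain ⟨U, hU, hxU, hy⟩ := key x
    exact ⟨U, hU, hxU, fun y hyU => (hy y hyU).2⟩

end Groth.Agent.Helper22.FibDim
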