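import Mathlib
import Groth.Agent.Lib.Helper22.FibDim

/-!
# Constructibility of fibre dimensions and of the dimension of the span of a fibrewise action
-/

namespace Groth.Agent.Helper22.FibCons

open TensorProduct

universe u v w

variable {A : Type u} [CommRing A]

/-- fibre dimension function of a module on `Spec A` -/
noncomputable def fd (N : Type v) [AddCommGroup N] [Module A N] (p : PrimeSpectrum A) : ℕ :=
  Module.finrank p.asIdeal.ResidueField (p.asIdeal.ResidueField ⊗[A] N)

theorem isOpen_fd_le (N : Type v) [AddCommGroup N] [Module A N] [Module.Finite A N] (b : ℕ) :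
    IsOpen {p : PrimeSpectrum A | fd N p ≤ b} := by
  rw [isOpen_iff_forall_mem_open]
  intro x hx
  obtain ⟨U, hU, hxU, hy⟩ := FibDim.exists_nhd_fibDim_le N x
  exact ⟨U, fun y hyU => le_trans (hy y hyU) hx, hU, hxU⟩

theorem isOpen_fd_lt (N : Type v) [AddCommGroup N] [Module A N] [Module.Finite A N] (b : ℕ) :
    IsOpen {p : PrimeSpectrum A | fd N p < b} := by
  rw [isOpen_iff_forall_mem_open]
  intro x hx
  obtain ⟨U, hU, hxU, hy⟩ := FibDim.exists_nhd_fibDim_le N x
  exact ⟨U, fun y hyU => lt_of_le_of_lt (hy y hyU) hx, hU, hxU⟩

theorem isConstructible_fd_eq [IsNoetherianRing A] (N : Type v) [AddCommGroup N] [Module A N]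
    [Module.Finite A N] (b : ℕ) :
    Topology.IsConstructible {p : PrimeSpectrum A | fd N p = b} := by
  have h1 : Topology.IsConstructible {p : PrimeSpectrum A | fd N p ≤ b} :=
    (TopologicalSpace.NoetherianSpace.isCompact _).isConstructible (isOpen_fd_le N b)
  have h2 : Topology.IsConstructible {p : PrimeSpectrum A | fd N p < b} :=
    (TopologicalSpace.NoetherianSpace.isCompact _).isConstructible (isOpen_fd_lt N b)
  have : {p : PrimeSpectrum A | fd N p = b} = {p | fd N p ≤ b} \ {p | fd N p < b} := by
    ext p
    simp only [Set.mem_setOf_eq, Set.mem_diff]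
    omega
  rw [this]
  exact h1.sdiff h2

theorem exists_fd_le (N : Type v) [AddCommGroup N] [Module A N] [Module.Finite A N] :
    ∃ B : ℕ, ∀ p : PrimeSpectrum A, fd N p ≤ B := by
  obtain ⟨B, g, hg⟩ := Module.Finite.exists_fin (R := A) (M := N)
  refine ⟨B, fun p => ?_⟩
  have hs : Submodule.span p.asIdeal.ResidueField
      (Set.range fun i => (1 : p.asIdeal.ResidueField) ⊗ₜ[A] g i) = ⊤ := by
    have := Submodule.baseChange_span (R := A) p.asIdeal.ResidueField (Set.range g)
    rw [hg, Submodule.baseChange_top, ← Set.range_comp] at this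
    exact this.symm
  have := finrank_le_of_span_eq_top hs
  rw [Fintype.card_fin] at this
  exact this

/-- The span of the fibrewise multiplications, computed through evaluation at generators. -/
theorem fib_span_identity {S : Type w} [CommRing S] [Algebra A S]
    {Q : Type v} [AddCommGroup Q] [Module A Q] [Module S Q] [IsScalarTower A S Q]
    [Module.Finite A Q]
    {m : ℕ} (q : Fin m → Q) (hq : Submodule.span A (Set.range q) = ⊤)
    (K : Type*) [Field K] [Algebra A K] :
    Module.finrank K (Submodule.span K (Set.range fun s : S =>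
        LinearMap.baseChange K (DistribSMul.toLinearMap A Q s))) +
      Module.finrank K (K ⊗[A] ((Fin m → Q) ⧸
        Submodule.span A (Set.range fun s : S => (fun j => s • q j : Fin m → Q)))) =
    Module.finrank K (K ⊗[A] (Fin m → Q)) := by
  classical
  set e : S → (Fin m → Q) := fun s j => s • q j with he
  set E := Submodule.span A (Set.range e) with hE
  let ev : Module.End K (K ⊗[A] Q) →ₗ[K] (Fin m → K ⊗[A] Q) :=
    LinearMap.pi fun j => LinearMap.applyₗ ((1 : K) ⊗ₜ[A] q j)
  let T : Module.End K (K ⊗[A] Q) →ₗ[K] K ⊗[A] (Fin m → Q) :=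
    (TensorProduct.piRight A K K (fun _ : Fin m => Q)).symm.toLinearMap ∘ₗ ev
  have hspanQ : Submodule.span K (Set.range fun j => (1 : K) ⊗ₜ[A] q j) = ⊤ := by
    have := Submodule.baseChange_span (R := A) K (Set.range q)
    rw [hq, Submodule.baseChange_top, ← Set.range_comp] at this
    exact this.symm
  have hTinj : Function.Injective T := by
    rw [injective_iff_map_eq_zero]
    intro g hg
    have hev : ev g = 0 := by
      have h0 : (TensorProduct.piRight A K K (fun _ : Fin m => Q)).symm (ev g) = 0 := hg
      exact (LinearEquiv.map_eq_zero_iff _).mp h0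
    have hj : ∀ j, g ((1 : K) ⊗ₜ[A] q j) = 0 := fun j => congrFun hev j
    apply LinearMap.ext_on_range hspanQ
    intro j
    rw [hj j, LinearMap.zero_apply]
  have hT : ∀ s : S, T (LinearMap.baseChange K (DistribSMul.toLinearMap A Q s)) =
      (1 : K) ⊗ₜ[A] e s := by
    intro s
    show (TensorProduct.piRight A K K (fun _ : Fin m => Q)).symm (ev _) = _
    rw [LinearEquiv.symm_apply_eq]
    funext j
    simp [ev, e]
  have hmap : Submodule.map T (Submodule.span K (Set.range fun s : S =>
      LinearMap.baseChange K (DistribSMul.toLinearMap A Q s))) = E.baseChange K := by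
    have hcomp : (T ∘ fun s : S => LinearMap.baseChange K (DistribSMul.toLinearMap A Q s)) =
        (TensorProduct.mk A K (Fin m → Q) 1 ∘ e) := funext hT
    rw [Submodule.map_span, ← Set.range_comp, hE, Submodule.baseChange_span, ← Set.range_comp,
      hcomp]
  have h1 : Module.finrank K (Submodule.span K (Set.range fun s : S =>
      LinearMap.baseChange K (DistribSMul.toLinearMap A Q s))) =
      Module.finrank K (E.baseChange K) := by
    rw [← hmap]
    exact (Submodule.equivMapOfInjective T hTinj _).finrank_eq
  have hex : Function.Exact (E.subtype.baseChange K) (E.mkQ.baseChange K) :=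
    lTensor_exact K (LinearMap.exact_subtype_mkQ E) (Submodule.mkQ_surjective E)
  have hsurj : Function.Surjective (E.mkQ.baseChange K) :=
    LinearMap.lTensor_surjective K (Submodule.mkQ_surjective E)
  have h2 := LinearMap.finrank_range_add_finrank_ker (E.mkQ.baseChange K)
  have h3 : LinearMap.range (E.mkQ.baseChange K) = ⊤ := LinearMap.range_eq_top.mpr hsurj
  have h4 : LinearMap.ker (E.mkQ.baseChange K) = E.baseChange K := LinearMap.exact_iff.mp hex
  rw [h3, finrank_top, h4] at h2
  rw [h1]
  omega

/-- constructibility of the dimension of the span of the fibrewise multiplications -/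
theorem isConstructible_span_fibre_action [IsNoetherianRing A]
    (S : Type w) [CommRing S] [Algebra A S]
    (Q : Type v) [AddCommGroup Q] [Module A Q] [Module S Q] [IsScalarTower A S Q]
    [Module.Finite A Q] (n : ℕ) :
    Topology.IsConstructible {p : PrimeSpectrum A |
      Module.finrank p.asIdeal.ResidueField
        (Submodule.span p.asIdeal.ResidueField
          (Set.range fun s : S =>
            LinearMap.baseChange p.asIdeal.ResidueField (DistribSMul.toLinearMap A Q s))) = n} := by
  obtain ⟨m, q, hq⟩ := Module.Finite.exists_fin (R := A) (M := Q)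
  set E := Submodule.span A (Set.range fun s : S => (fun j => s • q j : Fin m → Q)) with hE
  obtain ⟨B, hB⟩ := exists_fd_le (A := A) ((Fin m → Q) ⧸ E)
  have key : ∀ p : PrimeSpectrum A,
      Module.finrank p.asIdeal.ResidueField
        (Submodule.span p.asIdeal.ResidueField
          (Set.range fun s : S =>
            LinearMap.baseChange p.asIdeal.ResidueField (DistribSMul.toLinearMap A Q s))) +
        fd ((Fin m → Q) ⧸ E) p = fd (Fin m → Q) p :=
    fun p => fib_span_identity q hq p.asIdeal.ResidueField
  have hset : {p : PrimeSpectrum A |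
      Module.finrank p.asIdeal.ResidueField
        (Submodule.span p.asIdeal.ResidueField
          (Set.range fun s : S =>
            LinearMap.baseChange p.asIdeal.ResidueField (DistribSMul.toLinearMap A Q s))) = n} =
      ⋃ b : Fin (B + 1), ({p : PrimeSpectrum A | fd (Fin m → Q) p = n + (b : ℕ)} ∩
        {p : PrimeSpectrum A | fd ((Fin m → Q) ⧸ E) p = (b : ℕ)}) := by
    ext p
    simp only [Set.mem_setOf_eq, Set.mem_iUnion, Set.mem_inter_iff]
    constructor
    · intro h
      refine ⟨⟨fd ((Fin m → Q) ⧸ E) p, Nat.lt_succ_of_le (hB p)⟩, ?_, rfl⟩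
      have := key p
      simp only
      omega
    · rintro ⟨b, h1, h2⟩
      have := key p
      omega
  rw [hset]
  exact Topology.IsConstructible.iUnion fun b =>
    (isConstructible_fd_eq _ _).inter (isConstructible_fd_eq _ _)

end Groth.Agent.Helper22.FibCons
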