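import Mathlib

/-!
# Complete separated filtered rings (helper22)

Newton iteration for lifting idempotents, geometric series for units, and the entrywise
filtration on a matrix ring.
-/

namespace Groth.Agent.Helper22.FilRing

open Polynomial

/-- A decreasing filtration of a ring by additive subgroups which are stable under left and right
multiplication by arbitrary elements, and for which the ring is separated and complete. -/
structure Filt (E : Type*) [Ring E] where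
  Fil : ℕ → AddSubgroup E
  anti : ∀ m, Fil (m + 1) ≤ Fil m
  mul_left : ∀ (m : ℕ) (y x : E), x ∈ Fil m → y * x ∈ Fil m
  mul_right : ∀ (m : ℕ) (y x : E), x ∈ Fil m → x * y ∈ Fil m
  sep : ∀ x, (∀ m, x ∈ Fil m) → x = 0
  cpl : ∀ u : ℕ → E, (∀ k, u (k + 1) - u k ∈ Fil k) → ∃ L, ∀ k, L - u k ∈ Fil k

namespace Filt

variable {E : Type*} [Ring E] (F : Filt E)

theorem antitone {m n : ℕ} (h : m ≤ n) : F.Fil n ≤ F.Fil m := by
  induction n, h using Nat.le_induction with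
  | base => exact le_rfl
  | succ n hn ih => exact (F.anti n).trans ih

theorem cauchy_of_succ (u : ℕ → E) (m k₀ : ℕ)
    (h : ∀ k, k₀ ≤ k → u (k + 1) - u k ∈ F.Fil m) :
    ∀ k, k₀ ≤ k → ∀ k', k ≤ k' → u k' - u k ∈ F.Fil m := by
  intro k hk k' hk'
  induction k', hk' using Nat.le_induction with
  | base => rw [sub_self]; exact zero_mem _
  | succ n hn ih =>
    have h1 : u (n + 1) - u k = (u (n + 1) - u n) + (u n - u k) := by abel
    rw [h1]
    exact add_mem (h n (hk.trans hn)) ih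

theorem cpl_general (u : ℕ → E)
    (hu : ∀ m, ∃ k₀, ∀ k, k₀ ≤ k → u (k + 1) - u k ∈ F.Fil m) :
    ∃ L, ∀ m, ∃ k₀, ∀ k, k₀ ≤ k → L - u k ∈ F.Fil m := by
  choose k₀ hk₀ using hu
  have hC : ∀ m k, k₀ m ≤ k → ∀ k', k ≤ k' → u k' - u k ∈ F.Fil m :=
    fun m => F.cauchy_of_succ u m (k₀ m) (hk₀ m)
  let g : ℕ → ℕ := fun m => (Finset.range (m + 1)).sup k₀
  have hg1 : ∀ m, k₀ m ≤ g m := fun m =>
    Finset.le_sup (f := k₀) (Finset.mem_range.2 (Nat.lt_succ_self m))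
  have hg2 : ∀ m, g m ≤ g (m + 1) := fun m =>
    Finset.sup_mono (Finset.range_mono (Nat.le_succ (m + 1)))
  obtain ⟨L, hL⟩ := F.cpl (fun m => u (g m))
    (fun m => hC m (g m) (hg1 m) (g (m + 1)) (hg2 m))
  refine ⟨L, fun m => ⟨g m, fun k hk => ?_⟩⟩
  have h1 : L - u k = (L - u (g m)) - (u k - u (g m)) := by abel
  rw [h1]
  exact sub_mem (hL m) (hC m (g m) (hg1 m) k hk)

end Filt

/-! ### Newton polynomials -/

/-- Newton polynomials for idempotent lifting: `NE 0 = X`, `NE (k+1) = 3 (NE k)^2 - 2 (NE k)^3`. -/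
noncomputable def NE : ℕ → ℤ[X]
  | 0 => X
  | (k + 1) => 3 * NE k ^ 2 - 2 * NE k ^ 3

/-- The defect `NE k ^ 2 - NE k`. -/
noncomputable def ND (k : ℕ) : ℤ[X] := NE k ^ 2 - NE k

theorem NE_zero : NE 0 = X := by
  first | rfl | rw [NE]

theorem NE_succ (k : ℕ) : NE (k + 1) = 3 * NE k ^ 2 - 2 * NE k ^ 3 := by
  first | rfl | rw [NE]

theorem ND_succ (k : ℕ) : ND (k + 1) = ND k ^ 2 * (4 * ND k - 3) := by
  unfold ND
  rw [NE_succ]
  ring

theorem NE_succ_sub (k : ℕ) : NE (k + 1) - NE k = (1 - 2 * NE k) * ND k := by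
  unfold ND
  rw [NE_succ]
  ring

theorem exists_ND_eq (k : ℕ) : ∃ C : ℤ[X], ND k = ND 0 ^ (2 ^ k) * C := by
  induction k with
  | zero => exact ⟨1, by rw [pow_zero, pow_one, mul_one]⟩
  | succ k ih =>
    obtain ⟨C, hC⟩ := ih
    refine ⟨C ^ 2 * (4 * ND k - 3), ?_⟩
    calc ND (k + 1) = ND k ^ 2 * (4 * ND k - 3) := ND_succ k
      _ = (ND 0 ^ 2 ^ k * C) ^ 2 * (4 * ND k - 3) := by rw [← hC]
      _ = ND 0 ^ 2 ^ (k + 1) * (C ^ 2 * (4 * ND k - 3)) := by
          first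
            | (rw [mul_pow, ← pow_mul, ← pow_succ, mul_assoc])
            | ring

variable {E : Type*} [Ring E]

/-- Newton iterates starting from `e₀`. -/
noncomputable def ek (e₀ : E) (k : ℕ) : E := aeval e₀ (NE k)

/-- Defects of the Newton iterates. -/
noncomputable def dk (e₀ : E) (k : ℕ) : E := aeval e₀ (ND k)

theorem dk_eq (e₀ : E) (k : ℕ) : dk e₀ k = ek e₀ k * ek e₀ k - ek e₀ k := by
  unfold dk ek ND
  rw [map_sub, map_pow, pow_two]

theorem ek_zero (e₀ : E) : ek e₀ 0 = e₀ := by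
  unfold ek
  rw [NE_zero, aeval_X]

theorem ek_succ_sub (e₀ : E) (k : ℕ) :
    ek e₀ (k + 1) - ek e₀ k = (1 - 2 * ek e₀ k) * dk e₀ k := by
  unfold ek dk
  rw [← map_sub, NE_succ_sub, map_mul, map_sub, map_one, map_mul, map_ofNat]

theorem ek_map {E' : Type*} [Ring E'] (g : E →+* E') (e₀ : E) (k : ℕ) :
    g (ek e₀ k) = ek (g e₀) k := by
  unfold ek
  exact (Polynomial.aeval_algHom_apply g.toIntAlgHom e₀ (NE k)).symm

theorem ek_of_idem (e₀ : E) (h : e₀ * e₀ = e₀) (k : ℕ) : ek e₀ k = e₀ := by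
  induction k with
  | zero => exact ek_zero e₀
  | succ k ih =>
    have h1 := ek_succ_sub e₀ k
    rw [dk_eq, ih, h, sub_self, mul_zero] at h1
    exact sub_eq_zero.1 h1

theorem aeval_ND_zero (e₀ : E) : aeval e₀ (ND 0) = e₀ * e₀ - e₀ := by
  unfold ND
  rw [NE_zero, map_sub, map_pow, aeval_X, pow_two]

theorem dk_mem (F : Filt E) (e₀ : E) (m N k : ℕ) (hN : (e₀ * e₀ - e₀) ^ N ∈ F.Fil m)
    (hk : N ≤ 2 ^ k) : dk e₀ k ∈ F.Fil m := by
  obtain ⟨C, hC⟩ := exists_ND_eq k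
  unfold dk
  rw [hC, map_mul, map_pow, aeval_ND_zero]
  refine F.mul_right m _ _ ?_
  obtain ⟨d, hd⟩ := Nat.exists_eq_add_of_le hk
  rw [hd, pow_add]
  exact F.mul_right m _ _ hN

/-- **Idempotent lifting in a complete separated filtered ring**: if `e₀^2 - e₀` is topologically
nilpotent then the Newton iterates converge to an idempotent. -/
theorem exists_idempotent (F : Filt E) (e₀ : E)
    (hnil : ∀ m, ∃ N, (e₀ * e₀ - e₀) ^ N ∈ F.Fil m) :
    ∃ e : E, e * e = e ∧ ∀ m, ∃ k₀, ∀ k, k₀ ≤ k → e - ek e₀ k ∈ F.Fil m := by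
  have hd : ∀ m, ∃ k₀, ∀ k, k₀ ≤ k → dk e₀ k ∈ F.Fil m := by
    intro m
    obtain ⟨N, hN⟩ := hnil m
    refine ⟨N, fun k hk => dk_mem F e₀ m N k hN ?_⟩
    exact hk.trans (Nat.lt_pow_self (by norm_num : 1 < 2)).le
  have hu : ∀ m, ∃ k₀, ∀ k, k₀ ≤ k → ek e₀ (k + 1) - ek e₀ k ∈ F.Fil m := by
    intro m
    obtain ⟨k₀, hk₀⟩ := hd m
    refine ⟨k₀, fun k hk => ?_⟩
    rw [ek_succ_sub]
    exact F.mul_left m _ _ (hk₀ k hk)
  obtain ⟨e, he⟩ := F.cpl_general (ek e₀) hu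
  refine ⟨e, ?_, he⟩
  rw [← sub_eq_zero]
  refine F.sep _ fun m => ?_
  obtain ⟨k₁, hk₁⟩ := he m
  obtain ⟨k₂, hk₂⟩ := hd m
  have h1 : e - ek e₀ (max k₁ k₂) ∈ F.Fil m := hk₁ _ (le_max_left _ _)
  have h2 : dk e₀ (max k₁ k₂) ∈ F.Fil m := hk₂ _ (le_max_right _ _)
  rw [dk_eq] at h2
  generalize ek e₀ (max k₁ k₂) = c at h1 h2
  have h3 : e * e - e = e * (e - c) + (e - c) * c - (e - c) + (c * c - c) := by
    first
      | noncomm_ring
      | (simp only [mul_sub, sub_mul]; abel)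
  rw [h3]
  exact add_mem (sub_mem (add_mem (F.mul_left m _ _ h1) (F.mul_right m _ _ h1)) h1) h2

/-- In a commutative complete separated filtered ring, `1 + w` is a unit for `w` topologically
nilpotent. -/
theorem isUnit_one_add {A : Type*} [CommRing A] (F : Filt A) (w : A)
    (hw : ∀ m, ∃ N, w ^ N ∈ F.Fil m) : IsUnit (1 + w) := by
  have hpow : ∀ m, ∃ k₀, ∀ k, k₀ ≤ k → (-w) ^ k ∈ F.Fil m := by
    intro m
    obtain ⟨N, hN⟩ := hw m
    refine ⟨N, fun k hk => ?_⟩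
    obtain ⟨d, rfl⟩ := Nat.exists_eq_add_of_le hk
    rw [neg_pow, pow_add w N d, ← mul_assoc]
    exact F.mul_right m _ _ (F.mul_left m _ _ hN)
  have hu : ∀ m, ∃ k₀, ∀ k, k₀ ≤ k →
      (∑ i ∈ Finset.range (k + 1), (-w) ^ i) - ∑ i ∈ Finset.range k, (-w) ^ i ∈ F.Fil m := by
    intro m
    obtain ⟨k₀, hk₀⟩ := hpow m
    refine ⟨k₀, fun k hk => ?_⟩
    rw [Finset.sum_range_succ, add_sub_cancel_left]
    exact hk₀ k hk
  obtain ⟨L, hL⟩ := F.cpl_general (fun k => ∑ i ∈ Finset.range k, (-w) ^ i) hu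
  have hgeom : ∀ k, (1 + w) * ∑ i ∈ Finset.range k, (-w) ^ i = 1 - (-w) ^ k := by
    intro k
    have h := mul_neg_geom_sum (-w) k
    rw [sub_neg_eq_add] at h
    exact h
  have hmain : (1 + w) * L = 1 := by
    rw [← sub_eq_zero]
    refine F.sep _ fun m => ?_
    obtain ⟨k₁, hk₁⟩ := hL m
    obtain ⟨k₂, hk₂⟩ := hpow m
    have h1 : L - ∑ i ∈ Finset.range (max k₁ k₂), (-w) ^ i ∈ F.Fil m :=
      hk₁ (max k₁ k₂) (le_max_left _ _)
    have h2 : (-w) ^ (max k₁ k₂) ∈ F.Fil m := hk₂ (max k₁ k₂) (le_max_right _ _)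
    have h3 : (1 + w) * L - 1 = (1 + w) * (L - ∑ i ∈ Finset.range (max k₁ k₂), (-w) ^ i)
        - (-w) ^ (max k₁ k₂) := by
      rw [mul_sub, hgeom]
      abel
    rw [h3]
    exact sub_mem (F.mul_left m _ _ h1) h2
  exact IsUnit.of_mul_eq_one L hmain

/-! ### The entrywise filtration on a matrix ring -/

/-- Matrices with all entries in `F.Fil m`. -/
def matFil {A : Type*} [Ring A] (n : ℕ) (F : Filt A) (m : ℕ) :
    AddSubgroup (Matrix (Fin n) (Fin n) A) where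
  carrier := {M | ∀ i j, M i j ∈ F.Fil m}
  zero_mem' := by
    intro i j
    exact zero_mem _
  add_mem' := by
    intro a b ha hb i j
    exact add_mem (ha i j) (hb i j)
  neg_mem' := by
    intro a ha i j
    exact neg_mem (ha i j)

theorem mem_matFil {A : Type*} [Ring A] {n : ℕ} {F : Filt A} {m : ℕ}
    {M : Matrix (Fin n) (Fin n) A} : M ∈ matFil n F m ↔ ∀ i j, M i j ∈ F.Fil m := Iff.rfl

/-- The entrywise filtration on a matrix ring is again complete and separated. -/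
def matFilt {A : Type*} [Ring A] (n : ℕ) (F : Filt A) : Filt (Matrix (Fin n) (Fin n) A) where
  Fil := matFil n F
  anti := by
    intro m M hM
    exact mem_matFil.2 fun i j => F.anti m (mem_matFil.1 hM i j)
  mul_left := by
    intro m Y X hX
    refine mem_matFil.2 fun i j => ?_
    rw [Matrix.mul_apply]
    exact sum_mem fun k _ => F.mul_left m _ _ (mem_matFil.1 hX k j)
  mul_right := by
    intro m Y X hX
    refine mem_matFil.2 fun i j => ?_
    rw [Matrix.mul_apply]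
    exact sum_mem fun k _ => F.mul_right m _ _ (mem_matFil.1 hX i k)
  sep := by
    intro M hM
    ext i j
    exact F.sep _ fun m => mem_matFil.1 (hM m) i j
  cpl := by
    intro u hu
    have h : ∀ i j, ∃ L, ∀ k, L - u k i j ∈ F.Fil k := fun i j =>
      F.cpl (fun k => u k i j) (fun k => mem_matFil.1 (hu k) i j)
    choose L hL using h
    exact ⟨Matrix.of L, fun k => mem_matFil.2 fun i j => hL i j k⟩

theorem mem_matFilt {A : Type*} [Ring A] {n : ℕ} {F : Filt A} {m : ℕ}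
    {M : Matrix (Fin n) (Fin n) A} :
    M ∈ (matFilt n F).Fil m ↔ ∀ i j, M i j ∈ F.Fil m := Iff.rfl

end Groth.Agent.Helper22.FilRing
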