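import Mathlib

/-!
# Hilbert's finiteness argument through a graded presentation (helper22)

Generalizes helper18's `GradedRetract.exists_finset_adjoin`: `P` a Noetherian graded `A`-algebra,
`π : P → C` a surjective algebra map, `B ⊆ C` a subalgebra with a retraction `E : C → C` onto `B`
which is `B`-linear and preserves the images `π(P_d)`, and sends `π(P_0)` into a set `B₀`.
Then `B` is generated by `B₀` together with finitely many elements.
-/

set_option autoImplicit false

namespace Groth.Agent.Helper22.FiltRetract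

open DirectSum

variable {k A P C : Type*} [CommRing k] [CommRing A] [CommRing P] [Algebra A P] [CommRing C]
  [Algebra k C] [Algebra A C]

theorem exists_finset_adjoin [IsNoetherianRing P]
    (𝒜 : ℕ → Submodule A P) [GradedAlgebra 𝒜] (π : P →ₐ[A] C) (hπ : Function.Surjective π)
    (B : Subalgebra k C) (B₀ : Set C) (E : C →+ C)
    (hE1 : ∀ x, E x ∈ B) (hE2 : ∀ x ∈ B, E x = x)
    (hE3 : ∀ x, ∀ y ∈ B, E (x * y) = E x * y)
    (hE4 : ∀ d, ∀ x ∈ 𝒜 d, ∃ x' ∈ 𝒜 d, π x' = E (π x))
    (h0 : ∀ x ∈ 𝒜 0, E (π x) ∈ B₀) :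
    ∃ s : Finset C, (∀ f ∈ s, f ∈ B) ∧ ∀ f ∈ B, f ∈ Algebra.adjoin k (B₀ ∪ (s : Set C)) := by
  classical
  let T : Set P := {q | π q ∈ B ∧ ∃ d : ℕ, 0 < d ∧ q ∈ 𝒜 d}
  have hfg : (Ideal.span T).FG := IsNoetherian.noetherian _
  obtain ⟨T', hT'T, hT'span⟩ := (Submodule.fg_span_iff_fg_span_finset_subset T).1 hfg
  refine ⟨T'.image π, ?_, ?_⟩
  · intro f hf
    obtain ⟨q, hq, rfl⟩ := Finset.mem_image.1 hf
    exact (hT'T hq).1
  have key : ∀ d : ℕ, ∀ x ∈ 𝒜 d,
      E (π x) ∈ Algebra.adjoin k (B₀ ∪ ((T'.image π : Finset C) : Set C)) := by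
    intro d
    induction d using Nat.strong_induction_on with
    | _ d ih =>
      intro x hx
      rcases Nat.eq_zero_or_pos d with hd | hd
      · subst hd
        exact Algebra.subset_adjoin (Or.inl (h0 x hx))
      · obtain ⟨x', hx', hπx'⟩ := hE4 d x hx
        have hyT : x' ∈ T := ⟨by rw [hπx']; exact hE1 _, d, hd, hx'⟩
        have hyI : x' ∈ Ideal.span (T' : Set P) := by
          have : x' ∈ Ideal.span T := Ideal.subset_span hyT
          rw [Ideal.span, hT'span] at this
          exact this
        obtain ⟨c, hc⟩ := (Submodule.mem_span_finset' (R := P)).1 hyI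
        have hdeg : ∀ a : T', ∃ e : ℕ, 0 < e ∧ (a : P) ∈ 𝒜 e := fun a => (hT'T a.2).2
        choose e he_pos he_mem using hdeg
        let c' : T' → P := fun a =>
          if e a ≤ d then ((DirectSum.decompose 𝒜 (c a) (d - e a) : 𝒜 (d - e a)) : P) else 0
        have h1 : x' = ∑ a : T', c' a * (a : P) := by
          have h2 : ((DirectSum.decompose 𝒜 x' d : 𝒜 d) : P) = x' :=
            DirectSum.decompose_of_mem_same 𝒜 hx'
          rw [← h2, ← hc, DirectSum.decompose_sum, DFinsupp.finsetSum_apply,
            AddSubmonoidClass.coe_finsetSum]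
          refine Finset.sum_congr rfl (fun a _ => ?_)
          rw [smul_eq_mul, DirectSum.coe_decompose_mul_of_right_mem 𝒜 d (he_mem a)]
          simp only [c']
          split_ifs <;> simp
        have h3 : E (π x) = ∑ a : T', E (π (c' a)) * π (a : P) := by
          have h4 : E (π x) = E (π x') := by rw [hπx', hE2 _ (hE1 _)]
          rw [h4]
          conv_lhs => rw [h1]
          rw [map_sum, map_sum]
          refine Finset.sum_congr rfl (fun a _ => ?_)
          rw [map_mul]
          exact hE3 _ _ (hT'T a.2).1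
        rw [h3]
        refine Subalgebra.sum_mem _ (fun a _ => Subalgebra.mul_mem _ ?_
          (Algebra.subset_adjoin (Or.inr (Finset.mem_coe.2 (Finset.mem_image_of_mem π a.2)))))
        by_cases hle : e a ≤ d
        · have hc'mem : c' a ∈ 𝒜 (d - e a) := by
            simp only [c', if_pos hle]
            exact SetLike.coe_mem _
          exact ih (d - e a) (Nat.sub_lt hd (he_pos a)) _ hc'mem
        · have : c' a = 0 := by simp only [c', if_neg hle]
          rw [this, map_zero, map_zero]
          exact Subalgebra.zero_mem _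
  intro f hf
  obtain ⟨q, rfl⟩ := hπ f
  have hsum := DirectSum.sum_support_decompose 𝒜 q
  rw [← hE2 _ hf, ← hsum, map_sum, map_sum]
  exact Subalgebra.sum_mem _ (fun d _ => key d _ (SetLike.coe_mem _))

end Groth.Agent.Helper22.FiltRetract
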