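import Mathlib
set_option autoImplicit false
universe u v w
open scoped TensorProduct

/-!
Split Γ-filtrations of a finitely generated projective module are determined by the filtration they
induce on a tensor power.
-/

namespace Groth.Agent.Helper22.FiltTens

variable {Γ : Type w} [AddCommGroup Γ] [LinearOrder Γ] [IsOrderedAddMonoid Γ]
variable {R : Type u} [CommRing R] {M : Type v} [AddCommGroup M] [Module R M]

theorem exists_proj [Module.Finite R M] (G : Γ → Submodule R M) (hG : DirectSum.IsInternal G) :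
    ∃ π : Γ → (M →ₗ[R] M), (∀ η x, π η x ∈ G η) ∧ (∀ η, ∀ x ∈ G η, π η x = x) ∧
      (∀ η η', η' ≠ η → ∀ x ∈ G η', π η x = 0) ∧
      (∀ x, ∀ N : Submodule R M, (∀ η, π η x ∈ N) → x ∈ N) ∧
      (∃ E : Finset Γ, ∀ η, η ∉ E → ∀ x, π η x = 0) := by
  classical
  letI : DirectSum.Decomposition G := DirectSum.IsInternal.chooseDecomposition G hG
  let π : Γ → (M →ₗ[R] M) := fun η =>
    (G η).subtype ∘ₗ (DirectSum.component R Γ (fun i => ↥(G i)) η) ∘ₗ
      (DirectSum.decomposeLinearEquiv G).toLinearMap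
  have key : ∀ η x, π η x = ((DirectSum.decompose G x) η : M) := fun _ _ => rfl
  refine ⟨π, ?_, ?_, ?_, ?_, ?_⟩
  · intro η x
    rw [key]
    exact (DirectSum.decompose G x η).2
  · intro η x hx
    rw [key]
    exact DirectSum.decompose_of_mem_same G hx
  · intro η η' hne x hx
    rw [key]
    exact DirectSum.decompose_of_mem_ne G hx hne
  · intro x N h
    rw [← DirectSum.sum_support_decompose G x]
    exact N.sum_mem (fun i _ => by rw [← key]; exact h i)
  · obtain ⟨S, hS⟩ := (Module.Finite.fg_top : (⊤ : Submodule R M).FG)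
    refine ⟨S.biUnion (fun m => (DirectSum.decompose G m).support), ?_⟩
    intro η hη x
    have hle : Submodule.span R (S : Set M) ≤ LinearMap.ker (π η) := by
      rw [Submodule.span_le]
      intro m hm
      rw [SetLike.mem_coe, LinearMap.mem_ker, key]
      have hns : η ∉ (DirectSum.decompose G m).support :=
        fun h => hη (Finset.mem_biUnion.mpr ⟨m, hm, h⟩)
      rw [DFinsupp.notMem_support_iff] at hns
      rw [hns]
      rfl
    have hx : x ∈ Submodule.span R (S : Set M) := by rw [hS]; exact Submodule.mem_top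
    exact LinearMap.mem_ker.mp (hle hx)

theorem mem_smul_top_of_forall_dual [Module.Finite R M] [Module.Projective R M] (p : Ideal R)
    (m : M) (h : ∀ ψ : M →ₗ[R] R, ψ m ∈ p) : m ∈ p • (⊤ : Submodule R M) := by
  classical
  obtain ⟨N, f, g, -, -, hfg⟩ := Module.Finite.exists_comp_eq_id_of_projective R M
  have h1 : f (g m) = m := LinearMap.congr_fun hfg m
  rw [← h1, LinearMap.pi_apply_eq_sum_univ f (g m)]
  refine Submodule.sum_mem _ (fun j _ => Submodule.smul_mem_smul ?_ Submodule.mem_top)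
  exact h (LinearMap.proj j ∘ₗ g)

theorem eq_zero_of_forall_dual [Module.Finite R M] [Module.Projective R M] (m : M)
    (h : ∀ ψ : M →ₗ[R] R, ψ m = 0) : m = 0 := by
  have h1 := mem_smul_top_of_forall_dual (⊥ : Ideal R) m
    (fun ψ => by rw [h ψ]; exact Submodule.zero_mem _)
  rwa [Submodule.bot_smul, Submodule.mem_bot] at h1

theorem map_mem_smul_top (p : Ideal R) (f : M →ₗ[R] M) {m : M}
    (hm : m ∈ p • (⊤ : Submodule R M)) : f m ∈ p • (⊤ : Submodule R M) := by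
  refine Submodule.smul_induction_on hm (fun r hr n _ => ?_) (fun x y hx hy => ?_)
  · rw [map_smul]
    exact Submodule.smul_mem_smul hr Submodule.mem_top
  · rw [map_add]
    exact add_mem hx hy

theorem prod_eq_zero_of_le (k : ℕ) (Fa Fb : Γ → Submodule R M) (πb : Γ → (M →ₗ[R] M))
    (hkill : ∀ c η : Γ, η < c → ∀ y ∈ Fb c, πb η y = 0)
    (hT : ∀ γ : Γ,
      (⨆ c : {c : Fin k → Γ // ∑ i, c i = γ},
        LinearMap.range (PiTensorProduct.map (R := R) (fun i => (Fa (c.1 i)).subtype))) ≤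
      (⨆ c : {c : Fin k → Γ // ∑ i, c i = γ},
        LinearMap.range (PiTensorProduct.map (R := R) (fun i => (Fb (c.1 i)).subtype))))
    (c η : Fin k → Γ) (hlt : ∑ i, η i < ∑ i, c i) (m : Fin k → M) (hm : ∀ i, m i ∈ Fa (c i))
    (ψ : Fin k → (M →ₗ[R] R)) : ∏ i, ψ i (πb (η i) (m i)) = 0 := by
  let Λ : (⨂[R] _ : Fin k, M) →ₗ[R] R :=
    PiTensorProduct.lift ((MultilinearMap.mkPiAlgebra R (Fin k) R).compLinearMap
      (fun i => ψ i ∘ₗ πb (η i)))
  have hΛ : ∀ m' : Fin k → M,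
      Λ (PiTensorProduct.tprod R m') = ∏ i, ψ i (πb (η i) (m' i)) := by
    intro m'
    simp only [Λ, PiTensorProduct.lift.tprod, MultilinearMap.compLinearMap_apply,
      MultilinearMap.mkPiAlgebra_apply, LinearMap.comp_apply]
  have hker : (⨆ c' : {c' : Fin k → Γ // ∑ i, c' i = ∑ i, c i},
        LinearMap.range (PiTensorProduct.map (R := R) (fun i => (Fb (c'.1 i)).subtype))) ≤
      LinearMap.ker Λ := by
    refine iSup_le ?_
    rintro ⟨c', hc'⟩
    rw [LinearMap.range_le_ker_iff]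
    apply PiTensorProduct.ext
    ext y
    simp only [LinearMap.compMultilinearMap_apply, LinearMap.comp_apply, PiTensorProduct.map_tprod,
      hΛ, LinearMap.zero_apply]
    obtain ⟨i, -, hi⟩ := Finset.exists_lt_of_sum_lt
      (show ∑ i, η i < ∑ i, c' i by rw [hc']; exact hlt)
    refine Finset.prod_eq_zero (Finset.mem_univ i) ?_
    have hz : πb (η i) ((y i : M)) = 0 := hkill _ _ hi _ (y i).2
    show ψ i (πb (η i) ((y i : M))) = 0
    rw [hz, map_zero]
  have hmem : PiTensorProduct.tprod R m ∈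
      (⨆ c' : {c' : Fin k → Γ // ∑ i, c' i = ∑ i, c i},
        LinearMap.range (PiTensorProduct.map (R := R) (fun i => (Fa (c'.1 i)).subtype))) := by
    refine Submodule.mem_iSup_of_mem ⟨c, rfl⟩
      ⟨PiTensorProduct.tprod R (fun i => (⟨m i, hm i⟩ : Fa (c i))), ?_⟩
    rw [PiTensorProduct.map_tprod]
    rfl
  have h0 := hker (hT _ hmem)
  rw [LinearMap.mem_ker, hΛ] at h0
  exact h0

theorem exists_min (G : Γ → Submodule R M) (π : Γ → (M →ₗ[R] M))
    (hmem : ∀ η x, π η x ∈ G η) (hsame : ∀ η, ∀ x ∈ G η, π η x = x)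
    (hdec : ∀ x, ∀ N : Submodule R M, (∀ η, π η x ∈ N) → x ∈ N)
    (E : Finset Γ) (hE : ∀ η, η ∉ E → ∀ x, π η x = 0)
    (P : Submodule R M) (hP : ¬ (⊤ : Submodule R M) ≤ P) :
    ∃ μ, ¬ G μ ≤ P ∧ ∀ η, η < μ → G η ≤ P := by
  classical
  have hbot : ∀ η, η ∉ E → G η ≤ P := by
    intro η hη x hx
    rw [← hsame η x hx, hE η hη x]
    exact P.zero_mem
  obtain ⟨S, hSdef⟩ : ∃ S : Finset Γ, S = E.filter (fun η => ¬ G η ≤ P) := ⟨_, rfl⟩
  have hSmem : ∀ η, η ∈ S ↔ η ∈ E ∧ ¬ G η ≤ P := by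
    intro η; rw [hSdef, Finset.mem_filter]
  have hSne : S.Nonempty := by
    by_contra hemp
    rw [Finset.not_nonempty_iff_eq_empty] at hemp
    apply hP
    intro x _
    apply hdec x P
    intro η
    by_cases hη : η ∈ E
    · have hle : G η ≤ P := by
        by_contra hcon
        have hin : η ∈ S := (hSmem η).mpr ⟨hη, hcon⟩
        rw [hemp] at hin
        simp at hin
      exact hle (hmem η x)
    · exact hbot η hη (hmem η x)
  refine ⟨S.min' hSne, ((hSmem _).mp (S.min'_mem hSne)).2, ?_⟩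
  intro η hη
  by_contra hcon
  have hηE : η ∈ E := by
    by_contra h'
    exact hcon (hbot η h')
  have hin : η ∈ S := (hSmem η).mpr ⟨hηE, hcon⟩
  exact absurd (S.min'_le η hin) (not_le.mpr hη)

theorem le_of [Module.Finite R M] [Module.Projective R M]
    (F₁ F₂ G₁ G₂ : Γ → Submodule R M)
    (hG₁ : DirectSum.IsInternal G₁) (hF₁ : ∀ γ, F₁ γ = ⨆ η ∈ Set.Ici γ, G₁ η)
    (hG₂ : DirectSum.IsInternal G₂) (hF₂ : ∀ γ, F₂ γ = ⨆ η ∈ Set.Ici γ, G₂ η)
    (n : ℕ)
    (h : ∀ γ : Γ,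
      (⨆ c : {c : Fin (n + 1) → Γ // ∑ i, c i = γ},
        LinearMap.range (PiTensorProduct.map (R := R) (fun i => (F₁ (c.1 i)).subtype))) =
      (⨆ c : {c : Fin (n + 1) → Γ // ∑ i, c i = γ},
        LinearMap.range (PiTensorProduct.map (R := R) (fun i => (F₂ (c.1 i)).subtype))))
    (γ : Γ) : F₁ γ ≤ F₂ γ := by
  classical
  obtain ⟨π₁, h1mem, h1same, h1ne, h1dec, E₁, hE₁⟩ := exists_proj G₁ hG₁
  obtain ⟨π₂, h2mem, h2same, h2ne, h2dec, E₂, hE₂⟩ := exists_proj G₂ hG₂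
  have hGF₁ : ∀ c η : Γ, c ≤ η → G₁ η ≤ F₁ c := by
    intro c η hcη
    rw [hF₁]
    exact le_iSup₂_of_le η (Set.mem_Ici.mpr hcη) le_rfl
  have hGF₂ : ∀ c η : Γ, c ≤ η → G₂ η ≤ F₂ c := by
    intro c η hcη
    rw [hF₂]
    exact le_iSup₂_of_le η (Set.mem_Ici.mpr hcη) le_rfl
  have hkill₁ : ∀ c η : Γ, η < c → ∀ y ∈ F₁ c, π₁ η y = 0 := by
    intro c η hlt y hy
    have hle : F₁ c ≤ LinearMap.ker (π₁ η) := by
      rw [hF₁]
      refine iSup₂_le (fun η' hη' => ?_)
      intro z hz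
      exact LinearMap.mem_ker.mpr
        (h1ne η η' (lt_of_lt_of_le hlt (Set.mem_Ici.mp hη')).ne' z hz)
    exact LinearMap.mem_ker.mp (hle hy)
  have hkill₂ : ∀ c η : Γ, η < c → ∀ y ∈ F₂ c, π₂ η y = 0 := by
    intro c η hlt y hy
    have hle : F₂ c ≤ LinearMap.ker (π₂ η) := by
      rw [hF₂]
      refine iSup₂_le (fun η' hη' => ?_)
      intro z hz
      exact LinearMap.mem_ker.mpr
        (h2ne η η' (lt_of_lt_of_le hlt (Set.mem_Ici.mp hη')).ne' z hz)
    exact LinearMap.mem_ker.mp (hle hy)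
  intro x hx
  apply h2dec x (F₂ γ)
  intro ε
  rcases le_or_gt γ ε with hle | hlt
  · exact hGF₂ γ ε hle (h2mem ε x)
  · suffices hz : π₂ ε x = 0 by rw [hz]; exact Submodule.zero_mem _
    apply eq_zero_of_forall_dual (R := R)
    intro φ
    by_contra ha
    obtain ⟨a, hadef⟩ : ∃ a, a = φ (π₂ ε x) := ⟨_, rfl⟩
    rw [← hadef] at ha
    -- (U1)
    have hU1 : ∀ (ε' : Γ) (y : M) (ψ : M →ₗ[R] R), y ∈ F₁ ε' →
        a * (ψ (π₂ ε' y)) ^ n = 0 := by
      intro ε' y ψ hy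
      have hlt' : ∑ i, (Fin.cons ε (fun _ => ε') : Fin (n + 1) → Γ) i <
          ∑ i, (Fin.cons γ (fun _ => ε') : Fin (n + 1) → Γ) i := by
        rw [Fin.sum_univ_succ, Fin.sum_univ_succ]
        simp only [Fin.cons_zero, Fin.cons_succ]
        exact add_lt_add_left hlt _
      have hm' : ∀ i : Fin (n + 1), (Fin.cons x (fun _ => y) : Fin (n + 1) → M) i ∈
          F₁ ((Fin.cons γ (fun _ => ε') : Fin (n + 1) → Γ) i) := by
        intro i
        refine Fin.cases ?_ (fun j => ?_) i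
        · simp only [Fin.cons_zero]
          exact hx
        · simp only [Fin.cons_succ]
          exact hy
      have h0 := prod_eq_zero_of_le (n + 1) F₁ F₂ π₂ hkill₂ (fun δ => (h δ).le)
        (Fin.cons γ (fun _ => ε') : Fin (n + 1) → Γ) (Fin.cons ε (fun _ => ε') : Fin (n + 1) → Γ)
        hlt' (Fin.cons x (fun _ => y) : Fin (n + 1) → M) hm'
        (Fin.cons φ (fun _ => ψ) : Fin (n + 1) → (M →ₗ[R] R))
      rw [Fin.prod_univ_succ] at h0
      simp only [Fin.cons_zero, Fin.cons_succ, Finset.prod_const, Finset.card_univ,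
        Fintype.card_fin] at h0
      rw [hadef]
      exact h0
    obtain ⟨𝔞, h𝔞def⟩ : ∃ 𝔞 : Ideal R, 𝔞 = (Submodule.span R ({a} : Set R)).annihilator :=
      ⟨_, rfl⟩
    have h𝔞 : ∀ r, r ∈ 𝔞 ↔ r * a = 0 := fun r => by
      rw [h𝔞def, Submodule.mem_annihilator_span_singleton, smul_eq_mul]
    have hne : 𝔞 ≠ ⊤ := by
      intro htop
      have h1 : (1 : R) ∈ 𝔞 := by rw [htop]; exact Submodule.mem_top
      rw [h𝔞, one_mul] at h1
      exact ha h1
    obtain ⟨p, hpmax, hle𝔞⟩ := Ideal.exists_le_maximal 𝔞 hne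
    have hpprime : p.IsPrime := hpmax.isPrime
    have hstar : ∀ (ε' : Γ) (y : M), y ∈ F₁ ε' → π₂ ε' y ∈ p • (⊤ : Submodule R M) := by
      intro ε' y hy
      apply mem_smul_top_of_forall_dual
      intro ψ
      have h1 := hU1 ε' y ψ hy
      have h2 : (ψ (π₂ ε' y)) ^ n ∈ 𝔞 := by rw [h𝔞, mul_comm]; exact h1
      exact hpprime.mem_of_pow_mem n (hle𝔞 h2)
    have hMne : ¬ (⊤ : Submodule R M) ≤ p • (⊤ : Submodule R M) := by
      intro htop
      obtain ⟨r, hr1, hr0⟩ :=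
        Submodule.exists_sub_one_mem_and_smul_eq_zero_of_fg_of_le_smul p ⊤
          Module.Finite.fg_top htop
      have h1 : r * a = 0 := by
        rw [hadef, ← smul_eq_mul, ← map_smul, ← map_smul, hr0 x Submodule.mem_top, map_zero,
          map_zero]
      have h2 : r ∈ p := hle𝔞 ((h𝔞 r).mpr h1)
      have h3 : (1 : R) ∈ p := by
        have h4 := p.sub_mem h2 hr1
        rwa [sub_sub_cancel] at h4
      exact hpprime.ne_top ((Ideal.eq_top_iff_one p).mpr h3)
    obtain ⟨μ₁, hμ₁not, hμ₁lt⟩ := exists_min G₁ π₁ h1mem h1same h1dec E₁ hE₁ _ hMne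
    obtain ⟨μ₂, hμ₂not, hμ₂lt⟩ := exists_min G₂ π₂ h2mem h2same h2dec E₂ hE₂ _ hMne
    have hμ : μ₁ < μ₂ := by
      by_contra hcon
      rw [not_lt] at hcon
      apply hμ₂not
      intro x' hxG
      have hall : ∀ z : M, π₂ μ₂ z ∈ p • (⊤ : Submodule R M) := by
        intro z
        have hzc : z ∈ Submodule.comap (π₂ μ₂) (p • (⊤ : Submodule R M)) := by
          apply h1dec z
          intro η
          rw [Submodule.mem_comap]
          rcases le_or_gt μ₂ η with hle' | hlt'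
          · exact hstar μ₂ _ (hGF₁ μ₂ η hle' (h1mem η z))
          · exact map_mem_smul_top p _ (hμ₁lt η (lt_of_lt_of_le hlt' hcon) (h1mem η z))
        exact Submodule.mem_comap.mp hzc
      rw [← h2same μ₂ x' hxG]
      exact hall x'
    apply hμ₁not
    intro x' hxG
    have hU2 : ∀ (y : M) (ψ : M →ₗ[R] R), y ∈ F₂ μ₂ → (ψ (π₁ μ₁ y)) ^ (n + 1) = 0 := by
      intro y ψ hy
      have hlt' : ∑ _i : Fin (n + 1), μ₁ < ∑ _i : Fin (n + 1), μ₂ :=
        Finset.sum_lt_sum_of_nonempty Finset.univ_nonempty (fun _ _ => hμ)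
      have h0 := prod_eq_zero_of_le (n + 1) F₂ F₁ π₁ hkill₁ (fun δ => (h δ).ge)
        (fun _ => μ₂) (fun _ => μ₁) hlt' (fun _ => y) (fun _ => hy) (fun _ => ψ)
      simpa [Finset.prod_const] using h0
    have hall : ∀ z : M, π₁ μ₁ z ∈ p • (⊤ : Submodule R M) := by
      intro z
      have hzc : z ∈ Submodule.comap (π₁ μ₁) (p • (⊤ : Submodule R M)) := by
        apply h2dec z
        intro η
        rw [Submodule.mem_comap]
        rcases le_or_gt μ₂ η with hle' | hlt'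
        · apply mem_smul_top_of_forall_dual
          intro ψ
          have h1 := hU2 (π₂ η z) ψ (hGF₂ μ₂ η hle' (h2mem η z))
          refine hpprime.mem_of_pow_mem (n + 1) ?_
          rw [h1]
          exact p.zero_mem
        · exact map_mem_smul_top p _ (hμ₂lt η hlt' (h2mem η z))
      exact Submodule.mem_comap.mp hzc
    rw [← h1same μ₁ x' hxG]
    exact hall x'

theorem main [Module.Finite R M] [Module.Projective R M]
    (F₁ F₂ : Γ → Submodule R M)
    (h₁ : ∃ G : Γ → Submodule R M, DirectSum.IsInternal G ∧ ∀ γ, F₁ γ = ⨆ η ∈ Set.Ici γ, G η)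
    (h₂ : ∃ G : Γ → Submodule R M, DirectSum.IsInternal G ∧ ∀ γ, F₂ γ = ⨆ η ∈ Set.Ici γ, G η)
    (k : ℕ) (hk : 1 ≤ k)
    (h : ∀ γ : Γ,
      (⨆ c : {c : Fin k → Γ // ∑ i, c i = γ},
        LinearMap.range (PiTensorProduct.map (R := R) (fun i => (F₁ (c.1 i)).subtype))) =
      (⨆ c : {c : Fin k → Γ // ∑ i, c i = γ},
        LinearMap.range (PiTensorProduct.map (R := R) (fun i => (F₂ (c.1 i)).subtype)))) :
    F₁ = F₂ := by
  obtain ⟨G₁, hG₁, hF₁⟩ := h₁
  obtain ⟨G₂, hG₂, hF₂⟩ := h₂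
  obtain ⟨n, rfl⟩ : ∃ n, k = n + 1 := ⟨k - 1, by omega⟩
  funext γ
  exact le_antisymm (le_of F₁ F₂ G₁ G₂ hG₁ hF₁ hG₂ hF₂ n h γ)
    (le_of F₂ F₁ G₂ G₁ hG₂ hF₂ hG₁ hF₁ n (fun δ => (h δ).symm) γ)

end Groth.Agent.Helper22.FiltTens
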