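import Mathlib
import Groth.Prelude.Def_CycAlg

/-!
Helper22: common factor in a finite extension of a one-dimensional Noetherian local ring (S1834).

Strategy: for `I = (a, b)` find `z ∈ I ^ s` with `I ^ (K + s) = z I ^ K` (a principal reduction of a
power of `I`), and take `R' = I ^ (s k) / z ^ k ⊆ R_z` (the blow-up algebra).  Then `I ^ s R' = z R'`
is invertible, `R'` is semilocal, hence `I R'` is principal.
-/

set_option autoImplicit false

namespace Groth.Agent.Helper22.FinExtFactor

open scoped nonZeroDivisors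

universe u

section chain

theorem coheight_chain {α : Type*} [Preorder α] (U : ℕ → α) (N : ℕ)
    (h : ∀ j, j < N → U (j + 1) < U j) :
    ∀ j, j ≤ N → Order.coheight (U 0) + (j : ℕ∞) ≤ Order.coheight (U j) := by
  intro j
  induction j with
  | zero => intro _; simp
  | succ j ih =>
    intro hj
    have h1 := ih (by omega)
    have h2 := Order.coheight_add_one_le (h j (by omega))
    calc Order.coheight (U 0) + ((j + 1 : ℕ) : ℕ∞)
        = (Order.coheight (U 0) + (j : ℕ∞)) + 1 := by
          rw [Nat.cast_add, Nat.cast_one, add_assoc]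
      _ ≤ Order.coheight (U j) + 1 := by gcongr
      _ ≤ Order.coheight (U (j + 1)) := h2

end chain

section basic

variable {R : Type u} [CommRing R]

open scoped Pointwise in
theorem smul_eq_span_mul (a : R) (J : Ideal R) : a • J = Ideal.span {a} * J := by
  ext x
  rw [Submodule.mem_smul_pointwise_iff_exists, Ideal.mem_span_singleton_mul]
  simp only [smul_eq_mul]

open scoped Pointwise in
theorem coheight_span_mul (a : R) (ha : a ∈ R⁰) (J : Ideal R) :
    Order.coheight (Ideal.span {a} * J) =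
      Order.coheight J + Order.coheight (Ideal.span {a} : Ideal R) := by
  have h := Module.length_eq_add_of_exact (Ideal.mulQuot a J) (Ideal.quotOfMul a J)
    (Ideal.mulQuot_injective J ha) (Ideal.quotOfMul_surjective J) (Ideal.exact_mulQuot_quotOfMul J)
  rw [Module.length_quotient, Module.length_quotient, Module.length_quotient,
    smul_eq_span_mul] at h
  exact h

theorem coheight_span_ne_top [IsNoetherianRing R] (hR : ringKrullDim R = 1)
    (c : R) (hc : c ∈ R⁰) : Order.coheight (Ideal.span {c} : Ideal R) ≠ ⊤ := by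
  haveI hdim : Ring.KrullDimLE 1 R := by
    rw [Ring.krullDimLE_iff, hR]; rfl
  have h := Ring.ord_ne_top hc
  unfold Ring.ord at h
  rw [Module.length_quotient] at h
  exact h

theorem exists_pow_le_span [IsNoetherianRing R] [IsLocalRing R] (hR : ringKrullDim R = 1)
    (c : R) (hc : c ∈ R⁰) : ∃ N : ℕ, (IsLocalRing.maximalIdeal R) ^ N ≤ Ideal.span {c} := by
  have hdim : Ring.KrullDimLE 1 R := by
    rw [Ring.krullDimLE_iff, hR]; rfl
  have hle : IsLocalRing.maximalIdeal R ≤ (Ideal.span {c}).radical := by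
    rw [Ideal.radical_eq_sInf]
    refine le_sInf ?_
    rintro p ⟨hbp, hp⟩
    have hbp' : c ∈ p := hbp (Ideal.subset_span rfl)
    rcases Ring.krullDimLE_one_iff.mp hdim p hp with hmin | hmax
    · exact absurd hc
        (Set.disjoint_left.mp (Ideal.disjoint_nonZeroDivisors_of_mem_minimalPrimes hmin) hbp')
    · rw [IsLocalRing.eq_maximalIdeal hmax]
  exact Ideal.exists_pow_le_of_le_radical_of_fg hle (isNoetherian_def.mp inferInstance _)

theorem pow_succ_le (a b : R) {I : Ideal R} (hI : I = Ideal.span {a, b}) (k : ℕ) :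
    I ^ (k + 1) ≤ Ideal.span {a} * I ^ k ⊔ Ideal.span {b ^ (k + 1)} := by
  have hbI : b ∈ I := by rw [hI]; exact Ideal.subset_span (by simp)
  induction k with
  | zero =>
    rw [zero_add, pow_one, pow_one, pow_zero, Ideal.one_eq_top, Ideal.mul_top, hI,
      Ideal.span_insert]
  | succ k ih =>
    calc I ^ (k + 1 + 1) = I * I ^ (k + 1) := pow_succ' _ _
      _ ≤ I * (Ideal.span {a} * I ^ k ⊔ Ideal.span {b ^ (k + 1)}) := Ideal.mul_mono_right ih
      _ = I * (Ideal.span {a} * I ^ k) ⊔ I * Ideal.span {b ^ (k + 1)} := Ideal.mul_sup _ _ _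
      _ ≤ _ := sup_le ?_ ?_
    · rw [mul_left_comm, ← pow_succ']; exact le_sup_left
    · rw [Ideal.mul_le]
      intro x hx y hy
      rw [hI] at hx
      obtain ⟨p, q, rfl⟩ := Ideal.mem_span_pair.mp hx
      obtain ⟨c, rfl⟩ := Ideal.mem_span_singleton'.mp hy
      have e : (p * a + q * b) * (c * b ^ (k + 1)) =
          a * (p * c * b ^ (k + 1)) + (q * c) * b ^ (k + 1 + 1) := by ring
      rw [e]
      refine Submodule.add_mem_sup ?_ ?_
      · exact Ideal.mul_mem_mul (Ideal.mem_span_singleton_self a)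
          (Ideal.mul_mem_left _ _ (Ideal.pow_mem_pow hbI _))
      · exact Ideal.mul_mem_left _ _ (Ideal.mem_span_singleton_self _)

end basic

section step1

variable {R : Type u} [CommRing R] [IsNoetherianRing R] [IsLocalRing R]

theorem exists_rel (hR : ringKrullDim R = 1)
    (a b : R) (ha : a ∈ R⁰) (ham : a ∈ IsLocalRing.maximalIdeal R)
    {I : Ideal R} (hI : I = Ideal.span {a, b}) :
    ∃ (i g : ℕ) (w : R), w ∈ I ^ g ∧ b * w ∈ Ideal.span {a} * I ^ g ∧
      a ^ i * (b ^ g - w) ∈ IsLocalRing.maximalIdeal R * I ^ (i + g) := by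
  have haI : a ∈ I := by rw [hI]; exact Ideal.subset_span (by simp)
  have hbI : b ∈ I := by rw [hI]; exact Ideal.subset_span (by simp)
  obtain ⟨n, hn⟩ := ENat.ne_top_iff_exists.mp (coheight_span_ne_top hR a ha)
  by_contra hno
  obtain ⟨U, hU⟩ : ∃ U : ℕ → Ideal R, ∀ j, U j =
      (if j ≤ n then Ideal.span {a ^ j} * I ^ (n - j) else ⊥) ⊔
        IsLocalRing.maximalIdeal R * I ^ n := ⟨_, fun _ => rfl⟩
  have hU0 : U 0 = I ^ n := by
    rw [hU, if_pos (Nat.zero_le n), pow_zero, Ideal.span_singleton_one, Ideal.top_mul,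
      Nat.sub_zero]
    exact sup_eq_left.mpr Ideal.mul_le_right
  have hUlast : U (n + 1) = IsLocalRing.maximalIdeal R * I ^ n := by
    rw [hU, if_neg (by omega), bot_sup_eq]
  have hstrict : ∀ j, j < n + 1 → U (j + 1) < U j := by
    intro j hj
    rcases Nat.lt_or_ge j n with hjn | hjn
    · have e : n - j = (n - (j + 1)) + 1 := by omega
      have hle : U (j + 1) ≤ U j := by
        rw [hU (j + 1), hU j, if_pos (by omega : j + 1 ≤ n), if_pos (by omega : j ≤ n)]
        refine sup_le_sup_right ?_ _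
        intro y hy
        obtain ⟨z, hz, rfl⟩ := Ideal.mem_span_singleton_mul.mp hy
        refine Ideal.mem_span_singleton_mul.mpr ⟨a * z, ?_, by ring⟩
        rw [e, pow_succ']
        exact Ideal.mul_mem_mul haI hz
      refine lt_of_le_of_ne hle (fun heq => hno ?_)
      have hmem : a ^ j * b ^ (n - j) ∈ U (j + 1) := by
        rw [heq, hU j, if_pos (by omega : j ≤ n)]
        exact Ideal.mem_sup_left
          (Ideal.mul_mem_mul (Ideal.mem_span_singleton_self _) (Ideal.pow_mem_pow hbI _))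
      rw [hU (j + 1), if_pos (by omega : j + 1 ≤ n)] at hmem
      obtain ⟨y, hy, μ, hμ, hsum⟩ := Submodule.mem_sup.mp hmem
      obtain ⟨w₀, hw₀, rfl⟩ := Ideal.mem_span_singleton_mul.mp hy
      refine ⟨j, n - j, a * w₀, ?_, ?_, ?_⟩
      · rw [e, pow_succ']; exact Ideal.mul_mem_mul haI hw₀
      · refine Ideal.mem_span_singleton_mul.mpr ⟨b * w₀, ?_, by ring⟩
        rw [e, pow_succ']; exact Ideal.mul_mem_mul hbI hw₀
      · have e2 : j + (n - j) = n := by omega
        have e3 : a ^ j * (b ^ (n - j) - a * w₀) = μ := by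
          linear_combination (-1 : R) * hsum
        rw [e2, e3]; exact hμ
    · have hjn' : j = n := by omega
      rw [hjn']
      have hle : U (n + 1) ≤ U n := by
        rw [hUlast, hU n]; exact le_sup_right
      refine lt_of_le_of_ne hle (fun heq => hno ?_)
      have hmem : a ^ n ∈ U (n + 1) := by
        rw [heq, hU n, if_pos le_rfl, Nat.sub_self, pow_zero, Ideal.one_eq_top, Ideal.mul_top]
        exact Ideal.mem_sup_left (Ideal.mem_span_singleton_self _)
      rw [hUlast] at hmem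
      refine ⟨n, 0, 0, Ideal.zero_mem _, ?_, ?_⟩
      · rw [mul_zero]; exact Ideal.zero_mem _
      · have e : a ^ n * (b ^ 0 - 0) = a ^ n := by ring
        rw [e, Nat.add_zero]; exact hmem
  have hchain := coheight_chain U (n + 1) hstrict (n + 1) le_rfl
  have hfinI : Order.coheight (I ^ n) ≠ ⊤ := by
    have h1 : Ideal.span {a ^ n} ≤ I ^ n :=
      (Ideal.span_singleton_le_iff_mem _).mpr (Ideal.pow_mem_pow haI n)
    have h2 := Order.coheight_anti h1
    have h3 := coheight_span_ne_top hR (a ^ n) (pow_mem ha n)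
    exact ne_top_of_le_ne_top h3 h2
  obtain ⟨l, hl⟩ := ENat.ne_top_iff_exists.mp hfinI
  have h5 : (l : ℕ∞) + ((n + 1 : ℕ) : ℕ∞) ≤ (l : ℕ∞) + (n : ℕ∞) := by
    calc (l : ℕ∞) + ((n + 1 : ℕ) : ℕ∞)
        = Order.coheight (U 0) + ((n + 1 : ℕ) : ℕ∞) := by rw [hU0, hl]
      _ ≤ Order.coheight (U (n + 1)) := hchain
      _ = Order.coheight (IsLocalRing.maximalIdeal R * I ^ n) := by rw [hUlast]
      _ ≤ Order.coheight (Ideal.span {a} * I ^ n) :=
          Order.coheight_anti
            (Ideal.mul_mono_left ((Ideal.span_singleton_le_iff_mem _).mpr ham))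
      _ = Order.coheight (I ^ n) + Order.coheight (Ideal.span {a} : Ideal R) :=
          coheight_span_mul a ha _
      _ = (l : ℕ∞) + (n : ℕ∞) := by rw [hl, hn]
  have h6 : l + (n + 1) ≤ l + n := by exact_mod_cast h5
  omega

end step1

section step2

variable {R : Type u} [CommRing R] [IsNoetherianRing R] [IsLocalRing R]

theorem stab_of_rel (a b : R) {I : Ideal R} (hI : I = Ideal.span {a, b})
    (i g : ℕ) (w : R) (hw : w ∈ I ^ g) (hbw : b * w ∈ Ideal.span {a} * I ^ g)
    (hrel : a ^ i * (b ^ g - w) ∈ IsLocalRing.maximalIdeal R * I ^ (i + g)) :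
    ∃ z ∈ I ^ (g + 1), I ^ (i + g + (g + 1)) = Ideal.span {z} * I ^ (i + g) := by
  have haI : a ∈ I := by rw [hI]; exact Ideal.subset_span (by simp)
  have hbI : b ∈ I := by rw [hI]; exact Ideal.subset_span (by simp)
  obtain ⟨G, hG⟩ : ∃ G, G = b ^ g - w := ⟨_, rfl⟩
  have hGI : G ∈ I ^ g := by rw [hG]; exact Ideal.sub_mem _ (Ideal.pow_mem_pow hbI g) hw
  obtain ⟨z, hz⟩ : ∃ z, z = a ^ (g + 1) + b * G := ⟨_, rfl⟩
  have hzI : z ∈ I ^ (g + 1) := by
    rw [hz]
    refine Ideal.add_mem _ (Ideal.pow_mem_pow haI _) ?_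
    rw [pow_succ']; exact Ideal.mul_mem_mul hbI hGI
  refine ⟨z, hzI, ?_⟩
  have hb1 : Ideal.span {b ^ (g + 1)} ≤ Ideal.span {a} * I ^ g ⊔ Ideal.span {z} := by
    rw [Ideal.span_singleton_le_iff_mem]
    have e : b ^ (g + 1) = (b * w - a * a ^ g) + z := by rw [hz, hG]; ring
    rw [e]
    refine Submodule.add_mem_sup ?_ (Ideal.mem_span_singleton_self z)
    exact Ideal.sub_mem _ hbw
      (Ideal.mul_mem_mul (Ideal.mem_span_singleton_self a) (Ideal.pow_mem_pow haI g))
  have h0 : I ^ (g + 1) ≤ Ideal.span {a} * I ^ g ⊔ Ideal.span {z} :=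
    (pow_succ_le a b hI g).trans (sup_le le_sup_left hb1)
  have hL1 : ∀ r, I ^ (g + r + 1) ≤ Ideal.span {a} * I ^ (g + r) ⊔ Ideal.span {z} * I ^ r := by
    intro r
    have e : g + r + 1 = g + 1 + r := by omega
    calc I ^ (g + r + 1) = I ^ (g + 1) * I ^ r := by rw [e, pow_add I (g + 1) r]
      _ ≤ (Ideal.span {a} * I ^ g ⊔ Ideal.span {z}) * I ^ r := Ideal.mul_mono_left h0
      _ = Ideal.span {a} * I ^ g * I ^ r ⊔ Ideal.span {z} * I ^ r := Ideal.sup_mul _ _ _
      _ = _ := by rw [mul_assoc, ← pow_add]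
  have hQ : ∀ x r, I ^ (g + r + (x + 1)) ≤
      Ideal.span {a ^ (x + 1)} * I ^ (g + r) ⊔ Ideal.span {z} * I ^ (r + x) := by
    intro x
    induction x with
    | zero =>
      intro r
      have h := hL1 r
      rw [zero_add, pow_one, add_zero]
      exact h
    | succ x ih =>
      intro r
      have h1 := ih (r + 1)
      have e1 : g + r + (x + 1 + 1) = g + (r + 1) + (x + 1) := by omega
      have e2 : r + 1 + x = r + (x + 1) := by omega
      have e3 : g + (r + 1) = g + r + 1 := by omega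
      rw [e1]
      rw [e2, e3] at h1
      rw [e3]
      refine h1.trans (sup_le ?_ le_sup_right)
      calc Ideal.span {a ^ (x + 1)} * I ^ (g + r + 1)
          ≤ Ideal.span {a ^ (x + 1)} *
              (Ideal.span {a} * I ^ (g + r) ⊔ Ideal.span {z} * I ^ r) :=
            Ideal.mul_mono_right (hL1 r)
        _ = Ideal.span {a ^ (x + 1)} * (Ideal.span {a} * I ^ (g + r)) ⊔
              Ideal.span {a ^ (x + 1)} * (Ideal.span {z} * I ^ r) := Ideal.mul_sup _ _ _
        _ ≤ _ := sup_le_sup ?_ ?_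
      · rw [← mul_assoc, Ideal.span_singleton_mul_span_singleton, ← pow_succ]
      · rw [mul_left_comm]
        refine Ideal.mul_mono_right ?_
        have e4 : I ^ (r + (x + 1)) = I ^ (x + 1) * I ^ r := by
          rw [add_comm r (x + 1), pow_add I (x + 1) r]
        rw [e4]
        exact Ideal.mul_mono_left
          ((Ideal.span_singleton_le_iff_mem _).mpr (Ideal.pow_mem_pow haI _))
  have hapow : Ideal.span {a ^ (i + g + 1)} ≤
      Ideal.span {z} * I ^ i ⊔ IsLocalRing.maximalIdeal R * I ^ (i + g + 1) := by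
    rw [Ideal.span_singleton_le_iff_mem]
    have e : a ^ (i + g + 1) = z * a ^ i - b * (a ^ i * G) := by rw [hz]; ring
    rw [e]
    refine Ideal.sub_mem _ (Ideal.mem_sup_left ?_) (Ideal.mem_sup_right ?_)
    · exact Ideal.mul_mem_mul (Ideal.mem_span_singleton_self z) (Ideal.pow_mem_pow haI i)
    · have h1 : a ^ i * G ∈ IsLocalRing.maximalIdeal R * I ^ (i + g) := by rw [hG]; exact hrel
      have e2 : b * (a ^ i * G) = (a ^ i * G) * b := by ring
      have e3 : IsLocalRing.maximalIdeal R * I ^ (i + g + 1) =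
          (IsLocalRing.maximalIdeal R * I ^ (i + g)) * I := by rw [pow_succ, mul_assoc]
      rw [e2, e3]; exact Ideal.mul_mem_mul h1 hbI
  have hmain : I ^ (i + g + (g + 1)) ≤
      Ideal.span {z} * I ^ (i + g) ⊔ IsLocalRing.maximalIdeal R • I ^ (i + g + (g + 1)) := by
    have h1 := hQ (i + g) 0
    have e1 : g + 0 + (i + g + 1) = i + g + (g + 1) := by omega
    rw [e1, add_zero, zero_add] at h1
    refine h1.trans (sup_le ?_ le_sup_left)
    have eA : Ideal.span {z} * I ^ i * I ^ g = Ideal.span {z} * I ^ (i + g) := by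
      rw [mul_assoc, ← pow_add]
    have eB : IsLocalRing.maximalIdeal R * I ^ (i + g + 1) * I ^ g =
        IsLocalRing.maximalIdeal R * I ^ (i + g + (g + 1)) := by
      have e : i + g + (g + 1) = i + g + 1 + g := by omega
      rw [mul_assoc, ← pow_add, e]
    calc Ideal.span {a ^ (i + g + 1)} * I ^ g
        ≤ (Ideal.span {z} * I ^ i ⊔ IsLocalRing.maximalIdeal R * I ^ (i + g + 1)) * I ^ g :=
          Ideal.mul_mono_left hapow
      _ = Ideal.span {z} * I ^ i * I ^ g ⊔
            IsLocalRing.maximalIdeal R * I ^ (i + g + 1) * I ^ g := Ideal.sup_mul _ _ _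
      _ = Ideal.span {z} * I ^ (i + g) ⊔
            IsLocalRing.maximalIdeal R * I ^ (i + g + (g + 1)) := by rw [eA, eB]
      _ = _ := by rw [Ideal.smul_eq_mul]
  have hjac : IsLocalRing.maximalIdeal R ≤ Ideal.jacobson (⊥ : Ideal R) := by
    rw [IsLocalRing.jacobson_eq_maximalIdeal ⊥ bot_ne_top]
  have hle := Submodule.le_of_le_smul_of_le_jacobson_bot (IsNoetherian.noetherian _) hjac hmain
  refine le_antisymm hle ?_
  have e5 : I ^ (i + g + (g + 1)) = I ^ (g + 1) * I ^ (i + g) := by
    rw [add_comm (i + g) (g + 1), pow_add I (g + 1) (i + g)]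
  rw [e5]
  exact Ideal.mul_mono_left ((Ideal.span_singleton_le_iff_mem _).mpr hzI)

end step2

section blow

variable {R : Type u} [CommRing R]

/-- The blow-up algebra `P / z ^ k` inside `R_z`. -/
def blowSub (z : R) (k : ℕ) (P : Ideal R) (hzP : z ^ k ∈ P)
    (hPP : P * P ≤ Ideal.span {z ^ k} * P) : Subalgebra R (Localization.Away z) where
  carrier := {x | ∃ y ∈ P, x * (algebraMap R (Localization.Away z) z) ^ k =
    algebraMap R (Localization.Away z) y}
  mul_mem' := by
    rintro x₁ x₂ ⟨y₁, hy₁, h₁⟩ ⟨y₂, hy₂, h₂⟩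
    obtain ⟨y₃, hy₃, h₃⟩ := Ideal.mem_span_singleton_mul.mp (hPP (Ideal.mul_mem_mul hy₁ hy₂))
    refine ⟨y₃, hy₃, ?_⟩
    have hu : IsUnit ((algebraMap R (Localization.Away z) z) ^ k) :=
      (IsLocalization.Away.algebraMap_isUnit z).pow k
    apply hu.mul_left_cancel
    have h4 : algebraMap R (Localization.Away z) (y₁ * y₂) =
        algebraMap R (Localization.Away z) (z ^ k * y₃) := by rw [h₃]
    rw [map_mul, map_mul, map_pow, ← h₁, ← h₂] at h4
    rw [← h4]; ring
  one_mem' := ⟨z ^ k, hzP, by rw [one_mul, map_pow]⟩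
  add_mem' := by
    rintro x₁ x₂ ⟨y₁, hy₁, h₁⟩ ⟨y₂, hy₂, h₂⟩
    exact ⟨y₁ + y₂, P.add_mem hy₁ hy₂, by rw [add_mul, h₁, h₂, map_add]⟩
  zero_mem' := ⟨0, P.zero_mem, by rw [zero_mul, map_zero]⟩
  algebraMap_mem' := by
    intro r
    exact ⟨r * z ^ k, P.mul_mem_left r hzP, by rw [map_mul, map_pow]⟩

theorem mem_blowSub {z : R} {k : ℕ} {P : Ideal R} {hzP : z ^ k ∈ P}
    {hPP : P * P ≤ Ideal.span {z ^ k} * P} {x : Localization.Away z} :
    x ∈ blowSub z k P hzP hPP ↔ ∃ y ∈ P, x * (algebraMap R (Localization.Away z) z) ^ k =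
      algebraMap R (Localization.Away z) y := Iff.rfl

theorem blow_main [IsNoetherianRing R] [IsLocalRing R] (hR : ringKrullDim R = 1)
    (I : Ideal R) (z : R) (hz : z ∈ R⁰) (s K : ℕ) (hs : 1 ≤ s) (hzI : z ∈ I ^ s)
    (hstab : I ^ (K + s) = Ideal.span {z} * I ^ K) :
    ∃ (R' : Type u) (_ : CommRing R') (_ : Algebra R R'),
      CycAlg.IsFinExt R R' (IsLocalRing.maximalIdeal R) ∧
      (∀ c ∈ R⁰, algebraMap R R' c ∈ R'⁰) ∧
      (Ideal.map (algebraMap R R') I) ^ s = Ideal.span {algebraMap R R' z} := by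
  have hstab_r : ∀ r, I ^ (K + r + s) = Ideal.span {z} * I ^ (K + r) := by
    intro r
    have e : K + r + s = r + (K + s) := by omega
    rw [e, pow_add, hstab, mul_left_comm, ← pow_add, add_comm r K]
  have hpow : ∀ j r, I ^ (K + r + s * j) = Ideal.span {z ^ j} * I ^ (K + r) := by
    intro j
    induction j with
    | zero =>
      intro r
      rw [Nat.mul_zero, Nat.add_zero, pow_zero, Ideal.span_singleton_one, Ideal.top_mul]
    | succ j ih =>
      intro r
      have e : K + r + s * (j + 1) = K + (r + s * j) + s := by ring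
      rw [e, hstab_r, ← add_assoc, ih, ← mul_assoc, Ideal.span_singleton_mul_span_singleton,
        ← pow_succ']
  obtain ⟨k, hk⟩ : ∃ k, k = K + 1 := ⟨_, rfl⟩
  have hKk : K ≤ s * k := by
    rw [hk]
    calc K ≤ K + 1 := Nat.le_succ K
      _ ≤ s * (K + 1) := Nat.le_mul_of_pos_left _ hs
  obtain ⟨r₀, hr₀⟩ := Nat.exists_eq_add_of_le hKk
  obtain ⟨P, hP⟩ : ∃ P : Ideal R, P = I ^ (s * k) := ⟨_, rfl⟩
  have hzkP : z ^ k ∈ P := by rw [hP, pow_mul]; exact Ideal.pow_mem_pow hzI k
  have hPP : P * P ≤ Ideal.span {z ^ k} * P := by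
    have h1 := hpow k r₀
    rw [← hr₀] at h1
    rw [hP, ← pow_add]
    exact h1.le
  obtain ⟨A, hA⟩ : ∃ A : Type u, A = Localization.Away z := ⟨_, rfl⟩
  subst hA
  obtain ⟨v, hv⟩ : ∃ v : Localization.Away z, algebraMap R (Localization.Away z) z * v = 1 :=
    (IsLocalization.Away.algebraMap_isUnit z).exists_right_inv
  obtain ⟨S, hS⟩ : ∃ S : Subalgebra R (Localization.Away z), S = blowSub z k P hzkP hPP :=
    ⟨_, rfl⟩
  have hmemS : ∀ x : Localization.Away z, x ∈ S ↔ ∃ y ∈ P,
      x * (algebraMap R (Localization.Away z) z) ^ k = algebraMap R (Localization.Away z) y := by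
    intro x; rw [hS]; exact mem_blowSub
  -- injectivity
  have hinjA : Function.Injective (algebraMap R (Localization.Away z)) :=
    IsLocalization.injective (Localization.Away z) (Submonoid.powers_le.mpr hz)
  have hinj : Function.Injective (algebraMap R ↥S) := by
    intro x y hxy
    exact hinjA (congrArg Subtype.val hxy)
  -- finiteness
  have hmemφ : ∀ y : ↥P, algebraMap R (Localization.Away z) (y : R) * v ^ k ∈ S := fun y =>
    (hmemS _).mpr ⟨y, y.2, by rw [mul_assoc, ← mul_pow, mul_comm v, hv, one_pow, mul_one]⟩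
  let φ : ↥P →ₗ[R] ↥S :=
    { toFun := fun y => ⟨algebraMap R (Localization.Away z) (y : R) * v ^ k, hmemφ y⟩
      map_add' := fun y₁ y₂ => Subtype.ext (by
        show algebraMap R (Localization.Away z) ((y₁ + y₂ : ↥P) : R) * v ^ k =
          algebraMap R (Localization.Away z) (y₁ : R) * v ^ k +
            algebraMap R (Localization.Away z) (y₂ : R) * v ^ k
        rw [Submodule.coe_add, map_add, add_mul])
      map_smul' := fun r y => Subtype.ext (by
        show algebraMap R (Localization.Away z) ((r • y : ↥P) : R) * v ^ k =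
          r • (algebraMap R (Localization.Away z) (y : R) * v ^ k)
        rw [Submodule.coe_smul, smul_eq_mul, map_mul, Algebra.smul_def, mul_assoc]) }
  have hφsurj : Function.Surjective φ := by
    rintro ⟨x, hx⟩
    obtain ⟨y, hy, hxy⟩ := (hmemS x).mp hx
    refine ⟨⟨y, hy⟩, Subtype.ext ?_⟩
    show algebraMap R (Localization.Away z) y * v ^ k = x
    rw [← hxy, mul_assoc, ← mul_pow, hv, one_pow, mul_one]
  have hfinite : Module.Finite R ↥S := Module.Finite.of_surjective φ hφsurj
  -- conductor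
  have hthird : ∃ n : ℕ, ∀ r ∈ IsLocalRing.maximalIdeal R ^ n, ∀ x : ↥S,
      r • x ∈ (algebraMap R ↥S).range := by
    obtain ⟨N, hN⟩ := exists_pow_le_span hR (z ^ k) (pow_mem hz k)
    refine ⟨N, fun r hr x => ?_⟩
    obtain ⟨r', hr'⟩ := Ideal.mem_span_singleton'.mp (hN hr)
    obtain ⟨y, hy, hxy⟩ := (hmemS _).mp x.2
    refine RingHom.mem_range.mpr ⟨r' * y, Subtype.ext ?_⟩
    show algebraMap R (Localization.Away z) (r' * y) = r • (x : Localization.Away z)
    rw [Algebra.smul_def, ← hr', map_mul, map_mul, map_pow, ← hxy]; ring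
  -- nonzerodivisors
  have hnzd : ∀ c ∈ R⁰, algebraMap R ↥S c ∈ (↥S)⁰ := by
    intro c hc
    have hcA : algebraMap R (Localization.Away z) c ∈ (Localization.Away z)⁰ :=
      IsLocalization.map_nonZeroDivisors_le (Submonoid.powers z) (Localization.Away z)
        (Submonoid.mem_map_of_mem _ hc)
    exact mem_nonZeroDivisors_of_injective (f := S.val) Subtype.val_injective hcA
  -- the ideal
  have hq : ∀ y ∈ I ^ s, algebraMap R (Localization.Away z) y * v ∈ S := by
    intro y hy
    refine (hmemS _).mpr ⟨y * z ^ K, ?_, ?_⟩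
    · have e : s * k = s + s * K := by rw [hk]; ring
      rw [hP, e, pow_add, pow_mul]
      exact Ideal.mul_mem_mul hy (Ideal.pow_mem_pow hzI K)
    · rw [hk, map_mul, map_pow, pow_succ]
      calc algebraMap R (Localization.Away z) y * v *
            (algebraMap R (Localization.Away z) z ^ K * algebraMap R (Localization.Away z) z)
          = algebraMap R (Localization.Away z) y * algebraMap R (Localization.Away z) z ^ K *
              (algebraMap R (Localization.Away z) z * v) := by ring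
        _ = _ := by rw [hv, mul_one]
  have hJs : (Ideal.map (algebraMap R ↥S) I) ^ s = Ideal.span {algebraMap R ↥S z} := by
    rw [← Ideal.map_pow]
    refine le_antisymm ?_ ?_
    · rw [Ideal.map_le_iff_le_comap]
      intro y hy
      rw [Ideal.mem_comap, Ideal.mem_span_singleton']
      refine ⟨⟨algebraMap R (Localization.Away z) y * v, hq y hy⟩, Subtype.ext ?_⟩
      show algebraMap R (Localization.Away z) y * v * algebraMap R (Localization.Away z) z =
        algebraMap R (Localization.Away z) y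
      rw [mul_assoc, mul_comm v, hv, mul_one]
    · exact (Ideal.span_singleton_le_iff_mem _).mpr (Ideal.mem_map_of_mem _ hzI)
  exact ⟨↥S, inferInstance, inferInstance, ⟨hinj, hfinite, hthird⟩, hnzd, hJs⟩

end blow

section fin

theorem finite_maximals {R : Type u} [CommRing R] [IsLocalRing R] (R' : Type u) [CommRing R']
    [Algebra R R'] [Module.Finite R R'] : {n : Ideal R' | n.IsMaximal}.Finite := by
  refine (Algebra.QuasiFinite.finite_primesOver (S := R') (IsLocalRing.maximalIdeal R)).subset ?_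
  intro n hn
  have hn' : n.IsMaximal := hn
  haveI := hn'
  refine ⟨hn'.isPrime, ⟨?_⟩⟩
  have hcm : (Ideal.comap (algebraMap R R') n).IsMaximal :=
    Ideal.isMaximal_comap_of_isIntegral_of_isMaximal n
  exact (IsLocalRing.eq_maximalIdeal hcm).symm

theorem prin {A : Type u} [CommRing A] (hfin : {I : Ideal A | I.IsMaximal}.Finite)
    (α β ζ : A) (s : ℕ) (hs : 1 ≤ s) (hζ : ζ ∈ A⁰)
    (hJ : (Ideal.span {α, β}) ^ s = Ideal.span {ζ}) :
    ∃ t a' b' : A, t ∈ A⁰ ∧ α = t * a' ∧ β = t * b' ∧ Ideal.span {a', b'} = ⊤ := by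
  have hs0 : s ≠ 0 := by omega
  have hunit : IsUnit ((Ideal.span {α, β} : Ideal A) : FractionalIdeal A⁰ (FractionRing A)) := by
    rw [← isUnit_pow_iff hs0, ← FractionalIdeal.coeIdeal_pow, hJ,
      FractionalIdeal.coeIdeal_span_singleton]
    obtain ⟨w, hw⟩ := (IsLocalization.map_units (FractionRing A) (⟨ζ, hζ⟩ : A⁰)).exists_right_inv
    have hw' : algebraMap A (FractionRing A) ζ * w = 1 := hw
    exact IsUnit.of_mul_eq_one (FractionalIdeal.spanSingleton A⁰ w)
      (by rw [FractionalIdeal.spanSingleton_mul_spanSingleton, hw',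
        FractionalIdeal.spanSingleton_one])
  obtain ⟨t, ht⟩ := (Ideal.IsPrincipal.of_finite_maximals_of_isUnit hfin hunit).1
  rw [Ideal.submodule_span_eq] at ht
  have hα : α ∈ Ideal.span {t} := by rw [← ht]; exact Ideal.subset_span (by simp)
  have hβ : β ∈ Ideal.span {t} := by rw [← ht]; exact Ideal.subset_span (by simp)
  have htm : t ∈ Ideal.span {α, β} := by rw [ht]; exact Ideal.mem_span_singleton_self t
  obtain ⟨a', ha'⟩ := Ideal.mem_span_singleton'.mp hα
  obtain ⟨b', hb'⟩ := Ideal.mem_span_singleton'.mp hβ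
  obtain ⟨x, y, hxy⟩ := Ideal.mem_span_pair.mp htm
  have hζJ : ζ ∈ (Ideal.span {α, β}) ^ s := by rw [hJ]; exact Ideal.mem_span_singleton_self ζ
  have hζt : ζ ∈ Ideal.span {t} := by
    rw [← ht]; exact Ideal.pow_le_self hs0 hζJ
  obtain ⟨c, hc⟩ := Ideal.mem_span_singleton'.mp hζt
  have ht0 : t ∈ A⁰ := by
    have h1 : c * t ∈ A⁰ := by rw [hc]; exact hζ
    exact (mul_mem_nonZeroDivisors.mp h1).2
  have h1 : x * a' + y * b' = 1 := by
    apply (mul_cancel_left_mem_nonZeroDivisors ht0).mp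
    linear_combination x * ha' + y * hb' + hxy
  refine ⟨t, a', b', ht0, by rw [← ha', mul_comm], by rw [← hb', mul_comm], ?_⟩
  rw [Ideal.eq_top_iff_one]
  exact Ideal.mem_span_pair.mpr ⟨x, y, h1⟩

end fin

section main

theorem trivial_case (R : Type u) [CommRing R] [IsLocalRing R] (a b : R) (ha : a ∈ R⁰)
    (hb : b ∈ R⁰) (h : IsUnit a ∨ IsUnit b) :
    ∃ (R' : Type u) (_ : CommRing R') (_ : Algebra R R'),
      CycAlg.IsFinExt R R' (IsLocalRing.maximalIdeal R) ∧
      ∃ t a' b' : R', t ∈ R'⁰ ∧ a' ∈ R'⁰ ∧ b' ∈ R'⁰ ∧ algebraMap R R' a = t * a' ∧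
        algebraMap R R' b = t * b' ∧ Ideal.span {a', b'} = ⊤ := by
  refine ⟨R, inferInstance, Algebra.id R,
    ⟨fun x y hxy => by simpa using hxy, inferInstance, 0, ?_⟩,
    1, a, b, one_mem _, ha, hb, ?_, ?_, ?_⟩
  · intro r _ x
    exact RingHom.mem_range.mpr ⟨r * x, by simp⟩
  · simp
  · simp
  · rcases h with h | h
    · exact Ideal.eq_top_of_isUnit_mem _ (Ideal.subset_span (by simp)) h
    · exact Ideal.eq_top_of_isUnit_mem _ (Ideal.subset_span (by simp)) h

theorem main (R : Type u) [CommRing R] [IsNoetherianRing R] [IsLocalRing R]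
    (hR : ringKrullDim R = 1) (a b : R) (ha : a ∈ R⁰) (hb : b ∈ R⁰) :
    ∃ (R' : Type u) (_ : CommRing R') (_ : Algebra R R'),
      CycAlg.IsFinExt R R' (IsLocalRing.maximalIdeal R) ∧
      ∃ t a' b' : R', t ∈ R'⁰ ∧ a' ∈ R'⁰ ∧ b' ∈ R'⁰ ∧ algebraMap R R' a = t * a' ∧
        algebraMap R R' b = t * b' ∧ Ideal.span {a', b'} = ⊤ := by
  by_cases hau : IsUnit a
  · exact trivial_case R a b ha hb (Or.inl hau)
  by_cases hbu : IsUnit b
  · exact trivial_case R a b ha hb (Or.inr hbu)
  have ham : a ∈ IsLocalRing.maximalIdeal R := (IsLocalRing.mem_maximalIdeal a).mpr hau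
  obtain ⟨i, g, w, hw, hbw, hrel⟩ := exists_rel hR a b ha ham rfl
  obtain ⟨z, hzI, hstab⟩ := stab_of_rel a b rfl i g w hw hbw hrel
  have hz : z ∈ R⁰ := by
    have h1 : a ^ (i + g + (g + 1)) ∈ Ideal.span {z} * (Ideal.span {a, b}) ^ (i + g) := by
      rw [← hstab]; exact Ideal.pow_mem_pow (Ideal.subset_span (by simp)) _
    obtain ⟨y, _, hy⟩ := Ideal.mem_span_singleton_mul.mp h1
    have h2 : z * y ∈ R⁰ := by rw [hy]; exact pow_mem ha _
    exact (mul_mem_nonZeroDivisors.mp h2).1
  obtain ⟨R', _, _, hfe, hnzd, hJs⟩ :=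
    blow_main hR (Ideal.span {a, b}) z hz (g + 1) (i + g) (by omega) hzI hstab
  haveI : Module.Finite R R' := hfe.2.1
  have hfinmax := finite_maximals (R := R) R'
  have hmap : Ideal.map (algebraMap R R') (Ideal.span {a, b}) =
      Ideal.span {algebraMap R R' a, algebraMap R R' b} := by
    rw [Ideal.map_span, Set.image_pair]
  rw [hmap] at hJs
  obtain ⟨t, a', b', ht, hαt, hβt, htop⟩ :=
    prin hfinmax _ _ _ (g + 1) (by omega) (hnzd z hz) hJs
  have hαnz := hnzd a ha
  have hβnz := hnzd b hb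
  rw [hαt] at hαnz
  rw [hβt] at hβnz
  exact ⟨R', inferInstance, inferInstance, hfe, t, a', b', ht,
    (mul_mem_nonZeroDivisors.mp hαnz).2, (mul_mem_nonZeroDivisors.mp hβnz).2, hαt, hβt, htop⟩

end main

end Groth.Agent.Helper22.FinExtFactor
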