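import Mathlib

/-!
# A Hilbert-type finiteness argument through a graded Noetherian ring (helper22)

`S = ⊕ 𝒜 n` a Noetherian graded ring, `φ : S → M` a ring map, `ι : A → M` a ring map with an
`A`-linear additive retraction `e : M → A`.  Suppose every `ι (e (φ q))`, `q ∈ 𝒜 n`, is again
`φ` of an element of `𝒜 n`.  Then there is a finite set `T ⊆ A` such that every `a` with
`ι a ∈ φ (𝒜 n)` lies in the subring generated by `T` and the `a`'s coming from degree `0`.
-/

set_option autoImplicit false

namespace Groth.Agent.Helper22.FinInv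

open DirectSum

theorem hilbert_filtered {R₀ S M A : Type*} [CommRing R₀] [CommRing S] [Algebra R₀ S]
    [CommRing M] [CommRing A] [IsNoetherianRing S]
    (𝒜 : ℕ → Submodule R₀ S) [GradedAlgebra 𝒜]
    (φ : S →+* M) (ι : A →+* M) (e : M →+ A)
    (he1 : ∀ a m, e (ι a * m) = a * e m) (he2 : ∀ a, e (ι a) = a)
    (hF2 : ∀ n, ∀ q ∈ 𝒜 n, ∃ q' ∈ 𝒜 n, φ q' = ι (e (φ q)))
    (B : Subring A) (h0 : ∀ p ∈ 𝒜 0, ∀ a, φ p = ι a → a ∈ B) :
    ∃ T : Finset A, ∀ n, ∀ p ∈ 𝒜 n, ∀ a, φ p = ι a →
      a ∈ Subring.closure ((B : Set A) ∪ (T : Set A)) := by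
  classical
  let Tset : Set S := {p | (∃ d : ℕ, 0 < d ∧ p ∈ 𝒜 d) ∧ ∃ a, φ p = ι a}
  have hfg : (Ideal.span Tset).FG := IsNoetherian.noetherian _
  obtain ⟨T', hT'T, hT'span⟩ := (Submodule.fg_span_iff_fg_span_finset_subset Tset).1 hfg
  have hdeg : ∀ t : T', ∃ d : ℕ, 0 < d ∧ (t : S) ∈ 𝒜 d := fun t => (hT'T t.2).1
  have hval : ∀ t : T', ∃ a, φ (t : S) = ι a := fun t => (hT'T t.2).2
  choose dg hdg_pos hdg_mem using hdeg
  choose av hav using hval
  refine ⟨Finset.univ.image av, ?_⟩
  intro n
  induction n using Nat.strong_induction_on with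
  | _ n ih =>
    intro p hp a hpa
    rcases Nat.eq_zero_or_pos n with hn | hn
    · subst hn
      exact Subring.subset_closure (Or.inl (h0 p hp a hpa))
    · have hpT : p ∈ Tset := ⟨⟨n, hn, hp⟩, a, hpa⟩
      have hpI : p ∈ Ideal.span (T' : Set S) := by
        have : p ∈ Ideal.span Tset := Ideal.subset_span hpT
        rw [Ideal.span, hT'span] at this
        exact this
      obtain ⟨c, hc⟩ := (Submodule.mem_span_finset' (R := S)).1 hpI
      let c' : T' → S := fun t =>
        if dg t ≤ n then ((DirectSum.decompose 𝒜 (c t) (n - dg t) : 𝒜 (n - dg t)) : S) else 0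
      have h1 : p = ∑ t : T', c' t * (t : S) := by
        have h2 : ((DirectSum.decompose 𝒜 p n : 𝒜 n) : S) = p :=
          DirectSum.decompose_of_mem_same 𝒜 hp
        rw [← h2, ← hc, DirectSum.decompose_sum, DFinsupp.finsetSum_apply,
          AddSubmonoidClass.coe_finsetSum]
        refine Finset.sum_congr rfl (fun t _ => ?_)
        rw [smul_eq_mul, DirectSum.coe_decompose_mul_of_right_mem 𝒜 n (hdg_mem t)]
        simp only [c']
        split_ifs <;> simp
      have h3 : a = ∑ t : T', av t * e (φ (c' t)) := by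
        have h4 : ι a = ∑ t : T', ι (av t) * φ (c' t) := by
          rw [← hpa, h1, map_sum]
          refine Finset.sum_congr rfl (fun t _ => ?_)
          rw [map_mul, hav t, mul_comm]
        rw [← he2 a, h4, map_sum]
        exact Finset.sum_congr rfl (fun t _ => he1 _ _)
      rw [h3]
      refine sum_mem (fun t _ => mul_mem ?_ ?_)
      · exact Subring.subset_closure (Or.inr (Finset.mem_coe.2
          (Finset.mem_image_of_mem av (Finset.mem_univ t))))
      · by_cases hle : dg t ≤ n
        · have hc'mem : c' t ∈ 𝒜 (n - dg t) := by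
            simp only [c', if_pos hle]
            exact SetLike.coe_mem _
          obtain ⟨q', hq', hφq'⟩ := hF2 _ _ hc'mem
          exact ih (n - dg t) (Nat.sub_lt hn (hdg_pos t)) q' hq' _ hφq'
        · have h5 : c' t = 0 := by simp only [c', if_neg hle]
          rw [h5, map_zero, map_zero]
          exact zero_mem _

end Groth.Agent.Helper22.FinInv
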