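import Groth.Agent.Lib.Helper22.Integ
import Groth.Agent.Lib.Helper22.ProjComod
import Groth.Agent.Lib.Helper22.FinInv1

/-!
# A Noetherian algebra with an action of a linearly reductive group of finite type is of finite type
over its invariants (helper22)

`φ : A[x_i] → A ⊗ H`, `a ↦ ρ a`, `x_i ↦ 1 ⊗ w_i` (the `w_i` span a right coideal generating `H`),
is surjective (antipode), equivariant for `ρ_P` on `A[x]` and `id ⊗ Δ` on `A ⊗ H`; the invariants of
`A ⊗ H` are `A ⊗ 1`; the right integral `J` gives a degree-preserving Reynolds operator; Hilbert's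
argument (`hilbert_filtered`) concludes.
-/

set_option autoImplicit false

namespace Groth.Agent.Helper22.FinInv

open TensorProduct HopfRep HopfAlgebra Groth.Agent.Helper19.HopfLib

universe u v w v'

section integral

variable {k : Type u} [Field k] {H : Type v} [CommRing H] [HopfAlgebra k H]

theorem antipode_antipode' (a : H) : antipode k (antipode k a) = a := by
  have h1 : (WithConv.toConv (AlgHom.id k H))⁻¹ = WithConv.toConv (antipodeAlgHom k H) := by
    show WithConv.toConv ((AlgHom.id k H).comp (antipodeAlgHom k H)) = _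
    rw [AlgHom.id_comp]
  have h2 := inv_inv (WithConv.toConv (AlgHom.id k H))
  rw [h1] at h2
  have h3 : (WithConv.toConv (antipodeAlgHom k H))⁻¹ =
      WithConv.toConv ((antipodeAlgHom k H).comp (antipodeAlgHom k H)) := rfl
  rw [h3] at h2
  have h4 := congrArg (fun f => f.ofConv a) h2
  simpa using h4

/-- A normalized right-invariant integral on `H`: `Σ h₁ J(h₂) = J(h) 1`. -/
structure IsRInt (J : H →ₗ[k] k) : Prop where
  one : J 1 = 1
  inv : ∀ h : H, (J.lTensor H) (Coalgebra.comul (R := k) h) = (J h • (1 : H)) ⊗ₜ[k] (1 : k)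

theorem exists_isRInt (hG : HopfRep.IsLinearlyReductive k H) : ∃ J : H →ₗ[k] k, IsRInt J := by
  obtain ⟨I, hI⟩ := Integ.exists_isInt hG
  have key : ∀ t : H ⊗[k] H,
      ((I ∘ₗ antipode k).lTensor H)
        (TensorProduct.map (antipode k) (antipode k) (TensorProduct.comm k H H t)) =
        ((antipode k (A := H)).rTensor k) (TensorProduct.comm k k H ((I.rTensor H) t)) := by
    intro t
    induction t using TensorProduct.induction_on with
    | zero => simp
    | tmul x y =>
      simp only [TensorProduct.comm_tmul, TensorProduct.map_tmul, LinearMap.lTensor_tmul,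
        LinearMap.rTensor_tmul, LinearMap.comp_apply, antipode_antipode']
    | add x y hx hy => simp only [map_add, hx, hy]
  have main : ∀ g : H, ((I ∘ₗ antipode k).lTensor H)
      (Coalgebra.comul (R := k) (antipode k g)) = (I g • (1 : H)) ⊗ₜ[k] (1 : k) := by
    intro g
    rw [comul_antipode k H g, key, hI.inv, TensorProduct.comm_tmul, LinearMap.rTensor_tmul,
      map_smul, HopfAlgebra.antipode_one]
  refine ⟨I ∘ₗ antipode k, ⟨?_, ?_⟩⟩
  · rw [LinearMap.comp_apply, HopfAlgebra.antipode_one, hI.one]
  · intro h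
    have := main (antipode k h)
    rw [antipode_antipode'] at this
    rw [this, LinearMap.comp_apply]

end integral

section family

variable {k : Type u} [Field k] {H : Type v} [CommRing H] [HopfAlgebra k H]

theorem exists_sum_of_mem_range (t : Finset H) (G : Submodule k H)
    (hG : G ≤ Submodule.span k (t : Set H)) (z : H ⊗[k] H)
    (hz : z ∈ LinearMap.range (G.subtype.rTensor H)) :
    ∃ c : t → H, z = ∑ j : t, (j : H) ⊗ₜ[k] c j := by
  obtain ⟨y, rfl⟩ := hz
  induction y using TensorProduct.induction_on with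
  | zero => exact ⟨fun _ => 0, by simp⟩
  | tmul g h =>
    obtain ⟨f, hf⟩ := Submodule.mem_span_finset'.1 (hG g.2)
    refine ⟨fun j => f j • h, ?_⟩
    rw [LinearMap.rTensor_tmul, Submodule.subtype_apply, ← hf, TensorProduct.sum_tmul]
    refine Finset.sum_congr rfl (fun j _ => ?_)
    rw [TensorProduct.smul_tmul]
  | add y₁ y₂ h₁ h₂ =>
    obtain ⟨c₁, hc₁⟩ := h₁
    obtain ⟨c₂, hc₂⟩ := h₂
    refine ⟨fun j => c₁ j + c₂ j, ?_⟩
    rw [map_add, hc₁, hc₂, ← Finset.sum_add_distrib]
    exact Finset.sum_congr rfl (fun j _ => (TensorProduct.tmul_add _ _ _).symm)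

theorem exists_family [Algebra.FiniteType k H] :
    ∃ t : Finset H, (1 : H) ∈ t ∧ Algebra.adjoin k (t : Set H) = ⊤ ∧
      ∀ x ∈ t, ∃ c : t → H, Coalgebra.comul (R := k) x = ∑ j : t, (j : H) ⊗ₜ[k] c j := by
  classical
  obtain ⟨s₀, hs₀⟩ := (Algebra.FiniteType.out : (⊤ : Subalgebra k H).FG)
  let N : Submodule k H := Submodule.span k ((insert 1 s₀ : Finset H) : Set H)
  have hNfg : N.FG := Submodule.fg_span (Finset.finite_toSet _)
  let G : Submodule k H := ProjComod.genSub (C := H) N
  have hGfg : G.FG := ProjComod.genSub_fg N hNfg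
  obtain ⟨t₀, ht₀⟩ := hGfg
  have hNG : N ≤ G := ProjComod.le_genSub N
  have h1G : (1 : H) ∈ G :=
    hNG (Submodule.subset_span (Finset.mem_coe.2 (Finset.mem_insert_self _ _)))
  have hspan : Submodule.span k ((insert 1 t₀ : Finset H) : Set H) = G := by
    apply le_antisymm
    · apply Submodule.span_le.2
      intro x hx
      rcases Finset.mem_insert.1 (Finset.mem_coe.1 hx) with rfl | hx
      · exact h1G
      · rw [← ht₀]; exact Submodule.subset_span hx
    · rw [← ht₀]
      exact Submodule.span_mono
        (fun x hx => Finset.mem_coe.2 (Finset.mem_insert_of_mem (Finset.mem_coe.1 hx)))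
  have htG : ∀ x ∈ insert 1 t₀, x ∈ G := by
    intro x hx
    rw [← hspan]
    exact Submodule.subset_span (Finset.mem_coe.2 hx)
  refine ⟨insert 1 t₀, Finset.mem_insert_self _ _, ?_, ?_⟩
  · rw [eq_top_iff, ← hs₀]
    apply Algebra.adjoin_le
    intro x hx
    have hxG : x ∈ G := hNG (Submodule.subset_span
      (Finset.mem_coe.2 (Finset.mem_insert_of_mem (Finset.mem_coe.1 hx))))
    rw [← hspan] at hxG
    exact Algebra.span_le_adjoin k _ hxG
  · intro x hx
    have hsub := ProjComod.genSub_isSubcomod (C := H) N x (htG x hx)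
    exact exists_sum_of_mem_range (insert 1 t₀) G (le_of_eq hspan.symm) _ hsub

end family

end Groth.Agent.Helper22.FinInv
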