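import Groth.Agent.Lib.Helper22.FinInv2

/-!
# Finite type over invariants: the polynomial presentation `A[x] → A ⊗ H` (helper22)
-/

set_option autoImplicit false

namespace Groth.Agent.Helper22.FinInv

open TensorProduct HopfRep HopfAlgebra Groth.Agent.Helper19.HopfLib

universe u v w v'

section main

variable (k : Type u) [Field k] {H : Type v} [CommRing H] [HopfAlgebra k H]
variable (A : Type w) [CommRing A] [Algebra k A] [Comod k H A] [GLin.IsCoactAlg k H A]
variable {σ : Type v'} [Fintype σ] (wt : σ → H) (cm : σ → σ → H)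

/-- `φ : A[x] → A ⊗ H` as a ring map. -/
noncomputable def phiRing : MvPolynomial σ A →+* A ⊗[k] H :=
  MvPolynomial.eval₂Hom ((GLin.coactAlgHom k H A : A →ₐ[k] A ⊗[k] H) : A →+* A ⊗[k] H)
    (fun i => (1 : A) ⊗ₜ[k] wt i)

/-- `φ : A[x] → A ⊗ H`, `a ↦ ρ a`, `x_i ↦ 1 ⊗ w_i`. -/
noncomputable def phi : MvPolynomial σ A →ₐ[k] A ⊗[k] H :=
  { phiRing k A wt with
    commutes' := fun r => by
      show phiRing k A wt (algebraMap k (MvPolynomial σ A) r) = _
      rw [MvPolynomial.algebraMap_apply]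
      unfold phiRing
      rw [MvPolynomial.eval₂Hom_C]
      exact (GLin.coactAlgHom k H A).commutes r }

theorem phi_C (a : A) :
    phi k A wt (MvPolynomial.C a) = Comod.coact (k := k) (A := H) a := by
  show phiRing k A wt (MvPolynomial.C a) = _
  unfold phiRing
  rw [MvPolynomial.eval₂Hom_C]
  rfl

theorem phi_X (i : σ) : phi k A wt (MvPolynomial.X i) = (1 : A) ⊗ₜ[k] wt i := by
  show phiRing k A wt (MvPolynomial.X i) = _
  unfold phiRing
  rw [MvPolynomial.eval₂Hom_X']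

/-- the coaction `id ⊗ Δ` on `A ⊗ H`. -/
noncomputable def rhoM : A ⊗[k] H →ₐ[k] (A ⊗[k] H) ⊗[k] H :=
  ((Algebra.TensorProduct.assoc k k k A H H).symm :
      A ⊗[k] (H ⊗[k] H) →ₐ[k] (A ⊗[k] H) ⊗[k] H).comp
    (Algebra.TensorProduct.map (AlgHom.id k A) (Bialgebra.comulAlgHom k H))

variable {A} in
theorem assoc_symm_eq (a : A) (y : H ⊗[k] H) :
    (Algebra.TensorProduct.assoc k k k A H H).symm (a ⊗ₜ[k] y) =
      (TensorProduct.assoc k A H H).symm (a ⊗ₜ[k] y) := by
  induction y using TensorProduct.induction_on with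
  | zero => simp
  | tmul b c => rw [Algebra.TensorProduct.assoc_symm_tmul, TensorProduct.assoc_symm_tmul]
  | add y₁ y₂ h₁ h₂ => rw [TensorProduct.tmul_add, map_add, map_add, h₁, h₂]

theorem rhoM_apply (z : A ⊗[k] H) : rhoM k A z =
    (TensorProduct.assoc k A H H).symm
      ((Coalgebra.comul (R := k) (A := H)).lTensor A z) := by
  induction z using TensorProduct.induction_on with
  | zero => simp
  | tmul a h =>
    rw [LinearMap.lTensor_tmul, ← assoc_symm_eq]
    show (Algebra.TensorProduct.assoc k k k A H H).symm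
      ((Algebra.TensorProduct.map (AlgHom.id k A) (Bialgebra.comulAlgHom k H)) (a ⊗ₜ[k] h)) = _
    rw [Algebra.TensorProduct.map_tmul]
    rfl
  | add z₁ z₂ h₁ h₂ => rw [map_add, map_add, map_add, h₁, h₂]

/-- the coaction on `A[x]` as a ring map. -/
noncomputable def rhoPRing : MvPolynomial σ A →+* (MvPolynomial σ A) ⊗[k] H :=
  MvPolynomial.eval₂Hom
    (((Algebra.TensorProduct.map (IsScalarTower.toAlgHom k A (MvPolynomial σ A))
        (AlgHom.id k H)).comp (GLin.coactAlgHom k H A) :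
        A →ₐ[k] (MvPolynomial σ A) ⊗[k] H) : A →+* (MvPolynomial σ A) ⊗[k] H)
    (fun i => ∑ j, (MvPolynomial.X j : MvPolynomial σ A) ⊗ₜ[k] cm i j)

theorem rhoP_C (a : A) : rhoPRing k A cm (MvPolynomial.C a) =
    (Algebra.TensorProduct.map (IsScalarTower.toAlgHom k A (MvPolynomial σ A)) (AlgHom.id k H))
      (Comod.coact (k := k) (A := H) a) := by
  unfold rhoPRing
  rw [MvPolynomial.eval₂Hom_C]
  rfl

theorem rhoP_X (i : σ) : rhoPRing k A cm (MvPolynomial.X i) =
    ∑ j, (MvPolynomial.X j : MvPolynomial σ A) ⊗ₜ[k] cm i j := by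
  unfold rhoPRing
  rw [MvPolynomial.eval₂Hom_X']

theorem phi_rhoP (hcm : ∀ i, Coalgebra.comul (R := k) (wt i) = ∑ j, wt j ⊗ₜ[k] cm i j)
    (p : MvPolynomial σ A) :
    (Algebra.TensorProduct.map (phi k A wt) (AlgHom.id k H)) (rhoPRing k A cm p) =
      rhoM k A (phi k A wt p) := by
  have hh : ((Algebra.TensorProduct.map (phi k A wt) (AlgHom.id k H) :
        (MvPolynomial σ A) ⊗[k] H →ₐ[k] (A ⊗[k] H) ⊗[k] H) :
        (MvPolynomial σ A) ⊗[k] H →+* (A ⊗[k] H) ⊗[k] H).comp (rhoPRing k A cm) =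
      ((rhoM k A : A ⊗[k] H →ₐ[k] (A ⊗[k] H) ⊗[k] H) : A ⊗[k] H →+* (A ⊗[k] H) ⊗[k] H).comp
        ((phi k A wt : MvPolynomial σ A →ₐ[k] A ⊗[k] H) : MvPolynomial σ A →+* A ⊗[k] H) := by
    apply MvPolynomial.ringHom_ext
    · intro a
      simp only [RingHom.comp_apply, RingHom.coe_coe]
      rw [rhoP_C, phi_C, rhoM_apply, ← coassoc_apply (k := k) (A := H) a]
      generalize Comod.coact (k := k) (A := H) a = z
      induction z using TensorProduct.induction_on with
      | zero => simp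
      | tmul a' h =>
        simp only [Algebra.TensorProduct.map_tmul, LinearMap.rTensor_tmul, AlgHom.coe_id, id_eq,
          IsScalarTower.toAlgHom_apply, MvPolynomial.algebraMap_eq, phi_C]
      | add z₁ z₂ h₁ h₂ => rw [map_add, map_add, map_add, h₁, h₂]
    · intro i
      simp only [RingHom.comp_apply, RingHom.coe_coe]
      rw [rhoP_X, phi_X, rhoM_apply, LinearMap.lTensor_tmul, hcm, map_sum, TensorProduct.tmul_sum,
        map_sum]
      refine Finset.sum_congr rfl (fun j _ => ?_)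
      rw [Algebra.TensorProduct.map_tmul, phi_X, TensorProduct.assoc_symm_tmul]
      rfl
  exact RingHom.congr_fun hh p

variable {k}

/-- `e : A ⊗ H → A`, `a ⊗ h ↦ J(h) a`. -/
noncomputable def eM (J : H →ₗ[k] k) : A ⊗[k] H →ₗ[k] A :=
  (TensorProduct.rid k A).toLinearMap ∘ₗ J.lTensor A

variable {A}

theorem eM_tmul (J : H →ₗ[k] k) (a : A) (h : H) : eM A J (a ⊗ₜ[k] h) = J h • a := by
  simp [eM]

theorem slice_rhoM (J : H →ₗ[k] k) (hJ : IsRInt J) (m : A ⊗[k] H) :
    TensorProduct.rid k (A ⊗[k] H) ((J.lTensor (A ⊗[k] H)) (rhoM k A m)) =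
      (eM A J m) ⊗ₜ[k] (1 : H) := by
  rw [rhoM_apply]
  induction m using TensorProduct.induction_on with
  | zero => simp
  | tmul a h =>
    rw [LinearMap.lTensor_tmul, eM_tmul]
    have key : ∀ y : H ⊗[k] H, TensorProduct.rid k (A ⊗[k] H) ((J.lTensor (A ⊗[k] H))
        ((TensorProduct.assoc k A H H).symm (a ⊗ₜ[k] y))) =
        a ⊗ₜ[k] (TensorProduct.rid k H ((J.lTensor H) y)) := by
      intro y
      induction y using TensorProduct.induction_on with
      | zero => simp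
      | tmul b c =>
        simp only [TensorProduct.assoc_symm_tmul, LinearMap.lTensor_tmul, TensorProduct.rid_tmul,
          TensorProduct.tmul_smul]
      | add y₁ y₂ h₁ h₂ => simp only [TensorProduct.tmul_add, map_add, h₁, h₂]
    rw [key, hJ.inv, TensorProduct.rid_tmul, one_smul, TensorProduct.tmul_smul,
      TensorProduct.smul_tmul']
  | add m₁ m₂ h₁ h₂ => simp only [map_add, h₁, h₂, TensorProduct.add_tmul]

theorem eM_mul (J : H →ₗ[k] k) (a : A) (m : A ⊗[k] H) :
    eM A J ((a ⊗ₜ[k] (1 : H)) * m) = a * eM A J m := by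
  induction m using TensorProduct.induction_on with
  | zero => simp
  | tmul a' h =>
    rw [Algebra.TensorProduct.tmul_mul_tmul, one_mul, eM_tmul, eM_tmul, mul_smul_comm]
  | add m₁ m₂ h₁ h₂ => rw [mul_add, map_add, map_add, h₁, h₂, mul_add]

/-- elements of `A[x] ⊗ H` that are "homogeneous of degree `n`" in the first factor. -/
noncomputable def Z (n : ℕ) : Submodule k ((MvPolynomial σ A) ⊗[k] H) :=
  Submodule.span k {z | ∃ p ∈ MvPolynomial.homogeneousSubmodule σ A n, ∃ h : H, z = p ⊗ₜ[k] h}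

theorem tmul_mem_Z {n : ℕ} {p : MvPolynomial σ A} (hp : p.IsHomogeneous n) (h : H) :
    p ⊗ₜ[k] h ∈ Z (k := k) (H := H) (A := A) (σ := σ) n :=
  Submodule.subset_span ⟨p, (MvPolynomial.mem_homogeneousSubmodule n p).2 hp, h, rfl⟩

theorem Z_mul {i j : ℕ} {z z' : (MvPolynomial σ A) ⊗[k] H} (hz : z ∈ Z i) (hz' : z' ∈ Z j) :
    z * z' ∈ Z (i + j) := by
  have h := Submodule.mul_mem_mul hz hz'
  unfold Z at h ⊢
  rw [Submodule.span_mul_span] at h
  refine Submodule.span_mono ?_ h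
  rintro _ ⟨_, ⟨p, hp, h, rfl⟩, _, ⟨p', hp', h', rfl⟩, rfl⟩
  refine ⟨p * p', ?_, h * h', ?_⟩
  · rw [MvPolynomial.mem_homogeneousSubmodule] at hp hp' ⊢
    exact hp.mul hp'
  · show (p ⊗ₜ[k] h) * (p' ⊗ₜ[k] h') = _
    rw [Algebra.TensorProduct.tmul_mul_tmul]

theorem one_mem_Z : (1 : (MvPolynomial σ A) ⊗[k] H) ∈ Z (k := k) (H := H) (A := A) (σ := σ) 0 := by
  rw [Algebra.TensorProduct.one_def]
  exact tmul_mem_Z (MvPolynomial.isHomogeneous_one σ A) 1

theorem Z_pow {z : (MvPolynomial σ A) ⊗[k] H} (hz : z ∈ Z 1) (e : ℕ) : z ^ e ∈ Z e := by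
  induction e with
  | zero => rw [pow_zero]; exact one_mem_Z
  | succ e ih => rw [pow_succ]; exact Z_mul ih hz

theorem Z_prod (s : Finset σ) (f : σ → ℕ) (z : σ → (MvPolynomial σ A) ⊗[k] H)
    (hz : ∀ i, z i ∈ Z 1) : ∏ i ∈ s, z i ^ f i ∈ Z (∑ i ∈ s, f i) := by
  classical
  induction s using Finset.induction_on with
  | empty => rw [Finset.prod_empty, Finset.sum_empty]; exact one_mem_Z
  | insert a s ha ih =>
    rw [Finset.prod_insert ha, Finset.sum_insert ha]
    exact Z_mul (Z_pow (hz a) _) ih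

variable (k A)

theorem rhoP_C_mem (a : A) : rhoPRing k A cm (MvPolynomial.C a) ∈ Z 0 := by
  rw [rhoP_C]
  generalize Comod.coact (k := k) (A := H) a = z
  induction z using TensorProduct.induction_on with
  | zero => rw [map_zero]; exact zero_mem _
  | tmul a' h =>
    rw [Algebra.TensorProduct.map_tmul]
    refine tmul_mem_Z ?_ _
    rw [IsScalarTower.toAlgHom_apply, MvPolynomial.algebraMap_eq]
    exact MvPolynomial.isHomogeneous_C σ a'
  | add z₁ z₂ h₁ h₂ => rw [map_add]; exact add_mem h₁ h₂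

theorem rhoP_X_mem (i : σ) : rhoPRing k A cm (MvPolynomial.X i) ∈ Z 1 := by
  rw [rhoP_X]
  exact sum_mem (fun j _ => tmul_mem_Z (MvPolynomial.isHomogeneous_X A j) _)

theorem rhoP_mem {n : ℕ} {p : MvPolynomial σ A} (hp : p.IsHomogeneous n) :
    rhoPRing k A cm p ∈ Z n := by
  rw [← MvPolynomial.support_sum_monomial_coeff p, map_sum]
  refine sum_mem (fun d hd => ?_)
  have hd' : Finsupp.degree d = n := by
    have := hp (MvPolynomial.mem_support_iff.1 hd)
    rw [Finsupp.degree_eq_weight_one]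
    exact this
  rw [MvPolynomial.monomial_eq, map_mul, map_finsuppProd, Finsupp.prod]
  simp only [map_pow]
  have h1 := Z_mul (rhoP_C_mem k A cm (MvPolynomial.coeff d p))
    (Z_prod d.support (fun i => d i) (fun i => rhoPRing k A cm (MvPolynomial.X i))
      (fun i => rhoP_X_mem k A cm i))
  rw [zero_add, ← Finsupp.degree_apply, hd'] at h1
  exact h1

variable {k A}

/-- slicing `A[x] ⊗ H → A[x]` by `J`. -/
noncomputable def sJ (J : H →ₗ[k] k) : (MvPolynomial σ A) ⊗[k] H →ₗ[k] MvPolynomial σ A :=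
  (TensorProduct.rid k (MvPolynomial σ A)).toLinearMap ∘ₗ J.lTensor (MvPolynomial σ A)

theorem sJ_tmul (J : H →ₗ[k] k) (p : MvPolynomial σ A) (h : H) :
    sJ J (p ⊗ₜ[k] h) = J h • p := by
  simp [sJ]

theorem sJ_mem (J : H →ₗ[k] k) {n : ℕ} {z : (MvPolynomial σ A) ⊗[k] H} (hz : z ∈ Z n) :
    (sJ J z).IsHomogeneous n := by
  have hle : Z (k := k) (H := H) (A := A) (σ := σ) n ≤
      ((MvPolynomial.homogeneousSubmodule σ A n).restrictScalars k).comap (sJ J) := by
    apply Submodule.span_le.2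
    rintro _ ⟨p, hp, h, rfl⟩
    show sJ J (p ⊗ₜ[k] h) ∈ MvPolynomial.homogeneousSubmodule σ A n
    rw [sJ_tmul]
    exact Submodule.smul_of_tower_mem _ _ hp
  exact (MvPolynomial.mem_homogeneousSubmodule n _).1 (hle hz)

theorem phi_sJ (J : H →ₗ[k] k) (y : (MvPolynomial σ A) ⊗[k] H) :
    phi k A wt (sJ J y) = TensorProduct.rid k (A ⊗[k] H) ((J.lTensor (A ⊗[k] H))
      ((Algebra.TensorProduct.map (phi k A wt) (AlgHom.id k H)) y)) := by
  induction y using TensorProduct.induction_on with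
  | zero => simp
  | tmul p h =>
    rw [sJ_tmul, map_smul, Algebra.TensorProduct.map_tmul, LinearMap.lTensor_tmul,
      TensorProduct.rid_tmul]
    rfl
  | add y₁ y₂ h₁ h₂ => simp only [map_add, h₁, h₂]

theorem hF2 (J : H →ₗ[k] k) (hJ : IsRInt J)
    (hcm : ∀ i, Coalgebra.comul (R := k) (wt i) = ∑ j, wt j ⊗ₜ[k] cm i j)
    {n : ℕ} {q : MvPolynomial σ A} (hq : q.IsHomogeneous n) :
    ∃ q' : MvPolynomial σ A, q'.IsHomogeneous n ∧
      phi k A wt q' = (eM A J (phi k A wt q)) ⊗ₜ[k] (1 : H) :=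
  ⟨sJ J (rhoPRing k A cm q), sJ_mem J (rhoP_mem k A cm hq), by
    rw [phi_sJ, phi_rhoP k A wt cm hcm, slice_rhoM J hJ]⟩

end main

end Groth.Agent.Helper22.FinInv
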