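import Groth.Agent.Lib.Helper22.FinInv3

/-!
# Finite type over invariants: surjectivity of `A[x] → A ⊗ H` and the conclusion (helper22)
-/

set_option autoImplicit false

namespace Groth.Agent.Helper22.FinInv

open TensorProduct HopfRep HopfAlgebra Groth.Agent.Helper19.HopfLib

universe u v w v'

attribute [local instance] MvPolynomial.gradedAlgebra

section final

variable {k : Type u} [Field k] {H : Type v} [CommRing H] [HopfAlgebra k H]
variable {A : Type w} [CommRing A] [Algebra k A] [Comod k H A] [GLin.IsCoactAlg k H A]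
variable {σ : Type v'} [Fintype σ] (wt : σ → H) (cm : σ → σ → H)

theorem phi_surjective (hadj : Algebra.adjoin k (Set.range wt) = ⊤) :
    Function.Surjective (phi k A wt) := by
  have h1 : ∀ h : H, (1 : A) ⊗ₜ[k] h ∈ (phi k A wt).range := by
    have hle : Algebra.adjoin k (Set.range wt) ≤
        (phi k A wt).range.comap (Algebra.TensorProduct.includeRight : H →ₐ[k] A ⊗[k] H) := by
      apply Algebra.adjoin_le
      rintro _ ⟨i, rfl⟩
      exact ⟨MvPolynomial.X i, phi_X k A wt i⟩
    intro h
    have hh : h ∈ Algebra.adjoin k (Set.range wt) := by rw [hadj]; exact Algebra.mem_top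
    have := hle hh
    rw [Subalgebra.mem_comap] at this
    exact this
  haveI := isHopfMod_self k H A
  have h2 : ∀ t : A ⊗[k] H, P k H A A 1
      ((Comod.coact (k := k) (A := H) (V := A)).rTensor H t) ∈ (phi k A wt).range := by
    intro t
    induction t using TensorProduct.induction_on with
    | zero => rw [map_zero, map_zero]; exact zero_mem _
    | tmul a h =>
      rw [LinearMap.rTensor_tmul, P_tmul, hmSMul_self]
      exact mul_mem (h1 _) ⟨MvPolynomial.C a, phi_C k A wt a⟩
    | add t₁ t₂ h₁ h₂ => rw [map_add, map_add]; exact add_mem h₁ h₂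
  have h3 : ∀ a : A, a ⊗ₜ[k] (1 : H) ∈ (phi k A wt).range := by
    intro a
    have := h2 (Comod.coact (k := k) (A := H) a)
    rw [P_coact, one_smul] at this
    exact this
  intro m
  have hm : m ∈ (phi k A wt).range := by
    induction m using TensorProduct.induction_on with
    | zero => exact zero_mem _
    | tmul a h =>
      have h4 : a ⊗ₜ[k] h = (a ⊗ₜ[k] (1 : H)) * ((1 : A) ⊗ₜ[k] h) := by
        rw [Algebra.TensorProduct.tmul_mul_tmul, mul_one, one_mul]
      rw [h4]
      exact mul_mem (h3 a) (h1 h)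
    | add m₁ m₂ h₁ h₂ => exact add_mem h₁ h₂
  exact hm

theorem exists_homogeneous (i0 : σ) (hi0 : wt i0 = 1) (p : MvPolynomial σ A) :
    ∃ n, ∃ p' : MvPolynomial σ A, p'.IsHomogeneous n ∧ phi k A wt p' = phi k A wt p := by
  refine ⟨p.totalDegree, ∑ i ∈ Finset.range (p.totalDegree + 1),
    MvPolynomial.homogeneousComponent i p * MvPolynomial.X i0 ^ (p.totalDegree - i), ?_, ?_⟩
  · apply MvPolynomial.IsHomogeneous.sum
    intro i hi
    have hi' : i + (p.totalDegree - i) = p.totalDegree := by
      have := Finset.mem_range.1 hi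
      omega
    have := (MvPolynomial.homogeneousComponent_isHomogeneous i p).mul
      (MvPolynomial.isHomogeneous_X_pow (R := A) i0 (p.totalDegree - i))
    rw [hi'] at this
    exact this
  · rw [map_sum]
    conv_rhs => rw [← MvPolynomial.sum_homogeneousComponent p, map_sum]
    refine Finset.sum_congr rfl (fun i _ => ?_)
    rw [map_mul, map_pow, phi_X, hi0, ← Algebra.TensorProduct.one_def, one_pow, mul_one]

theorem mem_invariants_of_deg_zero {p : MvPolynomial σ A} (hp : p.IsHomogeneous 0) (a : A)
    (h : phi k A wt p = a ⊗ₜ[k] (1 : H)) : a ∈ GLin.invariants k H A := by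
  have hp' : p ∈ MvPolynomial.homogeneousSubmodule σ A 0 :=
    (MvPolynomial.mem_homogeneousSubmodule 0 p).2 hp
  rw [MvPolynomial.homogeneousSubmodule_zero] at hp'
  obtain ⟨a', rfl⟩ := Submodule.mem_one.1 hp'
  rw [MvPolynomial.algebraMap_eq, phi_C] at h
  have h2 : TensorProduct.rid k A ((Coalgebra.counit (R := k) (A := H)).lTensor A
      (Comod.coact (k := k) (A := H) a')) = TensorProduct.rid k A
      ((Coalgebra.counit (R := k) (A := H)).lTensor A (a ⊗ₜ[k] (1 : H))) := by rw [h]
  rw [rid_counit_apply, LinearMap.lTensor_tmul, TensorProduct.rid_tmul, Bialgebra.counit_one,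
    one_smul] at h2
  subst h2
  exact (GLin.mem_invariants_iff k H A a').2 h

theorem finiteType_of_data [IsNoetherianRing A] (J : H →ₗ[k] k) (hJ : IsRInt J)
    (hcm : ∀ i, Coalgebra.comul (R := k) (wt i) = ∑ j, wt j ⊗ₜ[k] cm i j)
    (hadj : Algebra.adjoin k (Set.range wt) = ⊤) (i0 : σ) (hi0 : wt i0 = 1) :
    Algebra.FiniteType (GLin.invariants k H A) A := by
  classical
  obtain ⟨T, hT⟩ := hilbert_filtered (MvPolynomial.homogeneousSubmodule σ A)
    ((phi k A wt : MvPolynomial σ A →ₐ[k] A ⊗[k] H) : MvPolynomial σ A →+* A ⊗[k] H)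
    ((Algebra.TensorProduct.includeLeft : A →ₐ[k] A ⊗[k] H) : A →+* A ⊗[k] H)
    (eM A J).toAddMonoidHom
    (fun a m => eM_mul J a m)
    (fun a => by
      show eM A J (a ⊗ₜ[k] (1 : H)) = a
      rw [eM_tmul, hJ.one, one_smul])
    (fun n q hq => by
      obtain ⟨q', hq', h⟩ := hF2 wt cm J hJ hcm ((MvPolynomial.mem_homogeneousSubmodule n q).1 hq)
      exact ⟨q', (MvPolynomial.mem_homogeneousSubmodule n q').2 hq', h⟩)
    (GLin.invariants k H A).toSubring
    (fun p hp a h => mem_invariants_of_deg_zero (k := k) wt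
      ((MvPolynomial.mem_homogeneousSubmodule 0 p).1 hp) a h)
  refine ⟨⟨T, eq_top_iff.2 (fun a _ => ?_)⟩⟩
  obtain ⟨p, hp⟩ := phi_surjective (A := A) wt hadj (a ⊗ₜ[k] (1 : H))
  obtain ⟨n, p', hp', hpp'⟩ := exists_homogeneous (k := k) wt i0 hi0 p
  have hmem := hT n p' ((MvPolynomial.mem_homogeneousSubmodule n p').2 hp') a
    (by
      show phi k A wt p' = a ⊗ₜ[k] (1 : H)
      rw [hpp', hp])
  have hle : Subring.closure (((GLin.invariants k H A).toSubring : Set A) ∪ (T : Set A)) ≤
      (Algebra.adjoin (GLin.invariants k H A) (T : Set A)).toSubring := by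
    rw [Subring.closure_le]
    rintro x (hx | hx)
    · exact Subalgebra.algebraMap_mem (Algebra.adjoin (GLin.invariants k H A) (T : Set A))
        (⟨x, hx⟩ : GLin.invariants k H A)
    · exact Algebra.subset_adjoin hx
  exact hle hmem

end final

end Groth.Agent.Helper22.FinInv
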