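import Mathlib

/-!
# Finite-order elements of `GL_N(K)` are conjugate into `GL_N(R)` for a PID `R` (helper22)

Lattice argument: `Λ = Σ_i g^i R^N` is a `g`-stable lattice, free of rank `N`.
-/

set_option autoImplicit false

namespace Groth.Agent.Helper22.FinOrdGL

open Matrix Module

universe u

variable {R : Type u} [CommRing R] [IsDomain R] [IsPrincipalIdealRing R]
  {K : Type u} [Field K] [Algebra R K] [IsFractionRing R K] {N : ℕ}

theorem exists_conj (Λ : Submodule R (Fin N → K)) [Submodule.IsLattice K Λ] :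
    ∃ H H' : Matrix (Fin N) (Fin N) K, H * H' = 1 ∧ H' * H = 1 ∧
      ∀ M : Matrix (Fin N) (Fin N) K, (∀ v ∈ Λ, M.mulVec v ∈ Λ) →
        ∃ C : Matrix (Fin N) (Fin N) R, H * M * H' = C.map (algebraMap R K) := by
  classical
  haveI : Module.IsTorsionFree R K := inferInstance
  haveI : Module.Free R Λ := Submodule.IsLattice.free K Λ
  haveI : Module.Finite R Λ := Submodule.IsLattice.finite K Λ
  have hrank : Module.finrank R Λ = N := by
    rw [Submodule.IsLattice.finrank_of_pi K Λ, Fintype.card_fin]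
  let b : Basis (Fin N) R Λ := Module.finBasisOfFinrankEq R Λ hrank
  let bK : Basis (Fin N) K (Fin N → K) := b.extendOfIsLattice K
  have hbK : ∀ i, bK i = (b i).val := fun i => Basis.extendOfIsLattice_apply K b i
  let e : Basis (Fin N) K (Fin N → K) := Pi.basisFun K (Fin N)
  have hrepr : ∀ (w : Λ) (i : Fin N), bK.repr w.val i = algebraMap R K (b.repr w i) := by
    intro w i
    have h0 : ((∑ j, b.repr w j • b j : Λ) : Fin N → K) = w.val :=
      congrArg Subtype.val (b.sum_repr w)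
    have h1 : w.val = ∑ j, algebraMap R K (b.repr w j) • bK j := by
      rw [← h0, Submodule.coe_sum]
      refine Finset.sum_congr rfl fun j _ => ?_
      rw [Submodule.coe_smul, hbK, algebraMap_smul]
    rw [h1, Basis.repr_sum_self]
  refine ⟨bK.toMatrix e, e.toMatrix bK, Basis.toMatrix_mul_toMatrix_flip _ _,
    Basis.toMatrix_mul_toMatrix_flip _ _, ?_⟩
  intro M hM
  have hmem : ∀ j, M.mulVec (bK j) ∈ Λ := fun j => by
    rw [hbK]
    exact hM _ (b j).2
  refine ⟨Matrix.of fun i j => b.repr ⟨M.mulVec (bK j), hmem j⟩ i, ?_⟩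
  have h2 : bK.toMatrix e * M * e.toMatrix bK =
      LinearMap.toMatrix bK bK (Matrix.toLin' M) := by
    have h3 := basis_toMatrix_mul_linearMap_toMatrix_mul_basis_toMatrix bK e bK e
      (Matrix.toLin' M)
    rw [LinearMap.toMatrix_eq_toMatrix', LinearMap.toMatrix'_toLin'] at h3
    exact h3
  rw [h2]
  ext i j
  rw [LinearMap.toMatrix_apply, Matrix.toLin'_apply, Matrix.map_apply, Matrix.of_apply]
  exact hrepr ⟨M.mulVec (bK j), hmem j⟩ i

theorem main (R : Type u) [CommRing R] [IsDomain R] [IsPrincipalIdealRing R]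
    (K : Type u) [Field K] [Algebra R K] [IsFractionRing R K]
    (N : ℕ) (g : GL (Fin N) K) (hg : IsOfFinOrder g) :
    ∃ (h : GL (Fin N) K) (g' : GL (Fin N) R),
      h * g * h⁻¹ = Matrix.GeneralLinearGroup.map (algebraMap R K) g' := by
  classical
  have hnpos : 0 < orderOf g := hg.orderOf_pos
  have hgn : g ^ orderOf g = 1 := pow_orderOf_eq_one g
  -- the generating set
  let S : Set (Fin N → K) :=
    {v | ∃ (i : ℕ) (j : Fin N), v = ((g ^ i : GL (Fin N) K) : Matrix (Fin N) (Fin N) K).mulVec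
      (Pi.single j 1)}
  let f : Fin (orderOf g) × Fin N → (Fin N → K) := fun x =>
    ((g ^ (x.1 : ℕ) : GL (Fin N) K) : Matrix (Fin N) (Fin N) K).mulVec (Pi.single x.2 1)
  have hsub : S ⊆ Set.range f := by
    rintro v ⟨i, j, rfl⟩
    refine ⟨(⟨i % orderOf g, Nat.mod_lt _ hnpos⟩, j), ?_⟩
    show ((g ^ (i % orderOf g) : GL (Fin N) K) : Matrix (Fin N) (Fin N) K).mulVec
      (Pi.single j 1) = _
    rw [pow_mod_orderOf]
  have hSfin : S.Finite := (Set.finite_range f).subset hsub
  let Λ : Submodule R (Fin N → K) := Submodule.span R S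
  have hfg : Λ.FG := Submodule.fg_span hSfin
  have hspan : Submodule.span K (Λ : Set (Fin N → K)) = ⊤ := by
    rw [eq_top_iff, ← (Pi.basisFun K (Fin N)).span_eq, Submodule.span_le]
    rintro _ ⟨j, rfl⟩
    refine Submodule.subset_span (Submodule.subset_span ⟨0, j, ?_⟩)
    rw [Pi.basisFun_apply, pow_zero, Units.val_one, Matrix.one_mulVec]
  haveI : Submodule.IsLattice K Λ := ⟨hfg, hspan⟩
  -- stability
  have hstab : ∀ (m : ℕ) (v : Fin N → K), v ∈ Λ →
      ((g ^ m : GL (Fin N) K) : Matrix (Fin N) (Fin N) K).mulVec v ∈ Λ := by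
    intro m v hv
    let T : (Fin N → K) →ₗ[R] (Fin N → K) :=
      (Matrix.mulVecLin ((g ^ m : GL (Fin N) K) : Matrix (Fin N) (Fin N) K)).restrictScalars R
    have hgen : ∀ w ∈ S, T w ∈ Λ := by
      rintro w ⟨i, j, rfl⟩
      refine Submodule.subset_span ⟨m + i, j, ?_⟩
      show ((g ^ m : GL (Fin N) K) : Matrix (Fin N) (Fin N) K).mulVec
        (((g ^ i : GL (Fin N) K) : Matrix (Fin N) (Fin N) K).mulVec (Pi.single j 1)) = _
      rw [Matrix.mulVec_mulVec, ← Units.val_mul, ← pow_add]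
    exact (Submodule.map_span_le T S Λ).2 hgen (Submodule.mem_map_of_mem hv)
  have hginv : g⁻¹ = g ^ (orderOf g - 1) := by
    refine inv_eq_of_mul_eq_one_left ?_
    rw [← pow_succ, Nat.sub_add_cancel hnpos, hgn]
  obtain ⟨H, H', hHH', hH'H, hconj⟩ := exists_conj (R := R) Λ
  obtain ⟨C, hC⟩ := hconj (g : Matrix (Fin N) (Fin N) K) (fun v hv => by
    have := hstab 1 v hv
    rw [pow_one] at this
    exact this)
  obtain ⟨C', hC'⟩ := hconj ((g⁻¹ : GL (Fin N) K) : Matrix (Fin N) (Fin N) K) (fun v hv => by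
    rw [hginv]
    exact hstab _ v hv)
  have hGG' : (g : Matrix (Fin N) (Fin N) K) * ((g⁻¹ : GL (Fin N) K) : Matrix (Fin N) (Fin N) K)
      = 1 := by
    rw [← Units.val_mul, mul_inv_cancel, Units.val_one]
  have hCC' : C * C' = 1 := by
    apply Matrix.map_injective (IsFractionRing.injective R K)
    show (C * C').map (algebraMap R K) = (1 : Matrix (Fin N) (Fin N) R).map (algebraMap R K)
    rw [Matrix.map_mul, Matrix.map_one _ (map_zero _) (map_one _), ← hC, ← hC']
    calc H * (g : Matrix (Fin N) (Fin N) K) * H' *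
          (H * ((g⁻¹ : GL (Fin N) K) : Matrix (Fin N) (Fin N) K) * H')
        = H * (g : Matrix (Fin N) (Fin N) K) * (H' * H) *
          ((g⁻¹ : GL (Fin N) K) : Matrix (Fin N) (Fin N) K) * H' := by
          simp only [mul_assoc]
      _ = H * ((g : Matrix (Fin N) (Fin N) K) *
          ((g⁻¹ : GL (Fin N) K) : Matrix (Fin N) (Fin N) K)) * H' := by
          rw [hH'H, mul_one, mul_assoc H]
      _ = 1 := by rw [hGG', mul_one, hHH']
  have hC'C : C' * C = 1 := mul_eq_one_comm.1 hCC'
  refine ⟨⟨H, H', hHH', hH'H⟩, ⟨C, C', hCC', hC'C⟩, ?_⟩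
  apply Units.ext
  show H * (g : Matrix (Fin N) (Fin N) K) * H' = C.map (algebraMap R K)
  exact hC

end Groth.Agent.Helper22.FinOrdGL
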