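import Mathlib

set_option autoImplicit false

/-!
# The fixed ideal of a finite-order automorphism of a local algebra (helper22)

`A` a Noetherian local `k`-algebra with residue field `k`, `σ` a `k`-algebra endomorphism with
`σ ^ n = 1`, `n` invertible in `k`.  The ideal `I_σ = (a - σ a)` is generated by elements of the
maximal ideal with linearly independent classes in the cotangent space.
Main tool: the averaging projector `P = (1/n) ∑ (1 - σ^i)`.
-/

namespace Groth.Agent.Helper22.FixIdeal

open IsLocalRing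

section avg

variable {k : Type*} [Field k] {A : Type*} [CommRing A] [Algebra k A]
variable (σ : A →ₐ[k] A) (n : ℕ)

/-- the ideal generated by the `a - σ a` -/
def Isig : Ideal A := Ideal.span (Set.range fun a : A => a - σ a)

theorem sub_mem_Isig (a : A) : a - σ a ∈ Isig σ := Ideal.subset_span ⟨a, rfl⟩

theorem sub_pow_mem_Isig (i : ℕ) (a : A) : a - (σ ^ i) a ∈ Isig σ := by
  induction i with
  | zero =>
    rw [pow_zero, AlgHom.one_apply, sub_self]
    exact Ideal.zero_mem _
  | succ i ih =>
    have h : a - (σ ^ (i + 1)) a = (a - (σ ^ i) a) + ((σ ^ i) a - σ ((σ ^ i) a)) := by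
      rw [pow_succ', AlgHom.mul_apply]
      ring
    rw [h]
    exact Ideal.add_mem _ ih (sub_mem_Isig σ _)

/-- the projector onto the non-invariant part -/
noncomputable def P : A →ₗ[k] A :=
  ((n : k)⁻¹) • ∑ i ∈ Finset.range n, (LinearMap.id - (σ ^ i).toLinearMap)

theorem P_apply (a : A) :
    P σ n a = ((n : k)⁻¹) • ∑ i ∈ Finset.range n, (a - (σ ^ i) a) := by
  simp only [P, LinearMap.smul_apply, LinearMap.sum_apply, LinearMap.sub_apply,
    LinearMap.id_apply, AlgHom.toLinearMap_apply]

theorem P_mem (a : A) : P σ n a ∈ Isig σ := by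
  rw [P_apply]
  exact Submodule.smul_of_tower_mem _ _
    (Submodule.sum_mem _ (fun i _ => sub_pow_mem_Isig σ i a))

theorem P_fix (hσ : σ ^ n = 1) (hn : (n : k) ≠ 0) (a : A) : P σ n (a - σ a) = a - σ a := by
  rw [P_apply, Finset.sum_sub_distrib, Finset.sum_const, Finset.card_range]
  have h0 : ∑ i ∈ Finset.range n, (σ ^ i) (a - σ a) = 0 := by
    have h1 : ∀ i, (σ ^ i) (a - σ a) = (σ ^ i) a - (σ ^ (i + 1)) a := by
      intro i
      rw [map_sub, pow_succ, AlgHom.mul_apply]
    rw [Finset.sum_congr rfl (fun i _ => h1 i),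
      Finset.sum_range_sub' (fun i => (σ ^ i) a) n]
    show (σ ^ 0) a - (σ ^ n) a = 0
    rw [pow_zero, hσ, sub_self]
  rw [h0, sub_zero, ← Nat.cast_smul_eq_nsmul k, inv_smul_smul₀ hn]

variable [IsLocalRing A]

theorem P_mul_mem (hI : Isig σ ≤ maximalIdeal A) (a b : A) (ha : a ∈ maximalIdeal A)
    (hb : b ∈ maximalIdeal A) : P σ n (a * b) ∈ maximalIdeal A * Isig σ := by
  rw [P_apply]
  refine Submodule.smul_of_tower_mem _ _ (Submodule.sum_mem _ (fun i _ => ?_))
  have h : a * b - (σ ^ i) (a * b) = a * (b - (σ ^ i) b) + b * (a - (σ ^ i) a)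
      - (a - (σ ^ i) a) * (b - (σ ^ i) b) := by
    rw [map_mul]
    ring
  rw [h]
  refine Ideal.sub_mem _ (Ideal.add_mem _ ?_ ?_) ?_
  · exact Ideal.mul_mem_mul ha (sub_pow_mem_Isig σ i b)
  · exact Ideal.mul_mem_mul hb (sub_pow_mem_Isig σ i a)
  · exact Ideal.mul_mem_mul (hI (sub_pow_mem_Isig σ i a)) (sub_pow_mem_Isig σ i b)

theorem P_sq_mem (hI : Isig σ ≤ maximalIdeal A) (y : A) (hy : y ∈ maximalIdeal A ^ 2) :
    P σ n y ∈ maximalIdeal A * Isig σ := by
  rw [pow_two] at hy
  refine Submodule.mul_induction_on hy ?_ ?_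
  · intro a ha b hb
    exact P_mul_mem σ n hI a b ha hb
  · intro x y hx hy
    rw [map_add]
    exact Ideal.add_mem _ hx hy

theorem map_mem_maximalIdeal (hn0 : n ≠ 0) (hσ : σ ^ n = 1) (a : A)
    (ha : a ∈ maximalIdeal A) : σ a ∈ maximalIdeal A := by
  rw [mem_maximalIdeal, mem_nonunits_iff] at ha ⊢
  intro hu
  apply ha
  obtain ⟨j, rfl⟩ := Nat.exists_eq_add_one_of_ne_zero hn0
  have h := hu.map (σ ^ j)
  rwa [← AlgHom.mul_apply, ← pow_succ, hσ, AlgHom.one_apply] at h

theorem sub_mem_maximalIdeal (hres : Function.Surjective (algebraMap k (ResidueField A)))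
    (hn0 : n ≠ 0) (hσ : σ ^ n = 1) (a : A) : a - σ a ∈ maximalIdeal A := by
  obtain ⟨c, hc⟩ := hres (residue A a)
  have h0 : residue A (algebraMap k A c) = residue A a := by
    rw [← hc, IsScalarTower.algebraMap_apply k A (ResidueField A) c, ResidueField.algebraMap_eq]
  have h1 : a - algebraMap k A c ∈ maximalIdeal A := by
    rw [← residue_eq_zero_iff, map_sub, h0, sub_self]
  have h2 : a - σ a = (a - algebraMap k A c) - σ (a - algebraMap k A c) := by
    rw [map_sub, AlgHom.commutes]
    ring
  rw [h2]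
  exact Ideal.sub_mem _ h1 (map_mem_maximalIdeal σ n hn0 hσ _ h1)

end avg

section main

universe u

theorem main {k : Type u} [Field k] {A : Type u} [CommRing A] [Algebra k A] [IsLocalRing A]
    [IsNoetherianRing A]
    (hres : Function.Surjective (algebraMap k (ResidueField A))) (σ : A →ₐ[k] A) (n : ℕ)
    (hσ : σ ^ n = 1) (hn : (n : k) ≠ 0) :
    ∃ (m : ℕ) (f : Fin m → ↥(maximalIdeal A)),
      Ideal.span (Set.range fun i : Fin m => (f i : A))
        = Ideal.span (Set.range fun a : A => a - σ a) ∧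
      LinearIndependent (ResidueField A)
        (fun i : Fin m => (maximalIdeal A).toCotangent (f i)) := by
  have hn0 : n ≠ 0 := by
    rintro rfl
    exact hn Nat.cast_zero
  have hS : ∀ a : A, a - σ a ∈ maximalIdeal A := sub_mem_maximalIdeal σ n hres hn0 hσ
  have hI : Isig σ ≤ maximalIdeal A := by
    show Ideal.span (Set.range fun a : A => a - σ a) ≤ maximalIdeal A
    rw [Ideal.span_le]
    rintro _ ⟨a, rfl⟩
    exact hS a
  obtain ⟨d, hd⟩ : ∃ d : A → ↥(maximalIdeal A), d = fun a => ⟨a - σ a, hS a⟩ := ⟨_, rfl⟩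
  have hdval : ∀ a, ((d a : ↥(maximalIdeal A)) : A) = a - σ a := by
    intro a
    rw [hd]
  obtain ⟨κ', α, -, hspan, hli⟩ := exists_linearIndependent' (ResidueField A)
    (fun a : A => (maximalIdeal A).toCotangent (d a))
  haveI : Finite κ' := hli.finite
  haveI : Fintype κ' := Fintype.ofFinite κ'
  obtain ⟨e, -⟩ : ∃ e : κ' ≃ Fin (Fintype.card κ'), e = Fintype.equivFin κ' := ⟨_, rfl⟩
  refine ⟨Fintype.card κ', fun j => d (α (e.symm j)), ?_, ?_⟩
  · show Ideal.span (Set.range fun i : Fin (Fintype.card κ') =>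
        ((d (α (e.symm i)) : ↥(maximalIdeal A)) : A)) = Isig σ
    apply le_antisymm
    · rw [Ideal.span_le]
      rintro _ ⟨i, rfl⟩
      show ((d (α (e.symm i)) : ↥(maximalIdeal A)) : A) ∈ Isig σ
      rw [hdval]
      exact sub_mem_Isig σ _
    · refine Submodule.le_of_le_smul_of_le_jacobson_bot (I := maximalIdeal A)
        (IsNoetherian.noetherian _) (maximalIdeal_le_jacobson ⊥) ?_
      show Ideal.span (Set.range fun a : A => a - σ a) ≤ _
      rw [Ideal.span_le]
      rintro _ ⟨a, rfl⟩
      show a - σ a ∈ _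
      have hmem : (maximalIdeal A).toCotangent (d a) ∈ Submodule.span (ResidueField A)
          (Set.range (fun a : A => (maximalIdeal A).toCotangent (d a))) :=
        Submodule.subset_span ⟨a, rfl⟩
      rw [← hspan] at hmem
      obtain ⟨c, hc⟩ := (Submodule.mem_span_range_iff_exists_fun _).mp hmem
      choose t ht using fun i => hres (c i)
      have hsm : ∀ (i : κ') (w : (maximalIdeal A).Cotangent),
          c i • w = (algebraMap k A (t i)) • w := by
        intro i w
        rw [← ht i, IsScalarTower.algebraMap_apply k A (ResidueField A) (t i), algebraMap_smul]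
      obtain ⟨yy, hyy⟩ : ∃ yy : ↥(maximalIdeal A),
          yy = d a - ∑ i, (algebraMap k A (t i)) • d (α i) := ⟨_, rfl⟩
      have hy0 : (maximalIdeal A).toCotangent yy = 0 := by
        rw [hyy, map_sub, map_sum, ← hc, sub_eq_zero]
        refine Finset.sum_congr rfl (fun i _ => ?_)
        rw [map_smul, hsm]
        rfl
      have hyyval : (yy : A) = (a - σ a) - ∑ i, algebraMap k A (t i) * (α i - σ (α i)) := by
        rw [hyy, Submodule.coe_sub, Submodule.coe_sum, hdval]
        congr 1
        refine Finset.sum_congr rfl (fun i _ => ?_)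
        rw [Submodule.coe_smul, hdval, smul_eq_mul]
      have hPy : P σ n (yy : A) = (yy : A) := by
        rw [hyyval, map_sub, map_sum, P_fix σ n hσ hn a]
        congr 1
        refine Finset.sum_congr rfl (fun i _ => ?_)
        rw [← Algebra.smul_def, map_smul, P_fix σ n hσ hn (α i)]
      have hfin : a - σ a = (∑ i, algebraMap k A (t i) * (α i - σ (α i))) + (yy : A) := by
        rw [hyyval]
        ring
      rw [hfin]
      refine Submodule.add_mem_sup ?_ ?_
      · refine Ideal.sum_mem _ (fun i _ => Ideal.mul_mem_left _ _ (Ideal.subset_span ⟨e i, ?_⟩))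
        show ((d (α (e.symm (e i))) : ↥(maximalIdeal A)) : A) = α i - σ (α i)
        rw [e.symm_apply_apply, hdval]
      · show (yy : A) ∈ maximalIdeal A * Isig σ
        rw [← hPy]
        exact P_sq_mem σ n hI _ ((Ideal.toCotangent_eq_zero _ yy).mp hy0)
  · exact hli.comp e.symm e.symm.injective

end main

end Groth.Agent.Helper22.FixIdeal
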