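import Mathlib

/-!
# Length of `A ⧸ 𝔞A` for a finite free local extension `R → A` with trivial residue extension
-/

set_option autoImplicit false
set_option linter.unusedSectionVars false
set_option linter.unusedVariables false

namespace Groth.Agent.Helper22.FixLen

open IsLocalRing

section Len

variable {R A : Type*} [CommRing R] [CommRing A] [IsLocalRing R] [IsLocalRing A] [Algebra R A]
  [IsLocalHom (algebraMap R A)]

theorem length_residue (hres : Function.Surjective (IsLocalRing.residue A ∘ algebraMap R A)) :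
    Module.length (ResidueField R) (ResidueField A) = 1 := by
  have hsurj : Function.Surjective (algebraMap (ResidueField R) (ResidueField A)) := by
    intro y
    obtain ⟨r, hr⟩ := hres y
    refine ⟨IsLocalRing.residue R r, ?_⟩
    exact hr
  have hinj : Function.Injective (algebraMap (ResidueField R) (ResidueField A)) :=
    (algebraMap (ResidueField R) (ResidueField A)).injective
  have hbij : Function.Bijective (Algebra.linearMap (ResidueField R) (ResidueField A)) :=
    ⟨hinj, hsurj⟩
  let e : ResidueField R ≃ₗ[ResidueField R] ResidueField A :=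
    LinearEquiv.ofBijective (Algebra.linearMap _ _) hbij
  rw [← e.length_eq, Module.length_eq_finrank, Module.finrank_self, Nat.cast_one]

theorem length_quot_map {ι : Type*} [Fintype ι] [DecidableEq ι] (B : Module.Basis ι R A)
    (hres : Function.Surjective (IsLocalRing.residue A ∘ algebraMap R A)) (𝔞 : Ideal R) :
    Module.length A (A ⧸ 𝔞.map (algebraMap R A)) =
      (Fintype.card ι : ℕ∞) * Module.length R (R ⧸ 𝔞) := by
  have h1 := IsLocalRing.length_restrictScalars R A (A ⧸ 𝔞.map (algebraMap R A))
  rw [length_residue hres, mul_one] at h1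
  rw [← h1]
  let e1 : (A ⧸ 𝔞.map (algebraMap R A)) ≃ₗ[R]
      A ⧸ ((𝔞.map (algebraMap R A)).restrictScalars R) :=
    (Submodule.Quotient.restrictScalarsEquiv R (𝔞.map (algebraMap R A))).symm
  let e2 : (A ⧸ ((𝔞.map (algebraMap R A)).restrictScalars R)) ≃ₗ[R]
      A ⧸ (𝔞 • ⊤ : Submodule R A) :=
    Submodule.quotEquivOfEq _ _ (Ideal.smul_top_eq_map 𝔞).symm
  let e3 := (TensorProduct.quotTensorEquivQuotSMul A 𝔞).symm
  let e4 := LinearEquiv.lTensor (R ⧸ 𝔞) B.repr
  let e5 := TensorProduct.finsuppScalarRight R R (R ⧸ 𝔞) ι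
  rw [(e1.trans (e2.trans (e3.trans (e4.trans e5)))).length_eq, Module.length_finsupp,
    ENat.card_eq_coe_fintype_card]

end Len

section Ideals

variable {R A : Type*} [CommRing R] [CommRing A] [Algebra R A]

/-- for an `R`-algebra automorphism `σ` of `A`, if `σ` moves algebra generators into an ideal `J`
then `σ t - t ∈ J` for all `t` (stated on a quotient of a polynomial ring). -/
theorem sub_mem_of_gens {ι : Type*} {I : Ideal (MvPolynomial ι R)}
    (σ : (MvPolynomial ι R ⧸ I) ≃ₐ[R] (MvPolynomial ι R ⧸ I))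
    (J : Ideal (MvPolynomial ι R ⧸ I))
    (hJ : ∀ i, σ (Ideal.Quotient.mk I (MvPolynomial.X i)) - Ideal.Quotient.mk I (MvPolynomial.X i) ∈ J)
    (t : MvPolynomial ι R ⧸ I) : σ t - t ∈ J := by
  obtain ⟨P, rfl⟩ := Ideal.Quotient.mk_surjective t
  induction P using MvPolynomial.induction_on with
  | C c =>
    have h : Ideal.Quotient.mk I (MvPolynomial.C c) = algebraMap R (MvPolynomial ι R ⧸ I) c := rfl
    rw [h, σ.commutes, sub_self]
    exact J.zero_mem
  | add P Q hP hQ =>
    rw [map_add, map_add, add_sub_add_comm]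
    exact J.add_mem hP hQ
  | mul_X P i hP =>
    rw [map_mul, map_mul]
    have h : σ (Ideal.Quotient.mk I P) * σ (Ideal.Quotient.mk I (MvPolynomial.X i)) -
        Ideal.Quotient.mk I P * Ideal.Quotient.mk I (MvPolynomial.X i) =
        (σ (Ideal.Quotient.mk I P) - Ideal.Quotient.mk I P) * Ideal.Quotient.mk I (MvPolynomial.X i) +
        σ (Ideal.Quotient.mk I P) *
          (σ (Ideal.Quotient.mk I (MvPolynomial.X i)) - Ideal.Quotient.mk I (MvPolynomial.X i)) := by
      ring
    rw [h]
    exact J.add_mem (J.mul_mem_right _ hP) (J.mul_mem_left _ (hJ i))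

/-- residue surjectivity for a quotient of a polynomial ring whose variables are non-units -/
theorem residue_surj {ι : Type*} {I : Ideal (MvPolynomial ι R)} [IsLocalRing (MvPolynomial ι R ⧸ I)]
    (hu : ∀ i, Ideal.Quotient.mk I (MvPolynomial.X i) ∈ maximalIdeal (MvPolynomial ι R ⧸ I)) :
    Function.Surjective
      (IsLocalRing.residue (MvPolynomial ι R ⧸ I) ∘ algebraMap R (MvPolynomial ι R ⧸ I)) := by
  intro y
  obtain ⟨t, rfl⟩ := IsLocalRing.residue_surjective y
  obtain ⟨P, rfl⟩ := Ideal.Quotient.mk_surjective t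
  induction P using MvPolynomial.induction_on with
  | C c => exact ⟨c, rfl⟩
  | add P Q hP hQ =>
    obtain ⟨r1, h1⟩ := hP
    obtain ⟨r2, h2⟩ := hQ
    refine ⟨r1 + r2, ?_⟩
    simp only [Function.comp_apply] at h1 h2 ⊢
    rw [map_add, map_add, map_add, map_add, h1, h2]
  | mul_X P i hP =>
    refine ⟨0, ?_⟩
    simp only [Function.comp_apply]
    rw [map_zero, map_zero, map_mul, map_mul, (IsLocalRing.residue_eq_zero_iff _).2 (hu i),
      mul_zero]

end Ideals

end Groth.Agent.Helper22.FixLen
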