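import Mathlib
import Groth.Agent.Lib.Helper22.FixLen1
import Groth.Agent.Lib.Helper23.ASAlg
import Groth.Agent.Lib.Helper5.PSR

/-!
# The fixed-point ideal of the Artin–Schreier family: `I = (a)A ⊆ 𝔪^p`, length of `A ⧸ I`
-/

set_option autoImplicit false
set_option linter.unusedSectionVars false
set_option linter.unusedVariables false

universe u

namespace Groth.Agent.Helper22.FixLen

open Groth.Agent.Helper23.ASAlg Groth.Agent.Helper23.MonicBasis IsLocalRing

theorem glue2 (p : ℕ) [Fact p.Prime] (k : Type u) [Field k] [CharP k p] (n : ℕ)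
    (a : Fin n → MvPowerSeries (Fin n) k)
    (ham : ∀ i, MvPowerSeries.constantCoeff (a i) = 0)
    (J : Ideal (MvPolynomial (Fin n) (MvPowerSeries (Fin n) k)))
    (hJ : J = Ideal.span (Set.range (FG (Gp p k n a))))
    (σ : (MvPolynomial (Fin n) (MvPowerSeries (Fin n) k) ⧸ J) ≃ₐ[MvPowerSeries (Fin n) k]
      (MvPolynomial (Fin n) (MvPowerSeries (Fin n) k) ⧸ J))
    (hσ : ∀ i, σ (Ideal.Quotient.mk J (MvPolynomial.X i)) =
      Ideal.Quotient.mk J (MvPolynomial.X i) +
        algebraMap (MvPowerSeries (Fin n) k)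
          (MvPolynomial (Fin n) (MvPowerSeries (Fin n) k) ⧸ J) (a i)) :
    Ideal.span (Set.range fun t : MvPolynomial (Fin n) (MvPowerSeries (Fin n) k) ⧸ J => σ t - t) ≤
        Ideal.span (Set.range fun i : Fin n => Ideal.Quotient.mk J (MvPolynomial.X i)) ^ p ∧
      Module.length (MvPolynomial (Fin n) (MvPowerSeries (Fin n) k) ⧸ J)
        ((MvPolynomial (Fin n) (MvPowerSeries (Fin n) k) ⧸ J) ⧸
          Ideal.span (Set.range
            fun t : MvPolynomial (Fin n) (MvPowerSeries (Fin n) k) ⧸ J => σ t - t)) =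
        (p ^ n : ℕ∞) * Module.length (MvPowerSeries (Fin n) k)
          (MvPowerSeries (Fin n) k ⧸ Ideal.span (Set.range a)) := by
  subst hJ
  have hp : 2 ≤ p := two_le_p p
  change Ideal.span (Set.range fun t : A p k n a => σ t - t) ≤
      Ideal.span (Set.range (uu p k n a)) ^ p ∧
    Module.length (A p k n a)
      (A p k n a ⧸ Ideal.span (Set.range fun t : A p k n a => σ t - t)) =
      (p ^ n : ℕ∞) * Module.length (MvPowerSeries (Fin n) k)
        (MvPowerSeries (Fin n) k ⧸ Ideal.span (Set.range a))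
  have hσ' : ∀ i, σ (uu p k n a i) = uu p k n a i +
      algebraMap (MvPowerSeries (Fin n) k) (A p k n a) (a i) := hσ
  -- local ring facts
  have hmain : IsRegularLocalRing (A p k n a) ∧
      (Ideal.map (Ideal.Quotient.mk (Ideal.span (Set.range (FG (Gp p k n a)))))
        (Ideal.span (Set.range (MvPolynomial.X :
          Fin n → MvPolynomial (Fin n) (MvPowerSeries (Fin n) k))))).IsMaximal := by
    have h := Groth.Agent.Helper3.WildQuot.main p k n a ham
    have e := ideal_eq p k n a
    unfold A QG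
    rw [← e]
    exact h
  haveI : IsLocalRing (A p k n a) := hmain.1.toIsLocalRing
  have hmmax : Ideal.span (Set.range (uu p k n a)) = maximalIdeal (A p k n a) := by
    rw [← IsLocalRing.eq_maximalIdeal hmain.2, Ideal.map_span, ← Set.range_comp]
    rfl
  have hum : ∀ i, uu p k n a i ∈ Ideal.span (Set.range (uu p k n a)) :=
    fun i => Ideal.subset_span ⟨i, rfl⟩
  have hX : ∀ i, algebraMap (MvPowerSeries (Fin n) k) (A p k n a) (MvPowerSeries.X i) =
      uu p k n a i ^ p -
        algebraMap (MvPowerSeries (Fin n) k) (A p k n a) (a i ^ (p - 1)) * uu p k n a i := by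
    intro i
    rw [rel p k n a i]
    ring
  have hXm : ∀ i, algebraMap (MvPowerSeries (Fin n) k) (A p k n a) (MvPowerSeries.X i) ∈
      Ideal.span (Set.range (uu p k n a)) := by
    intro i
    rw [hX i]
    exact Ideal.sub_mem _ (Ideal.pow_mem_of_mem _ (hum i) p (by omega))
      (Ideal.mul_mem_left _ _ (hum i))
  have hmapm : ∀ r : MvPowerSeries (Fin n) k, MvPowerSeries.constantCoeff r = 0 →
      algebraMap (MvPowerSeries (Fin n) k) (A p k n a) r ∈
        Ideal.span (Set.range (uu p k n a)) := by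
    intro r hr
    have h1 := Groth.Agent.Helper5.PSR.mem_span_range_X_of_constantCoeff_eq_zero r hr
    have h2 : (Ideal.span (Set.range (MvPowerSeries.X : Fin n → MvPowerSeries (Fin n) k))).map
        (algebraMap (MvPowerSeries (Fin n) k) (A p k n a)) ≤
        Ideal.span (Set.range (uu p k n a)) := by
      rw [Ideal.map_span, Ideal.span_le]
      rintro _ ⟨_, ⟨i, rfl⟩, rfl⟩
      exact hXm i
    exact h2 (Ideal.mem_map_of_mem _ h1)
  have hXmp : ∀ i, algebraMap (MvPowerSeries (Fin n) k) (A p k n a) (MvPowerSeries.X i) ∈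
      Ideal.span (Set.range (uu p k n a)) ^ p := by
    intro i
    rw [hX i]
    refine Ideal.sub_mem _ (Ideal.pow_mem_pow (hum i) p) ?_
    have h3 : algebraMap (MvPowerSeries (Fin n) k) (A p k n a) (a i ^ (p - 1)) ∈
        Ideal.span (Set.range (uu p k n a)) ^ (p - 1) := by
      rw [map_pow]
      exact Ideal.pow_mem_pow (hmapm (a i) (ham i)) (p - 1)
    have h4 : Ideal.span (Set.range (uu p k n a)) ^ p =
        Ideal.span (Set.range (uu p k n a)) ^ (p - 1) * Ideal.span (Set.range (uu p k n a)) := by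
      have h5 := pow_succ (Ideal.span (Set.range (uu p k n a))) (p - 1)
      rwa [Nat.sub_add_cancel (by omega : 1 ≤ p)] at h5
    rw [h4]
    exact Ideal.mul_mem_mul h3 (hum i)
  have hmapmp : ∀ r : MvPowerSeries (Fin n) k, MvPowerSeries.constantCoeff r = 0 →
      algebraMap (MvPowerSeries (Fin n) k) (A p k n a) r ∈
        Ideal.span (Set.range (uu p k n a)) ^ p := by
    intro r hr
    have h1 := Groth.Agent.Helper5.PSR.mem_span_range_X_of_constantCoeff_eq_zero r hr
    have h2 : (Ideal.span (Set.range (MvPowerSeries.X : Fin n → MvPowerSeries (Fin n) k))).map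
        (algebraMap (MvPowerSeries (Fin n) k) (A p k n a)) ≤
        Ideal.span (Set.range (uu p k n a)) ^ p := by
      rw [Ideal.map_span, Ideal.span_le]
      rintro _ ⟨_, ⟨i, rfl⟩, rfl⟩
      exact hXmp i
    exact h2 (Ideal.mem_map_of_mem _ h1)
  haveI : IsLocalHom (algebraMap (MvPowerSeries (Fin n) k) (A p k n a)) := by
    refine ⟨fun r hr => ?_⟩
    by_contra hnu
    have h1 : MvPowerSeries.constantCoeff r = 0 := by
      by_contra h0
      exact hnu (MvPowerSeries.isUnit_iff_constantCoeff.2 (isUnit_iff_ne_zero.2 h0))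
    have h2 := hmapm r h1
    rw [hmmax, IsLocalRing.mem_maximalIdeal] at h2
    exact h2 hr
  have hres : Function.Surjective (IsLocalRing.residue (A p k n a) ∘
      algebraMap (MvPowerSeries (Fin n) k) (A p k n a)) := by
    apply residue_surj
    intro i
    rw [← hmmax]
    exact hum i
  have hI1 : Ideal.span (Set.range fun t : A p k n a => σ t - t) =
      (Ideal.span (Set.range a)).map (algebraMap (MvPowerSeries (Fin n) k) (A p k n a)) := by
    apply le_antisymm
    · rw [Ideal.span_le]
      rintro _ ⟨t, rfl⟩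
      refine sub_mem_of_gens σ _ (fun i => ?_) t
      rw [hσ i, add_sub_cancel_left]
      exact Ideal.mem_map_of_mem _ (Ideal.subset_span ⟨i, rfl⟩)
    · rw [Ideal.map_span, Ideal.span_le]
      rintro _ ⟨_, ⟨i, rfl⟩, rfl⟩
      refine Ideal.subset_span ⟨uu p k n a i, ?_⟩
      show σ (uu p k n a i) - uu p k n a i = _
      rw [hσ' i, add_sub_cancel_left]
  let B := (bas p k n a).reindex
    (Equiv.piCongrRight fun i => finCongr (Gp_natDegree p k n a i))
  have hlen := length_quot_map B hres (Ideal.span (Set.range a))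
  refine ⟨?_, ?_⟩
  · rw [hI1, Ideal.map_span, Ideal.span_le]
    rintro _ ⟨_, ⟨i, rfl⟩, rfl⟩
    exact hmapmp (a i) (ham i)
  · rw [hI1, hlen, Fintype.card_pi_const, Fintype.card_fin, Nat.cast_pow]

end Groth.Agent.Helper22.FixLen
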