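import Mathlib
import Groth.Agent.Lib.Helper1.TorFree

/-!
# Flatness from the fibre over `t = 0` and the locus `t ≠ 0`

If `t` is a nonzerodivisor on `A` and on the `A`-module `M`, `M / tM` is flat over `A / t` and
`M[1/t]` is flat over `A`, then `M` is flat over `A`.
-/

open TensorProduct Function

namespace Groth.Agent.Helper22.FlatFib

universe u

variable {A : Type u} [CommRing A] {M : Type u} [AddCommGroup M] [Module A M]

theorem aux_h4 (J : Ideal A) {F : Type u} [AddCommGroup F] [Module A F] (K : Submodule A F)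
    (h1 : Module.Flat (A ⧸ J) ((A ⧸ J) ⊗[A] M))
    (hK : ∀ x : K, K.subtype x ∈ J • (⊤ : Submodule A F) → x ∈ J • (⊤ : Submodule A K)) :
    ∀ κ : M ⊗[A] K, K.subtype.lTensor M κ ∈ J • (⊤ : Submodule A (M ⊗[A] F)) →
      κ ∈ J • (⊤ : Submodule A (M ⊗[A] K)) := by
  have hbar : Injective (K.subtype.lTensor (A ⧸ J)) := by
    rw [Groth.Agent.Helper1.lTensor_quotient_injective_iff (R := A) (N := K) (M := F)
      K.subtype J]
    exact hK
  have h3 : Injective (K.subtype.lTensor ((A ⧸ J) ⊗[A] M)) :=
    Groth.Agent.Helper1.lTensor_injective_of_baseChange_injective (R := A) (A ⧸ J) (N := K)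
      (M := F) ((A ⧸ J) ⊗[A] M) K.subtype hbar
  have h4 : Injective ((K.subtype.lTensor M).lTensor (A ⧸ J)) := by
    rw [LinearMap.lTensor_tensor] at h3
    intro a b hab
    have h5 := @h3 ((TensorProduct.assoc A (A ⧸ J) M K).symm a)
      ((TensorProduct.assoc A (A ⧸ J) M K).symm b) (by
        simp only [LinearMap.coe_comp, LinearEquiv.coe_coe, Function.comp_apply,
          LinearEquiv.apply_symm_apply, hab])
    exact (TensorProduct.assoc A (A ⧸ J) M K).symm.injective h5
  exact (Groth.Agent.Helper1.lTensor_quotient_injective_iff (R := A) (N := M ⊗[A] K)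
      (M := M ⊗[A] F) (K.subtype.lTensor M) J).mp h4

theorem mem_span_singleton_smul_top (t : A) {X : Type*} [AddCommGroup X] [Module A X] (x : X) :
    x ∈ Ideal.span {t} • (⊤ : Submodule A X) ↔ ∃ y : X, t • y = x := by
  rw [Submodule.ideal_span_singleton_smul, Submodule.mem_smul_pointwise_iff_exists]
  simp

theorem eq_zero_of_smul_eq_zero_of_flat (t : A) (hM : IsSMulRegular M t) {F : Type*} [AddCommGroup F]
    [Module A F] [Module.Flat A F] (w : M ⊗[A] F) (hw : t • w = 0) : w = 0 := by
  have hinj : Injective ((LinearMap.lsmul A M t).rTensor F) :=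
    Module.Flat.rTensor_preserves_injective_linearMap _ hM
  have key : ∀ w : M ⊗[A] F, (LinearMap.lsmul A M t).rTensor F w = t • w := by
    intro w
    induction w using TensorProduct.induction_on with
    | zero => simp
    | tmul x y => simp [TensorProduct.smul_tmul']
    | add x y hx hy => rw [map_add, hx, hy, smul_add]
  apply hinj
  rw [key, hw, map_zero]

theorem chase (t : A) (hM : IsSMulRegular M t)
    (h1 : Module.Flat (A ⧸ Ideal.span {t}) ((A ⧸ Ideal.span {t}) ⊗[A] M))
    {N : Type u} [AddCommGroup N] [Module A N] (hN : IsSMulRegular N t)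
    {F : Type u} [AddCommGroup F] [Module A F] [Module.Flat A F] (q : F →ₗ[A] N)
    (hq : Surjective q)
    (w : M ⊗[A] N) (hw : t • w = 0) : w = 0 := by
  have hK : ∀ x : LinearMap.ker q, (LinearMap.ker q).subtype x ∈
      Ideal.span {t} • (⊤ : Submodule A F) →
      x ∈ Ideal.span {t} • (⊤ : Submodule A (LinearMap.ker q)) := by
    intro x hx
    obtain ⟨y, hy⟩ := (mem_span_singleton_smul_top t _).mp hx
    have hyK : q y = 0 := by
      have h0 : t • q y = 0 := by
        rw [← map_smul, hy]; exact x.2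
      exact hN (by show t • q y = t • 0; rw [h0, smul_zero])
    exact (mem_span_singleton_smul_top t _).mpr ⟨⟨y, hyK⟩, Subtype.ext hy⟩
  have h5 := aux_h4 (M := M) (Ideal.span {t}) (LinearMap.ker q) h1 hK
  have hex : Exact ((LinearMap.ker q).subtype.lTensor M) (q.lTensor M) :=
    lTensor_exact M (LinearMap.exact_subtype_ker_map q) hq
  obtain ⟨w', hw'⟩ := LinearMap.lTensor_surjective M hq w
  have h6 : q.lTensor M (t • w') = 0 := by rw [map_smul, hw', hw]
  obtain ⟨κ, hκ⟩ := (hex _).mp h6
  obtain ⟨κ', hκ'⟩ := (mem_span_singleton_smul_top t _).mp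
    (h5 κ ((mem_span_singleton_smul_top t _).mpr ⟨w', hκ.symm⟩))
  have h7 : t • ((LinearMap.ker q).subtype.lTensor M κ' - w') = 0 := by
    rw [smul_sub, ← map_smul, hκ', hκ, sub_self]
  have h8 := eq_zero_of_smul_eq_zero_of_flat t hM _ h7
  rw [sub_eq_zero] at h8
  rw [← hw', ← h8]
  exact (hex _).mpr ⟨κ', rfl⟩

/-- `t` is a nonzerodivisor on `M ⊗ N` when it is one on `M` and on `N` and `M/tM` is flat over
`A/t`. -/
theorem eq_zero_of_smul_eq_zero (t : A) (hM : IsSMulRegular M t)
    (h1 : Module.Flat (A ⧸ Ideal.span {t}) ((A ⧸ Ideal.span {t}) ⊗[A] M))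
    {N : Type u} [AddCommGroup N] [Module A N] (hN : IsSMulRegular N t)
    (w : M ⊗[A] N) (hw : t • w = 0) : w = 0 :=
  chase t hM h1 hN (Finsupp.linearCombination A (id : N → N))
    (fun n => ⟨Finsupp.single n 1, by simp⟩) w hw

/-- The kernel of `M ⊗ I → M ⊗ A` is `t`-power torsion when `M[1/t]` is flat. -/
theorem exists_pow_smul_eq_zero (t : A)
    (h2 : Module.Flat A (LocalizedModule (Submonoid.powers t) M)) (I : Ideal A)
    (z : M ⊗[A] I) (hz : I.subtype.lTensor M z = 0) : ∃ n : ℕ, t ^ n • z = 0 := by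
  let ℓ : M →ₗ[A] LocalizedModule (Submonoid.powers t) M :=
    LocalizedModule.mkLinearMap (Submonoid.powers t) M
  have h : I.subtype.lTensor (LocalizedModule (Submonoid.powers t) M) (ℓ.rTensor I z) = 0 := by
    rw [← LinearMap.comp_apply, LinearMap.lTensor_comp_rTensor, ← LinearMap.rTensor_comp_lTensor,
      LinearMap.comp_apply, hz, map_zero]
  have hinj := Module.Flat.lTensor_preserves_injective_linearMap
    (M := LocalizedModule (Submonoid.powers t) M) I.subtype (Submodule.injective_subtype I)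
  have h0 : ℓ.rTensor I z = 0 := hinj (by rw [h, map_zero])
  have h0' : AlgebraTensorModule.rTensor A I ℓ z = 0 := h0
  obtain ⟨⟨s, n, rfl⟩, hs⟩ := (IsLocalizedModule.eq_zero_iff (Submonoid.powers t)
    (AlgebraTensorModule.rTensor A I ℓ)).mp h0'
  exact ⟨n, hs⟩

/-- Main theorem. -/
theorem flat_of_regular (t : A) (hA : IsSMulRegular A t) (hM : IsSMulRegular M t)
    (h1 : Module.Flat (A ⧸ Ideal.span {t}) ((A ⧸ Ideal.span {t}) ⊗[A] M))
    (h2 : Module.Flat A (LocalizedModule (Submonoid.powers t) M)) : Module.Flat A M := by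
  rw [Module.Flat.iff_lTensor_injective']
  intro I
  rw [injective_iff_map_eq_zero]
  intro z hz
  obtain ⟨n, hn⟩ := exists_pow_smul_eq_zero t h2 I z hz
  have hI : IsSMulRegular I t := fun x y hxy => Subtype.ext (hA (congrArg Subtype.val hxy))
  clear hz
  induction n with
  | zero => simpa using hn
  | succ n ih =>
    apply ih
    apply eq_zero_of_smul_eq_zero t hM h1 hI
    rw [← hn, pow_succ', mul_smul]

end Groth.Agent.Helper22.FlatFib
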