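import Mathlib

/-!
# Flatness of localizations at primes missing the nonzerodivisors of the base
-/

namespace Groth.Agent.Helper22.FlatFrac

open TensorProduct

universe u

/-- If `Q(A) ⊗_A B` is flat over `Q(A)` and the prime `q` of `B` misses the image of the
nonzerodivisors of `A`, then `B_q` is flat over `A`. -/
theorem flat_of_disjoint (A B : Type u) [CommRing A] [CommRing B] [Algebra A B]
    (h2 : Module.Flat (FractionRing A) (FractionRing A ⊗[A] B))
    (q : Ideal B) [q.IsPrime]
    (hq : ∀ s ∈ nonZeroDivisors A, algebraMap A B s ∉ q) :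
    Module.Flat A (Localization.AtPrime q) := by
  letI : Algebra B (FractionRing A ⊗[A] B) := Algebra.TensorProduct.rightAlgebra
  haveI : IsScalarTower A B (FractionRing A ⊗[A] B) := Algebra.TensorProduct.right_isScalarTower
  haveI hT : IsLocalization (Algebra.algebraMapSubmonoid B (nonZeroDivisors A))
      (FractionRing A ⊗[A] B) :=
    IsLocalization.tensorRight (FractionRing A) (nonZeroDivisors A)
  have hle : Algebra.algebraMapSubmonoid B (nonZeroDivisors A) ≤ q.primeCompl := by
    rintro _ ⟨s, hs, rfl⟩
    exact hq s hs
  let φ : (FractionRing A ⊗[A] B) →+* Localization.AtPrime q :=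
    IsLocalization.lift (M := Algebra.algebraMapSubmonoid B (nonZeroDivisors A))
      (g := algebraMap B (Localization.AtPrime q))
      (fun y => IsLocalization.map_units (Localization.AtPrime q) ⟨y.1, hle y.2⟩)
  letI : Algebra (FractionRing A ⊗[A] B) (Localization.AtPrime q) := φ.toAlgebra
  haveI : IsScalarTower B (FractionRing A ⊗[A] B) (Localization.AtPrime q) :=
    IsScalarTower.of_algebraMap_eq (fun x => (IsLocalization.lift_eq _ x).symm)
  haveI : IsLocalization ((q.primeCompl).map (algebraMap B (FractionRing A ⊗[A] B)))
      (Localization.AtPrime q) :=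
    IsLocalization.isLocalization_of_submonoid_le (FractionRing A ⊗[A] B)
      (Localization.AtPrime q) _ _ hle
  haveI : Module.Flat (FractionRing A ⊗[A] B) (Localization.AtPrime q) :=
    IsLocalization.flat (Localization.AtPrime q)
      ((q.primeCompl).map (algebraMap B (FractionRing A ⊗[A] B)))
  haveI : Module.Flat A (FractionRing A) := IsLocalization.flat (FractionRing A) (nonZeroDivisors A)
  haveI : Module.Flat A (FractionRing A ⊗[A] B) :=
    Module.Flat.trans A (FractionRing A) (FractionRing A ⊗[A] B)
  have hcomp : ∀ a : A, algebraMap A (Localization.AtPrime q) a =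
      algebraMap (FractionRing A ⊗[A] B) (Localization.AtPrime q)
        (algebraMap A (FractionRing A ⊗[A] B) a) := by
    intro a
    rw [IsScalarTower.algebraMap_apply A B (Localization.AtPrime q),
      IsScalarTower.algebraMap_apply A B (FractionRing A ⊗[A] B),
      ← IsScalarTower.algebraMap_apply B (FractionRing A ⊗[A] B) (Localization.AtPrime q)]
  haveI : IsScalarTower A (FractionRing A ⊗[A] B) (Localization.AtPrime q) :=
    IsScalarTower.of_algebraMap_eq hcomp
  exact Module.Flat.trans A (FractionRing A ⊗[A] B) (Localization.AtPrime q)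

theorem main (A B : Type u) [CommRing A] [CommRing B] [IsNoetherianRing A] [IsNoetherianRing B]
    [Algebra A B] (h1 : nonZeroDivisors A ≤ (nonZeroDivisors B).comap (algebraMap A B))
    (h2 : Module.Flat (FractionRing A) (FractionRing A ⊗[A] B)) :
    (∀ (q : Ideal B) [q.IsPrime], IsAssociatedPrime q B → Module.Flat A (Localization.AtPrime q)) ∧
    (∀ (q : Ideal B) [q.IsPrime], IsAssociatedPrime (q.comap (algebraMap A B)) A →
      Module.Flat A (Localization.AtPrime q)) := by
  constructor
  · intro q _ hq
    obtain ⟨hqp, x, hx⟩ := isAssociatedPrime_iff.1 hq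
    refine flat_of_disjoint A B h2 q fun s hs hsq => ?_
    have hs' : algebraMap A B s ∈ nonZeroDivisors B := h1 hs
    rw [hx, Submodule.mem_colon_singleton, Submodule.mem_bot, smul_eq_mul, mul_comm,
      mul_right_mem_nonZeroDivisors_eq_zero_iff hs'] at hsq
    apply hqp.ne_top
    rw [Ideal.eq_top_iff_one, hx, Submodule.mem_colon_singleton, hsq]
    simp
  · intro q _ hq
    obtain ⟨hpp, y, hy⟩ := isAssociatedPrime_iff.1 hq
    refine flat_of_disjoint A B h2 q fun s hs hsq => ?_
    have hsp : s ∈ q.comap (algebraMap A B) := hsq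
    rw [hy, Submodule.mem_colon_singleton, Submodule.mem_bot, smul_eq_mul, mul_comm,
      mul_right_mem_nonZeroDivisors_eq_zero_iff hs] at hsp
    apply hpp.ne_top
    rw [Ideal.eq_top_iff_one, hy, Submodule.mem_colon_singleton, hsp]
    simp

end Groth.Agent.Helper22.FlatFrac
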