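import Mathlib

/-!
# Flatness of `Q(A) ⊗_A B` over `Q(A)` from flatness at primes over associated primes (going-up)
-/

namespace Groth.Agent.Helper22.FlatFrac2

open TensorProduct

universe u

/-- A further localization of a flat localization is flat. -/
theorem flat_of_submonoid_le (A : Type*) {B : Type*} [CommRing A] [CommRing B] [Algebra A B]
    (M N : Submonoid B) (h : M ≤ N) (S T : Type*) [CommRing S] [CommRing T]
    [Algebra B S] [Algebra B T] [IsLocalization M S] [IsLocalization N T]
    [Algebra A S] [IsScalarTower A B S] [Algebra A T] [IsScalarTower A B T]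
    [Module.Flat A S] : Module.Flat A T := by
  let φ : S →+* T := IsLocalization.lift (M := M) (g := algebraMap B T)
      (fun y => IsLocalization.map_units T ⟨y.1, h y.2⟩)
  letI : Algebra S T := φ.toAlgebra
  haveI : IsScalarTower B S T :=
    IsScalarTower.of_algebraMap_eq (fun x => (IsLocalization.lift_eq _ x).symm)
  haveI : IsLocalization (N.map (algebraMap B S)) T :=
    IsLocalization.isLocalization_of_submonoid_le S T M N h
  haveI : Module.Flat S T := IsLocalization.flat T (N.map (algebraMap B S))
  have hcomp : ∀ a : A, algebraMap A T a = algebraMap S T (algebraMap A S a) := by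
    intro a
    rw [IsScalarTower.algebraMap_apply A B T, IsScalarTower.algebraMap_apply A B S,
      ← IsScalarTower.algebraMap_apply B S T]
  haveI : IsScalarTower A S T := IsScalarTower.of_algebraMap_eq hcomp
  exact Module.Flat.trans A S T

theorem main (A B : Type u) [CommRing A] [CommRing B] [IsNoetherianRing A] [IsNoetherianRing B]
    [Algebra A B] [Algebra.HasGoingUp A B]
    (h4 : ∀ (q : Ideal B) [q.IsPrime], IsAssociatedPrime (q.comap (algebraMap A B)) A →
      Module.Flat A (Localization.AtPrime q)) :
    Module.Flat (FractionRing A) (FractionRing A ⊗[A] B) := by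
  letI : Algebra B (FractionRing A ⊗[A] B) := Algebra.TensorProduct.rightAlgebra
  haveI : IsScalarTower A B (FractionRing A ⊗[A] B) := Algebra.TensorProduct.right_isScalarTower
  haveI hT : IsLocalization (Algebra.algebraMapSubmonoid B (nonZeroDivisors A))
      (FractionRing A ⊗[A] B) :=
    IsLocalization.tensorRight (FractionRing A) (nonZeroDivisors A)
  rw [Module.flat_iff_of_isLocalization (FractionRing A) (nonZeroDivisors A)]
  refine Module.flat_of_isLocalized_maximal (FractionRing A ⊗[A] B) (FractionRing A ⊗[A] B)
    (fun P _ => Localization.AtPrime P)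
    (fun P _ => Algebra.linearMap (FractionRing A ⊗[A] B) (Localization.AtPrime P)) ?_
  intro P hP
  haveI : P.IsPrime := hP.isPrime
  haveI hqprime : (P.comap (algebraMap B (FractionRing A ⊗[A] B))).IsPrime :=
    Ideal.comap_isPrime _ _
  haveI hloc : IsLocalization.AtPrime (Localization.AtPrime P)
      (P.comap (algebraMap B (FractionRing A ⊗[A] B))) :=
    IsLocalization.isLocalization_isLocalization_atPrime_isLocalization
      (Algebra.algebraMapSubmonoid B (nonZeroDivisors A)) (Localization.AtPrime P) P
  have hq : ∀ s ∈ nonZeroDivisors A,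
      algebraMap A B s ∉ P.comap (algebraMap B (FractionRing A ⊗[A] B)) := by
    intro s hs hsq
    have hu : IsUnit (algebraMap B (FractionRing A ⊗[A] B) (algebraMap A B s)) :=
      IsLocalization.map_units (FractionRing A ⊗[A] B)
        (⟨algebraMap A B s, Algebra.mem_algebraMapSubmonoid_of_mem ⟨s, hs⟩⟩ :
          Algebra.algebraMapSubmonoid B (nonZeroDivisors A))
    exact hP.ne_top (Ideal.eq_top_of_isUnit_mem _ hsq hu)
  have hdisj : Disjoint
      (((P.comap (algebraMap B (FractionRing A ⊗[A] B))).comap (algebraMap A B) : Ideal A) : Set A)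
      (nonZeroDivisors A) := by
    rw [Set.disjoint_left]
    intro s hs hs'
    exact hq s hs' hs
  obtain ⟨p', hp'ass, hp'⟩ : ∃ p' ∈ associatedPrimes A A,
      (P.comap (algebraMap B (FractionRing A ⊗[A] B))).comap (algebraMap A B) ≤ p' :=
    (Ideal.subset_union_prime_finite (associatedPrimes.finite ..) (f := id) 0 0
      fun _ h _ _ ↦ h.1).1 <|
    biUnion_associatedPrimes_eq_compl_nonZeroDivisors A ▸ hdisj.subset_compl_right
  haveI : p'.IsPrime := hp'ass.isPrime
  haveI : (P.comap (algebraMap B (FractionRing A ⊗[A] B))).LiesOver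
      ((P.comap (algebraMap B (FractionRing A ⊗[A] B))).comap (algebraMap A B)) := ⟨rfl⟩
  obtain ⟨Q, hqQ, hQp, hQo⟩ := Ideal.exists_ideal_ge_liesOver_of_le
    (p := (P.comap (algebraMap B (FractionRing A ⊗[A] B))).comap (algebraMap A B)) (q := p')
    (P.comap (algebraMap B (FractionRing A ⊗[A] B))) hp'
  haveI := hQp
  haveI hflatQ : Module.Flat A (Localization.AtPrime Q) := by
    apply h4 Q
    have := hQo.over
    rw [Ideal.under_def] at this
    rw [← this]
    exact hp'ass
  have hle : Q.primeCompl ≤ (P.comap (algebraMap B (FractionRing A ⊗[A] B))).primeCompl :=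
    fun x hx hxq => hx (hqQ hxq)
  exact flat_of_submonoid_le A Q.primeCompl
    (P.comap (algebraMap B (FractionRing A ⊗[A] B))).primeCompl hle
    (Localization.AtPrime Q) (Localization.AtPrime P)

end Groth.Agent.Helper22.FlatFrac2
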