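import Mathlib

/-!
# q-linear maps over separably closed fields (helper22)

`k` a field of characteristic `p`, `σ = iterateFrobenius k p r` (`x ↦ x ^ p ^ r`, `r > 0`),
`f : V →ₛₗ[σ] V` on a finite-dimensional space.  Main results (Lang / Dieudonné, SGA 7 XXII):
* `exists_fixed_ne_zero`: if `k` is separably closed, `V ≠ 0` and the image of `f` spans `V`,
  then `f` has a nonzero fixed vector;
* `sub_surjective`: if `k` is separably closed, `v ↦ v - f v` is surjective.
-/

namespace Groth.Agent.Helper22.QLin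

open Polynomial

universe u v

section poly

variable {k : Type u} [Field k]

/-- The polynomials `Y₀ = X^q c₀`, `Y_{i+1} = Y_i^q + X^q c_{i+1}`. -/
noncomputable def Ypoly (q : ℕ) (c : ℕ → k) : ℕ → k[X]
  | 0 => X ^ q * C (c 0)
  | (i + 1) => (Ypoly q c i) ^ q + X ^ q * C (c (i + 1))

variable (q : ℕ) (c : ℕ → k)

theorem Ypoly_zero : Ypoly q c 0 = X ^ q * C (c 0) := rfl
theorem Ypoly_succ (i : ℕ) : Ypoly q c (i + 1) = (Ypoly q c i) ^ q + X ^ q * C (c (i + 1)) := rfl

theorem Ypoly_derivative (hq : (q : k) = 0) (i : ℕ) : derivative (Ypoly q c i) = 0 := by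
  have hq' : (C (q : k) : k[X]) = 0 := by rw [hq, C_0]
  induction i with
  | zero =>
    rw [Ypoly_zero, derivative_mul, derivative_C, mul_zero, add_zero, derivative_X_pow, hq',
      zero_mul, zero_mul]
  | succ i ih =>
    rw [Ypoly_succ, derivative_add, derivative_pow, ih, mul_zero, zero_add, derivative_mul,
      derivative_C, mul_zero, add_zero, derivative_X_pow, hq', zero_mul, zero_mul]

theorem Ypoly_eval_zero (hq : q ≠ 0) (i : ℕ) : (Ypoly q c i).eval 0 = 0 := by
  induction i with
  | zero => simp [Ypoly_zero, hq]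
  | succ i ih => simp [Ypoly_succ, ih, hq]

theorem Ypoly_eq_zero (hq : q ≠ 0) (i : ℕ) (h : ∀ j ≤ i, c j = 0) : Ypoly q c i = 0 := by
  induction i with
  | zero => simp [Ypoly_zero, h 0 le_rfl]
  | succ i ih =>
    rw [Ypoly_succ, ih (fun j hj => h j (Nat.le_succ_of_le hj)), h (i + 1) le_rfl]
    simp [hq]

theorem good_base (a : k) (ha : a ≠ 0) :
    (X ^ q * C a : k[X]) ≠ 0 ∧ q ≤ (X ^ q * C a : k[X]).natDegree := by
  have hnd : (X ^ q * C a : k[X]).natDegree = q := by
    rw [natDegree_mul_C ha, natDegree_X_pow]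
  refine ⟨?_, hnd.ge⟩
  intro h
  have h1 : (X ^ q : k[X]) = 0 := by
    have := mul_eq_zero.mp h
    rcases this with h2 | h2
    · exact h2
    · exact absurd (C_eq_zero.mp h2) ha
  exact (pow_ne_zero q X_ne_zero) h1

theorem good_step (hq2 : 2 ≤ q) (A : k[X]) (hA : A ≠ 0) (hAq : q ≤ A.natDegree) (a : k) :
    (A ^ q + X ^ q * C a) ≠ 0 ∧ q ≤ (A ^ q + X ^ q * C a).natDegree := by
  have h1 : (A ^ q).natDegree = q * A.natDegree := natDegree_pow A q
  have h2 : (X ^ q * C a : k[X]).natDegree ≤ q := by
    calc (X ^ q * C a : k[X]).natDegree ≤ (X ^ q : k[X]).natDegree + (C a : k[X]).natDegree :=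
          natDegree_mul_le
      _ = q := by rw [natDegree_X_pow, natDegree_C, add_zero]
  have h3 : q < (A ^ q).natDegree := by
    rw [h1]
    calc q < q * q := by nlinarith
      _ ≤ q * A.natDegree := Nat.mul_le_mul_left q hAq
  have h4 : (A ^ q + X ^ q * C a).natDegree = (A ^ q).natDegree :=
    natDegree_add_eq_left_of_natDegree_lt (lt_of_le_of_lt h2 h3)
  refine ⟨?_, ?_⟩
  · intro h
    rw [h, natDegree_zero] at h4
    omega
  · rw [h4]; exact h3.le

theorem Ypoly_good (hq2 : 2 ≤ q) (i : ℕ) (h : ∃ j ≤ i, c j ≠ 0) :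
    Ypoly q c i ≠ 0 ∧ q ≤ (Ypoly q c i).natDegree := by
  induction i with
  | zero =>
    obtain ⟨j, hj, hcj⟩ := h
    have : j = 0 := by omega
    subst this
    exact good_base q (c 0) hcj
  | succ i ih =>
    by_cases h' : ∃ j ≤ i, c j ≠ 0
    · obtain ⟨h1, h2⟩ := ih h'
      rw [Ypoly_succ]
      exact good_step q hq2 _ h1 h2 _
    · push_neg at h'
      have hz : Ypoly q c i = 0 := Ypoly_eq_zero q c (by omega) i h'
      obtain ⟨j, hj, hcj⟩ := h
      have hj' : j = i + 1 := by
        by_contra hne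
        exact hcj (h' j (by omega))
      subst hj'
      rw [Ypoly_succ, hz, zero_pow (by omega), zero_add]
      exact good_base q _ hcj

/-- Key root-finding lemma. -/
theorem exists_root_aux [IsSepClosed k] (hq : (q : k) = 0) (hq2 : 2 ≤ q) (m' : ℕ)
    (hc : ∃ j ≤ m', c j ≠ 0) :
    ∃ (t : k) (y : ℕ → k), t ≠ 0 ∧ y 0 = t ^ q * c 0 ∧
      (∀ i, y (i + 1) = (y i) ^ q + t ^ q * c (i + 1)) ∧ y m' = t := by
  have hq0 : q ≠ 0 := by omega
  obtain ⟨hY0, hYq⟩ := Ypoly_good q c hq2 m' hc
  set P : k[X] := Ypoly q c m' - X with hP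
  have hPd : derivative P = -1 := by
    rw [hP, derivative_sub, Ypoly_derivative q c hq, derivative_X, zero_sub]
  have hsep : P.Separable := by
    rw [separable_def, hPd]
    exact isCoprime_one_right.neg_right
  have hPe : P.eval 0 = 0 := by
    rw [hP, eval_sub, Ypoly_eval_zero q c hq0, eval_X, sub_zero]
  have hnd : P.natDegree = (Ypoly q c m').natDegree := by
    rw [hP]
    apply natDegree_sub_eq_left_of_natDegree_lt
    rw [natDegree_X]; omega
  have hP0 : P ≠ 0 := by
    intro h
    rw [h, natDegree_zero] at hnd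
    omega
  obtain ⟨Q, hQ⟩ : X ∣ P := X_dvd_iff.mpr (by rw [coeff_zero_eq_eval_zero, hPe])
  have hQ0 : Q ≠ 0 := by
    rintro rfl
    rw [mul_zero] at hQ
    exact hP0 hQ
  have hsepQ : Q.Separable := by
    rw [hQ] at hsep
    exact hsep.of_mul_right
  have hndQ : 1 ≤ Q.natDegree := by
    have : P.natDegree = 1 + Q.natDegree := by
      rw [hQ, natDegree_mul X_ne_zero hQ0, natDegree_X]
    omega
  have hdegQ : Q.degree ≠ 0 := by
    have := natDegree_pos_iff_degree_pos.mp (by omega : 0 < Q.natDegree)
    exact this.ne'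
  obtain ⟨t, ht⟩ := IsSepClosed.exists_root Q hdegQ hsepQ
  have hQe : Q.eval 0 = -1 := by
    have h1 : derivative P = Q + X * derivative Q := by
      rw [hQ, derivative_mul, derivative_X, one_mul]
    have h2 := congrArg (eval 0) h1
    rw [hPd] at h2
    simp at h2
    exact h2.symm
  have ht0 : t ≠ 0 := by
    rintro rfl
    rw [IsRoot.def, hQe] at ht
    exact absurd ht (by norm_num)
  have hPt : P.eval t = 0 := by
    rw [hQ, eval_mul, ht, mul_zero]
  refine ⟨t, fun i => (Ypoly q c i).eval t, ht0, ?_, ?_, ?_⟩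
  · simp only [Ypoly_zero, eval_mul, eval_pow, eval_X, eval_C]
  · intro i
    simp only [Ypoly_succ, eval_add, eval_mul, eval_pow, eval_X, eval_C]
  · rw [hP, eval_sub, eval_X, sub_eq_zero] at hPt
    exact hPt

end poly

section semilinear

variable {k : Type u} [Field k] {p : ℕ} [Fact p.Prime] [CharP k p] {r : ℕ}
variable {V : Type v} [AddCommGroup V] [Module k V]

theorem cast_q_eq_zero (hr : 0 < r) : ((p ^ r : ℕ) : k) = 0 := by
  rw [CharP.cast_eq_zero_iff k p]
  exact dvd_pow_self p hr.ne'

theorem two_le_q (hr : 0 < r) : 2 ≤ p ^ r := by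
  have hp : 2 ≤ p := (Fact.out : p.Prime).two_le
  calc 2 ≤ p := hp
    _ = p ^ 1 := (pow_one p).symm
    _ ≤ p ^ r := Nat.pow_le_pow_right (by omega) hr

/-- Build a semilinear map from an additive map satisfying the q-linearity identity. -/
def mkSL (φ : V →+ V) (hφ : ∀ (c : k) (v : V), φ (c • v) = c ^ (p ^ r) • φ v) :
    V →ₛₗ[iterateFrobenius k p r] V where
  toFun := φ
  map_add' := φ.map_add
  map_smul' := fun c v => by rw [hφ, iterateFrobenius_def]

@[simp] theorem mkSL_apply (φ : V →+ V) (hφ : ∀ (c : k) (v : V), φ (c • v) = c ^ (p ^ r) • φ v)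
    (v : V) : mkSL φ hφ v = φ v := rfl

variable (f : V →ₛₗ[iterateFrobenius k p r] V)

theorem map_smul_q (c : k) (v : V) : f (c • v) = c ^ (p ^ r) • f v := by
  rw [map_smulₛₗ, iterateFrobenius_def]

theorem iterate_smul (n : ℕ) (c : k) (v : V) :
    f^[n] (c • v) = c ^ ((p ^ r) ^ n) • f^[n] v := by
  induction n generalizing c v with
  | zero => simp
  | succ n ih =>
    rw [Function.iterate_succ_apply', Function.iterate_succ_apply', ih, map_smul_q, ← pow_mul,
      pow_succ]

theorem iterate_sum {ι : Type*} (s : Finset ι) (g : ι → V) (n : ℕ) :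
    f^[n] (∑ i ∈ s, g i) = ∑ i ∈ s, f^[n] (g i) := by
  classical
  induction s using Finset.induction_on with
  | empty => simp [iterate_map_zero]
  | insert a s ha ih => rw [Finset.sum_insert ha, Finset.sum_insert ha, iterate_map_add, ih]

/-- `f` maps `span T` into `span (f '' T)`. -/
theorem map_mem_span_image (T : Set V) (w : V) (hw : w ∈ Submodule.span k T) :
    f w ∈ Submodule.span k (f '' T) := by
  induction hw using Submodule.span_induction with
  | mem x hx => exact Submodule.subset_span ⟨x, hx, rfl⟩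
  | zero => rw [map_zero]; exact Submodule.zero_mem _
  | add x y _ _ hx hy => rw [map_add]; exact Submodule.add_mem _ hx hy
  | smul a x _ hx => rw [map_smul_q]; exact Submodule.smul_mem _ _ hx

theorem span_range_iterate_eq_top (hss : Submodule.span k (Set.range f) = ⊤) (n : ℕ) :
    Submodule.span k (Set.range (f^[n])) = ⊤ := by
  induction n with
  | zero => simp
  | succ n ih =>
    rw [Function.iterate_succ', Set.range_comp, eq_top_iff, ← hss, Submodule.span_le]
    rintro _ ⟨w, rfl⟩
    exact map_mem_span_image f _ w (by rw [ih]; trivial)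

theorem exists_iterate_ne_zero [FiniteDimensional k V] [Nontrivial V]
    (hss : Submodule.span k (Set.range f) = ⊤) : ∃ v : V, ∀ n, f^[n] v ≠ 0 := by
  classical
  by_contra h
  push_neg at h
  choose n hn using h
  let b := Module.finBasis k V
  let N := Finset.univ.sup (fun i => n (b i))
  have hb : ∀ i, f^[N] (b i) = 0 := by
    intro i
    have hle : n (b i) ≤ N := Finset.le_sup (f := fun i => n (b i)) (Finset.mem_univ i)
    have : N = (N - n (b i)) + n (b i) := by omega
    rw [this, Function.iterate_add_apply, hn, iterate_map_zero]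
  have hall : ∀ v, f^[N] v = 0 := by
    intro v
    rw [← b.sum_repr v, iterate_sum]
    apply Finset.sum_eq_zero
    intro i _
    rw [iterate_smul, hb, smul_zero]
  have h1 := span_range_iterate_eq_top f hss N
  have h2 : Set.range (f^[N]) ⊆ {0} := by
    rintro _ ⟨v, rfl⟩
    exact hall v
  have h3 : Submodule.span k (Set.range (f^[N])) ≤ ⊥ := by
    rw [Submodule.span_le]
    intro x hx
    have := h2 hx
    simpa using this
  rw [h1] at h3
  exact (bot_ne_top (α := Submodule k V)) (le_antisymm bot_le h3)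

/-- Existence of a nonzero fixed vector. -/
theorem exists_fixed_ne_zero [IsSepClosed k] (hr : 0 < r) [FiniteDimensional k V] [Nontrivial V]
    (hss : Submodule.span k (Set.range f) = ⊤) : ∃ x : V, x ≠ 0 ∧ f x = x := by
  classical
  obtain ⟨v, hv⟩ := exists_iterate_ne_zero f hss
  set q := p ^ r with hqdef
  let u : ℕ → V := fun i => f^[i] v
  have hfu : ∀ i, f (u i) = u (i + 1) := fun i => (Function.iterate_succ_apply' f i v).symm
  let W : ℕ → Submodule k V := fun m => Submodule.span k (Set.range (fun i : Fin m => u i))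
  have hWmem : ∀ m i, i < m → u i ∈ W m := fun m i hi => Submodule.subset_span ⟨⟨i, hi⟩, rfl⟩
  have hWmono : Monotone W := by
    intro a b hab
    apply Submodule.span_mono
    rintro _ ⟨i, rfl⟩
    exact ⟨⟨i, lt_of_lt_of_le i.2 hab⟩, rfl⟩
  have hex : ∃ m, u m ∈ W m := by
    obtain ⟨n, hn⟩ := monotone_stabilizes_iff_noetherian.mpr
      (inferInstance : IsNoetherian k V) ⟨W, hWmono⟩
    refine ⟨n, ?_⟩
    have := hn (n + 1) (Nat.le_succ n)
    change W n = W (n + 1) at this
    rw [this]
    exact hWmem (n + 1) n (Nat.lt_succ_self n)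
  let m := Nat.find hex
  have hm : u m ∈ W m := Nat.find_spec hex
  have hmin : ∀ j < m, u j ∉ W j := fun j hj => Nat.find_min hex hj
  have hm0 : m ≠ 0 := by
    intro h0
    rw [h0] at hm
    have : W 0 = ⊥ := by
      simp only [W]
      rw [Submodule.span_eq_bot]
      rintro _ ⟨i, rfl⟩
      exact i.elim0
    rw [this, Submodule.mem_bot] at hm
    exact hv 0 hm
  obtain ⟨m', hm'⟩ := Nat.exists_eq_succ_of_ne_zero hm0
  rw [hm'] at hm
  obtain ⟨c0, hc0⟩ := (Submodule.mem_span_range_iff_exists_fun k).mp hm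
  let c : ℕ → k := fun i => if h : i < m' + 1 then c0 ⟨i, h⟩ else 0
  have hrel : u (m' + 1) = ∑ i ∈ Finset.range (m' + 1), c i • u i := by
    rw [Finset.sum_range, ← hc0]
    apply Finset.sum_congr rfl
    intro i _
    simp only [c, i.2, dif_pos]
  have hcne : ∃ j ≤ m', c j ≠ 0 := by
    by_contra hcon
    push_neg at hcon
    have : u (m' + 1) = 0 := by
      rw [hrel]
      apply Finset.sum_eq_zero
      intro i hi
      rw [hcon i (by simpa [Nat.lt_succ_iff] using hi), zero_smul]
    exact hv (m' + 1) this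
  obtain ⟨t, y, ht0, hy0, hys, hyt⟩ :=
    exists_root_aux q c (cast_q_eq_zero hr) (two_le_q hr) m' hcne
  refine ⟨∑ i ∈ Finset.range (m' + 1), y i • u i, ?_, ?_⟩
  · intro hx0
    rw [Finset.sum_range_succ, hyt] at hx0
    have h1 : u m' = -(t⁻¹ • ∑ i ∈ Finset.range m', y i • u i) := by
      have h2 : t • u m' = -∑ i ∈ Finset.range m', y i • u i := by
        rw [eq_neg_iff_add_eq_zero, add_comm]; exact hx0
      rw [← smul_neg, ← h2, smul_smul, inv_mul_cancel₀ ht0, one_smul]
    apply hmin m' (by omega)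
    rw [h1]
    apply Submodule.neg_mem
    apply Submodule.smul_mem
    apply Submodule.sum_mem
    intro i hi
    exact Submodule.smul_mem _ _ (hWmem m' i (Finset.mem_range.mp hi))
  · rw [map_sum]
    simp only [map_smul_q, hfu]
    rw [Finset.sum_range_succ, hyt, hrel, Finset.sum_range_succ' (fun i => c i • u i),
      Finset.sum_range_succ' (fun i => y i • u i)]
    simp only [hys, hy0]
    simp only [add_smul, Finset.sum_add_distrib, Finset.smul_sum, smul_add, smul_smul]
    abel

/-- Artin–Schreier type equations are solvable in a separably closed field. -/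
theorem exists_artinSchreier [IsSepClosed k] (hr : 0 < r) (a : k) :
    ∃ t : k, t - t ^ (p ^ r) = a := by
  set q := p ^ r with hqdef
  have hq : (q : k) = 0 := cast_q_eq_zero hr
  have hq2 : 2 ≤ q := two_le_q hr
  let P : k[X] := X - X ^ q - C a
  have hPd : derivative P = 1 := by
    simp only [P, derivative_sub, derivative_X, derivative_X_pow, derivative_C, hq, C_0, zero_mul,
      sub_zero]
  have hsep : P.Separable := by
    rw [separable_def, hPd]
    exact isCoprime_one_right
  have hnd : P.natDegree = q := by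
    have h1 : (X - X ^ q : k[X]) = -(X ^ q - X) := by ring
    have h2 : (X ^ q - X : k[X]).natDegree = q := by
      rw [natDegree_sub_eq_left_of_natDegree_lt (by rw [natDegree_X, natDegree_X_pow]; omega),
        natDegree_X_pow]
    simp only [P]
    rw [natDegree_sub_C, h1, natDegree_neg, h2]
  have hdeg : P.degree ≠ 0 := by
    have := natDegree_pos_iff_degree_pos.mp (by omega : 0 < P.natDegree)
    exact this.ne'
  obtain ⟨t, ht⟩ := IsSepClosed.exists_root P hdeg hsep
  refine ⟨t, ?_⟩
  simp only [P, IsRoot.def, eval_sub, eval_X, eval_pow, eval_C] at ht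
  exact sub_eq_zero.mp ht

end semilinear

end Groth.Agent.Helper22.QLin
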