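import Mathlib
import Groth.Agent.Lib.Helper22.QLin

/-!
# q-linear maps over separably closed fields, part 2 (helper22)
* `sub_surjective`: `v ↦ v - f v` is surjective;
* `span_fixed_eq_top`, `exists_basis_fixed`: in the semisimple case there is a basis of fixed vectors;
* `iterate_fixed_iff_repr`: coordinates of vectors fixed by iterates;
* `fixed_structure`: fixed vectors in general.
-/

namespace Groth.Agent.Helper22.QLin

open Polynomial

universe u v

variable {k : Type u} [Field k] {p : ℕ} [Fact p.Prime] [CharP k p] {r : ℕ}

theorem sub_surjective_aux [IsSepClosed k] (hr : 0 < r) :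
    ∀ (n : ℕ) (V : Type v) [AddCommGroup V] [Module k V] [FiniteDimensional k V]
      (f : V →ₛₗ[iterateFrobenius k p r] V), Module.finrank k V = n →
      Function.Surjective (fun x : V => x - f x) := by
  intro n
  induction n using Nat.strong_induction_on with
  | _ n ih =>
    intro V _ _ _ f hn w
    by_cases hss : Submodule.span k (Set.range f) = ⊤
    · by_cases hnt : Nontrivial V
      · obtain ⟨e, he0, hfe⟩ := exists_fixed_ne_zero f hr hss
        let W : Submodule k V := Submodule.span k {e}
        have hWf : W ≤ W.comap f := by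
          intro x hx
          obtain ⟨a, rfl⟩ := Submodule.mem_span_singleton.mp hx
          rw [Submodule.mem_comap, map_smul_q, hfe]
          exact Submodule.smul_mem _ _ (Submodule.mem_span_singleton_self e)
        let fq := W.mapQ W f hWf
        have hdim : Module.finrank k (V ⧸ W) < n := by
          have h1 := Submodule.finrank_quotient_add_finrank W
          have h2 : Module.finrank k W = 1 := finrank_span_singleton he0
          omega
        obtain ⟨xq, hxq⟩ := ih _ hdim (V ⧸ W) fq rfl (W.mkQ w)
        obtain ⟨x, rfl⟩ := W.mkQ_surjective xq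
        have h3 : x - f x - w ∈ W := by
          rw [← Submodule.Quotient.mk_eq_zero, Submodule.Quotient.mk_sub,
            Submodule.Quotient.mk_sub]
          have hfq : fq (Submodule.Quotient.mk x) = Submodule.Quotient.mk (f x) :=
            Submodule.mapQ_apply _ _ _ _
          simp only [Submodule.mkQ_apply] at hxq
          rw [← hfq, hxq, sub_self]
        obtain ⟨a, ha⟩ := Submodule.mem_span_singleton.mp h3
        obtain ⟨t, ht⟩ := exists_artinSchreier (k := k) (p := p) hr a
        refine ⟨x - t • e, ?_⟩
        simp only [map_sub, map_smul_q, hfe]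
        have hxf : x - f x = w + a • e := by rw [ha]; abel
        calc x - t • e - (f x - t ^ (p ^ r) • e)
            = (x - f x) - (t - t ^ (p ^ r)) • e := by rw [sub_smul]; abel
          _ = w := by rw [hxf, ht]; abel
      · rw [not_nontrivial_iff_subsingleton] at hnt
        exact ⟨0, Subsingleton.elim _ _⟩
    · set V' := Submodule.span k (Set.range f) with hV'
      have hlt : Module.finrank k V' < n := by
        rw [← hn]; exact Submodule.finrank_lt hss
      have hfV' : ∀ x : V, f x ∈ V' := fun x => Submodule.subset_span ⟨x, rfl⟩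
      let g : V' →ₛₗ[iterateFrobenius k p r] V' :=
        (f.domRestrict V').codRestrict V' (fun x => hfV' x)
      obtain ⟨y, hy⟩ := ih _ hlt V' g rfl ⟨f w, hfV' w⟩
      refine ⟨w + y, ?_⟩
      have hy' : (y : V) - f y = f w := by
        have := congrArg Subtype.val hy
        simpa [g] using this
      simp only [map_add]
      calc w + ↑y - (f w + f ↑y) = w + ((y : V) - f y) - f w := by abel
        _ = w := by rw [hy']; abel

theorem sub_surjective [IsSepClosed k] (hr : 0 < r) {V : Type v} [AddCommGroup V] [Module k V]
    [FiniteDimensional k V] (f : V →ₛₗ[iterateFrobenius k p r] V) :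
    Function.Surjective (fun x : V => x - f x) :=
  sub_surjective_aux hr _ V f rfl

section fixed

variable {V : Type v} [AddCommGroup V] [Module k V] (f : V →ₛₗ[iterateFrobenius k p r] V)

theorem span_fixed_eq_top [IsSepClosed k] (hr : 0 < r) [FiniteDimensional k V]
    (hss : Submodule.span k (Set.range f) = ⊤) :
    Submodule.span k {v : V | f v = v} = ⊤ := by
  by_contra hne
  set W := Submodule.span k {v : V | f v = v} with hW
  have hWf : W ≤ W.comap f := by
    intro x hx
    rw [Submodule.mem_comap]
    have := map_mem_span_image f _ x hx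
    refine Submodule.span_mono ?_ this
    rintro _ ⟨v, hv, rfl⟩
    show f (f v) = f v
    rw [hv]
    exact hv
  let fq := W.mapQ W f hWf
  haveI : Nontrivial (V ⧸ W) := (Submodule.Quotient.nontrivial_iff (p := W)).mpr hne
  have hfq : ∀ x : V, fq (Submodule.Quotient.mk x) = Submodule.Quotient.mk (f x) :=
    fun x => Submodule.mapQ_apply _ _ _ _
  have hssq : Submodule.span k (Set.range fq) = ⊤ := by
    rw [eq_top_iff]
    intro xq _
    obtain ⟨x, rfl⟩ := W.mkQ_surjective xq
    have hx : x ∈ Submodule.span k (Set.range f) := by rw [hss]; trivial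
    have hle : Submodule.map W.mkQ (Submodule.span k (Set.range f))
        ≤ Submodule.span k (Set.range fq) := by
      rw [Submodule.map_span, Submodule.span_le]
      rintro _ ⟨_, ⟨v, rfl⟩, rfl⟩
      exact Submodule.subset_span ⟨Submodule.Quotient.mk v, hfq v⟩
    exact hle ⟨x, hx, rfl⟩
  obtain ⟨xq, hxq0, hxq⟩ := exists_fixed_ne_zero fq hr hssq
  obtain ⟨x, rfl⟩ := W.mkQ_surjective xq
  have h1 : f x - x ∈ W := by
    rw [← Submodule.Quotient.mk_eq_zero, Submodule.Quotient.mk_sub]
    simp only [Submodule.mkQ_apply] at hxq
    rw [← hfq, hxq, sub_self]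
  let g : W →ₛₗ[iterateFrobenius k p r] W :=
    (f.domRestrict W).codRestrict W (fun w => hWf w.2)
  obtain ⟨y, hy⟩ := sub_surjective hr g ⟨f x - x, h1⟩
  have hy' : (y : V) - f y = f x - x := by
    have := congrArg Subtype.val hy
    simpa [g] using this
  have hfix : f (x + y) = x + y := by
    rw [map_add]
    have : f (y : V) = y - (f x - x) := by rw [← hy']; abel
    rw [this]; abel
  have hxW : x + y ∈ W := Submodule.subset_span hfix
  have hxW' : x ∈ W := by
    have := W.sub_mem hxW y.2
    simpa using this
  apply hxq0
  simp only [Submodule.mkQ_apply]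
  exact (Submodule.Quotient.mk_eq_zero W).mpr hxW'

theorem exists_basis_fixed [IsSepClosed k] (hr : 0 < r) [FiniteDimensional k V]
    (hss : Submodule.span k (Set.range f) = ⊤) :
    ∃ b : Module.Basis (Fin (Module.finrank k V)) k V, ∀ i, f (b i) = b i := by
  classical
  obtain ⟨B, hBsub, hBspan, hBli⟩ := exists_linearIndependent k {v : V | f v = v}
  rw [span_fixed_eq_top f hr hss] at hBspan
  let b0 : Module.Basis B k V :=
    Module.Basis.mk hBli (by rw [Subtype.range_coe]; exact hBspan.ge)
  haveI : Fintype B := FiniteDimensional.fintypeBasisIndex b0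
  have hcard : Fintype.card B = Module.finrank k V := (Module.finrank_eq_card_basis b0).symm
  let e : B ≃ Fin (Module.finrank k V) := Fintype.equivFinOfCardEq hcard
  refine ⟨b0.reindex e, fun i => ?_⟩
  rw [Module.Basis.reindex_apply, Module.Basis.mk_apply]
  exact hBsub (e.symm i).2

theorem iterate_eq_sum {ι : Type*} [Fintype ι] (b : Module.Basis ι k V)
    (hb : ∀ i, f (b i) = b i) (n : ℕ) (v : V) :
    f^[n] v = ∑ i, (b.repr v i) ^ ((p ^ r) ^ n) • b i := by
  conv_lhs => rw [← b.sum_repr v]
  rw [iterate_sum]
  apply Finset.sum_congr rfl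
  intro i _
  rw [iterate_smul, Function.iterate_fixed (hb i)]

theorem iterate_fixed_iff_repr {ι : Type*} [Fintype ι] (b : Module.Basis ι k V)
    (hb : ∀ i, f (b i) = b i) (n : ℕ) (v : V) :
    f^[n] v = v ↔ ∀ i, (b.repr v i) ^ ((p ^ r) ^ n) = b.repr v i := by
  rw [iterate_eq_sum f b hb n v]
  constructor
  · intro h i
    have h1 := congrArg (fun w => b.repr w i) h
    simp only [Module.Basis.repr_sum_self] at h1
    exact h1
  · intro h
    conv_rhs => rw [← b.sum_repr v]
    apply Finset.sum_congr rfl
    intro i _
    rw [h i]

theorem fixed_iff_repr {ι : Type*} [Fintype ι] (b : Module.Basis ι k V)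
    (hb : ∀ i, f (b i) = b i) (v : V) :
    f v = v ↔ ∀ i, (b.repr v i) ^ (p ^ r) = b.repr v i := by
  have := iterate_fixed_iff_repr f b hb 1 v
  simpa using this

end fixed

end Groth.Agent.Helper22.QLin
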