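import Mathlib
import Groth.Agent.Lib.Helper22.QLin2

/-!
# q-linear maps over separably closed fields, part 3 (helper22)
The semisimple part `Vss f = ⨅ n, span (range f^[n+1])` of a `q`-linear endomorphism of a
finite-dimensional space: it is stable, `f` is semisimple on it, and it contains all fixed vectors.
`exists_basis_Vss`: basis of `Vss f` made of fixed vectors, with a description of all fixed vectors.
-/

namespace Groth.Agent.Helper22.QLin

universe u v

variable {k : Type u} [Field k] {p : ℕ} [Fact p.Prime] [CharP k p] {r : ℕ}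
variable {V : Type v} [AddCommGroup V] [Module k V] (f : V →ₛₗ[iterateFrobenius k p r] V)

/-- The span of the image of the `n`-th iterate. -/
def imS (n : ℕ) : Submodule k V := Submodule.span k (Set.range (f^[n]))

theorem imS_succ_le (n : ℕ) : imS f (n + 1) ≤ imS f n := by
  apply Submodule.span_mono
  rintro _ ⟨x, rfl⟩
  exact ⟨f x, (Function.iterate_succ_apply f n x).symm⟩

theorem imS_antitone : Antitone (imS f) := antitone_nat_of_succ_le (imS_succ_le f)

theorem map_mem_imS_succ (n : ℕ) (x : V) (hx : x ∈ imS f n) : f x ∈ imS f (n + 1) := by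
  have h := map_mem_span_image f _ x hx
  refine Submodule.span_mono ?_ h
  rintro _ ⟨_, ⟨y, rfl⟩, rfl⟩
  exact ⟨y, Function.iterate_succ_apply' f n y⟩

theorem span_image_imS (n : ℕ) :
    Submodule.span k (f '' (imS f n : Set V)) = imS f (n + 1) := by
  apply le_antisymm
  · rw [Submodule.span_le]
    rintro _ ⟨x, hx, rfl⟩
    exact map_mem_imS_succ f n x hx
  · apply Submodule.span_mono
    rintro _ ⟨y, rfl⟩
    exact ⟨f^[n] y, Submodule.subset_span ⟨y, rfl⟩, (Function.iterate_succ_apply' f n y).symm⟩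

/-- The semisimple part. -/
def Vss : Submodule k V := ⨅ n : ℕ, imS f (n + 1)

theorem mem_Vss {x : V} : x ∈ Vss f ↔ ∀ n, x ∈ imS f (n + 1) := by
  unfold Vss
  rw [Submodule.mem_iInf]

theorem map_mem_Vss (x : V) (hx : x ∈ Vss f) : f x ∈ Vss f := by
  rw [mem_Vss] at hx ⊢
  intro n
  exact map_mem_imS_succ f n x (imS_succ_le f n (hx n))

theorem fixed_mem_Vss (v : V) (hv : f v = v) : v ∈ Vss f := by
  rw [mem_Vss]
  intro n
  exact Submodule.subset_span ⟨v, Function.iterate_fixed hv (n + 1)⟩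

theorem exists_Vss_eq [FiniteDimensional k V] :
    ∃ N, Vss f = imS f N ∧ imS f (N + 1) = imS f N := by
  obtain ⟨N, hN⟩ := IsArtinian.monotone_stabilizes
    (⟨fun n => OrderDual.toDual (imS f n), fun a b hab => imS_antitone f hab⟩ :
      ℕ →o (Submodule k V)ᵒᵈ)
  have hN' : ∀ m, N ≤ m → imS f m = imS f N := fun m hm => (hN m hm).symm
  refine ⟨N, ?_, hN' (N + 1) (Nat.le_succ N)⟩
  apply le_antisymm
  · intro x hx
    rw [mem_Vss] at hx
    have := hx N
    rwa [hN' (N + 1) (Nat.le_succ N)] at this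
  · intro x hx
    rw [mem_Vss]
    intro n
    by_cases hn : N ≤ n + 1
    · rwa [hN' (n + 1) hn]
    · exact imS_antitone f (by omega : n + 1 ≤ N) hx

/-- The restriction of `f` to its semisimple part. -/
def res : Vss f →ₛₗ[iterateFrobenius k p r] Vss f :=
  (f.domRestrict (Vss f)).codRestrict (Vss f) (fun x => map_mem_Vss f x.1 x.2)

theorem res_coe (x : Vss f) : ((res f x : Vss f) : V) = f (x : V) := rfl

theorem res_semisimple [FiniteDimensional k V] :
    Submodule.span k (Set.range (res f)) = ⊤ := by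
  obtain ⟨N, hN, hN1⟩ := exists_Vss_eq f
  apply Submodule.map_injective_of_injective (Vss f).injective_subtype
  rw [Submodule.map_span, Submodule.map_subtype_top]
  have himg : (Vss f).subtype '' Set.range (res f) = f '' (Vss f : Set V) := by
    ext y
    constructor
    · rintro ⟨_, ⟨w, rfl⟩, rfl⟩
      exact ⟨w.1, w.2, rfl⟩
    · rintro ⟨w, hw, rfl⟩
      exact ⟨res f ⟨w, hw⟩, ⟨⟨w, hw⟩, rfl⟩, rfl⟩
  rw [himg]
  conv_lhs => rw [hN]
  rw [span_image_imS, hN1, hN]

theorem exists_basis_Vss [IsSepClosed k] (hr : 0 < r) [FiniteDimensional k V] :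
    ∃ b : Module.Basis (Fin (Module.finrank k (Vss f))) k (Vss f),
      (∀ i, f (b i : V) = (b i : V)) ∧
      ∀ v : V, f v = v ↔ ∃ c : Fin (Module.finrank k (Vss f)) → k,
        (∀ i, c i ^ (p ^ r) = c i) ∧ v = ∑ i, c i • (b i : V) := by
  obtain ⟨b, hb⟩ := exists_basis_fixed (res f) hr (res_semisimple f)
  have hb' : ∀ i, f (b i : V) = (b i : V) := fun i => by
    have := congrArg Subtype.val (hb i)
    rwa [res_coe] at this
  refine ⟨b, hb', fun v => ⟨fun hv => ?_, ?_⟩⟩
  · have hvm : v ∈ Vss f := fixed_mem_Vss f v hv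
    have hres : res f ⟨v, hvm⟩ = ⟨v, hvm⟩ := Subtype.ext (by rw [res_coe]; exact hv)
    have hc := (fixed_iff_repr (res f) b hb ⟨v, hvm⟩).mp hres
    refine ⟨fun i => b.repr ⟨v, hvm⟩ i, hc, ?_⟩
    have h1 := congrArg Subtype.val (b.sum_repr ⟨v, hvm⟩)
    rw [Submodule.coe_sum] at h1
    simp only [Submodule.coe_smul] at h1
    exact h1.symm
  · rintro ⟨c, hc, rfl⟩
    rw [map_sum]
    apply Finset.sum_congr rfl
    intro i _
    rw [map_smul_q, hc i, hb' i]

end Groth.Agent.Helper22.QLin
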