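import Mathlib
import Groth.Agent.Lib.Helper22.QLin3

/-!
# q-linear maps, part 4 (helper22): exact count of fixed points for `p`-linear semisimple maps.
-/

namespace Groth.Agent.Helper22.QLin

universe u v

variable {k : Type u} [Field k] {p : ℕ} [Fact p.Prime] [CharP k p]

theorem card_fixed [IsSepClosed k] {V : Type v} [AddCommGroup V] [Module k V]
    [FiniteDimensional k V] (f : V →ₛₗ[iterateFrobenius k p 1] V)
    (hss : Submodule.span k (Set.range f) = ⊤) :
    Nat.card {v : V // f v = v} = p ^ Module.finrank k V := by
  classical
  obtain ⟨b, hb⟩ := exists_basis_fixed f one_pos hss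
  have hfix := fixed_iff_repr f b hb
  have hmem : ∀ c : k, c ∈ (⊥ : Subfield k) ↔ c ^ p = c :=
    fun c => Subfield.mem_bot_iff_pow_eq_self k p
  let Φ : {v : V // f v = v} → (Fin (Module.finrank k V) → (⊥ : Subfield k)) := fun v i =>
    ⟨b.repr v.1 i, (hmem _).mpr (by have := (hfix v.1).mp v.2 i; rwa [pow_one] at this)⟩
  have hΦ : Function.Bijective Φ := by
    constructor
    · intro v v' h
      apply Subtype.ext
      apply b.repr.injective
      ext i
      have := congrFun h i
      exact congrArg Subtype.val this
    · intro c
      have hrepr : ∀ i, b.repr (∑ i, (c i : k) • b i) i = c i := by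
        intro i
        rw [b.repr_sum_self]
      refine ⟨⟨∑ i, (c i : k) • b i, ?_⟩, ?_⟩
      · rw [hfix]
        intro i
        rw [hrepr, pow_one]
        exact (hmem _).mp (c i).2
      · funext i
        apply Subtype.ext
        exact hrepr i
  rw [Nat.card_eq_of_bijective Φ hΦ, Nat.card_fun, Subfield.card_bot k p, Nat.card_fin]

end Groth.Agent.Helper22.QLin
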