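import Mathlib
import Groth.Agent.Lib.Helper22.QLin4

/-!
# Bijective Frobenius-semilinear maps on finite modules over a DVR (helper22)
A finitely generated module over a discrete valuation ring of characteristic `p` carrying a
bijective additive `p`-semilinear self-map is killed by the maximal ideal; hence the statement
reduces to the case of vector spaces over the residue field.
-/

namespace Groth.Agent.Helper22.FrobDVR

universe u v

section killed

variable {p : ℕ} [Fact p.Prime] {R : Type u} [CommRing R] [IsDomain R]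
  [IsDiscreteValuationRing R] [CharP R p]
  {M : Type v} [AddCommGroup M] [Module R M] [Module.Finite R M]
  (T : M →+ M) (hT : ∀ (r : R) (m : M), T (r • m) = r ^ p • T m)

/-- `T` as a semilinear map. -/
def Tl : M →ₛₗ[frobenius R p] M where
  toFun := T
  map_add' := T.map_add
  map_smul' r m := by rw [hT, frobenius_def]

omit [IsDomain R] [IsDiscreteValuationRing R] [Module.Finite R M] in
theorem Tl_apply (x : M) : Tl T hT x = T x := rfl

include hT in
theorem smul_eq_zero_of_mem (hbij : Function.Bijective T) (r : R)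
    (hr : r ∈ IsLocalRing.maximalIdeal R) (x : M) : r • x = 0 := by
  have hp : p.Prime := Fact.out
  obtain ⟨ϖ, hϖ⟩ := IsDiscreteValuationRing.exists_irreducible R
  have hmax : IsLocalRing.maximalIdeal R = Ideal.span {ϖ} := hϖ.maximalIdeal_eq
  have hϖmem : ϖ ∈ IsLocalRing.maximalIdeal R := by rw [hmax]; exact Ideal.subset_span rfl
  let N : ℕ → Submodule R M := fun k => LinearMap.range (LinearMap.lsmul R M (ϖ ^ k))
  have hNmem : ∀ k y, y ∈ N k ↔ ∃ z, ϖ ^ k • z = y := by
    intro k y
    simp only [N, LinearMap.mem_range, LinearMap.lsmul_apply]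
  let C : Submodule R M → Submodule R M := Submodule.comap (Tl T hT)
  have hCmem : ∀ S y, y ∈ C S ↔ T y ∈ S := fun S y => Iff.rfl
  have hCinj : Function.Injective C := by
    intro S S' h
    ext y
    obtain ⟨x, rfl⟩ := hbij.2 y
    rw [← hCmem, ← hCmem, h]
  have hCmono : Monotone C := fun S S' h => Submodule.comap_mono h
  have hCNp : C (N p) = N 1 := by
    ext x
    rw [hCmem, hNmem, hNmem]
    constructor
    · rintro ⟨y, hy⟩
      obtain ⟨y', rfl⟩ := hbij.2 y
      refine ⟨y', hbij.1 ?_⟩
      rw [pow_one, hT, hy]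
    · rintro ⟨z, rfl⟩
      exact ⟨T z, by rw [pow_one, hT]⟩
  have hNp1 : N p ≤ N 1 := by
    intro y hy
    obtain ⟨z, rfl⟩ := (hNmem _ _).mp hy
    refine (hNmem _ _).mpr ⟨ϖ ^ (p - 1) • z, ?_⟩
    rw [pow_one, smul_smul, ← pow_succ', Nat.sub_add_cancel hp.one_le]
  have hchain : ∀ k, C^[k] (N p) ≤ C^[k + 1] (N p) := by
    intro k
    induction k with
    | zero =>
      show N p ≤ C (N p)
      rw [hCNp]; exact hNp1
    | succ k ih =>
      rw [Function.iterate_succ_apply', Function.iterate_succ_apply' C (k + 1)]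
      exact hCmono ih
  obtain ⟨k, hk⟩ := monotone_stabilizes_iff_noetherian.mpr (inferInstance : IsNoetherian R M)
    ⟨fun k => C^[k] (N p), monotone_nat_of_le_succ hchain⟩
  have hk1 : C^[k] (N p) = C^[k] (C (N p)) := by
    have := hk (k + 1) (Nat.le_succ k)
    simpa [Function.iterate_succ_apply] using this
  have hNeq : N p = N 1 := by
    have := (hCinj.iterate k) hk1
    rw [hCNp] at this
    exact this
  have hN1 : N 1 = ⊥ := by
    apply Submodule.eq_bot_of_le_smul_of_le_jacobson_bot (IsLocalRing.maximalIdeal R)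
    · exact IsNoetherian.noetherian (N 1)
    · intro y hy
      rw [← hNeq] at hy
      obtain ⟨z, rfl⟩ := (hNmem _ _).mp hy
      have h1 : ϖ ^ p • z = ϖ ^ (p - 1) • (ϖ ^ 1 • z) := by
        rw [smul_smul, ← pow_add, Nat.sub_add_cancel hp.one_le]
      rw [h1]
      apply Submodule.smul_mem_smul
      · exact Ideal.pow_mem_of_mem _ hϖmem _ (Nat.sub_pos_of_lt hp.one_lt)
      · exact (hNmem _ _).mpr ⟨z, rfl⟩
    · exact IsLocalRing.maximalIdeal_le_jacobson ⊥
  rw [hmax] at hr
  obtain ⟨c, rfl⟩ := Ideal.mem_span_singleton'.mp hr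
  have h2 : ϖ • x ∈ N 1 := (hNmem _ _).mpr ⟨x, by rw [pow_one]⟩
  rw [hN1] at h2
  rw [mul_smul, (Submodule.mem_bot R).mp h2, smul_zero]

end killed

end Groth.Agent.Helper22.FrobDVR
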