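import Mathlib
import Groth.Agent.Lib.Helper22.FrobDVR

/-!
# Bijective Frobenius-semilinear maps on modules killed by the maximal ideal (helper22)
-/

namespace Groth.Agent.Helper22.FrobDVR

open TensorProduct

universe u v

theorem main_of_killed {p : ℕ} [Fact p.Prime] {R : Type u} [CommRing R] [IsLocalRing R]
    [IsSepClosed (IsLocalRing.ResidueField R)] [CharP R p]
    {M : Type v} [AddCommGroup M] [Module R M] [Module.Finite R M]
    (T : M →+ M) (hT : ∀ (r : R) (m : M), T (r • m) = r ^ p • T m)
    (hbij : Function.Bijective T)
    (hkill : ∀ r ∈ IsLocalRing.maximalIdeal R, ∀ x : M, r • x = 0) :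
    Function.Surjective (fun m => T m - m) ∧
      Nat.card {m : M // T m = m} =
        p ^ Module.finrank (IsLocalRing.ResidueField R)
          (TensorProduct R (IsLocalRing.ResidueField R) M) := by
  have htors : Module.IsTorsionBySet R M (IsLocalRing.maximalIdeal R : Set R) := by
    intro x a; exact hkill a.1 a.2 x
  letI : Module (IsLocalRing.ResidueField R) M := htors.module
  haveI : IsScalarTower R (IsLocalRing.ResidueField R) M := htors.isScalarTower
  have hmk : ∀ (b : R) (x : M), (IsLocalRing.residue R b) • x = b • x :=
    fun b x => htors.mk_smul b x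
  haveI : CharP (IsLocalRing.ResidueField R) p :=
    (CharP.charP_iff_prime_eq_zero (Fact.out : p.Prime)).mpr (by
      rw [← map_natCast (IsLocalRing.residue R), CharP.cast_eq_zero, map_zero])
  haveI : Module.Finite (IsLocalRing.ResidueField R) M :=
    Module.Finite.of_restrictScalars_finite R (IsLocalRing.ResidueField R) M
  have hφ : ∀ (c : IsLocalRing.ResidueField R) (v : M), T (c • v) = c ^ (p ^ 1) • T v := by
    intro c v
    obtain ⟨b, rfl⟩ := IsLocalRing.residue_surjective c
    rw [hmk, hT, pow_one, ← map_pow, hmk]
  have hss : Submodule.span (IsLocalRing.ResidueField R)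
      (Set.range (QLin.mkSL (k := IsLocalRing.ResidueField R) (r := 1) T hφ)) = ⊤ := by
    have : Set.range (QLin.mkSL (k := IsLocalRing.ResidueField R) (r := 1) T hφ) = Set.univ :=
      Set.range_eq_univ.mpr hbij.2
    rw [this, Submodule.span_univ]
  constructor
  · intro w
    obtain ⟨x, hx⟩ := QLin.sub_surjective (r := 1) one_pos
      (QLin.mkSL (k := IsLocalRing.ResidueField R) (r := 1) T hφ) (-w)
    refine ⟨x, ?_⟩
    have h1 : x - T x = -w := hx
    show T x - x = w
    rw [← neg_sub, h1, neg_neg]
  · have hcard := QLin.card_fixed (QLin.mkSL (k := IsLocalRing.ResidueField R) (r := 1) T hφ) hss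
    let g : M →ₗ[IsLocalRing.ResidueField R] TensorProduct R (IsLocalRing.ResidueField R) M :=
      { toFun := fun x => (1 : IsLocalRing.ResidueField R) ⊗ₜ[R] x
        map_add' := fun x y => TensorProduct.tmul_add _ _ _
        map_smul' := fun c x => by
          obtain ⟨b, rfl⟩ := IsLocalRing.residue_surjective c
          simp only [RingHom.id_apply]
          rw [hmk, TensorProduct.tmul_smul, TensorProduct.smul_tmul', TensorProduct.smul_tmul',
            Algebra.smul_def, IsLocalRing.ResidueField.algebraMap_eq, smul_eq_mul] }
    have hg : ∀ x, g x = (1 : IsLocalRing.ResidueField R) ⊗ₜ[R] x := fun x => rfl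
    let ψ : TensorProduct R (IsLocalRing.ResidueField R) M →ₗ[R] M :=
      TensorProduct.lift (LinearMap.mk₂ R (fun (c : IsLocalRing.ResidueField R) (x : M) => c • x)
        (fun c c' x => add_smul c c' x) (fun r c x => smul_assoc r c x)
        (fun c x y => smul_add c x y) (fun r c x => smul_comm c r x))
    have hψ : ∀ x, ψ (g x) = x := by
      intro x
      rw [hg]
      simp only [ψ, TensorProduct.lift.tmul, LinearMap.mk₂_apply, one_smul]
    have hginj : Function.Injective g := Function.LeftInverse.injective hψ
    have hgsurj : Function.Surjective g := by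
      intro z
      induction z using TensorProduct.induction_on with
      | zero => exact ⟨0, map_zero g⟩
      | tmul c x =>
        refine ⟨c • x, ?_⟩
        rw [map_smul, hg, TensorProduct.smul_tmul', smul_eq_mul, mul_one]
      | add z z' hz hz' =>
        obtain ⟨x, rfl⟩ := hz
        obtain ⟨x', rfl⟩ := hz'
        exact ⟨x + x', map_add g x x'⟩
    have hfr := LinearEquiv.finrank_eq (LinearEquiv.ofBijective g ⟨hginj, hgsurj⟩)
    rw [← hfr]
    exact hcard

end Groth.Agent.Helper22.FrobDVR
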