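import Mathlib
import Groth.Agent.Lib.Helper22.QLin4
import Groth.Agent.Lib.Helper26.MvHens3

/-!
# Frobenius-semilinear maps on free modules over strictly henselian local rings (helper22)
`T : M → M` additive with `T (r m) = r ^ p T m`, `M` free of rank `n` over a strictly henselian
local ring of characteristic `p`: `T - 1` is surjective, and if the values of `T` span `M`
then `T` has exactly `p ^ n` fixed points.
-/

namespace Groth.Agent.Helper22.FrobHens

open MvPolynomial

universe u v

section poly

variable (p : ℕ) [Fact p.Prime] {R : Type u} [CommRing R] [CharP R p] {n : ℕ}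

/-- The polynomial system `a x^(p) - x - w`. -/
noncomputable def P (a : Fin n → Fin n → R) (w : Fin n → R) (j : Fin n) :
    MvPolynomial (Fin n) R :=
  (∑ i, C (a j i) * X i ^ p) - X j - C (w j)

omit [Fact p.Prime] [CharP R p] in
theorem eval_P (a : Fin n → Fin n → R) (w x : Fin n → R) (j : Fin n) :
    eval x (P p a w j) = (∑ i, a j i * x i ^ p) - x j - w j := by
  unfold P
  simp only [map_sub, map_sum, map_mul, map_pow, eval_C, eval_X]

theorem pderiv_P (a : Fin n → Fin n → R) (w : Fin n → R) (j k : Fin n) :
    pderiv k (P p a w j) = if j = k then -1 else 0 := by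
  classical
  unfold P
  have h0 : ∀ i, pderiv k (C (a j i) * X i ^ p : MvPolynomial (Fin n) R) = 0 := by
    intro i
    rw [Derivation.leibniz, pderiv_C, smul_zero, add_zero, pderiv_pow,
      CharP.cast_eq_zero (MvPolynomial (Fin n) R) p, zero_mul, zero_mul, smul_zero]
  rw [map_sub, map_sub, map_sum, pderiv_C, sub_zero, Finset.sum_eq_zero (fun i _ => h0 i),
    zero_sub, pderiv_X]
  by_cases hjk : j = k
  · subst hjk
    rw [if_pos rfl, Pi.single_eq_same]
  · rw [if_neg hjk, Pi.single_eq_of_ne hjk, neg_zero]

theorem jacobian_isUnit (a : Fin n → Fin n → R) (w x : Fin n → R) :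
    IsUnit (Matrix.of (fun j k => eval x (pderiv k (P p a w j)))).det := by
  classical
  have h : Matrix.of (fun j k => eval x (pderiv k (P p a w j))) =
      -(1 : Matrix (Fin n) (Fin n) R) := by
    ext j k
    rw [Matrix.of_apply, pderiv_P, Matrix.neg_apply, Matrix.one_apply]
    by_cases hjk : j = k
    · rw [if_pos hjk, if_pos hjk, map_neg, map_one]
    · rw [if_neg hjk, if_neg hjk, map_zero, neg_zero]
  rw [h, Matrix.det_neg, Matrix.det_one, mul_one]
  exact (isUnit_one.neg).pow _

end poly

section main

variable (p : ℕ) [Fact p.Prime] {R : Type u} [CommRing R] [HenselianLocalRing R] [CharP R p]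
  {M : Type v} [AddCommGroup M] [Module R M] {n : ℕ} (e : Module.Basis (Fin n) R M)
  (T : M →+ M)

theorem charP_residueField : CharP (IsLocalRing.ResidueField R) p :=
  (CharP.charP_iff_prime_eq_zero (Fact.out : p.Prime)).mpr (by
    rw [← map_natCast (IsLocalRing.residue R), CharP.cast_eq_zero, map_zero])

/-- The matrix of `T`. -/
noncomputable def mat (j i : Fin n) : R := e.repr (T (e i)) j

variable {p} in
omit [HenselianLocalRing R] [Fact p.Prime] [CharP R p] in
theorem repr_T (hT : ∀ (r : R) (m : M), T (r • m) = r ^ p • T m) (m : M) (j : Fin n) :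
    e.repr (T m) j = ∑ i, mat e T j i * (e.repr m i) ^ p := by
  have h1 : T m = ∑ i, (e.repr m i) ^ p • T (e i) := by
    conv_lhs => rw [← e.sum_repr m]
    rw [map_sum]
    exact Finset.sum_congr rfl (fun i _ => hT _ _)
  rw [h1, map_sum, Finsupp.coe_finsetSum, Finset.sum_apply]
  apply Finset.sum_congr rfl
  intro i _
  rw [map_smul, Finsupp.smul_apply, smul_eq_mul, mul_comm]
  rfl

/-- Reduction of coordinates modulo the maximal ideal. -/
noncomputable def red : M →ₛₗ[IsLocalRing.residue R] (Fin n → IsLocalRing.ResidueField R) where
  toFun m j := IsLocalRing.residue R (e.repr m j)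
  map_add' x y := by
    funext j
    simp only [map_add, Finsupp.add_apply, Pi.add_apply]
  map_smul' r x := by
    funext j
    simp only [map_smul, Finsupp.smul_apply, smul_eq_mul, map_mul, Pi.smul_apply]

theorem red_apply (m : M) (j : Fin n) :
    red e m j = IsLocalRing.residue R (e.repr m j) := rfl

/-- The reduced additive map. -/
noncomputable def phibar :
    (Fin n → IsLocalRing.ResidueField R) →+ (Fin n → IsLocalRing.ResidueField R) :=
  haveI := charP_residueField p (R := R)
  { toFun := fun x j => ∑ i, IsLocalRing.residue R (mat e T j i) * x i ^ p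
    map_zero' := by
      funext j
      simp only [Pi.zero_apply, zero_pow (Fact.out : p.Prime).ne_zero, mul_zero,
        Finset.sum_const_zero]
    map_add' := fun x y => by
      funext j
      simp only [Pi.add_apply, add_pow_char, mul_add, Finset.sum_add_distrib] }

theorem phibar_apply (x : Fin n → IsLocalRing.ResidueField R) (j : Fin n) :
    phibar p e T x j = ∑ i, IsLocalRing.residue R (mat e T j i) * x i ^ p := rfl

theorem phibar_smul (c : IsLocalRing.ResidueField R) (x : Fin n → IsLocalRing.ResidueField R) :
    phibar p e T (c • x) = c ^ (p ^ 1) • phibar p e T x := by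
  funext j
  simp only [phibar_apply, Pi.smul_apply, smul_eq_mul, mul_pow, pow_one, Finset.mul_sum]
  apply Finset.sum_congr rfl
  intro i _
  ring

/-- The reduced semilinear map. -/
noncomputable def fbar :
    haveI := charP_residueField p (R := R)
    (Fin n → IsLocalRing.ResidueField R) →ₛₗ[iterateFrobenius (IsLocalRing.ResidueField R) p 1]
      (Fin n → IsLocalRing.ResidueField R) :=
  haveI := charP_residueField p (R := R)
  QLin.mkSL (phibar p e T) (phibar_smul p e T)

theorem fbar_apply (x : Fin n → IsLocalRing.ResidueField R) (j : Fin n) :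
    fbar p e T x j = ∑ i, IsLocalRing.residue R (mat e T j i) * x i ^ p := rfl

variable {p} in
theorem red_T (hT : ∀ (r : R) (m : M), T (r • m) = r ^ p • T m) (m : M) :
    red e (T m) = fbar p e T (red e m) := by
  funext j
  rw [red_apply, repr_T e T hT, fbar_apply, map_sum]
  apply Finset.sum_congr rfl
  intro i _
  rw [map_mul, map_pow, red_apply]

include e in
variable {p} in
theorem sub_surjective [IsSepClosed (IsLocalRing.ResidueField R)]
    (hT : ∀ (r : R) (m : M), T (r • m) = r ^ p • T m) :
    Function.Surjective (fun m => T m - m) := by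
  haveI := charP_residueField p (R := R)
  intro y
  obtain ⟨xb, hxb⟩ := QLin.sub_surjective (r := 1) one_pos (fbar p e T)
    (fun j => - IsLocalRing.residue R (e.repr y j))
  choose a₀ ha₀ using fun j => IsLocalRing.residue_surjective (xb j)
  have h₀ : ∀ j, eval a₀ (P p (mat e T) (fun j => e.repr y j) j) ∈ IsLocalRing.maximalIdeal R := by
    intro j
    rw [← IsLocalRing.residue_eq_zero_iff, eval_P, map_sub, map_sub, map_sum]
    simp only [map_mul, map_pow, ha₀]
    have h1 := congrFun hxb j
    simp only [Pi.sub_apply, fbar_apply] at h1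
    linear_combination -h1
  obtain ⟨a, ha, -⟩ := Groth.Agent.Helper26.MvHens.main R n
    (P p (mat e T) (fun j => e.repr y j)) a₀ h₀ (jacobian_isUnit p _ _ a₀)
  refine ⟨∑ i, a i • e i, ?_⟩
  apply e.repr.injective
  ext j
  have h2 := ha j
  rw [eval_P] at h2
  show e.repr (T (∑ i, a i • e i) - ∑ i, a i • e i) j = e.repr y j
  rw [map_sub, Finsupp.sub_apply, repr_T e T hT, e.repr_sum_self]
  linear_combination h2

include e in
variable {p} in
theorem card_fixed [IsSepClosed (IsLocalRing.ResidueField R)]
    (hT : ∀ (r : R) (m : M), T (r • m) = r ^ p • T m)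
    (hspan : Submodule.span R (Set.range T) = ⊤) :
    Nat.card {m : M // T m = m} = p ^ n := by
  haveI := charP_residueField p (R := R)
  have hp : p.Prime := Fact.out
  have hss : Submodule.span (IsLocalRing.ResidueField R) (Set.range (fbar p e T)) = ⊤ := by
    have hS : (Submodule.span (IsLocalRing.ResidueField R)
        (Set.range (fbar p e T))).comap (red e) = ⊤ := by
      rw [eq_top_iff, ← hspan, Submodule.span_le]
      rintro _ ⟨m, rfl⟩
      rw [SetLike.mem_coe, Submodule.mem_comap, red_T e T hT]
      exact Submodule.subset_span ⟨_, rfl⟩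
    rw [eq_top_iff]
    intro v _
    choose a ha using fun j => IsLocalRing.residue_surjective (v j)
    have hv : red e (∑ i, a i • e i) = v := by
      funext j
      rw [red_apply, e.repr_sum_self, ha]
    rw [← hv]
    have hm : (∑ i, a i • e i) ∈ (Submodule.span (IsLocalRing.ResidueField R)
        (Set.range (fbar p e T))).comap (red e) := by rw [hS]; trivial
    exact hm
  let ρ : {m : M // T m = m} → {v : Fin n → IsLocalRing.ResidueField R // fbar p e T v = v} :=
    fun m => ⟨red e m.1, by rw [← red_T e T hT, m.2]⟩
  have hρ : Function.Bijective ρ := by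
    constructor
    · intro m m' h
      have hred : red e m.1 = red e m'.1 := congrArg Subtype.val h
      have hd : T (m.1 - m'.1) = m.1 - m'.1 := by rw [map_sub, m.2, m'.2]
      have hδ : ∀ j, e.repr (m.1 - m'.1) j ∈ IsLocalRing.maximalIdeal R := by
        intro j
        rw [← IsLocalRing.residue_eq_zero_iff, map_sub, Finsupp.sub_apply, map_sub, sub_eq_zero]
        exact congrFun hred j
      set δ : Fin n → R := fun j => e.repr (m.1 - m'.1) j with hδdef
      have hN : (Ideal.span (Set.range δ) : Submodule R R) = ⊥ := by
        apply Submodule.eq_bot_of_le_smul_of_le_jacobson_bot (IsLocalRing.maximalIdeal R)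
        · exact Submodule.fg_span (Set.finite_range δ)
        · apply Ideal.span_le.mpr
          rintro _ ⟨j, rfl⟩
          have h1 : δ j = ∑ i, (mat e T j i * δ i ^ (p - 1)) • δ i := by
            have h2 := repr_T e T hT (m.1 - m'.1) j
            rw [hd] at h2
            rw [hδdef]
            dsimp only
            rw [h2]
            apply Finset.sum_congr rfl
            intro i _
            rw [smul_eq_mul, mul_assoc, ← pow_succ, Nat.sub_add_cancel hp.one_le]
          rw [SetLike.mem_coe, h1]
          apply Submodule.sum_mem
          intro i _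
          apply Submodule.smul_mem_smul
          · apply Ideal.mul_mem_left
            exact Ideal.pow_mem_of_mem _ (hδ i) _ (Nat.sub_pos_of_lt hp.one_lt)
          · exact Ideal.subset_span ⟨i, rfl⟩
        · exact IsLocalRing.maximalIdeal_le_jacobson ⊥
      have hz : m.1 - m'.1 = 0 := by
        apply e.repr.injective
        ext j
        rw [map_zero, Finsupp.zero_apply]
        have : δ j ∈ (Ideal.span (Set.range δ) : Submodule R R) := Ideal.subset_span ⟨j, rfl⟩
        rw [hN] at this
        exact (Submodule.mem_bot R).mp this
      exact Subtype.ext (sub_eq_zero.mp hz)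
    · intro v
      choose a₀ ha₀ using fun j => IsLocalRing.residue_surjective (v.1 j)
      have h₀ : ∀ j, eval a₀ (P p (mat e T) (fun _ => 0) j) ∈ IsLocalRing.maximalIdeal R := by
        intro j
        rw [← IsLocalRing.residue_eq_zero_iff, eval_P, map_sub, map_sub, map_sum]
        simp only [map_mul, map_pow, ha₀, map_zero, sub_zero]
        have h1 := congrFun v.2 j
        rw [fbar_apply] at h1
        rw [h1, sub_self]
      obtain ⟨a, ha, haa⟩ := Groth.Agent.Helper26.MvHens.main R n
        (P p (mat e T) (fun _ => 0)) a₀ h₀ (jacobian_isUnit p _ _ a₀)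
      have hfix : T (∑ i, a i • e i) = ∑ i, a i • e i := by
        apply e.repr.injective
        ext j
        have h2 := ha j
        rw [eval_P] at h2
        rw [repr_T e T hT, e.repr_sum_self]
        linear_combination h2
      refine ⟨⟨∑ i, a i • e i, hfix⟩, ?_⟩
      apply Subtype.ext
      funext j
      show red e (∑ i, a i • e i) j = v.1 j
      rw [red_apply, e.repr_sum_self, ← ha₀ j]
      have := haa j
      rw [← IsLocalRing.residue_eq_zero_iff, map_sub, sub_eq_zero] at this
      exact this
  rw [Nat.card_eq_of_bijective ρ hρ, QLin.card_fixed (fbar p e T) hss, Module.finrank_fin_fun]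

end main

end Groth.Agent.Helper22.FrobHens
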