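import Groth.Agent.Lib.Helper22.GamD4

set_option maxHeartbeats 1600000

universe u
open scoped TensorProduct
open MvPolynomial

namespace Groth.Agent.Helper22.GamD

variable {A B G : Type u} [CommRing A] [CommRing B] [Algebra A B] [CommRing G] [Algebra A G]

theorem tensor_ext_coeff {σ : Type*} {N : Type*} [AddCommGroup N] [Module A N]
    (w₁ w₂ : MvPolynomial σ A ⊗[A] N)
    (h : ∀ k : σ →₀ ℕ, (MvPolynomial.lcoeff A k).rTensor N w₁ =
      (MvPolynomial.lcoeff A k).rTensor N w₂) :
    w₁ = w₂ := by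
  classical
  have key : ∀ (w : MvPolynomial σ A ⊗[A] N) (k : σ →₀ ℕ),
      (TensorProduct.equivFinsuppOfBasisLeft (MvPolynomial.basisMonomials σ A) w) k =
        TensorProduct.lid A N ((MvPolynomial.lcoeff A k).rTensor N w) := by
    intro w k
    induction w using TensorProduct.induction_on with
    | zero => simp only [map_zero, Finsupp.zero_apply]
    | tmul p n =>
      rw [TensorProduct.equivFinsuppOfBasisLeft_apply_tmul_apply, LinearMap.rTensor_tmul,
        TensorProduct.lid_tmul]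
      rfl
    | add x y hx hy => simp only [map_add, Finsupp.add_apply, hx, hy]
  apply (TensorProduct.equivFinsuppOfBasisLeft (MvPolynomial.basisMonomials σ A)).injective
  ext k
  rw [key, key, h k]

section Epi
variable {d : ℕ} (γ : PolLaw.MulLaw A B G d)

/-- the set of coefficient elements -/
def coeffSet : Set G :=
  {c | ∃ (n : ℕ) (k : Fin n →₀ ℕ) (p : MvPolynomial (Fin n) A ⊗[A] B), c = cf γ n k p}

/-- the ideal generated by `c ⊗ 1 - 1 ⊗ c` -/
noncomputable def diagIdeal : Ideal (G ⊗[A] G) :=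
  Ideal.span {z | ∃ c ∈ coeffSet γ, z = c ⊗ₜ[A] (1 : G) - (1 : G) ⊗ₜ[A] c}

noncomputable def i1 : G →ₐ[A] (G ⊗[A] G) ⧸ diagIdeal γ :=
  (Ideal.Quotient.mkₐ A (diagIdeal γ)).comp Algebra.TensorProduct.includeLeft

noncomputable def i2 : G →ₐ[A] (G ⊗[A] G) ⧸ diagIdeal γ :=
  (Ideal.Quotient.mkₐ A (diagIdeal γ)).comp Algebra.TensorProduct.includeRight

theorem i1_apply (y : G) : i1 γ y = Ideal.Quotient.mk (diagIdeal γ) (y ⊗ₜ[A] (1 : G)) := rfl

theorem i2_apply (y : G) : i2 γ y = Ideal.Quotient.mk (diagIdeal γ) ((1 : G) ⊗ₜ[A] y) := rfl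

theorem i1_eq_i2_of_mem (c : G) (hc : c ∈ coeffSet γ) : i1 γ c = i2 γ c := by
  rw [i1_apply, i2_apply, Ideal.Quotient.eq]
  exact Ideal.subset_span ⟨c, hc, rfl⟩

theorem postcomp_eq :
    PolLaw.postcomp (i1 γ).toLinearMap γ.law = PolLaw.postcomp (i2 γ).toLinearMap γ.law := by
  ext S _ _ x
  show (i1 γ).toLinearMap.lTensor S (γ.law.toFun' S x) =
    (i2 γ).toLinearMap.lTensor S (γ.law.toFun' S x)
  obtain ⟨n, ψ, p, hp⟩ := PolynomialLaw.exists_lift (R := A) (M := B) x
  rw [← hp, ← PolynomialLaw.isCompat_apply', ← LinearMap.comp_apply, ← LinearMap.comp_apply,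
    LinearMap.lTensor_comp_rTensor, LinearMap.lTensor_comp_rTensor,
    ← LinearMap.rTensor_comp_lTensor, ← LinearMap.rTensor_comp_lTensor, LinearMap.comp_apply,
    LinearMap.comp_apply]
  congr 1
  apply tensor_ext_coeff
  intro k
  apply (TensorProduct.lid A _).injective
  rw [lid_rTensor_lTensor, lid_rTensor_lTensor]
  exact i1_eq_i2_of_mem γ _ ⟨n, k, p, rfl⟩

theorem i1_eq_i2 (hγ : PolLaw.IsGammaD γ) : i1 γ = i2 γ := by
  obtain ⟨f, _, huniq⟩ := hγ _ (γ.postcomp (i1 γ))
  have h1 : i1 γ = f := huniq (i1 γ) rfl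
  have h2 : i2 γ = f := huniq (i2 γ) (postcomp_eq γ).symm
  rw [h1, h2]

theorem eq_zero_of_linear (hγ : PolLaw.IsGammaD γ) (E : G →ₗ[A] G) (hE1 : E 1 = 0)
    (hlin : ∀ c ∈ coeffSet γ, ∀ y, E (y * c) = c * E y) (y : G) : E y = 0 := by
  have hμ : ∀ x y : G, TensorProduct.lift ((LinearMap.mul A G).compl₂ E) (x ⊗ₜ[A] y) = x * E y := by
    intro x y
    rw [TensorProduct.lift.tmul, LinearMap.compl₂_apply, LinearMap.mul_apply']
  have key : ∀ v ∈ diagIdeal γ, ∀ w : G ⊗[A] G,
      TensorProduct.lift ((LinearMap.mul A G).compl₂ E) (w * v) = 0 := by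
    intro v hv
    unfold diagIdeal at hv
    induction hv using Submodule.span_induction with
    | mem v hv =>
      obtain ⟨c, hc, rfl⟩ := hv
      intro w
      induction w using TensorProduct.induction_on with
      | zero => rw [zero_mul, map_zero]
      | tmul x y' =>
        rw [mul_sub, Algebra.TensorProduct.tmul_mul_tmul, Algebra.TensorProduct.tmul_mul_tmul,
          map_sub, hμ, hμ, mul_one, mul_one, hlin c hc y', mul_assoc, sub_self]
      | add a b ha hb => rw [add_mul, map_add, ha, hb, add_zero]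
    | zero => intro w; rw [mul_zero, map_zero]
    | add x y _ _ hx hy => intro w; rw [mul_add, map_add, hx w, hy w, add_zero]
    | smul a x _ hx => intro w; rw [smul_eq_mul, ← mul_assoc]; exact hx (w * a)
  have hmem : y ⊗ₜ[A] (1 : G) - (1 : G) ⊗ₜ[A] y ∈ diagIdeal γ := by
    rw [← Ideal.Quotient.eq, ← i1_apply, ← i2_apply, i1_eq_i2 γ hγ]
  have h := key _ hmem 1
  rw [one_mul, map_sub, hμ, hμ, hE1, mul_zero, one_mul, zero_sub, neg_eq_zero] at h
  exact h

end Epi

section Main
variable {d : ℕ} (γ : PolLaw.MulLaw A B G d)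

theorem main (hγ : PolLaw.IsGammaD γ) (φ : G →ₐ[A] SymTen.TS A B d)
    (hφ : ∀ (S : Type u) [CommSemiring S] [Algebra A S] (n : ℕ) (s : Fin n → S) (b : Fin n → B),
      ((SymTen.TS A B d).val.comp φ).toLinearMap.lTensor S
          (γ.law.toFun' S (∑ j, s j ⊗ₜ[A] b j)) =
        ∑ c : Fin d → Fin n, (∏ i, s (c i)) ⊗ₜ[A] PiTensorProduct.tprod A (fun i => b (c i))) :
    (∀ x : G, φ x = 0 → d.factorial • x = 0) ∧
      (∀ y : SymTen.TS A B d, d.factorial • y ∈ φ.range) := by
  obtain ⟨φT, hφT⟩ : ∃ φT : G →ₗ[A] (⨂[A] _ : Fin d, B),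
      φT = ((SymTen.TS A B d).val.comp φ).toLinearMap := ⟨_, rfl⟩
  rw [← hφT] at hφ
  have hval : ∀ x : G, φT x = (φ x : ⨂[A] _ : Fin d, B) := by
    intro x; rw [hφT]; rfl
  have hmul : ∀ x y : G, φT (x * y) = φT x * φT y := by
    intro x y
    rw [hval, hval, hval, map_mul]
    rfl
  have hone : φT 1 = 1 := by
    rw [hval, map_one]
    rfl
  constructor
  · -- kernel is killed by d!
    have hE : ∀ y : G, ((psi γ ∘ₗ φT - d.factorial • LinearMap.id : G →ₗ[A] G)) y = 0 := by
      apply eq_zero_of_linear γ hγ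
      · rw [LinearMap.sub_apply, LinearMap.comp_apply, hone, LinearMap.smul_apply,
          LinearMap.id_apply, PiTensorProduct.one_def]
        have := PA_one γ
        rw [← psi_tprod] at this
        rw [sub_eq_zero]
        exact this
      · rintro c ⟨n, k, p, rfl⟩ y
        rw [LinearMap.sub_apply, LinearMap.comp_apply, LinearMap.smul_apply, LinearMap.id_apply,
          LinearMap.sub_apply, LinearMap.comp_apply, LinearMap.smul_apply, LinearMap.id_apply,
          hmul, mul_comm (φT y), star1 γ φT hφ, mul_sub, mul_smul_comm, mul_comm y]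
    intro x hx
    have h := hE x
    rw [LinearMap.sub_apply, LinearMap.comp_apply, LinearMap.smul_apply, LinearMap.id_apply,
      hval, hx] at h
    have h0 : ((0 : SymTen.TS A B d) : ⨂[A] _ : Fin d, B) = 0 := rfl
    rw [h0, map_zero, zero_sub, neg_eq_zero] at h
    exact h
  · -- d! y is in the range
    intro y
    have hsym : ∀ t : ⨂[A] _ : Fin d, B, φT (psi γ t) =
        ∑ σ : Equiv.Perm (Fin d), PiTensorProduct.reindex A (fun _ : Fin d => B) σ t := by
      intro t
      induction t using PiTensorProduct.induction_on with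
      | smul_tprod a b =>
        rw [map_smul, map_smul, psi_tprod, phiT_PA γ φT hφ, Finset.smul_sum]
        have h1 : ∀ σ : Equiv.Perm (Fin d),
            PiTensorProduct.reindex A (fun _ : Fin d => B) σ (a • PiTensorProduct.tprod A b) =
              a • PiTensorProduct.tprod A (fun i => b (σ.symm i)) := by
          intro σ
          rw [map_smul, PiTensorProduct.reindex_tprod]
        rw [Finset.sum_congr rfl (fun σ _ => h1 σ)]
        exact (Equiv.sum_comp (Equiv.inv (Equiv.Perm (Fin d)))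
          (fun σ : Equiv.Perm (Fin d) => a • PiTensorProduct.tprod A (fun i => b (σ i)))).symm
      | add x y hx hy =>
        rw [map_add, map_add, hx, hy, ← Finset.sum_add_distrib]
        apply Finset.sum_congr rfl
        intro σ _
        rw [map_add]
    refine ⟨psi γ (y : ⨂[A] _ : Fin d, B), ?_⟩
    apply Subtype.ext
    show ((φ (psi γ (y : ⨂[A] _ : Fin d, B))) : ⨂[A] _ : Fin d, B) =
      ((d.factorial • y : SymTen.TS A B d) : ⨂[A] _ : Fin d, B)
    rw [← hval, hsym, AddSubmonoidClass.coe_nsmul]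
    rw [Finset.sum_congr rfl (fun σ _ => (SymTen.mem_TS_iff A B d y.1).mp y.2 σ),
      Finset.sum_const, Finset.card_univ, Fintype.card_perm, Fintype.card_fin]

end Main

end Groth.Agent.Helper22.GamD
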