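import Mathlib
import Groth.Prelude.Def_PolLaw
import Groth.Prelude.Def_PolLaw2
import Groth.Prelude.Def_SymTen
import Groth.Agent.Lib.Helper22.GF01
import Groth.Agent.Lib.Helper22.GamD5

set_option maxHeartbeats 800000

universe u
open scoped TensorProduct
open Classical

namespace Groth.Agent.Helper22.GF

section Basis
variable {A : Type u} [CommRing A] {P : Type u} [CommRing P] [Algebra A P] {M : Type u}
  (b : Module.Basis M A P) (d : ℕ)

/-- the product basis of the tensor power -/
noncomputable def eB : Module.Basis (Fin d → M) A (⨂[A] _ : Fin d, P) :=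
  Basis.piTensorProduct (fun _ : Fin d => b)

theorem eB_apply (f : Fin d → M) :
    eB b d f = PiTensorProduct.tprod A (fun j => b (f j)) :=
  Basis.piTensorProduct_apply _ f

theorem perm_eB (σ : Equiv.Perm (Fin d)) (f : Fin d → M) :
    SymTen.perm A P d σ (eB b d f) = eB b d (f ∘ σ.symm) := by
  rw [eB_apply, SymTen.perm_tprod, eB_apply]
  rfl

theorem coord_perm (σ : Equiv.Perm (Fin d)) (g : Fin d → M) :
    (eB b d).coord (g ∘ σ) = (eB b d).coord g ∘ₗ (SymTen.perm A P d σ).toLinearMap := by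
  apply (eB b d).ext
  intro f
  have hiff : f = g ∘ σ ↔ f ∘ σ.symm = g := by
    constructor
    · intro h
      subst h
      funext j
      show g (σ (σ.symm j)) = g j
      rw [Equiv.apply_symm_apply]
    · intro h
      subst h
      funext j
      show f j = f (σ.symm (σ j))
      rw [Equiv.symm_apply_apply]
  rw [LinearMap.comp_apply, AlgHom.toLinearMap_apply, perm_eB, Module.Basis.coord_apply,
    Module.Basis.coord_apply, Module.Basis.repr_self, Module.Basis.repr_self,
    Finsupp.single_apply, Finsupp.single_apply]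
  by_cases h : f = g ∘ σ
  · rw [if_pos h, if_pos (hiff.mp h)]
  · rw [if_neg h, if_neg (fun h' => h (hiff.mpr h'))]

end Basis

section Gen
variable {A : Type u} [CommRing A]

theorem exists_fin_rep' {R : Type*} [CommSemiring R] [Algebra A R] {N : Type*} [AddCommMonoid N]
    [Module A N] (p : R ⊗[A] N) :
    ∃ (n : ℕ) (s : Fin n → R) (e : Fin n → N), p = ∑ j, s j ⊗ₜ[A] e j := by
  obtain ⟨S, hS⟩ := TensorProduct.exists_finset p
  refine ⟨S.card, fun j => (S.equivFin.symm j).1.1, fun j => (S.equivFin.symm j).1.2, ?_⟩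
  rw [hS, ← Finset.sum_coe_sort S]
  exact (Equiv.sum_comp S.equivFin.symm (fun i : S => (i.1.1 ⊗ₜ[A] i.1.2 : R ⊗[A] N))).symm

theorem tmul_prod' {S R ι : Type*} [CommSemiring S] [Algebra A S] [CommSemiring R] [Algebra A R]
    (t : Finset ι) (a : ι → S) (r : ι → R) :
    ∏ i ∈ t, (a i ⊗ₜ[A] r i : S ⊗[A] R) = (∏ i ∈ t, a i) ⊗ₜ[A] (∏ i ∈ t, r i) := by
  induction t using Finset.induction_on with
  | empty =>
    rw [Finset.prod_empty, Finset.prod_empty, Finset.prod_empty, Algebra.TensorProduct.one_def]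
  | insert i t hi ih =>
    rw [Finset.prod_insert hi, Finset.prod_insert hi, Finset.prod_insert hi, ih,
      Algebra.TensorProduct.tmul_mul_tmul]

/-- extraction of a coefficient along a functional `ℓ : S → A` -/
noncomputable def cl {S : Type*} [CommSemiring S] [Algebra A S] (ℓ : S →ₗ[A] A)
    (N : Type*) [AddCommGroup N] [Module A N] : S ⊗[A] N →ₗ[A] N :=
  (TensorProduct.lid A N).toLinearMap ∘ₗ ℓ.rTensor N

section cl
variable {S : Type*} [CommSemiring S] [Algebra A S] (ℓ : S →ₗ[A] A)
  {N : Type*} [AddCommGroup N] [Module A N]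

theorem cl_def (w : S ⊗[A] N) : cl ℓ N w = TensorProduct.lid A N (ℓ.rTensor N w) := rfl

theorem cl_tmul (q : S) (n : N) : cl ℓ N (q ⊗ₜ[A] n) = ℓ q • n := by
  rw [cl_def, LinearMap.rTensor_tmul, TensorProduct.lid_tmul]

theorem cl_lTensor {N' : Type*} [AddCommGroup N'] [Module A N'] (L : N →ₗ[A] N')
    (w : S ⊗[A] N) : cl ℓ N' (L.lTensor S w) = L (cl ℓ N w) := by
  induction w using TensorProduct.induction_on with
  | zero => simp only [map_zero]
  | tmul q n => rw [LinearMap.lTensor_tmul, cl_tmul, cl_tmul, map_smul]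
  | add x y hx hy => simp only [map_add, hx, hy]

theorem cl_rTensor {S' : Type*} [CommSemiring S'] [Algebra A S'] (ℓ' : S' →ₗ[A] A)
    (h : S →ₗ[A] S') (w : S ⊗[A] N) :
    cl ℓ' N (h.rTensor N w) = cl (ℓ' ∘ₗ h) N w := by
  rw [cl_def, cl_def, LinearMap.rTensor_comp_apply]

theorem cl_zero (w : S ⊗[A] N) : cl (0 : S →ₗ[A] A) N w = 0 := by
  rw [cl_def, LinearMap.rTensor_zero, LinearMap.zero_apply, map_zero]

theorem cl_smul (s : S) (w : S ⊗[A] N) :
    cl ℓ N (s • w) = cl (ℓ ∘ₗ LinearMap.mulLeft A s) N w := by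
  induction w using TensorProduct.induction_on with
  | zero => simp only [smul_zero, map_zero]
  | tmul q n =>
    rw [TensorProduct.smul_tmul', cl_tmul, cl_tmul, LinearMap.comp_apply,
      LinearMap.mulLeft_apply, smul_eq_mul]
  | add x y hx hy => simp only [smul_add, map_add, hx, hy]

end cl

/-- coefficient of `X^K` -/
noncomputable def cE {M : Type*} (K : M →₀ ℕ) (N : Type*) [AddCommGroup N] [Module A N] :
    MvPolynomial M A ⊗[A] N →ₗ[A] N :=
  cl (MvPolynomial.lcoeff A K) N

theorem cE_def {M : Type*} (K : M →₀ ℕ) (N : Type*) [AddCommGroup N] [Module A N] :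
    cE (A := A) K N = cl (MvPolynomial.lcoeff A K) N := rfl

theorem cE_tmul {M : Type*} (K : M →₀ ℕ) {N : Type*} [AddCommGroup N] [Module A N]
    (q : MvPolynomial M A) (n : N) : cE K N (q ⊗ₜ[A] n) = MvPolynomial.coeff K q • n := by
  rw [cE_def, cl_tmul]
  rfl

theorem cE_lTensor {M : Type*} (K : M →₀ ℕ) {N N' : Type*} [AddCommGroup N] [Module A N]
    [AddCommGroup N'] [Module A N'] (L : N →ₗ[A] N') (w : MvPolynomial M A ⊗[A] N) :
    cE K N' (L.lTensor _ w) = L (cE K N w) := by
  rw [cE_def, cE_def, cl_lTensor]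

theorem ext_cE {M : Type*} {N : Type*} [AddCommGroup N] [Module A N]
    (w₁ w₂ : MvPolynomial M A ⊗[A] N) (h : ∀ K : M →₀ ℕ, cE K N w₁ = cE K N w₂) : w₁ = w₂ := by
  apply GamD.tensor_ext_coeff
  intro K
  exact (TensorProduct.lid A N).injective (h K)

end Gen

section Gen2
variable {A : Type u} [CommRing A] {P : Type u} [CommRing P] [Algebra A P] {M : Type u}
  (b : Module.Basis M A P) (d : ℕ)

/-- generic element of `A[M] ⊗ P` supported on `s` -/
noncomputable def xg (s : Finset M) : MvPolynomial M A ⊗[A] P :=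
  ∑ m ∈ s, (MvPolynomial.X m : MvPolynomial M A) ⊗ₜ[A] b m

theorem law_ext_free {N : Type u} [AddCommGroup N] [Module A N] (G G' : P →ₚₗ[A] N)
    (h : ∀ s : Finset M, G.toFun' (MvPolynomial M A) (xg b s) =
      G'.toFun' (MvPolynomial M A) (xg b s)) : G = G' := by
  ext S _ _ p
  obtain ⟨c, hc⟩ : ∃ c : M →₀ S, p = ∑ m ∈ c.support, c m ⊗ₜ[A] b m := by
    refine ⟨TensorProduct.equivFinsuppOfBasisRight b p, ?_⟩
    have h1 := (TensorProduct.equivFinsuppOfBasisRight (M := S) b).symm_apply_apply p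
    rw [TensorProduct.equivFinsuppOfBasisRight_symm_apply] at h1
    exact h1.symm
  have hψ : (MvPolynomial.aeval (fun m => c m) : MvPolynomial M A →ₐ[A] S).toLinearMap.rTensor P
      (xg b c.support) = p := by
    unfold xg
    rw [map_sum, hc]
    apply Finset.sum_congr rfl
    intro m _
    rw [LinearMap.rTensor_tmul, AlgHom.toLinearMap_apply, MvPolynomial.aeval_X]
  rw [← hψ, ← PolynomialLaw.isCompat_apply', ← PolynomialLaw.isCompat_apply', h]

theorem prod_single_eq_tprod (c : Fin d → P) :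
    ∏ j, (PiTensorProduct.singleAlgHom (R := A) (A := fun _ : Fin d => P) j (c j)) =
      PiTensorProduct.tprod A c := by
  simp only [PiTensorProduct.singleAlgHom_apply, MonoidHom.mulSingle_apply]
  rw [← PiTensorProduct.tprod_prod]
  exact congrArg _ (Finset.univ_prod_mulSingle c)

theorem tpow_toFun' (S : Type u) [CommSemiring S] [Algebra A S] (x : S ⊗[A] P) :
    (SymTen.tpowLaw A P d).law.toFun' S x =
      ∏ j : Fin d, Algebra.TensorProduct.map (AlgHom.id S S)
        (PiTensorProduct.singleAlgHom (R := A) (A := fun _ : Fin d => P) j) x := rfl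

theorem symm_toFun' (S : Type u) [CommSemiring S] [Algebra A S]
    (x : S ⊗[A] (⨂[A] _ : Fin d, P)) :
    (SymTen.symmLaw A P d).law.toFun' S x =
      ∏ σ : Equiv.Perm (Fin d), Algebra.TensorProduct.map (AlgHom.id S S)
        (SymTen.perm A P d σ) x := rfl

theorem tpow_expand (S : Type u) [CommSemiring S] [Algebra A S] {ι : Type*} (s : Finset ι)
    (a : ι → S) (p : ι → P) :
    (SymTen.tpowLaw A P d).law.toFun' S (∑ m ∈ s, a m ⊗ₜ[A] p m) =
      ∑ g ∈ Fintype.piFinset (fun _ : Fin d => s),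
        (∏ j, a (g j)) ⊗ₜ[A] PiTensorProduct.tprod A (fun j => p (g j)) := by
  rw [tpow_toFun']
  have h1 : ∀ j : Fin d, Algebra.TensorProduct.map (AlgHom.id S S)
      (PiTensorProduct.singleAlgHom (R := A) (A := fun _ : Fin d => P) j)
        (∑ m ∈ s, a m ⊗ₜ[A] p m) =
      ∑ m ∈ s, a m ⊗ₜ[A]
        PiTensorProduct.singleAlgHom (R := A) (A := fun _ : Fin d => P) j (p m) := by
    intro j
    rw [map_sum]
    apply Finset.sum_congr rfl
    intro m _
    rw [Algebra.TensorProduct.map_tmul]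
    rfl
  rw [Finset.prod_congr rfl (fun j _ => h1 j), Finset.prod_univ_sum]
  apply Finset.sum_congr rfl
  intro g _
  rw [tmul_prod', prod_single_eq_tprod]

theorem tpow_xg (s : Finset M) :
    (SymTen.tpowLaw A P d).law.toFun' (MvPolynomial M A) (xg b s) =
      ∑ g ∈ Fintype.piFinset (fun _ : Fin d => s),
        (MvPolynomial.monomial (typ g) (1 : A)) ⊗ₜ[A] eB b d g := by
  unfold xg
  rw [tpow_expand]
  apply Finset.sum_congr rfl
  intro g _
  rw [prod_X_eq_monomial, eB_apply]

end Gen2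

end Groth.Agent.Helper22.GF
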