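import Groth.Agent.Lib.Helper22.GF03

set_option maxHeartbeats 1600000

universe u
open scoped TensorProduct
open Classical

namespace Groth.Agent.Helper22.GF

section Kill
variable {A : Type u} [CommRing A] {M : Type u}

/-- kill the variables in `D` -/
noncomputable def killS (D : Set M) : MvPolynomial M A →ₐ[A] MvPolynomial M A :=
  MvPolynomial.aeval (fun m => if m ∈ D then (0 : MvPolynomial M A) else MvPolynomial.X m)

theorem killS_X (D : Set M) (m : M) :
    killS (A := A) D (MvPolynomial.X m) = if m ∈ D then 0 else MvPolynomial.X m := by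
  unfold killS
  rw [MvPolynomial.aeval_X]

theorem killS_monomial (D : Set M) (u : M →₀ ℕ) (a : A) :
    killS D (MvPolynomial.monomial u a) =
      if (∀ m ∈ D, u m = 0) then MvPolynomial.monomial u a else 0 := by
  unfold killS
  rw [MvPolynomial.aeval_monomial, MvPolynomial.algebraMap_eq]
  by_cases h : ∀ m ∈ D, u m = 0
  · rw [if_pos h]
    have h2 : (u.prod fun m k =>
        (if m ∈ D then (0 : MvPolynomial M A) else MvPolynomial.X m) ^ k) =
        u.prod fun n e => (MvPolynomial.X n : MvPolynomial M A) ^ e := by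
      apply Finsupp.prod_congr
      intro m hm
      have hne : m ∉ D := fun hD => (Finsupp.mem_support_iff.mp hm) (h m hD)
      rw [if_neg hne]
    rw [h2, ← MvPolynomial.monomial_eq]
  · rw [if_neg h]
    push_neg at h
    obtain ⟨m, hD, hm⟩ := h
    have h2 : (u.prod fun m k =>
        (if m ∈ D then (0 : MvPolynomial M A) else MvPolynomial.X m) ^ k) = 0 := by
      rw [Finsupp.prod]
      apply Finset.prod_eq_zero (Finsupp.mem_support_iff.mpr hm)
      rw [if_pos hD, zero_pow hm]
    rw [h2, mul_zero]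

theorem coeff_killS (D : Set M) (K : M →₀ ℕ) (q : MvPolynomial M A) :
    MvPolynomial.coeff K (killS D q) =
      if (∀ m ∈ D, K m = 0) then MvPolynomial.coeff K q else 0 := by
  induction q using MvPolynomial.induction_on' with
  | monomial u a =>
    rw [killS_monomial]
    by_cases hK : ∀ m ∈ D, K m = 0
    · rw [if_pos hK]
      by_cases hu : ∀ m ∈ D, u m = 0
      · rw [if_pos hu]
      · rw [if_neg hu, MvPolynomial.coeff_zero, MvPolynomial.coeff_monomial, if_neg]
        rintro rfl
        exact hu hK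
    · rw [if_neg hK]
      by_cases hu : ∀ m ∈ D, u m = 0
      · rw [if_pos hu, MvPolynomial.coeff_monomial, if_neg]
        rintro rfl
        exact hK hu
      · rw [if_neg hu, MvPolynomial.coeff_zero]
  | add p q hp hq =>
    rw [map_add, MvPolynomial.coeff_add, MvPolynomial.coeff_add, hp, hq]
    by_cases hK : ∀ m ∈ D, K m = 0
    · simp only [if_pos hK]
    · simp only [if_neg hK, add_zero]

variable {B : Type u} [CommRing B] [Algebra A B]

/-- generic linear element of `A[M] ⊗ B` -/
noncomputable def yg (β : M → B) (s : Finset M) : MvPolynomial M A ⊗[A] B :=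
  ∑ m ∈ s, (MvPolynomial.X m : MvPolynomial M A) ⊗ₜ[A] β m

theorem killS_yg (D : Set M) [DecidablePred (fun m => m ∉ D)] (β : M → B) (s : Finset M) :
    (killS (A := A) D).toLinearMap.rTensor B (yg β s) = yg β (s.filter (fun m => m ∉ D)) := by
  unfold yg
  rw [map_sum, Finset.sum_filter]
  apply Finset.sum_congr rfl
  intro m _
  rw [LinearMap.rTensor_tmul, AlgHom.toLinearMap_apply, killS_X]
  by_cases h : m ∈ D
  · rw [if_pos h, if_neg (not_not.mpr h), TensorProduct.zero_tmul]
  · rw [if_neg h, if_pos h]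

variable {G : Type u} [CommRing G] [Algebra A G] {d : ℕ} (γ : PolLaw.MulLaw A B G d)

theorem cE_gamma_subset (β : M → B) (s s' : Finset M) (hs : s' ⊆ s) (K : M →₀ ℕ) :
    cE K G (γ.law.toFun' (MvPolynomial M A) (yg β s')) =
      if K.support ⊆ s' then cE K G (γ.law.toFun' (MvPolynomial M A) (yg β s)) else 0 := by
  have h1 : yg β s' = (killS (A := A) ((↑s' : Set M)ᶜ)).toLinearMap.rTensor B (yg β s) := by
    rw [killS_yg]
    congr 1
    ext m
    rw [Finset.mem_filter, Set.mem_compl_iff, not_not, Finset.mem_coe]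
    exact ⟨fun h => ⟨hs h, h⟩, fun h => h.2⟩
  have hiff : (∀ m ∈ ((↑s' : Set M)ᶜ), K m = 0) ↔ K.support ⊆ s' := by
    constructor
    · intro h m hm
      by_contra hc
      exact (Finsupp.mem_support_iff.mp hm) (h m hc)
    · intro h m hm
      by_contra hc
      exact hm (h (Finsupp.mem_support_iff.mpr hc))
  have h2 : MvPolynomial.lcoeff A K ∘ₗ (killS (A := A) ((↑s' : Set M)ᶜ)).toLinearMap =
      if K.support ⊆ s' then MvPolynomial.lcoeff A K else 0 := by
    apply LinearMap.ext
    intro q
    rw [LinearMap.comp_apply, AlgHom.toLinearMap_apply]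
    show MvPolynomial.coeff K (killS _ q) = _
    rw [coeff_killS]
    by_cases hc : K.support ⊆ s'
    · rw [if_pos (hiff.mpr hc), if_pos hc]
      rfl
    · rw [if_neg (fun h => hc (hiff.mp h)), if_neg hc]
      rfl
  rw [h1, ← PolynomialLaw.isCompat_apply', cE_def, cl_rTensor, h2]
  by_cases hc : K.support ⊆ s'
  · rw [if_pos hc, if_pos hc]
  · rw [if_neg hc, if_neg hc, cl_zero]

theorem psi_monomial (L : M →₀ ℕ) (a : A) :
    MvPolynomial.aeval (fun m => (Polynomial.X : Polynomial (MvPolynomial M A)) *
        Polynomial.C (MvPolynomial.X m)) (MvPolynomial.monomial L a) =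
      Polynomial.C (MvPolynomial.monomial L a) * Polynomial.X ^ (Finsupp.degree L) := by
  rw [MvPolynomial.aeval_monomial]
  have e1 : (L.prod fun m k => ((Polynomial.X : Polynomial (MvPolynomial M A)) *
        Polynomial.C (MvPolynomial.X m)) ^ k) =
      Polynomial.X ^ (Finsupp.degree L) *
        Polynomial.C (L.prod fun m k => (MvPolynomial.X m : MvPolynomial M A) ^ k) := by
    rw [Finsupp.prod, Finsupp.prod, map_prod, Finsupp.degree_apply,
      ← Finset.prod_pow_eq_pow_sum, ← Finset.prod_mul_distrib]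
    apply Finset.prod_congr rfl
    intro m _
    rw [mul_pow, map_pow]
  rw [e1, MvPolynomial.monomial_eq, map_mul, Polynomial.algebraMap_apply,
    MvPolynomial.algebraMap_eq]
  ring

theorem cE_gamma_degree (β : M → B) (s : Finset M) (K : M →₀ ℕ)
    (hK : Finsupp.degree K ≠ d) :
    cE K G (γ.law.toFun' (MvPolynomial M A) (yg β s)) = 0 := by
  obtain ⟨ψ, hψ⟩ : ∃ ψ : MvPolynomial M A →ₐ[A] Polynomial (MvPolynomial M A),
      ψ = MvPolynomial.aeval (fun m => (Polynomial.X : Polynomial (MvPolynomial M A)) *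
        Polynomial.C (MvPolynomial.X m)) := ⟨_, rfl⟩
  obtain ⟨ι, hι⟩ : ∃ ι : MvPolynomial M A →ₐ[A] Polynomial (MvPolynomial M A),
      ι = Polynomial.CAlgHom := ⟨_, rfl⟩
  have h1 : ψ.toLinearMap.rTensor B (yg β s) =
      (Polynomial.X : Polynomial (MvPolynomial M A)) • ι.toLinearMap.rTensor B (yg β s) := by
    unfold yg
    rw [map_sum, map_sum, Finset.smul_sum]
    apply Finset.sum_congr rfl
    intro m _
    rw [LinearMap.rTensor_tmul, LinearMap.rTensor_tmul, TensorProduct.smul_tmul',
      AlgHom.toLinearMap_apply, AlgHom.toLinearMap_apply, hψ, hι, MvPolynomial.aeval_X,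
      smul_eq_mul]
    rfl
  have h2 : ψ.toLinearMap.rTensor G (γ.law.toFun' (MvPolynomial M A) (yg β s)) =
      (Polynomial.X : Polynomial (MvPolynomial M A)) ^ d •
        ι.toLinearMap.rTensor G (γ.law.toFun' (MvPolynomial M A) (yg β s)) := by
    rw [PolynomialLaw.isCompat_apply', h1, γ.homog, ← PolynomialLaw.isCompat_apply']
  obtain ⟨lam, hlam⟩ : ∃ lam : Polynomial (MvPolynomial M A) →ₗ[A] A,
      lam = MvPolynomial.lcoeff A K ∘ₗ
        ((Polynomial.lcoeff (MvPolynomial M A) (Finsupp.degree K)).restrictScalars A) :=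
    ⟨_, rfl⟩
  have lam_apply : ∀ x, lam x = MvPolynomial.coeff K (x.coeff (Finsupp.degree K)) := by
    intro x
    rw [hlam]
    rfl
  have h3 : lam ∘ₗ ψ.toLinearMap = MvPolynomial.lcoeff A K := by
    apply LinearMap.ext
    intro q
    rw [LinearMap.comp_apply, AlgHom.toLinearMap_apply, lam_apply]
    show MvPolynomial.coeff K ((ψ q).coeff (Finsupp.degree K)) = MvPolynomial.coeff K q
    induction q using MvPolynomial.induction_on' with
    | monomial L a =>
      rw [hψ, psi_monomial, Polynomial.coeff_C_mul_X_pow]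
      by_cases hLK : L = K
      · subst hLK
        rw [if_pos rfl]
      · by_cases hd : Finsupp.degree K = Finsupp.degree L
        · rw [if_pos hd]
        · rw [if_neg hd, MvPolynomial.coeff_zero, MvPolynomial.coeff_monomial, if_neg hLK]
    | add p q hp hq =>
      rw [map_add, Polynomial.coeff_add, MvPolynomial.coeff_add, MvPolynomial.coeff_add, hp, hq]
  have h4 : (lam ∘ₗ LinearMap.mulLeft A ((Polynomial.X : Polynomial (MvPolynomial M A)) ^ d)) ∘ₗ
      ι.toLinearMap = 0 := by
    apply LinearMap.ext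
    intro q
    rw [LinearMap.comp_apply, LinearMap.comp_apply, AlgHom.toLinearMap_apply,
      LinearMap.mulLeft_apply, lam_apply, hι, LinearMap.zero_apply]
    show MvPolynomial.coeff K ((Polynomial.X ^ d * Polynomial.C q).coeff (Finsupp.degree K)) = 0
    rw [Polynomial.coeff_X_pow_mul', Polynomial.coeff_C]
    by_cases h1 : d ≤ Finsupp.degree K
    · rw [if_pos h1, if_neg, MvPolynomial.coeff_zero]
      omega
    · rw [if_neg h1, MvPolynomial.coeff_zero]
  rw [cE_def, ← h3, ← cl_rTensor, h2, cl_smul, cl_rTensor, h4, cl_zero]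

end Kill

end Groth.Agent.Helper22.GF
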