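import Groth.Agent.Lib.Helper22.GF04

set_option maxHeartbeats 1600000

universe u
open scoped TensorProduct
open Classical

namespace Groth.Agent.Helper22.GF

section Theta
variable {A : Type u} [CommRing A] {P : Type u} [CommRing P] [Algebra A P] {M : Type u}
  (b : Module.Basis M A P) {B : Type u} [CommRing B] [Algebra A B] (π : P →ₐ[A] B)
  {G : Type u} [CommRing G] [Algebra A G] {d : ℕ} (γ : PolLaw.MulLaw A B G d)

/-- coefficient of `X^K` in `γ` of the generic element -/
noncomputable def cfOf (K : M →₀ ℕ) : G :=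
  cE K G (γ.law.toFun' (MvPolynomial M A) (yg (fun m => π (b m)) K.support))

/-- the linear map `T^d(P) → G` inducing `TS^d(P) = Γ^d(P) → Γ^d(B)` -/
noncomputable def thetaT : (⨂[A] _ : Fin d, P) →ₗ[A] G :=
  (eB b d).constr A (fun f => if rep f = f then cfOf b π γ (typ f) else 0)

theorem thetaT_eB (f : Fin d → M) :
    thetaT b π γ (eB b d f) = if rep f = f then cfOf b π γ (typ f) else 0 :=
  (eB b d).constr_basis A _ f

theorem pi_xg (s : Finset M) :
    π.toLinearMap.lTensor (MvPolynomial M A) (xg b s) = yg (fun m => π (b m)) s := by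
  unfold xg yg
  rw [map_sum]
  apply Finset.sum_congr rfl
  intro m _
  rw [LinearMap.lTensor_tmul, AlgHom.toLinearMap_apply]

theorem T1_generic (s : Finset M) :
    (thetaT b π γ).lTensor (MvPolynomial M A)
        ((SymTen.tpowLaw A P d).law.toFun' (MvPolynomial M A) (xg b s)) =
      γ.law.toFun' (MvPolynomial M A) (yg (fun m => π (b m)) s) := by
  apply ext_cE
  intro K
  rw [tpow_xg, map_sum, map_sum]
  have h1 : ∀ g : Fin d → M, cE K G ((thetaT b π γ).lTensor (MvPolynomial M A)
      ((MvPolynomial.monomial (typ g) (1 : A)) ⊗ₜ[A] eB b d g)) =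
      if typ g = K then (if rep g = g then cfOf b π γ K else 0) else 0 := by
    intro g
    rw [LinearMap.lTensor_tmul, cE_tmul, MvPolynomial.coeff_monomial, thetaT_eB]
    by_cases h : typ g = K
    · rw [if_pos h, if_pos h, one_smul, h]
    · rw [if_neg h, if_neg h, zero_smul]
  rw [Finset.sum_congr rfl (fun g _ => h1 g), sum_rep_typ]
  by_cases h : K.support ⊆ s ∧ Finsupp.degree K = d
  · rw [if_pos h]
    unfold cfOf
    rw [cE_gamma_subset γ _ s K.support h.1 K, if_pos (Finset.Subset.refl _)]
  · rw [if_neg h]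
    by_cases h1 : K.support ⊆ s
    · have h2 : Finsupp.degree K ≠ d := fun h2 => h ⟨h1, h2⟩
      rw [cE_gamma_degree γ _ s K h2]
    · have h3 := cE_gamma_subset γ (fun m => π (b m)) s s (Finset.Subset.refl _) K
      rw [if_neg h1] at h3
      rw [h3]

theorem T1 : PolLaw.postcomp (thetaT b π γ) (SymTen.tpowLaw A P d).law =
    PolLaw.precomp γ.law π.toLinearMap := by
  apply law_ext_free b
  intro s
  show (thetaT b π γ).lTensor _ ((SymTen.tpowLaw A P d).law.toFun' _ (xg b s)) =
    γ.law.toFun' _ (π.toLinearMap.lTensor _ (xg b s))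
  rw [pi_xg]
  exact T1_generic b π γ s

theorem T1_apply (S : Type u) [CommSemiring S] [Algebra A S] (x : S ⊗[A] P) :
    (thetaT b π γ).lTensor S ((SymTen.tpowLaw A P d).law.toFun' S x) =
      γ.law.toFun' S (π.toLinearMap.lTensor S x) := by
  have h := congrArg (fun F : P →ₚₗ[A] G => F.toFun' S x) (T1 b π γ)
  exact h

theorem thetaT_orb (f : Fin d → M) : thetaT b π γ (orb b d f) = cfOf b π γ (typ f) := by
  unfold orb cfOf
  rw [← cE_lTensor, T1_generic, support_typ]

theorem thetaT_rhoP : thetaT b π γ ∘ₗ rhoP b d = thetaT b π γ := by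
  apply (eB b d).ext
  intro f
  rw [LinearMap.comp_apply, rhoP_eB, thetaT_eB]
  by_cases h : rep f = f
  · rw [if_pos h, if_pos h, thetaT_orb]
  · rw [if_neg h, if_neg h, map_zero]

theorem thetaT_one : thetaT b π γ 1 = 1 := by
  have h := T1_apply b π γ A (1 : A ⊗[A] P)
  rw [((SymTen.tpowLaw A P d).mult A).1, PolLaw.lTensor_algHom_apply,
    map_one (Algebra.TensorProduct.map (AlgHom.id A A) π), (γ.mult A).1,
    Algebra.TensorProduct.one_def, LinearMap.lTensor_tmul] at h
  have h2 := congrArg (TensorProduct.lid A G) h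
  rw [TensorProduct.lid_tmul, one_smul, Algebra.TensorProduct.one_def, TensorProduct.lid_tmul,
    one_smul] at h2
  exact h2

end Theta

end Groth.Agent.Helper22.GF
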