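import Groth.Agent.Lib.Helper22.GF05

set_option maxHeartbeats 1600000

universe u
open scoped TensorProduct
open Classical

namespace Groth.Agent.Helper22.GF

section Princ
variable {A : Type u} [CommRing A] {P : Type u} [CommRing P] [Algebra A P] {M : Type u}
  (b : Module.Basis M A P) (d : ℕ)

theorem princ {N : Type*} [AddCommGroup N] [Module A N] (L L' : (⨂[A] _ : Fin d, P) →ₗ[A] N)
    (h : ∀ s : Finset M,
      L.lTensor (MvPolynomial M A)
        ((SymTen.tpowLaw A P d).law.toFun' (MvPolynomial M A) (xg b s)) =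
      L'.lTensor (MvPolynomial M A)
        ((SymTen.tpowLaw A P d).law.toFun' (MvPolynomial M A) (xg b s)))
    (u : ⨂[A] _ : Fin d, P) (hu : u ∈ SymTen.TS A P d) : L u = L' u := by
  have hsp := mem_span_orb b d u hu
  clear hu
  induction hsp using Submodule.span_induction with
  | mem v hv =>
    obtain ⟨f, rfl⟩ := hv
    unfold orb
    rw [← cE_lTensor, ← cE_lTensor, h]
  | zero => rw [map_zero, map_zero]
  | add x y _ _ hx hy => rw [map_add, map_add, hx, hy]
  | smul a x _ hx => rw [map_smul, map_smul, hx]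

end Princ

section T2
variable {A : Type u} [CommRing A]

/-- tensor product of two functionals -/
noncomputable def ell2 {S S' : Type*} [CommSemiring S] [Algebra A S] [CommSemiring S']
    [Algebra A S'] (ℓ : S →ₗ[A] A) (ℓ' : S' →ₗ[A] A) : S ⊗[A] S' →ₗ[A] A :=
  (TensorProduct.lid A A).toLinearMap ∘ₗ TensorProduct.map ℓ ℓ'

theorem ell2_tmul {S S' : Type*} [CommSemiring S] [Algebra A S] [CommSemiring S']
    [Algebra A S'] (ℓ : S →ₗ[A] A) (ℓ' : S' →ₗ[A] A) (q : S) (q' : S') :
    ell2 ℓ ℓ' (q ⊗ₜ[A] q') = ℓ q * ℓ' q' := by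
  show TensorProduct.lid A A (TensorProduct.map ℓ ℓ' (q ⊗ₜ[A] q')) = _
  rw [TensorProduct.map_tmul, TensorProduct.lid_tmul, smul_eq_mul]

theorem KA {S S' R : Type u} [CommSemiring S] [Algebra A S] [CommSemiring S'] [Algebra A S']
    [CommRing R] [Algebra A R] (ℓ : S →ₗ[A] A) (ℓ' : S' →ₗ[A] A) (y : S ⊗[A] R)
    (y' : S' ⊗[A] R) :
    cl (ell2 ℓ ℓ') R
      ((Algebra.TensorProduct.includeLeft : S →ₐ[A] S ⊗[A] S').toLinearMap.rTensor R y *
       (Algebra.TensorProduct.includeRight : S' →ₐ[A] S ⊗[A] S').toLinearMap.rTensor R y') =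
    cl ℓ R y * cl ℓ' R y' := by
  induction y using TensorProduct.induction_on with
  | zero => simp only [map_zero, zero_mul]
  | tmul q r =>
    induction y' using TensorProduct.induction_on with
    | zero => simp only [map_zero, mul_zero]
    | tmul q' r' =>
      rw [LinearMap.rTensor_tmul, LinearMap.rTensor_tmul, AlgHom.toLinearMap_apply,
        AlgHom.toLinearMap_apply, Algebra.TensorProduct.includeLeft_apply,
        Algebra.TensorProduct.includeRight_apply, Algebra.TensorProduct.tmul_mul_tmul,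
        Algebra.TensorProduct.tmul_mul_tmul, cl_tmul, cl_tmul, cl_tmul, mul_one, one_mul,
        ell2_tmul, smul_mul_smul_comm]
    | add a b ha hb => simp only [map_add, mul_add, ha, hb]
  | add a b ha hb => simp only [map_add, add_mul, ha, hb]

variable {P Q G : Type u} [CommRing P] [Algebra A P] [CommRing Q] [Algebra A Q] [CommRing G]
  [Algebra A G] {d : ℕ}

theorem T2_core (τ : PolLaw.MulLaw A P Q d) (Φ : PolLaw.MulLaw A P G d) (L : Q →ₗ[A] G)
    (hL : ∀ (S : Type u) [CommSemiring S] [Algebra A S] (x : S ⊗[A] P),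
      L.lTensor S (τ.law.toFun' S x) = Φ.law.toFun' S x)
    (S S' : Type u) [CommSemiring S] [Algebra A S] [CommSemiring S'] [Algebra A S']
    (ℓ : S →ₗ[A] A) (ℓ' : S' →ₗ[A] A) (x : S ⊗[A] P) (x' : S' ⊗[A] P) :
    L (cl ℓ Q (τ.law.toFun' S x) * cl ℓ' Q (τ.law.toFun' S' x')) =
      L (cl ℓ Q (τ.law.toFun' S x)) * L (cl ℓ' Q (τ.law.toFun' S' x')) := by
  have e : ∀ {R : Type u} [CommRing R] [Algebra A R] (F : PolLaw.MulLaw A P R d),
      cl ℓ R (F.law.toFun' S x) * cl ℓ' R (F.law.toFun' S' x') =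
      cl (ell2 ℓ ℓ') R (F.law.toFun' (S ⊗[A] S')
        ((Algebra.TensorProduct.includeLeft : S →ₐ[A] S ⊗[A] S').toLinearMap.rTensor P x *
         (Algebra.TensorProduct.includeRight : S' →ₐ[A] S ⊗[A] S').toLinearMap.rTensor P x')) := by
    intro R _ _ F
    rw [← KA, PolynomialLaw.isCompat_apply', PolynomialLaw.isCompat_apply',
      ← (F.mult (S ⊗[A] S')).2]
  have a : ∀ (S₀ : Type u) [CommSemiring S₀] [Algebra A S₀] (ℓ₀ : S₀ →ₗ[A] A)
      (x₀ : S₀ ⊗[A] P),
      L (cl ℓ₀ Q (τ.law.toFun' S₀ x₀)) = cl ℓ₀ G (Φ.law.toFun' S₀ x₀) := by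
    intro S₀ _ _ ℓ₀ x₀
    rw [← cl_lTensor, hL]
  rw [e τ, a, a, a, e Φ]

end T2

section ThetaMul
variable {A : Type u} [CommRing A] {P : Type u} [CommRing P] [Algebra A P] {M : Type u}
  (b : Module.Basis M A P) {B : Type u} [CommRing B] [Algebra A B] (π : P →ₐ[A] B)
  {G : Type u} [CommRing G] [Algebra A G] {d : ℕ} (γ : PolLaw.MulLaw A B G d)

theorem thetaT_mul_orb (f f' : Fin d → M) :
    thetaT b π γ (orb b d f * orb b d f') =
      thetaT b π γ (orb b d f) * thetaT b π γ (orb b d f') :=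
  T2_core (SymTen.tpowLaw A P d) (γ.precomp π) (thetaT b π γ)
    (fun S _ _ x => T1_apply b π γ S x) _ _ _ _ _ _

theorem thetaT_mul {u u' : ⨂[A] _ : Fin d, P} (hu : u ∈ SymTen.TS A P d)
    (hu' : u' ∈ SymTen.TS A P d) :
    thetaT b π γ (u * u') = thetaT b π γ u * thetaT b π γ u' := by
  have hsp := mem_span_orb b d u hu
  have hsp' := mem_span_orb b d u' hu'
  clear hu hu'
  induction hsp using Submodule.span_induction with
  | mem v hv =>
    obtain ⟨f, rfl⟩ := hv
    induction hsp' using Submodule.span_induction with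
    | mem v' hv' =>
      obtain ⟨f', rfl⟩ := hv'
      exact thetaT_mul_orb b π γ f f'
    | zero => rw [mul_zero, map_zero, mul_zero]
    | add x y _ _ hx hy => rw [mul_add, map_add, map_add, mul_add, hx, hy]
    | smul a x _ hx => rw [mul_smul_comm, map_smul, map_smul, mul_smul_comm, hx]
  | zero => rw [zero_mul, map_zero, zero_mul]
  | add x y _ _ hx hy => rw [add_mul, map_add, map_add, add_mul, hx, hy]
  | smul a x _ hx => rw [smul_mul_assoc, map_smul, map_smul, smul_mul_assoc, hx]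

end ThetaMul

section Tmap
variable {A : Type u} [CommRing A] {P P' P'' : Type u} [CommRing P] [Algebra A P] [CommRing P']
  [Algebra A P'] [CommRing P''] [Algebra A P''] (d : ℕ)

theorem tmap_single (h : P →ₐ[A] P') (j : Fin d) (p : P) :
    SymTen.tmap A d h (PiTensorProduct.singleAlgHom (R := A) (A := fun _ : Fin d => P) j p) =
      PiTensorProduct.singleAlgHom (R := A) (A := fun _ : Fin d => P') j (h p) := by
  rw [PiTensorProduct.singleAlgHom_apply, PiTensorProduct.singleAlgHom_apply, SymTen.tmap_tprod]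
  congr 1
  funext i
  simp only [MonoidHom.mulSingle_apply]
  exact Pi.apply_mulSingle (fun _ => ⇑h) (fun _ => map_one h) j p i

theorem tmap_perm (h : P →ₐ[A] P') (σ : Equiv.Perm (Fin d)) (t : ⨂[A] _ : Fin d, P) :
    SymTen.tmap A d h (SymTen.perm A P d σ t) = SymTen.perm A P' d σ (SymTen.tmap A d h t) := by
  rw [SymTen.perm_apply, SymTen.perm_apply, SymTen.tmap_reindex]

theorem tmap_comp (g : P' →ₐ[A] P'') (f : P →ₐ[A] P') (t : ⨂[A] _ : Fin d, P) :
    SymTen.tmap A d g (SymTen.tmap A d f t) = SymTen.tmap A d (g.comp f) t := by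
  induction t using PiTensorProduct.induction_on with
  | smul_tprod r c =>
    rw [map_smul, map_smul, map_smul, SymTen.tmap_tprod, SymTen.tmap_tprod, SymTen.tmap_tprod]
    rfl
  | add x y hx hy => rw [map_add, map_add, map_add, hx, hy]

theorem tmap_id (t : ⨂[A] _ : Fin d, P) : SymTen.tmap A d (AlgHom.id A P) t = t := by
  induction t using PiTensorProduct.induction_on with
  | smul_tprod r c =>
    rw [map_smul, SymTen.tmap_tprod]
    rfl
  | add x y hx hy => rw [map_add, hx, hy]

theorem tmap_mem_TS (h : P →ₐ[A] P') (u : ⨂[A] _ : Fin d, P) (hu : u ∈ SymTen.TS A P d) :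
    SymTen.tmap A d h u ∈ SymTen.TS A P' d := by
  rw [SymTen.mem_TS_iff] at hu ⊢
  intro σ
  rw [← SymTen.tmap_reindex, hu σ]

theorem map_map_eq' {S : Type*} [CommSemiring S] [Algebra A S] {R₁ R₂ R₃ : Type*} [CommRing R₁]
    [Algebra A R₁] [CommRing R₂] [Algebra A R₂] [CommRing R₃] [Algebra A R₃]
    (g₁ : R₁ →ₐ[A] R₂) (g₂ : R₂ →ₐ[A] R₃) (g : R₁ →ₐ[A] R₃) (hg : ∀ p, g₂ (g₁ p) = g p)
    (x : S ⊗[A] R₁) :
    Algebra.TensorProduct.map (AlgHom.id S S) g₂
        (Algebra.TensorProduct.map (AlgHom.id S S) g₁ x) =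
      Algebra.TensorProduct.map (AlgHom.id S S) g x := by
  induction x using TensorProduct.induction_on with
  | zero => simp only [map_zero]
  | tmul s p =>
    rw [Algebra.TensorProduct.map_tmul, Algebra.TensorProduct.map_tmul,
      Algebra.TensorProduct.map_tmul, hg]
    rfl
  | add a b ha hb => simp only [map_add, ha, hb]

theorem tpow_nat (h : P →ₐ[A] P') (S : Type u) [CommSemiring S] [Algebra A S] (x : S ⊗[A] P) :
    (SymTen.tmap A d h).toLinearMap.lTensor S ((SymTen.tpowLaw A P d).law.toFun' S x) =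
      (SymTen.tpowLaw A P' d).law.toFun' S (h.toLinearMap.lTensor S x) := by
  rw [PolLaw.lTensor_algHom_apply, PolLaw.lTensor_algHom_apply, tpow_toFun', tpow_toFun',
    map_prod]
  apply Finset.prod_congr rfl
  intro j _
  rw [map_map_eq' (PiTensorProduct.singleAlgHom (R := A) (A := fun _ : Fin d => P) j)
      (SymTen.tmap A d h)
      ((PiTensorProduct.singleAlgHom (R := A) (A := fun _ : Fin d => P') j).comp h)
      (fun p => tmap_single d h j p),
    map_map_eq' h (PiTensorProduct.singleAlgHom (R := A) (A := fun _ : Fin d => P') j)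
      ((PiTensorProduct.singleAlgHom (R := A) (A := fun _ : Fin d => P') j).comp h)
      (fun p => rfl)]

theorem symm_nat (h : P →ₐ[A] P') (S : Type u) [CommSemiring S] [Algebra A S]
    (q : S ⊗[A] (⨂[A] _ : Fin d, P)) :
    (SymTen.tmap A d h).toLinearMap.lTensor S ((SymTen.symmLaw A P d).law.toFun' S q) =
      (SymTen.symmLaw A P' d).law.toFun' S ((SymTen.tmap A d h).toLinearMap.lTensor S q) := by
  rw [PolLaw.lTensor_algHom_apply, PolLaw.lTensor_algHom_apply, symm_toFun', symm_toFun',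
    map_prod]
  apply Finset.prod_congr rfl
  intro σ _
  rw [map_map_eq' (SymTen.perm A P d σ) (SymTen.tmap A d h)
      ((SymTen.tmap A d h).comp (SymTen.perm A P d σ)) (fun p => rfl),
    map_map_eq' (SymTen.tmap A d h) (SymTen.perm A P' d σ)
      ((SymTen.tmap A d h).comp (SymTen.perm A P d σ)) (fun p => (tmap_perm d h σ p).symm)]

end Tmap

section T3
variable {A : Type u} [CommRing A] {P : Type u} [CommRing P] [Algebra A P] {M : Type u}
  (b : Module.Basis M A P) {B : Type u} [CommRing B] [Algebra A B] (π : P →ₐ[A] B)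
  {G : Type u} [CommRing G] [Algebra A G] {d : ℕ} (γ : PolLaw.MulLaw A B G d)

theorem T3 (φT : G →ₗ[A] (⨂[A] _ : Fin d, B))
    (hφ : ∀ (S : Type u) [CommSemiring S] [Algebra A S] (y : S ⊗[A] B),
      φT.lTensor S (γ.law.toFun' S y) = (SymTen.tpowLaw A B d).law.toFun' S y)
    (u : ⨂[A] _ : Fin d, P) (hu : u ∈ SymTen.TS A P d) :
    φT (thetaT b π γ u) = SymTen.tmap A d π u := by
  have h := princ b d (φT ∘ₗ thetaT b π γ) (SymTen.tmap A d π).toLinearMap ?_ u hu
  · exact h
  · intro s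
    rw [LinearMap.lTensor_comp_apply, T1_apply, hφ, tpow_nat]

theorem nat_thetaT {P' : Type u} [CommRing P'] [Algebra A P'] {M' : Type u}
    (b' : Module.Basis M' A P') (π' : P' →ₐ[A] B) (h : P' →ₐ[A] P) (hh : π.comp h = π')
    (u : ⨂[A] _ : Fin d, P') (hu : u ∈ SymTen.TS A P' d) :
    thetaT b π γ (SymTen.tmap A d h u) = thetaT b' π' γ u := by
  have h1 := princ b' d (thetaT b π γ ∘ₗ (SymTen.tmap A d h).toLinearMap) (thetaT b' π' γ) ?_ u hu
  · exact h1
  · intro s
    rw [LinearMap.lTensor_comp_apply, tpow_nat, T1_apply, T1_apply,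
      ← LinearMap.lTensor_comp_apply, ← AlgHom.comp_toLinearMap, hh]

end T3

end Groth.Agent.Helper22.GF
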