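import Groth.Agent.Lib.Helper22.GF06

set_option maxHeartbeats 1600000

universe u
open scoped TensorProduct
open Classical

namespace Groth.Agent.Helper22.GF

section Inv
variable {A : Type u} [CommRing A] {P : Type u} [CommRing P] [Algebra A P] (d : ℕ)

theorem perm_lTensor_eq (σ : Equiv.Perm (Fin d)) (S : Type u) [CommSemiring S] [Algebra A S]
    (w : S ⊗[A] (⨂[A] _ : Fin d, P)) :
    (SymTen.perm A P d σ).toLinearMap.lTensor S w =
      Algebra.TensorProduct.map (AlgHom.id S S) (SymTen.perm A P d σ) w :=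
  PolLaw.lTensor_algHom_apply _ S w

theorem lT_mul {Q Q' : Type u} [CommRing Q] [Algebra A Q] [CommRing Q'] [Algebra A Q']
    (F : Q →ₐ[A] Q') (S : Type u) [CommSemiring S] [Algebra A S] (a b : S ⊗[A] Q) :
    F.toLinearMap.lTensor S (a * b) = F.toLinearMap.lTensor S a * F.toLinearMap.lTensor S b := by
  rw [PolLaw.lTensor_algHom_apply, PolLaw.lTensor_algHom_apply, PolLaw.lTensor_algHom_apply,
    map_mul]

theorem lT_one {Q Q' : Type u} [CommRing Q] [Algebra A Q] [CommRing Q'] [Algebra A Q']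
    (F : Q →ₐ[A] Q') (S : Type u) [CommSemiring S] [Algebra A S] :
    F.toLinearMap.lTensor S (1 : S ⊗[A] Q) = 1 := by
  rw [PolLaw.lTensor_algHom_apply, map_one]

variable {S : Type u} [CommSemiring S] [Algebra A S]

theorem isInv_one : IsInv A P d S 1 := fun σ => lT_one _ S

theorem isInv_mul {w w' : S ⊗[A] (⨂[A] _ : Fin d, P)} (hw : IsInv A P d S w)
    (hw' : IsInv A P d S w') : IsInv A P d S (w * w') := fun σ => by
  rw [lT_mul, hw σ, hw' σ]

theorem isInv_pow {w : S ⊗[A] (⨂[A] _ : Fin d, P)} (hw : IsInv A P d S w) (k : ℕ) :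
    IsInv A P d S (w ^ k) := by
  induction k with
  | zero =>
    rw [pow_zero]
    exact isInv_one d
  | succ k ih =>
    rw [pow_succ]
    exact isInv_mul d ih hw

theorem isInv_tmul (s : S) (u : ⨂[A] _ : Fin d, P) (hu : u ∈ SymTen.TS A P d) :
    IsInv A P d S (s ⊗ₜ[A] u) := fun σ => by
  rw [LinearMap.lTensor_tmul, AlgHom.toLinearMap_apply, SymTen.perm_apply,
    (SymTen.mem_TS_iff A P d u).mp hu σ]

theorem isInv_sum {ι : Type*} (t : Finset ι) (w : ι → S ⊗[A] (⨂[A] _ : Fin d, P))
    (h : ∀ i ∈ t, IsInv A P d S (w i)) : IsInv A P d S (∑ i ∈ t, w i) := fun σ => by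
  rw [map_sum]
  exact Finset.sum_congr rfl (fun i hi => h i hi σ)

theorem perm_perm (σ τ : Equiv.Perm (Fin d)) (t : ⨂[A] _ : Fin d, P) :
    SymTen.perm A P d σ (SymTen.perm A P d τ t) = SymTen.perm A P d (σ * τ) t := by
  induction t using PiTensorProduct.induction_on with
  | smul_tprod r c =>
    rw [map_smul, map_smul, map_smul, SymTen.perm_tprod, SymTen.perm_tprod, SymTen.perm_tprod]
    rfl
  | add x y hx hy => rw [map_add, map_add, map_add, hx, hy]

theorem perm_single (σ : Equiv.Perm (Fin d)) (j : Fin d) (p : P) :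
    SymTen.perm A P d σ (PiTensorProduct.singleAlgHom (R := A) (A := fun _ : Fin d => P) j p) =
      PiTensorProduct.singleAlgHom (R := A) (A := fun _ : Fin d => P) (σ j) p := by
  rw [PiTensorProduct.singleAlgHom_apply, PiTensorProduct.singleAlgHom_apply, SymTen.perm_tprod]
  congr 1
  funext i
  simp only [MonoidHom.mulSingle_apply, Pi.mulSingle_apply]
  by_cases h : i = σ j
  · rw [if_pos h, if_pos]
    rw [h, Equiv.symm_apply_apply]
  · rw [if_neg h, if_neg]
    intro h'
    apply h
    rw [← h', Equiv.apply_symm_apply]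

theorem isInv_symm (S : Type u) [CommSemiring S] [Algebra A S]
    (q : S ⊗[A] (⨂[A] _ : Fin d, P)) :
    IsInv A P d S ((SymTen.symmLaw A P d).law.toFun' S q) := by
  intro σ
  rw [perm_lTensor_eq, symm_toFun', map_prod]
  have h1 : ∀ τ : Equiv.Perm (Fin d),
      Algebra.TensorProduct.map (AlgHom.id S S) (SymTen.perm A P d σ)
        (Algebra.TensorProduct.map (AlgHom.id S S) (SymTen.perm A P d τ) q) =
      Algebra.TensorProduct.map (AlgHom.id S S) (SymTen.perm A P d (σ * τ)) q :=
    fun τ => map_map_eq' _ _ _ (fun p => perm_perm d σ τ p) q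
  rw [Finset.prod_congr rfl (fun τ _ => h1 τ)]
  exact Equiv.prod_comp (Equiv.mulLeft σ)
    (fun τ => Algebra.TensorProduct.map (AlgHom.id S S) (SymTen.perm A P d τ) q)

theorem isInv_tpow (S : Type u) [CommSemiring S] [Algebra A S] (x : S ⊗[A] P) :
    IsInv A P d S ((SymTen.tpowLaw A P d).law.toFun' S x) := by
  intro σ
  rw [perm_lTensor_eq, tpow_toFun', map_prod]
  have h1 : ∀ j : Fin d,
      Algebra.TensorProduct.map (AlgHom.id S S) (SymTen.perm A P d σ)
        (Algebra.TensorProduct.map (AlgHom.id S S)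
          (PiTensorProduct.singleAlgHom (R := A) (A := fun _ : Fin d => P) j) x) =
      Algebra.TensorProduct.map (AlgHom.id S S)
          (PiTensorProduct.singleAlgHom (R := A) (A := fun _ : Fin d => P) (σ j)) x :=
    fun j => map_map_eq' _ _ _ (fun p => perm_single d σ j p) x
  rw [Finset.prod_congr rfl (fun j _ => h1 j)]
  exact Equiv.prod_comp σ
    (fun j => Algebra.TensorProduct.map (AlgHom.id S S)
      (PiTensorProduct.singleAlgHom (R := A) (A := fun _ : Fin d => P) j) x)

theorem lTensor_smul' {N N' : Type*} [AddCommGroup N] [Module A N] [AddCommGroup N']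
    [Module A N'] (L : N →ₗ[A] N') (s : S) (w : S ⊗[A] N) :
    L.lTensor S (s • w) = s • L.lTensor S w := by
  induction w using TensorProduct.induction_on with
  | zero => simp only [smul_zero, map_zero]
  | tmul t q =>
    rw [TensorProduct.smul_tmul', LinearMap.lTensor_tmul, LinearMap.lTensor_tmul,
      TensorProduct.smul_tmul']
  | add x y hx hy => simp only [smul_add, map_add, hx, hy]

end Inv

section MulInv
variable {A : Type u} [CommRing A] {P : Type u} [CommRing P] [Algebra A P] {M : Type u}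
  (b : Module.Basis M A P) (d : ℕ)

include b in
theorem natS {N : Type*} [AddCommGroup N] [Module A N] (L L' : (⨂[A] _ : Fin d, P) →ₗ[A] N)
    (hLL : ∀ u ∈ SymTen.TS A P d, L u = L' u) {S : Type u} [CommSemiring S] [Algebra A S]
    (w : S ⊗[A] (⨂[A] _ : Fin d, P)) (hw : IsInv A P d S w) :
    L.lTensor S w = L'.lTensor S w := by
  obtain ⟨n, s, u, hu, rfl⟩ := dec b d w hw
  rw [map_sum, map_sum]
  apply Finset.sum_congr rfl
  intro i _
  rw [LinearMap.lTensor_tmul, LinearMap.lTensor_tmul, hLL _ (hu i)]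

include b in
theorem lTensor_mul_of_inv {R : Type u} [CommRing R] [Algebra A R]
    (L : (⨂[A] _ : Fin d, P) →ₗ[A] R)
    (hmul : ∀ u u', u ∈ SymTen.TS A P d → u' ∈ SymTen.TS A P d → L (u * u') = L u * L u')
    {S : Type u} [CommSemiring S] [Algebra A S] (w w' : S ⊗[A] (⨂[A] _ : Fin d, P))
    (hw : IsInv A P d S w) (hw' : IsInv A P d S w') :
    L.lTensor S (w * w') = L.lTensor S w * L.lTensor S w' := by
  obtain ⟨n, s, u, hu, rfl⟩ := dec b d w hw
  obtain ⟨n', s', u', hu', rfl⟩ := dec b d w' hw'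
  rw [Finset.sum_mul_sum]
  simp only [map_sum]
  rw [Finset.sum_mul_sum]
  apply Finset.sum_congr rfl
  intro i _
  apply Finset.sum_congr rfl
  intro i' _
  rw [Algebra.TensorProduct.tmul_mul_tmul, LinearMap.lTensor_tmul, LinearMap.lTensor_tmul,
    LinearMap.lTensor_tmul, Algebra.TensorProduct.tmul_mul_tmul, hmul _ _ (hu i) (hu' i')]

theorem lTensor_one_of {R : Type u} [CommRing R] [Algebra A R]
    (L : (⨂[A] _ : Fin d, P) →ₗ[A] R) (h1 : L 1 = 1) (S : Type u) [CommSemiring S]
    [Algebra A S] : L.lTensor S (1 : S ⊗[A] (⨂[A] _ : Fin d, P)) = 1 := by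
  rw [Algebra.TensorProduct.one_def, LinearMap.lTensor_tmul, h1, Algebra.TensorProduct.one_def]

include b in
theorem lTensor_pow_of_inv {R : Type u} [CommRing R] [Algebra A R]
    (L : (⨂[A] _ : Fin d, P) →ₗ[A] R) (h1 : L 1 = 1)
    (hmul : ∀ u u', u ∈ SymTen.TS A P d → u' ∈ SymTen.TS A P d → L (u * u') = L u * L u')
    {S : Type u} [CommSemiring S] [Algebra A S] (w : S ⊗[A] (⨂[A] _ : Fin d, P))
    (hw : IsInv A P d S w) (k : ℕ) :
    L.lTensor S (w ^ k) = (L.lTensor S w) ^ k := by
  induction k with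
  | zero => rw [pow_zero, pow_zero, lTensor_one_of d L h1]
  | succ k ih =>
    rw [pow_succ, pow_succ, lTensor_mul_of_inv b d L hmul _ _ (isInv_pow d hw k) hw, ih]

/-- the multiplicative law `L ∘ E` for a law `E` with invariant values and a linear map `L` which
is multiplicative on symmetric tensors -/
noncomputable def lawOfInv {X R : Type u} [CommRing X] [Algebra A X] [CommRing R] [Algebra A R]
    {e : ℕ} (E : PolLaw.MulLaw A X (⨂[A] _ : Fin d, P) e)
    (hE : ∀ (S : Type u) [CommSemiring S] [Algebra A S] (x : S ⊗[A] X),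
      IsInv A P d S (E.law.toFun' S x))
    (L : (⨂[A] _ : Fin d, P) →ₗ[A] R) (h1 : L 1 = 1)
    (hmul : ∀ u u', u ∈ SymTen.TS A P d → u' ∈ SymTen.TS A P d → L (u * u') = L u * L u') :
    PolLaw.MulLaw A X R e where
  law := PolLaw.postcomp L E.law
  homog S _ _ s x := by
    show L.lTensor S (E.law.toFun' S (s • x)) = s ^ e • L.lTensor S (E.law.toFun' S x)
    rw [E.homog S s x, lTensor_smul']
  mult S _ _ := by
    refine ⟨?_, fun x y => ?_⟩
    · show L.lTensor S (E.law.toFun' S 1) = 1
      rw [(E.mult S).1, lTensor_one_of d L h1]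
    · show L.lTensor S (E.law.toFun' S (x * y)) =
        L.lTensor S (E.law.toFun' S x) * L.lTensor S (E.law.toFun' S y)
      rw [(E.mult S).2 x y, lTensor_mul_of_inv b d L hmul _ _ (hE S x) (hE S y)]

theorem lawOfInv_toFun' {X R : Type u} [CommRing X] [Algebra A X] [CommRing R] [Algebra A R]
    {e : ℕ} (E : PolLaw.MulLaw A X (⨂[A] _ : Fin d, P) e)
    (hE : ∀ (S : Type u) [CommSemiring S] [Algebra A S] (x : S ⊗[A] X),
      IsInv A P d S (E.law.toFun' S x))
    (L : (⨂[A] _ : Fin d, P) →ₗ[A] R) (h1 : L 1 = 1)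
    (hmul : ∀ u u', u ∈ SymTen.TS A P d → u' ∈ SymTen.TS A P d → L (u * u') = L u * L u')
    (S : Type u) [CommSemiring S] [Algebra A S] (x : S ⊗[A] X) :
    (lawOfInv b d E hE L h1 hmul).law.toFun' S x = L.lTensor S (E.law.toFun' S x) := rfl

end MulInv

section PolyExt
variable (A : Type u) [CommRing A] {P : Type u} [CommRing P] [Algebra A P]

/-- evaluation `P[Y] → P` at `p` as an `A`-algebra map -/
noncomputable def evp (p : P) : Polynomial P →ₐ[A] P :=
  (Polynomial.aeval p : Polynomial P →ₐ[P] P).restrictScalars A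

/-- constants `P → P[Y]` as an `A`-algebra map -/
noncomputable def incP : P →ₐ[A] Polynomial P := Polynomial.CAlgHom

theorem evp_X (p : P) : evp A p Polynomial.X = p := Polynomial.aeval_X p

theorem evp_C (p q : P) : evp A p (Polynomial.C q) = q := by
  show Polynomial.aeval p (Polynomial.C q) = q
  rw [Polynomial.aeval_C]
  rfl

theorem evp_comp_inc (p : P) : (evp A p).comp (incP A) = AlgHom.id A P := by
  apply AlgHom.ext
  intro q
  exact evp_C A p q

variable {A}

theorem pi_evp {B : Type u} [CommRing B] [Algebra A B] (π : P →ₐ[A] B) (p : P) (hp : π p = 0) :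
    π.comp (evp A p) = π.comp (evp A 0) := by
  apply Polynomial.algHom_ext'
  · apply AlgHom.ext
    intro q
    show π (evp A p (Polynomial.C q)) = π (evp A 0 (Polynomial.C q))
    rw [evp_C, evp_C]
  · show π (evp A p Polynomial.X) = π (evp A 0 Polynomial.X)
    rw [evp_X, evp_X, hp, map_zero]

/-- the induced basis of `P[Y]` -/
noncomputable def bPoly {M : Type u} (b : Module.Basis M A P) :
    Module.Basis (M × ℕ) A (Polynomial P) :=
  b.smulTower (Polynomial.basisMonomials P)

theorem lTensor_tmap_tmap {P' : Type u} [CommRing P'] [Algebra A P'] (d : ℕ)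
    (g : P' →ₐ[A] P) (f : P →ₐ[A] P') (hgf : g.comp f = AlgHom.id A P) (S : Type u)
    [CommSemiring S] [Algebra A S] (x : S ⊗[A] (⨂[A] _ : Fin d, P)) :
    (SymTen.tmap A d g).toLinearMap.lTensor S ((SymTen.tmap A d f).toLinearMap.lTensor S x) = x := by
  rw [← LinearMap.lTensor_comp_apply]
  have h : (SymTen.tmap A d g).toLinearMap ∘ₗ (SymTen.tmap A d f).toLinearMap = LinearMap.id := by
    apply LinearMap.ext
    intro t
    show SymTen.tmap A d g (SymTen.tmap A d f t) = t
    rw [tmap_comp, hgf, tmap_id]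
  rw [h, LinearMap.lTensor_id, LinearMap.id_apply]

end PolyExt

section T4
variable {A : Type u} [CommRing A] {P : Type u} [CommRing P] [Algebra A P] {M : Type u}
  (b : Module.Basis M A P) {B : Type u} [CommRing B] [Algebra A B] (π : P →ₐ[A] B)
  {G : Type u} [CommRing G] [Algebra A G] {d : ℕ} (γ : PolLaw.MulLaw A B G d)

theorem thetaT_ker (p : P) (hp : π p = 0) (j : Fin d) (S : Type u) [CommSemiring S]
    [Algebra A S] (x w : S ⊗[A] (⨂[A] _ : Fin d, P)) :
    (thetaT b π γ).lTensor S ((SymTen.symmLaw A P d).law.toFun' S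
        (x + w * ((1 : S) ⊗ₜ[A]
          PiTensorProduct.singleAlgHom (R := A) (A := fun _ : Fin d => P) j p))) =
      (thetaT b π γ).lTensor S ((SymTen.symmLaw A P d).law.toFun' S x) := by
  obtain ⟨z, hz⟩ : ∃ z : S ⊗[A] (⨂[A] _ : Fin d, Polynomial P), z =
      (SymTen.tmap A d (incP A)).toLinearMap.lTensor S x +
      (SymTen.tmap A d (incP A)).toLinearMap.lTensor S w *
        ((1 : S) ⊗ₜ[A] PiTensorProduct.singleAlgHom (R := A)
          (A := fun _ : Fin d => Polynomial P) j Polynomial.X) := ⟨_, rfl⟩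
  have key : ∀ r : P, π r = 0 →
      (thetaT b π γ).lTensor S ((SymTen.symmLaw A P d).law.toFun' S
        (x + w * ((1 : S) ⊗ₜ[A]
          PiTensorProduct.singleAlgHom (R := A) (A := fun _ : Fin d => P) j r))) =
      (thetaT (bPoly b) (π.comp (evp A 0)) γ).lTensor S
        ((SymTen.symmLaw A (Polynomial P) d).law.toFun' S z) := by
    intro r hr
    have hz' : (SymTen.tmap A d (evp A r)).toLinearMap.lTensor S z =
        x + w * ((1 : S) ⊗ₜ[A]
          PiTensorProduct.singleAlgHom (R := A) (A := fun _ : Fin d => P) j r) := by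
      rw [hz, map_add, lT_mul, lTensor_tmap_tmap d _ _ (evp_comp_inc A r),
        lTensor_tmap_tmap d _ _ (evp_comp_inc A r), LinearMap.lTensor_tmul,
        AlgHom.toLinearMap_apply, tmap_single, evp_X]
    rw [← hz', ← symm_nat, ← LinearMap.lTensor_comp_apply]
    exact natS (bPoly b) d _ _
      (fun u hu => nat_thetaT b π γ (bPoly b) (π.comp (evp A 0)) (evp A r) (pi_evp π r hr) u hu)
      _ (isInv_symm d S z)
  rw [key p hp]
  have h0 := key 0 (map_zero π)
  rw [map_zero, TensorProduct.tmul_zero, mul_zero, add_zero] at h0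
  exact h0.symm

end T4

end Groth.Agent.Helper22.GF
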