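import Groth.Agent.Lib.Helper22.GF07

set_option maxHeartbeats 1600000

universe u
open scoped TensorProduct
open Classical

namespace Groth.Agent.Helper22.GF

section Descent
variable {A : Type u} [CommRing A] {Q T R : Type u} [CommRing Q] [Algebra A Q] [CommRing T]
  [Algebra A T] [CommRing R] [Algebra A R]

theorem ker_sum_invariant (G : Q →ₚₗ[A] R) {S : Type u} [CommSemiring S] [Algebra A S]
    {ι : Type*} (t : Finset ι) (s : ι → S) (k : ι → Q)
    (hk : ∀ i ∈ t, k i ∈ PolLaw.ker G) (x : S ⊗[A] Q) :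
    G.toFun' S (x + ∑ i ∈ t, s i ⊗ₜ[A] k i) = G.toFun' S x := by
  induction t using Finset.induction_on with
  | empty => rw [Finset.sum_empty, add_zero]
  | insert a t ha ih =>
    have hka : ∀ (S : Type u) [CommSemiring S] [Algebra A S] (x w : S ⊗[A] Q),
        G.toFun' S (x + w * ((1 : S) ⊗ₜ[A] k a)) = G.toFun' S x :=
      hk a (Finset.mem_insert_self a t)
    have h1 : s a ⊗ₜ[A] k a = (s a ⊗ₜ[A] (1 : Q)) * ((1 : S) ⊗ₜ[A] k a) := by
      rw [Algebra.TensorProduct.tmul_mul_tmul, mul_one, one_mul]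
    rw [Finset.sum_insert ha, add_comm (s a ⊗ₜ[A] k a), ← add_assoc, h1, hka S,
      ih (fun i hi => hk i (Finset.mem_insert_of_mem hi))]

theorem exists_lift_ker (f : Q →ₐ[A] T) (hf : Function.Surjective f) (S : Type u)
    [CommSemiring S] [Algebra A S] (y : S ⊗[A] Q) (hy : f.toLinearMap.lTensor S y = 0) :
    ∃ v : S ⊗[A] (LinearMap.ker f.toLinearMap),
      (LinearMap.ker f.toLinearMap).subtype.lTensor S v = y := by
  letI : AddCommGroup S := Module.addCommMonoidToAddCommGroup A
  have hex := lTensor_exact S (LinearMap.exact_subtype_ker_map f.toLinearMap) hf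
  exact (hex y).mp hy

theorem descent_wd (f : Q →ₐ[A] T) (hf : Function.Surjective f) (G : Q →ₚₗ[A] R)
    (hker : ∀ q, f q = 0 → q ∈ PolLaw.ker G)
    (S : Type u) [CommSemiring S] [Algebra A S] (q q' : S ⊗[A] Q)
    (h : f.toLinearMap.lTensor S q = f.toLinearMap.lTensor S q') :
    G.toFun' S q = G.toFun' S q' := by
  have hneg : ∀ {N : Type u} [AddCommMonoid N] [Module A N] (a : N), a + (-1 : A) • a = 0 := by
    intro N _ _ a
    nth_rewrite 1 [← one_smul A a]
    rw [← add_smul, add_neg_cancel, zero_smul]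
  have hy0 : f.toLinearMap.lTensor S (q + (-1 : A) • q') = 0 := by
    rw [map_add, map_smul, h]
    exact hneg _
  obtain ⟨v, hv⟩ := exists_lift_ker f hf S _ hy0
  obtain ⟨n, s, k, hk⟩ := exists_fin_rep' (A := A) v
  have hsum : (LinearMap.ker f.toLinearMap).subtype.lTensor S v =
      ∑ i, s i ⊗ₜ[A] ((k i : LinearMap.ker f.toLinearMap) : Q) := by
    rw [hk, map_sum]
    apply Finset.sum_congr rfl
    intro i _
    rw [LinearMap.lTensor_tmul, Submodule.subtype_apply]
  have hq : q = q' + ∑ i, s i ⊗ₜ[A] ((k i : LinearMap.ker f.toLinearMap) : Q) := by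
    rw [← hsum, hv, add_comm q, ← add_assoc, hneg q', zero_add]
  rw [hq]
  exact ker_sum_invariant G Finset.univ s _ (fun i _ => hker _ (k i).2) q'

theorem exists_descent {e : ℕ} (f : Q →ₐ[A] T) (hf : Function.Surjective f)
    (G : PolLaw.MulLaw A Q R e) (hker : ∀ q, f q = 0 → q ∈ PolLaw.ker G.law) :
    ∃ Gb : PolLaw.MulLaw A T R e, ∀ (S : Type u) [CommSemiring S] [Algebra A S]
      (q : S ⊗[A] Q), Gb.law.toFun' S (f.toLinearMap.lTensor S q) = G.law.toFun' S q := by
  have hsurj : ∀ (S : Type u) [CommSemiring S] [Algebra A S],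
      Function.Surjective (f.toLinearMap.lTensor S) :=
    fun S _ _ => LinearMap.lTensor_surjective S hf
  have key : ∀ (S : Type u) [CommSemiring S] [Algebra A S] (q : S ⊗[A] Q),
      G.law.toFun' S (Function.surjInv (hsurj S) (f.toLinearMap.lTensor S q)) =
        G.law.toFun' S q :=
    fun S _ _ q => descent_wd f hf G.law hker S _ _ (Function.surjInv_eq (hsurj S) _)
  have hcompat : ∀ {S : Type u} [CommSemiring S] [Algebra A S] {S' : Type u} [CommSemiring S']
      [Algebra A S'] (φ : S →ₐ[A] S'),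
      (φ.toLinearMap.rTensor R ∘ fun z => G.law.toFun' S (Function.surjInv (hsurj S) z)) =
      (fun z => G.law.toFun' S' (Function.surjInv (hsurj S') z)) ∘ φ.toLinearMap.rTensor T := by
    intro S _ _ S' _ _ φ
    funext z
    obtain ⟨q, rfl⟩ := hsurj S z
    simp only [Function.comp_apply]
    have h1 : φ.toLinearMap.rTensor T (f.toLinearMap.lTensor S q) =
        f.toLinearMap.lTensor S' (φ.toLinearMap.rTensor Q q) := by
      rw [← LinearMap.comp_apply, ← LinearMap.comp_apply, LinearMap.rTensor_comp_lTensor,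
        LinearMap.lTensor_comp_rTensor]
    rw [key S q, h1, key S' _, PolynomialLaw.isCompat_apply']
  refine ⟨⟨⟨fun S _ _ z => G.law.toFun' S (Function.surjInv (hsurj S) z), hcompat⟩, ?_, ?_⟩,
    fun S _ _ q => key S q⟩
  · intro S _ _ s z
    obtain ⟨q, rfl⟩ := hsurj S z
    show G.law.toFun' S (Function.surjInv (hsurj S) (s • f.toLinearMap.lTensor S q)) =
      s ^ e • G.law.toFun' S (Function.surjInv (hsurj S) (f.toLinearMap.lTensor S q))
    rw [← lTensor_smul', key, key, G.homog]
  · intro S _ _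
    refine ⟨?_, fun z z' => ?_⟩
    · show G.law.toFun' S (Function.surjInv (hsurj S) 1) = 1
      rw [← lT_one f S, key, (G.mult S).1]
    · obtain ⟨q, rfl⟩ := hsurj S z
      obtain ⟨q', rfl⟩ := hsurj S z'
      show G.law.toFun' S (Function.surjInv (hsurj S)
          (f.toLinearMap.lTensor S q * f.toLinearMap.lTensor S q')) =
        G.law.toFun' S (Function.surjInv (hsurj S) (f.toLinearMap.lTensor S q)) *
          G.law.toFun' S (Function.surjInv (hsurj S) (f.toLinearMap.lTensor S q'))
      rw [← lT_mul, key, key, key, (G.mult S).2]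

end Descent

section KerTmap
variable {A : Type u} [CommRing A] {P B : Type u} [CommRing P] [Algebra A P] [CommRing B]
  [Algebra A B] (d : ℕ) (π : P →ₐ[A] B) (hπ : Function.Surjective π)

/-- ideal generated by the kernels in each slot -/
def Jid : Ideal (⨂[A] _ : Fin d, P) :=
  Ideal.span {q | ∃ (j : Fin d) (p : P), π p = 0 ∧
    q = PiTensorProduct.singleAlgHom (R := A) (A := fun _ : Fin d => P) j p}

/-- the `j`-th structure map `B → T^d(P)/J` -/
noncomputable def gj (j : Fin d) : B →ₐ[A] (⨂[A] _ : Fin d, P) ⧸ Jid d π :=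
  AlgHom.liftOfSurjective π hπ
    ((Ideal.Quotient.mkₐ A (Jid d π)).comp
      (PiTensorProduct.singleAlgHom (R := A) (A := fun _ : Fin d => P) j)) (by
    intro p hp
    rw [RingHom.mem_ker] at hp ⊢
    show Ideal.Quotient.mk (Jid d π)
      (PiTensorProduct.singleAlgHom (R := A) (A := fun _ : Fin d => P) j p) = 0
    rw [Ideal.Quotient.eq_zero_iff_mem]
    exact Ideal.subset_span ⟨j, p, hp, rfl⟩)

theorem gj_apply (j : Fin d) (p : P) :
    gj d π hπ j (π p) = Ideal.Quotient.mk (Jid d π)
      (PiTensorProduct.singleAlgHom (R := A) (A := fun _ : Fin d => P) j p) :=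
  AlgHom.liftOfSurjective_apply π hπ _ _ p

/-- the inverse map `T^d(B) → T^d(P)/J` -/
noncomputable def Lam : (⨂[A] _ : Fin d, B) →ₐ[A] (⨂[A] _ : Fin d, P) ⧸ Jid d π :=
  PiTensorProduct.liftAlgHom
    ((MultilinearMap.mkPiAlgebra A (Fin d) ((⨂[A] _ : Fin d, P) ⧸ Jid d π)).compLinearMap
      (fun j => (gj d π hπ j).toLinearMap))
    (by simp [MultilinearMap.mkPiAlgebra_apply])
    (by intro x y; simp [MultilinearMap.mkPiAlgebra_apply, Finset.prod_mul_distrib])

theorem Lam_tprod (c : Fin d → B) :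
    Lam d π hπ (PiTensorProduct.tprod A c) = ∏ j, gj d π hπ j (c j) := by
  unfold Lam
  rw [PiTensorProduct.liftAlgHom_apply, PiTensorProduct.lift.tprod]
  simp [MultilinearMap.mkPiAlgebra_apply]

theorem Lam_tmap (q : ⨂[A] _ : Fin d, P) :
    Lam d π hπ (SymTen.tmap A d π q) = Ideal.Quotient.mk (Jid d π) q := by
  have h : (Lam d π hπ).comp (SymTen.tmap A d π) = Ideal.Quotient.mkₐ A (Jid d π) := by
    apply PiTensorProduct.algHom_ext
    intro j
    apply AlgHom.ext
    intro p
    rw [AlgHom.comp_apply, AlgHom.comp_apply, AlgHom.comp_apply, tmap_single,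
      PiTensorProduct.singleAlgHom_apply, Lam_tprod, Finset.prod_eq_single j]
    · simp only [MonoidHom.mulSingle_apply, Pi.mulSingle_eq_same]
      exact gj_apply d π hπ j p
    · intro i _ hi
      simp only [MonoidHom.mulSingle_apply, Pi.mulSingle_eq_of_ne hi, map_one]
    · intro h
      exact absurd (Finset.mem_univ j) h
  exact AlgHom.congr_fun h q

include hπ in
theorem ker_tmap_le (q : ⨂[A] _ : Fin d, P) (hq : SymTen.tmap A d π q = 0) : q ∈ Jid d π := by
  rw [← Ideal.Quotient.eq_zero_iff_mem, ← Lam_tmap d π hπ, hq, map_zero]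

include hπ in
theorem tmap_surjective : Function.Surjective (SymTen.tmap A d π) := by
  intro t
  induction t using PiTensorProduct.induction_on with
  | smul_tprod r c =>
    refine ⟨r • PiTensorProduct.tprod A (fun j => Function.surjInv hπ (c j)), ?_⟩
    rw [map_smul, SymTen.tmap_tprod]
    simp only [Function.surjInv_eq]
  | add x y hx hy =>
    obtain ⟨x', rfl⟩ := hx
    obtain ⟨y', rfl⟩ := hy
    exact ⟨x' + y', map_add _ _ _⟩

end KerTmap

end Groth.Agent.Helper22.GF
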