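import Groth.Agent.Lib.Helper22.GF08

set_option maxHeartbeats 1600000

universe u
open scoped TensorProduct
open Classical

namespace Groth.Agent.Helper22.GF

section FT
variable {A : Type u} [CommRing A] {P : Type u} [CommRing P] [Algebra A P] {M : Type u}
  (b : Module.Basis M A P) {B : Type u} [CommRing B] [Algebra A B] (π : P →ₐ[A] B)
  (hπ : Function.Surjective π)
  {G : Type u} [CommRing G] [Algebra A G] {d : ℕ} (γ : PolLaw.MulLaw A B G d)

/-- the law `θ̃ ∘ N` on `T^d(P)` -/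
noncomputable def Fprime : PolLaw.MulLaw A (⨂[A] _ : Fin d, P) G d.factorial :=
  lawOfInv b d (SymTen.symmLaw A P d) (fun S _ _ x => isInv_symm d S x) (thetaT b π γ)
    (thetaT_one b π γ) (fun _ _ hu hu' => thetaT_mul b π γ hu hu')

theorem Fprime_toFun' (S : Type u) [CommSemiring S] [Algebra A S]
    (q : S ⊗[A] (⨂[A] _ : Fin d, P)) :
    (Fprime b π γ).law.toFun' S q =
      (thetaT b π γ).lTensor S ((SymTen.symmLaw A P d).law.toFun' S q) := rfl

include hπ in
theorem Fprime_ker (q : ⨂[A] _ : Fin d, P) (hq : SymTen.tmap A d π q = 0) :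
    q ∈ PolLaw.ker (Fprime b π γ).law := by
  have h1 := ker_tmap_le d π hπ q hq
  have h2 : Jid d π ≤ PolLaw.ker (Fprime b π γ).law := by
    unfold Jid
    rw [Ideal.span_le]
    rintro _ ⟨j, p, hp, rfl⟩
    show ∀ (S : Type u) [CommSemiring S] [Algebra A S] (x w : S ⊗[A] (⨂[A] _ : Fin d, P)),
      (Fprime b π γ).law.toFun' S (x + w * ((1 : S) ⊗ₜ[A]
        PiTensorProduct.singleAlgHom (R := A) (A := fun _ : Fin d => P) j p)) =
      (Fprime b π γ).law.toFun' S x
    intro S _ _ x w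
    exact thetaT_ker b π γ p hp j S x w
  exact h2 h1

include hπ in
theorem exists_FT : ∃ F : PolLaw.MulLaw A (⨂[A] _ : Fin d, B) G d.factorial,
    ∀ (S : Type u) [CommSemiring S] [Algebra A S] (q : S ⊗[A] (⨂[A] _ : Fin d, P)),
      F.law.toFun' S ((SymTen.tmap A d π).toLinearMap.lTensor S q) =
        (Fprime b π γ).law.toFun' S q :=
  exists_descent (SymTen.tmap A d π) (tmap_surjective d π hπ) (Fprime b π γ)
    (Fprime_ker b π hπ γ)

include hπ in
theorem FT_law (φT : G →ₗ[A] (⨂[A] _ : Fin d, B))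
    (hφ : ∀ (S : Type u) [CommSemiring S] [Algebra A S] (y : S ⊗[A] B),
      φT.lTensor S (γ.law.toFun' S y) = (SymTen.tpowLaw A B d).law.toFun' S y)
    (F : PolLaw.MulLaw A (⨂[A] _ : Fin d, B) G d.factorial)
    (hF : ∀ (S : Type u) [CommSemiring S] [Algebra A S] (q : S ⊗[A] (⨂[A] _ : Fin d, P)),
      F.law.toFun' S ((SymTen.tmap A d π).toLinearMap.lTensor S q) =
        (Fprime b π γ).law.toFun' S q)
    (S : Type u) [CommSemiring S] [Algebra A S] (z : S ⊗[A] (⨂[A] _ : Fin d, B)) :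
    φT.lTensor S (F.law.toFun' S z) = (SymTen.symmLaw A B d).law.toFun' S z := by
  obtain ⟨q, rfl⟩ := LinearMap.lTensor_surjective S (g := (SymTen.tmap A d π).toLinearMap)
    (tmap_surjective d π hπ) z
  rw [hF, Fprime_toFun', ← symm_nat, ← LinearMap.lTensor_comp_apply]
  exact natS b d _ _ (fun u hu => T3 b π γ φT hφ u hu) _ (isInv_symm d S q)

theorem lid_lTensor {N N' : Type*} [AddCommGroup N] [Module A N] [AddCommGroup N'] [Module A N']
    (L : N →ₗ[A] N') (w : A ⊗[A] N) :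
    TensorProduct.lid A N' (L.lTensor A w) = L (TensorProduct.lid A N w) := by
  induction w using TensorProduct.induction_on with
  | zero => simp only [map_zero]
  | tmul a n =>
    rw [LinearMap.lTensor_tmul, TensorProduct.lid_tmul, TensorProduct.lid_tmul, map_smul]
  | add x y hx hy => simp only [map_add, hx, hy]

include hπ in
theorem FT_ground (φT : G →ₗ[A] (⨂[A] _ : Fin d, B))
    (hφ : ∀ (S : Type u) [CommSemiring S] [Algebra A S] (y : S ⊗[A] B),
      φT.lTensor S (γ.law.toFun' S y) = (SymTen.tpowLaw A B d).law.toFun' S y)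
    (F : PolLaw.MulLaw A (⨂[A] _ : Fin d, B) G d.factorial)
    (hF : ∀ (S : Type u) [CommSemiring S] [Algebra A S] (q : S ⊗[A] (⨂[A] _ : Fin d, P)),
      F.law.toFun' S ((SymTen.tmap A d π).toLinearMap.lTensor S q) =
        (Fprime b π γ).law.toFun' S q)
    (z : ⨂[A] _ : Fin d, B) :
    φT (F.law.ground z) = ∏ σ : Equiv.Perm (Fin d), SymTen.perm A B d σ z := by
  have h := FT_law b π hπ γ φT hφ F hF A ((1 : A) ⊗ₜ[A] z)
  rw [symm_toFun'] at h
  have h2 : ∀ σ : Equiv.Perm (Fin d),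
      Algebra.TensorProduct.map (AlgHom.id A A) (SymTen.perm A B d σ) ((1 : A) ⊗ₜ[A] z) =
        (1 : A) ⊗ₜ[A] SymTen.perm A B d σ z := fun σ => by
    rw [Algebra.TensorProduct.map_tmul]
    rfl
  rw [Finset.prod_congr rfl (fun σ _ => h2 σ), tmul_prod', Finset.prod_const_one] at h
  have h3 := congrArg (TensorProduct.lid A (⨂[A] _ : Fin d, B)) h
  rw [lid_lTensor, TensorProduct.lid_tmul, one_smul] at h3
  rw [PolynomialLaw.ground_apply]
  exact h3

end FT

section Final
variable {A B G : Type u} [CommRing A] [CommRing B] [Algebra A B] [CommRing G] [Algebra A G]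

/-- the canonical presentation of `B` -/
noncomputable def piB (A B : Type u) [CommRing A] [CommRing B] [Algebra A B] :
    MvPolynomial B A →ₐ[A] B := MvPolynomial.aeval id

theorem piB_surj : Function.Surjective (piB A B) := fun x =>
  ⟨MvPolynomial.X x, by unfold piB; rw [MvPolynomial.aeval_X]; rfl⟩

theorem hphi_of {d : ℕ} (γ : PolLaw.MulLaw A B G d) (φT : G →ₗ[A] (⨂[A] _ : Fin d, B))
    (hφ : ∀ (S : Type u) [CommSemiring S] [Algebra A S] (n : ℕ) (s : Fin n → S) (b : Fin n → B),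
      φT.lTensor S (γ.law.toFun' S (∑ j, s j ⊗ₜ[A] b j)) =
        ∑ c : Fin d → Fin n, (∏ i, s (c i)) ⊗ₜ[A] PiTensorProduct.tprod A (fun i => b (c i)))
    (S : Type u) [CommSemiring S] [Algebra A S] (y : S ⊗[A] B) :
    φT.lTensor S (γ.law.toFun' S y) = (SymTen.tpowLaw A B d).law.toFun' S y := by
  obtain ⟨n, s, e, rfl⟩ := exists_fin_rep' (A := A) y
  rw [hφ S n s e, tpow_expand, Fintype.piFinset_univ]

theorem main13396 (d : ℕ) (γ : PolLaw.MulLaw A B G d) (φ : G →ₐ[A] SymTen.TS A B d)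
    (hφ : ∀ (S : Type u) [CommSemiring S] [Algebra A S] (n : ℕ) (s : Fin n → S) (b : Fin n → B),
      ((SymTen.TS A B d).val.comp φ).toLinearMap.lTensor S
          (γ.law.toFun' S (∑ j, s j ⊗ₜ[A] b j)) =
        ∑ c : Fin d → Fin n, (∏ i, s (c i)) ⊗ₜ[A] PiTensorProduct.tprod A (fun i => b (c i))) :
    ∃ F : PolLaw.MulLaw A (⨂[A] _ : Fin d, B) G d.factorial,
      ∀ z : ⨂[A] _ : Fin d, B, ((SymTen.TS A B d).val (φ (F.law.ground z)) : ⨂[A] _ : Fin d, B) =
        ∏ σ : Equiv.Perm (Fin d), SymTen.perm A B d σ z := by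
  obtain ⟨F, hF⟩ := exists_FT (MvPolynomial.basisMonomials B A) (piB A B) piB_surj γ
  refine ⟨F, fun z => ?_⟩
  exact FT_ground (MvPolynomial.basisMonomials B A) (piB A B) piB_surj γ
    ((SymTen.TS A B d).val.comp φ).toLinearMap (hphi_of γ _ hφ) F hF z

end Final

end Groth.Agent.Helper22.GF
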