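import Groth.Agent.Lib.Helper22.GF09

set_option maxHeartbeats 1600000

universe u
open scoped TensorProduct
open Classical

namespace Groth.Agent.Helper22.GF

section Surj
variable {A : Type u} [CommRing A] {P : Type u} [CommRing P] [Algebra A P] {M : Type u}
  (b : Module.Basis M A P) {B : Type u} [CommRing B] [Algebra A B] (π : P →ₐ[A] B)
  (hπ : Function.Surjective π)
  {G : Type u} [CommRing G] [Algebra A G] {d : ℕ} (γ : PolLaw.MulLaw A B G d)

/-- `θ` as an algebra map on the symmetric tensors -/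
noncomputable def thetaAlg : ↥(SymTen.TS A P d) →ₐ[A] G :=
  AlgHom.ofLinearMap (thetaT b π γ ∘ₗ (SymTen.TS A P d).val.toLinearMap) (thetaT_one b π γ)
    (fun x y => thetaT_mul b π γ x.2 y.2)

theorem thetaAlg_apply (u : ↥(SymTen.TS A P d)) : thetaAlg b π γ u = thetaT b π γ u.1 := rfl

theorem thetaT_mem_range (q : ⨂[A] _ : Fin d, P) : thetaT b π γ q ∈ (thetaAlg b π γ).range := by
  refine ⟨⟨rhoP b d q, rhoP_mem_TS b d q⟩, ?_⟩
  show (thetaT b π γ ∘ₗ rhoP b d) q = thetaT b π γ q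
  rw [thetaT_rhoP]

/-- `θ̃` with values in the range of `θ` -/
noncomputable def thetaR : (⨂[A] _ : Fin d, P) →ₗ[A] ↥(thetaAlg b π γ).range where
  toFun q := ⟨thetaT b π γ q, thetaT_mem_range b π γ q⟩
  map_add' x y := Subtype.ext (map_add (thetaT b π γ) x y)
  map_smul' a x := Subtype.ext (map_smul (thetaT b π γ) a x)

theorem thetaR_val (q : ⨂[A] _ : Fin d, P) : ((thetaR b π γ q : ↥(thetaAlg b π γ).range) : G) =
    thetaT b π γ q := rfl

theorem thetaR_one : thetaR b π γ 1 = 1 := Subtype.ext (thetaT_one b π γ)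

theorem thetaR_mul (u u' : ⨂[A] _ : Fin d, P) (hu : u ∈ SymTen.TS A P d)
    (hu' : u' ∈ SymTen.TS A P d) : thetaR b π γ (u * u') = thetaR b π γ u * thetaR b π γ u' :=
  Subtype.ext (thetaT_mul b π γ hu hu')

theorem val_comp_thetaR :
    (thetaAlg b π γ).range.val.toLinearMap ∘ₗ thetaR b π γ = thetaT b π γ := rfl

/-- the law `P → range θ` -/
noncomputable def G0 : PolLaw.MulLaw A P ↥(thetaAlg b π γ).range d :=
  lawOfInv b d (SymTen.tpowLaw A P d) (fun S _ _ x => isInv_tpow d S x) (thetaR b π γ)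
    (thetaR_one b π γ) (thetaR_mul b π γ)

theorem G0_toFun' (S : Type u) [CommSemiring S] [Algebra A S] (x : S ⊗[A] P) :
    (G0 b π γ).law.toFun' S x =
      (thetaR b π γ).lTensor S ((SymTen.tpowLaw A P d).law.toFun' S x) := rfl

theorem lTensor_retract {P' : Type u} [CommRing P'] [Algebra A P'] (g : P' →ₐ[A] P)
    (f : P →ₐ[A] P') (hgf : g.comp f = AlgHom.id A P) (S : Type u) [CommSemiring S]
    [Algebra A S] (x : S ⊗[A] P) :
    g.toLinearMap.lTensor S (f.toLinearMap.lTensor S x) = x := by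
  rw [← LinearMap.lTensor_comp_apply, ← AlgHom.comp_toLinearMap, hgf, AlgHom.toLinearMap_id,
    LinearMap.lTensor_id, LinearMap.id_apply]

theorem G0_ker (p : P) (hp : π p = 0) : p ∈ PolLaw.ker (G0 b π γ).law := by
  show ∀ (S : Type u) [CommSemiring S] [Algebra A S] (x w : S ⊗[A] P),
    (G0 b π γ).law.toFun' S (x + w * ((1 : S) ⊗ₜ[A] p)) = (G0 b π γ).law.toFun' S x
  intro S _ _ x w
  obtain ⟨z, hz⟩ : ∃ z : S ⊗[A] Polynomial P, z =
      (incP A).toLinearMap.lTensor S x +
      (incP A).toLinearMap.lTensor S w * ((1 : S) ⊗ₜ[A] (Polynomial.X : Polynomial P)) :=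
    ⟨_, rfl⟩
  have key : ∀ r : P, π r = 0 →
      (G0 b π γ).law.toFun' S (x + w * ((1 : S) ⊗ₜ[A] r)) =
      (thetaR b π γ ∘ₗ (SymTen.tmap A d (evp A (0 : P))).toLinearMap).lTensor S
        ((SymTen.tpowLaw A (Polynomial P) d).law.toFun' S z) := by
    intro r hr
    have hz' : (evp A r).toLinearMap.lTensor S z = x + w * ((1 : S) ⊗ₜ[A] r) := by
      rw [hz, map_add, lT_mul, lTensor_retract _ _ (evp_comp_inc A r),
        lTensor_retract _ _ (evp_comp_inc A r), LinearMap.lTensor_tmul,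
        AlgHom.toLinearMap_apply, evp_X]
    rw [← hz', G0_toFun', ← tpow_nat, ← LinearMap.lTensor_comp_apply]
    apply natS (bPoly b) d _ _ _ _ (isInv_tpow d S z)
    intro u hu
    apply Subtype.ext
    show thetaT b π γ (SymTen.tmap A d (evp A r) u) = thetaT b π γ (SymTen.tmap A d (evp A 0) u)
    rw [nat_thetaT b π γ (bPoly b) (π.comp (evp A 0)) (evp A r) (pi_evp π r hr) u hu,
      nat_thetaT b π γ (bPoly b) (π.comp (evp A 0)) (evp A 0) rfl u hu]
  rw [key p hp]
  have h0 := key 0 (map_zero π)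
  rw [TensorProduct.tmul_zero, mul_zero, add_zero] at h0
  exact h0.symm

include hπ in
theorem thetaT_surj (hγ : PolLaw.IsGammaD γ) (c : G) :
    ∃ u ∈ SymTen.TS A P d, thetaT b π γ u = c := by
  obtain ⟨γ', hγ'⟩ := exists_descent π hπ (G0 b π γ) (G0_ker b π γ)
  -- val ∘ γ' = γ
  have hval : PolLaw.postcomp (thetaAlg b π γ).range.val.toLinearMap γ'.law = γ.law := by
    ext S _ _ y
    obtain ⟨x, rfl⟩ := LinearMap.lTensor_surjective S (g := π.toLinearMap) hπ y
    show (thetaAlg b π γ).range.val.toLinearMap.lTensor S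
      (γ'.law.toFun' S (π.toLinearMap.lTensor S x)) = γ.law.toFun' S (π.toLinearMap.lTensor S x)
    rw [hγ', G0_toFun', ← LinearMap.lTensor_comp_apply, val_comp_thetaR, T1_apply]
  obtain ⟨f, hf, _⟩ := hγ ↥(thetaAlg b π γ).range γ'
  have e1 : PolLaw.postcomp ((thetaAlg b π γ).range.val.comp f).toLinearMap γ.law = γ.law := by
    ext S _ _ y
    show ((thetaAlg b π γ).range.val.comp f).toLinearMap.lTensor S (γ.law.toFun' S y) =
      γ.law.toFun' S y
    rw [AlgHom.comp_toLinearMap, LinearMap.lTensor_comp_apply]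
    have hf' : f.toLinearMap.lTensor S (γ.law.toFun' S y) = γ'.law.toFun' S y :=
      congrArg (fun F : B →ₚₗ[A] ↥(thetaAlg b π γ).range => F.toFun' S y) hf
    have hval' : (thetaAlg b π γ).range.val.toLinearMap.lTensor S (γ'.law.toFun' S y) =
        γ.law.toFun' S y :=
      congrArg (fun F : B →ₚₗ[A] G => F.toFun' S y) hval
    rw [hf', hval']
  have e2 : PolLaw.postcomp (AlgHom.id A G).toLinearMap γ.law = γ.law := by
    ext S _ _ y
    show (AlgHom.id A G).toLinearMap.lTensor S (γ.law.toFun' S y) = γ.law.toFun' S y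
    rw [AlgHom.toLinearMap_id, LinearMap.lTensor_id, LinearMap.id_apply]
  have hid : (thetaAlg b π γ).range.val.comp f = AlgHom.id A G := (hγ G γ).unique e1 e2
  have hc : c ∈ (thetaAlg b π γ).range := by
    have h1 : ((thetaAlg b π γ).range.val.comp f) c = c := by rw [hid]; rfl
    rw [← h1]
    exact (f c).2
  obtain ⟨u, hu⟩ := hc
  exact ⟨u.1, u.2, hu⟩

end Surj

end Groth.Agent.Helper22.GF
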