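import Groth.Agent.Lib.Helper22.GF10

set_option maxHeartbeats 1600000

universe u
open scoped TensorProduct
open Classical

namespace Groth.Agent.Helper22.GF

section Aux
variable {A : Type u} [CommRing A]

theorem law_ext_poly {M N : Type u} [AddCommGroup M] [Module A M] [AddCommGroup N] [Module A N]
    (F F' : M →ₚₗ[A] N)
    (h : ∀ (n : ℕ) (p : MvPolynomial (Fin n) A ⊗[A] M),
      F.toFun' (MvPolynomial (Fin n) A) p = F'.toFun' (MvPolynomial (Fin n) A) p) : F = F' := by
  ext S _ _ x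
  obtain ⟨n, ψ, p, hp⟩ := PolynomialLaw.exists_lift (R := A) (M := M) x
  rw [← hp, ← PolynomialLaw.isCompat_apply', ← PolynomialLaw.isCompat_apply', h]

theorem lT_pow {Q Q' : Type u} [CommRing Q] [Algebra A Q] [CommRing Q'] [Algebra A Q']
    (F : Q →ₐ[A] Q') (S : Type u) [CommSemiring S] [Algebra A S] (a : S ⊗[A] Q) (k : ℕ) :
    F.toLinearMap.lTensor S (a ^ k) = (F.toLinearMap.lTensor S a) ^ k := by
  rw [PolLaw.lTensor_algHom_apply, PolLaw.lTensor_algHom_apply, map_pow]

end Aux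

section S97
variable {A : Type u} [CommRing A] {P : Type u} [CommRing P] [Algebra A P] {M : Type u}
  (b : Module.Basis M A P) {B : Type u} [CommRing B] [Algebra A B] (π : P →ₐ[A] B)
  (hπ : Function.Surjective π)
  {G : Type u} [CommRing G] [Algebra A G] {d : ℕ} (γ : PolLaw.MulLaw A B G d)

theorem symm_of_inv (S : Type u) [CommSemiring S] [Algebra A S]
    (w : S ⊗[A] (⨂[A] _ : Fin d, P)) (hw : IsInv A P d S w) :
    (SymTen.symmLaw A P d).law.toFun' S w = w ^ d.factorial := by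
  rw [symm_toFun']
  have h1 : ∀ σ : Equiv.Perm (Fin d),
      Algebra.TensorProduct.map (AlgHom.id S S) (SymTen.perm A P d σ) w = w := fun σ => by
    rw [← perm_lTensor_eq, hw σ]
  rw [Finset.prod_congr rfl (fun σ _ => h1 σ), Finset.prod_const, Finset.card_univ,
    Fintype.card_perm, Fintype.card_fin]

theorem isInv_val (S : Type u) [CommSemiring S] [Algebra A S] (y : S ⊗[A] ↥(SymTen.TS A P d)) :
    IsInv A P d S ((SymTen.TS A P d).val.toLinearMap.lTensor S y) := by
  intro σ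
  rw [← LinearMap.lTensor_comp_apply]
  have h : (SymTen.perm A P d σ).toLinearMap ∘ₗ (SymTen.TS A P d).val.toLinearMap =
      (SymTen.TS A P d).val.toLinearMap := by
    apply LinearMap.ext
    intro u
    show SymTen.perm A P d σ u.1 = u.1
    rw [SymTen.perm_apply]
    exact u.2 σ
  rw [h]

include b hπ in
theorem main13397_gen (hγ : PolLaw.IsGammaD γ) (φ : G →ₐ[A] SymTen.TS A B d)
    (hφ : ∀ (S : Type u) [CommSemiring S] [Algebra A S] (y : S ⊗[A] B),
      ((SymTen.TS A B d).val.comp φ).toLinearMap.lTensor S (γ.law.toFun' S y) =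
        (SymTen.tpowLaw A B d).law.toFun' S y) :
    ∃ F : PolLaw.MulLaw A (SymTen.TS A B d) G d.factorial,
      PolLaw.MulLaw.postcomp φ F = PolLaw.MulLaw.pow A (SymTen.TS A B d) d.factorial ∧
      PolLaw.MulLaw.precomp F φ = PolLaw.MulLaw.pow A G d.factorial := by
  obtain ⟨F, hF⟩ := exists_FT b π hπ γ
  have hlaw := FT_law b π hπ γ ((SymTen.TS A B d).val.comp φ).toLinearMap hφ F hF
  refine ⟨PolLaw.MulLaw.precomp F (SymTen.TS A B d).val, ?_, ?_⟩
  · apply PolLaw.MulLaw.ext
    apply law_ext_poly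
    intro n y
    show φ.toLinearMap.lTensor (MvPolynomial (Fin n) A) (F.law.toFun' (MvPolynomial (Fin n) A)
      ((SymTen.TS A B d).val.toLinearMap.lTensor (MvPolynomial (Fin n) A) y)) = y ^ d.factorial
    apply Module.Flat.lTensor_preserves_injective_linearMap (M := MvPolynomial (Fin n) A)
      (SymTen.TS A B d).val.toLinearMap Subtype.val_injective
    rw [← LinearMap.lTensor_comp_apply, ← AlgHom.comp_toLinearMap, hlaw,
      symm_of_inv _ _ (isInv_val _ y), lT_pow]
  · apply PolLaw.MulLaw.ext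
    ext S _ _ x
    show F.law.toFun' S ((SymTen.TS A B d).val.toLinearMap.lTensor S
      (φ.toLinearMap.lTensor S x)) = x ^ d.factorial
    obtain ⟨n, s, c, rfl⟩ := exists_fin_rep' (A := A) x
    choose u hu hc using fun i => thetaT_surj b π hπ γ hγ (c i)
    obtain ⟨w, hw⟩ : ∃ w : S ⊗[A] (⨂[A] _ : Fin d, P), w = ∑ i, s i ⊗ₜ[A] u i := ⟨_, rfl⟩
    have hwinv : IsInv A P d S w := by
      rw [hw]
      exact isInv_sum d _ _ (fun i _ => isInv_tmul d (s i) (u i) (hu i))
    have h1 : (thetaT b π γ).lTensor S w = ∑ i, s i ⊗ₜ[A] c i := by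
      rw [hw, map_sum]
      apply Finset.sum_congr rfl
      intro i _
      rw [LinearMap.lTensor_tmul, hc]
    have h2 : (SymTen.TS A B d).val.toLinearMap.lTensor S
        (φ.toLinearMap.lTensor S (∑ i, s i ⊗ₜ[A] c i)) =
        (SymTen.tmap A d π).toLinearMap.lTensor S w := by
      rw [← h1, ← LinearMap.lTensor_comp_apply, ← AlgHom.comp_toLinearMap,
        ← LinearMap.lTensor_comp_apply]
      exact natS b d _ _ (fun v hv => T3 b π γ _ hφ v hv) w hwinv
    rw [h2, hF, Fprime_toFun', symm_of_inv S w hwinv,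
      lTensor_pow_of_inv b d (thetaT b π γ) (thetaT_one b π γ)
        (fun _ _ hv hv' => thetaT_mul b π γ hv hv') w hwinv, h1]

end S97

section Final
variable {A B G : Type u} [CommRing A] [CommRing B] [Algebra A B] [CommRing G] [Algebra A G]

theorem main13397 (d : ℕ) (γ : PolLaw.MulLaw A B G d) (hγ : PolLaw.IsGammaD γ)
    (φ : G →ₐ[A] SymTen.TS A B d)
    (hφ : ∀ (S : Type u) [CommSemiring S] [Algebra A S] (n : ℕ) (s : Fin n → S) (b : Fin n → B),
      ((SymTen.TS A B d).val.comp φ).toLinearMap.lTensor S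
          (γ.law.toFun' S (∑ j, s j ⊗ₜ[A] b j)) =
        ∑ c : Fin d → Fin n, (∏ i, s (c i)) ⊗ₜ[A] PiTensorProduct.tprod A (fun i => b (c i))) :
    ∃ F : PolLaw.MulLaw A (SymTen.TS A B d) G d.factorial,
      PolLaw.MulLaw.postcomp φ F = PolLaw.MulLaw.pow A (SymTen.TS A B d) d.factorial ∧
      PolLaw.MulLaw.precomp F φ = PolLaw.MulLaw.pow A G d.factorial :=
  main13397_gen (MvPolynomial.basisMonomials B A) (piB A B) piB_surj γ hγ φ (hphi_of γ _ hφ)

theorem main13398 (d : ℕ) (γ : PolLaw.MulLaw A B G d) (hγ : PolLaw.IsGammaD γ)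
    (φ : G →ₐ[A] SymTen.TS A B d)
    (hφ : ∀ (S : Type u) [CommSemiring S] [Algebra A S] (n : ℕ) (s : Fin n → S) (b : Fin n → B),
      ((SymTen.TS A B d).val.comp φ).toLinearMap.lTensor S
          (γ.law.toFun' S (∑ j, s j ⊗ₜ[A] b j)) =
        ∑ c : Fin d → Fin n, (∏ i, s (c i)) ⊗ₜ[A] PiTensorProduct.tprod A (fun i => b (c i))) :
    (∀ x : G, φ x = 0 → x ^ d.factorial = 0) ∧
      (∀ y : SymTen.TS A B d, y ^ d.factorial ∈ φ.range) := by
  obtain ⟨F, h1, h2⟩ := main13397 d γ hγ φ hφ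
  constructor
  · intro x hx
    have h : F.law.toFun' A (φ.toLinearMap.lTensor A ((1 : A) ⊗ₜ[A] x)) =
        ((1 : A) ⊗ₜ[A] x) ^ d.factorial :=
      congrArg (fun L : PolLaw.MulLaw A G G d.factorial => L.law.toFun' A ((1 : A) ⊗ₜ[A] x)) h2
    rw [LinearMap.lTensor_tmul, AlgHom.toLinearMap_apply, hx, TensorProduct.tmul_zero,
      Algebra.TensorProduct.tmul_pow, one_pow] at h
    have h0 : F.law.toFun' A (0 : A ⊗[A] ↥(SymTen.TS A B d)) = 0 := by
      have := F.homog A (0 : A) (0 : A ⊗[A] ↥(SymTen.TS A B d))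
      rw [zero_smul, zero_pow (Nat.factorial_ne_zero d), zero_smul] at this
      exact this
    rw [h0] at h
    have h3 := congrArg (TensorProduct.lid A G) h
    rw [map_zero, TensorProduct.lid_tmul, one_smul] at h3
    exact h3.symm
  · intro y
    have h : φ.toLinearMap.lTensor A (F.law.toFun' A ((1 : A) ⊗ₜ[A] y)) =
        ((1 : A) ⊗ₜ[A] y) ^ d.factorial :=
      congrArg (fun L : PolLaw.MulLaw A (SymTen.TS A B d) (SymTen.TS A B d) d.factorial =>
        L.law.toFun' A ((1 : A) ⊗ₜ[A] y)) h1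
    rw [Algebra.TensorProduct.tmul_pow, one_pow] at h
    have h3 := congrArg (TensorProduct.lid A ↥(SymTen.TS A B d)) h
    rw [lid_lTensor, TensorProduct.lid_tmul, one_smul] at h3
    rw [AlgHom.mem_range]
    exact ⟨_, h3⟩

end Final

end Groth.Agent.Helper22.GF
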