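import Groth.Agent.Lib.Helper22.GF11
import Groth.Agent.Lib.Helper22.KL2

set_option maxHeartbeats 1600000
set_option autoImplicit false

universe u
open scoped TensorProduct
open Classical

namespace Groth.Agent.Helper22.GT

open Groth.Agent.Helper22.GF

section Tau
variable {A : Type u} [CommRing A] {P : Type u} [CommRing P] [Algebra A P] {M : Type u}
  (b : Module.Basis M A P) {B : Type u} [CommRing B] [Algebra A B] (π : P →ₐ[A] B)
  (hπ : Function.Surjective π) (d : ℕ)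

/-- `rho` with values in `TS` -/
noncomputable def rhoTS : (⨂[A] _ : Fin d, P) →ₗ[A] ↥(SymTen.TS A P d) :=
  LinearMap.codRestrict (Subalgebra.toSubmodule (SymTen.TS A P d)) (rhoP b d) (rhoP_mem_TS b d)

theorem rhoTS_fix (u : ↥(SymTen.TS A P d)) : rhoTS b d u.1 = u :=
  Subtype.ext (rhoP_fix_ground b d u.1 u.2)

/-- `L = TS(π) ∘ ρ : T^d(P) → TS^d(B)` -/
noncomputable def LL : (⨂[A] _ : Fin d, P) →ₗ[A] ↥(SymTen.TS A B d) :=
  (SymTen.TSmap A d π).toLinearMap ∘ₗ rhoTS b d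

theorem LL_of_mem (u : ⨂[A] _ : Fin d, P) (hu : u ∈ SymTen.TS A P d) :
    LL b π d u = SymTen.TSmap A d π ⟨u, hu⟩ := by
  show SymTen.TSmap A d π (rhoTS b d u) = _
  rw [show rhoTS b d u = ⟨u, hu⟩ from rhoTS_fix b d ⟨u, hu⟩]

theorem LL_one : LL b π d 1 = 1 := by
  rw [LL_of_mem b π d 1 (Subalgebra.one_mem _)]
  exact map_one (SymTen.TSmap A d π)

theorem LL_mul (u u' : ⨂[A] _ : Fin d, P) (hu : u ∈ SymTen.TS A P d)
    (hu' : u' ∈ SymTen.TS A P d) : LL b π d (u * u') = LL b π d u * LL b π d u' := by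
  rw [LL_of_mem b π d (u * u') (Subalgebra.mul_mem _ hu hu'), LL_of_mem b π d u hu,
    LL_of_mem b π d u' hu', ← map_mul]
  rfl

theorem val_comp_LL : (SymTen.TS A B d).val.toLinearMap ∘ₗ LL b π d =
    (SymTen.tmap A d π).toLinearMap ∘ₗ rhoP b d := rfl

/-- the law `P → TS^d(B)` -/
noncomputable def G1 : PolLaw.MulLaw A P ↥(SymTen.TS A B d) d :=
  lawOfInv b d (SymTen.tpowLaw A P d) (fun S _ _ x => isInv_tpow d S x) (LL b π d)
    (LL_one b π d) (LL_mul b π d)

theorem G1_toFun' (S : Type u) [CommSemiring S] [Algebra A S] (x : S ⊗[A] P) :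
    (G1 b π d).law.toFun' S x =
      (LL b π d).lTensor S ((SymTen.tpowLaw A P d).law.toFun' S x) := rfl

theorem G1_ker (p : P) (hp : π p = 0) : p ∈ PolLaw.ker (G1 b π d).law := by
  show ∀ (S : Type u) [CommSemiring S] [Algebra A S] (x w : S ⊗[A] P),
    (G1 b π d).law.toFun' S (x + w * ((1 : S) ⊗ₜ[A] p)) = (G1 b π d).law.toFun' S x
  intro S _ _ x w
  obtain ⟨z, hz⟩ : ∃ z : S ⊗[A] Polynomial P, z =
      (incP A).toLinearMap.lTensor S x +
      (incP A).toLinearMap.lTensor S w * ((1 : S) ⊗ₜ[A] (Polynomial.X : Polynomial P)) :=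
    ⟨_, rfl⟩
  have key : ∀ r : P, π r = 0 →
      (G1 b π d).law.toFun' S (x + w * ((1 : S) ⊗ₜ[A] r)) =
      (LL b π d ∘ₗ (SymTen.tmap A d (evp A (0 : P))).toLinearMap).lTensor S
        ((SymTen.tpowLaw A (Polynomial P) d).law.toFun' S z) := by
    intro r hr
    have hz' : (evp A r).toLinearMap.lTensor S z = x + w * ((1 : S) ⊗ₜ[A] r) := by
      rw [hz, map_add, lT_mul, lTensor_retract _ _ (evp_comp_inc A r),
        lTensor_retract _ _ (evp_comp_inc A r), LinearMap.lTensor_tmul,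
        AlgHom.toLinearMap_apply, evp_X]
    rw [← hz', G1_toFun', ← tpow_nat, ← LinearMap.lTensor_comp_apply]
    apply natS (bPoly b) d _ _ _ _ (isInv_tpow d S z)
    intro u hu
    apply Subtype.ext
    show SymTen.tmap A d π (rhoP b d (SymTen.tmap A d (evp A r) u)) =
      SymTen.tmap A d π (rhoP b d (SymTen.tmap A d (evp A 0) u))
    rw [rhoP_fix_ground b d _ (tmap_mem_TS d _ u hu), rhoP_fix_ground b d _ (tmap_mem_TS d _ u hu),
      tmap_comp, tmap_comp, pi_evp π r hr]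
  rw [key p hp]
  have h0 := key 0 (map_zero π)
  rw [TensorProduct.tmul_zero, mul_zero, add_zero] at h0
  exact h0.symm

include hπ in
/-- the law `τ : B → TS^d(B)`, `x ↦ x ⊗ ⋯ ⊗ x` -/
theorem exists_tau : ∃ τ : PolLaw.MulLaw A B ↥(SymTen.TS A B d) d,
    (∀ (S : Type u) [CommSemiring S] [Algebra A S] (x : S ⊗[A] P),
      τ.law.toFun' S (π.toLinearMap.lTensor S x) =
        (LL b π d).lTensor S ((SymTen.tpowLaw A P d).law.toFun' S x)) ∧
    (∀ (S : Type u) [CommSemiring S] [Algebra A S] (y : S ⊗[A] B),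
      (SymTen.TS A B d).val.toLinearMap.lTensor S (τ.law.toFun' S y) =
        (SymTen.tpowLaw A B d).law.toFun' S y) := by
  obtain ⟨τ, hτ⟩ := exists_descent π hπ (G1 b π d) (G1_ker b π d)
  refine ⟨τ, fun S _ _ x => by rw [hτ, G1_toFun'], ?_⟩
  intro S _ _ y
  obtain ⟨x, rfl⟩ := LinearMap.lTensor_surjective S (g := π.toLinearMap) hπ y
  rw [hτ, G1_toFun', ← LinearMap.lTensor_comp_apply, val_comp_LL, LinearMap.lTensor_comp_apply,
    rhoP_fix b d _ (isInv_tpow d S x), tpow_nat]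

end Tau

section Gam
variable {A : Type u} [CommRing A] {P : Type u} [CommRing P] [Algebra A P] {M : Type u}
  (b : Module.Basis M A P) {B : Type u} [CommRing B] [Algebra A B] (π : P →ₐ[A] B)
  (hπ : Function.Surjective π) (d : ℕ)

include hπ in
theorem isGammaD_of (τ : PolLaw.MulLaw A B ↥(SymTen.TS A B d) d)
    (hτ : ∀ (S : Type u) [CommSemiring S] [Algebra A S] (x : S ⊗[A] P),
      τ.law.toFun' S (π.toLinearMap.lTensor S x) =
        (LL b π d).lTensor S ((SymTen.tpowLaw A P d).law.toFun' S x))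
    (hα : Function.Surjective (SymTen.TSmap A d π))
    (hβ : ∀ (C' : Type u) [CommRing C'] [Algebra A C'] (F : PolLaw.MulLaw A B C' d)
      (u : ⨂[A] _ : Fin d, P), u ∈ SymTen.TS A P d → SymTen.tmap A d π u = 0 →
      thetaT b π F u = 0) :
    PolLaw.IsGammaD τ := by
  intro C' _ _ F
  have hker : RingHom.ker (SymTen.TSmap A d π).toRingHom ≤
      RingHom.ker (thetaAlg b π F).toRingHom := by
    intro u hu
    rw [RingHom.mem_ker] at hu ⊢
    have h1 : SymTen.tmap A d π u.1 = 0 := congrArg Subtype.val hu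
    exact hβ C' F u.1 u.2 h1
  obtain ⟨f, hf⟩ : ∃ f : ↥(SymTen.TS A B d) →ₐ[A] C',
      f = AlgHom.liftOfSurjective (SymTen.TSmap A d π) hα (thetaAlg b π F) hker := ⟨_, rfl⟩
  have hfT : ∀ u : ↥(SymTen.TS A P d), f (SymTen.TSmap A d π u) = thetaT b π F u.1 := by
    intro u
    rw [hf, AlgHom.liftOfSurjective_apply, thetaAlg_apply]
  have hfL : f.toLinearMap ∘ₗ LL b π d = thetaT b π F := by
    apply LinearMap.ext
    intro q
    show f (SymTen.TSmap A d π (rhoTS b d q)) = thetaT b π F q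
    rw [hfT]
    show (thetaT b π F ∘ₗ rhoP b d) q = thetaT b π F q
    rw [thetaT_rhoP]
  refine ⟨f, ?_, ?_⟩
  · show PolLaw.postcomp f.toLinearMap τ.law = F.law
    ext S _ _ y
    obtain ⟨x, rfl⟩ := LinearMap.lTensor_surjective S (g := π.toLinearMap) hπ y
    show f.toLinearMap.lTensor S (τ.law.toFun' S (π.toLinearMap.lTensor S x)) =
      F.law.toFun' S (π.toLinearMap.lTensor S x)
    rw [hτ, ← LinearMap.lTensor_comp_apply, hfL, T1_apply]
  · intro f' hf'
    have hf'' : PolLaw.postcomp f'.toLinearMap τ.law = F.law := hf'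
    apply AlgHom.ext
    intro v
    obtain ⟨u, rfl⟩ := hα v
    rw [hfT]
    have h2 := princ b d (f'.toLinearMap ∘ₗ LL b π d) (thetaT b π F) (fun s => by
      rw [LinearMap.lTensor_comp_apply, ← hτ, T1_apply]
      exact congrArg (fun G : B →ₚₗ[A] C' => G.toFun' (MvPolynomial M A)
        (π.toLinearMap.lTensor (MvPolynomial M A) (xg b s))) hf'') u.1 u.2
    rw [← h2]
    show f' (SymTen.TSmap A d π u) = f' (LL b π d u.1)
    rw [LL_of_mem b π d u.1 u.2]

end Gam

end Groth.Agent.Helper22.GT
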