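import Groth.Agent.Lib.Helper22.GT1

set_option maxHeartbeats 1600000
set_option autoImplicit false

universe u
open scoped TensorProduct
open Classical

namespace Groth.Agent.Helper22.GT

open Groth.Agent.Helper22.GF

section Flat
variable {A : Type u} [CommRing A] {P : Type u} [CommRing P] [Algebra A P] {M : Type u}
  (b : Module.Basis M A P) {B : Type u} [CommRing B] [Algebra A B] (π : P →ₐ[A] B)
  (hπ : Function.Surjective π) (d : ℕ)

theorem tmap_eq_map {P' : Type u} [CommRing P'] [Algebra A P'] (h : P →ₐ[A] P')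
    (t : ⨂[A] _ : Fin d, P) :
    SymTen.tmap A d h t = PiTensorProduct.map (fun _ : Fin d => h.toLinearMap) t := by
  induction t using PiTensorProduct.induction_on with
  | smul_tprod r c =>
    rw [map_smul, map_smul, SymTen.tmap_tprod, PiTensorProduct.map_tprod]
    rfl
  | add x y hx hy => rw [map_add, map_add, hx, hy]

include hπ in
theorem alpha_of_flat [Module.Flat A B] : Function.Surjective (SymTen.TSmap A d π) := by
  intro v
  obtain ⟨s, hs, hsv⟩ := KL.sym_lift π.toLinearMap hπ d v.1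
    ((SymTen.mem_TS_iff A B d v.1).mp v.2)
  refine ⟨⟨s, (SymTen.mem_TS_iff A P d s).mpr hs⟩, ?_⟩
  apply Subtype.ext
  show SymTen.tmap A d π s = v.1
  rw [tmap_eq_map, hsv]

include hπ in
theorem beta_of_flat [Module.Flat A B] {C' : Type u} [CommRing C'] [Algebra A C']
    (F : PolLaw.MulLaw A B C' d) (u : ⨂[A] _ : Fin d, P) (hu : u ∈ SymTen.TS A P d)
    (hu0 : SymTen.tmap A d π u = 0) : thetaT b π F u = 0 := by
  haveI : Module.Free A P := Module.Free.of_basis b
  -- step 1: represent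
  obtain ⟨m, v, ut, hut⟩ := KL.exists_rep (R := A) u
  -- step 2: symmetrize using flatness of P
  obtain ⟨k₀, a₀, y₀, h1, h2⟩ := KL.kl_fintype (N := P) d m (Finsupp.linearCombination A v)
    (fun σ : Equiv.Perm (Fin d) =>
      PiTensorProduct.reindex A (fun _ : Fin d => (Fin m →₀ A)) σ ut - ut)
    (fun σ => by
      show PiTensorProduct.map (fun _ : Fin d => Finsupp.linearCombination A v)
        (PiTensorProduct.reindex A (fun _ : Fin d => (Fin m →₀ A)) σ ut - ut) = 0
      rw [map_sub, KL.map_reindex', hut, (SymTen.mem_TS_iff A P d u).mp hu σ, sub_self])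
  obtain ⟨ut', hut'⟩ : ∃ ut' : ⨂[A] _ : Fin d, (Fin k₀ →₀ A),
      ut' = PiTensorProduct.map (fun _ : Fin d => a₀) ut := ⟨_, rfl⟩
  have hsym : ∀ σ : Equiv.Perm (Fin d),
      PiTensorProduct.reindex A (fun _ : Fin d => (Fin k₀ →₀ A)) σ ut' = ut' := by
    intro σ
    have h3 : PiTensorProduct.map (fun _ : Fin d => a₀)
        (PiTensorProduct.reindex A (fun _ : Fin d => (Fin m →₀ A)) σ ut - ut) = 0 := h2 σ
    rw [map_sub, sub_eq_zero, KL.map_reindex'] at h3
    rw [hut']
    exact h3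
  have hy₀ : PiTensorProduct.map (fun _ : Fin d => y₀) ut' = u := by
    rw [hut', KL.map_map', ← h1, hut]
  -- step 3: the criterion on `B`
  obtain ⟨k₁, a, f₁, h3, h4⟩ := KL.kl_fintype (N := B) d k₀ (π.toLinearMap ∘ₗ y₀)
    (fun _ : Unit => ut')
    (fun _ => by
      show PiTensorProduct.map (fun _ : Fin d => π.toLinearMap ∘ₗ y₀) ut' = 0
      rw [← KL.map_map', hy₀, ← tmap_eq_map, hu0])
  have h4' : PiTensorProduct.map (fun _ : Fin d => a) ut' = 0 := h4 ()
  -- step 4: lift `f₁`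
  obtain ⟨g₁, hg₁⟩ := KL.exists_lift_lc π.toLinearMap hπ f₁
  -- step 5: a polynomial algebra
  obtain ⟨ψ, hψ⟩ : ∃ ψ : (Fin k₀ →₀ A) →ₗ[A] MvPolynomial (ULift.{u} (Fin k₀)) A,
      ψ = Finsupp.linearCombination A (fun i => MvPolynomial.X (ULift.up i)) := ⟨_, rfl⟩
  obtain ⟨h, hh⟩ : ∃ h : MvPolynomial (ULift.{u} (Fin k₀)) A →ₐ[A] P,
      h = MvPolynomial.aeval (fun i : ULift.{u} (Fin k₀) => y₀ (Finsupp.single i.down 1)) :=
    ⟨_, rfl⟩
  obtain ⟨h', hh'⟩ : ∃ h' : MvPolynomial (ULift.{u} (Fin k₀)) A →ₐ[A] P,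
      h' = MvPolynomial.aeval
        (fun i : ULift.{u} (Fin k₀) => g₁ (a (Finsupp.single i.down 1))) := ⟨_, rfl⟩
  have hψ1 : h.toLinearMap ∘ₗ ψ = y₀ := by
    apply (Finsupp.basisSingleOne (R := A) (ι := Fin k₀)).ext
    intro i
    rw [Finsupp.coe_basisSingleOne, LinearMap.comp_apply, hψ, Finsupp.linearCombination_single,
      one_smul, AlgHom.toLinearMap_apply, hh, MvPolynomial.aeval_X]
  have hψ2 : h'.toLinearMap ∘ₗ ψ = g₁ ∘ₗ a := by
    apply (Finsupp.basisSingleOne (R := A) (ι := Fin k₀)).ext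
    intro i
    rw [Finsupp.coe_basisSingleOne, LinearMap.comp_apply, hψ, Finsupp.linearCombination_single,
      one_smul, AlgHom.toLinearMap_apply, hh', MvPolynomial.aeval_X]
    rfl
  have hππ : π.comp h' = π.comp h := by
    apply MvPolynomial.algHom_ext
    intro i
    rw [AlgHom.comp_apply, AlgHom.comp_apply, hh, hh', MvPolynomial.aeval_X,
      MvPolynomial.aeval_X]
    have e1 : π (g₁ (a (Finsupp.single i.down 1))) = f₁ (a (Finsupp.single i.down 1)) :=
      LinearMap.congr_fun hg₁ _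
    have e2 : π (y₀ (Finsupp.single i.down 1)) = f₁ (a (Finsupp.single i.down 1)) :=
      LinearMap.congr_fun h3 _
    rw [e1, e2]
  obtain ⟨U, hU⟩ : ∃ U : ⨂[A] _ : Fin d, MvPolynomial (ULift.{u} (Fin k₀)) A,
      U = PiTensorProduct.map (fun _ : Fin d => ψ) ut' := ⟨_, rfl⟩
  have hUsym : U ∈ SymTen.TS A (MvPolynomial (ULift.{u} (Fin k₀)) A) d := by
    rw [SymTen.mem_TS_iff]
    intro σ
    rw [hU, ← KL.map_reindex', hsym σ]
  have hU1 : SymTen.tmap A d h U = u := by
    rw [tmap_eq_map, hU, KL.map_map', hψ1, hy₀]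
  have hU2 : SymTen.tmap A d h' U = 0 := by
    rw [tmap_eq_map, hU, KL.map_map', hψ2, ← KL.map_map', h4', map_zero]
  have n1 := nat_thetaT b π F (MvPolynomial.basisMonomials (ULift.{u} (Fin k₀)) A)
    (π.comp h) h rfl U hUsym
  have n2 := nat_thetaT b π F (MvPolynomial.basisMonomials (ULift.{u} (Fin k₀)) A)
    (π.comp h) h' hππ U hUsym
  rw [← hU1, n1, ← n2, hU2, map_zero]

end Flat

end Groth.Agent.Helper22.GT
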