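import Groth.Agent.Lib.Helper22.GT2

set_option maxHeartbeats 1600000
set_option autoImplicit false

universe u
open scoped TensorProduct
open Classical

namespace Groth.Agent.Helper22.GT

open Groth.Agent.Helper22.GF

section Fact
variable {A : Type u} [CommRing A] {P : Type u} [CommRing P] [Algebra A P] {M : Type u}
  (b : Module.Basis M A P) {B : Type u} [CommRing B] [Algebra A B] (π : P →ₐ[A] B)
  (hπ : Function.Surjective π) (d : ℕ)

variable (A P) in
/-- sum over all permutations of the factors -/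
noncomputable def symSum : (⨂[A] _ : Fin d, P) →ₗ[A] (⨂[A] _ : Fin d, P) :=
  ∑ σ : Equiv.Perm (Fin d), (SymTen.perm A P d σ).toLinearMap

theorem symSum_apply (q : ⨂[A] _ : Fin d, P) :
    symSum A P d q = ∑ σ : Equiv.Perm (Fin d), SymTen.perm A P d σ q := by
  unfold symSum
  rw [LinearMap.sum_apply]
  rfl

theorem perm_symSum (τ : Equiv.Perm (Fin d)) (q : ⨂[A] _ : Fin d, P) :
    SymTen.perm A P d τ (symSum A P d q) = symSum A P d q := by
  rw [symSum_apply, map_sum]
  have h : ∀ σ : Equiv.Perm (Fin d), SymTen.perm A P d τ (SymTen.perm A P d σ q) =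
      (fun σ' : Equiv.Perm (Fin d) => SymTen.perm A P d σ' q) (Equiv.mulLeft τ σ) :=
    fun σ => perm_perm d τ σ q
  rw [Finset.sum_congr rfl (fun σ _ => h σ)]
  exact Equiv.sum_comp (Equiv.mulLeft τ) (fun σ' : Equiv.Perm (Fin d) => SymTen.perm A P d σ' q)

theorem symSum_of_mem (u : ⨂[A] _ : Fin d, P) (hu : u ∈ SymTen.TS A P d) :
    symSum A P d u = ((d.factorial : ℕ) : A) • u := by
  rw [symSum_apply]
  have h : ∀ σ : Equiv.Perm (Fin d), SymTen.perm A P d σ u = u := fun σ => by
    rw [SymTen.perm_apply]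
    exact (SymTen.mem_TS_iff A P d u).mp hu σ
  rw [Finset.sum_congr rfl (fun σ _ => h σ), Finset.sum_const, Finset.card_univ,
    Fintype.card_perm, Fintype.card_fin, Nat.cast_smul_eq_nsmul]

theorem symSum_tprod (y : Fin d → P) :
    symSum A P d (PiTensorProduct.tprod A y) =
      ∑ σ : Equiv.Perm (Fin d), PiTensorProduct.tprod A (fun i => y (σ i)) := by
  rw [symSum_apply]
  have h : ∀ σ : Equiv.Perm (Fin d), SymTen.perm A P d σ (PiTensorProduct.tprod A y) =
      (fun σ' : Equiv.Perm (Fin d) => PiTensorProduct.tprod A (fun i => y (σ' i)))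
        ((Equiv.inv (Equiv.Perm (Fin d))) σ) := fun σ => by
    rw [SymTen.perm_tprod]
    rfl
  rw [Finset.sum_congr rfl (fun σ _ => h σ)]
  exact Equiv.sum_comp (Equiv.inv (Equiv.Perm (Fin d)))
    (fun σ' : Equiv.Perm (Fin d) => PiTensorProduct.tprod A (fun i => y (σ' i)))

theorem sum_typ_id (T : (Fin d → Fin d) → (⨂[A] _ : Fin d, P)) :
    (∑ g : Fin d → Fin d, if typ g = typ (id : Fin d → Fin d) then T g else 0) =
      ∑ σ : Equiv.Perm (Fin d), T ⇑σ := by
  rw [← Finset.sum_filter]
  have himg : Finset.univ.filter (fun g : Fin d → Fin d => typ g = typ (id : Fin d → Fin d)) =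
      Finset.univ.image (fun σ : Equiv.Perm (Fin d) => (⇑σ : Fin d → Fin d)) := by
    ext g
    rw [Finset.mem_filter, Finset.mem_image]
    constructor
    · rintro ⟨-, hg⟩
      obtain ⟨σ, hσ⟩ := exists_perm_of_typ_eq (id : Fin d → Fin d) g hg.symm
      exact ⟨σ, Finset.mem_univ _, hσ.symm⟩
    · rintro ⟨σ, -, rfl⟩
      exact ⟨Finset.mem_univ _, typ_comp_perm id σ⟩
  rw [himg, Finset.sum_image]
  intro σ _ τ _ h
  exact DFunLike.coe_injective h

theorem cE_tpow (y : Fin d → P) :
    cE (typ (id : Fin d → Fin d)) (⨂[A] _ : Fin d, P)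
      ((SymTen.tpowLaw A P d).law.toFun' (MvPolynomial (Fin d) A)
        (∑ i : Fin d, (MvPolynomial.X i : MvPolynomial (Fin d) A) ⊗ₜ[A] y i)) =
    symSum A P d (PiTensorProduct.tprod A y) := by
  rw [tpow_expand, Fintype.piFinset_univ, map_sum, symSum_tprod]
  rw [← sum_typ_id (A := A) (P := P) d
    (fun g : Fin d → Fin d => PiTensorProduct.tprod A (fun i => y (g i)))]
  apply Finset.sum_congr rfl
  intro g _
  rw [cE_tmul, prod_X_eq_monomial, MvPolynomial.coeff_monomial]
  by_cases h : typ g = typ (id : Fin d → Fin d)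
  · rw [if_pos h, if_pos h, one_smul]
  · rw [if_neg h, if_neg h, zero_smul]

theorem claimZ_basis {C' : Type u} [CommRing C'] [Algebra A C'] (F : PolLaw.MulLaw A B C' d)
    (f : Fin d → M) (j : Fin d) (p : P) (hp : π p = 0) :
    thetaT b π F (symSum A P d (eB b d f *
      PiTensorProduct.singleAlgHom (R := A) (A := fun _ : Fin d => P) j p)) = 0 := by
  obtain ⟨z, hz⟩ : ∃ z : Fin d → P,
      z = Function.update (fun i => b (f i)) j (b (f j) * p) := ⟨_, rfl⟩
  obtain ⟨z', hz'⟩ : ∃ z' : Fin d → P, z' = Function.update (fun i => b (f i)) j 0 := ⟨_, rfl⟩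
  have e1 : eB b d f * PiTensorProduct.singleAlgHom (R := A) (A := fun _ : Fin d => P) j p =
      PiTensorProduct.tprod A z := by
    rw [eB_apply, PiTensorProduct.singleAlgHom_apply, MonoidHom.mulSingle_apply,
      PiTensorProduct.tprod_mul_tprod, hz]
    congr 1
    funext i
    by_cases hi : i = j
    · rw [hi, Pi.mul_apply, Pi.mulSingle_eq_same, Function.update_self]
    · rw [Pi.mul_apply, Pi.mulSingle_eq_of_ne hi, mul_one, Function.update_of_ne hi]
  have e2 : PiTensorProduct.tprod A z' = 0 := by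
    apply MultilinearMap.map_coord_zero _ j
    rw [hz', Function.update_self]
  have hk := G0_ker b π F p hp
  have hk' : (G0 b π F).law.toFun' (MvPolynomial (Fin d) A)
      ((∑ i : Fin d, (MvPolynomial.X i : MvPolynomial (Fin d) A) ⊗ₜ[A] z' i) +
        ((MvPolynomial.X j : MvPolynomial (Fin d) A) ⊗ₜ[A] b (f j)) *
          ((1 : MvPolynomial (Fin d) A) ⊗ₜ[A] p)) =
      (G0 b π F).law.toFun' (MvPolynomial (Fin d) A)
        (∑ i : Fin d, (MvPolynomial.X i : MvPolynomial (Fin d) A) ⊗ₜ[A] z' i) :=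
    hk (MvPolynomial (Fin d) A) _ _
  have e3 : (∑ i : Fin d, (MvPolynomial.X i : MvPolynomial (Fin d) A) ⊗ₜ[A] z' i) +
        ((MvPolynomial.X j : MvPolynomial (Fin d) A) ⊗ₜ[A] b (f j)) *
          ((1 : MvPolynomial (Fin d) A) ⊗ₜ[A] p) =
      ∑ i : Fin d, (MvPolynomial.X i : MvPolynomial (Fin d) A) ⊗ₜ[A] z i := by
    rw [Algebra.TensorProduct.tmul_mul_tmul, mul_one]
    have h5 : ∀ i : Fin d, (MvPolynomial.X i : MvPolynomial (Fin d) A) ⊗ₜ[A] z i =
        (MvPolynomial.X i : MvPolynomial (Fin d) A) ⊗ₜ[A] z' i +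
        (if i = j then (MvPolynomial.X j : MvPolynomial (Fin d) A) ⊗ₜ[A] (b (f j) * p)
          else 0) := by
      intro i
      by_cases hi : i = j
      · rw [if_pos hi, hi, hz, hz', Function.update_self, Function.update_self,
          TensorProduct.tmul_zero, zero_add]
      · rw [if_neg hi, hz, hz', Function.update_of_ne hi, Function.update_of_ne hi, add_zero]
    rw [Finset.sum_congr rfl (fun i _ => h5 i), Finset.sum_add_distrib, Finset.sum_ite_eq',
      if_pos (Finset.mem_univ j)]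
  rw [e3, G0_toFun', G0_toFun'] at hk'
  have h6 := congrArg
    ((thetaAlg b π F).range.val.toLinearMap.lTensor (MvPolynomial (Fin d) A)) hk'
  rw [← LinearMap.lTensor_comp_apply, ← LinearMap.lTensor_comp_apply, val_comp_thetaR] at h6
  have h7 := congrArg (cE (typ (id : Fin d → Fin d)) C') h6
  rw [cE_lTensor, cE_lTensor, cE_tpow, cE_tpow, e2, map_zero, map_zero] at h7
  rw [e1]
  exact h7

theorem claimZ {C' : Type u} [CommRing C'] [Algebra A C'] (F : PolLaw.MulLaw A B C' d)
    (j : Fin d) (p : P) (hp : π p = 0) (q : ⨂[A] _ : Fin d, P) :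
    thetaT b π F (symSum A P d (q *
      PiTensorProduct.singleAlgHom (R := A) (A := fun _ : Fin d => P) j p)) = 0 := by
  have h : (thetaT b π F ∘ₗ symSum A P d) ∘ₗ LinearMap.mulRight A
      (PiTensorProduct.singleAlgHom (R := A) (A := fun _ : Fin d => P) j p) = 0 := by
    apply (eB b d).ext
    intro f
    exact claimZ_basis b π d F f j p hp
  exact LinearMap.congr_fun h q

include hπ in
theorem thetaT_symSum_of_mem_Jid {C' : Type u} [CommRing C'] [Algebra A C']
    (F : PolLaw.MulLaw A B C' d) (x : ⨂[A] _ : Fin d, P) (hx : x ∈ Jid d π) :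
    ∀ q : ⨂[A] _ : Fin d, P, thetaT b π F (symSum A P d (q * x)) = 0 := by
  unfold Jid at hx
  induction hx using Submodule.span_induction with
  | mem x hx =>
    obtain ⟨j, p, hp, rfl⟩ := hx
    intro q
    exact claimZ b π d F j p hp q
  | zero =>
    intro q
    rw [mul_zero, map_zero, map_zero]
  | add x y _ _ hx hy =>
    intro q
    rw [mul_add, map_add, map_add, hx q, hy q, add_zero]
  | smul a x _ hx =>
    intro q
    rw [smul_eq_mul, ← mul_assoc]
    exact hx (q * a)

include hπ in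
theorem beta_of_fact (hd : IsUnit ((d.factorial : ℕ) : A)) {C' : Type u} [CommRing C']
    [Algebra A C'] (F : PolLaw.MulLaw A B C' d) (u : ⨂[A] _ : Fin d, P)
    (hu : u ∈ SymTen.TS A P d) (hu0 : SymTen.tmap A d π u = 0) : thetaT b π F u = 0 := by
  have h1 := thetaT_symSum_of_mem_Jid b π hπ d F u (ker_tmap_le d π hπ u hu0) 1
  rw [one_mul, symSum_of_mem d u hu, map_smul] at h1
  obtain ⟨c, hc⟩ := hd.exists_left_inv
  have h2 := congrArg (fun z => c • z) h1
  simp only [smul_smul, hc, one_smul, smul_zero] at h2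
  exact h2

include hπ in
theorem alpha_of_fact (hd : IsUnit ((d.factorial : ℕ) : A)) :
    Function.Surjective (SymTen.TSmap A d π) := by
  intro v
  obtain ⟨u₀, hu₀⟩ := tmap_surjective d π hπ v.1
  obtain ⟨c, hc⟩ := hd.exists_left_inv
  have hmem : c • symSum A P d u₀ ∈ SymTen.TS A P d := by
    rw [SymTen.mem_TS_iff]
    intro σ
    rw [← SymTen.perm_apply, map_smul, perm_symSum]
  refine ⟨⟨c • symSum A P d u₀, hmem⟩, ?_⟩
  apply Subtype.ext
  show SymTen.tmap A d π (c • symSum A P d u₀) = v.1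
  rw [map_smul, symSum_apply, map_sum]
  have h : ∀ σ : Equiv.Perm (Fin d), SymTen.tmap A d π (SymTen.perm A P d σ u₀) = v.1 := by
    intro σ
    rw [tmap_perm, hu₀, SymTen.perm_apply]
    exact (SymTen.mem_TS_iff A B d v.1).mp v.2 σ
  rw [Finset.sum_congr rfl (fun σ _ => h σ), Finset.sum_const, Finset.card_univ,
    Fintype.card_perm, Fintype.card_fin, ← Nat.cast_smul_eq_nsmul A, smul_smul, hc, one_smul]

end Fact

section Main

theorem main13873 {A B : Type u} [CommRing A] [CommRing B] [Algebra A B] (d : ℕ)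
    (h : Module.Flat A B ∨ IsUnit ((d.factorial : ℕ) : A)) :
    ∃ τ : PolLaw.MulLaw A B (SymTen.TS A B d) d,
      (∀ (S : Type u) [CommSemiring S] [Algebra A S] (n : ℕ) (s : Fin n → S) (b : Fin n → B),
        (SymTen.TS A B d).val.toLinearMap.lTensor S (τ.law.toFun' S (∑ j, s j ⊗ₜ[A] b j)) =
          ∑ c : Fin d → Fin n, (∏ i, s (c i)) ⊗ₜ[A] PiTensorProduct.tprod A (fun i => b (c i))) ∧
      PolLaw.IsGammaD τ := by
  obtain ⟨τ, hτ1, hτ2⟩ := exists_tau (MvPolynomial.basisMonomials B A) (piB A B) piB_surj d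
  refine ⟨τ, ?_, ?_⟩
  · intro S _ _ n s bb
    rw [hτ2, tpow_expand, Fintype.piFinset_univ]
  · rcases h with hflat | hunit
    · haveI := hflat
      exact isGammaD_of (MvPolynomial.basisMonomials B A) (piB A B) piB_surj d τ hτ1
        (alpha_of_flat (piB A B) piB_surj d)
        (fun C' _ _ F u hu hu0 =>
          beta_of_flat (MvPolynomial.basisMonomials B A) (piB A B) piB_surj d F u hu hu0)
    · exact isGammaD_of (MvPolynomial.basisMonomials B A) (piB A B) piB_surj d τ hτ1
        (alpha_of_fact (piB A B) piB_surj d hunit)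
        (fun C' _ _ F u hu hu0 =>
          beta_of_fact (MvPolynomial.basisMonomials B A) (piB A B) piB_surj d hunit F u hu hu0)

end Main

end Groth.Agent.Helper22.GT
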