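import Mathlib

/-!
# Symmetric 2-cocycles of the additive group (Lazard's lemma in characteristic `p`), part 1

Basic definitions (swap, cocycle operator, coboundary, the polynomial `S`), the chain rule for
`MvPolynomial.aeval` and derivations, and the "easy" direction: coboundaries and the
`S(X^q, Y^q)` are symmetric cocycles.
-/

open MvPolynomial

namespace Groth.Agent.Helper22.GaCoc

variable {R : Type*} [CommRing R]

/-- swap of the two variables -/
noncomputable def sw : MvPolynomial (Fin 2) R →ₐ[R] MvPolynomial (Fin 2) R :=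
  aeval ![X 1, X 0]

/-- the four coface substitutions -/
noncomputable def v1 : Fin 2 → MvPolynomial (Fin 3) R := ![X 0, X 1 + X 2]
noncomputable def v2 : Fin 2 → MvPolynomial (Fin 3) R := ![X 1, X 2]
noncomputable def v3 : Fin 2 → MvPolynomial (Fin 3) R := ![X 0 + X 1, X 2]
noncomputable def v4 : Fin 2 → MvPolynomial (Fin 3) R := ![X 0, X 1]

/-- additive cocycle operator, as a linear map -/
noncomputable def cocL : MvPolynomial (Fin 2) R →ₗ[R] MvPolynomial (Fin 3) R :=
  (aeval (R := R) v1).toLinearMap + (aeval (R := R) v2).toLinearMap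
    - (aeval (R := R) v3).toLinearMap - (aeval (R := R) v4).toLinearMap

theorem cocL_apply (F : MvPolynomial (Fin 2) R) :
    cocL F = aeval ![X 0, X 1 + X 2] F + aeval ![X 1, X 2] F
      - aeval ![X 0 + X 1, X 2] F - aeval ![X 0, X 1] F := by
  simp [cocL, v1, v2, v3, v4]

/-- coboundary of a one-variable polynomial, as a linear map -/
noncomputable def delL : Polynomial R →ₗ[R] MvPolynomial (Fin 2) R :=
  (Polynomial.aeval (X 0 + X 1 : MvPolynomial (Fin 2) R)).toLinearMap
    - (Polynomial.aeval (X 0 : MvPolynomial (Fin 2) R)).toLinearMap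
    - (Polynomial.aeval (X 1 : MvPolynomial (Fin 2) R)).toLinearMap

theorem delL_apply (G : Polynomial R) :
    delL G = Polynomial.aeval (X 0 + X 1 : MvPolynomial (Fin 2) R) G
      - Polynomial.aeval (X 0 : MvPolynomial (Fin 2) R) G
      - Polynomial.aeval (X 1 : MvPolynomial (Fin 2) R) G := by
  simp [delL]

/-- the polynomial `S(X,Y) = ∑_{0<j<p} (C(p,j)/p) X^j Y^(p-j)` -/
noncomputable def Spol (p : ℕ) : MvPolynomial (Fin 2) R :=
  ∑ j ∈ Finset.Ioo 0 p, C ((p.choose j / p : ℕ) : R) * X 0 ^ j * X 1 ^ (p - j)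

/-- `S(X^q, Y^q)` -/
noncomputable def Sq (p q : ℕ) : MvPolynomial (Fin 2) R :=
  aeval ![X 0 ^ q, X 1 ^ q] (Spol (R := R) p)

/-- chain rule for `aeval` and a derivation -/
theorem chain {σ τ : Type*} [Fintype σ] (v : σ → MvPolynomial τ R)
    (D : Derivation R (MvPolynomial τ R) (MvPolynomial τ R)) (F : MvPolynomial σ R) :
    D (aeval v F) = ∑ j, aeval v (pderiv j F) * D (v j) := by
  classical
  induction F using MvPolynomial.induction_on with
  | C a => simp
  | add p q hp hq => simp only [map_add, hp, hq, add_mul, Finset.sum_add_distrib]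
  | mul_X p i hp =>
    have h1 : ∀ j, pderiv j (p * X i) = pderiv j p * X i + (if j = i then p else 0) := by
      intro j
      rw [pderiv_mul, pderiv_X]
      congr 1
      by_cases h : j = i
      · subst h; simp
      · simp [h, Pi.single_apply]
    simp only [map_mul, aeval_X, Derivation.leibniz, hp, smul_eq_mul, h1, map_add, add_mul,
      Finset.sum_add_distrib, apply_ite (aeval v), map_zero, ite_mul, zero_mul,
      Finset.sum_ite_eq', Finset.mem_univ, if_true, Finset.mul_sum]
    rw [add_comm]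
    congr 1
    apply Finset.sum_congr rfl
    intro j _
    ring


/-! ### Coboundaries are symmetric cocycles -/

theorem sw_delL (G : Polynomial R) : sw (delL G) = delL G := by
  simp only [delL_apply, map_sub, ← Polynomial.aeval_algHom_apply]
  have h0 : (sw (X 0 : MvPolynomial (Fin 2) R)) = X 1 := by simp [sw]
  have h1 : (sw (X 1 : MvPolynomial (Fin 2) R)) = X 0 := by simp [sw]
  rw [map_add, h0, h1, add_comm (X 1) (X 0)]
  ring

theorem cocL_delL (G : Polynomial R) : cocL (delL G) = 0 := by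
  simp only [cocL_apply, delL_apply, map_sub, ← Polynomial.aeval_algHom_apply, map_add, aeval_X]
  simp only [Matrix.cons_val_zero, Matrix.cons_val_one, add_assoc]
  abel

/-! ### The polynomial `S` -/

theorem map_Spol {R' : Type*} [CommRing R'] (f : R →+* R') (p : ℕ) :
    map f (Spol (R := R) p) = Spol (R := R') p := by
  simp [Spol]

theorem natCast_mul_Spol (p : ℕ) (hp : p.Prime) :
    (p : MvPolynomial (Fin 2) R) * Spol p = (X 0 + X 1) ^ p - X 0 ^ p - X 1 ^ p := by
  have hp0 : 0 < p := hp.pos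
  rw [add_pow, Finset.sum_range_succ, Finset.range_eq_Ico, Finset.sum_eq_sum_Ico_succ_bot hp0,
    Finset.Ico_add_one_left_eq_Ioo]
  simp only [pow_zero, Nat.sub_zero, one_mul, Nat.choose_zero_right, Nat.cast_one, mul_one,
    Nat.sub_self, Nat.choose_self]
  rw [Spol, Finset.mul_sum]
  have : ∀ j ∈ Finset.Ioo 0 p, (p : MvPolynomial (Fin 2) R) *
      (C ((p.choose j / p : ℕ) : R) * X 0 ^ j * X 1 ^ (p - j)) =
      X 0 ^ j * X 1 ^ (p - j) * (p.choose j : MvPolynomial (Fin 2) R) := by
    intro j hj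
    rw [Finset.mem_Ioo] at hj
    have hd : p ∣ p.choose j := hp.dvd_choose_self hj.1.ne' hj.2
    have : (p.choose j : MvPolynomial (Fin 2) R) =
        (p : MvPolynomial (Fin 2) R) * C ((p.choose j / p : ℕ) : R) := by
      conv_lhs => rw [← Nat.mul_div_cancel' hd]
      simp
    rw [this]; ring
  rw [Finset.sum_congr rfl this]
  ring

theorem delL_X_pow (n : ℕ) :
    delL (Polynomial.X ^ n : Polynomial R) = (X 0 + X 1) ^ n - X 0 ^ n - X 1 ^ n := by
  simp [delL_apply]

theorem sw_Spol_int (p : ℕ) (hp : p.Prime) : sw (Spol (R := ℤ) p) = Spol p := by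
  have h : (p : MvPolynomial (Fin 2) ℤ) * sw (Spol (R := ℤ) p) =
      (p : MvPolynomial (Fin 2) ℤ) * Spol p := by
    have e : (p : MvPolynomial (Fin 2) ℤ) * sw (Spol (R := ℤ) p) =
        sw ((p : MvPolynomial (Fin 2) ℤ) * Spol p) := by rw [map_mul, map_natCast]
    rw [e, natCast_mul_Spol p hp, ← delL_X_pow, sw_delL]
  exact mul_left_cancel₀ (Nat.cast_ne_zero.mpr hp.ne_zero) h

theorem cocL_Spol_int (p : ℕ) (hp : p.Prime) : cocL (Spol (R := ℤ) p) = 0 := by
  have h : (p : MvPolynomial (Fin 3) ℤ) * cocL (Spol (R := ℤ) p) = (p : MvPolynomial (Fin 3) ℤ) * 0 := by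
    rw [mul_zero, ← nsmul_eq_mul, ← map_nsmul, nsmul_eq_mul, natCast_mul_Spol p hp, ← delL_X_pow,
      cocL_delL]
  exact mul_left_cancel₀ (Nat.cast_ne_zero.mpr hp.ne_zero) h

theorem map_aeval_vec {R' : Type*} [CommRing R'] (f : R →+* R') {σ τ : Type*}
    (v : σ → MvPolynomial τ R) (F : MvPolynomial σ R) :
    map f (aeval v F) = aeval (fun i => map f (v i)) (map f F) := by
  rw [aeval_eq_bind₁, aeval_eq_bind₁, map_bind₁]

theorem map_sw {R' : Type*} [CommRing R'] (f : R →+* R') (F : MvPolynomial (Fin 2) R) :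
    map f (sw F) = sw (map f F) := by
  rw [sw, sw, map_aeval_vec]
  congr 2
  funext i; fin_cases i <;> simp

theorem map_cocL {R' : Type*} [CommRing R'] (f : R →+* R') (F : MvPolynomial (Fin 2) R) :
    map f (cocL F) = cocL (map f F) := by
  simp only [cocL_apply, map_sub, map_add, map_aeval_vec]
  have e1 : (fun i => map f ((![X 0, X 1 + X 2] : Fin 2 → MvPolynomial (Fin 3) R) i)) =
      ![X 0, X 1 + X 2] := by funext i; fin_cases i <;> simp
  have e2 : (fun i => map f ((![X 1, X 2] : Fin 2 → MvPolynomial (Fin 3) R) i)) =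
      ![X 1, X 2] := by funext i; fin_cases i <;> simp
  have e3 : (fun i => map f ((![X 0 + X 1, X 2] : Fin 2 → MvPolynomial (Fin 3) R) i)) =
      ![X 0 + X 1, X 2] := by funext i; fin_cases i <;> simp
  have e4 : (fun i => map f ((![X 0, X 1] : Fin 2 → MvPolynomial (Fin 3) R) i)) =
      ![X 0, X 1] := by funext i; fin_cases i <;> simp
  rw [e1, e2, e3, e4]

theorem sw_Spol (p : ℕ) (hp : p.Prime) : sw (Spol (R := R) p) = Spol p := by
  rw [← map_Spol (Int.castRingHom R), ← map_sw, sw_Spol_int p hp]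

theorem cocL_Spol (p : ℕ) (hp : p.Prime) : cocL (Spol (R := R) p) = 0 := by
  rw [← map_Spol (Int.castRingHom R), ← map_cocL, cocL_Spol_int p hp, map_zero]


/-! ### Compatibility with `expand` in characteristic `p` -/

theorem expand_aeval_comm {σ τ : Type*} (q : ℕ) (v : σ → MvPolynomial τ R)
    (hv : ∀ j, expand q (v j) = v j ^ q) (F : MvPolynomial σ R) :
    expand q (aeval v F) = aeval v (expand q F) := by
  have : (expand q).comp (aeval v) = (aeval v).comp (expand q) := by
    apply MvPolynomial.algHom_ext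
    intro j
    simp [hv j]
  exact AlgHom.congr_fun this F

section charp

variable (p : ℕ) [Fact p.Prime] [CharP R p]

theorem expand_sw (i : ℕ) (F : MvPolynomial (Fin 2) R) :
    expand (p ^ i) (sw F) = sw (expand (p ^ i) F) := by
  apply expand_aeval_comm
  intro j; fin_cases j <;> simp

theorem expand_cocL (i : ℕ) (F : MvPolynomial (Fin 2) R) :
    expand (p ^ i) (cocL F) = cocL (expand (p ^ i) F) := by
  simp only [cocL_apply, map_sub, map_add]
  rw [expand_aeval_comm (p ^ i) ![X 0, X 1 + X 2]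
      (by intro j; fin_cases j <;> simp [add_pow_char_pow]) F,
    expand_aeval_comm (p ^ i) ![X 1, X 2]
      (by intro j; fin_cases j <;> simp) F,
    expand_aeval_comm (p ^ i) ![X 0 + X 1, X 2]
      (by intro j; fin_cases j <;> simp [add_pow_char_pow]) F,
    expand_aeval_comm (p ^ i) ![X 0, X 1]
      (by intro j; fin_cases j <;> simp) F]

theorem Sq_eq_expand (q : ℕ) : Sq (R := R) p q = expand q (Spol p) := by
  rw [Sq, expand, ← aeval_eq_bind₁]
  congr 2
  funext i; fin_cases i <;> rfl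

theorem sw_Sq (i : ℕ) : sw (Sq (R := R) p (p ^ i)) = Sq p (p ^ i) := by
  rw [Sq_eq_expand, ← expand_sw, sw_Spol p (Fact.out)]

theorem cocL_Sq (i : ℕ) : cocL (Sq (R := R) p (p ^ i)) = 0 := by
  rw [Sq_eq_expand, ← expand_cocL, cocL_Spol p (Fact.out), map_zero]

theorem expand_Sq (i : ℕ) : expand p (Sq (R := R) p (p ^ i)) = Sq p (p ^ (i + 1)) := by
  rw [Sq_eq_expand, Sq_eq_expand, pow_succ', expand_mul]

theorem expand_delL (G : Polynomial R) :
    expand p (delL G) = delL (Polynomial.expand R p G) := by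
  simp only [delL_apply, map_sub, ← Polynomial.aeval_algHom_apply, Polynomial.expand_aeval,
    map_add, expand_X, add_pow_char]

end charp

/-! ### The derivative identity -/

/-- the univariate polynomial `∂₂F(T,0)` -/
noncomputable def gpol (F : MvPolynomial (Fin 2) R) : Polynomial R :=
  aeval ![Polynomial.X, 0] (pderiv 1 F)

theorem gpol_aeval (F : MvPolynomial (Fin 2) R) (q : MvPolynomial (Fin 2) R) :
    Polynomial.aeval q (gpol F) = aeval ![q, 0] (pderiv 1 F) := by
  rw [gpol, comp_aeval_apply]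
  congr 2
  funext i; fin_cases i <;> simp

theorem pderiv_one_of_cocycle (F : MvPolynomial (Fin 2) R) (h : cocL F = 0) :
    pderiv 1 F = Polynomial.aeval (X 0 + X 1 : MvPolynomial (Fin 2) R) (gpol F)
      - Polynomial.aeval (X 1 : MvPolynomial (Fin 2) R) (gpol F) := by
  have h2 := congrArg (fun x => aeval (R := R) ![X 0, X 1, (0 : MvPolynomial (Fin 2) R)]
    (pderiv 2 x)) h
  have e0 : pderiv (2 : Fin 3) (X 0 : MvPolynomial (Fin 3) R) = 0 :=
    pderiv_X_of_ne (by decide)
  have e1 : pderiv (2 : Fin 3) (X 1 : MvPolynomial (Fin 3) R) = 0 :=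
    pderiv_X_of_ne (by decide)
  have e2 : pderiv (2 : Fin 3) (X 2 : MvPolynomial (Fin 3) R) = 1 := pderiv_X_self _
  simp only [cocL_apply, map_sub, map_add, map_zero, chain, Fin.sum_univ_two, map_mul] at h2
  simp only [Matrix.cons_val_zero, Matrix.cons_val_one, map_add, e0, e1, e2, map_zero, mul_zero,
    zero_add, add_zero, map_one, mul_one, comp_aeval_apply, sub_zero] at h2
  have f1 : (fun i => aeval (R := R) ![X 0, X 1, (0 : MvPolynomial (Fin 2) R)]
      ((![X 0, X 1 + X 2] : Fin 2 → MvPolynomial (Fin 3) R) i)) = X := by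
    funext i; fin_cases i <;> simp
  have f2 : (fun i => aeval (R := R) ![X 0, X 1, (0 : MvPolynomial (Fin 2) R)]
      ((![X 1, X 2] : Fin 2 → MvPolynomial (Fin 3) R) i)) = ![X 1, 0] := by
    funext i; fin_cases i <;> simp
  have f3 : (fun i => aeval (R := R) ![X 0, X 1, (0 : MvPolynomial (Fin 2) R)]
      ((![X 0 + X 1, X 2] : Fin 2 → MvPolynomial (Fin 3) R) i)) = ![X 0 + X 1, 0] := by
    funext i; fin_cases i <;> simp
  rw [f1, f2, f3, aeval_X_left_apply, ← gpol_aeval, ← gpol_aeval] at h2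
  linear_combination h2


/-! ### Derivatives of coboundaries and of `S` -/

theorem pderiv_one_delL (G : Polynomial R) :
    pderiv 1 (delL G) = Polynomial.aeval (X 0 + X 1 : MvPolynomial (Fin 2) R) (Polynomial.derivative G)
      - Polynomial.aeval (X 1 : MvPolynomial (Fin 2) R) (Polynomial.derivative G) := by
  have e0 : pderiv (1 : Fin 2) (X 0 : MvPolynomial (Fin 2) R) = 0 :=
    pderiv_X_of_ne (by decide)
  have e1 : pderiv (1 : Fin 2) (X 1 : MvPolynomial (Fin 2) R) = 1 := pderiv_X_self _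
  simp only [delL_apply, map_sub, Derivation.map_aeval, map_add, e0, e1, zero_add, smul_eq_mul,
    mul_one, mul_zero, sub_zero]

theorem pderiv_one_Spol_int (p : ℕ) (hp : p.Prime) :
    pderiv 1 (Spol (R := ℤ) p) = (X 0 + X 1) ^ (p - 1) - X 1 ^ (p - 1) := by
  have e0 : pderiv (1 : Fin 2) (X 0 : MvPolynomial (Fin 2) ℤ) = 0 :=
    pderiv_X_of_ne (by decide)
  have e1 : pderiv (1 : Fin 2) (X 1 : MvPolynomial (Fin 2) ℤ) = 1 := pderiv_X_self _
  have h : (p : MvPolynomial (Fin 2) ℤ) * pderiv 1 (Spol (R := ℤ) p) =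
      (p : MvPolynomial (Fin 2) ℤ) * ((X 0 + X 1) ^ (p - 1) - X 1 ^ (p - 1)) := by
    have e : (p : MvPolynomial (Fin 2) ℤ) * pderiv 1 (Spol (R := ℤ) p) =
        pderiv 1 ((p : MvPolynomial (Fin 2) ℤ) * Spol p) := by
      rw [← nsmul_eq_mul, ← nsmul_eq_mul, map_nsmul]
    rw [e, natCast_mul_Spol p hp]
    simp only [map_sub, pderiv_pow, map_add, e0, e1, zero_add, mul_one, mul_zero, sub_zero]
    ring
  exact mul_left_cancel₀ (Nat.cast_ne_zero.mpr hp.ne_zero) h

theorem pderiv_zero_Spol_int (p : ℕ) (hp : p.Prime) :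
    pderiv 0 (Spol (R := ℤ) p) = (X 0 + X 1) ^ (p - 1) - X 0 ^ (p - 1) := by
  have e0 : pderiv (0 : Fin 2) (X 0 : MvPolynomial (Fin 2) ℤ) = 1 := pderiv_X_self _
  have e1 : pderiv (0 : Fin 2) (X 1 : MvPolynomial (Fin 2) ℤ) = 0 :=
    pderiv_X_of_ne (by decide)
  have h : (p : MvPolynomial (Fin 2) ℤ) * pderiv 0 (Spol (R := ℤ) p) =
      (p : MvPolynomial (Fin 2) ℤ) * ((X 0 + X 1) ^ (p - 1) - X 0 ^ (p - 1)) := by
    have e : (p : MvPolynomial (Fin 2) ℤ) * pderiv 0 (Spol (R := ℤ) p) =
        pderiv 0 ((p : MvPolynomial (Fin 2) ℤ) * Spol p) := by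
      rw [← nsmul_eq_mul, ← nsmul_eq_mul, map_nsmul]
    rw [e, natCast_mul_Spol p hp]
    simp only [map_sub, pderiv_pow, map_add, e0, e1, add_zero, mul_one, mul_zero, sub_zero]
    ring
  exact mul_left_cancel₀ (Nat.cast_ne_zero.mpr hp.ne_zero) h

theorem pderiv_one_Spol (p : ℕ) (hp : p.Prime) :
    pderiv 1 (Spol (R := R) p) = (X 0 + X 1) ^ (p - 1) - X 1 ^ (p - 1) := by
  rw [← map_Spol (Int.castRingHom R), pderiv_map, pderiv_one_Spol_int p hp]
  simp

theorem pderiv_zero_Spol (p : ℕ) (hp : p.Prime) :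
    pderiv 0 (Spol (R := R) p) = (X 0 + X 1) ^ (p - 1) - X 0 ^ (p - 1) := by
  rw [← map_Spol (Int.castRingHom R), pderiv_map, pderiv_zero_Spol_int p hp]
  simp

/-- symmetric polynomials: `∂₀ F = sw (∂₁ F)` -/
theorem pderiv_zero_of_sw (F : MvPolynomial (Fin 2) R) (hs : sw F = F) :
    pderiv 0 F = sw (pderiv 1 F) := by
  have e0 : pderiv (0 : Fin 2) (X 0 : MvPolynomial (Fin 2) R) = 1 := pderiv_X_self _
  have e1 : pderiv (0 : Fin 2) (X 1 : MvPolynomial (Fin 2) R) = 0 :=
    pderiv_X_of_ne (by decide)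
  conv_lhs => rw [← hs, sw, chain]
  simp only [Fin.sum_univ_two, Matrix.cons_val_zero, Matrix.cons_val_one, e0, e1, mul_zero,
    zero_add, mul_one, sw]

end Groth.Agent.Helper22.GaCoc
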