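import Groth.Agent.Lib.Helper22.GaCoc9

/-!
# Splitting multiplicative symmetric 2-cocycles of `𝔾ₐ` over rings with surjective Frobenius
-/

open MvPolynomial

namespace Groth.Agent.Helper22.GaCoc

universe u
variable {R : Type u} [CommRing R]

variable (p : ℕ) [hp : Fact p.Prime] [CharP R p]

theorem prod_step (hF : Function.Surjective (frobenius R p)) {J : Ideal R} (hJ2 : J * J = ⊥)
    (E η : Polynomial R) (hE0 : E.coeff 0 = 1)
    (hE : Polynomial.derivative E = E * (1 + Polynomial.X ^ (p - 1))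
      - Polynomial.X ^ (2 * p - 1) * η)
    (r : ℕ → R) (hr : ∀ i, r i ∈ J) (M : ℕ) :
    ∃ f : Polynomial R, IsUnit f ∧
      Cob f (1 + ∑ i ∈ Finset.range M, C (r i) * Sq p (p ^ i)) := by
  induction M with
  | zero =>
    refine ⟨1, isUnit_one, ?_⟩
    rw [Finset.range_zero, Finset.sum_empty, add_zero]
    exact Cob.one
  | succ M ih =>
    obtain ⟨f, hfu, hfc⟩ := ih
    obtain ⟨s, hs⟩ := hF (r M)
    rw [frobenius_def] at hs
    have hrr : r M * r M = 0 := by
      have := Ideal.mul_mem_mul (hr M) (hr M)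
      rw [hJ2] at this
      exact Ideal.mem_bot.mp this
    have hs2 : s ^ (2 * p) = 0 := by
      rw [mul_comm, pow_mul, hs, pow_two, hrr]
    have hEc := cob_E p E η hE0 hE s hs2 M
    rw [hs] at hEc
    -- unit
    obtain ⟨E₁, hE₁⟩ : Polynomial.X ∣ E - 1 := by
      rw [Polynomial.X_dvd_iff, Polynomial.coeff_sub, hE0, Polynomial.coeff_one_zero, sub_self]
    have hEs : E.comp (Polynomial.C s * Polynomial.X ^ (p ^ M)) =
        1 + (Polynomial.C s * Polynomial.X ^ (p ^ M))
          * E₁.comp (Polynomial.C s * Polynomial.X ^ (p ^ M)) := by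
      have : E = 1 + Polynomial.X * E₁ := by rw [← hE₁]; ring
      conv_lhs => rw [this]
      rw [Polynomial.add_comp, Polynomial.one_comp, Polynomial.mul_comp, Polynomial.X_comp]
    have hnil : IsNilpotent ((Polynomial.C s * Polynomial.X ^ (p ^ M))
        * E₁.comp (Polynomial.C s * Polynomial.X ^ (p ^ M))) := by
      refine ⟨2 * p, ?_⟩
      rw [mul_pow, mul_pow, ← map_pow, hs2, map_zero, zero_mul, zero_mul]
    have hEu : IsUnit (E.comp (Polynomial.C s * Polynomial.X ^ (p ^ M))) := by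
      rw [hEs]; exact hnil.isUnit_one_add
    refine ⟨f * E.comp (Polynomial.C s * Polynomial.X ^ (p ^ M)), hfu.mul hEu, ?_⟩
    have hmul := hfc.mul hEc
    have hsum : (∑ i ∈ Finset.range M, C (r i) * Sq p (p ^ i) : MvPolynomial (Fin 2) R) ∈
        Ideal.map (C : R →+* MvPolynomial (Fin 2) R) J := by
      apply Ideal.sum_mem
      intro i _
      exact Ideal.mul_mem_right _ _ (Ideal.mem_map_of_mem _ (hr i))
    have hlast : (C (r M) * Sq p (p ^ M) : MvPolynomial (Fin 2) R) ∈
        Ideal.map (C : R →+* MvPolynomial (Fin 2) R) J :=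
      Ideal.mul_mem_right _ _ (Ideal.mem_map_of_mem _ (hr M))
    have hz := mv_mul_eq_zero hJ2 hsum hlast
    have e : (1 + ∑ i ∈ Finset.range M, C (r i) * Sq p (p ^ i)) * (1 + C (r M) * Sq p (p ^ M))
        = 1 + ∑ i ∈ Finset.range (M + 1), C (r i) * Sq p (p ^ i) := by
      rw [Finset.sum_range_succ]
      linear_combination hz
    rw [e] at hmul
    exact hmul

theorem sqzero_case (hF : Function.Surjective (frobenius R p)) {J : Ideal R} (hJ2 : J * J = ⊥)
    (h : MvPolynomial (Fin 2) R) (hs : sw h = h) (hc : MCoc h)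
    (hJ : h - 1 ∈ Ideal.map (C : R →+* MvPolynomial (Fin 2) R) J) :
    ∃ f : Polynomial R, IsUnit f ∧ Cob f h := by
  obtain ⟨E, η, hE0, hE⟩ := exists_E (R := R) p
  have hsN : sw (h - 1) = h - 1 := by rw [map_sub, hs, map_one]
  have hcN : cocL (h - 1) = 0 := by
    have h1 := aeval_mem (![X 0, X 1 + X 2] : Fin 2 → MvPolynomial (Fin 3) R) hJ
    have h2 := aeval_mem (![X 1, X 2] : Fin 2 → MvPolynomial (Fin 3) R) hJ
    have h3 := aeval_mem (![X 0 + X 1, X 2] : Fin 2 → MvPolynomial (Fin 3) R) hJ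
    have h4 := aeval_mem (![X 0, X 1] : Fin 2 → MvPolynomial (Fin 3) R) hJ
    have h21 := mv_mul_eq_zero hJ2 h2 h1
    have h34 := mv_mul_eq_zero hJ2 h3 h4
    unfold MCoc at hc
    rw [cocL_apply]
    simp only [map_sub, map_one] at h21 h34 ⊢
    linear_combination hc - h21 + h34
  obtain ⟨G, M, r, hGJ, hrJ, hN⟩ := lazard p J (h - 1).totalDegree (h - 1) rfl hsN hcN hJ
  obtain ⟨f, hfu, hfc⟩ := prod_step p hF hJ2 E η hE0 hE r hrJ M
  have hGu : IsUnit (1 + G) := by
    apply IsNilpotent.isUnit_one_add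
    exact ⟨2, by rw [pow_two]; exact poly_mul_eq_zero hJ2 hGJ hGJ⟩
  refine ⟨(1 + G) * f, hGu.mul hfu, ?_⟩
  have hmul := (cob_one_add hJ2 hGJ).mul hfc
  have hdel : delL G ∈ Ideal.map (C : R →+* MvPolynomial (Fin 2) R) J := by
    have := mem_map_of_linear J (delL (R := R)) (x := G) (by rwa [Polynomial.algebraMap_eq])
    rwa [MvPolynomial.algebraMap_eq] at this
  have hsum : (∑ i ∈ Finset.range M, C (r i) * Sq p (p ^ i) : MvPolynomial (Fin 2) R) ∈
      Ideal.map (C : R →+* MvPolynomial (Fin 2) R) J := by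
    apply Ideal.sum_mem
    intro i _
    exact Ideal.mul_mem_right _ _ (Ideal.mem_map_of_mem _ (hrJ i))
  have hz := mv_mul_eq_zero hJ2 hdel hsum
  have e : (1 + delL G) * (1 + ∑ i ∈ Finset.range M, C (r i) * Sq p (p ^ i)) = h := by
    linear_combination hz - hN
  rw [e] at hmul
  exact hmul

end Groth.Agent.Helper22.GaCoc
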