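import Groth.Agent.Lib.Helper22.GaCoc10

/-!
# Splitting multiplicative symmetric 2-cocycles of `𝔾ₐ` over rings with surjective Frobenius:
induction on the nilpotency index
-/

open MvPolynomial

namespace Groth.Agent.Helper22.GaCoc

universe u

theorem main_aux (p : ℕ) [hp : Fact p.Prime] : ∀ (N : ℕ) (R : Type u) [CommRing R] [CharP R p],
    Function.Surjective (frobenius R p) → ∀ I : Ideal R, I ^ N = ⊥ →
    ∀ h : MvPolynomial (Fin 2) R, sw h = h → MCoc h →
      h - 1 ∈ Ideal.map (C : R →+* MvPolynomial (Fin 2) R) I →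
      ∃ f : Polynomial R, IsUnit f ∧ Cob f h := by
  intro N
  induction N with
  | zero =>
    intro R _ _ hF I hI h hs hc hI1
    exfalso
    have hnt : Nontrivial R := CharP.nontrivial_of_char_ne_one (R := R) (v := p) hp.out.ne_one
    rw [pow_zero, Ideal.one_eq_top] at hI
    exact top_ne_bot hI
  | succ N ih =>
    intro R _ _ hF I hI h hs hc hI1
    have hnt : Nontrivial R := CharP.nontrivial_of_char_ne_one (R := R) (v := p) hp.out.ne_one
    rcases Nat.eq_zero_or_pos N with rfl | hNpos
    · rw [zero_add, pow_one] at hI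
      subst hI
      rw [Ideal.map_bot, Ideal.mem_bot, sub_eq_zero] at hI1
      subst hI1
      exact ⟨1, isUnit_one, Cob.one⟩
    · obtain ⟨K, hKdef⟩ : ∃ K : Ideal R, K = I ^ N := ⟨_, rfl⟩
      have hKI : K ≤ I := by rw [hKdef]; exact Ideal.pow_le_self (by omega)
      have hIne : I ≠ ⊤ := by
        rintro rfl
        rw [Ideal.top_pow] at hI
        exact top_ne_bot hI
      have hKne : K ≠ ⊤ := fun hK => hIne (top_le_iff.mp (hK ▸ hKI))
      have hK2 : K * K = ⊥ := by
        rw [hKdef, ← pow_add, eq_bot_iff, ← hI]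
        exact Ideal.pow_le_pow_right (by omega)
      haveI : CharP (R ⧸ K) p := CharP.quotient' p K (by
        intro x hx
        by_contra hne
        have hnd : ¬ p ∣ x := fun hd => hne ((CharP.cast_eq_zero_iff R p x).mpr hd)
        exact hKne (Ideal.eq_top_of_isUnit_mem _ hx (isUnit_natCast_of_not_dvd p hnd)))
      have hFq : Function.Surjective (frobenius (R ⧸ K) p) := by
        intro y
        obtain ⟨y', rfl⟩ := Ideal.Quotient.mk_surjective y
        obtain ⟨x, hx⟩ := hF y'
        refine ⟨Ideal.Quotient.mk K x, ?_⟩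
        rw [frobenius_def] at hx ⊢
        rw [← map_pow, hx]
      have hIbar : (I.map (Ideal.Quotient.mk K)) ^ N = ⊥ := by
        rw [← Ideal.map_pow, ← hKdef, Ideal.map_quotient_self]
      have hmem : map (Ideal.Quotient.mk K) h - 1 ∈
          Ideal.map (C : (R ⧸ K) →+* MvPolynomial (Fin 2) (R ⧸ K))
            (I.map (Ideal.Quotient.mk K)) := by
        rw [← map_one (map (Ideal.Quotient.mk K)), ← map_sub, MvPolynomial.mem_map_C_iff]
        intro m
        rw [coeff_map]
        exact Ideal.mem_map_of_mem _ (MvPolynomial.mem_map_C_iff.mp hI1 m)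
      obtain ⟨fb, hfbu, hfbc⟩ := ih (R ⧸ K) hFq (I.map (Ideal.Quotient.mk K)) hIbar
        (map (Ideal.Quotient.mk K) h) (by rw [← map_sw, hs]) (mcoc_map _ hc) hmem
      obtain ⟨f₁, hf₁⟩ := Polynomial.map_surjective (Ideal.Quotient.mk K)
        Ideal.Quotient.mk_surjective fb
      have hKnil : IsNilpotent K := ⟨2, by rw [pow_two]; exact hK2⟩
      have hf₁u : IsUnit f₁ := by
        rw [Polynomial.isUnit_iff_coeff_isUnit_isNilpotent] at hfbu ⊢
        constructor
        · have := hfbu.1
          rw [← hf₁, Polynomial.coeff_map] at this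
          exact (IsNilpotent.isUnit_quotient_mk_iff hKnil).mp this
        · intro i hi
          have := hfbu.2 i hi
          rw [← hf₁, Polynomial.coeff_map] at this
          obtain ⟨k, hk⟩ := this
          rw [← map_pow, Ideal.Quotient.eq_zero_iff_mem] at hk
          refine ⟨k * 2, ?_⟩
          rw [pow_mul, pow_two]
          have := Ideal.mul_mem_mul hk hk
          rw [hK2] at this
          exact Ideal.mem_bot.mp this
      obtain ⟨u, hu⟩ := hf₁u
      obtain ⟨g₁, hg₁⟩ : ∃ g₁ : Polynomial R, g₁ = ((u⁻¹ : (Polynomial R)ˣ) : Polynomial R) :=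
        ⟨_, rfl⟩
      have hfg : f₁ * g₁ = 1 := by rw [← hu, hg₁]; exact u.mul_inv
      have hq : ∀ q : MvPolynomial (Fin 2) R,
          Polynomial.aeval q f₁ * Polynomial.aeval q g₁ = 1 := by
        intro q; rw [← map_mul, hfg, map_one]
      -- the defect lies in `K`
      have hD : Polynomial.aeval (X 0 + X 1 : MvPolynomial (Fin 2) R) f₁
          - Polynomial.aeval (X 0 : MvPolynomial (Fin 2) R) f₁
            * Polynomial.aeval (X 1 : MvPolynomial (Fin 2) R) f₁ * h ∈
          Ideal.map (C : R →+* MvPolynomial (Fin 2) R) K := by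
        have hcomp : (algebraMap (R ⧸ K) (MvPolynomial (Fin 2) (R ⧸ K))).comp
            (Ideal.Quotient.mk K) =
            (map (Ideal.Quotient.mk K) : MvPolynomial (Fin 2) R →+* _).comp
              (algebraMap R (MvPolynomial (Fin 2) R)) := by
          ext x; simp [MvPolynomial.algebraMap_eq]
        have hmq : ∀ q : MvPolynomial (Fin 2) R,
            map (Ideal.Quotient.mk K) (Polynomial.aeval q f₁) =
              Polynomial.aeval (map (Ideal.Quotient.mk K) q) fb := by
          intro q
          rw [Polynomial.map_aeval_eq_aeval_map hcomp, hf₁]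
        have hker : RingHom.ker (map (Ideal.Quotient.mk K) : MvPolynomial (Fin 2) R →+* _)
            = Ideal.map (C : R →+* MvPolynomial (Fin 2) R) K := by
          rw [MvPolynomial.ker_map, Ideal.mk_ker]
        rw [← hker, RingHom.mem_ker, map_sub, map_mul, map_mul, hmq, hmq, hmq, map_add, map_X,
          map_X, sub_eq_zero]
        exact hfbc
      obtain ⟨h', hh'⟩ : ∃ h' : MvPolynomial (Fin 2) R, h' = h *
          (Polynomial.aeval (X 0 : MvPolynomial (Fin 2) R) f₁
            * Polynomial.aeval (X 1 : MvPolynomial (Fin 2) R) f₁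
            * Polynomial.aeval (X 0 + X 1 : MvPolynomial (Fin 2) R) g₁) := ⟨_, rfl⟩
      have hh'1 : h' - 1 ∈ Ideal.map (C : R →+* MvPolynomial (Fin 2) R) K := by
        have e : h' - 1 = -((Polynomial.aeval (X 0 + X 1 : MvPolynomial (Fin 2) R) f₁
          - Polynomial.aeval (X 0 : MvPolynomial (Fin 2) R) f₁
            * Polynomial.aeval (X 1 : MvPolynomial (Fin 2) R) f₁ * h)
          * Polynomial.aeval (X 0 + X 1 : MvPolynomial (Fin 2) R) g₁) := by
          rw [hh']
          linear_combination hq (X 0 + X 1)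
        rw [e]
        exact neg_mem (Ideal.mul_mem_right _ _ hD)
      have hsh' : sw h' = h' := by
        have h0 : (sw (X 0 : MvPolynomial (Fin 2) R)) = X 1 := by simp [sw]
        have h1 : (sw (X 1 : MvPolynomial (Fin 2) R)) = X 0 := by simp [sw]
        rw [hh', map_mul, map_mul, map_mul, hs, ← Polynomial.aeval_algHom_apply,
          ← Polynomial.aeval_algHom_apply, ← Polynomial.aeval_algHom_apply, map_add, h0, h1,
          add_comm (X 1) (X 0)]
        ring
      have hch' : MCoc h' := by
        rw [hh']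
        exact hc.mul (mcoc_cob f₁ g₁ hfg)
      obtain ⟨f', hf'u, hf'c⟩ := sqzero_case p hF hK2 h' hsh' hch' hh'1
      refine ⟨f' * f₁, hf'u.mul ⟨u, hu⟩, ?_⟩
      unfold Cob at hf'c ⊢
      rw [hh'] at hf'c
      rw [map_mul, map_mul, map_mul]
      linear_combination (Polynomial.aeval (X 0 + X 1 : MvPolynomial (Fin 2) R) f₁) * hf'c
        + (Polynomial.aeval (X 0 : MvPolynomial (Fin 2) R) f'
          * Polynomial.aeval (X 1 : MvPolynomial (Fin 2) R) f' * h
          * Polynomial.aeval (X 0 : MvPolynomial (Fin 2) R) f₁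
          * Polynomial.aeval (X 1 : MvPolynomial (Fin 2) R) f₁) * hq (X 0 + X 1)

/-- Every symmetric multiplicative 2-cocycle `h` (a unit polynomial with `h(X,0) = 1`) of the
additive group over a ring of characteristic `p` with surjective Frobenius is a coboundary. -/
theorem split_of_frobenius_surjective (p : ℕ) [Fact p.Prime] (R : Type u) [CommRing R] [CharP R p]
    (hF : Function.Surjective (frobenius R p)) (h : MvPolynomial (Fin 2) R) (hu : IsUnit h)
    (h0 : aeval ![(X 0 : MvPolynomial (Fin 2) R), 0] h = 1) (hs : sw h = h) (hc : MCoc h) :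
    ∃ f : Polynomial R, IsUnit f ∧ Cob f h := by
  classical
  have hc0 : coeff 0 h = 1 := by
    have := congrArg (coeff 0) h0
    rwa [coeff_restrict h 0 rfl, coeff_zero_one] at this
  have hnil : ∀ m, IsNilpotent (coeff m (h - 1)) := by
    intro m
    by_cases hm : m = 0
    · subst hm
      rw [coeff_sub, hc0, coeff_zero_one, sub_self]
      exact IsNilpotent.zero
    · rw [coeff_sub, coeff_one, if_neg (Ne.symm hm), sub_zero]
      exact (MvPolynomial.isUnit_iff.mp hu).2 m hm
  obtain ⟨I, hIdef⟩ : ∃ I : Ideal R,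
      I = Ideal.span (((h - 1).support.image fun m => coeff m (h - 1) : Finset R) : Set R) :=
    ⟨_, rfl⟩
  have hfg : I.FG := ⟨_, hIdef.symm⟩
  have hle : I ≤ nilradical R := by
    rw [hIdef, Ideal.span_le]
    intro x hx
    rw [Finset.mem_coe, Finset.mem_image] at hx
    obtain ⟨m, -, rfl⟩ := hx
    exact hnil m
  obtain ⟨N, hN⟩ := hfg.isNilpotent_iff_le_nilradical.mpr hle
  rw [Ideal.zero_eq_bot] at hN
  have hmem : h - 1 ∈ Ideal.map (C : R →+* MvPolynomial (Fin 2) R) I := by
    rw [MvPolynomial.mem_map_C_iff]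
    intro m
    by_cases hm : m ∈ (h - 1).support
    · rw [hIdef]
      apply Ideal.subset_span
      rw [Finset.mem_coe, Finset.mem_image]
      exact ⟨m, hm, rfl⟩
    · rw [notMem_support_iff.mp hm]
      exact I.zero_mem
  exact main_aux p N R hF I hN h hs hc hmem

end Groth.Agent.Helper22.GaCoc
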