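import Groth.Agent.Lib.Helper22.GaCoc1

/-!
# Lazard's symmetric 2-cocycle lemma in characteristic `p`, part 2: coefficient lemmas
-/

open MvPolynomial

namespace Groth.Agent.Helper22.GaCoc

variable {R : Type*} [CommRing R]

/-- the exponent vector `(a, b)` -/
noncomputable def mk2 (a b : ℕ) : Fin 2 →₀ ℕ := Finsupp.single 0 a + Finsupp.single 1 b

@[simp] theorem mk2_zero (a b : ℕ) : mk2 a b 0 = a := by simp [mk2]
@[simp] theorem mk2_one (a b : ℕ) : mk2 a b 1 = b := by simp [mk2]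

theorem eq_mk2 (m : Fin 2 →₀ ℕ) : m = mk2 (m 0) (m 1) := by
  ext i; fin_cases i <;> simp

theorem mk2_eq_iff (a b : ℕ) (m : Fin 2 →₀ ℕ) : mk2 a b = m ↔ a = m 0 ∧ b = m 1 := by
  constructor
  · rintro rfl; simp
  · rintro ⟨rfl, rfl⟩; exact (eq_mk2 m).symm

theorem X_pow_mul_X_pow (a b : ℕ) :
    (X 0 : MvPolynomial (Fin 2) R) ^ a * X 1 ^ b = monomial (mk2 a b) 1 := by
  rw [X_pow_eq_monomial, X_pow_eq_monomial, monomial_mul, mul_one, mk2]

theorem coeff_add_pow (m : Fin 2 →₀ ℕ) (n : ℕ) :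
    coeff m ((X 0 + X 1 : MvPolynomial (Fin 2) R) ^ n) =
      if m 0 + m 1 = n then (n.choose (m 0) : R) else 0 := by
  classical
  rw [add_pow, coeff_sum]
  have h : ∀ k ∈ Finset.range (n + 1),
      coeff m ((X 0 : MvPolynomial (Fin 2) R) ^ k * X 1 ^ (n - k) * (n.choose k : MvPolynomial (Fin 2) R))
        = if k = m 0 ∧ n - k = m 1 then (n.choose k : R) else 0 := by
    intro k _
    rw [X_pow_mul_X_pow, mul_comm, ← map_natCast (C : R →+* MvPolynomial (Fin 2) R), coeff_C_mul,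
      coeff_monomial]
    simp only [mk2_eq_iff, mul_ite, mul_one, mul_zero]
  rw [Finset.sum_congr rfl h]
  split_ifs with hm
  · rw [Finset.sum_eq_single (m 0)]
    · rw [if_pos]; exact ⟨rfl, by omega⟩
    · intro k _ hk; rw [if_neg]; exact fun h => hk h.1
    · intro h; exact absurd (Finset.mem_range.mpr (by omega)) h
  · apply Finset.sum_eq_zero
    intro k hk
    rw [Finset.mem_range] at hk
    rw [if_neg]; rintro ⟨h1, h2⟩; omega

theorem coeff_X_one_pow (m : Fin 2 →₀ ℕ) (n : ℕ) :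
    coeff m ((X 1 : MvPolynomial (Fin 2) R) ^ n) = if m 0 = 0 ∧ m 1 = n then 1 else 0 := by
  classical
  have : (X 1 : MvPolynomial (Fin 2) R) ^ n = monomial (mk2 0 n) 1 := by
    rw [← X_pow_mul_X_pow, pow_zero, one_mul]
  rw [this, coeff_monomial]
  simp only [mk2_eq_iff]
  refine if_congr ?_ rfl rfl
  constructor <;> rintro ⟨h1, h2⟩ <;> exact ⟨h1.symm, h2.symm⟩

theorem coeff_polyAeval (g : Polynomial R) (q : MvPolynomial (Fin 2) R) (m : Fin 2 →₀ ℕ) :
    coeff m (Polynomial.aeval q g) = g.sum fun n a => a * coeff m (q ^ n) := by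
  rw [Polynomial.aeval_def, Polynomial.eval₂_eq_sum, Polynomial.sum, Polynomial.sum, coeff_sum]
  apply Finset.sum_congr rfl
  intro n _
  rw [MvPolynomial.algebraMap_eq, coeff_C_mul]

theorem coeff_polyAeval_add (g : Polynomial R) (m : Fin 2 →₀ ℕ) :
    coeff m (Polynomial.aeval (X 0 + X 1 : MvPolynomial (Fin 2) R) g) =
      g.coeff (m 0 + m 1) * ((m 0 + m 1).choose (m 0) : R) := by
  classical
  rw [coeff_polyAeval, Polynomial.sum]
  simp only [coeff_add_pow, mul_ite, mul_zero]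
  rw [Finset.sum_ite_eq]
  split_ifs with h
  · rfl
  · rw [Polynomial.notMem_support_iff.mp h, zero_mul]

theorem coeff_polyAeval_X_one (g : Polynomial R) (m : Fin 2 →₀ ℕ) :
    coeff m (Polynomial.aeval (X 1 : MvPolynomial (Fin 2) R) g) =
      if m 0 = 0 then g.coeff (m 1) else 0 := by
  classical
  rw [coeff_polyAeval, Polynomial.sum]
  simp only [coeff_X_one_pow, mul_ite, mul_one, mul_zero]
  by_cases h0 : m 0 = 0
  · simp only [h0, true_and, if_true]
    rw [Finset.sum_ite_eq]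
    split_ifs with h
    · rfl
    · rw [Polynomial.notMem_support_iff.mp h]
  · simp [h0]

end Groth.Agent.Helper22.GaCoc
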