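import Groth.Agent.Lib.Helper22.GaCoc2

/-!
# Lazard's symmetric 2-cocycle lemma in characteristic `p`, part 3: the main induction
-/

open MvPolynomial

namespace Groth.Agent.Helper22.GaCoc

variable {R : Type*} [CommRing R]

/-- linear maps preserve "coefficients in `J`" -/
theorem mem_map_of_linear {A B : Type*} [CommRing A] [Algebra R A] [CommRing B] [Algebra R B]
    (J : Ideal R) (ψ : A →ₗ[R] B) {x : A} (hx : x ∈ Ideal.map (algebraMap R A) J) :
    ψ x ∈ Ideal.map (algebraMap R B) J := by
  have hx' : x ∈ J • (⊤ : Submodule R A) := by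
    rw [Ideal.smul_top_eq_map]; exact hx
  have : ψ x ∈ J • (⊤ : Submodule R B) := by
    refine Submodule.smul_induction_on hx' ?_ ?_
    · intro r hr a _
      rw [map_smul]
      exact Submodule.smul_mem_smul hr Submodule.mem_top
    · intro a b ha hb
      rw [map_add]; exact add_mem ha hb
  rw [Ideal.smul_top_eq_map] at this; exact this

theorem coeff_D (F : MvPolynomial (Fin 2) R) (hc : cocL F = 0) (m : Fin 2 →₀ ℕ) :
    coeff (m + Finsupp.single 1 1) F * ((m 1 : R) + 1) =
      (gpol F).coeff (m 0 + m 1) * ((m 0 + m 1).choose (m 0) : R)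
        - (if m 0 = 0 then (gpol F).coeff (m 1) else 0) := by
  have := congrArg (coeff m) (pderiv_one_of_cocycle F hc)
  rwa [coeff_pderiv, coeff_sub, coeff_polyAeval_add, coeff_polyAeval_X_one] at this

theorem mk2_add_single (a b : ℕ) : mk2 a b + Finsupp.single 1 1 = mk2 a (b + 1) := by
  ext i; fin_cases i <;> simp [mk2]

theorem gpol_coeff (F : MvPolynomial (Fin 2) R) (hc : cocL F = 0) (k : ℕ) (hk : 1 ≤ k) :
    (gpol F).coeff k = coeff (mk2 k 1) F := by
  have := coeff_D F hc (mk2 k 0)
  rw [mk2_add_single] at this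
  simp only [mk2_zero, mk2_one, Nat.cast_zero, zero_add, mul_one, add_zero, Nat.choose_self,
    Nat.cast_one] at this
  rw [if_neg (by omega), sub_zero] at this
  exact this.symm

section charp

variable (p : ℕ) [hp : Fact p.Prime] [CharP R p]

theorem isUnit_natCast_of_not_dvd {n : ℕ} (h : ¬ p ∣ n) : IsUnit (n : R) := by
  have hc : Nat.Coprime n p := ((Nat.Prime.coprime_iff_not_dvd hp.out).mpr h).symm
  obtain ⟨a, b, hab⟩ := Nat.isCoprime_iff_coprime.mpr hc
  have h1 : (n : R) * (a : R) = 1 := by
    have := congrArg (Int.cast : ℤ → R) hab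
    push_cast at this
    rw [CharP.cast_eq_zero R p, mul_zero, add_zero, mul_comm] at this
    exact this
  exact IsUnit.of_mul_eq_one _ h1

theorem lucas_special (t : ℕ) : (((p - 1) + p * t).choose (p - 1) : R) = 1 := by
  have hp1 : 1 ≤ p := hp.out.one_le
  have hlt : p - 1 < p := by omega
  have h := Choose.choose_modEq_choose_mod_mul_choose_div_nat (p := p)
    (n := (p - 1) + p * t) (k := p - 1)
  rw [Nat.add_mul_mod_self_left, Nat.mod_eq_of_lt hlt,
    Nat.add_mul_div_left _ _ hp.out.pos, Nat.div_eq_of_lt hlt, Nat.choose_self, zero_add,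
    Nat.choose_zero_right, mul_one] at h
  rw [CharP.natCast_eq_natCast' R p h, Nat.cast_one]

theorem gpol_coeff_vanish (F : MvPolynomial (Fin 2) R) (hc : cocL F = 0) (k : ℕ)
    (hdvd : p ∣ k + 1) (hlt : p < k + 1) : (gpol F).coeff k = 0 := by
  have hp1 : 1 ≤ p := hp.out.one_le
  obtain ⟨t, ht⟩ := hdvd
  obtain ⟨t', rfl⟩ : ∃ t', t = t' + 1 := by
    rcases t with _ | t'
    · simp at ht
    · exact ⟨t', rfl⟩
  have hk : k = (p - 1) + p * t' := by
    rw [mul_add, mul_one] at ht; omega
  have hk2 : k + 1 - p = p * t' := by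
    rw [mul_add, mul_one] at ht; omega
  have ht' : 1 ≤ p * t' := by
    rw [mul_add, mul_one] at ht; omega
  have := coeff_D F hc (mk2 (k + 1 - p) (p - 1))
  simp only [mk2_zero, mk2_one] at this
  have e1 : ((p - 1 : ℕ) : R) + 1 = 0 := by
    have : ((p - 1 : ℕ) : R) + 1 = ((p - 1 + 1 : ℕ) : R) := by push_cast; ring
    rw [this, Nat.sub_add_cancel hp1, CharP.cast_eq_zero]
  rw [e1, mul_zero, if_neg (by omega), sub_zero] at this
  have e2 : k + 1 - p + (p - 1) = k := by omega
  rw [e2] at this
  have e3 : k.choose (k + 1 - p) = k.choose (p - 1) :=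
    Nat.choose_symm_of_eq_add (by omega)
  rw [e3] at this
  have e4 : (k.choose (p - 1) : R) = 1 := by
    rw [hk]; exact lucas_special p t'
  rw [e4, mul_one] at this
  exact this.symm


theorem exists_antideriv (g : Polynomial R) (n : ℕ)
    (h1 : ∀ k, n ≤ k → g.coeff k = 0)
    (h2 : ∀ k, p ∣ k + 1 → p < k + 1 → g.coeff k = 0) :
    Polynomial.derivative (∑ m ∈ Finset.range n,
        Polynomial.C (g.coeff m * Ring.inverse ((m + 1 : ℕ) : R)) * Polynomial.X ^ (m + 1))
      + Polynomial.C (g.coeff (p - 1)) * Polynomial.X ^ (p - 1) = g := by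
  classical
  have hp1 : 1 ≤ p := hp.out.one_le
  ext k
  rw [Polynomial.coeff_add, Polynomial.derivative_sum, Polynomial.finset_sum_coeff]
  simp only [Polynomial.derivative_C_mul_X_pow, Nat.add_sub_cancel, Polynomial.coeff_C_mul_X_pow]
  rw [Finset.sum_ite_eq]
  by_cases hd : p ∣ k + 1
  · have hz : ((k + 1 : ℕ) : R) = 0 := (CharP.cast_eq_zero_iff R p _).mpr hd
    have e1 : (if k ∈ Finset.range n then
        g.coeff k * Ring.inverse ((k + 1 : ℕ) : R) * ((k + 1 : ℕ) : R) else 0) = 0 := by
      split_ifs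
      · rw [hz, mul_zero]
      · rfl
    rw [e1, zero_add]
    by_cases hk : k = p - 1
    · rw [if_pos hk, hk]
    · rw [if_neg hk]
      have hle : p ≤ k + 1 := Nat.le_of_dvd (Nat.succ_pos k) hd
      exact (h2 k hd (by omega)).symm
  · have hk : k ≠ p - 1 := by
      rintro rfl
      apply hd
      rw [Nat.sub_add_cancel hp1]
    rw [if_neg hk, add_zero]
    have hu : IsUnit (((k + 1 : ℕ) : R)) := isUnit_natCast_of_not_dvd p hd
    split_ifs with hkn
    · rw [mul_assoc, Ring.inverse_mul_cancel _ hu, mul_one]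
    · rw [Finset.mem_range, not_lt] at hkn
      exact (h1 k hkn).symm

theorem exists_expand_eq (F' : MvPolynomial (Fin 2) R) (h0 : pderiv 0 F' = 0)
    (h1 : pderiv 1 F' = 0) : ∃ H : MvPolynomial (Fin 2) R, expand p H = F' := by
  classical
  have key : ∀ d ∈ F'.support, ∀ i, p ∣ d i := by
    intro d hd i
    by_contra hnd
    have hdi : d i ≠ 0 := fun h => hnd (h ▸ dvd_zero p)
    have hle : Finsupp.single i 1 ≤ d := by
      rw [Finsupp.single_le_iff]
      exact Nat.one_le_iff_ne_zero.mpr hdi
    have hm : (d - Finsupp.single i 1) + Finsupp.single i 1 = d := tsub_add_cancel_of_le hle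
    have hi : pderiv i F' = 0 := by
      fin_cases i
      · exact h0
      · exact h1
    have h3 := congrArg (coeff (d - Finsupp.single i 1)) hi
    rw [coeff_pderiv, hm, coeff_zero] at h3
    have e : (((d - Finsupp.single i 1 : Fin 2 →₀ ℕ) i : ℕ) : R) + 1 = (d i : R) := by
      have : (d - Finsupp.single i 1 : Fin 2 →₀ ℕ) i + 1 = d i := by
        simp only [Finsupp.tsub_apply, Finsupp.single_eq_same]
        omega
      rw [← this]; push_cast; ring
    rw [e] at h3
    have hu := isUnit_natCast_of_not_dvd (R := R) p hnd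
    exact (mem_support_iff.mp hd) (hu.mul_left_eq_zero.mp h3)
  refine ⟨∑ d ∈ F'.support, monomial (d.mapRange (· / p) (Nat.zero_div p)) (coeff d F'), ?_⟩
  rw [map_sum]
  conv_rhs => rw [F'.as_sum]
  apply Finset.sum_congr rfl
  intro d hd
  have hd' : p • d.mapRange (· / p) (Nat.zero_div p) = d := by
    ext i
    rw [Finsupp.smul_apply, Finsupp.mapRange_apply, smul_eq_mul]
    exact Nat.mul_div_cancel' (key d hd i)
  rw [expand_monomial, hd']

theorem totalDegree_Spol_le : (Spol (R := R) p).totalDegree ≤ p := by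
  have : Nontrivial R := CharP.nontrivial_of_char_ne_one (R := R) (v := p) hp.out.ne_one
  apply totalDegree_finsetSum_le
  intro j hj
  rw [Finset.mem_Ioo] at hj
  refine (totalDegree_mul _ _).trans ?_
  refine (add_le_add (totalDegree_mul _ _) le_rfl).trans ?_
  rw [totalDegree_C, totalDegree_X_pow, totalDegree_X_pow]
  omega

theorem totalDegree_delL_X_pow_le [Nontrivial R] (k : ℕ) :
    (delL (Polynomial.X ^ k : Polynomial R)).totalDegree ≤ k := by
  rw [delL_X_pow]
  refine (totalDegree_sub _ _).trans (max_le ((totalDegree_sub _ _).trans (max_le ?_ ?_)) ?_)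
  · refine (totalDegree_pow _ _).trans ?_
    have : (X 0 + X 1 : MvPolynomial (Fin 2) R).totalDegree ≤ 1 := by
      refine (totalDegree_add _ _).trans ?_
      rw [totalDegree_X, totalDegree_X, max_self]
    calc k * (X 0 + X 1 : MvPolynomial (Fin 2) R).totalDegree ≤ k * 1 := Nat.mul_le_mul_left _ this
      _ = k := mul_one k
  · rw [totalDegree_X_pow]
  · rw [totalDegree_X_pow]

theorem totalDegree_delL_sum_le [Nontrivial R] (a : ℕ → R) (n : ℕ) :
    (delL (∑ m ∈ Finset.range n, Polynomial.C (a m) * Polynomial.X ^ (m + 1))).totalDegree ≤ n := by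
  rw [map_sum]
  apply totalDegree_finsetSum_le
  intro m hm
  rw [Finset.mem_range] at hm
  rw [Polynomial.C_mul', map_smul]
  exact (totalDegree_smul_le _ _).trans ((totalDegree_delL_X_pow_le (m + 1)).trans (by omega))

end charp

end Groth.Agent.Helper22.GaCoc
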