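import Groth.Agent.Lib.Helper22.GaCoc3

/-!
# Lazard's symmetric 2-cocycle lemma in characteristic `p`, part 4: the theorem

`lazard`: over a ring `R` of characteristic `p`, every symmetric additive 2-cocycle `F(X,Y)` with
coefficients in an ideal `J` is `δG + ∑ rᵢ S(X^{p^i}, Y^{p^i})` with `G`, `rᵢ` having coefficients
in `J`.
-/

open MvPolynomial

namespace Groth.Agent.Helper22.GaCoc

variable {R : Type*} [CommRing R]

theorem sum_support_fin2 (d : Fin 2 →₀ ℕ) : ∑ i ∈ d.support, d i = d 0 + d 1 := by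
  rw [← Fin.sum_univ_two]
  exact Finset.sum_subset (Finset.subset_univ _)
    (fun i _ hi => Finsupp.notMem_support_iff.mp hi)

variable (p : ℕ) [hp : Fact p.Prime] [CharP R p] (J : Ideal R)

theorem Sq_one : Sq (R := R) p 1 = Spol p := by
  rw [Sq_eq_expand, expand_one_apply]

theorem step (F : MvPolynomial (Fin 2) R) (hs : sw F = F) (hc : cocL F = 0)
    (hJ : F ∈ Ideal.map (C : R →+* MvPolynomial (Fin 2) R) J) (n : ℕ)
    (hn : F.totalDegree = n) (hpos : 0 < n) :
    ∃ (G : Polynomial R) (c : R) (H : MvPolynomial (Fin 2) R),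
      G ∈ Ideal.map (Polynomial.C : R →+* Polynomial R) J ∧ c ∈ J ∧
      H ∈ Ideal.map (C : R →+* MvPolynomial (Fin 2) R) J ∧ sw H = H ∧ cocL H = 0 ∧
      H.totalDegree < n ∧ F = delL G + C c * Spol p + expand p H := by
  have hp1 : 1 ≤ p := hp.out.one_le
  have hp2 : 2 ≤ p := hp.out.two_le
  have hnt : Nontrivial R := CharP.nontrivial_of_char_ne_one (R := R) (v := p) hp.out.ne_one
  obtain ⟨g, hg⟩ : ∃ g, g = gpol F := ⟨_, rfl⟩
  have hgJ : g ∈ Ideal.map (Polynomial.C : R →+* Polynomial R) J := by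
    have := mem_map_of_linear J ((aeval (R := R) ![Polynomial.X, (0 : Polynomial R)]).toLinearMap.comp
      (pderiv (R := R) (1 : Fin 2)).toLinearMap) (x := F) (by rwa [MvPolynomial.algebraMap_eq])
    rw [Polynomial.algebraMap_eq] at this
    rw [hg]; exact this
  have hD : pderiv 1 F = Polynomial.aeval (X 0 + X 1 : MvPolynomial (Fin 2) R) g
      - Polynomial.aeval (X 1 : MvPolynomial (Fin 2) R) g := by
    rw [hg]; exact pderiv_one_of_cocycle F hc
  have h1 : ∀ k, n ≤ k → g.coeff k = 0 := by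
    intro k hk
    rw [hg, gpol_coeff F hc k (by omega)]
    apply coeff_eq_zero_of_totalDegree_lt
    rw [hn, sum_support_fin2, mk2_zero, mk2_one]
    omega
  have h2 : ∀ k, p ∣ k + 1 → p < k + 1 → g.coeff k = 0 := by
    intro k hd hl
    rw [hg]; exact gpol_coeff_vanish p F hc k hd hl
  obtain ⟨c, hcdef⟩ : ∃ c, c = g.coeff (p - 1) := ⟨_, rfl⟩
  obtain ⟨a, hadef⟩ : ∃ a : ℕ → R, a = fun m => g.coeff m * Ring.inverse ((m + 1 : ℕ) : R) :=
    ⟨_, rfl⟩
  obtain ⟨G, hGdef⟩ : ∃ G, G = ∑ m ∈ Finset.range n,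
      Polynomial.C (a m) * Polynomial.X ^ (m + 1) := ⟨_, rfl⟩
  have hGd : Polynomial.derivative G + Polynomial.C c * Polynomial.X ^ (p - 1) = g := by
    rw [hGdef, hadef, hcdef]; exact exists_antideriv p g n h1 h2
  have hcJ : c ∈ J := by rw [hcdef]; exact Ideal.mem_map_C_iff.mp hgJ (p - 1)
  have hGJ : G ∈ Ideal.map (Polynomial.C : R →+* Polynomial R) J := by
    rw [hGdef]
    apply Ideal.sum_mem
    intro m _
    apply Ideal.mul_mem_right
    apply Ideal.mem_map_of_mem
    rw [hadef]
    exact J.mul_mem_right _ (Ideal.mem_map_C_iff.mp hgJ m)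
  obtain ⟨F', hF'⟩ : ∃ F', F' = F - C c * Spol p - delL G := ⟨_, rfl⟩
  have hF'1 : pderiv 1 F' = 0 := by
    rw [hF', map_sub, map_sub, hD, pderiv_C_mul, pderiv_one_Spol p hp.out, pderiv_one_delL, ← hGd]
    simp only [map_add, map_mul, Polynomial.aeval_C, Polynomial.aeval_X_pow,
      MvPolynomial.algebraMap_eq]
    ring
  have hsF' : sw F' = F' := by
    rw [hF', map_sub, map_sub, hs, map_mul, sw_Spol p hp.out, sw_delL, algHom_C,
      MvPolynomial.algebraMap_eq]
  have hF'0 : pderiv 0 F' = 0 := by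
    rw [pderiv_zero_of_sw F' hsF', hF'1, map_zero]
  have hcF' : cocL F' = 0 := by
    rw [hF', map_sub, map_sub, hc, cocL_delL, C_mul', map_smul, cocL_Spol p hp.out, smul_zero,
      sub_zero, sub_zero]
  have hJF' : F' ∈ Ideal.map (C : R →+* MvPolynomial (Fin 2) R) J := by
    rw [hF']
    refine sub_mem (sub_mem hJ (Ideal.mul_mem_right _ _ (Ideal.mem_map_of_mem _ hcJ))) ?_
    have := mem_map_of_linear J (delL (R := R)) (x := G) (by rwa [Polynomial.algebraMap_eq])
    rwa [MvPolynomial.algebraMap_eq] at this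
  obtain ⟨H, hH⟩ := exists_expand_eq p F' hF'0 hF'1
  have hsH : sw H = H := by
    have := expand_sw (R := R) p 1 H
    rw [pow_one, hH, hsF', ← hH] at this
    exact expand_injective hp.out.pos this
  have hcH : cocL H = 0 := by
    have := expand_cocL (R := R) p 1 H
    rw [pow_one, hH, hcF', ← map_zero (expand p)] at this
    exact expand_injective hp.out.pos this
  have hJH : H ∈ Ideal.map (C : R →+* MvPolynomial (Fin 2) R) J := by
    rw [MvPolynomial.mem_map_C_iff]
    intro d
    rw [← coeff_expand_smul p hp.out.ne_zero H d, hH]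
    exact MvPolynomial.mem_map_C_iff.mp hJF' _
  have hle : F'.totalDegree ≤ n := by
    rw [hF']
    refine (totalDegree_sub _ _).trans (max_le ((totalDegree_sub _ _).trans (max_le hn.le ?_)) ?_)
    · by_cases hc0 : c = 0
      · simp [hc0]
      · have hpn : p ≤ n := by
          by_contra hlt
          exact hc0 (by rw [hcdef]; exact h1 (p - 1) (by omega))
        refine (totalDegree_mul _ _).trans ?_
        rw [totalDegree_C, zero_add]
        exact (totalDegree_Spol_le p).trans hpn
    · rw [hGdef]; exact totalDegree_delL_sum_le a n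
  have htd : F'.totalDegree = H.totalDegree * p := by rw [← hH, totalDegree_expand]
  have hlt : H.totalDegree < n := by
    by_contra hge
    rw [not_lt] at hge
    have : n * 2 ≤ H.totalDegree * p := Nat.mul_le_mul hge hp2
    omega
  refine ⟨G, c, H, hGJ, hcJ, hJH, hsH, hcH, hlt, ?_⟩
  rw [hH, hF']; ring

theorem lazard : ∀ (n : ℕ) (F : MvPolynomial (Fin 2) R), F.totalDegree = n → sw F = F →
    cocL F = 0 → F ∈ Ideal.map (C : R →+* MvPolynomial (Fin 2) R) J →
    ∃ (G : Polynomial R) (N : ℕ) (r : ℕ → R),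
      G ∈ Ideal.map (Polynomial.C : R →+* Polynomial R) J ∧ (∀ i, r i ∈ J) ∧
      F = delL G + ∑ i ∈ Finset.range N, C (r i) * Sq p (p ^ i) := by
  intro n
  induction n using Nat.strong_induction_on with
  | _ n ih =>
    intro F hn hs hc hJ
    rcases Nat.eq_zero_or_pos n with h0 | hpos
    · rw [h0] at hn
      have hF := totalDegree_eq_zero_iff_eq_C.mp hn
      have haJ : coeff 0 F ∈ J := MvPolynomial.mem_map_C_iff.mp hJ 0
      refine ⟨Polynomial.C (-(coeff 0 F)), 0, fun _ => 0, ?_, fun _ => J.zero_mem, ?_⟩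
      · exact Ideal.mem_map_of_mem _ (J.neg_mem haJ)
      · rw [Finset.range_zero, Finset.sum_empty, add_zero, delL_apply]
        simp only [Polynomial.aeval_C, MvPolynomial.algebraMap_eq, map_neg]
        conv_lhs => rw [hF]
        ring
    · obtain ⟨G, c, H, hGJ, hcJ, hJH, hsH, hcH, hlt, hFeq⟩ := step p J F hs hc hJ n hn hpos
      obtain ⟨G₁, N, r, hG₁J, hrJ, hHeq⟩ := ih H.totalDegree hlt H rfl hsH hcH hJH
      refine ⟨G + Polynomial.expand R p G₁, N + 1, fun i => Nat.casesOn i c r, ?_, ?_, ?_⟩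
      · refine add_mem hGJ ?_
        rw [Ideal.mem_map_C_iff]
        intro k
        rw [Polynomial.coeff_expand hp.out.pos]
        split_ifs
        · exact Ideal.mem_map_C_iff.mp hG₁J _
        · exact J.zero_mem
      · intro i
        cases i with
        | zero => exact hcJ
        | succ i => exact hrJ i
      · rw [Finset.sum_range_succ', hFeq, hHeq, map_add, map_add, expand_delL, map_sum]
        simp only [map_mul, expand_C, expand_Sq, pow_zero, Sq_one, Nat.rec_zero, Nat.rec_add_one]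
        ring

end Groth.Agent.Helper22.GaCoc
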