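import Groth.Agent.Lib.Helper22.GaCoc4

/-!
# A truncated Artin–Hasse exponential in characteristic `p` via an ODE

We construct polynomials `E, η ∈ R[T]` (`R` of characteristic `p`) with `E(0) = 1` and
`E' = E · (1 + T^(p-1)) - T^(2p-1) · η`.
-/

open Polynomial

namespace Groth.Agent.Helper22.GaCoc

variable {R : Type*} [CommRing R]

/-- solving `g' - g = f` when some iterated derivative of `f` vanishes -/
theorem tele (f : R[X]) (N : ℕ) (hN : derivative^[N] f = 0) :
    derivative (-∑ k ∈ Finset.range N, derivative^[k] f)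
      - (-∑ k ∈ Finset.range N, derivative^[k] f) = f := by
  have h1 : derivative (∑ k ∈ Finset.range N, derivative^[k] f) =
      ∑ k ∈ Finset.range N, derivative^[k + 1] f := by
    rw [map_sum]
    apply Finset.sum_congr rfl
    intro k _
    rw [Function.iterate_succ_apply']
  have h2 : ∑ k ∈ Finset.range N, derivative^[k + 1] f + f =
      ∑ k ∈ Finset.range N, derivative^[k] f + derivative^[N] f := by
    rw [← Finset.sum_range_succ, Finset.sum_range_succ']
    rfl
  rw [map_neg, h1]
  rw [hN, add_zero] at h2
  linear_combination (-1 : R[X]) * h2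

variable (p : ℕ) [hp : Fact p.Prime] [CharP R p]

theorem wilson_cast : (((p - 1).factorial : ℕ) : R) = -1 := by
  have := congrArg (ZMod.castHom (dvd_refl p) R) (ZMod.wilsons_lemma p)
  rw [map_natCast, map_neg, map_one] at this
  exact this

theorem exists_E : ∃ E η : R[X], E.coeff 0 = 1 ∧
    derivative E = E * (1 + X ^ (p - 1)) - X ^ (2 * p - 1) * η := by
  have hp1 : 1 ≤ p := hp.out.one_le
  -- the truncated exponential
  obtain ⟨e, he⟩ : ∃ e : R[X], e = -∑ k ∈ Finset.range p, derivative^[k] (X ^ (p - 1) : R[X]) :=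
    ⟨_, rfl⟩
  have he1 : derivative e - e = X ^ (p - 1) := by
    rw [he]
    apply tele
    apply iterate_derivative_eq_zero
    exact lt_of_le_of_lt (natDegree_X_pow_le _) (by omega)
  have he0 : e.coeff 0 = 1 := by
    rw [he, coeff_neg, finsetSum_coeff]
    simp only [coeff_iterate_derivative, zero_add, coeff_X_pow, Nat.descFactorial_self]
    rw [Finset.sum_eq_single (p - 1)]
    · rw [if_pos rfl, nsmul_eq_mul, mul_one, wilson_cast, neg_neg]
    · intro k _ hk
      rw [if_neg hk, smul_zero]
    · intro h
      exact absurd (Finset.mem_range.mpr (by omega)) h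
  obtain ⟨w, hw⟩ : X ∣ e - 1 := by
    rw [X_dvd_iff, coeff_sub, he0, coeff_one_zero, sub_self]
  obtain ⟨η, hη⟩ : ∃ η : R[X], η = -∑ k ∈ Finset.range (w.natDegree + 1), derivative^[k] w :=
    ⟨_, rfl⟩
  have hη1 : derivative η - η = w := by
    rw [hη]
    apply tele
    exact iterate_derivative_eq_zero (Nat.lt_succ_self _)
  refine ⟨e + X ^ p * η, η, ?_, ?_⟩
  · rw [coeff_add, he0, mul_coeff_zero, coeff_X_pow, if_neg (by omega), zero_mul, add_zero]
  · have hpz : (p : R[X]) = 0 := CharP.cast_eq_zero _ p
    have e1 : derivative e = e + X ^ (p - 1) := by linear_combination he1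
    have e2 : derivative η = η + w := by linear_combination hη1
    have e3 : (X : R[X]) ^ p = X ^ (p - 1) * X := by
      rw [← pow_succ, Nat.sub_add_cancel hp1]
    have e4 : (X : R[X]) ^ (2 * p - 1) = X ^ (p - 1) * X ^ p := by
      rw [← pow_add]; congr 1; omega
    rw [derivative_add, derivative_mul, derivative_X_pow, e1, e2, map_natCast, hpz, e4]
    have hw' : X ^ p * w = X ^ (p - 1) * (e - 1) := by rw [e3, hw]; ring
    linear_combination hw'

end Groth.Agent.Helper22.GaCoc
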