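import Groth.Agent.Lib.Helper22.GaCoc5

/-!
# Order ideals in `R[X₀, X₁]` and the functional equation of the truncated Artin–Hasse exponential
-/

open MvPolynomial

namespace Groth.Agent.Helper22.GaCoc

variable {R : Type*} [CommRing R]

/-- polynomials all of whose monomials have total degree `≥ n` -/
def Ord (n : ℕ) : Ideal (MvPolynomial (Fin 2) R) where
  carrier := {f | ∀ m : Fin 2 →₀ ℕ, m 0 + m 1 < n → coeff m f = 0}
  zero_mem' := by intro m _; simp
  add_mem' := by
    intro a b ha hb m hm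
    rw [coeff_add, ha m hm, hb m hm, add_zero]
  smul_mem' := by
    intro c f hf m hm
    classical
    rw [smul_eq_mul, coeff_mul]
    apply Finset.sum_eq_zero
    intro x hx
    rw [Finset.HasAntidiagonal.mem_antidiagonal] at hx
    have h0 := DFunLike.congr_fun hx 0
    have h1 := DFunLike.congr_fun hx 1
    simp only [Finsupp.coe_add, Pi.add_apply] at h0 h1
    rw [hf x.2 (by omega), mul_zero]

theorem mem_Ord {n : ℕ} {f : MvPolynomial (Fin 2) R} :
    f ∈ Ord n ↔ ∀ m : Fin 2 →₀ ℕ, m 0 + m 1 < n → coeff m f = 0 := Iff.rfl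

theorem Ord_mono {a b : ℕ} (h : a ≤ b) : (Ord b : Ideal (MvPolynomial (Fin 2) R)) ≤ Ord a := by
  intro f hf m hm
  exact hf m (by omega)

theorem mul_mem_Ord {a b : ℕ} {f g : MvPolynomial (Fin 2) R} (hf : f ∈ Ord a) (hg : g ∈ Ord b) :
    f * g ∈ Ord (a + b) := by
  classical
  intro m hm
  rw [coeff_mul]
  apply Finset.sum_eq_zero
  intro x hx
  rw [Finset.HasAntidiagonal.mem_antidiagonal] at hx
  have h0 := DFunLike.congr_fun hx 0
  have h1 := DFunLike.congr_fun hx 1
  simp only [Finsupp.coe_add, Pi.add_apply] at h0 h1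
  by_cases hxa : x.1 0 + x.1 1 < a
  · rw [hf x.1 hxa, zero_mul]
  · rw [hg x.2 (by omega), mul_zero]

theorem pow_mem_Ord {f : MvPolynomial (Fin 2) R} (hf : f ∈ Ord 1) (k : ℕ) : f ^ k ∈ Ord k := by
  induction k with
  | zero => intro m hm; omega
  | succ k ih => rw [pow_succ]; exact mul_mem_Ord ih hf

theorem monomial_mem_Ord (d : Fin 2 →₀ ℕ) (c : R) : monomial d c ∈ Ord (d 0 + d 1) := by
  classical
  intro m hm
  rw [coeff_monomial, if_neg]
  rintro rfl
  omega

theorem X_mem_Ord (i : Fin 2) : (X i : MvPolynomial (Fin 2) R) ∈ Ord 1 := by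
  have := monomial_mem_Ord (R := R) (Finsupp.single i 1) 1
  have e : (Finsupp.single i 1 : Fin 2 →₀ ℕ) 0 + (Finsupp.single i 1 : Fin 2 →₀ ℕ) 1 = 1 := by
    fin_cases i <;> simp
  rw [e] at this
  exact this

theorem Spol_mem_Ord (p : ℕ) : Spol (R := R) p ∈ Ord p := by
  apply Ideal.sum_mem
  intro j hj
  rw [Finset.mem_Ioo] at hj
  rw [mul_assoc, X_pow_mul_X_pow]
  apply Ideal.mul_mem_left
  have := monomial_mem_Ord (R := R) (mk2 j (p - j)) 1
  rw [mk2_zero, mk2_one] at this
  have e : j + (p - j) = p := by omega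
  rw [e] at this
  exact this

/-- coefficients of the swap -/
theorem coeff_sw (F : MvPolynomial (Fin 2) R) (m : Fin 2 →₀ ℕ) :
    coeff m (sw F) = coeff (mk2 (m 1) (m 0)) F := by
  classical
  induction F using MvPolynomial.induction_on' with
  | monomial d c =>
    have : sw (monomial d c) = monomial (mk2 (d 1) (d 0)) c := by
      rw [sw, aeval_monomial, Finsupp.prod_fintype _ _ (fun i => pow_zero _), Fin.prod_univ_two]
      simp only [Matrix.cons_val_zero, Matrix.cons_val_one, MvPolynomial.algebraMap_eq]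
      rw [mul_comm (X 1 ^ d 0), X_pow_mul_X_pow, C_mul_monomial, mul_one]
    rw [this, coeff_monomial, coeff_monomial]
    refine if_congr ?_ rfl rfl
    rw [mk2_eq_iff]
    constructor
    · rintro ⟨h1, h2⟩
      rw [eq_mk2 d, h1, h2]
    · rintro rfl
      simp
  | add a b ha hb => rw [map_add, coeff_add, coeff_add, ha, hb]

/-- coefficients of the restriction to `X₁ = 0` -/
theorem coeff_restrict (F : MvPolynomial (Fin 2) R) (m : Fin 2 →₀ ℕ) (hm : m 1 = 0) :
    coeff m (aeval ![X 0, (0 : MvPolynomial (Fin 2) R)] F) = coeff m F := by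
  classical
  induction F using MvPolynomial.induction_on' with
  | monomial d c =>
    rw [aeval_monomial, Finsupp.prod_fintype _ _ (fun i => pow_zero _), Fin.prod_univ_two]
    simp only [Matrix.cons_val_zero, Matrix.cons_val_one, MvPolynomial.algebraMap_eq]
    by_cases hd : d 1 = 0
    · rw [hd, pow_zero, mul_one]
      have : (X 0 : MvPolynomial (Fin 2) R) ^ d 0 = monomial d 1 := by
        rw [← mul_one (X 0 ^ d 0), ← pow_zero (X 1), X_pow_mul_X_pow, ← hd, ← eq_mk2]
      rw [this, C_mul_monomial, mul_one]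
    · rw [zero_pow hd, mul_zero, mul_zero, coeff_zero, coeff_monomial, if_neg]
      rintro rfl
      exact hd hm
  | add a b ha hb => rw [map_add, coeff_add, coeff_add, ha, hb]

end Groth.Agent.Helper22.GaCoc
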