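import Groth.Agent.Lib.Helper22.GaCoc6

/-!
# The functional equation of the truncated Artin–Hasse exponential
-/

open MvPolynomial

namespace Groth.Agent.Helper22.GaCoc

variable {R : Type*} [CommRing R]

variable (p : ℕ)

/-- the defect of the functional equation -/
noncomputable def Phi (E : Polynomial R) : MvPolynomial (Fin 2) R :=
  Polynomial.aeval (X 0 + X 1 : MvPolynomial (Fin 2) R) E
    - Polynomial.aeval (X 0 : MvPolynomial (Fin 2) R) E
      * Polynomial.aeval (X 1 : MvPolynomial (Fin 2) R) E * (1 + Spol p)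

theorem sw_Phi (hp : p.Prime) (E : Polynomial R) : sw (Phi p E) = Phi p E := by
  have h0 : (sw (X 0 : MvPolynomial (Fin 2) R)) = X 1 := by simp [sw]
  have h1 : (sw (X 1 : MvPolynomial (Fin 2) R)) = X 0 := by simp [sw]
  rw [Phi, map_sub, map_mul, map_mul, map_add, map_one, sw_Spol p hp,
    ← Polynomial.aeval_algHom_apply, ← Polynomial.aeval_algHom_apply,
    ← Polynomial.aeval_algHom_apply, map_add, h0, h1, add_comm (X 1) (X 0)]
  ring

theorem restrict_Spol :
    aeval ![X 0, (0 : MvPolynomial (Fin 2) R)] (Spol (R := R) p) = 0 := by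
  rw [Spol, map_sum]
  apply Finset.sum_eq_zero
  intro j hj
  rw [Finset.mem_Ioo] at hj
  rw [map_mul, map_pow, aeval_X]
  have : (![X 0, (0 : MvPolynomial (Fin 2) R)] 1) = 0 := rfl
  rw [this, zero_pow (by omega), mul_zero]

theorem restrict_Phi (E : Polynomial R) (hE0 : E.coeff 0 = 1) :
    aeval ![X 0, (0 : MvPolynomial (Fin 2) R)] (Phi p E) = 0 := by
  rw [Phi, map_sub, map_mul, map_mul, map_add, map_one, restrict_Spol,
    ← Polynomial.aeval_algHom_apply, ← Polynomial.aeval_algHom_apply,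
    ← Polynomial.aeval_algHom_apply, map_add, aeval_X, aeval_X]
  simp only [Matrix.cons_val_zero, Matrix.cons_val_one, add_zero]
  rw [← Polynomial.coeff_zero_eq_aeval_zero', hE0, map_one, mul_one, mul_one, sub_self]

/-- the error term in the differential equation for `Phi` -/
noncomputable def Omega (E η : Polynomial R) : MvPolynomial (Fin 2) R :=
  -((X 0 + X 1) ^ (2 * p - 1) * Polynomial.aeval (X 0 + X 1 : MvPolynomial (Fin 2) R) η)
    + X 0 ^ (2 * p - 1) * Polynomial.aeval (X 0 : MvPolynomial (Fin 2) R) η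
        * Polynomial.aeval (X 1 : MvPolynomial (Fin 2) R) E * (1 + Spol p)
    + Polynomial.aeval (X 0 : MvPolynomial (Fin 2) R) E
        * Polynomial.aeval (X 1 : MvPolynomial (Fin 2) R) E
        * (Spol p * ((X 0 + X 1) ^ (p - 1) - X 0 ^ (p - 1)))

theorem Omega_mem_Ord (hp : p.Prime) (E η : Polynomial R) : Omega p E η ∈ Ord (2 * p - 1) := by
  have hp1 : 1 ≤ p := hp.one_le
  have hadd : (X 0 + X 1 : MvPolynomial (Fin 2) R) ∈ Ord 1 := add_mem (X_mem_Ord 0) (X_mem_Ord 1)
  refine add_mem (add_mem (neg_mem ?_) ?_) ?_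
  · exact Ideal.mul_mem_right _ _ (pow_mem_Ord hadd _)
  · exact Ideal.mul_mem_right _ _ (Ideal.mul_mem_right _ _ (Ideal.mul_mem_right _ _
      (pow_mem_Ord (X_mem_Ord 0) _)))
  · apply Ideal.mul_mem_left
    have h1 : ((X 0 + X 1) ^ (p - 1) - X 0 ^ (p - 1) : MvPolynomial (Fin 2) R) ∈ Ord (p - 1) :=
      sub_mem (pow_mem_Ord hadd _) (pow_mem_Ord (X_mem_Ord 0) _)
    have := mul_mem_Ord (Spol_mem_Ord (R := R) p) h1
    have e : p + (p - 1) = 2 * p - 1 := by omega
    rwa [e] at this

theorem pderiv_Phi (hp : p.Prime) (E η : Polynomial R)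
    (hE : Polynomial.derivative E = E * (1 + Polynomial.X ^ (p - 1))
      - Polynomial.X ^ (2 * p - 1) * η) :
    pderiv 0 (Phi p E) = (1 + (X 0 + X 1) ^ (p - 1)) * Phi p E + Omega p E η := by
  have e0 : pderiv (0 : Fin 2) (X 0 : MvPolynomial (Fin 2) R) = 1 := pderiv_X_self _
  have e1 : pderiv (0 : Fin 2) (X 1 : MvPolynomial (Fin 2) R) = 0 :=
    pderiv_X_of_ne (by decide)
  have hq : ∀ q : MvPolynomial (Fin 2) R, Polynomial.aeval q (Polynomial.derivative E) =
      Polynomial.aeval q E * (1 + q ^ (p - 1)) - q ^ (2 * p - 1) * Polynomial.aeval q η := by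
    intro q
    rw [hE, map_sub, map_mul, map_mul, map_add, map_one, map_pow, map_pow, Polynomial.aeval_X]
  have dA : pderiv 0 (Polynomial.aeval (X 0 + X 1 : MvPolynomial (Fin 2) R) E) =
      Polynomial.aeval (X 0 + X 1 : MvPolynomial (Fin 2) R) (Polynomial.derivative E) := by
    rw [Derivation.map_aeval, map_add, e0, e1, add_zero, smul_eq_mul, mul_one]
  have dB : pderiv 0 (Polynomial.aeval (X 0 : MvPolynomial (Fin 2) R) E) =
      Polynomial.aeval (X 0 : MvPolynomial (Fin 2) R) (Polynomial.derivative E) := by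
    rw [Derivation.map_aeval, e0, smul_eq_mul, mul_one]
  have dC : pderiv 0 (Polynomial.aeval (X 1 : MvPolynomial (Fin 2) R) E) = 0 := by
    rw [Derivation.map_aeval, e1, smul_zero]
  have dS : pderiv 0 (1 + Spol (R := R) p) = (X 0 + X 1) ^ (p - 1) - X 0 ^ (p - 1) := by
    rw [map_add, pderiv_one, zero_add, pderiv_zero_Spol p hp]
  rw [Phi, Omega, map_sub, pderiv_mul, pderiv_mul, dA, dB, dC, dS, hq, hq]
  ring

end Groth.Agent.Helper22.GaCoc
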