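import Groth.Agent.Lib.Helper22.GaCoc7

/-!
# The truncated Artin–Hasse exponential splits the cocycle `1 + s^p S(X^q, Y^q)`
-/

open MvPolynomial

namespace Groth.Agent.Helper22.GaCoc

variable {R : Type*} [CommRing R]

variable (p : ℕ) [hp : Fact p.Prime] [CharP R p]

theorem Phi_mem_Ord (E η : Polynomial R) (hE0 : E.coeff 0 = 1)
    (hE : Polynomial.derivative E = E * (1 + Polynomial.X ^ (p - 1))
      - Polynomial.X ^ (2 * p - 1) * η) :
    Phi p E ∈ Ord (2 * p) := by
  have hp1 : 1 ≤ p := hp.out.one_le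
  suffices h : ∀ n, n ≤ 2 * p → Phi p E ∈ Ord n from h _ le_rfl
  intro n
  induction n with
  | zero => intro _ m hm; omega
  | succ n ih =>
    intro hn
    have ihn : Phi p E ∈ Ord n := ih (by omega)
    have hdΦ : pderiv 0 (Phi p E) ∈ Ord n := by
      rw [pderiv_Phi p hp.out E η hE]
      exact add_mem (Ideal.mul_mem_left _ _ ihn) (Ord_mono (by omega) (Omega_mem_Ord p hp.out E η))
    have claimA : ∀ m : Fin 2 →₀ ℕ, m 0 + m 1 = n → ¬ p ∣ m 0 → coeff m (Phi p E) = 0 := by
      intro m hm hnd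
      have hm0 : m 0 ≠ 0 := fun h => hnd (h ▸ dvd_zero p)
      have hmm : mk2 (m 0 - 1) (m 1) + Finsupp.single 0 1 = m := by
        ext i
        fin_cases i
        · simp [mk2]; omega
        · simp [mk2]
      have h3 := hdΦ (mk2 (m 0 - 1) (m 1)) (by rw [mk2_zero, mk2_one]; omega)
      rw [coeff_pderiv, hmm, mk2_zero] at h3
      have e : ((m 0 - 1 : ℕ) : R) + 1 = (m 0 : R) := by
        have : ((m 0 - 1 : ℕ) : R) + 1 = ((m 0 - 1 + 1 : ℕ) : R) := by push_cast; ring
        rw [this, Nat.sub_add_cancel (Nat.one_le_iff_ne_zero.mpr hm0)]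
      rw [e] at h3
      exact (isUnit_natCast_of_not_dvd p hnd).mul_left_eq_zero.mp h3
    have claimC : ∀ m : Fin 2 →₀ ℕ, m 1 = 0 → coeff m (Phi p E) = 0 := by
      intro m hm
      rw [← coeff_restrict _ m hm, restrict_Phi p E hE0, coeff_zero]
    have claimB : ∀ m : Fin 2 →₀ ℕ, coeff m (Phi p E) = coeff (mk2 (m 1) (m 0)) (Phi p E) := by
      intro m
      conv_lhs => rw [← sw_Phi p hp.out E]
      exact coeff_sw _ m
    intro m hm
    rcases Nat.lt_or_ge (m 0 + m 1) n with hlt | hge
    · exact ihn m hlt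
    · have hmn : m 0 + m 1 = n := by omega
      by_cases h0 : p ∣ m 0
      · by_cases h1 : p ∣ m 1
        · obtain ⟨a, ha⟩ := h0
          obtain ⟨b, hb⟩ := h1
          have hab : a = 0 ∨ b = 0 := by
            by_contra hab
            push_neg at hab
            have h1a : 1 ≤ a := Nat.one_le_iff_ne_zero.mpr hab.1
            have h1b : 1 ≤ b := Nat.one_le_iff_ne_zero.mpr hab.2
            have h2a : p * 1 ≤ p * a := Nat.mul_le_mul_left p h1a
            have h2b : p * 1 ≤ p * b := Nat.mul_le_mul_left p h1b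
            omega
          rcases hab with rfl | rfl
          · rw [claimB m]
            apply claimC
            rw [mk2_one, ha, mul_zero]
          · apply claimC
            rw [hb, mul_zero]
        · rw [claimB m]
          apply claimA
          · rw [mk2_zero, mk2_one]; omega
          · rw [mk2_zero]; exact h1
      · exact claimA m hmn h0

omit hp [CharP R p] in
theorem aeval_smul_eq_zero_of_mem_Ord {N : ℕ} {F : MvPolynomial (Fin 2) R} (hF : F ∈ Ord N)
    (s : R) (hs : s ^ N = 0) (a b : MvPolynomial (Fin 2) R) :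
    aeval ![C s * a, C s * b] F = 0 := by
  rw [aeval_def, eval₂_eq']
  apply Finset.sum_eq_zero
  intro d hd
  rw [Fin.prod_univ_two]
  simp only [Matrix.cons_val_zero, Matrix.cons_val_one, mul_pow]
  have hdN : N ≤ d 0 + d 1 := by
    by_contra h
    exact (mem_support_iff.mp hd) (hF d (by omega))
  have hz : (C s : MvPolynomial (Fin 2) R) ^ d 0 * C s ^ d 1 = 0 := by
    rw [← pow_add, ← map_pow]
    have : s ^ (d 0 + d 1) = 0 := by
      rw [← Nat.sub_add_cancel hdN, pow_add, hs, mul_zero]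
    rw [this, map_zero]
  have : (algebraMap R (MvPolynomial (Fin 2) R)) (coeff d F) * (C s ^ d 0 * a ^ d 0 * (C s ^ d 1 * b ^ d 1))
      = (algebraMap R (MvPolynomial (Fin 2) R)) (coeff d F) * ((C s ^ d 0 * C s ^ d 1) * (a ^ d 0 * b ^ d 1)) := by
    ring
  rw [this, hz, zero_mul, mul_zero]

omit hp [CharP R p] in
theorem aeval_Spol_smul (s : R) (q : ℕ) :
    aeval ![C s * X 0 ^ q, C s * X 1 ^ q] (Spol (R := R) p) = C (s ^ p) * Sq p q := by
  rw [Sq, Spol, map_sum, map_sum, Finset.mul_sum]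
  apply Finset.sum_congr rfl
  intro j hj
  rw [Finset.mem_Ioo] at hj
  simp only [map_mul, map_pow, aeval_C, aeval_X, Matrix.cons_val_zero, Matrix.cons_val_one,
    mul_pow, MvPolynomial.algebraMap_eq]
  have : (C s : MvPolynomial (Fin 2) R) ^ p = C s ^ j * C s ^ (p - j) := by
    rw [← pow_add]; congr 1; omega
  rw [this]
  ring

/-- the coboundary relation `f(X+Y) = f(X) f(Y) h` -/
def Cob (f : Polynomial R) (h : MvPolynomial (Fin 2) R) : Prop :=
  Polynomial.aeval (X 0 + X 1 : MvPolynomial (Fin 2) R) f =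
    Polynomial.aeval (X 0 : MvPolynomial (Fin 2) R) f
      * Polynomial.aeval (X 1 : MvPolynomial (Fin 2) R) f * h

theorem cob_E (E η : Polynomial R) (hE0 : E.coeff 0 = 1)
    (hE : Polynomial.derivative E = E * (1 + Polynomial.X ^ (p - 1))
      - Polynomial.X ^ (2 * p - 1) * η) (s : R) (hs : s ^ (2 * p) = 0) (i : ℕ) :
    Cob (E.comp (Polynomial.C s * Polynomial.X ^ (p ^ i))) (1 + C (s ^ p) * Sq p (p ^ i)) := by
  have h := aeval_smul_eq_zero_of_mem_Ord (Phi_mem_Ord p E η hE0 hE) s hs
    (X 0 ^ (p ^ i)) (X 1 ^ (p ^ i))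
  rw [Phi, map_sub, map_mul, map_mul, map_add, map_one, aeval_Spol_smul,
    ← Polynomial.aeval_algHom_apply, ← Polynomial.aeval_algHom_apply,
    ← Polynomial.aeval_algHom_apply, map_add, aeval_X, aeval_X, sub_eq_zero] at h
  simp only [Matrix.cons_val_zero, Matrix.cons_val_one] at h
  have hq : ∀ x : MvPolynomial (Fin 2) R,
      Polynomial.aeval x (Polynomial.C s * Polynomial.X ^ (p ^ i)) = C s * x ^ (p ^ i) := by
    intro x
    rw [map_mul, map_pow, Polynomial.aeval_X, Polynomial.aeval_C, MvPolynomial.algebraMap_eq]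
  rw [Cob, Polynomial.aeval_comp, Polynomial.aeval_comp, Polynomial.aeval_comp, hq, hq, hq,
    add_pow_char_pow, mul_add]
  exact h

end Groth.Agent.Helper22.GaCoc
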