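import Groth.Agent.Lib.Helper22.GaCoc8

/-!
# Splitting multiplicative symmetric 2-cocycles of `𝔾ₐ` over rings with surjective Frobenius:
the square-zero case
-/

open MvPolynomial

namespace Groth.Agent.Helper22.GaCoc

universe u
variable {R : Type u} [CommRing R]

theorem Cob.mul {f₁ f₂ : Polynomial R} {h₁ h₂ : MvPolynomial (Fin 2) R}
    (c1 : Cob f₁ h₁) (c2 : Cob f₂ h₂) : Cob (f₁ * f₂) (h₁ * h₂) := by
  unfold Cob at *
  rw [map_mul, map_mul, map_mul, c1, c2]; ring

theorem Cob.one : Cob (1 : Polynomial R) 1 := by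
  unfold Cob; simp

/-- multiplicative cocycle condition -/
def MCoc (h : MvPolynomial (Fin 2) R) : Prop :=
  aeval ![(X 1 : MvPolynomial (Fin 3) R), X 2] h * aeval ![X 0, X 1 + X 2] h =
    aeval ![X 0 + X 1, X 2] h * aeval ![X 0, X 1] h

theorem MCoc.mul {h₁ h₂ : MvPolynomial (Fin 2) R} (c1 : MCoc h₁) (c2 : MCoc h₂) :
    MCoc (h₁ * h₂) := by
  unfold MCoc at *
  simp only [map_mul]
  linear_combination (aeval ![(X 1 : MvPolynomial (Fin 3) R), X 2] h₂ * aeval ![X 0, X 1 + X 2] h₂) * c1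
    + (aeval ![(X 0 : MvPolynomial (Fin 3) R) + X 1, X 2] h₁ * aeval ![X 0, X 1] h₁) * c2

theorem mcoc_cob (f g : Polynomial R) (hfg : f * g = 1) :
    MCoc (Polynomial.aeval (X 0 : MvPolynomial (Fin 2) R) f
      * Polynomial.aeval (X 1 : MvPolynomial (Fin 2) R) f
      * Polynomial.aeval (X 0 + X 1 : MvPolynomial (Fin 2) R) g) := by
  have hq : ∀ q : MvPolynomial (Fin 3) R, Polynomial.aeval q f * Polynomial.aeval q g = 1 := by
    intro q; rw [← map_mul, hfg, map_one]
  unfold MCoc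
  simp only [map_mul, ← Polynomial.aeval_algHom_apply, map_add, aeval_X, Matrix.cons_val_zero,
    Matrix.cons_val_one, add_assoc]
  linear_combination (Polynomial.aeval (X 0 : MvPolynomial (Fin 3) R) f
      * Polynomial.aeval (X 1 : MvPolynomial (Fin 3) R) f
      * Polynomial.aeval (X 2 : MvPolynomial (Fin 3) R) f
      * Polynomial.aeval (X 0 + (X 1 + X 2) : MvPolynomial (Fin 3) R) g) * hq (X 1 + X 2)
    - (Polynomial.aeval (X 0 : MvPolynomial (Fin 3) R) f
      * Polynomial.aeval (X 1 : MvPolynomial (Fin 3) R) f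
      * Polynomial.aeval (X 2 : MvPolynomial (Fin 3) R) f
      * Polynomial.aeval (X 0 + (X 1 + X 2) : MvPolynomial (Fin 3) R) g) * hq (X 0 + X 1)

theorem map_aeval_v {R' : Type*} [CommRing R'] (f : R →+* R') (F : MvPolynomial (Fin 2) R) :
    map f (aeval ![(X 0 : MvPolynomial (Fin 3) R), X 1 + X 2] F) =
        aeval ![(X 0 : MvPolynomial (Fin 3) R'), X 1 + X 2] (map f F) ∧
      map f (aeval ![(X 1 : MvPolynomial (Fin 3) R), X 2] F) =
        aeval ![(X 1 : MvPolynomial (Fin 3) R'), X 2] (map f F) ∧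
      map f (aeval ![(X 0 : MvPolynomial (Fin 3) R) + X 1, X 2] F) =
        aeval ![(X 0 : MvPolynomial (Fin 3) R') + X 1, X 2] (map f F) ∧
      map f (aeval ![(X 0 : MvPolynomial (Fin 3) R), X 1] F) =
        aeval ![(X 0 : MvPolynomial (Fin 3) R'), X 1] (map f F) := by
  simp only [map_aeval_vec]
  have e1 : (fun i => map f ((![X 0, X 1 + X 2] : Fin 2 → MvPolynomial (Fin 3) R) i)) =
      ![X 0, X 1 + X 2] := by funext i; fin_cases i <;> simp
  have e2 : (fun i => map f ((![X 1, X 2] : Fin 2 → MvPolynomial (Fin 3) R) i)) =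
      ![X 1, X 2] := by funext i; fin_cases i <;> simp
  have e3 : (fun i => map f ((![X 0 + X 1, X 2] : Fin 2 → MvPolynomial (Fin 3) R) i)) =
      ![X 0 + X 1, X 2] := by funext i; fin_cases i <;> simp
  have e4 : (fun i => map f ((![X 0, X 1] : Fin 2 → MvPolynomial (Fin 3) R) i)) =
      ![X 0, X 1] := by funext i; fin_cases i <;> simp
  rw [e1, e2, e3, e4]
  exact ⟨rfl, rfl, rfl, rfl⟩

theorem mcoc_map {R' : Type*} [CommRing R'] (f : R →+* R') {h : MvPolynomial (Fin 2) R}
    (hc : MCoc h) : MCoc (map f h) := by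
  unfold MCoc at *
  obtain ⟨m1, m2, m3, m4⟩ := map_aeval_v f h
  rw [← m1, ← m2, ← m3, ← m4, ← map_mul, ← map_mul, hc]

variable {J : Ideal R}

theorem mv_mul_eq_zero {σ : Type*} (hJ2 : J * J = ⊥) {x y : MvPolynomial σ R}
    (hx : x ∈ Ideal.map (C : R →+* MvPolynomial σ R) J)
    (hy : y ∈ Ideal.map (C : R →+* MvPolynomial σ R) J) : x * y = 0 := by
  have := Ideal.mul_mem_mul hx hy
  rw [← Ideal.map_mul, hJ2, Ideal.map_bot] at this
  exact Ideal.mem_bot.mp this

theorem poly_mul_eq_zero (hJ2 : J * J = ⊥) {x y : Polynomial R}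
    (hx : x ∈ Ideal.map (Polynomial.C : R →+* Polynomial R) J)
    (hy : y ∈ Ideal.map (Polynomial.C : R →+* Polynomial R) J) : x * y = 0 := by
  have := Ideal.mul_mem_mul hx hy
  rw [← Ideal.map_mul, hJ2, Ideal.map_bot] at this
  exact Ideal.mem_bot.mp this

theorem aeval_mem {σ τ : Type*} (v : σ → MvPolynomial τ R) {x : MvPolynomial σ R}
    (hx : x ∈ Ideal.map (C : R →+* MvPolynomial σ R) J) :
    aeval v x ∈ Ideal.map (C : R →+* MvPolynomial τ R) J := by
  have := mem_map_of_linear J (aeval (R := R) v).toLinearMap (x := x)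
    (by rwa [MvPolynomial.algebraMap_eq])
  rwa [MvPolynomial.algebraMap_eq] at this

theorem polyAeval_mem {τ : Type*} (q : MvPolynomial τ R) {G : Polynomial R}
    (hG : G ∈ Ideal.map (Polynomial.C : R →+* Polynomial R) J) :
    Polynomial.aeval q G ∈ Ideal.map (C : R →+* MvPolynomial τ R) J := by
  have := mem_map_of_linear J (Polynomial.aeval (R := R) q).toLinearMap (x := G)
    (by rwa [Polynomial.algebraMap_eq])
  rwa [MvPolynomial.algebraMap_eq] at this

theorem cob_one_add (hJ2 : J * J = ⊥) {G : Polynomial R}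
    (hG : G ∈ Ideal.map (Polynomial.C : R →+* Polynomial R) J) : Cob (1 + G) (1 + delL G) := by
  have hx := polyAeval_mem (X 0 : MvPolynomial (Fin 2) R) hG
  have hy := polyAeval_mem (X 1 : MvPolynomial (Fin 2) R) hG
  have hz := polyAeval_mem (X 0 + X 1 : MvPolynomial (Fin 2) R) hG
  have hxx := mv_mul_eq_zero hJ2 hx hx
  have hxy := mv_mul_eq_zero hJ2 hx hy
  have hxz := mv_mul_eq_zero hJ2 hx hz
  have hyy := mv_mul_eq_zero hJ2 hy hy
  have hyz := mv_mul_eq_zero hJ2 hy hz
  unfold Cob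
  rw [delL_apply, map_add, map_add, map_add, map_one, map_one, map_one]
  linear_combination (-1 : MvPolynomial (Fin 2) R) * hxz + hxx
    + (1 - (Polynomial.aeval (X 0 + X 1 : MvPolynomial (Fin 2) R) G
      - Polynomial.aeval (X 0 : MvPolynomial (Fin 2) R) G
      - Polynomial.aeval (X 1 : MvPolynomial (Fin 2) R) G)) * hxy - hyz + hyy

end Groth.Agent.Helper22.GaCoc
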