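import Mathlib

/-!
# Galois-stable two-sided ideals of `L ⊗[K] A` for a simple `K`-algebra `A`
-/

set_option autoImplicit false

namespace Groth.Agent.Helper22.GalDescent

open TensorProduct

universe u v w

variable {K : Type u} {L : Type v} [Field K] [Field L] [Algebra K L]
  {A : Type w} [Ring A] [Algebra K A]

/-- the automorphism `γ ⊗ id` -/
noncomputable abbrev σ (γ : L ≃ₐ[K] L) : L ⊗[K] A →ₐ[K] L ⊗[K] A :=
  Algebra.TensorProduct.map (γ : L →ₐ[K] L) (AlgHom.id K A)

theorem σ_mul (γ δ : L ≃ₐ[K] L) (x : L ⊗[K] A) : σ γ (σ δ x) = σ (γ * δ) x := by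
  induction x using TensorProduct.induction_on with
  | zero => simp
  | tmul l a => simp [σ]
  | add x y hx hy => simp only [map_add, hx, hy]

theorem σ_one (x : L ⊗[K] A) : σ (1 : L ≃ₐ[K] L) x = x := by
  induction x using TensorProduct.induction_on with
  | zero => simp
  | tmul l a => simp [σ]
  | add x y hx hy => simp only [map_add, hx, hy]

theorem σ_inv_σ (γ : L ≃ₐ[K] L) (x : L ⊗[K] A) : σ γ⁻¹ (σ γ x) = x := by
  rw [σ_mul, inv_mul_cancel, σ_one]

theorem σ_σ_inv (γ : L ≃ₐ[K] L) (x : L ⊗[K] A) : σ γ (σ γ⁻¹ x) = x := by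
  rw [σ_mul, mul_inv_cancel, σ_one]

section Coeff

variable {ι : Type*} [DecidableEq ι] (ℬ : Module.Basis ι K A)

theorem coeff_mul_left (l : L) (x : L ⊗[K] A) (b : ι) :
    TensorProduct.equivFinsuppOfBasisRight ℬ ((l ⊗ₜ[K] (1 : A)) * x) b =
      l * TensorProduct.equivFinsuppOfBasisRight ℬ x b := by
  induction x using TensorProduct.induction_on with
  | zero => simp
  | tmul m n =>
    rw [Algebra.TensorProduct.tmul_mul_tmul, one_mul,
      TensorProduct.equivFinsuppOfBasisRight_apply_tmul_apply,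
      TensorProduct.equivFinsuppOfBasisRight_apply_tmul_apply, mul_smul_comm]
  | add x y hx hy => simp only [mul_add, map_add, Finsupp.add_apply, hx, hy]

theorem coeff_σ (γ : L ≃ₐ[K] L) (x : L ⊗[K] A) (b : ι) :
    TensorProduct.equivFinsuppOfBasisRight ℬ (σ γ x) b =
      γ (TensorProduct.equivFinsuppOfBasisRight ℬ x b) := by
  induction x using TensorProduct.induction_on with
  | zero => simp
  | tmul m n =>
    simp only [σ, Algebra.TensorProduct.map_tmul, AlgHom.coe_id, id_eq,
      TensorProduct.equivFinsuppOfBasisRight_apply_tmul_apply, map_smul]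
    rfl
  | add x y hx hy => simp only [map_add, Finsupp.add_apply, hx, hy]

end Coeff

variable [IsGalois K L] [IsSimpleRing A]

/-- A nonzero Galois-stable two-sided "ideal" of `L ⊗[K] A` contains `1`. -/
theorem one_mem_of_stable (N : AddSubgroup (L ⊗[K] A))
    (hl : ∀ r x, x ∈ N → r * x ∈ N) (hr : ∀ r x, x ∈ N → x * r ∈ N)
    (hγ : ∀ (γ : L ≃ₐ[K] L) x, x ∈ N → σ γ x ∈ N)
    (hne : ∃ x ∈ N, x ≠ 0) : (1 : L ⊗[K] A) ∈ N := by
  classical
  let ℬ := Module.Basis.ofVectorSpace K A
  let Φ := TensorProduct.equivFinsuppOfBasisRight (M := L) ℬ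
  -- minimal support
  have hex : ∃ n : ℕ, ∃ x ∈ N, x ≠ 0 ∧ (Φ x).support.card = n := by
    obtain ⟨x, hx, hx0⟩ := hne
    exact ⟨_, x, hx, hx0, rfl⟩
  obtain ⟨x, hxN, hx0, hxcard⟩ := Nat.find_spec hex
  have hmin : ∀ y ∈ N, y ≠ 0 → Nat.find hex ≤ (Φ y).support.card := by
    intro y hy hy0
    exact Nat.find_min' hex ⟨y, hy, hy0, rfl⟩
  have hΦx0 : Φ x ≠ 0 := fun h => hx0 (by simpa using h)
  obtain ⟨b₀, hb₀⟩ := Finsupp.support_nonempty_iff.mpr hΦx0
  set c := Φ x b₀ with hc
  have hc0 : c ≠ 0 := Finsupp.mem_support_iff.mp hb₀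
  set x' := (c⁻¹ ⊗ₜ[K] (1 : A)) * x with hx'
  have hx'N : x' ∈ N := hl _ _ hxN
  have hΦx' : ∀ b, Φ x' b = c⁻¹ * Φ x b := fun b => coeff_mul_left ℬ c⁻¹ x b
  have hsupp : (Φ x').support = (Φ x).support := by
    ext b
    rw [Finsupp.mem_support_iff, Finsupp.mem_support_iff, hΦx']
    simp [hc0]
  have hb₀1 : Φ x' b₀ = 1 := by rw [hΦx', ← hc, inv_mul_cancel₀ hc0]
  have hx'0 : x' ≠ 0 := by
    intro h
    rw [h, map_zero, Finsupp.zero_apply] at hb₀1
    exact zero_ne_one hb₀1
  -- all coefficients of x' are Galois-fixed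
  have hfixed : ∀ (γ : L ≃ₐ[K] L) b, γ (Φ x' b) = Φ x' b := by
    intro γ
    set y := σ γ x' - x' with hy
    have hyN : y ∈ N := N.sub_mem (hγ γ x' hx'N) hx'N
    have hΦy : ∀ b, Φ y b = γ (Φ x' b) - Φ x' b := by
      intro b
      rw [hy, map_sub, Finsupp.sub_apply]
      congr 1
      exact coeff_σ ℬ γ x' b
    have hy0 : y = 0 := by
      by_contra hne0
      have h1 := hmin y hyN hne0
      have hsub : (Φ y).support ⊆ (Φ x').support.erase b₀ := by
        intro b hb
        rw [Finsupp.mem_support_iff, hΦy] at hb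
        rw [Finset.mem_erase, Finsupp.mem_support_iff]
        refine ⟨?_, ?_⟩
        · rintro rfl
          apply hb
          rw [hb₀1, map_one, sub_self]
        · intro h0
          apply hb
          rw [h0, map_zero, sub_self]
      have h2 := Finset.card_le_card hsub
      rw [Finset.card_erase_of_mem (by rw [hsupp]; exact hb₀), hsupp, hxcard] at h2
      have h3 : 0 < Nat.find hex := by
        rw [← hxcard]
        exact Finset.card_pos.mpr ⟨b₀, hb₀⟩
      omega
    intro b
    have := hΦy b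
    rw [hy0, map_zero, Finsupp.zero_apply] at this
    exact (sub_eq_zero.mp this.symm)
  -- hence the coefficients lie in K
  have hK : ∀ b, ∃ k : K, algebraMap K L k = Φ x' b := by
    intro b
    exact (InfiniteGalois.mem_range_algebraMap_iff_fixed (Φ x' b)).mpr fun γ => hfixed γ b
  choose kf hkf using hK
  let a : A := ∑ b ∈ (Φ x').support, kf b • ℬ b
  have hx'a : x' = (1 : L) ⊗ₜ[K] a := by
    have h1 : x' = Φ.symm (Φ x') := (Φ.symm_apply_apply x').symm
    rw [h1]
    show (TensorProduct.equivFinsuppOfBasisRight ℬ).symm (Φ x') = _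
    rw [TensorProduct.equivFinsuppOfBasisRight_symm_apply, Finsupp.sum, TensorProduct.tmul_sum]
    refine Finset.sum_congr rfl fun b _ => ?_
    rw [← hkf b, Algebra.algebraMap_eq_smul_one, TensorProduct.smul_tmul]
  have ha0 : a ≠ 0 := by
    intro h
    apply hx'0
    rw [hx'a, h, TensorProduct.tmul_zero]
  -- the ideal of `A`
  let T : TwoSidedIdeal A := TwoSidedIdeal.mk' {a' : A | (1 : L) ⊗ₜ[K] a' ∈ N}
    (by simp [N.zero_mem])
    (fun {x y} hx hy => by
      simp only [Set.mem_setOf_eq] at hx hy ⊢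
      rw [TensorProduct.tmul_add]; exact N.add_mem hx hy)
    (fun {x} hx => by
      simp only [Set.mem_setOf_eq] at hx ⊢
      rw [TensorProduct.tmul_neg]; exact N.neg_mem hx)
    (fun {x y} hy => by
      simp only [Set.mem_setOf_eq] at hy ⊢
      have := hl ((1 : L) ⊗ₜ[K] x) _ hy
      rwa [Algebra.TensorProduct.tmul_mul_tmul, one_mul] at this)
    (fun {x y} hx => by
      simp only [Set.mem_setOf_eq] at hx ⊢
      have := hr ((1 : L) ⊗ₜ[K] y) _ hx
      rwa [Algebra.TensorProduct.tmul_mul_tmul, one_mul] at this)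
  have haT : a ∈ T := by
    rw [TwoSidedIdeal.mem_mk']
    show (1 : L) ⊗ₜ[K] a ∈ N
    rw [← hx'a]; exact hx'N
  have hT : T = ⊤ := by
    rcases eq_bot_or_eq_top T with h | h
    · exfalso
      rw [h, TwoSidedIdeal.mem_bot] at haT
      exact ha0 haT
    · exact h
  have h1T : (1 : A) ∈ T := by rw [hT]; trivial
  rw [TwoSidedIdeal.mem_mk'] at h1T
  rw [Algebra.TensorProduct.one_def]
  exact h1T

end Groth.Agent.Helper22.GalDescent
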