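import Mathlib
import Groth.Prelude.Def_PolLaw
import Groth.Prelude.Def_PolLaw2
import Groth.Prelude.Def_SymTen

set_option maxHeartbeats 800000

universe u
open scoped TensorProduct
open MvPolynomial

namespace Groth.Agent.Helper22.GamD

/-- the exponent vector `(1,…,1)` -/
noncomputable def one1 (d : ℕ) : Fin d →₀ ℕ := Finsupp.equivFunOnFinite.symm (fun _ => 1)

theorem one1_apply (d : ℕ) (i : Fin d) : one1 d i = 1 := rfl

theorem sum_single_eq_one1_iff (d : ℕ) (c : Fin d → Fin d) :
    (∑ j, Finsupp.single (c j) 1 : Fin d →₀ ℕ) = one1 d ↔ Function.Bijective c := by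
  constructor
  · intro h
    have hs : Function.Surjective c := by
      intro l
      by_contra hne
      have hne' : ∀ j, ¬ c j = l := fun j hj => hne ⟨j, hj⟩
      have h1 : (∑ j, Finsupp.single (c j) 1 : Fin d →₀ ℕ) l = 1 := by rw [h]; rfl
      rw [Finsupp.finsetSum_apply] at h1
      have h0 : ∑ j, (Finsupp.single (c j) 1 : Fin d →₀ ℕ) l = 0 := by
        apply Finset.sum_eq_zero
        intro j _
        rw [Finsupp.single_apply, if_neg (hne' j)]
      rw [h0] at h1
      exact absurd h1 (by norm_num)
    exact ⟨Finite.injective_iff_surjective.mpr hs, hs⟩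
  · intro hb
    ext l
    rw [Finsupp.finsetSum_apply, one1_apply]
    obtain ⟨j0, hj0⟩ := hb.2 l
    rw [Finset.sum_eq_single j0]
    · rw [Finsupp.single_apply, if_pos hj0]
    · intro j _ hj
      rw [Finsupp.single_apply, if_neg]
      intro h
      exact hj (hb.1 (h.trans hj0.symm))
    · intro h
      exact absurd (Finset.mem_univ _) h

open Classical in
theorem coeff_prod_X (R : Type*) [CommSemiring R] (d : ℕ) (c : Fin d → Fin d) :
    MvPolynomial.coeff (one1 d) (∏ j, (X (c j) : MvPolynomial (Fin d) R)) =
      if Function.Bijective c then 1 else 0 := by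
  have h1 : (∏ j, (X (c j) : MvPolynomial (Fin d) R)) =
      monomial (∑ j, Finsupp.single (c j) 1) 1 := by
    rw [MvPolynomial.monomial_sum_one]
    rfl
  rw [h1, MvPolynomial.coeff_monomial]
  by_cases hb : Function.Bijective c
  · rw [if_pos hb, if_pos ((sum_single_eq_one1_iff d c).mpr hb)]
  · rw [if_neg hb, if_neg (fun h => hb ((sum_single_eq_one1_iff d c).mp h))]

open Classical in
theorem sum_ite_bijective {M : Type*} [AddCommMonoid M] (d : ℕ) (f : (Fin d → Fin d) → M) :
    (∑ c : Fin d → Fin d, if Function.Bijective c then f c else 0) =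
      ∑ σ : Equiv.Perm (Fin d), f ⇑σ := by
  rw [← Finset.sum_filter]
  symm
  apply Finset.sum_bij (fun (σ : Equiv.Perm (Fin d)) _ => (⇑σ : Fin d → Fin d))
  · intro σ _
    rw [Finset.mem_filter]
    exact ⟨Finset.mem_univ _, σ.bijective⟩
  · intro σ _ τ _ h
    exact DFunLike.coe_injective h
  · intro c hc
    rw [Finset.mem_filter] at hc
    exact ⟨Equiv.ofBijective c hc.2, Finset.mem_univ _, rfl⟩
  · intro σ _
    rfl

/-- kill a variable -/
noncomputable def kill (R : Type*) [CommSemiring R] {σ : Type*} [DecidableEq σ] (o : σ) :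
    MvPolynomial σ R →ₐ[R] MvPolynomial σ R :=
  MvPolynomial.aeval (fun o' => if o' = o then 0 else X o')

theorem kill_X_self (R : Type*) [CommSemiring R] {σ : Type*} [DecidableEq σ] (o : σ) :
    kill R o (X o) = 0 := by
  unfold kill; rw [aeval_X, if_pos rfl]

theorem kill_X_ne (R : Type*) [CommSemiring R] {σ : Type*} [DecidableEq σ] (o o' : σ)
    (h : o' ≠ o) : kill R o (X o') = X o' := by
  unfold kill; rw [aeval_X, if_neg h]

theorem kill_monomial (R : Type*) [CommSemiring R] {σ : Type*} [DecidableEq σ] (o : σ)
    (u : σ →₀ ℕ) (a : R) :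
    kill R o (monomial u a) = if u o = 0 then monomial u a else 0 := by
  unfold kill
  rw [MvPolynomial.aeval_monomial, MvPolynomial.algebraMap_eq]
  by_cases h : u o = 0
  · rw [if_pos h]
    have h2 : (u.prod fun o' k => (if o' = o then (0 : MvPolynomial σ R) else X o') ^ k) =
        u.prod fun n e => (X n : MvPolynomial σ R) ^ e := by
      apply Finsupp.prod_congr
      intro o' ho'
      have hne : o' ≠ o := by
        rintro rfl
        exact (Finsupp.mem_support_iff.mp ho') h
      rw [if_neg hne]
    rw [h2, ← MvPolynomial.monomial_eq]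
  · rw [if_neg h]
    have h2 : (u.prod fun o' k => (if o' = o then (0 : MvPolynomial σ R) else X o') ^ k) = 0 := by
      rw [Finsupp.prod]
      apply Finset.prod_eq_zero (Finsupp.mem_support_iff.mpr h)
      rw [if_pos rfl, zero_pow h]
    rw [h2, mul_zero]

theorem mapDomain_elim_apply (d : ℕ) (j : Fin d) (u : Option (Fin d) →₀ ℕ) :
    (Finsupp.mapDomain (fun o : Option (Fin d) => o.elim j id) u) j = u none + u (some j) := by
  rw [Finsupp.mapDomain, Finsupp.sum_apply,
    Finsupp.sum_fintype _ _ (fun i => by simp), Fintype.sum_option]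
  congr 1
  · simp
  · rw [Finset.sum_eq_single j]
    · simp
    · intro i _ hi
      simp only [Option.elim_some, id]
      rw [Finsupp.single_apply, if_neg hi]
    · intro h; exact absurd (Finset.mem_univ _) h

theorem coeff_add_identity (R : Type*) [CommSemiring R] (d : ℕ) (j : Fin d)
    (q : MvPolynomial (Option (Fin d)) R) :
    coeff (one1 d) (rename (fun o : Option (Fin d) => o.elim j id) q) =
      coeff (one1 d) (rename (fun o : Option (Fin d) => o.elim j id) (kill R none q)) +
      coeff (one1 d) (rename (fun o : Option (Fin d) => o.elim j id) (kill R (some j) q)) := by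
  induction q using MvPolynomial.induction_on' with
  | monomial u a =>
    rw [kill_monomial, kill_monomial]
    by_cases hm : Finsupp.mapDomain (fun o : Option (Fin d) => o.elim j id) u = one1 d
    · have h1 : u none + u (some j) = 1 := by
        rw [← mapDomain_elim_apply, hm, one1_apply]
      by_cases h0 : u none = 0
      · have h2 : u (some j) ≠ 0 := by omega
        rw [if_pos h0, if_neg h2, map_zero, coeff_zero, add_zero]
      · have h2 : u (some j) = 0 := by omega
        rw [if_neg h0, if_pos h2, map_zero, coeff_zero, zero_add]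
    · have hz : coeff (one1 d)
          (rename (fun o : Option (Fin d) => o.elim j id) (monomial u a)) = 0 := by
        rw [rename_monomial, coeff_monomial, if_neg hm]
      have key : ∀ (P : Prop) [Decidable P], coeff (one1 d)
          (rename (fun o : Option (Fin d) => o.elim j id)
            (if P then monomial u a else 0)) = 0 := by
        intro P _
        split_ifs
        · exact hz
        · rw [map_zero, coeff_zero]
      rw [hz, key, key, add_zero]
  | add p q hp hq =>
    simp only [map_add, coeff_add]
    rw [hp, hq, add_add_add_comm]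

theorem coeff_aeval_scale (R : Type*) [CommSemiring R] (d : ℕ) (ρ : Fin d → R)
    (q : MvPolynomial (Fin d) R) (m : Fin d →₀ ℕ) :
    coeff m (aeval (fun i => C (ρ i) * X i : Fin d → MvPolynomial (Fin d) R) q) =
      (∏ i, ρ i ^ m i) * coeff m q := by
  induction q using MvPolynomial.induction_on' with
  | monomial u a =>
    rw [aeval_monomial, algebraMap_eq, Finsupp.prod_fintype _ _ (fun i => pow_zero _)]
    have h1 : ∏ i, (C (ρ i) * X i : MvPolynomial (Fin d) R) ^ u i =
        C (∏ i, ρ i ^ u i) * ∏ i, (X i : MvPolynomial (Fin d) R) ^ u i := by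
      rw [map_prod, ← Finset.prod_mul_distrib]
      apply Finset.prod_congr rfl
      intro i _
      rw [mul_pow, map_pow]
    have h2 : (∏ i, (X i : MvPolynomial (Fin d) R) ^ u i) = u.prod fun n e => X n ^ e := by
      rw [Finsupp.prod_fintype _ _ (fun i => pow_zero _)]
    rw [h1, h2, ← mul_assoc, ← C_mul, ← monomial_eq, coeff_monomial, coeff_monomial]
    by_cases h : u = m
    · subst h
      rw [if_pos rfl, if_pos rfl, mul_comm]
    · rw [if_neg h, if_neg h, mul_zero]
  | add p q hp hq =>
    rw [map_add, coeff_add, coeff_add, hp, hq, mul_add]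

end Groth.Agent.Helper22.GamD
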