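import Groth.Agent.Lib.Helper22.GamD1

set_option maxHeartbeats 1600000

universe u
open scoped TensorProduct
open MvPolynomial

namespace Groth.Agent.Helper22.GamD

variable {A B G : Type u} [CommRing A] [CommRing B] [Algebra A B] [CommRing G] [Algebra A G]

theorem transfer {d : ℕ} (γ : PolLaw.MulLaw A B G d) {Q₁ Q₂ : Type u} [CommRing Q₁] [Algebra A Q₁]
    [CommRing Q₂] [Algebra A Q₂] {N : Type*} [AddCommGroup N] [Module A N]
    (h : Q₁ →ₐ[A] Q₂) (ℓ₂ : Q₂ →ₗ[A] N) (ℓ₁ : Q₁ →ₗ[A] N) (hl : ℓ₂ ∘ₗ h.toLinearMap = ℓ₁)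
    (z : Q₁ ⊗[A] B) :
    ℓ₂.rTensor G (γ.law.toFun' Q₂ (h.toLinearMap.rTensor B z)) =
      ℓ₁.rTensor G (γ.law.toFun' Q₁ z) := by
  rw [← PolynomialLaw.isCompat_apply', ← LinearMap.comp_apply, ← LinearMap.rTensor_comp, hl]

section Defs
variable (A) (R : Type u) [CommRing R] [Algebra A R] (σ τ : Type) (d : ℕ)

/-- constants `R → R[σ]` as an `A`-algebra map -/
noncomputable def iota : R →ₐ[A] MvPolynomial σ R :=
  IsScalarTower.toAlgHom A R (MvPolynomial σ R)

theorem iota_apply (r : R) : iota A R σ r = C r := rfl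

/-- `R ⊗ M → R[σ] ⊗ M` -/
noncomputable def incl (M : Type u) [CommRing M] [Algebra A M] :
    R ⊗[A] M →ₐ[A] MvPolynomial σ R ⊗[A] M :=
  Algebra.TensorProduct.map (iota A R σ) (AlgHom.id A M)

theorem incl_tmul (M : Type u) [CommRing M] [Algebra A M] (r : R) (b : M) :
    incl A R σ M (r ⊗ₜ[A] b) = (C r : MvPolynomial σ R) ⊗ₜ[A] b := rfl

theorem incl_smul (M : Type u) [CommRing M] [Algebra A M] (r : R) (w : R ⊗[A] M) :
    incl A R σ M (r • w) = ((C r : MvPolynomial σ R) ⊗ₜ[A] (1 : M)) * incl A R σ M w := by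
  induction w using TensorProduct.induction_on with
  | zero => rw [smul_zero, map_zero, mul_zero]
  | tmul s b =>
    rw [TensorProduct.smul_tmul', smul_eq_mul, incl_tmul, incl_tmul, MvPolynomial.C_mul,
      Algebra.TensorProduct.tmul_mul_tmul, one_mul]
  | add x y hx hy => rw [smul_add, map_add, map_add, mul_add, hx, hy]

variable {σ τ} in
theorem map_incl (M : Type u) [CommRing M] [Algebra A M]
    (h : MvPolynomial σ R →ₐ[A] MvPolynomial τ R) (hC : ∀ r, h (C r) = C r) (w : R ⊗[A] M) :
    Algebra.TensorProduct.map h (AlgHom.id A M) (incl A R σ M w) = incl A R τ M w := by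
  induction w using TensorProduct.induction_on with
  | zero => rw [map_zero, map_zero, map_zero]
  | tmul s b =>
    rw [incl_tmul, incl_tmul, Algebra.TensorProduct.map_tmul, hC]
    rfl
  | add x y hx hy => rw [map_add, map_add, map_add, hx, hy]

/-- the generic combination `∑ Y_i x_i` -/
noncomputable def arg (B : Type u) [CommRing B] [Algebra A B] (m : Fin d → R ⊗[A] B) :
    MvPolynomial (Fin d) R ⊗[A] B :=
  ∑ i, ((X i : MvPolynomial (Fin d) R) ⊗ₜ[A] (1 : B)) * incl A R (Fin d) B (m i)

/-- coefficient of `Y_1 ⋯ Y_d` as an `A`-linear functional -/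
noncomputable def ell : MvPolynomial (Fin d) R →ₗ[A] R :=
  (MvPolynomial.lcoeff R (one1 d)).restrictScalars A

theorem ell_apply (q : MvPolynomial (Fin d) R) : ell A R d q = coeff (one1 d) q := rfl

theorem arg_update (B : Type u) [CommRing B] [Algebra A B] (m : Fin d → R ⊗[A] B) (j : Fin d)
    (w : R ⊗[A] B) :
    arg A R d B (Function.update m j w) =
      ∑ i ∈ Finset.univ.erase j,
        ((X i : MvPolynomial (Fin d) R) ⊗ₜ[A] (1 : B)) * incl A R (Fin d) B (m i) +
      ((X j : MvPolynomial (Fin d) R) ⊗ₜ[A] (1 : B)) * incl A R (Fin d) B w := by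
  unfold arg
  rw [← Finset.sum_erase_add _ _ (Finset.mem_univ j), Function.update_self]
  congr 1
  apply Finset.sum_congr rfl
  intro i hi
  rw [Function.update_of_ne (Finset.ne_of_mem_erase hi)]

theorem arg_one (B : Type u) [CommRing B] [Algebra A B] (b : Fin d → B) :
    arg A R d B (fun i => (1 : R) ⊗ₜ[A] b i) =
      ∑ i, (X i : MvPolynomial (Fin d) R) ⊗ₜ[A] b i := by
  unfold arg
  apply Finset.sum_congr rfl
  intro i _
  rw [incl_tmul, MvPolynomial.C_1, Algebra.TensorProduct.tmul_mul_tmul, mul_one, one_mul]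

theorem arg_mul (B : Type u) [CommRing B] [Algebra A B] (x : R ⊗[A] B)
    (m : Fin d → R ⊗[A] B) :
    arg A R d B (fun i => x * m i) = incl A R (Fin d) B x * arg A R d B m := by
  unfold arg
  rw [Finset.mul_sum]
  apply Finset.sum_congr rfl
  intro i _
  rw [map_mul, mul_left_comm]

end Defs

theorem rTensor_smul_restrict (R : Type u) [CommRing R] [Algebra A R] {Q : Type u} [CommRing Q]
    [Algebra R Q] [Algebra A Q] [IsScalarTower A R Q]
    (ℓ : Q →ₗ[R] R) (r : R) (z : Q ⊗[A] G) :
    ((r • ℓ).restrictScalars A).rTensor G z = r • (ℓ.restrictScalars A).rTensor G z := by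
  induction z using TensorProduct.induction_on with
  | zero => rw [map_zero, map_zero, smul_zero]
  | tmul q c =>
    rw [LinearMap.rTensor_tmul, LinearMap.rTensor_tmul, LinearMap.restrictScalars_apply,
      LinearMap.restrictScalars_apply, LinearMap.smul_apply, TensorProduct.smul_tmul']
  | add x y hx hy => rw [map_add, map_add, smul_add, hx, hy]

/-- the `R`-polarization -/
noncomputable def PR {d : ℕ} (γ : PolLaw.MulLaw A B G d) (R : Type u) [CommRing R] [Algebra A R]
    (m : Fin d → R ⊗[A] B) : R ⊗[A] G :=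
  (ell A R d).rTensor G (γ.law.toFun' (MvPolynomial (Fin d) R) (arg A R d B m))

section Scale
variable {d : ℕ} (γ : PolLaw.MulLaw A B G d) (R : Type u) [CommRing R] [Algebra A R]

/-- diagonal scaling of the variables -/
noncomputable def scaleHom (ρ : Fin d → R) :
    MvPolynomial (Fin d) R →ₐ[A] MvPolynomial (Fin d) R :=
  (aeval (fun i => C (ρ i) * X i : Fin d → MvPolynomial (Fin d) R)).restrictScalars A

theorem scaleHom_C (ρ : Fin d → R) (r : R) : scaleHom (A := A) R ρ (C r) = C r :=
  (aeval (fun i => C (ρ i) * X i : Fin d → MvPolynomial (Fin d) R)).commutes r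

theorem scaleHom_X (ρ : Fin d → R) (i : Fin d) :
    scaleHom (A := A) R ρ (X i) = C (ρ i) * X i :=
  aeval_X _ i

theorem scale_arg (ρ : Fin d → R) (m : Fin d → R ⊗[A] B) :
    (scaleHom (A := A) R ρ).toLinearMap.rTensor B (arg A R d B m) =
      arg A R d B (fun i => ρ i • m i) := by
  rw [PolLaw.rTensor_algHom_apply]
  unfold arg
  rw [map_sum]
  apply Finset.sum_congr rfl
  intro i _
  rw [map_mul, map_incl A R B _ (scaleHom_C R ρ), Algebra.TensorProduct.map_tmul, scaleHom_X,
    incl_smul, ← mul_assoc]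
  congr 1
  rw [Algebra.TensorProduct.tmul_mul_tmul, mul_one, mul_comm (X i)]
  rfl

theorem PR_update_smul (m : Fin d → R ⊗[A] B) (j : Fin d) (r : R) (x : R ⊗[A] B) :
    PR γ R (Function.update m j (r • x)) = r • PR γ R (Function.update m j x) := by
  have hfam : (fun i => (Function.update (fun _ => (1 : R)) j r) i • (Function.update m j x) i) =
      Function.update m j (r • x) := by
    funext i
    by_cases hi : i = j
    · subst hi
      rw [Function.update_self, Function.update_self, Function.update_self]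
    · rw [Function.update_of_ne hi, Function.update_of_ne hi, Function.update_of_ne hi, one_smul]
  have hprod : ∏ i, (Function.update (fun _ => (1 : R)) j r i) ^ (one1 d i) = r := by
    rw [Finset.prod_eq_single j]
    · rw [Function.update_self, one1_apply, pow_one]
    · intro i _ hi
      rw [Function.update_of_ne hi, one_pow]
    · intro h
      exact absurd (Finset.mem_univ _) h
  have hl : ell A R d ∘ₗ (scaleHom (A := A) R (Function.update (fun _ => (1 : R)) j r)).toLinearMap =
      ((r • MvPolynomial.lcoeff R (one1 d)).restrictScalars A) := by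
    apply LinearMap.ext
    intro q
    show coeff (one1 d) (aeval _ q) = r • coeff (one1 d) q
    rw [coeff_aeval_scale, hprod, smul_eq_mul]
  unfold PR
  rw [← hfam, ← scale_arg, transfer γ _ _ _ hl, rTensor_smul_restrict]
  rfl

end Scale

end Groth.Agent.Helper22.GamD
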