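import Groth.Agent.Lib.Helper22.GamD2

set_option maxHeartbeats 1600000

universe u
open scoped TensorProduct
open MvPolynomial

namespace Groth.Agent.Helper22.GamD

variable {A B G : Type u} [CommRing A] [CommRing B] [Algebra A B] [CommRing G] [Algebra A G]

section Add
variable {d : ℕ} (γ : PolLaw.MulLaw A B G d) (R : Type u) [CommRing R] [Algebra A R]

/-- the `(d+1)`-variable generic element -/
noncomputable def ztil (m : Fin d → R ⊗[A] B) (j : Fin d) (x y : R ⊗[A] B) :
    MvPolynomial (Option (Fin d)) R ⊗[A] B :=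
  ∑ i, ((X (some i) : MvPolynomial (Option (Fin d)) R) ⊗ₜ[A] (1 : B)) *
      incl A R (Option (Fin d)) B (Function.update m j x i) +
    ((X none : MvPolynomial (Option (Fin d)) R) ⊗ₜ[A] (1 : B)) * incl A R (Option (Fin d)) B y

theorem img_ztil (m : Fin d → R ⊗[A] B) (j : Fin d) (x y : R ⊗[A] B)
    (g : MvPolynomial (Option (Fin d)) R →ₐ[A] MvPolynomial (Fin d) R)
    (hC : ∀ r, g (MvPolynomial.C r) = MvPolynomial.C r) :
    g.toLinearMap.rTensor B (ztil R m j x y) =
      ∑ i, ((g (X (some i))) ⊗ₜ[A] (1 : B)) * incl A R (Fin d) B (Function.update m j x i) +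
        ((g (X none)) ⊗ₜ[A] (1 : B)) * incl A R (Fin d) B y := by
  rw [PolLaw.rTensor_algHom_apply]
  unfold ztil
  rw [map_add, map_sum, map_mul, map_incl A R B g hC, Algebra.TensorProduct.map_tmul]
  congr 1
  apply Finset.sum_congr rfl
  intro i _
  rw [map_mul, map_incl A R B g hC, Algebra.TensorProduct.map_tmul]
  rfl

noncomputable def g1 (j : Fin d) : MvPolynomial (Option (Fin d)) R →ₐ[A] MvPolynomial (Fin d) R :=
  (rename (fun o : Option (Fin d) => o.elim j id) :
    MvPolynomial (Option (Fin d)) R →ₐ[R] MvPolynomial (Fin d) R).restrictScalars A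

noncomputable def k0 (d : ℕ) :
    MvPolynomial (Option (Fin d)) R →ₐ[A] MvPolynomial (Option (Fin d)) R :=
  (kill R (none : Option (Fin d))).restrictScalars A

noncomputable def k2 (j : Fin d) :
    MvPolynomial (Option (Fin d)) R →ₐ[A] MvPolynomial (Option (Fin d)) R :=
  (kill R (some j)).restrictScalars A

theorem g1_C (j : Fin d) (r : R) : g1 (A := A) R j (MvPolynomial.C r) = MvPolynomial.C r :=
  MvPolynomial.rename_C _ r

theorem g1_X (j : Fin d) (o : Option (Fin d)) : g1 (A := A) R j (X o) = X (o.elim j id) :=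
  MvPolynomial.rename_X _ o

theorem k0_C (r : R) : k0 (A := A) R d (MvPolynomial.C r) = MvPolynomial.C r :=
  (kill R (none : Option (Fin d))).commutes r

theorem k2_C (j : Fin d) (r : R) : k2 (A := A) R j (MvPolynomial.C r) = MvPolynomial.C r :=
  (kill R (some j)).commutes r

theorem h1 (m : Fin d → R ⊗[A] B) (j : Fin d) (x y : R ⊗[A] B) :
    (g1 (A := A) R j).toLinearMap.rTensor B (ztil R m j x y) =
      arg A R d B (Function.update m j (x + y)) := by
  rw [img_ztil R m j x y _ (g1_C R j), g1_X, arg_update, map_add, mul_add, ← add_assoc]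
  congr 1
  rw [← arg_update]
  unfold arg
  apply Finset.sum_congr rfl
  intro i _
  rw [g1_X]
  rfl

theorem h0 (m : Fin d → R ⊗[A] B) (j : Fin d) (x y : R ⊗[A] B) :
    ((g1 (A := A) R j).comp (k0 R d)).toLinearMap.rTensor B (ztil R m j x y) =
      arg A R d B (Function.update m j x) := by
  have hC : ∀ r, ((g1 (A := A) R j).comp (k0 R d)) (MvPolynomial.C r) = MvPolynomial.C r := by
    intro r
    rw [AlgHom.comp_apply, k0_C, g1_C]
  have e2 : ((g1 (A := A) R j).comp (k0 R d)) (X none) = 0 := by
    rw [AlgHom.comp_apply]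
    show g1 (A := A) R j (kill R none (X none)) = 0
    rw [kill_X_self, map_zero]
  rw [img_ztil R m j x y _ hC, e2, TensorProduct.zero_tmul, zero_mul, add_zero]
  unfold arg
  apply Finset.sum_congr rfl
  intro i _
  have e3 : ((g1 (A := A) R j).comp (k0 R d)) (X (some i)) = X i := by
    rw [AlgHom.comp_apply]
    show g1 (A := A) R j (kill R none (X (some i))) = X i
    rw [kill_X_ne R none (some i) (Option.some_ne_none i), g1_X]
    rfl
  rw [e3]

theorem h2 (m : Fin d → R ⊗[A] B) (j : Fin d) (x y : R ⊗[A] B) :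
    ((g1 (A := A) R j).comp (k2 R j)).toLinearMap.rTensor B (ztil R m j x y) =
      arg A R d B (Function.update m j y) := by
  have hC : ∀ r, ((g1 (A := A) R j).comp (k2 R j)) (MvPolynomial.C r) = MvPolynomial.C r := by
    intro r
    rw [AlgHom.comp_apply, k2_C, g1_C]
  have e1 : ((g1 (A := A) R j).comp (k2 R j)) (X (some j)) = 0 := by
    rw [AlgHom.comp_apply]
    show g1 (A := A) R j (kill R (some j) (X (some j))) = 0
    rw [kill_X_self, map_zero]
  have e2 : ((g1 (A := A) R j).comp (k2 R j)) (X none) = X j := by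
    rw [AlgHom.comp_apply]
    show g1 (A := A) R j (kill R (some j) (X none)) = X j
    rw [kill_X_ne R (some j) none (Option.some_ne_none j).symm, g1_X]
    rfl
  rw [img_ztil R m j x y _ hC, arg_update, ← Finset.sum_erase_add _ _ (Finset.mem_univ j),
    e1, e2, TensorProduct.zero_tmul, zero_mul, add_zero]
  congr 1
  apply Finset.sum_congr rfl
  intro i hi
  have hij := Finset.ne_of_mem_erase hi
  have e3 : ((g1 (A := A) R j).comp (k2 R j)) (X (some i)) = X i := by
    rw [AlgHom.comp_apply]
    show g1 (A := A) R j (kill R (some j) (X (some i))) = X i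
    have hne : (some i : Option (Fin d)) ≠ some j := fun h => hij (Option.some.inj h)
    rw [kill_X_ne R (some j) (some i) hne, g1_X]
    rfl
  rw [e3, Function.update_of_ne hij]

theorem hl_add (j : Fin d) :
    ell A R d ∘ₗ (g1 (A := A) R j).toLinearMap =
      ell A R d ∘ₗ ((g1 (A := A) R j).comp (k0 R d)).toLinearMap +
        ell A R d ∘ₗ ((g1 (A := A) R j).comp (k2 R j)).toLinearMap := by
  apply LinearMap.ext
  intro q
  exact coeff_add_identity R d j q

theorem PR_update_add (m : Fin d → R ⊗[A] B) (j : Fin d) (x y : R ⊗[A] B) :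
    PR γ R (Function.update m j (x + y)) =
      PR γ R (Function.update m j x) + PR γ R (Function.update m j y) := by
  unfold PR
  rw [← h1 R m j x y, ← h0 R m j x y, ← h2 R m j x y]
  rw [transfer γ (g1 R j) (ell A R d) _ rfl,
    transfer γ ((g1 R j).comp (k0 R d)) (ell A R d) _ rfl,
    transfer γ ((g1 R j).comp (k2 R j)) (ell A R d) _ rfl]
  rw [hl_add R j, LinearMap.rTensor_add, LinearMap.add_apply]

/-- the polarization as an `R`-multilinear map -/
noncomputable def PRm : MultilinearMap R (fun _ : Fin d => R ⊗[A] B) (R ⊗[A] G) where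
  toFun := PR γ R
  map_update_add' := by
    intro inst m j x y
    have hinst : inst = instDecidableEqFin d := Subsingleton.elim _ _
    subst hinst
    exact PR_update_add γ R m j x y
  map_update_smul' := by
    intro inst m j r x
    have hinst : inst = instDecidableEqFin d := Subsingleton.elim _ _
    subst hinst
    exact PR_update_smul γ R m j r x

theorem PRm_apply (m : Fin d → R ⊗[A] B) : PRm γ R m = PR γ R m := rfl

theorem lin_rTensor (v : A ⊗[A] G) :
    (Algebra.linearMap A R).rTensor G v = (1 : R) ⊗ₜ[A] TensorProduct.lid A G v := by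
  induction v using TensorProduct.induction_on with
  | zero => rw [map_zero, map_zero, TensorProduct.tmul_zero]
  | tmul a c =>
    rw [LinearMap.rTensor_tmul, Algebra.linearMap_apply, TensorProduct.lid_tmul,
      Algebra.algebraMap_eq_smul_one, TensorProduct.smul_tmul]
  | add x y hx hy => rw [map_add, map_add, TensorProduct.tmul_add, hx, hy]

theorem PR_one (b : Fin d → B) :
    PR γ R (fun i => (1 : R) ⊗ₜ[A] b i) =
      (1 : R) ⊗ₜ[A] TensorProduct.lid A G (PR γ A (fun i => (1 : A) ⊗ₜ[A] b i)) := by
  unfold PR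
  rw [arg_one, arg_one, ← lin_rTensor]
  have hJ : (mapAlgHom (Algebra.ofId A R) :
      MvPolynomial (Fin d) A →ₐ[A] MvPolynomial (Fin d) R).toLinearMap.rTensor B
        (∑ i, (X i : MvPolynomial (Fin d) A) ⊗ₜ[A] b i) =
      ∑ i, (X i : MvPolynomial (Fin d) R) ⊗ₜ[A] b i := by
    rw [map_sum]
    apply Finset.sum_congr rfl
    intro i _
    rw [LinearMap.rTensor_tmul, AlgHom.toLinearMap_apply, mapAlgHom_apply, map_X]
  have hl : ell A R d ∘ₗ (mapAlgHom (Algebra.ofId A R) :
      MvPolynomial (Fin d) A →ₐ[A] MvPolynomial (Fin d) R).toLinearMap =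
      (Algebra.linearMap A R) ∘ₗ ell A A d := by
    apply LinearMap.ext
    intro q
    show coeff (one1 d) (map _ q) = algebraMap A R (coeff (one1 d) q)
    rw [coeff_map]
    rfl
  rw [← hJ, transfer γ _ _ _ hl, LinearMap.rTensor_comp, LinearMap.comp_apply]

theorem ell_incl_mul (u : R ⊗[A] G) (v : MvPolynomial (Fin d) R ⊗[A] G) :
    (ell A R d).rTensor G (incl A R (Fin d) G u * v) = u * (ell A R d).rTensor G v := by
  induction u using TensorProduct.induction_on with
  | zero => rw [map_zero, zero_mul, map_zero, zero_mul]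
  | tmul r c =>
    induction v using TensorProduct.induction_on with
    | zero => rw [mul_zero, map_zero, mul_zero]
    | tmul q c' =>
      rw [incl_tmul, Algebra.TensorProduct.tmul_mul_tmul, LinearMap.rTensor_tmul,
        LinearMap.rTensor_tmul, ell_apply, ell_apply, MvPolynomial.C_mul',
        MvPolynomial.coeff_smul, smul_eq_mul, Algebra.TensorProduct.tmul_mul_tmul]
    | add x y hx hy => rw [mul_add, map_add, map_add, mul_add, hx, hy]
  | add x y hx hy => rw [map_add, add_mul, map_add, add_mul, hx, hy]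

theorem PR_mul (x : R ⊗[A] B) (b : Fin d → B) :
    PR γ R (fun i => x * ((1 : R) ⊗ₜ[A] b i)) =
      γ.law.toFun' R x *
        ((1 : R) ⊗ₜ[A] TensorProduct.lid A G (PR γ A (fun i => (1 : A) ⊗ₜ[A] b i))) := by
  rw [← PR_one γ R b]
  unfold PR
  rw [arg_mul, (γ.mult (MvPolynomial (Fin d) R)).2]
  have hc : γ.law.toFun' (MvPolynomial (Fin d) R) (incl A R (Fin d) B x) =
      incl A R (Fin d) G (γ.law.toFun' R x) := by
    have := PolynomialLaw.isCompat_apply' (f := γ.law) (iota A R (Fin d)) x
    rw [PolLaw.rTensor_algHom_apply, PolLaw.rTensor_algHom_apply] at this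
    exact this.symm
  rw [hc, ell_incl_mul]

end Add

end Groth.Agent.Helper22.GamD
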