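import Groth.Agent.Lib.Helper22.GamD3

set_option maxHeartbeats 1600000

universe u
open scoped TensorProduct
open MvPolynomial

namespace Groth.Agent.Helper22.GamD

variable {A B G : Type u} [CommRing A] [CommRing B] [Algebra A B] [CommRing G] [Algebra A G]

theorem lid_rTensor_lTensor {R : Type*} [CommRing R] [Algebra A R]
    {N N' : Type*} [AddCommGroup N] [Module A N] [AddCommGroup N'] [Module A N']
    (ℓ : R →ₗ[A] A) (f : N →ₗ[A] N') (w : R ⊗[A] N) :
    TensorProduct.lid A N' (ℓ.rTensor N' (f.lTensor R w)) =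
      f (TensorProduct.lid A N (ℓ.rTensor N w)) := by
  induction w using TensorProduct.induction_on with
  | zero => simp only [map_zero]
  | tmul r n =>
    rw [LinearMap.lTensor_tmul, LinearMap.rTensor_tmul, LinearMap.rTensor_tmul,
      TensorProduct.lid_tmul, TensorProduct.lid_tmul, map_smul]
  | add x y hx hy => simp only [map_add, hx, hy]

theorem lTensor_mul_one_tmul {R : Type*} [CommRing R] [Algebra A R] {T : Type*} [CommRing T]
    [Algebra A T] {N : Type*} [AddCommGroup N] [Module A N] (ψ : T →ₗ[A] N) (t₀ : T)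
    (w : R ⊗[A] T) :
    ψ.lTensor R (w * ((1 : R) ⊗ₜ[A] t₀)) = (ψ ∘ₗ LinearMap.mulRight A t₀).lTensor R w := by
  induction w using TensorProduct.induction_on with
  | zero => simp only [zero_mul, map_zero]
  | tmul r t =>
    rw [Algebra.TensorProduct.tmul_mul_tmul, LinearMap.lTensor_tmul, LinearMap.lTensor_tmul,
      mul_one, LinearMap.comp_apply, LinearMap.mulRight_apply]
  | add x y hx hy => simp only [add_mul, map_add, hx, hy]

theorem lid_rTensor_mul_one_tmul {R : Type*} [CommRing R] [Algebra A R] (ℓ : R →ₗ[A] A)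
    (u : R ⊗[A] G) (c : G) :
    TensorProduct.lid A G (ℓ.rTensor G (u * ((1 : R) ⊗ₜ[A] c))) =
      TensorProduct.lid A G (ℓ.rTensor G u) * c := by
  induction u using TensorProduct.induction_on with
  | zero => simp only [zero_mul, map_zero]
  | tmul r c' =>
    rw [Algebra.TensorProduct.tmul_mul_tmul, LinearMap.rTensor_tmul, LinearMap.rTensor_tmul,
      TensorProduct.lid_tmul, TensorProduct.lid_tmul, mul_one, smul_mul_assoc]
  | add x y hx hy => simp only [add_mul, map_add, hx, hy]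

theorem exists_fin_rep {R : Type*} [CommRing R] [Algebra A R] (p : R ⊗[A] B) :
    ∃ (n : ℕ) (s : Fin n → R) (e : Fin n → B), p = ∑ j, s j ⊗ₜ[A] e j := by
  obtain ⟨S, hS⟩ := TensorProduct.exists_finset p
  refine ⟨S.card, fun j => (S.equivFin.symm j).1.1, fun j => (S.equivFin.symm j).1.2, ?_⟩
  rw [hS, ← Finset.sum_coe_sort S]
  exact (Equiv.sum_comp S.equivFin.symm (fun i : S => (i.1.1 ⊗ₜ[A] i.1.2 : R ⊗[A] B))).symm

section Psi
variable {d : ℕ} (γ : PolLaw.MulLaw A B G d)

/-- the polarization `B^d → G` -/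
noncomputable def PA : MultilinearMap A (fun _ : Fin d => B) G :=
  (TensorProduct.lid A G).toLinearMap.compMultilinearMap
    ((PRm γ A).compLinearMap (fun _ => TensorProduct.mk A A B 1))

theorem PA_apply (b : Fin d → B) :
    PA γ b = TensorProduct.lid A G (PR γ A (fun i => (1 : A) ⊗ₜ[A] b i)) := rfl

/-- the transfer map `T^d(B) → G` -/
noncomputable def psi : (⨂[A] _ : Fin d, B) →ₗ[A] G := PiTensorProduct.lift (PA γ)

theorem psi_tprod (b : Fin d → B) : psi γ (PiTensorProduct.tprod A b) = PA γ b :=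
  PiTensorProduct.lift.tprod b

variable (φT : G →ₗ[A] (⨂[A] _ : Fin d, B))
  (hφ : ∀ (S : Type u) [CommSemiring S] [Algebra A S] (n : ℕ) (s : Fin n → S) (b : Fin n → B),
      φT.lTensor S (γ.law.toFun' S (∑ j, s j ⊗ₜ[A] b j)) =
        ∑ c : Fin d → Fin n, (∏ i, s (c i)) ⊗ₜ[A] PiTensorProduct.tprod A (fun i => b (c i)))

include hφ

theorem star2 (R : Type u) [CommRing R] [Algebra A R] (n : ℕ) (s : Fin n → R) (e : Fin n → B)
    (b : Fin d → B) :
    (psi γ).lTensor R (φT.lTensor R (γ.law.toFun' R (∑ j, s j ⊗ₜ[A] e j)) *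
        ((1 : R) ⊗ₜ[A] PiTensorProduct.tprod A b)) =
      γ.law.toFun' R (∑ j, s j ⊗ₜ[A] e j) * ((1 : R) ⊗ₜ[A] PA γ b) := by
  have hL : (psi γ).lTensor R (φT.lTensor R (γ.law.toFun' R (∑ j, s j ⊗ₜ[A] e j)) *
        ((1 : R) ⊗ₜ[A] PiTensorProduct.tprod A b)) =
      ∑ c : Fin d → Fin n, (∏ i, s (c i)) ⊗ₜ[A] PA γ (fun i => e (c i) * b i) := by
    rw [hφ R n s e, Finset.sum_mul, map_sum]
    apply Finset.sum_congr rfl
    intro c _
    rw [Algebra.TensorProduct.tmul_mul_tmul, mul_one, LinearMap.lTensor_tmul,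
      PiTensorProduct.tprod_mul_tprod, psi_tprod]
    rfl
  have hR : γ.law.toFun' R (∑ j, s j ⊗ₜ[A] e j) * ((1 : R) ⊗ₜ[A] PA γ b) =
      ∑ c : Fin d → Fin n, (∏ i, s (c i)) ⊗ₜ[A] PA γ (fun i => e (c i) * b i) := by
    rw [PA_apply, ← PR_mul γ R _ b]
    have hfam : (fun i => (∑ j, s j ⊗ₜ[A] e j) * ((1 : R) ⊗ₜ[A] b i)) =
        fun i => ∑ j, s j • ((1 : R) ⊗ₜ[A] (e j * b i)) := by
      funext i
      rw [Finset.sum_mul]
      apply Finset.sum_congr rfl
      intro j _
      rw [Algebra.TensorProduct.tmul_mul_tmul, mul_one, TensorProduct.smul_tmul', smul_eq_mul,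
        mul_one]
    rw [hfam, ← PRm_apply, MultilinearMap.map_sum]
    apply Finset.sum_congr rfl
    intro c _
    rw [MultilinearMap.map_smul_univ, PRm_apply, PR_one, TensorProduct.smul_tmul', smul_eq_mul,
      mul_one, ← PA_apply]
  rw [hL, hR]

/-- coefficient elements -/
noncomputable def cf (n : ℕ) (k : Fin n →₀ ℕ) (p : MvPolynomial (Fin n) A ⊗[A] B) : G :=
  TensorProduct.lid A G
    ((MvPolynomial.lcoeff A k).rTensor G (γ.law.toFun' (MvPolynomial (Fin n) A) p))

omit hφ in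
theorem phiT_cf (n : ℕ) (k : Fin n →₀ ℕ) (p : MvPolynomial (Fin n) A ⊗[A] B) :
    φT (cf γ n k p) = TensorProduct.lid A _ ((MvPolynomial.lcoeff A k).rTensor _
      (φT.lTensor (MvPolynomial (Fin n) A) (γ.law.toFun' (MvPolynomial (Fin n) A) p))) := by
  unfold cf
  rw [lid_rTensor_lTensor]

theorem star1_tprod (n : ℕ) (k : Fin n →₀ ℕ) (p : MvPolynomial (Fin n) A ⊗[A] B)
    (b : Fin d → B) :
    psi γ (φT (cf γ n k p) * PiTensorProduct.tprod A b) =
      cf γ n k p * psi γ (PiTensorProduct.tprod A b) := by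
  obtain ⟨n', s, e, hp⟩ := exists_fin_rep (A := A) (B := B) p
  have h2 := star2 γ φT hφ (MvPolynomial (Fin n) A) n' s e b
  rw [← hp] at h2
  have h3 := congrArg (fun z => TensorProduct.lid A G ((MvPolynomial.lcoeff A k).rTensor G z)) h2
  rw [lid_rTensor_mul_one_tmul, lTensor_mul_one_tmul, lid_rTensor_lTensor,
    LinearMap.comp_apply, LinearMap.mulRight_apply, ← phiT_cf] at h3
  rw [psi_tprod]
  exact h3

theorem star1 (n : ℕ) (k : Fin n →₀ ℕ) (p : MvPolynomial (Fin n) A ⊗[A] B)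
    (t : ⨂[A] _ : Fin d, B) :
    psi γ (φT (cf γ n k p) * t) = cf γ n k p * psi γ t := by
  induction t using PiTensorProduct.induction_on with
  | smul_tprod a b =>
    rw [mul_smul_comm, map_smul, map_smul, star1_tprod γ φT hφ, mul_smul_comm]
  | add x y hx hy => rw [mul_add, map_add, map_add, hx, hy, mul_add]

omit hφ in
theorem coeff_sum_pow (d : ℕ) :
    coeff (one1 d) ((∑ i, (X i : MvPolynomial (Fin d) A)) ^ d) = (d.factorial : A) := by
  have h1 : (∑ i, (X i : MvPolynomial (Fin d) A)) ^ d =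
      ∏ _j : Fin d, ∑ i : Fin d, (X i : MvPolynomial (Fin d) A) := by
    rw [Finset.prod_const, Finset.card_univ, Fintype.card_fin]
  rw [h1, Finset.prod_univ_sum, Fintype.piFinset_univ, coeff_sum]
  have h2 : ∀ c : Fin d → Fin d, coeff (one1 d) (∏ j, (X (c j) : MvPolynomial (Fin d) A)) =
      if Function.Bijective c then (1 : A) else 0 := fun c => coeff_prod_X A d c
  rw [Finset.sum_congr rfl (fun c _ => h2 c), sum_ite_bijective d (fun _ => (1 : A)),
    Finset.sum_const, Finset.card_univ, Fintype.card_perm, Fintype.card_fin, nsmul_eq_mul, mul_one]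

omit hφ in
theorem PA_one : PA γ (fun _ => (1 : B)) = d.factorial • (1 : G) := by
  rw [PA_apply]
  unfold PR
  rw [arg_one]
  have h1 : (∑ i, (X i : MvPolynomial (Fin d) A) ⊗ₜ[A] (1 : B)) =
      (∑ i, (X i : MvPolynomial (Fin d) A)) • (1 : MvPolynomial (Fin d) A ⊗[A] B) := by
    rw [Algebra.TensorProduct.one_def, TensorProduct.smul_tmul', smul_eq_mul, mul_one,
      TensorProduct.sum_tmul]
  rw [h1, γ.homog (MvPolynomial (Fin d) A), (γ.mult (MvPolynomial (Fin d) A)).1,
    Algebra.TensorProduct.one_def, TensorProduct.smul_tmul', smul_eq_mul, mul_one,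
    LinearMap.rTensor_tmul, TensorProduct.lid_tmul, ell_apply, coeff_sum_pow,
    Nat.cast_smul_eq_nsmul]

theorem phiT_PA (b : Fin d → B) :
    φT (PA γ b) = ∑ σ : Equiv.Perm (Fin d), PiTensorProduct.tprod A (fun i => b (σ i)) := by
  rw [PA_apply]
  unfold PR
  rw [arg_one, ← lid_rTensor_lTensor, hφ (MvPolynomial (Fin d) A) d X b, map_sum, map_sum]
  have h2 : ∀ c : Fin d → Fin d,
      TensorProduct.lid A (⨂[A] _ : Fin d, B) ((ell A A d).rTensor (⨂[A] _ : Fin d, B)
        ((∏ i, (X (c i) : MvPolynomial (Fin d) A)) ⊗ₜ[A]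
          PiTensorProduct.tprod A (fun i => b (c i)))) =
      if Function.Bijective c then PiTensorProduct.tprod A (fun i => b (c i)) else 0 := by
    intro c
    rw [LinearMap.rTensor_tmul, TensorProduct.lid_tmul, ell_apply, coeff_prod_X]
    split_ifs
    · rw [one_smul]
    · rw [zero_smul]
  rw [Finset.sum_congr rfl (fun c _ => h2 c),
    sum_ite_bijective d (fun c => PiTensorProduct.tprod A (fun i => b (c i)))]

end Psi

end Groth.Agent.Helper22.GamD
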