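import Mathlib
import Groth.Agent.Lib.Helper4.DVRDom

/-!
# Rescaling a map from a graded ring to a DVR through the grading (for S14123)
-/

set_option autoImplicit false

namespace Groth.Agent.Helper22.GmRescale

universe u v

open Polynomial

/-- `AdjoinRoot g` is generated as a field by `R` and the root, when `K = Frac R`. -/
theorem adjoinRoot_closure_eq_top (R : Type v) (K : Type v) [CommRing R] [Field K]
    [Algebra R K] [IsFractionRing R K] (g : K[X]) [Fact (Irreducible g)] :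
    Subfield.closure (Set.range (algebraMap R (AdjoinRoot g)) ∪ {AdjoinRoot.root g}) = ⊤ := by
  have hK : ∀ c : K, algebraMap K (AdjoinRoot g) c ∈
      Subfield.closure (Set.range (algebraMap R (AdjoinRoot g)) ∪ {AdjoinRoot.root g}) := by
    intro c
    obtain ⟨a, b, _, rfl⟩ := IsFractionRing.div_surjective R c
    simp only [map_div₀, ← IsScalarTower.algebraMap_apply R K (AdjoinRoot g)]
    exact Subfield.div_mem _ (Subfield.subset_closure (Or.inl ⟨a, rfl⟩))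
      (Subfield.subset_closure (Or.inl ⟨b, rfl⟩))
  rw [eq_top_iff]
  intro x _
  obtain ⟨P, rfl⟩ := AdjoinRoot.mk_surjective x
  rw [← AdjoinRoot.aeval_eq, Polynomial.aeval_eq_sum_range]
  refine sum_mem fun i _ => ?_
  rw [Algebra.smul_def]
  have hroot_mem : AdjoinRoot.root g ∈ Subfield.closure
      (Set.range (algebraMap R (AdjoinRoot g)) ∪ {AdjoinRoot.root g}) :=
    Subfield.subset_closure (Set.mem_union_right _ (Set.mem_singleton _))
  exact Subfield.mul_mem _ (hK _) (pow_mem hroot_mem i)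

set_option maxHeartbeats 1600000 in
theorem main {A : Type u} [CommRing A] (𝒜 : ℤ → AddSubgroup A) [GradedRing 𝒜]
    (hfg : (Ideal.span {a : A | ∃ d : ℤ, 0 < d ∧ a ∈ 𝒜 d}).FG)
    (R : Type v) [CommRing R] [IsDomain R] [IsDiscreteValuationRing R]
    (K : Type v) [Field K] [Algebra R K] [IsFractionRing R K]
    (φ : A →+* R)
    (hle : Ideal.map φ (Ideal.span {a : A | ∃ d : ℤ, 0 < d ∧ a ∈ 𝒜 d}) ≤ IsLocalRing.maximalIdeal R)
    (hne : Ideal.map φ (Ideal.span {a : A | ∃ d : ℤ, 0 < d ∧ a ∈ 𝒜 d}) ≠ ⊥) :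
    ∃ (R' : Type v) (_ : CommRing R') (_ : IsDomain R') (_ : IsDiscreteValuationRing R')
      (K' : Type v) (_ : Field K') (_ : Algebra R' K') (_ : IsFractionRing R' K')
      (_ : Algebra R R') (_ : Algebra K K') (_ : Algebra R K')
      (_ : IsScalarTower R R' K') (_ : IsScalarTower R K K')
      (_ : Module.Finite K K') (_ : IsLocalHom (algebraMap R R'))
      (ϖ : R') (g : A →+* R'),
      ϖ ≠ 0 ∧ ϖ ∈ IsLocalRing.maximalIdeal R' ∧
      (∀ (d : ℤ) (a : A), a ∈ 𝒜 d →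
        algebraMap R' K' (g a) * algebraMap R' K' ϖ ^ d = algebraMap R K' (φ a)) ∧
      Ideal.map g (Ideal.span {a : A | ∃ d : ℤ, 0 < d ∧ a ∈ 𝒜 d}) = ⊤ := by
  classical
  obtain ⟨π, hπirr⟩ := IsDiscreteValuationRing.exists_irreducible R
  have hπ0 : π ≠ 0 := hπirr.ne_zero
  have hπmem : π ∈ IsLocalRing.maximalIdeal R := by
    rw [IsLocalRing.mem_maximalIdeal, mem_nonunits_iff]
    exact hπirr.not_isUnit
  obtain ⟨T, hT⟩ : ∃ T : Set A, T = {a : A | ∃ d : ℤ, 0 < d ∧ a ∈ 𝒜 d} := ⟨_, rfl⟩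
  rw [← hT] at hfg hle hne ⊢
  have hTmem : ∀ a : A, a ∈ T ↔ ∃ d : ℤ, 0 < d ∧ a ∈ 𝒜 d := by
    intro a; rw [hT]; rfl
  have hfg' : (Submodule.span A T).FG := hfg
  obtain ⟨s, hsT, hspan⟩ := (Submodule.fg_span_iff_fg_span_finset_subset T).mp hfg'
  have hspan' : Ideal.span T = Ideal.span (s : Set A) := hspan
  have hsdeg : ∀ b ∈ s, ∃ e : ℤ, 0 < e ∧ b ∈ 𝒜 e :=
    fun b hb => (hTmem b).mp (hsT (Finset.mem_coe.mpr hb))
  choose! deg hdegpos hdegmem using hsdeg
  have hw : ∀ b : A, φ b ≠ 0 → ∃ w : ℕ, ∃ u : Rˣ, φ b = ↑u * π ^ w :=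
    fun b hb => IsDiscreteValuationRing.eq_unit_mul_pow_irreducible hb hπirr
  choose! wf uf hwf using hw
  have hex : ∃ b ∈ s, φ b ≠ 0 := by
    by_contra hcon
    push_neg at hcon
    apply hne
    rw [hspan', Ideal.map_span, Ideal.span_eq_bot]
    rintro x ⟨b, hb, rfl⟩
    exact hcon b (Finset.mem_coe.mp hb)
  have hs'ne : (s.filter (fun b => φ b ≠ 0)).Nonempty := by
    obtain ⟨b, hb, hb0⟩ := hex
    exact ⟨b, Finset.mem_filter.mpr ⟨hb, hb0⟩⟩
  obtain ⟨a0, ha0, hmin⟩ := Finset.exists_min_image (s.filter (fun b => φ b ≠ 0))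
    (fun b => (wf b : ℚ) / (deg b : ℚ)) hs'ne
  obtain ⟨ha0s, ha00⟩ := Finset.mem_filter.mp ha0
  have hD0pos : 0 < deg a0 := hdegpos a0 ha0s
  have hcross : ∀ b ∈ s, φ b ≠ 0 → (wf a0 : ℤ) * deg b ≤ (wf b : ℤ) * deg a0 := by
    intro b hb hb0
    have h : (wf a0 : ℚ) / (deg a0 : ℚ) ≤ (wf b : ℚ) / (deg b : ℚ) :=
      hmin b (Finset.mem_filter.mpr ⟨hb, hb0⟩)
    have hbpos : (0 : ℚ) < (deg b : ℚ) := by exact_mod_cast hdegpos b hb
    have h0pos : (0 : ℚ) < (deg a0 : ℚ) := by exact_mod_cast hD0pos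
    have h1 := (div_le_iff₀ h0pos).mp h
    rw [div_mul_eq_mul_div, le_div_iff₀ hbpos] at h1
    exact_mod_cast h1
  have ha0T : a0 ∈ T := (hTmem a0).mpr ⟨deg a0, hD0pos, hdegmem a0 ha0s⟩
  have hn0 : 1 ≤ wf a0 := by
    by_contra hlt
    have hw0 : wf a0 = 0 := by omega
    have hmem : φ a0 ∈ IsLocalRing.maximalIdeal R :=
      hle (Ideal.mem_map_of_mem φ (Ideal.subset_span ha0T))
    rw [hwf a0 ha00, hw0, pow_zero, mul_one] at hmem
    exact mem_nonunits_iff.mp ((IsLocalRing.mem_maximalIdeal _).mp hmem) (uf a0).isUnit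
  obtain ⟨d0, hd0⟩ : ∃ d0 : ℕ, (d0 : ℤ) = deg a0 :=
    ⟨(deg a0).toNat, Int.toNat_of_nonneg hD0pos.le⟩
  have hd0pos : 0 < d0 := by omega
  -- the field extension
  obtain ⟨g, hgirr, hgdvd⟩ : ∃ g : K[X], Irreducible g ∧ g ∣ (X ^ d0 - C (algebraMap R K π)) := by
    refine ⟨_, Polynomial.irreducible_factor _, Polynomial.factor_dvd_of_natDegree_ne_zero ?_⟩
    rw [Polynomial.natDegree_X_pow_sub_C]
    exact hd0pos.ne'
  haveI : Fact (Irreducible g) := ⟨hgirr⟩
  have hg0 : g ≠ 0 := hgirr.ne_zero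
  have hfin : Module.Finite K (AdjoinRoot g) := (AdjoinRoot.powerBasis hg0).finite
  obtain ⟨θ, hθdef⟩ : ∃ θ : AdjoinRoot g, θ = AdjoinRoot.root g := ⟨_, rfl⟩
  have hθpow : θ ^ d0 = algebraMap R (AdjoinRoot g) π := by
    obtain ⟨h, hh⟩ := hgdvd
    have h1 : Polynomial.aeval θ (X ^ d0 - C (algebraMap R K π)) = 0 := by
      rw [hh, map_mul, hθdef, AdjoinRoot.aeval_eq, AdjoinRoot.mk_self, zero_mul]
    simp only [map_sub, map_pow, Polynomial.aeval_X, Polynomial.aeval_C] at h1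
    rw [sub_eq_zero] at h1
    rw [h1, ← IsScalarTower.algebraMap_apply]
  have hinj : Function.Injective (algebraMap R (AdjoinRoot g)) := by
    rw [IsScalarTower.algebraMap_eq R K (AdjoinRoot g), RingHom.coe_comp]
    exact (algebraMap K (AdjoinRoot g)).injective.comp (IsFractionRing.injective R K)
  have hclos : Subfield.closure (Set.range (algebraMap R (AdjoinRoot g)) ∪
      (({θ} : Finset (AdjoinRoot g)) : Set (AdjoinRoot g))) = ⊤ := by
    rw [Finset.coe_singleton, hθdef]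
    exact adjoinRoot_closure_eq_top R K g
  obtain ⟨V, hDVR, hRV, hnon⟩ := Groth.Agent.Helper4.DVRDom.exists_dvr R hinj {θ} hclos
    (IsLocalRing.maximalIdeal R) (IsLocalRing.maximalIdeal.isMaximal R).ne_top π hπmem hπ0
  have hιπ : algebraMap R (AdjoinRoot g) π ≠ 0 := fun h => hπ0 (hinj (by rw [h, map_zero]))
  have hθ0 : θ ≠ 0 := by
    intro h
    rw [h, zero_pow hd0pos.ne'] at hθpow
    exact hιπ hθpow.symm
  have hvθ : V.valuation θ < 1 := by
    by_contra hge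
    push_neg at hge
    have h1 : 1 ≤ V.valuation θ ^ d0 := one_le_pow_of_one_le' hge d0
    rw [← map_pow, hθpow] at h1
    exact absurd (V.mem_nonunits_iff.mp (hnon π hπmem)) (not_lt.mpr h1)
  have hθV : θ ∈ V := (V.valuation_le_one_iff θ).mp hvθ.le
  have hθVmax : (⟨θ, hθV⟩ : V) ∈ IsLocalRing.maximalIdeal V :=
    (V.valuation_lt_one_iff ⟨θ, hθV⟩).mpr hvθ
  obtain ⟨ϖ, hϖdef⟩ : ∃ ϖ : V, ϖ = (⟨θ, hθV⟩ : V) ^ (wf a0) := ⟨_, rfl⟩
  have hϖcoe : (ϖ : AdjoinRoot g) = θ ^ (wf a0) := by rw [hϖdef]; rfl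
  have hϖmax : ϖ ∈ IsLocalRing.maximalIdeal V := by
    rw [hϖdef]; exact Ideal.pow_mem_of_mem _ hθVmax _ (by omega)
  have hϖ0' : (ϖ : AdjoinRoot g) ≠ 0 := by rw [hϖcoe]; exact pow_ne_zero _ hθ0
  have hϖ0 : ϖ ≠ 0 := fun h => hϖ0' (by rw [h]; rfl)
  have hϖV : (ϖ : AdjoinRoot g) ∈ V := ϖ.2
  -- the generators
  have hbase : ∀ b ∈ s,
      algebraMap R (AdjoinRoot g) (φ b) * (ϖ : AdjoinRoot g) ^ (-(deg b)) ∈ V := by
    intro b hb
    by_cases hb0 : φ b = 0
    · rw [hb0, map_zero, zero_mul]; exact V.zero_mem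
    · have hc := hcross b hb hb0
      obtain ⟨m, hm⟩ : ∃ m : ℕ, (m : ℤ) = (wf b : ℤ) * deg a0 - (wf a0 : ℤ) * deg b :=
        ⟨((wf b : ℤ) * deg a0 - (wf a0 : ℤ) * deg b).toNat, Int.toNat_of_nonneg (by linarith)⟩
      have hkey : algebraMap R (AdjoinRoot g) (φ b) * (ϖ : AdjoinRoot g) ^ (-(deg b)) =
          algebraMap R (AdjoinRoot g) (uf b) * θ ^ m := by
        rw [hwf b hb0, map_mul, map_pow, ← hθpow, hϖcoe, mul_assoc]
        congr 1
        have e1 : (θ ^ d0) ^ (wf b) = θ ^ (((d0 * wf b : ℕ) : ℤ)) := by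
          rw [zpow_natCast, pow_mul]
        have e2 : (θ ^ (wf a0)) ^ (-(deg b)) = θ ^ ((wf a0 : ℤ) * (-(deg b))) := by
          rw [zpow_mul, zpow_natCast]
        have e3 : θ ^ m = θ ^ ((m : ℕ) : ℤ) := (zpow_natCast θ m).symm
        rw [e1, e2, e3, ← zpow_add₀ hθ0]
        congr 1
        rw [hm, ← hd0]
        push_cast
        ring
      rw [hkey]
      exact V.mul_mem _ _ (hRV _) (pow_mem hθV m)
  have Hneg : ∀ d : ℤ, d ≤ 0 → ∀ a : A,
      algebraMap R (AdjoinRoot g) (φ a) * (ϖ : AdjoinRoot g) ^ (-d) ∈ V := by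
    intro d hd a
    obtain ⟨m, hm⟩ : ∃ m : ℕ, (m : ℤ) = -d := ⟨(-d).toNat, Int.toNat_of_nonneg (by omega)⟩
    rw [← hm, zpow_natCast]
    exact V.mul_mem _ _ (hRV _) (pow_mem hϖV m)
  have Hpos : ∀ n : ℕ, ∀ d : ℤ, 0 < d → d ≤ n → ∀ a ∈ 𝒜 d,
      algebraMap R (AdjoinRoot g) (φ a) * (ϖ : AdjoinRoot g) ^ (-d) ∈ V := by
    intro n
    induction n with
    | zero => intro d hd hdn; omega
    | succ n ih =>
      intro d hd hdn a ha
      have haI : a ∈ Ideal.span (s : Set A) := by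
        rw [← hspan']
        exact Ideal.subset_span ((hTmem a).mpr ⟨d, hd, ha⟩)
      obtain ⟨c, -, hc⟩ := Submodule.mem_span_finset.mp haI
      obtain ⟨xf, hxf⟩ : ∃ xf : A → A, ∀ b,
          xf b = ((DirectSum.decompose 𝒜 (c b) (d - deg b) : 𝒜 (d - deg b)) : A) :=
        ⟨fun b => _, fun b => rfl⟩
      have hxfmem : ∀ b, xf b ∈ 𝒜 (d - deg b) := fun b => by
        rw [hxf b]; exact SetLike.coe_mem _
      have hL : (GradedRing.proj 𝒜 d) a = a := by
        rw [GradedRing.proj_apply]; exact DirectSum.decompose_of_mem_same 𝒜 ha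
      have hproj : a = ∑ b ∈ s, xf b * b := by
        calc a = (GradedRing.proj 𝒜 d) a := hL.symm
          _ = (GradedRing.proj 𝒜 d) (∑ b ∈ s, c b • b) := by rw [hc]
          _ = ∑ b ∈ s, (GradedRing.proj 𝒜 d) (c b • b) := map_sum _ _ _
          _ = ∑ b ∈ s, xf b * b := Finset.sum_congr rfl fun b hb => by
              rw [hxf b, GradedRing.proj_apply, smul_eq_mul]
              have h2 := DirectSum.coe_decompose_mul_add_of_right_mem 𝒜 (i := d - deg b)
                (a := c b) (hdegmem b hb)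
              rw [sub_add_cancel] at h2
              exact h2
      rw [hproj, map_sum, map_sum, Finset.sum_mul]
      refine sum_mem fun b hb => ?_
      have hsplit : algebraMap R (AdjoinRoot g) (φ (xf b * b)) * (ϖ : AdjoinRoot g) ^ (-d) =
          (algebraMap R (AdjoinRoot g) (φ (xf b)) * (ϖ : AdjoinRoot g) ^ (-(d - deg b))) *
          (algebraMap R (AdjoinRoot g) (φ b) * (ϖ : AdjoinRoot g) ^ (-(deg b))) := by
        have hz : (ϖ : AdjoinRoot g) ^ (-d) =
            (ϖ : AdjoinRoot g) ^ (-(d - deg b)) * (ϖ : AdjoinRoot g) ^ (-(deg b)) := by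
          rw [← zpow_add₀ hϖ0']
          congr 1
          ring
        rw [map_mul, map_mul, hz]
        ring
      rw [hsplit]
      refine V.mul_mem _ _ ?_ (hbase b hb)
      rcases le_or_gt (d - deg b) 0 with hle0 | hgt0
      · exact Hneg _ hle0 _
      · exact ih (d - deg b) hgt0 (by have := hdegpos b hb; push_cast at hdn; omega) (xf b)
          (hxfmem b)
  -- the rescaled map
  let fd : ∀ d : ℤ, 𝒜 d →+ AdjoinRoot g := fun d =>
    (AddMonoidHom.mulRight ((ϖ : AdjoinRoot g) ^ (-d))).comp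
      ((algebraMap R (AdjoinRoot g)).toAddMonoidHom.comp (φ.toAddMonoidHom.comp (𝒜 d).subtype))
  have hfd : ∀ (d : ℤ) (a : 𝒜 d),
      fd d a = algebraMap R (AdjoinRoot g) (φ (a : A)) * (ϖ : AdjoinRoot g) ^ (-d) :=
    fun d a => rfl
  have hone : fd 0 (GradedMonoid.GOne.one (A := fun i : ℤ => 𝒜 i)) = 1 := by
    rw [hfd, SetLike.coe_gOne, map_one, map_one, neg_zero, zpow_zero, mul_one]
  have hmul : ∀ {i j : ℤ} (ai : 𝒜 i) (aj : 𝒜 j),
      fd (i + j) (GradedMonoid.GMul.mul (A := fun i : ℤ => 𝒜 i) ai aj) = fd i ai * fd j aj := by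
    intro i j ai aj
    rw [hfd, hfd, hfd, SetLike.coe_gMul, map_mul, map_mul, neg_add, zpow_add₀ hϖ0']
    ring
  let G : (DirectSum ℤ fun i => 𝒜 i) →+* AdjoinRoot g := DirectSum.toSemiring fd hone hmul
  let g' : A →+* AdjoinRoot g := G.comp (DirectSum.decomposeRingEquiv 𝒜).toRingHom
  have hg'hom : ∀ (d : ℤ) (a : A), a ∈ 𝒜 d →
      g' a = algebraMap R (AdjoinRoot g) (φ a) * (ϖ : AdjoinRoot g) ^ (-d) := by
    intro d a ha
    show G (DirectSum.decompose 𝒜 a) = _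
    rw [DirectSum.decompose_of_mem 𝒜 ha]
    show DirectSum.toSemiring fd hone hmul (DirectSum.of (fun i => 𝒜 i) d ⟨a, ha⟩) = _
    rw [DirectSum.toSemiring_of, hfd]
  have hg'V : ∀ a : A, g' a ∈ V := by
    intro a
    refine DirectSum.Decomposition.inductionOn 𝒜 (motive := fun a => g' a ∈ V) ?_ ?_ ?_ a
    · rw [map_zero]; exact V.zero_mem
    · intro i m
      rw [hg'hom i m m.2]
      rcases le_or_gt i 0 with h | h
      · exact Hneg i h _
      · exact Hpos i.toNat i h (by omega) m m.2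
    · intro m m' hm hm'
      rw [map_add]; exact V.add_mem _ _ hm hm'
  letI algRV : Algebra R V := (RingHom.codRestrict (algebraMap R (AdjoinRoot g)) V hRV).toAlgebra
  have htower : IsScalarTower R V (AdjoinRoot g) := IsScalarTower.of_algebraMap_eq (fun x => rfl)
  have hlocal : IsLocalHom (algebraMap R V) := by
    constructor
    intro a ha
    by_contra hna
    have hamem : a ∈ IsLocalRing.maximalIdeal R := (IsLocalRing.mem_maximalIdeal a).mpr hna
    obtain ⟨h1, h2⟩ := ValuationSubring.mem_nonunits_iff_exists_mem_maximalIdeal.mp (hnon a hamem)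
    exact mem_nonunits_iff.mp ((IsLocalRing.mem_maximalIdeal _).mp h2) ha
  refine ⟨V, inferInstance, inferInstance, hDVR, AdjoinRoot g, inferInstance, inferInstance,
    inferInstance, algRV, inferInstance, inferInstance, htower, inferInstance, hfin, hlocal, ϖ,
    g'.codRestrict V hg'V, hϖ0, hϖmax, ?_, ?_⟩
  · intro d a ha
    show g' a * (ϖ : AdjoinRoot g) ^ d = algebraMap R (AdjoinRoot g) (φ a)
    rw [hg'hom d a ha, mul_assoc, ← zpow_add₀ hϖ0', neg_add_cancel, zpow_zero, mul_one]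
  · have hmemI : (g'.codRestrict V hg'V) a0 ∈ Ideal.map (g'.codRestrict V hg'V) (Ideal.span T) :=
      Ideal.mem_map_of_mem _ (Ideal.subset_span ha0T)
    refine Ideal.eq_top_of_isUnit_mem _ hmemI ?_
    have hval : g' a0 = algebraMap R (AdjoinRoot g) (uf a0) := by
      rw [hg'hom _ a0 (hdegmem a0 ha0s), hwf a0 ha00, map_mul, map_pow, ← hθpow, hϖcoe, mul_assoc]
      have h1 : (θ ^ d0) ^ (wf a0) * (θ ^ (wf a0)) ^ (-(deg a0)) = 1 := by
        rw [← hd0, zpow_neg, zpow_natCast, ← pow_mul, ← pow_mul, mul_comm d0,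
          mul_inv_cancel₀ (pow_ne_zero _ hθ0)]
      rw [h1, mul_one]
    refine isUnit_iff_exists_inv.mpr
      ⟨⟨algebraMap R (AdjoinRoot g) ((uf a0)⁻¹ : Rˣ), hRV _⟩, Subtype.ext ?_⟩
    show g' a0 * algebraMap R (AdjoinRoot g) ((uf a0)⁻¹ : Rˣ) = 1
    rw [hval, ← map_mul, Units.mul_inv, map_one]

end Groth.Agent.Helper22.GmRescale
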