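import Mathlib

/-!
# Helper22: a finite graded module with prescribed degree-zero localization

For an `ℕ`-graded `R`-algebra `S`, `f ∈ S₁`, `e : S_(f) ≃+* R'` and a finite `R'`-module `M`,
we construct a finite graded `S`-module `N ⊆ M[X]` with `N_(f) ≅ M`.
-/

set_option autoImplicit false
universe u
open Polynomial

namespace Groth.Agent.Helper22.GrLoc

section Theta

variable {R R' : Type u} [CommRing R] [CommRing R'] [Algebra R R']
  {S : Type u} [CommRing S] [Algebra R S] (𝒜 : ℕ → Submodule R S) [GradedAlgebra 𝒜]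
  {f : S} (hf : f ∈ 𝒜 1) (e : HomogeneousLocalization.Away 𝒜 f ≃+* R')

/-- The fraction `s / f ^ d` for `s ∈ 𝒜 d`. -/
def frac (d : ℕ) (s : S) (hs : s ∈ 𝒜 d) : HomogeneousLocalization.Away 𝒜 f :=
  HomogeneousLocalization.Away.mk 𝒜 hf d s (by simpa using hs)

lemma val_frac (d : ℕ) (s : S) (hs : s ∈ 𝒜 d) :
    (frac 𝒜 hf d s hs).val = Localization.mk s ⟨f ^ d, pow_mem (Submonoid.mem_powers f) d⟩ := rfl

lemma frac_add (d : ℕ) (s s' : S) (hs : s ∈ 𝒜 d) (hs' : s' ∈ 𝒜 d) :
    frac 𝒜 hf d (s + s') (add_mem hs hs') = frac 𝒜 hf d s hs + frac 𝒜 hf d s' hs' := by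
  apply HomogeneousLocalization.val_injective
  rw [HomogeneousLocalization.val_add, val_frac, val_frac, val_frac, Localization.add_mk_self]

lemma frac_zero (d : ℕ) : frac 𝒜 hf d (0 : S) (zero_mem _) = 0 := by
  apply HomogeneousLocalization.val_injective
  rw [HomogeneousLocalization.val_zero, val_frac, Localization.mk_zero]

lemma frac_mul (i j : ℕ) (s s' : S) (hs : s ∈ 𝒜 i) (hs' : s' ∈ 𝒜 j) :
    frac 𝒜 hf (i + j) (s * s') (SetLike.mul_mem_graded hs hs') =
      frac 𝒜 hf i s hs * frac 𝒜 hf j s' hs' := by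
  apply HomogeneousLocalization.val_injective
  rw [HomogeneousLocalization.val_mul, val_frac, val_frac, val_frac, Localization.mk_mul]
  congr 1
  exact Subtype.ext (pow_add f i j)

lemma frac_one : frac 𝒜 hf 0 (1 : S) (SetLike.one_mem_graded 𝒜) = 1 := by
  apply HomogeneousLocalization.val_injective
  rw [HomogeneousLocalization.val_one, val_frac]
  have h : (⟨f ^ 0, pow_mem (Submonoid.mem_powers f) 0⟩ : Submonoid.powers f) = 1 := Subtype.ext (pow_zero f)
  rw [h, Localization.mk_one]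

lemma frac_self : frac 𝒜 hf 1 f hf = 1 := by
  apply HomogeneousLocalization.val_injective
  rw [HomogeneousLocalization.val_one, val_frac]
  have h : (⟨f ^ 1, pow_mem (Submonoid.mem_powers f) 1⟩ : Submonoid.powers f) = ⟨f, Submonoid.mem_powers f⟩ := Subtype.ext (pow_one f)
  rw [h]
  exact Localization.mk_self (⟨f, Submonoid.mem_powers f⟩ : Submonoid.powers f)

/-- The degree-`d` piece of `θ`. -/
noncomputable def thetaD (d : ℕ) : ↥(𝒜 d) →+ R'[X] where
  toFun s := monomial d (e (frac 𝒜 hf d s s.2))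
  map_zero' := by
    change monomial d (e (frac 𝒜 hf d (0 : S) (zero_mem _))) = 0
    rw [frac_zero, map_zero, map_zero]
  map_add' s s' := by
    change monomial d (e (frac 𝒜 hf d ((s : S) + (s' : S)) (add_mem s.2 s'.2))) = _
    rw [frac_add, map_add, map_add]

lemma thetaD_one : thetaD 𝒜 hf e 0 (GradedMonoid.GOne.one (A := fun i => ↥(𝒜 i))) = 1 := by
  change monomial 0 (e (frac 𝒜 hf 0 (1 : S) (SetLike.one_mem_graded 𝒜))) = 1
  rw [frac_one, map_one, monomial_zero_left, map_one]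

lemma thetaD_mul {i j : ℕ} (ai : ↥(𝒜 i)) (aj : ↥(𝒜 j)) :
    thetaD 𝒜 hf e (i + j) (GradedMonoid.GMul.mul (A := fun i => ↥(𝒜 i)) ai aj) =
      thetaD 𝒜 hf e i ai * thetaD 𝒜 hf e j aj := by
  change monomial (i + j) (e (frac 𝒜 hf (i + j) ((ai : S) * (aj : S))
    (SetLike.mul_mem_graded ai.2 aj.2))) =
    monomial i (e (frac 𝒜 hf i ai ai.2)) * monomial j (e (frac 𝒜 hf j aj aj.2))
  rw [frac_mul, map_mul, monomial_mul_monomial]

/-- The ring homomorphism `θ : S → R'[X]`, `s_d ↦ e (s_d / f ^ d) X ^ d`. -/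
noncomputable def theta : S →+* R'[X] :=
  (DirectSum.toSemiring (thetaD 𝒜 hf e) (thetaD_one 𝒜 hf e)
    (fun ai aj => thetaD_mul 𝒜 hf e ai aj)).comp
    (DirectSum.decomposeRingEquiv 𝒜).toRingHom

lemma theta_of_mem {d : ℕ} {s : S} (hs : s ∈ 𝒜 d) :
    theta 𝒜 hf e s = monomial d (e (frac 𝒜 hf d s hs)) := by
  change DirectSum.toSemiring (thetaD 𝒜 hf e) (thetaD_one 𝒜 hf e)
    (fun ai aj => thetaD_mul 𝒜 hf e ai aj) (DirectSum.decompose 𝒜 s) = _
  rw [DirectSum.decompose_of_mem 𝒜 hs, DirectSum.toSemiring_of]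
  rfl

lemma theta_f : theta 𝒜 hf e f = X := by
  rw [theta_of_mem 𝒜 hf e hf, frac_self, map_one, monomial_one_one_eq_X]

include hf in
lemma f_pow_mem (k : ℕ) : f ^ k ∈ 𝒜 k := by
  have := SetLike.pow_mem_graded k hf
  simpa using this

/-- `ε : S → R'`, `s ↦ ∑ e (s_d / f ^ d)`. -/
noncomputable def eps : S →+* R' := (Polynomial.evalRingHom 1).comp (theta 𝒜 hf e)

lemma eps_of_mem {d : ℕ} {s : S} (hs : s ∈ 𝒜 d) : eps 𝒜 hf e s = e (frac 𝒜 hf d s hs) := by
  change eval 1 (theta 𝒜 hf e s) = _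
  rw [theta_of_mem 𝒜 hf e hs, eval_monomial, one_pow, mul_one]

lemma eps_f_pow (k : ℕ) : eps 𝒜 hf e (f ^ k) = 1 := by
  rw [map_pow]
  have : eps 𝒜 hf e f = 1 := by rw [eps_of_mem 𝒜 hf e hf, frac_self, map_one]
  rw [this, one_pow]

variable (he : ∀ r : R, (e.symm (algebraMap R R' r)).val =
  algebraMap S (Localization.Away f) (algebraMap R S r))

include he in
lemma frac_algebraMap (r : R) :
    frac 𝒜 hf 0 (algebraMap R S r) (SetLike.algebraMap_mem_graded 𝒜 r) =
      e.symm (algebraMap R R' r) := by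
  apply HomogeneousLocalization.val_injective
  rw [he r, val_frac]
  have h : (⟨f ^ 0, pow_mem (Submonoid.mem_powers f) 0⟩ : Submonoid.powers f) = 1 := Subtype.ext (pow_zero f)
  rw [h, Localization.mk_one_eq_algebraMap]

include he in
lemma theta_algebraMap (r : R) :
    theta 𝒜 hf e (algebraMap R S r) = C (algebraMap R R' r) := by
  rw [theta_of_mem 𝒜 hf e (SetLike.algebraMap_mem_graded 𝒜 r), frac_algebraMap 𝒜 hf e he,
    RingEquiv.apply_symm_apply, monomial_zero_left]

include he in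
lemma eps_algebraMap (r : R) : eps 𝒜 hf e (algebraMap R S r) = algebraMap R R' r := by
  change eval 1 (theta 𝒜 hf e (algebraMap R S r)) = _
  rw [theta_algebraMap 𝒜 hf e he, eval_C]

end Theta

/-- `M[X]` regarded as an `S`-module through `θ` (the extra arguments only record the data). -/
def PMod {R R' : Type u} [CommRing R] [CommRing R'] [Algebra R R']
    {S : Type u} [CommRing S] [Algebra R S] (𝒜 : ℕ → Submodule R S) [GradedAlgebra 𝒜]
    {f : S} (_hf : f ∈ 𝒜 1) (e : HomogeneousLocalization.Away 𝒜 f ≃+* R')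
    (_he : ∀ r : R, (e.symm (algebraMap R R' r)).val =
      algebraMap S (Localization.Away f) (algebraMap R S r))
    (M : Type u) [AddCommGroup M] [Module R' M] : Type u :=
  PolynomialModule R' M

section PModSec

variable {R R' : Type u} [CommRing R] [CommRing R'] [Algebra R R']
  {S : Type u} [CommRing S] [Algebra R S] {𝒜 : ℕ → Submodule R S} [GradedAlgebra 𝒜]
  {f : S} {hf : f ∈ 𝒜 1} {e : HomogeneousLocalization.Away 𝒜 f ≃+* R'}
  {he : ∀ r : R, (e.symm (algebraMap R R' r)).val =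
    algebraMap S (Localization.Away f) (algebraMap R S r)}
  {M : Type u} [AddCommGroup M] [Module R' M]

local notation "𝐏" => PMod 𝒜 hf e he M

noncomputable instance instACG : AddCommGroup 𝐏 :=
  inferInstanceAs (AddCommGroup (PolynomialModule R' M))

noncomputable instance instModPoly : Module R'[X] 𝐏 :=
  inferInstanceAs (Module R'[X] (PolynomialModule R' M))

noncomputable instance instModR' : Module R' 𝐏 :=
  inferInstanceAs (Module R' (PolynomialModule R' M))

noncomputable instance instModS : Module S 𝐏 :=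
  Module.compHom (PolynomialModule R' M) (theta 𝒜 hf e)

/-- coefficient -/
def co (x : 𝐏) (k : ℕ) : M := PolynomialModule.coeff (R := R') (M := M) x k

/-- single -/
noncomputable def sg (k : ℕ) (m : M) : 𝐏 := PolynomialModule.single R' k m

lemma smul_def (s : S) (x : 𝐏) : s • x = (theta 𝒜 hf e s) • x := rfl

lemma co_ext {x y : 𝐏} (h : ∀ k, co x k = co y k) : x = y := by
  apply PolynomialModule.ext (R := R') (M := M)
  exact Finsupp.ext h

@[simp] lemma co_zero (k : ℕ) : co (0 : 𝐏) k = 0 := rfl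

@[simp] lemma co_add (x y : 𝐏) (k : ℕ) : co (x + y) k = co x k + co y k := rfl

lemma co_sg (k j : ℕ) (m : M) : co (sg k m : 𝐏) j = if k = j then m else 0 := by
  change (Finsupp.single k m) j = _
  exact Finsupp.single_apply

@[simp] lemma co_sg_self (k : ℕ) (m : M) : co (sg k m : 𝐏) k = m := by
  rw [co_sg, if_pos rfl]

lemma co_sg_ne {k j : ℕ} (h : k ≠ j) (m : M) : co (sg k m : 𝐏) j = 0 := by
  rw [co_sg, if_neg h]

@[simp] lemma sg_zero (k : ℕ) : (sg k (0 : M) : 𝐏) = 0 :=
  PolynomialModule.single_zero (R := R') (M := M) k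

lemma sg_add (k : ℕ) (m m' : M) : (sg k (m + m') : 𝐏) = sg k m + sg k m' :=
  PolynomialModule.single_add (R := R') k m m'

lemma sg_injective (k : ℕ) {m m' : M} (h : (sg k m : 𝐏) = sg k m') : m = m' := by
  have := congrArg (fun x => co x k) h
  simpa using this

/-- The action of a homogeneous element on a monomial. -/
lemma smul_sg {d : ℕ} {s : S} (hs : s ∈ 𝒜 d) (k : ℕ) (m : M) :
    s • (sg k m : 𝐏) = sg (d + k) (e (frac 𝒜 hf d s hs) • m) := by
  change theta 𝒜 hf e s • PolynomialModule.single R' k m = PolynomialModule.single R' (d + k) _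
  rw [theta_of_mem 𝒜 hf e hs, PolynomialModule.monomial_smul_single]

lemma co_smul_of_mem {d : ℕ} {s : S} (hs : s ∈ 𝒜 d) (x : 𝐏) (k : ℕ) :
    co (s • x) k = if d ≤ k then e (frac 𝒜 hf d s hs) • co x (k - d) else 0 := by
  have key : ∀ x' : PolynomialModule R' M,
      PolynomialModule.coeff (theta 𝒜 hf e s • x') k =
        if d ≤ k then e (frac 𝒜 hf d s hs) • PolynomialModule.coeff x' (k - d) else 0 := by
    intro x'
    rw [theta_of_mem 𝒜 hf e hs, PolynomialModule.monomial_smul_apply]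
  exact key x

lemma f_smul_sg (k : ℕ) (m : M) : f • (sg k m : 𝐏) = sg (k + 1) m := by
  rw [smul_sg hf, frac_self, map_one, one_smul, add_comm]

lemma f_pow_smul_sg (j k : ℕ) (m : M) : f ^ j • (sg k m : 𝐏) = sg (k + j) m := by
  induction j with
  | zero => simp
  | succ j ih => rw [pow_succ', mul_smul, ih, f_smul_sg, add_assoc]

/-- every element is the sum of its homogeneous components -/
lemma eq_sum_sg (x : 𝐏) :
    x = ∑ k ∈ (PolynomialModule.coeff (R := R') (M := M) x).support, sg k (co x k) := by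
  have key : ∀ x' : PolynomialModule R' M,
      x' = ∑ k ∈ (PolynomialModule.coeff x').support,
        PolynomialModule.single R' k (PolynomialModule.coeff x' k) := by
    intro x'
    apply PolynomialModule.ext
    rw [PolynomialModule.coeff_sum]
    exact (Finsupp.sum_single (PolynomialModule.coeff x')).symm
  exact key x

/-- evaluation at `X = 1` -/
noncomputable def ev (x : 𝐏) : M := PolynomialModule.eval (R := R') (M := M) 1 x

lemma ev_sg (k : ℕ) (m : M) : ev (sg k m : 𝐏) = m := by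
  change PolynomialModule.eval 1 (PolynomialModule.single R' k m) = m
  rw [PolynomialModule.eval_single, one_pow, one_smul]

lemma ev_add (x y : 𝐏) : ev (x + y) = ev x + ev y :=
  map_add (PolynomialModule.eval (R := R') (M := M) 1) x y

lemma ev_smul (s : S) (x : 𝐏) : ev (s • x) = eps 𝒜 hf e s • ev x := by
  have key : ∀ x' : PolynomialModule R' M,
      PolynomialModule.eval 1 (theta 𝒜 hf e s • x') =
        eval 1 (theta 𝒜 hf e s) • PolynomialModule.eval 1 x' := by
    intro x'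
    rw [PolynomialModule.eval_smul]
  exact key x

end PModSec

section NSec

variable {R R' : Type u} [CommRing R] [CommRing R'] [Algebra R R']
  {S : Type u} [CommRing S] [Algebra R S] (𝒜 : ℕ → Submodule R S) [GradedAlgebra 𝒜]
  {f : S} (hf : f ∈ 𝒜 1) (e : HomogeneousLocalization.Away 𝒜 f ≃+* R')
  (he : ∀ r : R, (e.symm (algebraMap R R' r)).val =
    algebraMap S (Localization.Away f) (algebraMap R S r))
  {M : Type u} [AddCommGroup M] [Module R' M] [Module R M] [IsScalarTower R R' M]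

local notation "𝐏" => PMod 𝒜 hf e he M

noncomputable instance instModR : Module R 𝐏 :=
  inferInstanceAs (Module R (PolynomialModule R' M))

variable {𝒜 hf e he}

lemma co_rsmul (r : R) (x : 𝐏) (k : ℕ) : co (r • x) k = r • co x k := rfl

lemma rsmul_sg (r : R) (k : ℕ) (m : M) : r • (sg k m : 𝐏) = sg k (r • m) := by
  apply co_ext
  intro j
  rw [co_rsmul, co_sg, co_sg]
  split_ifs
  · rfl
  · rw [smul_zero]

lemma algebraMap_smul_P (r : R) (y : 𝐏) : (algebraMap R S r) • y = r • y := by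
  apply co_ext
  intro k
  rw [co_smul_of_mem (SetLike.algebraMap_mem_graded 𝒜 r) y k, if_pos (Nat.zero_le k),
    Nat.sub_zero, frac_algebraMap 𝒜 hf e he r, RingEquiv.apply_symm_apply, co_rsmul,
    algebraMap_smul]

instance instTower : IsScalarTower R S 𝐏 := by
  refine ⟨fun r s x => ?_⟩
  rw [Algebra.smul_def, mul_smul, algebraMap_smul_P]

variable (𝒜 hf e he)

/-- The graded submodule of `M[X]` generated by the degree-zero elements `g j`. -/
noncomputable def NSub {ι : Type} (g : ι → M) : Submodule S 𝐏 :=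
  Submodule.span S (Set.range fun j => (sg 0 (g j) : 𝐏))

variable {𝒜 hf e he}
variable {ι : Type} {g : ι → M}

lemma sg_gen_mem (j : ι) : (sg 0 (g j) : 𝐏) ∈ NSub 𝒜 hf e he g :=
  Submodule.subset_span ⟨j, rfl⟩

/-- `N` is a homogeneous submodule. -/
lemma sg_co_mem {x : 𝐏} (hx : x ∈ NSub 𝒜 hf e he g) (k : ℕ) :
    (sg k (co x k) : 𝐏) ∈ NSub 𝒜 hf e he g := by
  induction hx using Submodule.span_induction generalizing k with
  | mem y hy =>
    obtain ⟨j, rfl⟩ := hy
    by_cases h : 0 = k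
    · subst h
      rw [co_sg_self]
      exact sg_gen_mem j
    · rw [co_sg_ne h, sg_zero]
      exact zero_mem _
  | zero =>
    rw [co_zero, sg_zero]
    exact zero_mem _
  | add y z _ _ hy hz =>
    rw [co_add, sg_add]
    exact add_mem (hy k) (hz k)
  | smul s y _ hy =>
    classical
    revert k
    induction s using DirectSum.Decomposition.inductionOn 𝒜 with
    | zero =>
      intro k
      rw [zero_smul, co_zero, sg_zero]
      exact zero_mem _
    | @homogeneous d sd =>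
      intro k
      rw [co_smul_of_mem sd.2 y k]
      split_ifs with hdk
      · have h2 := smul_sg (hf := hf) (he := he) (M := M) sd.2 (k - d) (co y (k - d))
        rw [show d + (k - d) = k by omega] at h2
        rw [← h2]
        exact Submodule.smul_mem _ _ (hy (k - d))
      · rw [sg_zero]
        exact zero_mem _
    | add s s' hs hs' =>
      intro k
      rw [add_smul, co_add, sg_add]
      exact add_mem (hs k) (hs' k)

lemma f_pow_smul_mem {x : 𝐏} (hx : x ∈ NSub 𝒜 hf e he g) (j : ℕ) :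
    f ^ j • x ∈ NSub 𝒜 hf e he g := Submodule.smul_mem _ _ hx

/-- Every `m : M` occurs as a coefficient in all large degrees. -/
lemma exists_sg_mem (hg : Submodule.span R' (Set.range g) = ⊤) (m : M) :
    ∃ d, ∀ d', d ≤ d' → (sg d' m : 𝐏) ∈ NSub 𝒜 hf e he g := by
  have hm : m ∈ Submodule.span R' (Set.range g) := by rw [hg]; trivial
  induction hm using Submodule.span_induction with
  | mem y hy =>
    obtain ⟨j, rfl⟩ := hy
    refine ⟨0, fun d' _ => ?_⟩
    have h := f_pow_smul_sg (hf := hf) (he := he) d' 0 (g j)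
    rw [zero_add] at h
    rw [← h]
    exact Submodule.smul_mem _ _ (sg_gen_mem j)
  | zero =>
    exact ⟨0, fun d' _ => by rw [sg_zero]; exact zero_mem _⟩
  | add y z _ _ hy hz =>
    obtain ⟨d1, h1⟩ := hy
    obtain ⟨d2, h2⟩ := hz
    refine ⟨max d1 d2, fun d' hd' => ?_⟩
    rw [sg_add]
    exact add_mem (h1 d' (le_trans (le_max_left _ _) hd')) (h2 d' (le_trans (le_max_right _ _) hd'))
  | smul c y _ hy =>
    obtain ⟨d1, h1⟩ := hy
    obtain ⟨n, s, hs, hsa⟩ := HomogeneousLocalization.Away.mk_surjective 𝒜 hf (e.symm c)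
    have hs' : s ∈ 𝒜 n := by simpa using hs
    have hc : e (frac 𝒜 hf n s hs') = c := by
      have h0 : frac 𝒜 hf n s hs' = e.symm c := hsa
      rw [h0, RingEquiv.apply_symm_apply]
    refine ⟨d1 + n, fun d' hd' => ?_⟩
    have h2 := smul_sg (hf := hf) (he := he) (M := M) hs' (d' - n) y
    rw [hc, show n + (d' - n) = d' by omega] at h2
    rw [← h2]
    exact Submodule.smul_mem _ _ (h1 _ (by omega))

end NSec

section Grading

variable {R R' : Type u} [CommRing R] [CommRing R'] [Algebra R R']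
  {S : Type u} [CommRing S] [Algebra R S] (𝒜 : ℕ → Submodule R S) [GradedAlgebra 𝒜]
  {f : S} (hf : f ∈ 𝒜 1) (e : HomogeneousLocalization.Away 𝒜 f ≃+* R')
  (he : ∀ r : R, (e.symm (algebraMap R R' r)).val =
    algebraMap S (Localization.Away f) (algebraMap R S r))
  {M : Type u} [AddCommGroup M] [Module R' M] [Module R M] [IsScalarTower R R' M]
  {ι : Type} (g : ι → M)

local notation "𝐏" => PMod 𝒜 hf e he M
set_option quotPrecheck false in
local notation "𝐍" => ↥(NSub 𝒜 hf e he g)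

/-- The degree-`k` part of `N`. -/
def gr (k : ℕ) : Submodule R 𝐍 where
  carrier := {n | ∃ m : M, (n : 𝐏) = sg k m}
  zero_mem' := ⟨0, by rw [sg_zero]; rfl⟩
  add_mem' := by
    rintro a b ⟨m, hm⟩ ⟨m', hm'⟩
    exact ⟨m + m', by rw [Submodule.coe_add, hm, hm', sg_add]⟩
  smul_mem' := by
    rintro r a ⟨m, hm⟩
    exact ⟨r • m, by rw [Submodule.coe_smul_of_tower, hm, rsmul_sg]⟩

variable {𝒜 hf e he g}

lemma mem_gr {k : ℕ} {n : 𝐍} : n ∈ gr 𝒜 hf e he g k ↔ ∃ m : M, (n : 𝐏) = sg k m := Iff.rfl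

lemma smul_mem_gr {i j : ℕ} {s : S} (hs : s ∈ 𝒜 i) {n : 𝐍} (hn : n ∈ gr 𝒜 hf e he g j) :
    s • n ∈ gr 𝒜 hf e he g (i + j) := by
  obtain ⟨m, hm⟩ := hn
  refine ⟨e (frac 𝒜 hf i s hs) • m, ?_⟩
  rw [Submodule.coe_smul, hm, smul_sg hs]

instance instGradedSMul : SetLike.GradedSMul 𝒜 (gr 𝒜 hf e he g) :=
  ⟨fun {_ _ _ _} hs hn => smul_mem_gr hs hn⟩

lemma coe_coeAddMonoidHom_co (y : DirectSum ℕ fun k => ↥(gr 𝒜 hf e he g k)) (k : ℕ) :
    co ((DirectSum.coeAddMonoidHom (gr 𝒜 hf e he g) y : 𝐍) : 𝐏) k =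
      co (((y k : ↥(gr 𝒜 hf e he g k)) : 𝐍) : 𝐏) k := by
  induction y using DirectSum.induction_on with
  | zero => simp
  | of i z =>
    rw [DirectSum.coeAddMonoidHom_of]
    by_cases h : i = k
    · subst h
      rw [DirectSum.of_eq_same]
    · rw [DirectSum.of_eq_of_ne _ _ _ (Ne.symm h)]
      obtain ⟨m, hm⟩ := z.2
      rw [hm, co_sg_ne h]
      rfl
  | add y y' hy hy' =>
    simp only [map_add, DirectSum.add_apply, Submodule.coe_add, co_add, hy, hy']

lemma isInternal_gr : DirectSum.IsInternal (gr 𝒜 hf e he g) := by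
  constructor
  · rw [injective_iff_map_eq_zero]
    intro y hy
    apply DFinsupp.ext
    intro k
    have h1 := coe_coeAddMonoidHom_co y k
    rw [hy] at h1
    obtain ⟨m, hm⟩ := (y k).2
    rw [hm, co_sg_self] at h1
    have hm0 : m = 0 := h1.symm
    apply Subtype.ext
    apply Subtype.ext
    rw [hm, hm0, sg_zero]
    rfl
  · intro n
    have hsum := eq_sum_sg (n : 𝐏)
    refine ⟨∑ k ∈ (PolynomialModule.coeff (R := R') (M := M) (n : 𝐏)).support,
      DirectSum.of (fun k => ↥(gr 𝒜 hf e he g k)) k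
        ⟨⟨sg k (co (n : 𝐏) k), sg_co_mem n.2 k⟩, co (n : 𝐏) k, rfl⟩, ?_⟩
    rw [map_sum]
    simp only [DirectSum.coeAddMonoidHom_of]
    apply Subtype.ext
    rw [Submodule.coe_sum]
    exact hsum.symm

lemma finite_N [Finite ι] : Module.Finite S 𝐍 :=
  Module.Finite.span_of_finite S (Set.finite_range _)

end Grading


/-- `M` as an `S`-module through `ε` (the extra arguments only record the data). -/
def MS {R R' : Type u} [CommRing R] [CommRing R'] [Algebra R R']
    {S : Type u} [CommRing S] [Algebra R S] (𝒜 : ℕ → Submodule R S) [GradedAlgebra 𝒜]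
    {f : S} (_hf : f ∈ 𝒜 1) (_e : HomogeneousLocalization.Away 𝒜 f ≃+* R')
    (M : Type u) : Type u := M

section LocSec

variable {R R' : Type u} [CommRing R] [CommRing R'] [Algebra R R']
  {S : Type u} [CommRing S] [Algebra R S] (𝒜 : ℕ → Submodule R S) [GradedAlgebra 𝒜]
  {f : S} (hf : f ∈ 𝒜 1) (e : HomogeneousLocalization.Away 𝒜 f ≃+* R')
  (he : ∀ r : R, (e.symm (algebraMap R R' r)).val =
    algebraMap S (Localization.Away f) (algebraMap R S r))
  {M : Type u} [AddCommGroup M] [Module R' M] [Module R M] [IsScalarTower R R' M]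
  {ι : Type} (g : ι → M)

local notation "𝐏" => PMod 𝒜 hf e he M
set_option quotPrecheck false in
local notation "𝐍" => ↥(NSub 𝒜 hf e he g)
set_option quotPrecheck false in
local notation "𝐋" => LocalizedModule (Submonoid.powers f) ↥(NSub 𝒜 hf e he g)

noncomputable instance instACGMS : AddCommGroup (MS 𝒜 hf e M) := inferInstanceAs (AddCommGroup M)

noncomputable instance instModMS : Module S (MS 𝒜 hf e M) := Module.compHom M (eps 𝒜 hf e)

/-- evaluation at `X = 1` as an `S`-linear map on `N` -/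
noncomputable def evLin : 𝐍 →ₗ[S] MS 𝒜 hf e M where
  toFun n := (ev (n : 𝐏) : M)
  map_add' a b := ev_add (a : 𝐏) (b : 𝐏)
  map_smul' s a := ev_smul s (a : 𝐏)

lemma isUnit_pow (x : Submonoid.powers f) :
    IsUnit (algebraMap S (Module.End S (MS 𝒜 hf e M)) (x : S)) := by
  obtain ⟨k, hk⟩ := (Submonoid.mem_powers_iff _ _).mp x.2
  have h1 : algebraMap S (Module.End S (MS 𝒜 hf e M)) (x : S) = 1 := by
    ext m
    rw [Module.algebraMap_end_apply]
    have key : ∀ m' : M,
        (@HSMul.hSMul S (MS 𝒜 hf e M) (MS 𝒜 hf e M) _ (x : S) m') = m' := by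
      intro m'
      change eps 𝒜 hf e (x : S) • m' = m'
      rw [← hk, eps_f_pow, one_smul]
    exact key m
  rw [h1]
  exact isUnit_one

/-- the map `N_f → M` -/
noncomputable def Phi : 𝐋 →ₗ[S] MS 𝒜 hf e M :=
  LocalizedModule.lift (Submonoid.powers f) (evLin 𝒜 hf e he g) (isUnit_pow 𝒜 hf e)

/-- `Phi` as a plain function to `M`. -/
noncomputable def PhiM (x : 𝐋) : M := Phi 𝒜 hf e he g x

local notation "Φ" => PhiM 𝒜 hf e he g

variable {𝒜 hf e he g}

lemma PhiM_add (x y : 𝐋) : Φ (x + y) = Φ x + Φ y :=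
  map_add (Phi 𝒜 hf e he g) x y

lemma PhiM_smul (s : S) (x : 𝐋) : Φ (s • x) = eps 𝒜 hf e s • Φ x :=
  map_smul (Phi 𝒜 hf e he g) s x

lemma PhiM_mk_one (n : 𝐍) : Φ (LocalizedModule.mk n 1) = ev (n : 𝐏) := by
  have h := LinearMap.congr_fun (LocalizedModule.lift_comp (Submonoid.powers f)
    (evLin 𝒜 hf e he g) (isUnit_pow 𝒜 hf e)) n
  rw [LinearMap.comp_apply, LocalizedModule.mkLinearMap_apply] at h
  exact h

lemma PhiM_of_smul_eq {x : 𝐋} {k : ℕ} {n : 𝐍} (h : f ^ k • x = LocalizedModule.mk n 1) :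
    Φ x = ev (n : 𝐏) := by
  have h1 := PhiM_smul (𝒜 := 𝒜) (hf := hf) (e := e) (he := he) (g := g) (f ^ k) x
  rw [h, PhiM_mk_one, eps_f_pow, one_smul] at h1
  exact h1.symm

variable (𝒜 hf e he g)

/-- the degree-zero part of `N_f` -/
def Nf : Submodule R 𝐋 where
  carrier := {x | ∃ k : ℕ, ∃ n ∈ gr 𝒜 hf e he g k, f ^ k • x = LocalizedModule.mk n 1}
  zero_mem' := ⟨0, 0, zero_mem _, by rw [smul_zero, LocalizedModule.zero_mk]⟩
  add_mem' := by
    rintro x y ⟨k, n, hn, h⟩ ⟨k', n', hn', h'⟩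
    have h1 : f ^ k' • n ∈ gr 𝒜 hf e he g (k + k') := by
      have := smul_mem_gr (f_pow_mem 𝒜 hf k') hn
      rwa [add_comm] at this
    have h2 : f ^ k • n' ∈ gr 𝒜 hf e he g (k + k') := smul_mem_gr (f_pow_mem 𝒜 hf k) hn'
    refine ⟨k + k', f ^ k' • n + f ^ k • n', add_mem h1 h2, ?_⟩
    have e1 : f ^ (k + k') • x = LocalizedModule.mk (f ^ k' • n) 1 := by
      rw [pow_add, mul_comm, mul_smul, h, LocalizedModule.smul'_mk]
    have e2 : f ^ (k + k') • y = LocalizedModule.mk (f ^ k • n') 1 := by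
      rw [pow_add, mul_smul, h', LocalizedModule.smul'_mk]
    rw [smul_add, e1, e2, LocalizedModule.mk_add_mk, one_smul, one_smul, mul_one]
  smul_mem' := by
    rintro r x ⟨k, n, hn, h⟩
    refine ⟨k, r • n, Submodule.smul_mem _ r hn, ?_⟩
    rw [← algebraMap_smul S r x, smul_comm, h, LocalizedModule.smul'_mk, algebraMap_smul]

/-- `Φ` as an `R`-linear map -/
noncomputable def PhiR : 𝐋 →ₗ[R] M where
  toFun := PhiM 𝒜 hf e he g
  map_add' := PhiM_add
  map_smul' r x := by
    rw [RingHom.id_apply, ← algebraMap_smul S r x, PhiM_smul, eps_algebraMap 𝒜 hf e he,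
      algebraMap_smul]

variable {𝒜 hf e he g}

lemma mem_Nf {x : 𝐋} : x ∈ Nf 𝒜 hf e he g ↔
    ∃ k : ℕ, ∃ n ∈ gr 𝒜 hf e he g k, f ^ k • x = LocalizedModule.mk n 1 := Iff.rfl

lemma eq_zero_of_pow_smul_eq_zero {x : 𝐋} {k : ℕ} (h : f ^ k • x = 0) : x = 0 := by
  have hu := IsLocalizedModule.map_units (LocalizedModule.mkLinearMap (Submonoid.powers f) 𝐍)
    (⟨f ^ k, pow_mem (Submonoid.mem_powers f) k⟩ : Submonoid.powers f)
  have hb := (Module.End.isUnit_iff _).mp hu
  apply hb.1
  rw [Module.algebraMap_end_apply, Module.algebraMap_end_apply, smul_zero]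
  exact h

lemma PhiM_injOn {x : 𝐋} (hx : x ∈ Nf 𝒜 hf e he g) (h0 : Φ x = 0) : x = 0 := by
  obtain ⟨k, n, ⟨m, hm⟩, h⟩ := hx
  have h1 : Φ x = m := by rw [PhiM_of_smul_eq h, hm, ev_sg]
  have hm0 : m = 0 := by rw [← h1, h0]
  have hn : n = 0 := by
    apply Subtype.ext
    rw [hm, hm0, sg_zero, Submodule.coe_zero]
  rw [hn, LocalizedModule.zero_mk] at h
  exact eq_zero_of_pow_smul_eq_zero h

lemma PhiM_surjOn (hg : Submodule.span R' (Set.range g) = ⊤) (m : M) :
    ∃ x ∈ Nf 𝒜 hf e he g, Φ x = m := by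
  obtain ⟨d, hd⟩ := exists_sg_mem (𝒜 := 𝒜) (hf := hf) (e := e) (he := he) hg m
  have hmem := hd d le_rfl
  obtain ⟨n, hn⟩ : ∃ n : 𝐍, (n : 𝐏) = sg d m := ⟨⟨sg d m, hmem⟩, rfl⟩
  have hx : f ^ d • (LocalizedModule.mk n ⟨f ^ d, pow_mem (Submonoid.mem_powers f) d⟩ : 𝐋) =
      LocalizedModule.mk n 1 := by
    rw [LocalizedModule.smul'_mk]
    exact LocalizedModule.mk_cancel
      (⟨f ^ d, pow_mem (Submonoid.mem_powers f) d⟩ : Submonoid.powers f) n
  refine ⟨LocalizedModule.mk n ⟨f ^ d, pow_mem (Submonoid.mem_powers f) d⟩,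
    ⟨d, n, ⟨m, hn⟩, hx⟩, ?_⟩
  rw [PhiM_of_smul_eq hx, hn, ev_sg]

lemma pow_smul_val_smul (d : ℕ) (s : S) (x : 𝐋) :
    f ^ d • ((Localization.mk s ⟨f ^ d, pow_mem (Submonoid.mem_powers f) d⟩ :
      Localization (Submonoid.powers f)) • x) = s • x := by
  refine LocalizedModule.induction_on (fun m t => ?_) x
  rw [LocalizedModule.mk_smul_mk, LocalizedModule.smul'_mk, LocalizedModule.smul'_mk]
  exact LocalizedModule.mk_cancel_common_left
    (⟨f ^ d, pow_mem (Submonoid.mem_powers f) d⟩ : Submonoid.powers f) t (s • m)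

lemma PhiM_val_smul (a : HomogeneousLocalization.Away 𝒜 f) (x : 𝐋) :
    Φ (a.val • x) = e a • Φ x := by
  obtain ⟨d, s, hs, rfl⟩ := HomogeneousLocalization.Away.mk_surjective 𝒜 hf a
  have hs' : s ∈ 𝒜 d := by simpa using hs
  have h1 := pow_smul_val_smul (𝒜 := 𝒜) (hf := hf) (e := e) (he := he) (g := g) d s x
  have h2 : Φ (f ^ d • ((Localization.mk s ⟨f ^ d, pow_mem (Submonoid.mem_powers f) d⟩ :
      Localization (Submonoid.powers f)) • x)) = Φ (s • x) := by rw [h1]
  rw [PhiM_smul, PhiM_smul, eps_f_pow, one_smul, eps_of_mem 𝒜 hf e hs'] at h2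
  have hval : (HomogeneousLocalization.Away.mk 𝒜 hf d s hs).val =
      Localization.mk s ⟨f ^ d, pow_mem (Submonoid.mem_powers f) d⟩ := rfl
  rw [hval]
  exact h2

variable (𝒜 hf e he g)

/-- the identification `N_(f) ≃ M` -/
noncomputable def eqv (hg : Submodule.span R' (Set.range g) = ⊤) :
    ↥(Nf 𝒜 hf e he g) ≃ₗ[R] M :=
  LinearEquiv.ofBijective ((PhiR 𝒜 hf e he g).domRestrict (Nf 𝒜 hf e he g))
    ⟨by
      rw [injective_iff_map_eq_zero]
      intro x hx
      have hx' : PhiM 𝒜 hf e he g (x : 𝐋) = 0 := hx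
      apply Subtype.ext
      exact PhiM_injOn x.2 hx',
     by
      intro m
      obtain ⟨x, hx, hxm⟩ := PhiM_surjOn (𝒜 := 𝒜) (hf := hf) (e := e) (he := he) hg m
      exact ⟨⟨x, hx⟩, hxm⟩⟩

lemma eqv_apply (hg : Submodule.span R' (Set.range g) = ⊤) (x : ↥(Nf 𝒜 hf e he g)) :
    eqv 𝒜 hf e he g hg x = PhiM 𝒜 hf e he g (x : 𝐋) := rfl

end LocSec

/-- The main construction. -/
theorem main (R R' : Type u) [CommRing R] [CommRing R']
    [Algebra R R']
    (M : Type u) [AddCommGroup M] [Module R' M] [Module R M] [IsScalarTower R R' M] [Module.Finite R' M]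
    (S : Type u) [CommRing S] [Algebra R S] (𝒜 : ℕ → Submodule R S) [GradedAlgebra 𝒜] (f : S) (hf : f ∈ 𝒜 1)
    (e : HomogeneousLocalization.Away 𝒜 f ≃+* R')
    (he : ∀ r : R, (e.symm (algebraMap R R' r)).val = algebraMap S (Localization.Away f) (algebraMap R S r)) :
    ∃ (N : Type u) (_ : AddCommGroup N) (_ : Module S N) (_ : Module R N) (_ : IsScalarTower R S N)
      (ℳ : ℕ → Submodule R N) (_ : DirectSum.Decomposition ℳ) (_ : SetLike.GradedSMul 𝒜 ℳ)
      (Nf : Submodule R (LocalizedModule (Submonoid.powers f) N)) (e' : ↥Nf ≃ₗ[R] M),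
      Module.Finite S N ∧
      (∀ x, x ∈ Nf ↔ ∃ k : ℕ, ∃ n ∈ ℳ k, f ^ k • x = LocalizedModule.mk n 1) ∧
      (∀ (a : HomogeneousLocalization.Away 𝒜 f) (x y : ↥Nf),
        a.val • (x : LocalizedModule (Submonoid.powers f) N) = y → e' y = e a • e' x) := by
  obtain ⟨n, g, hg⟩ := Module.Finite.exists_fin (R := R') (M := M)
  refine ⟨↥(NSub 𝒜 hf e he g), inferInstance, inferInstance, inferInstance, inferInstance,
    gr 𝒜 hf e he g, DirectSum.IsInternal.chooseDecomposition _ isInternal_gr, instGradedSMul,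
    Nf 𝒜 hf e he g, eqv 𝒜 hf e he g hg, finite_N, fun x => Iff.rfl, ?_⟩
  intro a x y h
  rw [eqv_apply, eqv_apply, ← h]
  exact PhiM_val_smul a _

end Groth.Agent.Helper22.GrLoc
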