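import Mathlib
import Groth.Agent.Lib.Helper22.WeierReg2

/-!
# ℤ-graded rings with a homogeneous unit of positive degree (helper22)

General lemmas: twisting a ring hom by a character of the grading group, homogeneity of inverses
of homogeneous units, saturation of homogeneous ideals with respect to `t - 1`, and a criterion for
an element not to lie in the square of the maximal ideal of a localization.
-/

set_option autoImplicit false
universe u

namespace Groth.Agent.Helper22.GrUnit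

open DirectSum

section Twist

variable {R : Type u} [CommRing R] (𝒜 : ℤ → AddSubgroup R) [GradedRing 𝒜]
  {B : Type*} [CommRing B] (g : R →+* B) (w : ℤ → B)

/-- the components `a ↦ g a * w i` -/
def twistComp (i : ℤ) : 𝒜 i →+ B :=
  (AddMonoidHom.mulRight (w i)).comp (g.toAddMonoidHom.comp (𝒜 i).subtype)

theorem twistComp_apply (i : ℤ) (a : 𝒜 i) : twistComp 𝒜 g w i a = g (a : R) * w i := rfl

/-- The ring hom `R → B`, `a ↦ g a * w i` for `a` homogeneous of degree `i`. -/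
noncomputable def twist (hw0 : w 0 = 1) (hwadd : ∀ i j, w (i + j) = w i * w j) : R →+* B :=
  (DirectSum.toSemiring (twistComp 𝒜 g w)
    (by
      show g (1 : R) * w 0 = 1
      rw [map_one, hw0, mul_one])
    (fun {i j} ai aj => by
      show g ((ai : R) * (aj : R)) * w (i + j)
        = (g (ai : R) * w i) * (g (aj : R) * w j)
      rw [map_mul, hwadd]
      ring)).comp (DirectSum.decomposeRingEquiv 𝒜).toRingHom

theorem twist_apply_of_mem (hw0 : w 0 = 1) (hwadd : ∀ i j, w (i + j) = w i * w j) {i : ℤ} {a : R}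
    (ha : a ∈ 𝒜 i) : twist 𝒜 g w hw0 hwadd a = g a * w i := by
  unfold twist
  rw [RingHom.comp_apply]
  have h2 : (DirectSum.decomposeRingEquiv 𝒜).toRingHom a = DirectSum.decompose 𝒜 a := rfl
  rw [h2, DirectSum.decompose_of_mem 𝒜 ha, DirectSum.toSemiring_of]
  rfl

theorem ringHom_ext_homogeneous {B' : Type*} [Semiring B'] (φ ψ : R →+* B')
    (h : ∀ i, ∀ a ∈ 𝒜 i, φ a = ψ a) : φ = ψ := by
  refine RingHom.ext fun x => ?_
  refine DirectSum.Decomposition.inductionOn 𝒜 ?_ ?_ ?_ x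
  · rw [map_zero, map_zero]
  · intro i a
    exact h i a a.2
  · intro a b ha hb
    rw [map_add, map_add, ha, hb]

end Twist

section Units

variable {R : Type u} [CommRing R] (𝒜 : ℤ → AddSubgroup R) [GradedRing 𝒜]

theorem inv_mem {n : ℤ} (tu : Rˣ) (ht : (tu : R) ∈ 𝒜 n) : ((tu⁻¹ : Rˣ) : R) ∈ 𝒜 (-n) := by
  classical
  obtain ⟨s, hs⟩ : ∃ s : R, s = ((tu⁻¹ : Rˣ) : R) := ⟨_, rfl⟩
  rw [← hs]
  have hts : (tu : R) * s = 1 := by rw [hs, ← Units.val_mul, mul_inv_cancel, Units.val_one]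
  have hcomp : ∀ j : ℤ, j ≠ -n → (decompose 𝒜 s j : R) = 0 := by
    intro j hj
    have h1 : ((decompose 𝒜 ((tu : R) * s)) (n + j) : R) = (tu : R) * (decompose 𝒜 s j : R) :=
      DirectSum.coe_decompose_mul_add_of_left_mem 𝒜 ht
    rw [hts] at h1
    have h2 : ((decompose 𝒜 (1 : R)) (n + j) : R) = 0 := by
      refine DirectSum.decompose_of_mem_ne 𝒜 (SetLike.one_mem_graded 𝒜) ?_
      intro h0
      apply hj
      omega
    rw [h2] at h1
    exact (Units.mul_right_eq_zero tu).mp h1.symm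
  have hsum := DirectSum.sum_support_decompose 𝒜 s
  rw [← hsum]
  refine AddSubgroup.sum_mem _ fun j _ => ?_
  by_cases hj : j = -n
  · subst hj
    exact (decompose 𝒜 s (-n)).2
  · rw [hcomp j hj]
    exact zero_mem _

theorem zpow_mem {n : ℤ} (tu : Rˣ) (ht : (tu : R) ∈ 𝒜 n) (k : ℤ) :
    ((tu ^ k : Rˣ) : R) ∈ 𝒜 (k * n) := by
  have hnat : ∀ m : ℕ, ((tu ^ m : Rˣ) : R) ∈ 𝒜 ((m : ℤ) * n) := by
    intro m
    have h := SetLike.pow_mem_graded m ht
    rw [nsmul_eq_mul] at h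
    rw [Units.val_pow_eq_pow_val]
    exact h
  obtain ⟨m, rfl | rfl⟩ := Int.eq_nat_or_neg k
  · rw [zpow_natCast]
    exact hnat m
  · rw [zpow_neg, zpow_natCast, neg_mul]
    exact inv_mem 𝒜 (tu ^ m) (hnat m)

theorem mul_zpow_mem {n i : ℤ} (tu : Rˣ) (ht : (tu : R) ∈ 𝒜 n) {x : R} (hx : x ∈ 𝒜 i) (k : ℤ) :
    x * ((tu ^ k : Rˣ) : R) ∈ 𝒜 (i + k * n) :=
  SetLike.mul_mem_graded hx (zpow_mem 𝒜 tu ht k)

/-- saturation of a homogeneous ideal with respect to `t - 1`, `t` homogeneous of positive degree -/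
theorem mem_of_sub_one_mul_mem (I : Ideal R) (hI : I.IsHomogeneous 𝒜) {N : ℤ} (hN : 0 < N) {t : R}
    (ht : t ∈ 𝒜 N) {y : R} (h : (t - 1) * y ∈ I) : y ∈ I := by
  classical
  obtain ⟨M', hM'⟩ := Finset.exists_le ((decompose 𝒜 y).support.image (fun i : ℤ => -i))
  have hlow : ∀ j : ℤ, j < -M' → (decompose 𝒜 y j : R) = 0 := by
    intro j hj
    have hns : j ∉ (decompose 𝒜 y).support := by
      intro hmem
      have := hM' (-j) (Finset.mem_image_of_mem _ hmem)
      omega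
    rw [DFinsupp.notMem_support_iff] at hns
    rw [hns]
    rfl
  have hstep : ∀ j : ℤ, t * (decompose 𝒜 y (j - N) : R) - (decompose 𝒜 y j : R) ∈ I := by
    intro j
    have h1 : (decompose 𝒜 ((t - 1) * y) j : R) ∈ I := (hI.mem_iff).mp h j
    have h2 : (t - 1) * y = t * y - y := by ring
    have h3 : ((decompose 𝒜 (t * y)) (N + (j - N)) : R) = t * (decompose 𝒜 y (j - N) : R) :=
      DirectSum.coe_decompose_mul_add_of_left_mem 𝒜 ht
    have h4 : N + (j - N) = j := by ring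
    rw [h4] at h3
    rw [h2, DirectSum.decompose_sub, DirectSum.sub_apply, AddSubgroup.coe_sub, h3] at h1
    exact h1
  have hall : ∀ n : ℕ, ∀ j : ℤ, j < -M' + n → (decompose 𝒜 y j : R) ∈ I := by
    intro n
    induction n with
    | zero =>
      intro j hj
      rw [hlow j (by simpa using hj)]
      exact I.zero_mem
    | succ n ih =>
      intro j hj
      have h1 := hstep j
      have h2 : (decompose 𝒜 y (j - N) : R) ∈ I := ih (j - N) (by push_cast at hj; omega)
      have h3 : (decompose 𝒜 y j : R) = t * (decompose 𝒜 y (j - N) : R)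
          - (t * (decompose 𝒜 y (j - N) : R) - (decompose 𝒜 y j : R)) := by ring
      rw [h3]
      exact I.sub_mem (I.mul_mem_left _ h2) h1
  rw [← DirectSum.sum_support_decompose 𝒜 y]
  refine I.sum_mem fun j _ => ?_
  obtain ⟨n, hn⟩ : ∃ n : ℕ, j < -M' + n := by
    refine ⟨(j + M').toNat + 1, ?_⟩
    have := Int.self_le_toNat (j + M')
    push_cast
    omega
  exact hall n j hn

end Units

section NotMemSq

open IsLocalRing

/-- If `P ≤ n ≤ P + (e)` and `P` is saturated with respect to `e`, then `e` is not in the square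
of the maximal ideal of `A_n`. -/
theorem not_mem_sq {A : Type u} [CommRing A] (n P : Ideal A) [n.IsPrime] (e : A)
    (hPn : P ≤ n) (hn : n ≤ P ⊔ Ideal.span {e}) (hsat : ∀ y, e * y ∈ P → y ∈ P) :
    algebraMap A (Localization.AtPrime n) e ∉ maximalIdeal (Localization.AtPrime n) ^ 2 := by
  intro h
  obtain ⟨s, hs, hse⟩ := Groth.Agent.Helper22.WeierReg2.exists_mul_mem_sq n e h
  have hsq : n ^ 2 ≤ P ⊔ Ideal.span {e} * n := by
    rw [pow_two, Ideal.mul_le]
    intro a ha b hb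
    obtain ⟨p, hp, q, hq, rfl⟩ := Submodule.mem_sup.mp (hn ha)
    obtain ⟨a', rfl⟩ := Ideal.mem_span_singleton'.mp hq
    rw [add_mul]
    refine Ideal.add_mem _ (Ideal.mem_sup_left (P.mul_mem_right _ hp)) (Ideal.mem_sup_right ?_)
    have h1 : a' * e * b = e * (a' * b) := by ring
    rw [h1]
    exact Ideal.mul_mem_mul (Ideal.mem_span_singleton_self e) (n.mul_mem_left _ hb)
  obtain ⟨p, hp, q, hq, hpq⟩ := Submodule.mem_sup.mp (hsq hse)
  obtain ⟨z, hz, rfl⟩ := Ideal.mem_span_singleton_mul.mp hq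
  apply hs
  have h1 : e * (s - z) ∈ P := by
    have h2 : e * (s - z) = p := by linear_combination (-1 : A) * hpq
    rw [h2]
    exact hp
  have h3 : s - z ∈ n := hPn (hsat _ h1)
  have h4 := n.add_mem h3 hz
  rw [sub_add_cancel] at h4
  exact h4

end NotMemSq

section Beta

variable {R : Type u} [CommRing R] (𝒜 : ℤ → AddSubgroup R) [GradedRing 𝒜]
  [IsLocalRing (SetLike.GradeZero.subring 𝒜)]

/-- shifting by powers of the unit `t` reduces the condition to degrees in `(0, N)` -/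
theorem beta_of_gamma (N : ℕ) (hN : 0 < N) (tu : Rˣ) (ht : (tu : R) ∈ 𝒜 (N : ℤ))
    (hγ : ∀ r : ℤ, 0 < r → r < N → ∀ x ∈ 𝒜 r, ∃ c : SetLike.GradeZero.subring 𝒜,
      c ∈ IsLocalRing.maximalIdeal (SetLike.GradeZero.subring 𝒜) ∧
        x ^ N = (c : R) * ((tu ^ r : Rˣ) : R))
    (i : ℤ) (hi : ¬ ((N : ℤ) ∣ i)) (x : R) (hx : x ∈ 𝒜 i) :
    ∃ c : SetLike.GradeZero.subring 𝒜,
      c ∈ IsLocalRing.maximalIdeal (SetLike.GradeZero.subring 𝒜) ∧
        x ^ N = (c : R) * ((tu ^ i : Rˣ) : R) := by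
  have hNpos : (0 : ℤ) < N := by exact_mod_cast hN
  obtain ⟨q, hq⟩ : ∃ q : ℤ, q = i / N := ⟨_, rfl⟩
  obtain ⟨r, hr⟩ : ∃ r : ℤ, r = i % N := ⟨_, rfl⟩
  have hdiv : r + N * q = i := by
    rw [hq, hr]
    exact Int.emod_add_mul_ediv i N
  have hr0 : 0 < r := by
    have h1 : 0 ≤ r := by
      rw [hr]
      exact Int.emod_nonneg i hNpos.ne'
    have h2 : r ≠ 0 := by
      intro h0
      apply hi
      rw [hr] at h0
      exact Int.dvd_of_emod_eq_zero h0
    omega
  have hrN : r < N := by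
    rw [hr]
    exact Int.emod_lt_of_pos i hNpos
  have hx' : x * ((tu ^ (-q) : Rˣ) : R) ∈ 𝒜 r := by
    have h := mul_zpow_mem 𝒜 tu ht hx (-q)
    have e : i + -q * (N : ℤ) = r := by rw [← hdiv]; ring
    rw [e] at h
    exact h
  obtain ⟨c, hc, hxc⟩ := hγ r hr0 hrN _ hx'
  refine ⟨c, hc, ?_⟩
  have hzp : (((tu ^ (-q) : Rˣ) : R)) ^ N = ((tu ^ (-q * (N : ℤ)) : Rˣ) : R) := by
    rw [← Units.val_pow_eq_pow_val, ← zpow_natCast, ← zpow_mul]
  rw [mul_pow, hzp] at hxc
  calc x ^ N = x ^ N * ((tu ^ (-q * (N : ℤ)) : Rˣ) : R) * ((tu ^ (q * (N : ℤ)) : Rˣ) : R) := by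
        rw [mul_assoc, ← Units.val_mul, ← zpow_add,
          show -q * (N : ℤ) + q * (N : ℤ) = 0 by ring, zpow_zero, Units.val_one, mul_one]
    _ = (c : R) * ((tu ^ r : Rˣ) : R) * ((tu ^ (q * (N : ℤ)) : Rˣ) : R) := by rw [hxc]
    _ = (c : R) * ((tu ^ i : Rˣ) : R) := by
        rw [mul_assoc, ← Units.val_mul, ← zpow_add,
          show r + q * (N : ℤ) = i by rw [← hdiv]; ring]

end Beta

end Groth.Agent.Helper22.GrUnit
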