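import Mathlib
import Groth.Agent.Lib.Helper22.GrUnit1

/-!
# The quotient `R/(t - 1)` of a regular ℤ-graded ring by a homogeneous unit minus one (helper22)
-/

set_option autoImplicit false
universe u

namespace Groth.Agent.Helper22.GrUnit

open DirectSum IsLocalRing

section Core

variable {R : Type u} [CommRing R] (𝒜 : ℤ → AddSubgroup R) [GradedRing 𝒜]
  [IsLocalRing (SetLike.GradeZero.subring 𝒜)]

/-- generators of the ideal `𝔓`: homogeneous elements of degree not divisible by `N`, and the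
maximal ideal of `R₀`. -/
def genSet (N : ℕ) : Set R :=
  {x | (∃ i : ℤ, ¬ ((N : ℤ) ∣ i) ∧ x ∈ 𝒜 i) ∨
    (∃ c : SetLike.GradeZero.subring 𝒜,
      c ∈ maximalIdeal (SetLike.GradeZero.subring 𝒜) ∧ (c : R) = x)}

theorem isHomogeneous_span_genSet (N : ℕ) : (Ideal.span (genSet 𝒜 N)).IsHomogeneous 𝒜 := by
  refine Ideal.homogeneous_span 𝒜 (genSet 𝒜 N) ?_
  rintro x (⟨i, _, hx⟩ | ⟨c, _, rfl⟩)
  · exact ⟨i, hx⟩
  · exact ⟨0, c.2⟩

theorem pi_zpow {C' : Type u} [CommRing C'] {tu : Rˣ} (π : R →+* C')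
    (hker : RingHom.ker π = Ideal.span {(tu : R) - 1}) (k : ℤ) :
    π ((tu ^ k : Rˣ) : R) = 1 := by
  have hπt : π (tu : R) = 1 := by
    have h : (tu : R) - 1 ∈ RingHom.ker π := by
      rw [hker]
      exact Ideal.subset_span (Set.mem_singleton _)
    rw [RingHom.mem_ker, map_sub, map_one, sub_eq_zero] at h
    exact h
  have h0 : Units.map (π : R →* C') tu = 1 := Units.ext hπt
  have h1 : Units.map (π : R →* C') (tu ^ k) = 1 := by rw [map_zpow, h0, one_zpow]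
  exact congrArg Units.val h1

theorem exists_sub_mem (N : ℕ) (tu : Rˣ) (ht : (tu : R) ∈ 𝒜 (N : ℤ))
    {C' : Type u} [CommRing C'] (π : R →+* C')
    (hker : RingHom.ker π = Ideal.span {(tu : R) - 1}) (y : R) :
    ∃ c : SetLike.GradeZero.subring 𝒜,
      y - (c : R) ∈ Ideal.span (genSet 𝒜 N) ⊔ Ideal.span {(tu : R) - 1} := by
  refine DirectSum.Decomposition.inductionOn 𝒜 ?_ ?_ ?_ y
  · exact ⟨0, by rw [ZeroMemClass.coe_zero, sub_zero]; exact Ideal.zero_mem _⟩
  · intro i a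
    by_cases hi : (N : ℤ) ∣ i
    · obtain ⟨k, hk⟩ := hi
      have hmem : (a : R) * ((tu ^ (-k) : Rˣ) : R) ∈ 𝒜 0 := by
        have h := mul_zpow_mem 𝒜 tu ht a.2 (-k)
        have e : i + -k * (N : ℤ) = 0 := by rw [hk]; ring
        rw [e] at h
        exact h
      refine ⟨⟨_, hmem⟩, Ideal.mem_sup_right ?_⟩
      rw [← hker, RingHom.mem_ker]
      show π ((a : R) - (a : R) * ((tu ^ (-k) : Rˣ) : R)) = 0
      rw [map_sub, map_mul, pi_zpow π hker, mul_one, sub_self]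
    · refine ⟨0, ?_⟩
      rw [ZeroMemClass.coe_zero, sub_zero]
      exact Ideal.mem_sup_left (Ideal.subset_span (Or.inl ⟨i, hi, a.2⟩))
  · rintro a b ⟨ca, ha⟩ ⟨cb, hb⟩
    refine ⟨ca + cb, ?_⟩
    have h : a + b - ((ca + cb : SetLike.GradeZero.subring 𝒜) : R)
        = (a - (ca : R)) + (b - (cb : R)) := by
      rw [Subring.coe_add]
      ring
    rw [h]
    exact Ideal.add_mem _ ha hb

theorem isIntegral_comp (N : ℕ) (hN : 0 < N) (tu : Rˣ) (ht : (tu : R) ∈ 𝒜 (N : ℤ))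
    {C' : Type u} [CommRing C'] (π : R →+* C') (hπ : Function.Surjective π)
    (hker : RingHom.ker π = Ideal.span {(tu : R) - 1}) :
    (π.comp (SetLike.GradeZero.subring 𝒜).subtype).IsIntegral := by
  letI : Algebra (SetLike.GradeZero.subring 𝒜) C' :=
    (π.comp (SetLike.GradeZero.subring 𝒜).subtype).toAlgebra
  intro z
  show IsIntegral (SetLike.GradeZero.subring 𝒜) z
  obtain ⟨y, rfl⟩ := hπ z
  refine DirectSum.Decomposition.inductionOn 𝒜 ?_ ?_ ?_ y
  · rw [map_zero]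
    exact isIntegral_zero
  · intro i a
    refine IsIntegral.of_pow hN ?_
    have hmem : (a : R) ^ N * ((tu ^ (-i) : Rˣ) : R) ∈ 𝒜 0 := by
      have h := mul_zpow_mem 𝒜 tu ht (SetLike.pow_mem_graded N a.2) (-i)
      rw [nsmul_eq_mul] at h
      have e : (N : ℤ) * i + -i * (N : ℤ) = 0 := by ring
      rw [e] at h
      exact h
    have h1 : π (a : R) ^ N = algebraMap (SetLike.GradeZero.subring 𝒜) C' ⟨_, hmem⟩ := by
      show π (a : R) ^ N = π ((a : R) ^ N * ((tu ^ (-i) : Rˣ) : R))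
      rw [map_mul, pi_zpow π hker, mul_one, map_pow]
    rw [h1]
    exact isIntegral_algebraMap
  · intro a b ha hb
    rw [map_add]
    exact ha.add hb

theorem map_le_of_isMaximal (N : ℕ) (hN : 0 < N) (tu : Rˣ) (ht : (tu : R) ∈ 𝒜 (N : ℤ))
    {C' : Type u} [CommRing C'] (π : R →+* C') (hπ : Function.Surjective π)
    (hker : RingHom.ker π = Ideal.span {(tu : R) - 1})
    (hβ : ∀ i : ℤ, ¬ ((N : ℤ) ∣ i) → ∀ x ∈ 𝒜 i, ∃ c : SetLike.GradeZero.subring 𝒜,
      c ∈ maximalIdeal (SetLike.GradeZero.subring 𝒜) ∧ x ^ N = (c : R) * ((tu ^ i : Rˣ) : R))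
    (M' : Ideal C') (hM' : M'.IsMaximal) :
    (Ideal.span (genSet 𝒜 N)).map π ≤ M' := by
  haveI := hM'
  have hcm : M'.comap (π.comp (SetLike.GradeZero.subring 𝒜).subtype)
      = maximalIdeal (SetLike.GradeZero.subring 𝒜) :=
    IsLocalRing.eq_maximalIdeal (Ideal.isMaximal_comap_of_isIntegral_of_isMaximal' _
      (isIntegral_comp 𝒜 N hN tu ht π hπ hker) M')
  have hmM : ∀ c : SetLike.GradeZero.subring 𝒜,
      c ∈ maximalIdeal (SetLike.GradeZero.subring 𝒜) → π (c : R) ∈ M' := by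
    intro c hc
    rw [← hcm] at hc
    exact hc
  rw [Ideal.map_le_iff_le_comap, Ideal.span_le]
  rintro x (⟨i, hi, hx⟩ | ⟨c, hc, rfl⟩)
  · show π x ∈ M'
    obtain ⟨c, hc, hxc⟩ := hβ i hi x hx
    have h1 : π x ^ N = π (c : R) := by
      rw [← map_pow, hxc, map_mul, pi_zpow π hker, mul_one]
    have h2 := hmM c hc
    rw [← h1] at h2
    exact hM'.isPrime.mem_of_pow_mem N h2
  · exact hmM c hc

theorem nontrivial_of_ker (N : ℕ) (hN : 0 < N) (tu : Rˣ) (ht : (tu : R) ∈ 𝒜 (N : ℤ))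
    {C' : Type u} [CommRing C'] (π : R →+* C')
    (hker : RingHom.ker π = Ideal.span {(tu : R) - 1}) : Nontrivial C' := by
  haveI : Nontrivial R := by
    obtain ⟨x, y, hxy⟩ := exists_pair_ne (SetLike.GradeZero.subring 𝒜)
    exact ⟨⟨(x : R), (y : R), fun h => hxy (Subtype.ext h)⟩⟩
  obtain ⟨𝔐, h𝔐⟩ := Ideal.exists_maximal R
  haveI := h𝔐
  letI : Field (R ⧸ 𝔐) := Ideal.Quotient.field 𝔐
  let g : R →+* AlgebraicClosure (R ⧸ 𝔐) :=
    (algebraMap (R ⧸ 𝔐) (AlgebraicClosure (R ⧸ 𝔐))).comp (Ideal.Quotient.mk 𝔐)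
  have hgt : g (tu : R) ≠ 0 := (tu.isUnit.map g).ne_zero
  obtain ⟨θ, hθ⟩ := IsAlgClosed.exists_pow_nat_eq (g (tu : R))⁻¹ hN
  have hθ0 : θ ≠ 0 := by
    rintro rfl
    rw [zero_pow hN.ne'] at hθ
    exact inv_ne_zero hgt hθ.symm
  have hw0 : (fun i : ℤ => θ ^ i) 0 = 1 := zpow_zero θ
  have hwadd : ∀ i j : ℤ,
      (fun i : ℤ => θ ^ i) (i + j) = (fun i : ℤ => θ ^ i) i * (fun i : ℤ => θ ^ i) j :=
    fun i j => zpow_add₀ hθ0 i j
  have hχ : twist 𝒜 g (fun i : ℤ => θ ^ i) hw0 hwadd (tu : R) = 1 := by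
    rw [twist_apply_of_mem 𝒜 g _ hw0 hwadd ht]
    show g (tu : R) * θ ^ ((N : ℕ) : ℤ) = 1
    rw [zpow_natCast, hθ, mul_inv_cancel₀ hgt]
  by_contra hnot
  rw [not_nontrivial_iff_subsingleton] at hnot
  haveI : Subsingleton C' := hnot
  have h1 : (1 : R) ∈ RingHom.ker π := by
    rw [RingHom.mem_ker]
    exact Subsingleton.elim _ _
  rw [hker, Ideal.mem_span_singleton'] at h1
  obtain ⟨b, hb⟩ := h1
  have h2 := congrArg (twist 𝒜 g (fun i : ℤ => θ ^ i) hw0 hwadd) hb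
  rw [map_mul, map_sub, hχ, map_one, sub_self, mul_zero] at h2
  exact zero_ne_one h2

/-- The core statement: `R` regular, ℤ-graded with `R₀` local, `t` a homogeneous unit of positive
degree `N` such that `x ^ N ∈ m t^r` for every `x ∈ R_r`, `0 < r < N`; then `R/(t-1)` is a regular
local ring. -/
theorem core (N : ℕ) (hN : 0 < N) (tu : Rˣ) (ht : (tu : R) ∈ 𝒜 (N : ℤ))
    {C' : Type u} [CommRing C'] (π : R →+* C') (hπ : Function.Surjective π)
    (hker : RingHom.ker π = Ideal.span {(tu : R) - 1})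
    (hreg : ∀ (p : Ideal R) [p.IsPrime], IsRegularLocalRing (Localization.AtPrime p))
    (hγ : ∀ r : ℤ, 0 < r → r < N → ∀ x ∈ 𝒜 r, ∃ c : SetLike.GradeZero.subring 𝒜,
      c ∈ maximalIdeal (SetLike.GradeZero.subring 𝒜) ∧
        x ^ N = (c : R) * ((tu ^ r : Rˣ) : R)) :
    IsRegularLocalRing C' := by
  classical
  have hNpos : (0 : ℤ) < N := by exact_mod_cast hN
  have hβ := beta_of_gamma 𝒜 N hN tu ht hγ
  haveI hnt : Nontrivial C' := nontrivial_of_ker 𝒜 N hN tu ht π hker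
  have hmapE : (Ideal.span {(tu : R) - 1}).map π = ⊥ :=
    (Ideal.map_eq_bot_iff_le_ker π).mpr hker.ge
  have hS6 : ∀ M' : Ideal C', M'.IsMaximal → (Ideal.span (genSet 𝒜 N)).map π = M' := by
    intro M' hM'
    have hle := map_le_of_isMaximal 𝒜 N hN tu ht π hπ hker hβ M' hM'
    refine le_antisymm hle ?_
    intro z hz
    obtain ⟨y, rfl⟩ := hπ z
    obtain ⟨c, hc⟩ := exists_sub_mem 𝒜 N tu ht π hker y
    have h1 : π y - π (c : R) ∈ (Ideal.span (genSet 𝒜 N)).map π := by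
      have h := Ideal.mem_map_of_mem π hc
      rw [Ideal.map_sup, hmapE, sup_bot_eq, map_sub] at h
      exact h
    have h2 : π (c : R) ∈ M' := by
      have h := M'.sub_mem hz (hle h1)
      rw [sub_sub_cancel] at h
      exact h
    have h3 : c ∈ maximalIdeal (SetLike.GradeZero.subring 𝒜) := by
      by_contra hcn
      have hcu : IsUnit c := IsLocalRing.notMem_maximalIdeal.mp hcn
      have hcu' : IsUnit (π (c : R)) :=
        (hcu.map (SetLike.GradeZero.subring 𝒜).subtype).map π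
      exact hM'.ne_top (Ideal.eq_top_of_isUnit_mem _ h2 hcu')
    have h4 : π (c : R) ∈ (Ideal.span (genSet 𝒜 N)).map π :=
      Ideal.mem_map_of_mem π (Ideal.subset_span (Or.inr ⟨c, h3, rfl⟩))
    have h5 : π y = (π y - π (c : R)) + π (c : R) := by ring
    rw [h5]
    exact Ideal.add_mem _ h1 h4
  obtain ⟨M₀, hM₀⟩ := Ideal.exists_maximal C'
  have hpmax : ((Ideal.span (genSet 𝒜 N)).map π).IsMaximal := by
    rw [hS6 M₀ hM₀]
    exact hM₀
  haveI hloc : IsLocalRing C' := IsLocalRing.of_unique_max_ideal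
    ⟨(Ideal.span (genSet 𝒜 N)).map π, hpmax, fun M' hM' => (hS6 M' hM').symm⟩
  have hmaxeq : maximalIdeal C' = (Ideal.span (genSet 𝒜 N)).map π :=
    (hS6 _ (IsLocalRing.maximalIdeal.isMaximal C')).symm
  have hcomap : (maximalIdeal C').comap π
      = Ideal.span (genSet 𝒜 N) ⊔ Ideal.span {(tu : R) - 1} := by
    rw [hmaxeq, Ideal.comap_map_of_surjective π hπ, ← RingHom.ker_eq_comap_bot, hker]
  haveI := hreg ((maximalIdeal C').comap π)
  have hF : (tu : R) - 1 ∈ (maximalIdeal C').comap π := by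
    rw [hcomap]
    exact Ideal.mem_sup_right (Ideal.subset_span (Set.mem_singleton _))
  have hsat : ∀ y, ((tu : R) - 1) * y ∈ Ideal.span (genSet 𝒜 N) →
      y ∈ Ideal.span (genSet 𝒜 N) :=
    fun y hy => mem_of_sub_one_mul_mem 𝒜 _ (isHomogeneous_span_genSet 𝒜 N) hNpos ht hy
  have hF2 := not_mem_sq ((maximalIdeal C').comap π) (Ideal.span (genSet 𝒜 N)) ((tu : R) - 1)
    (by rw [hcomap]; exact le_sup_left) (by rw [hcomap]) hsat
  have hregloc : IsRegularLocalRing (Localization.AtPrime (maximalIdeal C')) :=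
    Groth.Agent.Helper22.WeierReg2.regular_of_surjective π hπ ((tu : R) - 1) hker
      (maximalIdeal C') ((maximalIdeal C').comap π) rfl hF hF2
  let e : C' ≃ₐ[C'] Localization.AtPrime (maximalIdeal C') :=
    IsLocalization.atUnits C' (maximalIdeal C').primeCompl
      (fun x hx => IsLocalRing.notMem_maximalIdeal.mp hx)
  exact IsRegularLocalRing.of_ringEquiv e.symm.toRingEquiv

end Core

end Groth.Agent.Helper22.GrUnit
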