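import Mathlib
import Groth.Agent.Lib.Helper22.GrUnit1
import Groth.Agent.Lib.Lead.Hom10
import Groth.Agent.Lib.Helper14.RegularLocalization

/-!
# `R[U]/(U^N - t) ≅ (R/(t-1))[T, T⁻¹]` for a ℤ-graded ring with a homogeneous unit `t` of
degree `N` (helper22)
-/

set_option autoImplicit false
universe u

namespace Groth.Agent.Helper22.GrUnit

open DirectSum

theorem laurent_ringHom_ext {A B : Type*} [CommSemiring A] [Semiring B]
    {f g : LaurentPolynomial A →+* B}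
    (hC : ∀ a, f (LaurentPolynomial.C a) = g (LaurentPolynomial.C a))
    (hT : ∀ n : ℤ, f (LaurentPolynomial.T n) = g (LaurentPolynomial.T n)) : f = g := by
  refine RingHom.ext fun p => ?_
  refine LaurentPolynomial.induction_on' p ?_ ?_
  · intro p q hp hq
    rw [map_add, map_add, hp, hq]
  · intro n a
    rw [map_mul, map_mul, hC, hT]

section Iso

variable {R : Type u} [CommRing R] (𝒜 : ℤ → AddSubgroup R) [GradedRing 𝒜]

/-- Abstract form of the isomorphism `R[U]/(U^N - t) ≅ (R/(t-1))[T;T⁻¹]`. -/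
theorem exists_equiv_laurent (N : ℕ) (tu : Rˣ) (ht : (tu : R) ∈ 𝒜 (N : ℤ))
    {S : Type u} [CommRing S] (of : R →+* S) (Uu : Sˣ)
    (hU : of (tu : R) = ((Uu ^ (N : ℤ) : Sˣ) : S))
    (Ψ : S →+* LaurentPolynomial (R ⧸ Ideal.span {(tu : R) - 1}))
    (hΨof : ∀ i, ∀ a ∈ 𝒜 i, Ψ (of a)
      = LaurentPolynomial.C (Ideal.Quotient.mk (Ideal.span {(tu : R) - 1}) a)
        * LaurentPolynomial.T i)
    (hΨU : Ψ (Uu : S) = LaurentPolynomial.T 1)
    (hext : ∀ f g : S →+* S, f.comp of = g.comp of → f (Uu : S) = g (Uu : S) → f = g) :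
    Nonempty (S ≃+* LaurentPolynomial (R ⧸ Ideal.span {(tu : R) - 1})) := by
  classical
  have hw0 : (fun i : ℤ => ((Uu ^ (-i) : Sˣ) : S)) 0 = 1 := by
    show ((Uu ^ (-(0 : ℤ)) : Sˣ) : S) = 1
    rw [neg_zero, zpow_zero, Units.val_one]
  have hwadd : ∀ i j : ℤ, (fun i : ℤ => ((Uu ^ (-i) : Sˣ) : S)) (i + j)
      = (fun i : ℤ => ((Uu ^ (-i) : Sˣ) : S)) i * (fun i : ℤ => ((Uu ^ (-i) : Sˣ) : S)) j := by
    intro i j
    show ((Uu ^ (-(i + j)) : Sˣ) : S) = ((Uu ^ (-i) : Sˣ) : S) * ((Uu ^ (-j) : Sˣ) : S)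
    rw [← Units.val_mul, ← zpow_add, neg_add]
  obtain ⟨ι, hιdef⟩ : ∃ ι : R →+* S,
      ι = twist 𝒜 of (fun i : ℤ => ((Uu ^ (-i) : Sˣ) : S)) hw0 hwadd := ⟨_, rfl⟩
  have hι : ∀ i, ∀ a ∈ 𝒜 i, ι a = of a * ((Uu ^ (-i) : Sˣ) : S) := by
    intro i a ha
    rw [hιdef]
    exact twist_apply_of_mem 𝒜 of _ hw0 hwadd ha
  have hιt : ι ((tu : R) - 1) = 0 := by
    rw [map_sub, map_one, hι _ _ ht, hU, ← Units.val_mul, ← zpow_add, add_neg_cancel, zpow_zero,
      Units.val_one, sub_self]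
  have hιker : ∀ a ∈ Ideal.span {(tu : R) - 1}, ι a = 0 := by
    intro a ha
    obtain ⟨b, rfl⟩ := Ideal.mem_span_singleton'.mp ha
    rw [map_mul, hιt, mul_zero]
  obtain ⟨ιq, hιq⟩ : ∃ ιq : (R ⧸ Ideal.span {(tu : R) - 1}) →+* S,
      ∀ a, ιq (Ideal.Quotient.mk (Ideal.span {(tu : R) - 1}) a) = ι a :=
    ⟨Ideal.Quotient.lift _ ι hιker, fun a => Ideal.Quotient.lift_mk _ _ _⟩
  obtain ⟨Φ, hΦdef⟩ : ∃ Φ : LaurentPolynomial (R ⧸ Ideal.span {(tu : R) - 1}) →+* S,
      Φ = LaurentPolynomial.eval₂ ιq Uu := ⟨_, rfl⟩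
  have hΦC : ∀ c, Φ (LaurentPolynomial.C c) = ιq c := by
    intro c
    rw [hΦdef]
    exact LaurentPolynomial.eval₂_C ιq Uu c
  have hΦT : ∀ n : ℤ, Φ (LaurentPolynomial.T n) = ((Uu ^ n : Sˣ) : S) := by
    intro n
    rw [hΦdef]
    exact LaurentPolynomial.eval₂_T ιq Uu n
  have hΨUk : ∀ k : ℤ, Ψ ((Uu ^ k : Sˣ) : S) = LaurentPolynomial.T k := by
    have hnat : ∀ n : ℕ, Ψ ((Uu ^ (n : ℤ) : Sˣ) : S) = LaurentPolynomial.T (n : ℤ) := by
      intro n
      rw [zpow_natCast, Units.val_pow_eq_pow_val, map_pow, hΨU, LaurentPolynomial.T_pow, mul_one]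
    intro k
    obtain ⟨n, rfl | rfl⟩ := Int.eq_nat_or_neg k
    · exact hnat n
    · have h1 : Ψ ((Uu ^ (-(n : ℤ)) : Sˣ) : S) * LaurentPolynomial.T (n : ℤ) = 1 := by
        rw [← hnat n, ← map_mul, ← Units.val_mul, ← zpow_add, neg_add_cancel, zpow_zero,
          Units.val_one, map_one]
      have h2 : LaurentPolynomial.T (-(n : ℤ)) * LaurentPolynomial.T (n : ℤ)
          = (1 : LaurentPolynomial (R ⧸ Ideal.span {(tu : R) - 1})) := by
        rw [← LaurentPolynomial.T_add, neg_add_cancel, LaurentPolynomial.T_zero]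
      exact (LaurentPolynomial.isUnit_T (n : ℤ)).mul_left_inj.mp (h1.trans h2.symm)
  have hΨΦ : Ψ.comp Φ = RingHom.id _ := by
    refine laurent_ringHom_ext ?_ ?_
    · intro c
      obtain ⟨a, rfl⟩ := Ideal.Quotient.mk_surjective c
      have h : (Ψ.comp Φ).comp (LaurentPolynomial.C.comp
            (Ideal.Quotient.mk (Ideal.span {(tu : R) - 1})))
          = LaurentPolynomial.C.comp (Ideal.Quotient.mk (Ideal.span {(tu : R) - 1})) := by
        refine ringHom_ext_homogeneous 𝒜 _ _ ?_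
        intro i a ha
        show Ψ (Φ (LaurentPolynomial.C (Ideal.Quotient.mk (Ideal.span {(tu : R) - 1}) a)))
          = LaurentPolynomial.C (Ideal.Quotient.mk (Ideal.span {(tu : R) - 1}) a)
        rw [hΦC, hιq, hι i a ha, map_mul, hΨof i a ha, hΨUk, mul_assoc,
          ← LaurentPolynomial.T_add, add_neg_cancel, LaurentPolynomial.T_zero, mul_one]
      exact RingHom.congr_fun h a
    · intro n
      show Ψ (Φ (LaurentPolynomial.T n)) = LaurentPolynomial.T n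
      rw [hΦT, hΨUk]
  have hΦΨ : Φ.comp Ψ = RingHom.id _ := by
    refine hext _ _ ?_ ?_
    · refine ringHom_ext_homogeneous 𝒜 _ _ ?_
      intro i a ha
      show Φ (Ψ (of a)) = of a
      rw [hΨof i a ha, map_mul, hΦC, hΦT, hιq, hι i a ha, mul_assoc, ← Units.val_mul,
        ← zpow_add, neg_add_cancel, zpow_zero, Units.val_one, mul_one]
    · show Φ (Ψ (Uu : S)) = (Uu : S)
      rw [hΨU, hΦT, zpow_one]
  exact ⟨RingEquiv.ofRingHom Ψ Φ hΨΦ hΦΨ⟩

/-- If `C = R/(t-1)` is a regular local ring then `C[T;T⁻¹]` is a regular ring. -/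
theorem isRegularRing_laurent (C' : Type u) [CommRing C'] [IsRegularLocalRing C'] :
    IsRegularRing (LaurentPolynomial C') := by
  haveI : IsRegularRing C' := by
    rw [isRegularRing_iff]
    intro p hp
    exact Groth.Agent.Lead.Hom.isRegularLocalRing_localization p
  haveI : IsRegularRing (Polynomial C') := inferInstance
  exact Groth.Agent.Helper14.RegularLocalization.isRegularRing_of_isLocalization
    (Submonoid.powers (Polynomial.X : Polynomial C')) (LaurentPolynomial C')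

end Iso

end Groth.Agent.Helper22.GrUnit
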