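import Mathlib
import Groth.Agent.Lib.Helper22.GrUnit3

/-!
# `R[U]/(U^N - t) ≅ (R/(t-1))[T;T⁻¹]`, concrete form with `AdjoinRoot` (helper22)
-/

set_option autoImplicit false
universe u

namespace Groth.Agent.Helper22.GrUnit

open Polynomial

theorem adjoinRoot_equiv_laurent {R : Type u} [CommRing R] (𝒜 : ℤ → AddSubgroup R) [GradedRing 𝒜]
    (N : ℕ) (hN : 0 < N) (tu : Rˣ) (ht : (tu : R) ∈ 𝒜 (N : ℤ)) :
    Nonempty (AdjoinRoot (X ^ N - C (tu : R)) ≃+*
      LaurentPolynomial (R ⧸ Ideal.span {(tu : R) - 1})) := by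
  classical
  obtain ⟨f, hf⟩ : ∃ f : R[X], f = X ^ N - C (tu : R) := ⟨_, rfl⟩
  rw [← hf]
  have hroot : AdjoinRoot.root f ^ N = AdjoinRoot.of f (tu : R) := by
    have h2 : eval₂ (AdjoinRoot.of f) (AdjoinRoot.root f) (X ^ N - C (tu : R)) = 0 := by
      rw [← hf]
      exact AdjoinRoot.eval₂_root f
    rw [eval₂_sub, eval₂_X_pow, eval₂_C, sub_eq_zero] at h2
    exact h2
  have hUunit : IsUnit (AdjoinRoot.root f) := by
    have h : IsUnit (AdjoinRoot.root f ^ N) := by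
      rw [hroot]
      exact tu.isUnit.map (AdjoinRoot.of f)
    exact (isUnit_pow_iff hN.ne').mp h
  obtain ⟨Uu, hUu⟩ := hUunit
  have hU : AdjoinRoot.of f (tu : R) = ((Uu ^ (N : ℤ) : (AdjoinRoot f)ˣ) : AdjoinRoot f) := by
    rw [zpow_natCast, Units.val_pow_eq_pow_val, hUu, hroot]
  have hmk : Ideal.Quotient.mk (Ideal.span {(tu : R) - 1}) (tu : R) = 1 := by
    have h : Ideal.Quotient.mk (Ideal.span {(tu : R) - 1}) (tu : R)
        = Ideal.Quotient.mk (Ideal.span {(tu : R) - 1}) 1 :=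
      Ideal.Quotient.eq.mpr (Ideal.subset_span (Set.mem_singleton _))
    rw [h, map_one]
  have hw0 : (fun n : ℤ =>
      (LaurentPolynomial.T n : LaurentPolynomial (R ⧸ Ideal.span {(tu : R) - 1}))) 0 = 1 :=
    LaurentPolynomial.T_zero
  have hwadd : ∀ i j : ℤ, (fun n : ℤ =>
      (LaurentPolynomial.T n : LaurentPolynomial (R ⧸ Ideal.span {(tu : R) - 1}))) (i + j)
      = (fun n : ℤ =>
        (LaurentPolynomial.T n : LaurentPolynomial (R ⧸ Ideal.span {(tu : R) - 1}))) i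
        * (fun n : ℤ =>
        (LaurentPolynomial.T n : LaurentPolynomial (R ⧸ Ideal.span {(tu : R) - 1}))) j :=
    fun i j => LaurentPolynomial.T_add i j
  obtain ⟨ι, hιdef⟩ : ∃ ι : R →+* LaurentPolynomial (R ⧸ Ideal.span {(tu : R) - 1}),
      ι = twist 𝒜 (LaurentPolynomial.C.comp (Ideal.Quotient.mk (Ideal.span {(tu : R) - 1})))
        (fun n : ℤ => LaurentPolynomial.T n) hw0 hwadd := ⟨_, rfl⟩
  have hι : ∀ i, ∀ a ∈ 𝒜 i, ι a
      = LaurentPolynomial.C (Ideal.Quotient.mk (Ideal.span {(tu : R) - 1}) a)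
        * LaurentPolynomial.T i := by
    intro i a ha
    rw [hιdef]
    exact twist_apply_of_mem 𝒜 _ _ hw0 hwadd ha
  have hιt : ι (tu : R) = LaurentPolynomial.T (N : ℤ) := by
    rw [hι _ _ ht, hmk, map_one, one_mul]
  have hev : f.eval₂ ι (LaurentPolynomial.T 1) = 0 := by
    rw [hf, eval₂_sub, eval₂_X_pow, eval₂_C, hιt, LaurentPolynomial.T_pow, mul_one, sub_self]
  refine exists_equiv_laurent 𝒜 N tu ht (AdjoinRoot.of f) Uu hU
    (AdjoinRoot.lift ι (LaurentPolynomial.T 1) hev) ?_ ?_ ?_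
  · intro i a ha
    rw [AdjoinRoot.lift_of hev]
    exact hι i a ha
  · rw [hUu]
    exact AdjoinRoot.lift_root hev
  · intro φ ψ h1 h2
    refine AdjoinRoot.ringHom_ext h1 ?_
    rw [← hUu]
    exact h2

end Groth.Agent.Helper22.GrUnit
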