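import Mathlib
import Groth.Prelude.Def_W4c2conddiscmodels

/-!
# Hirzebruch–Jung continued fractions: continuants and multiplicity vectors (helper22)
-/

set_option autoImplicit false

namespace Groth.Agent.Helper22.HJ

/-- continuant pair `(P L, Q L)` with `hjVal L = P L / Q L`. -/
def PQ : List ℤ → ℤ × ℤ
  | [] => (1, 0)
  | b :: L => (b * (PQ L).1 - (PQ L).2, (PQ L).1)

theorem PQ_nil : PQ [] = (1, 0) := rfl

theorem PQ_cons (b : ℤ) (L : List ℤ) : PQ (b :: L) = (b * (PQ L).1 - (PQ L).2, (PQ L).1) := rfl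

theorem PQ_pos (L : List ℤ) (hL : ∀ b ∈ L, 2 ≤ b) : 0 ≤ (PQ L).2 ∧ (PQ L).2 < (PQ L).1 := by
  induction L with
  | nil => simp [PQ_nil]
  | cons b L ih =>
    have hb : 2 ≤ b := hL b (by simp)
    obtain ⟨h1, h2⟩ := ih (fun c hc => hL c (by simp [hc]))
    rw [PQ_cons]
    constructor
    · exact le_trans h1 h2.le
    · show (PQ L).1 < b * (PQ L).1 - (PQ L).2
      nlinarith

theorem hjVal_eq (L : List ℤ) (hL : ∀ b ∈ L, 2 ≤ b) :
    HJFrac.hjVal L = ((PQ L).1 : ℚ) / ((PQ L).2 : ℚ) := by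
  induction L with
  | nil => simp [PQ_nil, HJFrac.hjVal]
  | cons b L ih =>
    have hpos := PQ_pos L (fun c hc => hL c (by simp [hc]))
    have hP : ((PQ L).1 : ℚ) ≠ 0 := by
      have : (0 : ℤ) < (PQ L).1 := lt_of_le_of_lt hpos.1 hpos.2
      exact_mod_cast this.ne'
    rw [HJFrac.hjVal, ih (fun c hc => hL c (by simp [hc])), PQ_cons, inv_div]
    push_cast
    field_simp

theorem isCoprime_PQ (L : List ℤ) : IsCoprime (PQ L).1 (PQ L).2 := by
  induction L with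
  | nil => rw [PQ_nil]; exact isCoprime_one_left
  | cons b L ih =>
    obtain ⟨u, v, huv⟩ := ih
    rw [PQ_cons]
    refine ⟨-v, u + v * b, ?_⟩
    show -v * (b * (PQ L).1 - (PQ L).2) + (u + v * b) * (PQ L).1 = 1
    linear_combination huv

theorem list_succ (l : ℕ) (b : ℕ → ℤ) :
    ((List.range (l + 1)).map fun i => b (i + 1)) =
      b 1 :: ((List.range l).map fun i => (fun j => b (j + 1)) (i + 1)) := by
  rw [List.range_succ_eq_map, List.map_cons, List.map_map]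
  rfl

theorem main (l : ℕ) : ∀ (b : ℕ → ℤ) (μ : ℕ → ℤ),
    (∀ i, 1 ≤ i → i ≤ l → b i * μ i = μ (i - 1) + μ (i + 1)) →
    (∀ i, i ≤ l + 1 → μ i ≠ 0) →
    μ 0 * (PQ ((List.range l).map fun i => b (i + 1))).2 -
        μ 1 * (PQ ((List.range l).map fun i => b (i + 1))).1 = - μ (l + 1) ∧
    ∑ i ∈ Finset.range (l + 1), 1 / ((μ i : ℚ) * (μ (i + 1) : ℚ)) =
      ((PQ ((List.range l).map fun i => b (i + 1))).1 : ℚ) / ((μ 0 : ℚ) * (μ (l + 1) : ℚ)) := by
  induction l with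
  | zero =>
    intro b μ _ hμ
    simp [PQ_nil]
  | succ l ih =>
    intro b μ hsys hμ
    have hsys' : ∀ i, 1 ≤ i → i ≤ l → (fun j => b (j + 1)) i * (fun j => μ (j + 1)) i =
        (fun j => μ (j + 1)) (i - 1) + (fun j => μ (j + 1)) (i + 1) := by
      intro i hi1 hil
      have := hsys (i + 1) (by omega) (by omega)
      have e : i - 1 + 1 = i := by omega
      show b (i + 1) * μ (i + 1) = μ (i - 1 + 1) + μ (i + 1 + 1)
      rw [e]
      simpa using this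
    have hμ' : ∀ i, i ≤ l + 1 → (fun j => μ (j + 1)) i ≠ 0 := fun i hi => hμ (i + 1) (by omega)
    obtain ⟨iha, ihb⟩ := ih (fun j => b (j + 1)) (fun j => μ (j + 1)) hsys' hμ'
    rw [list_succ, PQ_cons]
    set P' := (PQ ((List.range l).map fun i => (fun j => b (j + 1)) (i + 1))).1 with hP'
    set Q' := (PQ ((List.range l).map fun i => (fun j => b (j + 1)) (i + 1))).2 with hQ'
    have h1 := hsys 1 le_rfl (by omega)
    simp only [Nat.sub_self] at h1
    have iha' : μ 1 * Q' - μ 2 * P' = -μ (l + 2) := iha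
    have ha : μ 0 * P' - μ 1 * (b 1 * P' - Q') = -μ (l + 1 + 1) := by
      show μ 0 * P' - μ 1 * (b 1 * P' - Q') = -μ (l + 2)
      linear_combination iha' - P' * h1
    refine ⟨ha, ?_⟩
    rw [Finset.sum_range_succ']
    have ihb' : ∑ i ∈ Finset.range (l + 1), 1 / ((μ (i + 1) : ℚ) * (μ (i + 1 + 1) : ℚ)) =
        (P' : ℚ) / ((μ 1 : ℚ) * (μ (l + 2) : ℚ)) := ihb
    rw [ihb']
    have h0 : (μ 0 : ℚ) ≠ 0 := by exact_mod_cast hμ 0 (by omega)
    have h1' : (μ 1 : ℚ) ≠ 0 := by exact_mod_cast hμ 1 (by omega)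
    have h2' : (μ (l + 2) : ℚ) ≠ 0 := by exact_mod_cast hμ (l + 2) (by omega)
    have haQ : (μ 0 : ℚ) * P' - μ 1 * (b 1 * P' - Q') = -μ (l + 2) := by exact_mod_cast ha
    show (P' : ℚ) / ((μ 1 : ℚ) * (μ (l + 2) : ℚ)) + 1 / ((μ 0 : ℚ) * (μ (0 + 1) : ℚ)) =
      ((b 1 * P' - Q' : ℤ) : ℚ) / ((μ 0 : ℚ) * (μ (l + 1 + 1) : ℚ))
    rw [zero_add]
    push_cast
    rw [div_add_div _ _ (mul_ne_zero h1' h2') (mul_ne_zero h0 h1'), div_eq_div_iff
      (mul_ne_zero (mul_ne_zero h1' h2') (mul_ne_zero h0 h1')) (mul_ne_zero h0 h2')]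
    linear_combination ((μ 1 : ℚ) * μ 0 * μ (l + 2)) * haQ

/-- identification of the continuants with `n`, `r`. -/
theorem PQ_eq (L : List ℤ) (hL : ∀ b ∈ L, 2 ≤ b) (n r : ℕ) (hr : 0 < r) (hn : 0 < n)
    (hcop : Nat.Coprime r n) (hhj : (n : ℚ) / r = HJFrac.hjVal L) :
    (PQ L).1 = n ∧ (PQ L).2 = r := by
  have hpos := PQ_pos L hL
  have hcp := isCoprime_PQ L
  rw [hjVal_eq L hL] at hhj
  set P := (PQ L).1 with hP
  set Q := (PQ L).2 with hQ
  have hr' : (r : ℚ) ≠ 0 := by exact_mod_cast hr.ne'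
  have hn' : (n : ℚ) ≠ 0 := by exact_mod_cast hn.ne'
  have hQ0 : Q ≠ 0 := by
    intro h0
    rw [h0] at hhj
    simp only [Int.cast_zero, div_zero] at hhj
    exact (div_ne_zero hn' hr') hhj
  have hQ' : (Q : ℚ) ≠ 0 := by exact_mod_cast hQ0
  have hcross : (n : ℤ) * Q = P * r := by
    rw [div_eq_div_iff hr' hQ'] at hhj
    exact_mod_cast hhj
  have hPpos : 0 < P := lt_of_le_of_lt hpos.1 hpos.2
  have hnP : (n : ℤ) ∣ P := by
    have h1 : (n : ℤ) ∣ r * P := ⟨Q, by rw [hcross]; ring⟩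
    have h2 : IsCoprime (n : ℤ) (r : ℤ) := by
      exact_mod_cast (Nat.isCoprime_iff_coprime.mpr hcop.symm)
    exact h2.dvd_of_dvd_mul_left h1
  have hPn : P ∣ (n : ℤ) := by
    have h1 : P ∣ (n : ℤ) * Q := ⟨r, hcross⟩
    exact hcp.dvd_of_dvd_mul_right h1
  have hPn' : P = n := Int.dvd_antisymm hPpos.le (by exact_mod_cast hn.le) hPn hnP
  refine ⟨hPn', ?_⟩
  rw [hPn'] at hcross
  have hn0 : (n : ℤ) ≠ 0 := by exact_mod_cast hn.ne'
  exact mul_left_cancel₀ hn0 hcross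

end Groth.Agent.Helper22.HJ
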