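import Mathlib
import Groth.Prelude.Def_StabCat

/-!
# Transitivity of the comparison of reduced Hilbert polynomials (helper22)
-/

set_option autoImplicit false

namespace Groth.Agent.Helper22.HNHom

open Polynomial

/-- eventually positive on the natural numbers -/
def EvPos (P : ℚ[X]) : Prop := ∃ N : ℕ, ∀ m : ℕ, N ≤ m → 0 < P.eval (m : ℚ)

theorem evPos_of_ne_zero_of_evNonneg (P : ℚ[X]) (hP : P ≠ 0)
    (h : ∃ N : ℕ, ∀ m : ℕ, N ≤ m → 0 ≤ P.eval (m : ℚ)) : EvPos P := by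
  have hfin : {m : ℕ | P.eval (m : ℚ) = 0}.Finite := by
    have h1 : (↑P.roots.toFinset : Set ℚ).Finite := P.roots.toFinset.finite_toSet
    have h2 := h1.preimage (f := fun m : ℕ => (m : ℚ)) (Nat.cast_injective.injOn)
    refine h2.subset ?_
    intro m hm
    simp only [Set.mem_preimage, Finset.mem_coe, Multiset.mem_toFinset]
    exact (Polynomial.mem_roots hP).2 hm
  obtain ⟨B, hB⟩ := hfin.bddAbove
  obtain ⟨N, hN⟩ := h
  refine ⟨max N (B + 1), fun m hm => ?_⟩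
  have h1 : 0 ≤ P.eval (m : ℚ) := hN m (le_trans (le_max_left _ _) hm)
  have h2 : P.eval (m : ℚ) ≠ 0 := by
    intro h0
    have h3 : m ≤ B := hB h0
    have h4 : B + 1 ≤ m := le_trans (le_max_right _ _) hm
    omega
  exact lt_of_le_of_ne h1 (Ne.symm h2)

theorem redLT_trans (d : ℕ) (A B C : ℚ[X]) (hA : EvPos A) (hB : EvPos B) (hC : EvPos C)
    (hb : 0 ≤ StabCat.alpha d B) (hc : 0 ≤ StabCat.alpha d C)
    (h1 : StabCat.RedLT d A B) (h2 : StabCat.RedLT d B C) : StabCat.RedLT d A C := by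
  obtain ⟨N1, hN1⟩ := h1
  obtain ⟨N2, hN2⟩ := h2
  obtain ⟨NA, hNA⟩ := hA
  obtain ⟨NB, hNB⟩ := hB
  obtain ⟨NC, hNC⟩ := hC
  obtain ⟨a, ha⟩ : ∃ a : ℚ, a = StabCat.alpha d A := ⟨_, rfl⟩
  obtain ⟨b, hb'⟩ : ∃ b : ℚ, b = StabCat.alpha d B := ⟨_, rfl⟩
  obtain ⟨c, hc'⟩ : ∃ c : ℚ, c = StabCat.alpha d C := ⟨_, rfl⟩
  rw [← hb'] at hb hN1 hN2
  rw [← hc'] at hc hN2
  rw [← ha] at hN1
  obtain ⟨M, hM⟩ : ∃ M : ℕ, M = max (max N1 N2) (max NA (max NB NC)) := ⟨_, rfl⟩
  have key : ∀ m : ℕ, M ≤ m →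
      b * A.eval (m : ℚ) < a * B.eval (m : ℚ) ∧ c * B.eval (m : ℚ) < b * C.eval (m : ℚ) ∧
        0 < A.eval (m : ℚ) ∧ 0 < B.eval (m : ℚ) ∧ 0 < C.eval (m : ℚ) := by
    intro m hm
    have e1 : N1 ≤ m := le_trans (le_trans (le_max_left _ _) (le_max_left _ _)) (hM ▸ hm)
    have e2 : N2 ≤ m := le_trans (le_trans (le_max_right _ _) (le_max_left _ _)) (hM ▸ hm)
    have e3 : NA ≤ m := le_trans (le_trans (le_max_left _ _) (le_max_right _ _)) (hM ▸ hm)
    have e4 : NB ≤ m :=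
      le_trans (le_trans (le_trans (le_max_left _ _) (le_max_right _ _)) (le_max_right _ _))
        (hM ▸ hm)
    have e5 : NC ≤ m :=
      le_trans (le_trans (le_trans (le_max_right _ _) (le_max_right _ _)) (le_max_right _ _))
        (hM ▸ hm)
    have f1 := hN1 m e1
    have f2 := hN2 m e2
    rw [Polynomial.eval_smul, Polynomial.eval_smul, smul_eq_mul, smul_eq_mul] at f1 f2
    exact ⟨f1, f2, hNA m e3, hNB m e4, hNC m e5⟩
  obtain ⟨g1, g2, gA, gB, gC⟩ := key M le_rfl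
  have hbpos : 0 < b := by
    by_contra h
    have hb0 : b = 0 := le_antisymm (not_lt.1 h) hb
    rw [hb0, zero_mul] at g2
    have : 0 ≤ c * B.eval (M : ℚ) := mul_nonneg hc gB.le
    linarith
  have hapos : 0 < a := by
    by_contra h
    have h' : a ≤ 0 := not_lt.1 h
    have h3 : a * B.eval (M : ℚ) ≤ 0 := mul_nonpos_iff.2 (Or.inr ⟨h', gB.le⟩)
    have h4 : 0 ≤ b * A.eval (M : ℚ) := mul_nonneg hb gA.le
    linarith
  refine ⟨M, fun m hm => ?_⟩
  obtain ⟨k1, k2, -, -, -⟩ := key m hm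
  rw [Polynomial.eval_smul, Polynomial.eval_smul, smul_eq_mul, smul_eq_mul, ← hc', ← ha]
  have s1 : c * (b * A.eval (m : ℚ)) ≤ c * (a * B.eval (m : ℚ)) :=
    mul_le_mul_of_nonneg_left k1.le hc
  have s2 : a * (c * B.eval (m : ℚ)) < a * (b * C.eval (m : ℚ)) :=
    mul_lt_mul_of_pos_left k2 hapos
  have s3 : b * (c * A.eval (m : ℚ)) < b * (a * C.eval (m : ℚ)) := by linarith
  exact lt_of_mul_lt_mul_left s3 hb

theorem redLT_chain (d n : ℕ) (p : Fin n → ℚ[X]) (hpos : ∀ i, EvPos (p i))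
    (hα : ∀ i, 0 ≤ StabCat.alpha d (p i))
    (hstep : ∀ i j : Fin n, i.val + 1 = j.val → StabCat.RedLT d (p j) (p i)) :
    ∀ i j : Fin n, i < j → StabCat.RedLT d (p j) (p i) := by
  have aux : ∀ e : ℕ, ∀ i j : Fin n, i.val + e + 1 = j.val → StabCat.RedLT d (p j) (p i) := by
    intro e
    induction e with
    | zero =>
      intro i j hij
      exact hstep i j (by omega)
    | succ e ih =>
      intro i j hij
      have hj' : i.val + e + 1 < n := by
        have := j.isLt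
        omega
      have h1 := ih i ⟨i.val + e + 1, hj'⟩ rfl
      have h2 := hstep ⟨i.val + e + 1, hj'⟩ j (by simp only; omega)
      exact redLT_trans d (p j) (p ⟨i.val + e + 1, hj'⟩) (p i) (hpos _) (hpos _) (hpos _)
        (hα _) (hα _) h2 h1
  intro i j hij
  have hlt : i.val < j.val := hij
  exact aux (j.val - i.val - 1) i j (by omega)

theorem redLT_of_chains (d n m : ℕ) (p : Fin n → ℚ[X]) (q : Fin m → ℚ[X])
    (hppos : ∀ i, EvPos (p i)) (hpα : ∀ i, 0 ≤ StabCat.alpha d (p i))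
    (hpstep : ∀ i j : Fin n, i.val + 1 = j.val → StabCat.RedLT d (p j) (p i))
    (hqpos : ∀ i, EvPos (q i)) (hqα : ∀ i, 0 ≤ StabCat.alpha d (q i))
    (hqstep : ∀ i j : Fin m, i.val + 1 = j.val → StabCat.RedLT d (q j) (q i))
    (i0 : Fin n) (hi0 : i0.val + 1 = n) (j0 : Fin m) (hj0 : j0.val = 0)
    (hlt : StabCat.RedLT d (q j0) (p i0)) (i : Fin n) (j : Fin m) :
    StabCat.RedLT d (q j) (p i) := by
  have h1 : StabCat.RedLT d (q j) (p i0) := by
    by_cases hj : j = j0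
    · rw [hj]
      exact hlt
    · have hjlt : j0 < j := by
        have : j.val ≠ j0.val := fun e => hj (Fin.ext e)
        show j0.val < j.val
        omega
      exact redLT_trans d (q j) (q j0) (p i0) (hqpos _) (hqpos _) (hppos _) (hqα _) (hpα _)
        (redLT_chain d m q hqpos hqα hqstep j0 j hjlt) hlt
  by_cases hi : i = i0
  · rw [hi]
    exact h1
  · have hilt : i < i0 := by
      have : i.val ≠ i0.val := fun e => hi (Fin.ext e)
      have := i.isLt
      show i.val < i0.val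
      omega
    exact redLT_trans d (q j) (p i0) (p i) (hqpos _) (hppos _) (hppos _) (hpα _) (hpα _) h1
      (redLT_chain d n p hppos hpα hpstep i i0 hilt)

end Groth.Agent.Helper22.HNHom
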