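import Mathlib

/-!
# The Hasse–Davenport lifting relation for Gauss sums (helper library for S3128)

For a multiplicative character `χ` and an additive character `ψ` of a finite field `F` put, for a
monic polynomial `f = X^d - c₁ X^(d-1) + ⋯ + (-1)^d c_d`, `lam f = χ(c_d) ψ(c₁)`.  It is
multiplicative, its sum `a m` over the monic polynomials of degree `m` is `1`, the Gauss sum `g`, and
`0` for `m = 0`, `m = 1`, `m ≥ 2`.  Counting the pairs (power of an irreducible dividing `f`)
gives Newton's identity `m a_m = ∑ S_k a_(m-k)` (`newton`), whence `S_m = -(-g)^m` (`S_eq`); and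
`S_n` is the Gauss sum of the extension of degree `n` (`S_top`).
-/

set_option autoImplicit false
set_option linter.unusedVariables false
set_option linter.style.haveILetI false

open Polynomial BigOperators IntermediateField

namespace Groth.Agent.Helper22.HasseDav

section Base
variable {F : Type*} [Field F] [Fintype F] {R : Type*} [CommRing R] [IsDomain R]
  (χ : MulChar F R) (ψ : AddChar F R)

/-- the multiplicative function on monic polynomials -/
noncomputable def lam (f : F[X]) : R := χ ((-1) ^ f.natDegree * f.coeff 0) * ψ (-f.nextCoeff)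

theorem lam_one : lam χ ψ (1 : F[X]) = 1 := by
  have h : (1 : F[X]).nextCoeff = 0 := by
    rw [← C_1]
    exact nextCoeff_C_eq_zero 1
  unfold lam
  rw [h, natDegree_one, pow_zero, one_mul, coeff_one_zero, map_one, neg_zero,
    AddChar.map_zero_eq_one, mul_one]

theorem lam_mul {f g : F[X]} (hf : f.Monic) (hg : g.Monic) :
    lam χ ψ (f * g) = lam χ ψ f * lam χ ψ g := by
  unfold lam
  rw [hf.natDegree_mul hg, mul_coeff_zero, hf.nextCoeff_mul hg, neg_add, AddChar.map_add_eq_mul,
    pow_add]
  have e : ((-1 : F) ^ f.natDegree * (-1) ^ g.natDegree * (f.coeff 0 * g.coeff 0)) =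
      ((-1) ^ f.natDegree * f.coeff 0) * ((-1) ^ g.natDegree * g.coeff 0) := by ring
  rw [e, map_mul]
  ring

theorem lam_pow {f : F[X]} (hf : f.Monic) (j : ℕ) : lam χ ψ (f ^ j) = lam χ ψ f ^ j := by
  induction j with
  | zero =>
    rw [pow_zero, pow_zero]
    exact lam_one χ ψ
  | succ j ih => rw [pow_succ, pow_succ, lam_mul χ ψ (hf.pow j) hf, ih]

theorem finite_mon (m : ℕ) : {p : F[X] | p.Monic ∧ p.natDegree = m}.Finite := by
  haveI : Finite {p : F[X] // p.Monic ∧ p.natDegree = m} :=
    Finite.of_equiv (Fin m → F)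
      ((monicEquivDegreeLT m).trans (degreeLTEquiv F m).toEquiv).symm
  exact Set.finite_coe_iff.mp this

/-- the monic polynomials of degree `m` -/
noncomputable def Mon (m : ℕ) : Finset F[X] := (finite_mon (F := F) m).toFinset

theorem mem_Mon {m : ℕ} {f : F[X]} : f ∈ Mon m ↔ f.Monic ∧ f.natDegree = m := by
  unfold Mon
  rw [Set.Finite.mem_toFinset]
  exact Iff.rfl

/-- the sum of `lam` over monic polynomials of degree `m` -/
noncomputable def a (m : ℕ) : R := ∑ f ∈ Mon m, lam χ ψ f

theorem a_zero : a χ ψ 0 = 1 := by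
  have h : (Mon 0 : Finset F[X]) = {1} := by
    ext f
    rw [mem_Mon, Finset.mem_singleton]
    constructor
    · rintro ⟨hm, hd⟩
      exact hm.natDegree_eq_zero.mp hd
    · rintro rfl
      exact ⟨monic_one, natDegree_one⟩
  unfold a
  rw [h, Finset.sum_singleton, lam_one]

theorem a_one : a χ ψ 1 = ∑ t : F, χ t * ψ t := by
  classical
  have h : (Mon 1 : Finset F[X]) = Finset.univ.image (fun t : F => X - C t) := by
    ext f
    rw [mem_Mon, Finset.mem_image]
    constructor
    · rintro ⟨hm, hd⟩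
      refine ⟨-(f.coeff 0), Finset.mem_univ _, ?_⟩
      rw [map_neg, sub_neg_eq_add]
      exact (hm.eq_X_add_C hd).symm
    · rintro ⟨t, _, rfl⟩
      exact ⟨monic_X_sub_C t, natDegree_X_sub_C t⟩
  unfold a
  rw [h, Finset.sum_image]
  · refine Finset.sum_congr rfl fun t _ => ?_
    unfold lam
    rw [natDegree_X_sub_C, nextCoeff_X_sub_C, neg_neg, coeff_sub, coeff_X_zero, coeff_C_zero,
      zero_sub, pow_one, neg_mul_neg, one_mul]
  · intro s _ t _ hst
    have h1 := congrArg (fun p : F[X] => p.coeff 0) hst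
    simp only [coeff_sub, coeff_X_zero, coeff_C_zero, zero_sub, neg_inj] at h1
    exact h1

theorem shift_mem {m : ℕ} (hm : 2 ≤ m) (s : F) {f : F[X]} (hf : f ∈ Mon m) :
    f + C s * X ^ (m - 1) ∈ Mon m ∧ (f + C s * X ^ (m - 1)).coeff 0 = f.coeff 0 ∧
      (f + C s * X ^ (m - 1)).nextCoeff = f.nextCoeff + s := by
  obtain ⟨hfm, hfd⟩ := mem_Mon.mp hf
  have hlt : (C s * X ^ (m - 1)).degree < f.degree := by
    refine lt_of_le_of_lt (degree_C_mul_X_pow_le _ _) ?_
    rw [degree_eq_natDegree hfm.ne_zero, hfd]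
    exact_mod_cast (show m - 1 < m by omega)
  have hd : (f + C s * X ^ (m - 1)).natDegree = m := by
    rw [natDegree_add_eq_left_of_degree_lt hlt, hfd]
  refine ⟨mem_Mon.mpr ⟨hfm.add_of_left hlt, hd⟩, ?_, ?_⟩
  · rw [coeff_add, coeff_C_mul, coeff_X_pow, if_neg (by omega), mul_zero, add_zero]
  · rw [nextCoeff_of_natDegree_pos (by rw [hd]; omega), hd,
      nextCoeff_of_natDegree_pos (by rw [hfd]; omega), hfd, coeff_add, coeff_C_mul, coeff_X_pow,
      if_pos rfl, mul_one]

theorem a_ge_two (hψ : ψ ≠ 1) {m : ℕ} (hm : 2 ≤ m) : a χ ψ m = 0 := by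
  obtain ⟨t, ht⟩ := AddChar.ne_one_iff.mp hψ
  have key : a χ ψ m = a χ ψ m * ψ t := by
    unfold a
    rw [Finset.sum_mul]
    refine Finset.sum_nbij' (fun f => f + C t * X ^ (m - 1))
      (fun f => f + C (-t) * X ^ (m - 1)) ?_ ?_ ?_ ?_ ?_
    · intro f hf
      exact (shift_mem hm t hf).1
    · intro f hf
      exact (shift_mem hm (-t) hf).1
    · intro f _
      show f + C t * X ^ (m - 1) + C (-t) * X ^ (m - 1) = f
      rw [map_neg]
      ring
    · intro f _
      show f + C (-t) * X ^ (m - 1) + C t * X ^ (m - 1) = f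
      rw [map_neg]
      ring
    · intro f hf
      obtain ⟨h1, h2, h3⟩ := shift_mem hm t hf
      have hd1 := (mem_Mon.mp h1).2
      have hd0 := (mem_Mon.mp hf).2
      show lam χ ψ f = lam χ ψ (f + C t * X ^ (m - 1)) * ψ t
      unfold lam
      rw [h2, h3, hd1, hd0, neg_add, AddChar.map_add_eq_mul, mul_assoc, mul_assoc,
        ← AddChar.map_add_eq_mul, neg_add_cancel, AddChar.map_zero_eq_one, mul_one]
  have h1 : a χ ψ m * (1 - ψ t) = 0 := by
    rw [mul_sub, mul_one, ← key, sub_self]
  rcases mul_eq_zero.mp h1 with h | h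
  · exact h
  · exact absurd (sub_eq_zero.mp h).symm ht

theorem sum_filter_dvd (h : F[X]) (hh : h.Monic) (m : ℕ) (hk : h.natDegree ≤ m)
    [DecidablePred fun f : F[X] => h ∣ f] :
    ∑ f ∈ (Mon m).filter (fun f => h ∣ f), lam χ ψ f =
      lam χ ψ h * a χ ψ (m - h.natDegree) := by
  classical
  have himg : (Mon m).filter (fun f => h ∣ f) =
      (Mon (m - h.natDegree)).image (fun g => h * g) := by
    ext f
    simp only [Finset.mem_filter, Finset.mem_image, mem_Mon]
    constructor
    · rintro ⟨⟨hfm, hfd⟩, g, rfl⟩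
      have hgm : g.Monic := hh.of_mul_monic_left hfm
      refine ⟨g, ⟨hgm, ?_⟩, rfl⟩
      rw [hh.natDegree_mul hgm] at hfd
      omega
    · rintro ⟨g, ⟨hgm, hgd⟩, rfl⟩
      refine ⟨⟨hh.mul hgm, ?_⟩, dvd_mul_right h g⟩
      rw [hh.natDegree_mul hgm, hgd]
      omega
  rw [himg, Finset.sum_image (fun g₁ _ g₂ _ hg => mul_left_cancel₀ hh.ne_zero hg), a,
    Finset.mul_sum]
  refine Finset.sum_congr rfl fun g hg => ?_
  exact lam_mul χ ψ hh (mem_Mon.mp hg).1

theorem filter_dvd_empty (h : F[X]) (hh : h.Monic) (m : ℕ) (hk : m < h.natDegree)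
    [DecidablePred fun f : F[X] => h ∣ f] : (Mon m).filter (fun f => h ∣ f) = ∅ := by
  rw [Finset.filter_eq_empty_iff]
  intro f hf hdvd
  obtain ⟨hfm, hfd⟩ := mem_Mon.mp hf
  have := natDegree_le_of_dvd hdvd hfm.ne_zero
  omega

/-- the monic irreducible polynomials of degree at most `N` -/
noncomputable def Irr (N : ℕ) : Finset F[X] := by
  classical
  exact ((Finset.range (N + 1)).biUnion (fun m => Mon m)).filter (fun P => Irreducible P)

theorem mem_Irr {N : ℕ} {P : F[X]} :
    P ∈ Irr N ↔ P.Monic ∧ P.natDegree ≤ N ∧ Irreducible P := by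
  classical
  unfold Irr
  simp only [Finset.mem_filter, Finset.mem_biUnion, Finset.mem_range, mem_Mon]
  constructor
  · rintro ⟨⟨m, hm, hP, hd⟩, hirr⟩
    exact ⟨hP, by omega, hirr⟩
  · rintro ⟨hP, hd, hirr⟩
    exact ⟨⟨P.natDegree, by omega, hP, rfl⟩, hirr⟩

theorem degree_eq_sum (N m : ℕ) (hmN : m ≤ N) (f : F[X]) (hf : f ∈ Mon m)
    [∀ (P : F[X]) (j : ℕ), Decidable (P ^ j ∣ f)] :
    m = ∑ P ∈ Irr N, ∑ j ∈ Finset.Icc 1 N, if P ^ j ∣ f then P.natDegree else 0 := by
  classical
  obtain ⟨hfm, hfd⟩ := mem_Mon.mp hf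
  have hf0 : f ≠ 0 := hfm.ne_zero
  obtain ⟨nF, hnF⟩ : ∃ nF, nF = UniqueFactorizationMonoid.normalizedFactors f := ⟨_, rfl⟩
  have hirr : ∀ P ∈ nF, Irreducible P := fun P hP =>
    UniqueFactorizationMonoid.irreducible_of_normalized_factor P (hnF ▸ hP)
  have hmonic : ∀ P ∈ nF, P.Monic := fun P hP => by
    have h1 := UniqueFactorizationMonoid.normalize_normalized_factor P (hnF ▸ hP)
    rw [← h1]
    exact monic_normalize (hirr P hP).ne_zero
  have hprod : nF.prod = f := by
    have h1 : Associated nF.prod f :=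
      hnF ▸ UniqueFactorizationMonoid.prod_normalizedFactors hf0
    have h2 : nF.prod.Monic := by
      have h3 := monic_multiset_prod_of_monic nF id (fun P hP => hmonic P hP)
      rwa [Multiset.map_id] at h3
    exact eq_of_monic_of_associated h2 hfm h1
  have hdeg : (nF.map natDegree).sum = m := by
    rw [← natDegree_multiset_prod_of_monic nF hmonic, hprod, hfd]
  have hcount : ∀ P : F[X], P.Monic → Irreducible P → ∀ j : ℕ,
      P ^ j ∣ f ↔ j ≤ nF.count P := by
    intro P hP hPi j
    rw [pow_dvd_iff_le_emultiplicity,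
      UniqueFactorizationMonoid.emultiplicity_eq_count_normalizedFactors hPi hf0,
      hP.normalize_eq_self, ← hnF, Nat.cast_le]
  have hcard : nF.card ≤ m := by
    have h1 := Multiset.card_nsmul_le_sum (s := nF.map natDegree) (a := 1) (fun x hx => by
      obtain ⟨P, hP, rfl⟩ := Multiset.mem_map.mp hx
      exact (hirr P hP).natDegree_pos)
    rw [Multiset.card_map, smul_eq_mul, mul_one, hdeg] at h1
    exact h1
  have hinner : ∀ P : F[X], P.Monic → Irreducible P →
      (∑ j ∈ Finset.Icc 1 N, if P ^ j ∣ f then P.natDegree else 0) =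
        nF.count P * P.natDegree := by
    intro P hP hPi
    have hc : nF.count P ≤ N := ((Multiset.count_le_card P nF).trans hcard).trans hmN
    rw [← Finset.sum_filter, Finset.sum_const, smul_eq_mul]
    congr 1
    have hfil : (Finset.Icc 1 N).filter (fun j => P ^ j ∣ f) = Finset.Icc 1 (nF.count P) := by
      ext j
      rw [Finset.mem_filter, Finset.mem_Icc, Finset.mem_Icc, hcount P hP hPi j]
      omega
    rw [hfil, Nat.card_Icc]
    omega
  have hsub : nF.toFinset ⊆ Irr N := by
    intro P hP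
    rw [Multiset.mem_toFinset] at hP
    refine mem_Irr.mpr ⟨hmonic P hP, ?_, hirr P hP⟩
    have hdvd : P ∣ f := UniqueFactorizationMonoid.dvd_of_mem_normalizedFactors (hnF ▸ hP)
    exact (natDegree_le_of_dvd hdvd hf0).trans (hfd.le.trans hmN)
  calc m = (nF.map natDegree).sum := hdeg.symm
    _ = ∑ P ∈ nF.toFinset, nF.count P • P.natDegree :=
        Finset.sum_multiset_map_count nF natDegree
    _ = ∑ P ∈ Irr N, nF.count P • P.natDegree := by
        refine Finset.sum_subset hsub fun P _ hP => ?_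
        rw [Multiset.mem_toFinset] at hP
        rw [Multiset.count_eq_zero_of_notMem hP, zero_smul]
    _ = _ := by
        refine Finset.sum_congr rfl fun P hP => ?_
        obtain ⟨hPm, _, hPi⟩ := mem_Irr.mp hP
        rw [hinner P hPm hPi, smul_eq_mul]

/-- the weight of the `j`-th power of the irreducible polynomial `P` -/
noncomputable def T (P : F[X]) (j : ℕ) : R := (P.natDegree : R) * lam χ ψ P ^ j

/-- the power sums -/
noncomputable def S (N k : ℕ) : R :=
  ∑ P ∈ Irr N, ∑ j ∈ Finset.Icc 1 N, if j * P.natDegree = k then T χ ψ P j else 0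

theorem newton (N m : ℕ) (hmN : m ≤ N) :
    (m : R) * a χ ψ m = ∑ k ∈ Finset.Icc 1 m, S χ ψ N k * a χ ψ (m - k) := by
  classical
  have hL : (m : R) * a χ ψ m = ∑ P ∈ Irr N, ∑ j ∈ Finset.Icc 1 N,
      if j * P.natDegree ≤ m then T χ ψ P j * a χ ψ (m - j * P.natDegree) else 0 := by
    have ha_def : a χ ψ m = ∑ f ∈ Mon m, lam χ ψ f := rfl
    rw [ha_def, Finset.mul_sum]
    have h1 : ∀ f ∈ Mon m, (m : R) * lam χ ψ f = ∑ P ∈ Irr N, ∑ j ∈ Finset.Icc 1 N,
        if P ^ j ∣ f then (P.natDegree : R) * lam χ ψ f else 0 := by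
      intro f hf
      have h2 := degree_eq_sum N m hmN f hf
      have h3 : (m : R) = ((∑ P ∈ Irr N, ∑ j ∈ Finset.Icc 1 N,
          if P ^ j ∣ f then P.natDegree else 0 : ℕ) : R) := congrArg (Nat.cast : ℕ → R) h2
      rw [h3, Nat.cast_sum, Finset.sum_mul]
      refine Finset.sum_congr rfl fun P _ => ?_
      rw [Nat.cast_sum, Finset.sum_mul]
      refine Finset.sum_congr rfl fun j _ => ?_
      rw [Nat.cast_ite, Nat.cast_zero, ite_mul, zero_mul]
    rw [Finset.sum_congr rfl h1, Finset.sum_comm]
    refine Finset.sum_congr rfl fun P hP => ?_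
    rw [Finset.sum_comm]
    refine Finset.sum_congr rfl fun j hj => ?_
    obtain ⟨hPm, _, hPi⟩ := mem_Irr.mp hP
    have hPj : (P ^ j).Monic := hPm.pow j
    have hdj : (P ^ j).natDegree = j * P.natDegree := hPm.natDegree_pow j
    rw [← Finset.sum_filter, ← Finset.mul_sum]
    by_cases hle : j * P.natDegree ≤ m
    · rw [if_pos hle, sum_filter_dvd χ ψ (P ^ j) hPj m (by rw [hdj]; exact hle), hdj,
        lam_pow χ ψ hPm, T, mul_assoc]
    · rw [if_neg hle, filter_dvd_empty (P ^ j) hPj m (by rw [hdj]; omega), Finset.sum_empty,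
        mul_zero]
  have hR : ∑ k ∈ Finset.Icc 1 m, S χ ψ N k * a χ ψ (m - k) =
      ∑ P ∈ Irr N, ∑ j ∈ Finset.Icc 1 N,
        if j * P.natDegree ≤ m then T χ ψ P j * a χ ψ (m - j * P.natDegree) else 0 := by
    unfold S
    simp_rw [Finset.sum_mul]
    rw [Finset.sum_comm]
    refine Finset.sum_congr rfl fun P hP => ?_
    rw [Finset.sum_comm]
    refine Finset.sum_congr rfl fun j hj => ?_
    obtain ⟨hPm, _, hPi⟩ := mem_Irr.mp hP
    have hj1 : 1 ≤ j := (Finset.mem_Icc.mp hj).1
    have hd1 : 1 ≤ P.natDegree := hPi.natDegree_pos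
    have hpos : 1 ≤ j * P.natDegree :=
      Nat.one_le_iff_ne_zero.mpr (Nat.mul_ne_zero (by omega) (by omega))
    simp_rw [ite_mul, zero_mul]
    by_cases hle : j * P.natDegree ≤ m
    · rw [if_pos hle, Finset.sum_eq_single (j * P.natDegree)]
      · rw [if_pos rfl]
      · intro k _ hk
        rw [if_neg (Ne.symm hk)]
      · intro hnot
        exact absurd (Finset.mem_Icc.mpr ⟨hpos, hle⟩) hnot
    · rw [if_neg hle]
      refine Finset.sum_eq_zero fun k hk => ?_
      rw [if_neg]
      intro h
      rw [← h] at hk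
      exact hle (Finset.mem_Icc.mp hk).2
  rw [hL, hR]

theorem S_eq (hψ : ψ ≠ 1) (N : ℕ) : ∀ m : ℕ, 1 ≤ m → m ≤ N →
    S χ ψ N m = -(-(∑ t : F, χ t * ψ t)) ^ m := by
  intro m
  induction m with
  | zero =>
    intro h
    omega
  | succ m ih =>
    intro _ hmN
    have hnewt := newton χ ψ N (m + 1) hmN
    rcases Nat.eq_zero_or_pos m with rfl | hmpos
    · rw [zero_add] at hnewt ⊢
      rw [Finset.Icc_self, Finset.sum_singleton, Nat.sub_self, a_zero, mul_one, a_one,
        Nat.cast_one, one_mul] at hnewt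
      rw [← hnewt, pow_one, neg_neg]
    · have ih' := ih hmpos (by omega)
      have ha : a χ ψ (m + 1) = 0 := a_ge_two χ ψ hψ (by omega)
      rw [ha, mul_zero, Finset.sum_eq_add_of_mem (m + 1) m
        (Finset.mem_Icc.mpr ⟨by omega, le_rfl⟩) (Finset.mem_Icc.mpr ⟨hmpos, by omega⟩)
        (by omega)] at hnewt
      · rw [Nat.sub_self, a_zero, mul_one, Nat.add_sub_cancel_left, a_one, ih'] at hnewt
        linear_combination (-1 : R) * hnewt
      · intro k hk hne
        have hk' := Finset.mem_Icc.mp hk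
        have h2 : 2 ≤ m + 1 - k := by omega
        rw [a_ge_two χ ψ hψ h2, mul_zero]

end Base

section Top
variable {F : Type*} [Field F] [Fintype F] {F' : Type*} [Field F'] [Fintype F'] [Algebra F F']
  {R : Type*} [CommRing R] [IsDomain R] (χ : MulChar F R) (ψ : AddChar F R)

theorem lam_minpoly (x : F') :
    χ (Algebra.norm F x) * ψ (Algebra.trace F F' x) =
      lam χ ψ (minpoly F x) ^ Module.finrank F⟮x⟯ F' := by
  have hx : IsIntegral F x := .of_finite F x
  have hN : Algebra.norm F x =
      ((-1) ^ (minpoly F x).natDegree * (minpoly F x).coeff 0) ^ Module.finrank F⟮x⟯ F' := by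
    rw [Algebra.norm_eq_norm_adjoin F x]
    congr 1
    have h1 := Algebra.PowerBasis.norm_gen_eq_coeff_zero_minpoly
      (IntermediateField.adjoin.powerBasis hx)
    rw [IntermediateField.adjoin.powerBasis_gen, IntermediateField.adjoin.powerBasis_dim,
      IntermediateField.minpoly_gen] at h1
    exact h1
  have hT : Algebra.trace F F' x = Module.finrank F⟮x⟯ F' • (-(minpoly F x).nextCoeff) := by
    rw [trace_eq_finrank_mul_minpoly_nextCoeff F x, nsmul_eq_mul]
  unfold lam
  rw [hN, hT, map_pow, AddChar.map_nsmul_eq_pow, mul_pow]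

theorem count_minpoly {P : F[X]} (hPm : P.Monic) (hPi : Irreducible P)
    [DecidablePred fun x : F' => minpoly F x = P] :
    (Finset.univ.filter (fun x : F' => minpoly F x = P)).card =
      if P.natDegree ∣ Module.finrank F F' then P.natDegree else 0 := by
  classical
  by_cases hd : P.natDegree ∣ Module.finrank F F'
  · rw [if_pos hd]
    have hdvd : P ∣ X ^ (Nat.card F) ^ (Module.finrank F F') - X :=
      (hPi.natDegree_dvd_iff_dvd_X_pow_card_pow_sub_X).mp hd
    have hcard : (Nat.card F) ^ (Module.finrank F F') = Fintype.card F' := by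
      rw [← Nat.card_eq_fintype_card, Module.natCard_eq_pow_finrank (K := F) (V := F')]
    have hmap : P.map (algebraMap F F') ∣ X ^ Fintype.card F' - X := by
      have h1 := Polynomial.map_dvd (algebraMap F F') hdvd
      rwa [Polynomial.map_sub, Polynomial.map_pow, map_X, hcard] at h1
    have hne : (X ^ Fintype.card F' - X : F'[X]) ≠ 0 :=
      FiniteField.X_pow_card_sub_X_ne_zero F' Fintype.one_lt_card
    have hroots_le : (P.map (algebraMap F F')).roots ≤ Finset.univ.val := by
      rw [← FiniteField.roots_X_pow_card_sub_X F']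
      exact Polynomial.roots.le_of_dvd hne hmap
    have hnodup : (P.map (algebraMap F F')).roots.Nodup :=
      Multiset.nodup_of_le hroots_le Finset.univ.nodup
    have hsplit0 : (X ^ Fintype.card F' - X : F'[X]).Splits := by
      rw [splits_iff_card_roots, FiniteField.roots_X_pow_card_sub_X,
        FiniteField.X_pow_card_sub_X_natDegree_eq F' Fintype.one_lt_card]
      exact Finset.card_univ
    have hsplit : (P.map (algebraMap F F')).Splits := hsplit0.of_dvd hne hmap
    have hcardroots : (P.map (algebraMap F F')).roots.card = P.natDegree := by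
      rw [← hsplit.natDegree_eq_card_roots, hPm.natDegree_map]
    have hfilter : Finset.univ.filter (fun x : F' => minpoly F x = P) =
        (P.map (algebraMap F F')).roots.toFinset := by
      ext x
      simp only [Finset.mem_filter, Finset.mem_univ, true_and, Multiset.mem_toFinset]
      rw [mem_roots (hPm.map (algebraMap F F')).ne_zero, IsRoot.def, eval_map, ← aeval_def]
      constructor
      · intro h
        rw [← h]
        exact minpoly.aeval F x
      · intro h
        exact (minpoly.eq_of_irreducible_of_monic hPi h hPm).symm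
    rw [hfilter, Multiset.toFinset_card_of_nodup hnodup, hcardroots]
  · rw [if_neg hd, Finset.card_eq_zero, Finset.filter_eq_empty_iff]
    intro x _ hx
    apply hd
    rw [← hx]
    exact minpoly.degree_dvd (.of_finite F x)

theorem S_top (hn : 0 < Module.finrank F F') :
    S χ ψ (Module.finrank F F') (Module.finrank F F') =
      ∑ x : F', χ (Algebra.norm F x) * ψ (Algebra.trace F F' x) := by
  classical
  obtain ⟨n, hn_def⟩ : ∃ n, n = Module.finrank F F' := ⟨_, rfl⟩
  rw [← hn_def] at hn ⊢
  have hint : ∀ x : F', IsIntegral F x := fun x => .of_finite F x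
  have hfin : ∀ x : F', Module.finrank F⟮x⟯ F' * (minpoly F x).natDegree = n := fun x => by
    rw [← IntermediateField.adjoin.finrank (hint x), mul_comm, hn_def]
    exact Module.finrank_mul_finrank F F⟮x⟯ F'
  have hmem : ∀ x : F', minpoly F x ∈ Irr n := fun x =>
    mem_Irr.mpr ⟨minpoly.monic (hint x),
      Nat.le_of_dvd hn (hn_def ▸ minpoly.degree_dvd (hint x)), minpoly.irreducible (hint x)⟩
  have hR : ∑ x : F', χ (Algebra.norm F x) * ψ (Algebra.trace F F' x) =
      ∑ P ∈ Irr n, ∑ x ∈ Finset.univ.filter (fun x : F' => minpoly F x = P),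
        lam χ ψ P ^ (n / P.natDegree) := by
    rw [← Finset.sum_fiberwise_of_maps_to (s := Finset.univ) (t := Irr n)
      (g := fun x : F' => minpoly F x) (fun x _ => hmem x)]
    refine Finset.sum_congr rfl fun P _ => Finset.sum_congr rfl fun x hx => ?_
    have hxP : minpoly F x = P := (Finset.mem_filter.mp hx).2
    rw [lam_minpoly, hxP]
    congr 1
    rw [← hxP]
    exact (Nat.div_eq_of_eq_mul_left (minpoly.natDegree_pos (hint x)) (hfin x).symm).symm
  rw [hR]
  unfold S
  refine Finset.sum_congr rfl fun P hP => ?_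
  obtain ⟨hPm, hPd, hPi⟩ := mem_Irr.mp hP
  have hd0 : 0 < P.natDegree := hPi.natDegree_pos
  rw [Finset.sum_const, nsmul_eq_mul, count_minpoly hPm hPi, ← hn_def]
  by_cases hd : P.natDegree ∣ n
  · rw [if_pos hd]
    obtain ⟨e, he⟩ := hd
    have he0 : 1 ≤ e := by
      rcases Nat.eq_zero_or_pos e with h0 | h0
      · rw [h0, mul_zero] at he
        omega
      · exact h0
    have hen : e ≤ n := by
      rw [he]
      exact Nat.le_mul_of_pos_left e hd0
    rw [Finset.sum_eq_single e]
    · rw [if_pos (by rw [he, mul_comm]), T, he, Nat.mul_div_cancel_left e hd0]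
    · intro j _ hj
      rw [if_neg]
      intro h
      apply hj
      exact Nat.eq_of_mul_eq_mul_right hd0 (by rw [h, he, mul_comm])
    · intro hnot
      exact absurd (Finset.mem_Icc.mpr ⟨he0, hen⟩) hnot
  · rw [if_neg hd, Nat.cast_zero, zero_mul]
    refine Finset.sum_eq_zero fun j _ => ?_
    rw [if_neg]
    intro h
    exact hd ⟨j, by rw [← h, mul_comm]⟩

theorem hasse_davenport (hψ : ψ ≠ 1) :
    -(∑ x : F', χ (Algebra.norm F x) * ψ (Algebra.trace F F' x)) =
      (-(∑ x : F, χ x * ψ x)) ^ Module.finrank F F' := by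
  have hn : 0 < Module.finrank F F' := Module.finrank_pos
  rw [← S_top χ ψ hn, S_eq χ ψ hψ _ _ hn le_rfl, neg_neg]

end Top

end Groth.Agent.Helper22.HasseDav
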