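import Mathlib

/-!
# Helper22: linear algebra of subquotients and order filtrations on products of power series rings
(for the `HilbZeta` statements)
-/

set_option autoImplicit false
noncomputable section
namespace Groth.Agent.Helper22.HilbZ
universe u v w
open Module

section LinAlg
variable {k : Type u} [Field k] {N : Type v} {M : Type w} [AddCommGroup N] [Module k N]
  [AddCommGroup M] [Module k M]

/-- the factor map `M/P → M/Q` for `P ≤ Q` -/
def fac {P Q : Submodule k M} (h : P ≤ Q) : (M ⧸ P) →ₗ[k] (M ⧸ Q) :=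
  P.liftQ Q.mkQ (by rw [Submodule.ker_mkQ]; exact h)

theorem fac_mkQ {P Q : Submodule k M} (h : P ≤ Q) (x : M) : fac h (P.mkQ x) = Q.mkQ x := rfl

theorem fac_surjective {P Q : Submodule k M} (h : P ≤ Q) : Function.Surjective (fac h) := by
  intro y
  obtain ⟨x, rfl⟩ := Q.mkQ_surjective y
  exact ⟨P.mkQ x, fac_mkQ h x⟩

theorem mem_ker_fac {P Q : Submodule k M} (h : P ≤ Q) (x : M) :
    P.mkQ x ∈ LinearMap.ker (fac h) ↔ x ∈ Q := by
  rw [LinearMap.mem_ker, fac_mkQ, Submodule.mkQ_apply, Submodule.Quotient.mk_eq_zero]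

theorem finite_of_le {P Q : Submodule k M} (h : P ≤ Q) [Module.Finite k (M ⧸ P)] :
    Module.Finite k (M ⧸ Q) :=
  Module.Finite.of_surjective (fac h) (fac_surjective h)

theorem finrank_eq_add {P Q : Submodule k M} (h : P ≤ Q) [Module.Finite k (M ⧸ P)] :
    finrank k (M ⧸ P) = finrank k (M ⧸ Q) + finrank k (LinearMap.ker (fac h)) := by
  have h1 := LinearMap.finrank_range_add_finrank_ker (fac h)
  rw [LinearMap.range_eq_top.2 (fac_surjective h), finrank_top] at h1
  exact h1.symm

theorem finrank_le_of_le {P Q : Submodule k M} (h : P ≤ Q) [Module.Finite k (M ⧸ P)] :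
    finrank k (M ⧸ Q) ≤ finrank k (M ⧸ P) := by
  rw [finrank_eq_add h]
  exact Nat.le_add_right _ _

theorem finrank_lt_of_lt {P Q : Submodule k M} (h : P ≤ Q) [Module.Finite k (M ⧸ P)] {x : M}
    (hxQ : x ∈ Q) (hxP : x ∉ P) : finrank k (M ⧸ Q) < finrank k (M ⧸ P) := by
  rw [finrank_eq_add h]
  have hpos : 0 < finrank k (LinearMap.ker (fac h)) := by
    rw [Module.finrank_pos_iff_exists_ne_zero]
    refine ⟨⟨P.mkQ x, (mem_ker_fac h x).2 hxQ⟩, ?_⟩
    intro h0
    apply hxP
    have h1 : P.mkQ x = 0 := congrArg Subtype.val h0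
    rwa [Submodule.mkQ_apply, Submodule.Quotient.mk_eq_zero] at h1
  omega

section G
variable (ι : N →ₗ[k] M) (hι : Function.Injective ι) (P : Submodule k N)

/-- `N → M → M / ι(P)` -/
def psi : N →ₗ[k] (M ⧸ P.map ι) := (P.map ι).mkQ ∘ₗ ι

include hι in
theorem ker_psi : LinearMap.ker (psi ι P) = P := by
  ext x
  rw [LinearMap.mem_ker]
  change (P.map ι).mkQ (ι x) = 0 ↔ _
  rw [Submodule.mkQ_apply, Submodule.Quotient.mk_eq_zero]
  constructor
  · rintro ⟨y, hy, hyx⟩
    rwa [← hι hyx]
  · intro hx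
    exact ⟨x, hx, rfl⟩

theorem range_psi : LinearMap.range (psi ι P) =
    LinearMap.ker (fac (LinearMap.map_le_range : P.map ι ≤ LinearMap.range ι)) := by
  ext y
  obtain ⟨m, rfl⟩ := (P.map ι).mkQ_surjective y
  rw [mem_ker_fac]
  constructor
  · rintro ⟨x, hx⟩
    have h1 : ι x - m ∈ P.map ι := by
      rw [← Submodule.Quotient.eq]
      exact hx
    have h2 : ι x - m ∈ LinearMap.range ι := LinearMap.map_le_range h1
    have h3 : ι x - (ι x - m) ∈ LinearMap.range ι := Submodule.sub_mem _ ⟨x, rfl⟩ h2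
    simpa using h3
  · rintro ⟨x, rfl⟩
    exact ⟨x, rfl⟩

/-- `N/P ≅ ι(N)/ι(P)` as the kernel of `M/ι(P) → M/ι(N)` -/
def equivKer : (N ⧸ P) ≃ₗ[k]
    LinearMap.ker (fac (LinearMap.map_le_range : P.map ι ≤ LinearMap.range ι)) :=
  (Submodule.quotEquivOfEq _ _ (ker_psi ι hι P).symm) ≪≫ₗ (psi ι P).quotKerEquivRange ≪≫ₗ
    LinearEquiv.ofEq _ _ (range_psi ι P)

include hι in
theorem finite_quot_map [Module.Finite k (M ⧸ LinearMap.range ι)] [Module.Finite k (N ⧸ P)] :
    Module.Finite k (M ⧸ P.map ι) := by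
  let q := fac (LinearMap.map_le_range : P.map ι ≤ LinearMap.range ι)
  haveI : Module.Finite k (LinearMap.ker q) := Module.Finite.equiv (equivKer ι hι P)
  haveI : Module.Finite k ((M ⧸ P.map ι) ⧸ LinearMap.ker q) :=
    Module.Finite.equiv (q.quotKerEquivOfSurjective (fac_surjective _)).symm
  exact Module.Finite.of_submodule_quotient (LinearMap.ker q)

include hι in
theorem finite_quot_of_map [Module.Finite k (M ⧸ P.map ι)] : Module.Finite k (N ⧸ P) :=
  Module.Finite.equiv (equivKer ι hι P).symm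

include hι in
theorem finrank_quot_map [Module.Finite k (M ⧸ P.map ι)] :
    finrank k (M ⧸ P.map ι) = finrank k (M ⧸ LinearMap.range ι) + finrank k (N ⧸ P) := by
  rw [finrank_eq_add (LinearMap.map_le_range : P.map ι ≤ LinearMap.range ι),
    (equivKer ι hι P).finrank_eq]

end G

end LinAlg

section Fil
variable {k : Type u} [Field k] {s : ℕ}

/-- tuples of power series with `i`-th order at least `a i` -/
def Fil (a : Fin s → ℕ) : Submodule k (Fin s → PowerSeries k) where
  carrier := {f | ∀ i, ∀ n < a i, PowerSeries.coeff n (f i) = 0}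
  add_mem' := by
    intro f g hf hg i n hn
    rw [Pi.add_apply, map_add, hf i n hn, hg i n hn, add_zero]
  zero_mem' := by
    intro i n _
    simp
  smul_mem' := by
    intro c f hf i n hn
    rw [Pi.smul_apply, map_smul, hf i n hn, smul_zero]

theorem mem_Fil_iff (a : Fin s → ℕ) (f : Fin s → PowerSeries k) :
    f ∈ Fil (k := k) a ↔ ∀ i, ((a i : ℕ) : ℕ∞) ≤ (f i).order := by
  constructor
  · intro h i
    exact PowerSeries.nat_le_order _ _ (h i)
  · intro h i n hn
    exact PowerSeries.coeff_of_lt_order n (lt_of_lt_of_le (by exact_mod_cast hn) (h i))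

/-- the truncated coefficients -/
def cmap (a : Fin s → ℕ) : (Fin s → PowerSeries k) →ₗ[k] ((i : Fin s) → Fin (a i) → k) where
  toFun f := fun i n => PowerSeries.coeff (n : ℕ) (f i)
  map_add' f g := by
    ext i n
    simp
  map_smul' c f := by
    ext i n
    simp

theorem ker_cmap (a : Fin s → ℕ) : LinearMap.ker (cmap (k := k) a) = Fil a := by
  ext f
  rw [LinearMap.mem_ker]
  constructor
  · intro h i n hn
    exact congrFun (congrFun h i) ⟨n, hn⟩
  · intro h
    ext i n
    exact h i n n.2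

theorem cmap_surjective (a : Fin s → ℕ) : Function.Surjective (cmap (k := k) a) := by
  intro y
  refine ⟨fun i => PowerSeries.mk (fun n => if h : n < a i then y i ⟨n, h⟩ else 0), ?_⟩
  ext i n
  simp only [cmap, LinearMap.coe_mk, AddHom.coe_mk, PowerSeries.coeff_mk]
  rw [dif_pos n.2]

/-- `O / Fil a ≅ ∏ k^(a i)` -/
def quotFilEquiv (a : Fin s → ℕ) :
    ((Fin s → PowerSeries k) ⧸ Fil (k := k) a) ≃ₗ[k] ((i : Fin s) → Fin (a i) → k) :=
  (Submodule.quotEquivOfEq (Fil (k := k) a) (LinearMap.ker (cmap (k := k) a))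
    (ker_cmap a).symm).trans
    ((cmap (k := k) a).quotKerEquivOfSurjective (cmap_surjective a))

instance finite_quot_Fil (a : Fin s → ℕ) :
    Module.Finite k ((Fin s → PowerSeries k) ⧸ Fil (k := k) a) :=
  Module.Finite.equiv (quotFilEquiv a).symm

theorem finrank_quot_Fil (a : Fin s → ℕ) :
    finrank k ((Fin s → PowerSeries k) ⧸ Fil (k := k) a) = ∑ i, a i := by
  rw [(quotFilEquiv a).finrank_eq, Module.finrank_pi_fintype]
  simp

end Fil

end Groth.Agent.Helper22.HilbZ
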