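import Mathlib
import Groth.Agent.Lib.Helper22.HilbZ1

/-!
# Helper22: ideals of a subalgebra of a product of power series rings, as subspaces of the product
-/

set_option autoImplicit false
noncomputable section
namespace Groth.Agent.Helper22.HilbZ
universe u
open Module

variable {k : Type u} [Field k] {s : ℕ} (R : Subalgebra k (Fin s → PowerSeries k))

/-- the inclusion `R → O` as a linear map -/
def incl : ↥R →ₗ[k] (Fin s → PowerSeries k) := R.val.toLinearMap

theorem incl_apply (r : ↥R) : incl R r = (r : Fin s → PowerSeries k) := rfl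

theorem incl_injective : Function.Injective (incl R) := Subtype.val_injective

theorem range_incl : LinearMap.range (incl R) = Subalgebra.toSubmodule R := by
  ext x
  constructor
  · rintro ⟨r, rfl⟩
    exact r.2
  · intro hx
    exact ⟨⟨x, hx⟩, rfl⟩

/-- image of an ideal of `R` as a `k`-submodule of `O` -/
def img (I : Ideal ↥R) : Submodule k (Fin s → PowerSeries k) :=
  (I.restrictScalars k).map (incl R)

theorem mem_img {I : Ideal ↥R} {x : Fin s → PowerSeries k} :
    x ∈ img R I ↔ ∃ hx : x ∈ R, (⟨x, hx⟩ : ↥R) ∈ I := by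
  constructor
  · rintro ⟨r, hr, rfl⟩
    exact ⟨r.2, hr⟩
  · rintro ⟨hx, hI⟩
    exact ⟨⟨x, hx⟩, hI, rfl⟩

theorem coe_mem_img {I : Ideal ↥R} {r : ↥R} (hr : r ∈ I) :
    (r : Fin s → PowerSeries k) ∈ img R I := ⟨r, hr, rfl⟩

theorem finite_img (hfin : Module.Finite k ((Fin s → PowerSeries k) ⧸ Subalgebra.toSubmodule R))
    (I : Ideal ↥R) (hI : Module.Finite k (↥R ⧸ I)) :
    Module.Finite k ((Fin s → PowerSeries k) ⧸ img R I) := by
  haveI : Module.Finite k ((Fin s → PowerSeries k) ⧸ LinearMap.range (incl R)) :=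
    Module.Finite.equiv (Submodule.quotEquivOfEq _ _ (range_incl R).symm)
  haveI : Module.Finite k (↥R ⧸ I.restrictScalars k) :=
    Module.Finite.equiv (Submodule.Quotient.restrictScalarsEquiv k I).symm
  exact finite_quot_map (incl R) (incl_injective R) (I.restrictScalars k)

theorem finite_of_img (I : Ideal ↥R)
    (h : Module.Finite k ((Fin s → PowerSeries k) ⧸ img R I)) : Module.Finite k (↥R ⧸ I) := by
  haveI : Module.Finite k ((Fin s → PowerSeries k) ⧸ (I.restrictScalars k).map (incl R)) := h
  haveI : Module.Finite k (↥R ⧸ I.restrictScalars k) :=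
    finite_quot_of_map (incl R) (incl_injective R) (I.restrictScalars k)
  exact Module.Finite.equiv (Submodule.Quotient.restrictScalarsEquiv k I)

theorem finrank_img (I : Ideal ↥R) [hh : Module.Finite k ((Fin s → PowerSeries k) ⧸ img R I)] :
    finrank k ((Fin s → PowerSeries k) ⧸ img R I) =
      finrank k ((Fin s → PowerSeries k) ⧸ Subalgebra.toSubmodule R) + finrank k (↥R ⧸ I) := by
  haveI : Module.Finite k ((Fin s → PowerSeries k) ⧸ (I.restrictScalars k).map (incl R)) := hh
  have h : finrank k ((Fin s → PowerSeries k) ⧸ img R I) = _ :=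
    finrank_quot_map (incl R) (incl_injective R) (I.restrictScalars k)
  rw [(Submodule.quotEquivOfEq _ _ (range_incl R)).finrank_eq,
    (Submodule.Quotient.restrictScalarsEquiv k I).finrank_eq] at h
  exact h

/-- the `i`-th branch map `R → k[[x]]` -/
abbrev br (i : Fin s) : ↥R →ₐ[k] PowerSeries k :=
  (Pi.evalAlgHom k (fun _ : Fin s => PowerSeries k) i).comp R.val

theorem br_apply (i : Fin s) (r : ↥R) : br R i r = (r : Fin s → PowerSeries k) i := rfl

theorem le_order_of_map_eq (I : Ideal ↥R) (i : Fin s) (n : ℕ)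
    (ha : Ideal.map (br R i) I = Ideal.span {PowerSeries.X ^ n}) (f : ↥R) (hf : f ∈ I) :
    ((n : ℕ) : ℕ∞) ≤ ((f : Fin s → PowerSeries k) i).order := by
  have hmem : br R i f ∈ Ideal.map (br R i) I := Ideal.mem_map_of_mem _ hf
  rw [ha, Ideal.mem_span_singleton] at hmem
  obtain ⟨h, hh⟩ := hmem
  have e : ((f : Fin s → PowerSeries k) i) = PowerSeries.X ^ n * h := hh
  rw [e]
  calc ((n : ℕ) : ℕ∞) = PowerSeries.order ((PowerSeries.X : PowerSeries k) ^ n) :=
        (PowerSeries.order_X_pow n).symm
    _ ≤ PowerSeries.order ((PowerSeries.X : PowerSeries k) ^ n) + PowerSeries.order h :=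
        le_self_add
    _ ≤ _ := PowerSeries.le_order_mul _ _

theorem exists_order_eq (I : Ideal ↥R) (i : Fin s) (n : ℕ)
    (ha : Ideal.map (br R i) I = Ideal.span {PowerSeries.X ^ n}) :
    ∃ f ∈ I, ((f : Fin s → PowerSeries k) i).order = ((n : ℕ) : ℕ∞) := by
  by_contra hcon
  push Not at hcon
  have hle : Ideal.map (br R i) I ≤ Ideal.span {(PowerSeries.X : PowerSeries k) ^ (n + 1)} := by
    rw [Ideal.map_le_iff_le_comap]
    intro f hf
    rw [Ideal.mem_comap, Ideal.mem_span_singleton, PowerSeries.X_pow_dvd_iff]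
    intro m hm
    have hlt : ((n : ℕ) : ℕ∞) < ((f : Fin s → PowerSeries k) i).order :=
      lt_of_le_of_ne (le_order_of_map_eq R I i n ha f hf) (Ne.symm (hcon f hf))
    exact PowerSeries.coeff_of_lt_order m
      (lt_of_le_of_lt (by exact_mod_cast Nat.lt_succ_iff.mp hm) hlt)
  have hX : (PowerSeries.X : PowerSeries k) ^ n ∈
      Ideal.span {(PowerSeries.X : PowerSeries k) ^ (n + 1)} := by
    apply hle
    rw [ha]
    exact Ideal.mem_span_singleton_self _
  rw [Ideal.mem_span_singleton, PowerSeries.X_pow_dvd_iff] at hX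
  have := hX n (Nat.lt_succ_self _)
  rw [PowerSeries.coeff_X_pow, if_pos rfl] at this
  exact one_ne_zero this

end Groth.Agent.Helper22.HilbZ
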