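import Mathlib
import Groth.Agent.Lib.Helper22.HilbZ2

/-!
# Helper22: multiplication by the uniformizer of one branch on ideals of a curve singularity ring
-/

set_option autoImplicit false
noncomputable section
namespace Groth.Agent.Helper22.HilbZ
universe u
open Module

variable {k : Type u} [Field k] {s : ℕ}

/-- the tuple with `X` in the `j`-th place and `1` elsewhere -/
abbrev xi (j : Fin s) : Fin s → PowerSeries k := Pi.mulSingle j PowerSeries.X

theorem xi_same (j : Fin s) : xi (k := k) j j = PowerSeries.X := Pi.mulSingle_eq_same j _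

theorem xi_ne {j i : Fin s} (h : i ≠ j) : xi (k := k) j i = 1 := Pi.mulSingle_eq_of_ne h _

theorem xi_apply_ne_zero (j i : Fin s) : xi (k := k) j i ≠ 0 := by
  rcases eq_or_ne i j with rfl | hij
  · rw [xi_same]; exact PowerSeries.X_ne_zero
  · rw [xi_ne hij]; exact one_ne_zero

/-- multiplication by `xi j` -/
def mulXi (j : Fin s) : (Fin s → PowerSeries k) →ₗ[k] (Fin s → PowerSeries k) :=
  LinearMap.mulLeft k (xi j)

theorem mulXi_apply (j : Fin s) (f : Fin s → PowerSeries k) : mulXi j f = xi j * f := rfl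

theorem mulXi_injective (j : Fin s) : Function.Injective (mulXi (k := k) j) := by
  intro f g h
  funext i
  have hi : xi j i * f i = xi j i * g i := congrFun h i
  exact mul_left_cancel₀ (xi_apply_ne_zero j i) hi

theorem range_mulXi (j : Fin s) :
    LinearMap.range (mulXi (k := k) j) = Fil (Pi.single j 1) := by
  ext f
  constructor
  · rintro ⟨g, rfl⟩
    intro i n hn
    rcases eq_or_ne i j with rfl | hij
    · rw [Pi.single_eq_same] at hn
      have hn0 : n = 0 := by omega
      subst hn0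
      change PowerSeries.coeff 0 (xi i i * g i) = 0
      rw [xi_same]
      exact PowerSeries.coeff_zero_X_mul _
    · rw [Pi.single_eq_of_ne hij] at hn
      exact absurd hn (Nat.not_lt_zero _)
  · intro hf
    have h0 : PowerSeries.coeff 0 (f j) = 0 :=
      hf j 0 (by rw [Pi.single_eq_same]; exact Nat.one_pos)
    have hdvd : PowerSeries.X ∣ f j := by
      rw [PowerSeries.X_dvd_iff, ← PowerSeries.coeff_zero_eq_constantCoeff_apply]
      exact h0
    obtain ⟨h, hh⟩ := hdvd
    refine ⟨Function.update f j h, ?_⟩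
    funext i
    change xi j i * Function.update f j h i = f i
    rcases eq_or_ne i j with rfl | hij
    · rw [xi_same, Function.update_self, hh]
    · rw [xi_ne hij, Function.update_of_ne hij, one_mul]

instance finite_quot_range_mulXi (j : Fin s) :
    Module.Finite k ((Fin s → PowerSeries k) ⧸ LinearMap.range (mulXi (k := k) j)) := by
  rw [range_mulXi]
  infer_instance

theorem finrank_quot_range_mulXi (j : Fin s) :
    finrank k ((Fin s → PowerSeries k) ⧸ LinearMap.range (mulXi (k := k) j)) = 1 := by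
  rw [range_mulXi, finrank_quot_Fil]
  simp

theorem xi_mul_eq (j : Fin s) (f : Fin s → PowerSeries k) :
    xi j * f = f + Pi.single j ((PowerSeries.X - 1) * f j) := by
  funext i
  change xi j i * f i = f i + (Pi.single j ((PowerSeries.X - 1) * f j) : Fin s → PowerSeries k) i
  rcases eq_or_ne i j with rfl | hij
  · rw [xi_same, Pi.single_eq_same]
    ring
  · rw [xi_ne hij, Pi.single_eq_of_ne hij]
    ring

variable (R : Subalgebra k (Fin s → PowerSeries k))

section cond
variable (c : Fin s → ℕ)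
  (hc : ∀ f : Fin s → PowerSeries k,
      (∀ g : Fin s → PowerSeries k, g * f ∈ R) ↔ ∀ i, ((c i : ℕ) : ℕ∞) ≤ (f i).order)

include hc in
theorem mem_of_order {f : Fin s → PowerSeries k}
    (hf : ∀ i, ((c i : ℕ) : ℕ∞) ≤ (f i).order) : f ∈ R := by
  have h := (hc f).2 hf 1
  rwa [one_mul] at h

include hc in
theorem single_mem (j : Fin s) {g : PowerSeries k} (hg : ((c j : ℕ) : ℕ∞) ≤ g.order) :
    (Pi.single j g : Fin s → PowerSeries k) ∈ R := by
  apply mem_of_order R c hc
  intro i
  rcases eq_or_ne i j with rfl | hij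
  · rw [Pi.single_eq_same]; exact hg
  · rw [Pi.single_eq_of_ne hij, PowerSeries.order_zero]; exact le_top

include hc in
theorem xi_mul_mem (j : Fin s) {f : Fin s → PowerSeries k} (hfR : f ∈ R)
    (hf : ((c j : ℕ) : ℕ∞) ≤ (f j).order) : xi j * f ∈ R := by
  rw [xi_mul_eq]
  refine R.add_mem hfR (single_mem R c hc j ?_)
  calc ((c j : ℕ) : ℕ∞) ≤ (f j).order := hf
    _ ≤ (PowerSeries.X - 1 : PowerSeries k).order + (f j).order := le_add_self
    _ ≤ _ := PowerSeries.le_order_mul _ _

include hc in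
/-- an element of `R` whose `j`-th component has order `> c j` is `xi j` times an element of `R` -/
theorem exists_eq_xi_mul (j : Fin s) (n : ℕ) (hn : c j ≤ n) {t : Fin s → PowerSeries k} (htR : t ∈ R)
    (ht : ((n + 1 : ℕ) : ℕ∞) ≤ (t j).order) : ∃ r ∈ R, t = xi j * r := by
  have hdvd : (PowerSeries.X : PowerSeries k) ^ (n + 1) ∣ t j := by
    rw [PowerSeries.X_pow_dvd_iff]
    intro m hm
    exact PowerSeries.coeff_of_lt_order m (lt_of_lt_of_le (by exact_mod_cast hm) ht)
  obtain ⟨u, hu⟩ := hdvd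
  set h : PowerSeries k := PowerSeries.X ^ n * u with hh
  have htj : t j = PowerSeries.X * h := by rw [hu, hh, pow_succ']; ring
  have hord : ((c j : ℕ) : ℕ∞) ≤ h.order := by
    calc ((c j : ℕ) : ℕ∞) ≤ ((n : ℕ) : ℕ∞) := by exact_mod_cast hn
      _ = PowerSeries.order ((PowerSeries.X : PowerSeries k) ^ n) := (PowerSeries.order_X_pow n).symm
      _ ≤ PowerSeries.order ((PowerSeries.X : PowerSeries k) ^ n) + PowerSeries.order u :=
        le_self_add
      _ ≤ _ := PowerSeries.le_order_mul _ _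
  have hord2 : ((c j : ℕ) : ℕ∞) ≤ ((1 - PowerSeries.X) * h).order := by
    calc ((c j : ℕ) : ℕ∞) ≤ h.order := hord
      _ ≤ (1 - PowerSeries.X : PowerSeries k).order + h.order := le_add_self
      _ ≤ _ := PowerSeries.le_order_mul _ _
  refine ⟨t + Pi.single j ((1 - PowerSeries.X) * h), R.add_mem htR (single_mem R c hc j hord2), ?_⟩
  funext i
  change t i = xi j i * (t i + (Pi.single j ((1 - PowerSeries.X) * h) : Fin s → PowerSeries k) i)
  rcases eq_or_ne i j with rfl | hij
  · rw [xi_same, Pi.single_eq_same, htj]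
    ring
  · rw [xi_ne hij, Pi.single_eq_of_ne hij]
    ring

end cond

/-! ### ideals related by multiplication by `xi j` -/

theorem img_eq_map {I J : Ideal ↥R} (j : Fin s)
    (h : Subtype.val '' (J : Set ↥R) =
      (fun f => xi j * f) '' (Subtype.val '' (I : Set ↥R))) :
    img R J = (img R I).map (mulXi j) := by
  ext x
  rw [Submodule.mem_map]
  constructor
  · intro hx
    have hx' : x ∈ Subtype.val '' (J : Set ↥R) := by
      obtain ⟨r, hr, rfl⟩ := hx
      exact ⟨r, hr, rfl⟩
    rw [h] at hx'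
    obtain ⟨y, ⟨f, hf, rfl⟩, rfl⟩ := hx'
    exact ⟨f, coe_mem_img R hf, rfl⟩
  · rintro ⟨y, ⟨f, hf, rfl⟩, rfl⟩
    have h1 : xi j * (f : Fin s → PowerSeries k) ∈ Subtype.val '' (J : Set ↥R) := by
      rw [h]
      exact ⟨f, ⟨f, hf, rfl⟩, rfl⟩
    obtain ⟨r, hr, hre⟩ := h1
    change xi j * (f : Fin s → PowerSeries k) ∈ img R J
    rw [← hre]
    exact coe_mem_img R hr

theorem map_br_eq {I J : Ideal ↥R} (j : Fin s)
    (h : Subtype.val '' (J : Set ↥R) =
      (fun f => xi j * f) '' (Subtype.val '' (I : Set ↥R))) (i : Fin s) :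
    Ideal.map (br R i) J = Ideal.span {xi (k := k) j i} * Ideal.map (br R i) I := by
  apply le_antisymm
  · rw [Ideal.map_le_iff_le_comap]
    intro r hr
    rw [Ideal.mem_comap]
    have h1 : (r : Fin s → PowerSeries k) ∈ Subtype.val '' (J : Set ↥R) := ⟨r, hr, rfl⟩
    rw [h] at h1
    obtain ⟨y, ⟨f, hf, rfl⟩, hy⟩ := h1
    have e : br R i r = xi j i * br R i f := by
      change (r : Fin s → PowerSeries k) i = xi j i * (f : Fin s → PowerSeries k) i
      rw [← hy]
      rfl
    rw [e]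
    exact Ideal.mem_span_singleton_mul.2 ⟨br R i f, Ideal.mem_map_of_mem _ hf, rfl⟩
  · rw [Ideal.span_singleton_mul_le_iff]
    intro z hz
    have hz' : z ∈ Submodule.span (PowerSeries k) ((br R i) '' (I : Set ↥R)) := hz
    induction hz' using Submodule.span_induction with
    | mem z hz1 =>
      obtain ⟨f, hf, rfl⟩ := hz1
      have h1 : xi j * (f : Fin s → PowerSeries k) ∈ Subtype.val '' (J : Set ↥R) := by
        rw [h]
        exact ⟨f, ⟨f, hf, rfl⟩, rfl⟩
      obtain ⟨r, hr, hre⟩ := h1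
      have e : xi j i * br R i f = br R i r := by
        change xi j i * (f : Fin s → PowerSeries k) i = (r : Fin s → PowerSeries k) i
        rw [hre]
        rfl
      rw [e]
      exact Ideal.mem_map_of_mem _ hr
    | zero => rw [mul_zero]; exact Ideal.zero_mem _
    | add x y hx hy ihx ihy =>
      rw [mul_add]
      exact Ideal.add_mem _ (ihx hx) (ihy hy)
    | smul a x hx ih =>
      rw [smul_eq_mul, mul_left_comm]
      exact Ideal.mul_mem_left _ a (ih hx)

variable (hfin : Module.Finite k ((Fin s → PowerSeries k) ⧸ Subalgebra.toSubmodule R))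

include hfin in
theorem colength_fwd {I J : Ideal ↥R} (j : Fin s) (h : img R J = (img R I).map (mulXi j))
    (hI : Module.Finite k (↥R ⧸ I)) :
    Module.Finite k (↥R ⧸ J) ∧ finrank k (↥R ⧸ J) = finrank k (↥R ⧸ I) + 1 := by
  haveI h1 : Module.Finite k ((Fin s → PowerSeries k) ⧸ img R I) := finite_img R hfin I hI
  haveI h0 : Module.Finite k ((Fin s → PowerSeries k) ⧸ LinearMap.range (mulXi (k := k) j)) :=
    finite_quot_range_mulXi j
  haveI h2 : Module.Finite k ((Fin s → PowerSeries k) ⧸ (img R I).map (mulXi j)) :=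
    @finite_quot_map k _ _ _ _ _ _ _ (mulXi j) (mulXi_injective j) (img R I) h0 h1
  haveI h3 : Module.Finite k ((Fin s → PowerSeries k) ⧸ img R J) := by rw [h]; exact h2
  have hJ : Module.Finite k (↥R ⧸ J) := finite_of_img R J h3
  refine ⟨hJ, ?_⟩
  have e1 := finrank_img R I
  have e2 := finrank_img R J
  have e3 := @finrank_quot_map k _ _ _ _ _ _ _ (mulXi j) (mulXi_injective j) (img R I) h2
  rw [finrank_quot_range_mulXi] at e3
  have e4 : finrank k ((Fin s → PowerSeries k) ⧸ img R J) =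
      finrank k ((Fin s → PowerSeries k) ⧸ (img R I).map (mulXi j)) := by rw [h]
  omega

include hfin in
theorem colength_bwd {I J : Ideal ↥R} (j : Fin s) (h : img R J = (img R I).map (mulXi j))
    (hJ : Module.Finite k (↥R ⧸ J)) :
    Module.Finite k (↥R ⧸ I) ∧ finrank k (↥R ⧸ J) = finrank k (↥R ⧸ I) + 1 := by
  haveI h3 : Module.Finite k ((Fin s → PowerSeries k) ⧸ img R J) := finite_img R hfin J hJ
  haveI h2 : Module.Finite k ((Fin s → PowerSeries k) ⧸ (img R I).map (mulXi j)) := by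
    rw [← h]; exact h3
  haveI h1 : Module.Finite k ((Fin s → PowerSeries k) ⧸ img R I) :=
    @finite_quot_of_map k _ _ _ _ _ _ _ (mulXi j) (mulXi_injective j) (img R I) h2
  have hI := finite_of_img R I h1
  exact ⟨hI, (colength_fwd R hfin j h hI).2⟩

/-- the ideal `xi j • I` of `R` (meaningful when `xi j * I ⊆ R`) -/
def ideA (I : Ideal ↥R) (j : Fin s) : Ideal ↥R where
  carrier := {r | ∃ f ∈ I, (r : Fin s → PowerSeries k) = xi j * (f : Fin s → PowerSeries k)}
  zero_mem' := ⟨0, I.zero_mem, by simp⟩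
  add_mem' := by
    rintro r1 r2 ⟨f1, h1, e1⟩ ⟨f2, h2, e2⟩
    refine ⟨f1 + f2, I.add_mem h1 h2, ?_⟩
    change (r1 : Fin s → PowerSeries k) + (r2 : Fin s → PowerSeries k) =
      xi j * ((f1 : Fin s → PowerSeries k) + (f2 : Fin s → PowerSeries k))
    rw [e1, e2, mul_add]
  smul_mem' := by
    rintro a r ⟨f, h, e⟩
    refine ⟨a * f, I.mul_mem_left a h, ?_⟩
    change (a : Fin s → PowerSeries k) * (r : Fin s → PowerSeries k) =
      xi j * ((a : Fin s → PowerSeries k) * (f : Fin s → PowerSeries k))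
    rw [e, mul_left_comm]

theorem ideA_set (I : Ideal ↥R) (j : Fin s)
    (hmem : ∀ f ∈ I, xi j * (f : Fin s → PowerSeries k) ∈ R) :
    Subtype.val '' (ideA R I j : Set ↥R) =
      (fun f => xi j * f) '' (Subtype.val '' (I : Set ↥R)) := by
  ext x
  constructor
  · rintro ⟨r, ⟨f, hf, e⟩, rfl⟩
    exact ⟨f, ⟨f, hf, rfl⟩, e.symm⟩
  · rintro ⟨y, ⟨f, hf, rfl⟩, rfl⟩
    exact ⟨⟨xi j * (f : Fin s → PowerSeries k), hmem f hf⟩, ⟨f, hf, rfl⟩, rfl⟩

/-- the ideal `xi j ⁻¹ • J` of `R` -/
def ideB (J : Ideal ↥R) (j : Fin s) : Ideal ↥R where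
  carrier := {r | ∃ t ∈ J, (t : Fin s → PowerSeries k) = xi j * (r : Fin s → PowerSeries k)}
  zero_mem' := ⟨0, J.zero_mem, by simp⟩
  add_mem' := by
    rintro r1 r2 ⟨t1, h1, e1⟩ ⟨t2, h2, e2⟩
    refine ⟨t1 + t2, J.add_mem h1 h2, ?_⟩
    change (t1 : Fin s → PowerSeries k) + (t2 : Fin s → PowerSeries k) =
      xi j * ((r1 : Fin s → PowerSeries k) + (r2 : Fin s → PowerSeries k))
    rw [e1, e2, mul_add]
  smul_mem' := by
    rintro a r ⟨t, h, e⟩
    refine ⟨a * t, J.mul_mem_left a h, ?_⟩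
    change (a : Fin s → PowerSeries k) * (t : Fin s → PowerSeries k) =
      xi j * ((a : Fin s → PowerSeries k) * (r : Fin s → PowerSeries k))
    rw [e, mul_left_comm]

theorem ideB_set (J : Ideal ↥R) (j : Fin s)
    (hmem : ∀ t ∈ J, ∃ r ∈ R, (t : Fin s → PowerSeries k) = xi j * r) :
    Subtype.val '' (J : Set ↥R) =
      (fun f => xi j * f) '' (Subtype.val '' (ideB R J j : Set ↥R)) := by
  ext x
  constructor
  · rintro ⟨t, ht, rfl⟩
    obtain ⟨r, hrR, e⟩ := hmem t ht
    exact ⟨r, ⟨⟨r, hrR⟩, ⟨t, ht, e⟩, rfl⟩, e.symm⟩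
  · rintro ⟨y, ⟨r, ⟨t, ht, e⟩, rfl⟩, rfl⟩
    exact ⟨t, ht, e⟩

end Groth.Agent.Helper22.HilbZ
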