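import Mathlib

/-!
# Symmetric Hochschild 2-cocycles and square-zero extensions (helper22)
A symmetric `A`-bilinear Hochschild 2-cocycle `f : B × B → L` defines a commutative square-zero
extension `Ext c` of `B` by `L`; if `B` is formally smooth over `A` the extension splits, so `f` is
a coboundary.
-/

namespace Groth.Agent.Helper22.Hoch

universe u v

/-- A symmetric bilinear Hochschild 2-cocycle. -/
structure SymCocycle (A : Type u) (B : Type v) (L : Type v) [CommRing A] [CommRing B]
    [Algebra A B] [AddCommGroup L] [Module B L] [Module A L] [IsScalarTower A B L] where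
  f : B →ₗ[A] B →ₗ[A] L
  symm : ∀ x y : B, f x y = f y x
  coc : ∀ x y z : B, f (x * y) z + z • f x y = x • f y z + f x (y * z)

variable {A : Type u} {B : Type v} {L : Type v} [CommRing A] [CommRing B] [Algebra A B]
  [AddCommGroup L] [Module B L] [Module A L] [IsScalarTower A B L]

/-- The square-zero extension attached to a cocycle. -/
@[nolint unusedArguments]
def Ext (_c : SymCocycle A B L) : Type v := B × L

namespace Ext

variable (c : SymCocycle A B L)

instance : AddCommGroup (Ext c) := inferInstanceAs (AddCommGroup (B × L))
instance : Module A (Ext c) := inferInstanceAs (Module A (B × L))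
instance : Mul (Ext c) :=
  ⟨fun x y => ((x.1 * y.1, x.1 • y.2 + y.1 • x.2 + c.f x.1 y.1) : B × L)⟩
instance : One (Ext c) := ⟨((1, -(c.f 1 1)) : B × L)⟩

variable {c}

theorem ext' {x y : Ext c} (h1 : x.1 = y.1) (h2 : x.2 = y.2) : x = y := Prod.ext h1 h2

@[simp] theorem mul_fst (x y : Ext c) : (x * y).1 = x.1 * y.1 := rfl
@[simp] theorem mul_snd (x y : Ext c) :
    (x * y).2 = x.1 • y.2 + y.1 • x.2 + c.f x.1 y.1 := rfl
@[simp] theorem one_fst : (1 : Ext c).1 = 1 := rfl
@[simp] theorem one_snd : (1 : Ext c).2 = -(c.f 1 1) := rfl
@[simp] theorem add_fst (x y : Ext c) : (x + y).1 = x.1 + y.1 := rfl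
@[simp] theorem add_snd (x y : Ext c) : (x + y).2 = x.2 + y.2 := rfl
@[simp] theorem zero_fst : (0 : Ext c).1 = 0 := rfl
@[simp] theorem zero_snd : (0 : Ext c).2 = 0 := rfl
@[simp] theorem smul_fst (a : A) (x : Ext c) : (a • x).1 = a • x.1 := rfl
@[simp] theorem smul_snd (a : A) (x : Ext c) : (a • x).2 = a • x.2 := rfl

variable (c)

theorem f_one_left (z : B) : c.f 1 z = z • c.f 1 1 := by
  have h := c.coc 1 1 z
  rw [one_mul, one_mul, one_smul] at h
  exact (add_left_cancel h).symm

theorem f_one_right (z : B) : c.f z 1 = z • c.f 1 1 := by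
  rw [c.symm, f_one_left]

instance : CommRing (Ext c) :=
  { (inferInstance : AddCommGroup (Ext c)) with
    mul := (· * ·)
    one := 1
    mul_assoc := fun x y z => by
      apply ext'
      · simp only [mul_fst, mul_assoc]
      · simp only [mul_fst, mul_snd, smul_add, mul_smul]
        have h := c.coc x.1 y.1 z.1
        linear_combination (norm := module) h
    one_mul := fun x => by
      apply ext'
      · simp only [mul_fst, one_fst, one_mul]
      · simp only [mul_snd, one_fst, one_snd, one_smul, smul_neg]
        rw [f_one_left c x.1]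
        abel
    mul_one := fun x => by
      apply ext'
      · simp only [mul_fst, one_fst, mul_one]
      · simp only [mul_snd, one_fst, one_snd, one_smul, smul_neg]
        rw [f_one_right c x.1]
        abel
    left_distrib := fun x y z => by
      apply ext'
      · simp only [mul_fst, add_fst, mul_add]
      · simp only [mul_snd, add_fst, add_snd, smul_add, add_smul, map_add]
        abel
    right_distrib := fun x y z => by
      apply ext'
      · simp only [mul_fst, add_fst, add_mul]
      · simp only [mul_snd, add_fst, add_snd, smul_add, add_smul, map_add, LinearMap.add_apply]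
        abel
    zero_mul := fun x => by
      apply ext'
      · simp only [mul_fst, zero_fst, zero_mul]
      · simp only [mul_snd, zero_fst, zero_snd, zero_smul, smul_zero, map_zero,
          LinearMap.zero_apply, add_zero]
    mul_zero := fun x => by
      apply ext'
      · simp only [mul_fst, zero_fst, mul_zero]
      · simp only [mul_snd, zero_fst, zero_snd, zero_smul, smul_zero, map_zero, add_zero]
    mul_comm := fun x y => by
      apply ext'
      · simp only [mul_fst, mul_comm]
      · simp only [mul_snd]
        rw [c.symm x.1 y.1]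
        abel }

instance : Algebra A (Ext c) :=
  Algebra.ofModule
    (fun a x y => by
      apply ext'
      · simp only [mul_fst, smul_fst, smul_mul_assoc]
      · simp only [mul_snd, smul_fst, smul_snd, smul_add, map_smul, LinearMap.smul_apply,
          smul_assoc]
        rw [smul_comm y.1 a x.2])
    (fun a x y => by
      apply ext'
      · simp only [mul_fst, smul_fst, mul_smul_comm]
      · simp only [mul_snd, smul_fst, smul_snd, smul_add, map_smul, smul_assoc]
        rw [smul_comm x.1 a y.2])

/-- The projection to `B`. -/
def proj : Ext c →ₐ[A] B where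
  toFun x := x.1
  map_one' := rfl
  map_mul' _ _ := rfl
  map_zero' := rfl
  map_add' _ _ := rfl
  commutes' a := by
    rw [Algebra.algebraMap_eq_smul_one, Algebra.algebraMap_eq_smul_one]
    rfl

theorem proj_apply (x : Ext c) : proj c x = x.1 := rfl

theorem proj_surjective : Function.Surjective (proj c) := fun b => ⟨((b, 0) : B × L), rfl⟩

theorem isNilpotent_ker : IsNilpotent (RingHom.ker (proj c : Ext c →+* B)) := by
  refine ⟨2, ?_⟩
  rw [pow_two, Ideal.zero_eq_bot, ← le_bot_iff, Ideal.mul_le]
  intro x hx y hy
  have hx' : x.1 = 0 := hx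
  have hy' : y.1 = 0 := hy
  rw [Ideal.mem_bot]
  apply ext'
  · simp only [mul_fst, hx', zero_mul, zero_fst]
  · simp only [mul_snd, hx', hy', zero_smul, map_zero, LinearMap.zero_apply, add_zero, zero_snd]

end Ext

open Ext in
theorem exists_coboundary [Algebra.FormallySmooth A B] (c : SymCocycle A B L) :
    ∃ g : B →ₗ[A] L, ∀ x y : B, c.f x y = x • g y - g (x * y) + y • g x := by
  let σ : B →ₐ[A] Ext c := Algebra.FormallySmooth.liftOfSurjective (AlgHom.id A B) (proj c)
    (proj_surjective c) (isNilpotent_ker c)
  have hσ : ∀ b, (σ b).1 = b := fun b =>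
    Algebra.FormallySmooth.liftOfSurjective_apply (AlgHom.id A B) (proj c)
      (proj_surjective c) (isNilpotent_ker c) b
  let G : B →ₗ[A] L :=
    { toFun := fun b => (σ b).2
      map_add' := fun x y => by rw [map_add]; rfl
      map_smul' := fun a x => by rw [map_smul]; rfl }
  have hG : ∀ b, G b = (σ b).2 := fun b => rfl
  refine ⟨-G, fun x y => ?_⟩
  have h := congrArg (fun z : Ext c => z.2) (map_mul σ x y)
  simp only [mul_snd, hσ] at h
  simp only [LinearMap.neg_apply, smul_neg, hG]
  rw [h]
  abel

end Groth.Agent.Helper22.Hoch
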