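import Groth.Agent.Lib.Helper22.Cosep
import Groth.Agent.Lib.Helper22.HopfInt

/-!
# Finite commutative Hopf algebras in characteristic zero are cosemisimple
-/

set_option autoImplicit false
noncomputable section
namespace Groth.Agent.Helper22.HopfCosep
open TensorProduct WithConv Groth.Agent.Helper22.HopfInt Groth.Agent.Helper22.Cosep
universe u v w

variable {K : Type u} [Field K] {A : Type v} [CommRing A] [HopfAlgebra K A] [Module.Finite K A]

theorem Lmap_τ_aux (b : A) (w : A ⊗[K] A) :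
    (TensorProduct.rid K A) (LinearMap.lTensor A (τ K A)
      ((TensorProduct.assoc K A A A) (w ⊗ₜ[K] b))) =
    (Module.finrank K A : K)⁻¹ • Algebra.trace A (A ⊗[K] A)
      (w * ((1 : A) ⊗ₜ[K] HopfAlgebra.antipode K b)) := by
  induction w using TensorProduct.induction_on with
  | zero => simp
  | tmul x y =>
    rw [TensorProduct.assoc_tmul, LinearMap.lTensor_tmul, TensorProduct.rid_tmul, τ_tmul,
      Algebra.TensorProduct.tmul_mul_tmul, mul_one, trace_tmul, mul_smul]
  | add x y hx hy =>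
    rw [TensorProduct.add_tmul, map_add, map_add, map_add, hx, hy, add_mul, map_add, smul_add]

theorem Rmap_τ_aux (a : A) (w : A ⊗[K] A) :
    (TensorProduct.lid K A) (LinearMap.rTensor A (τ K A)
      ((TensorProduct.assoc K A A A).symm (a ⊗ₜ[K] w))) =
    (Module.finrank K A : K)⁻¹ • Algebra.trace A (A ⊗[K] A)
      (((1 : A) ⊗ₜ[K] a) * TensorProduct.comm K A A
        ((HopfAlgebra.antipode K (A := A)).rTensor A w)) := by
  induction w using TensorProduct.induction_on with
  | zero => simp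
  | tmul x y =>
    rw [TensorProduct.assoc_symm_tmul, LinearMap.rTensor_tmul, TensorProduct.lid_tmul, τ_tmul,
      LinearMap.rTensor_tmul, TensorProduct.comm_tmul, Algebra.TensorProduct.tmul_mul_tmul,
      one_mul, trace_tmul, mul_smul]
  | add x y hx hy =>
    rw [TensorProduct.tmul_add, map_add, map_add, map_add, hx, hy, map_add, map_add, mul_add,
      map_add, smul_add]

theorem Lmap_eq_Rmap : Lmap (τ K A) = Rmap (τ K A) := by
  apply TensorProduct.ext'
  intro a b
  have hL : Lmap (τ K A) (a ⊗ₜ[K] b) = (Module.finrank K A : K)⁻¹ • Algebra.trace A (A ⊗[K] A)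
      (Coalgebra.comul (R := K) a * ((1 : A) ⊗ₜ[K] HopfAlgebra.antipode K b)) := by
    rw [← Lmap_τ_aux]
    rfl
  have hR : Rmap (τ K A) (a ⊗ₜ[K] b) = (Module.finrank K A : K)⁻¹ • Algebra.trace A (A ⊗[K] A)
      (((1 : A) ⊗ₜ[K] a) * TensorProduct.comm K A A
        ((HopfAlgebra.antipode K (A := A)).rTensor A (Coalgebra.comul (R := K) b))) := by
    rw [← Rmap_τ_aux]
    rfl
  rw [hL, hR, ← inv_I2_mul_I1_apply]
  congr 1
  rw [← trace_θ (((1 : A) ⊗ₜ[K] a) *
    ((I2 (K := K) (A := A))⁻¹ * I1 : WithConv (A →ₐ[K] A ⊗[K] A)) b)]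
  congr 1
  have h1 : θ (K := K) (A := A) (((1 : A) ⊗ₜ[K] a) *
      ((I2 (K := K) (A := A))⁻¹ * I1 : WithConv (A →ₐ[K] A ⊗[K] A)) b) =
      θ (K := K) (A := A) ((1 : A) ⊗ₜ[K] a) *
        θ (K := K) (A := A) (((I2 (K := K) (A := A))⁻¹ * I1 : WithConv (A →ₐ[K] A ⊗[K] A)) b) :=
    map_mul _ _ _
  rw [h1, θ_inv_I2_mul_I1, θ_tmul]
  change _ = (1 : A ⊗[K] A) * Coalgebra.comul (R := K) a * _
  rw [one_mul]

/-- every comodule over a finite commutative Hopf algebra in characteristic zero is completely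
reducible -/
theorem isSemisimpleComod [CharZero K] (V : Type w) [AddCommGroup V] [Module K V]
    [HopfRep.Comod K A V] : HopfRep.IsSemisimpleComod K A V :=
  Cosep.isSemisimpleComod (τ K A) Lmap_eq_Rmap τ_comul

end Groth.Agent.Helper22.HopfCosep
end
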