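import Mathlib

/-!
# Integral closure of a DVR in a Galois extension with trivial residual Galois action
(helper library for S19917)

Let `R` be a DVR with fraction field `K`, `L / K` a finite Galois extension of degree `r` with
`r` invertible in the residue field of `R`, `B` the integral closure of `R` in `L`, and
`χ : B →+* k` a ring homomorphism to a field which kills the maximal ideal of `R` and is invariant
under `Gal(L/K)` (e.g. the reduction at a place at which the whole Galois group is inertia).

* `main`: `ker χ` is the only maximal ideal of `B`, its ramification index over `R` is `r`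
  (trace argument for `f = 1`, then `∑ e f = n`), and a uniformizer `ϖ` of `R` is a unit times
  the `r`-th power of an element of `B`.
-/

set_option autoImplicit false
set_option linter.deprecated false
set_option linter.unusedVariables false
set_option linter.style.haveILetI false

universe u

open IsLocalRing

namespace Groth.Agent.Helper22.InerLA

theorem ramIdx_eq {R S : Type*} [CommRing R] [IsDomain R] [IsDiscreteValuationRing R]
    [CommRing S] [IsDomain S] [IsDiscreteValuationRing S] [Algebra R S]
    (πR : R) (hπR : Irreducible πR) (πS : S) (hπS : Irreducible πS) (n : ℕ) (u : Sˣ)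
    (h : algebraMap R S πR * (u : S) = πS ^ n) :
    Ideal.ramificationIdx' (maximalIdeal R) (maximalIdeal S) = n := by
  have hmap : Ideal.map (algebraMap R S) (maximalIdeal R) = (maximalIdeal S) ^ n := by
    rw [hπR.maximalIdeal_eq, hπS.maximalIdeal_eq, Ideal.map_span, Set.image_singleton,
      Ideal.span_singleton_pow, Ideal.span_singleton_eq_span_singleton]
    exact ⟨u, h⟩
  apply Ideal.ramificationIdx'_spec
  · rw [hmap]
  · rw [hmap, hπS.maximalIdeal_eq, Ideal.span_singleton_pow, Ideal.span_singleton_pow,
      Ideal.span_singleton_le_span_singleton, pow_dvd_pow_iff hπS.ne_zero hπS.not_isUnit]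
    omega

variable (R K L : Type u) [CommRing R] [IsDomain R] [IsDiscreteValuationRing R] [Field K]
  [Algebra R K] [IsFractionRing R K] [Field L] [Algebra K L] [Algebra R L] [IsScalarTower R K L]

include K in
theorem algebraMap_injective : Function.Injective (algebraMap R L) := by
  rw [IsScalarTower.algebraMap_eq R K L]
  exact (algebraMap K L).injective.comp (IsFractionRing.injective R K)

variable [FiniteDimensional K L] [IsGalois K L]

theorem main (k : Type u) [Field k] (χ : integralClosure R L →+* k)
    (hχm : ∀ a ∈ maximalIdeal R, χ (algebraMap R (integralClosure R L) a) = 0)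
    (hχσ : ∀ (σ : L ≃ₐ[K] L) (b : integralClosure R L),
      χ (galRestrict R K L (integralClosure R L) σ b) = χ b)
    (r : ℕ) (hr : Module.finrank K L = r) (hrk : ((r : ℕ) : ResidueField R) ≠ 0) :
    (∀ P : Ideal (integralClosure R L), P.IsMaximal → P = RingHom.ker χ) ∧
    (RingHom.ker χ).ramificationIdx R = r ∧
    (∀ ϖ : R, Irreducible ϖ → ∃ (θ : integralClosure R L) (u : (integralClosure R L)ˣ),
        algebraMap R (integralClosure R L) ϖ = (u : integralClosure R L) * θ ^ r) := by
  classical
  have hinj : Function.Injective (algebraMap R L) := algebraMap_injective R K L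
  haveI : FaithfulSMul R L := (faithfulSMul_iff_algebraMap_injective R L).mpr hinj
  haveI hDed : IsDedekindDomain (integralClosure R L) := integralClosure.isDedekindDomain R K L
  haveI hfin : Module.Finite R (integralClosure R L) :=
    IsIntegralClosure.finite R K L (integralClosure R L)
  haveI hfrac : IsFractionRing (integralClosure R L) L :=
    integralClosure.isFractionRing_of_finite_extension K L
  haveI htf : Module.IsTorsionFree R (integralClosure R L) := inferInstance
  haveI hflat : Module.Flat R (integralClosure R L) := inferInstance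
  obtain ⟨P₀, hP₀⟩ : ∃ P₀ : Ideal (integralClosure R L), P₀ = RingHom.ker χ := ⟨_, rfl⟩
  have hmemP₀ : ∀ b, b ∈ P₀ ↔ χ b = 0 := by
    intro b; rw [hP₀, RingHom.mem_ker]
  haveI hP₀prime : P₀.IsPrime := by rw [hP₀]; exact RingHom.ker_isPrime χ
  have hBne : ∀ ϖ : R, ϖ ≠ 0 → algebraMap R (integralClosure R L) ϖ ≠ 0 := by
    intro ϖ hϖ0 h0
    apply hϖ0
    apply hinj
    rw [map_zero, IsScalarTower.algebraMap_apply R (integralClosure R L) L, h0, map_zero]
  obtain ⟨ϖ, hϖ⟩ := IsDiscreteValuationRing.exists_irreducible R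
  have hϖmem : ϖ ∈ maximalIdeal R := (mem_maximalIdeal ϖ).mpr hϖ.not_isUnit
  have hϖB0 : algebraMap R (integralClosure R L) ϖ ≠ 0 := hBne ϖ hϖ.ne_zero
  have hP₀bot : P₀ ≠ ⊥ := by
    intro hb
    apply hϖB0
    have h1 : algebraMap R (integralClosure R L) ϖ ∈ P₀ := (hmemP₀ _).mpr (hχm ϖ hϖmem)
    rw [hb, Ideal.mem_bot] at h1
    exact h1
  haveI hP₀max : P₀.IsMaximal := hP₀prime.isMaximal hP₀bot
  have hlies : ∀ Q : Ideal (integralClosure R L), Q.IsMaximal →
      Q.LiesOver (maximalIdeal R) := by
    intro Q hQ
    haveI := hQ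
    exact ⟨(eq_maximalIdeal (Ideal.IsMaximal.under R Q)).symm⟩
  haveI hlP₀ : P₀.LiesOver (maximalIdeal R) := hlies P₀ hP₀max
  -- all maximal ideals coincide with `P₀`
  have hall : ∀ Q : Ideal (integralClosure R L), Q.IsMaximal → Q = P₀ := by
    intro Q hQ
    haveI hQl := hlies Q hQ
    obtain ⟨σ, hσ⟩ := Ideal.exists_comap_galRestrict_eq R K L (integralClosure R L)
      (p := maximalIdeal R) (P₁ := P₀) (P₂ := Q) ⟨hP₀prime, hlP₀⟩ ⟨hQ.isPrime, hQl⟩
    rw [← hσ]
    ext b
    rw [Ideal.mem_comap, hmemP₀, hmemP₀, hχσ σ b]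
  -- `r` is a unit of `R`
  have hrunit : IsUnit ((r : ℕ) : R) := by
    have h1 : ((r : ℕ) : R) ∉ maximalIdeal R := by
      intro hmem
      apply hrk
      have h2 := (residue_eq_zero_iff ((r : ℕ) : R)).mpr hmem
      rwa [map_natCast] at h2
    exact notMem_maximalIdeal.mp h1
  obtain ⟨s, hs⟩ := hrunit.exists_left_inv
  -- the trace argument
  have htrace : ∀ b : integralClosure R L,
      ∃ a : R, χ (algebraMap R (integralClosure R L) a) = χ b := by
    intro b
    have hb : IsIntegral R (b : L) := b.2
    have hint : IsIntegral R (Algebra.trace K L (b : L)) := Algebra.isIntegral_trace hb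
    obtain ⟨a, ha⟩ := IsIntegrallyClosed.algebraMap_eq_of_integral hint
    have hsum : algebraMap R (integralClosure R L) a =
        ∑ σ : L ≃ₐ[K] L, galRestrict R K L (integralClosure R L) σ b := by
      apply IsFractionRing.injective (integralClosure R L) L
      rw [← IsScalarTower.algebraMap_apply R (integralClosure R L) L,
        IsScalarTower.algebraMap_apply R K L, ha, trace_eq_sum_automorphisms, map_sum]
      refine Finset.sum_congr rfl (fun σ _ => ?_)
      rw [algebraMap_galRestrict_apply]
      rfl
    have h1 : ∑ σ : L ≃ₐ[K] L, χ (galRestrict R K L (integralClosure R L) σ b) =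
        ∑ _σ : L ≃ₐ[K] L, χ b :=
      Finset.sum_congr rfl (fun σ _ => hχσ σ b)
    have hχsum : χ (algebraMap R (integralClosure R L) a) = ((r : ℕ) : k) * χ b := by
      rw [hsum, map_sum, h1, Finset.sum_const, Finset.card_univ, nsmul_eq_mul,
        ← Nat.card_eq_fintype_card, IsGalois.card_aut_eq_finrank K L, hr]
    have h2 : χ (algebraMap R (integralClosure R L) s) * ((r : ℕ) : k) = 1 := by
      have h3 : χ (algebraMap R (integralClosure R L) (s * ((r : ℕ) : R))) = 1 := by
        rw [hs, map_one, map_one]
      rwa [map_mul, map_mul, map_natCast, map_natCast] at h3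
    refine ⟨s * a, ?_⟩
    rw [map_mul, map_mul, hχsum, ← mul_assoc, h2, one_mul]
  -- inertia degree one
  have hf : P₀.inertiaDeg R = 1 := by
    rw [Ideal.inertiaDeg_eq_of_isMaximal (maximalIdeal R) P₀]
    letI : Field (R ⧸ maximalIdeal R) := Ideal.Quotient.field _
    refine (finrank_eq_one_iff_of_nonzero' (1 : (integralClosure R L) ⧸ P₀) one_ne_zero).mpr ?_
    intro w
    obtain ⟨b, rfl⟩ := Ideal.Quotient.mk_surjective w
    obtain ⟨a, ha⟩ := htrace b
    refine ⟨Ideal.Quotient.mk _ a, ?_⟩
    rw [← Algebra.algebraMap_eq_smul_one, Ideal.Quotient.algebraMap_mk_of_liesOver,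
      Ideal.Quotient.eq, hmemP₀, map_sub, ha, sub_self]
  -- the fundamental identity
  have hfinite : (Ideal.primesOver (maximalIdeal R) (integralClosure R L)).Finite :=
    Algebra.QuasiFinite.finite_primesOver (maximalIdeal R)
  letI : Fintype (Ideal.primesOver (maximalIdeal R) (integralClosure R L)) := hfinite.fintype
  have hq : ∀ q : Ideal.primesOver (maximalIdeal R) (integralClosure R L), q.1 = P₀ := by
    intro q
    have hqprime : q.1.IsPrime := q.2.1
    haveI hqlies : q.1.LiesOver (maximalIdeal R) := q.2.2
    have hqbot : q.1 ≠ ⊥ := by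
      intro hb
      have h2 : ϖ ∈ q.1.under R := by
        rw [← Ideal.over_def q.1 (maximalIdeal R)]; exact hϖmem
      have h1 : algebraMap R (integralClosure R L) ϖ ∈ q.1 := h2
      rw [hb, Ideal.mem_bot] at h1
      exact hϖB0 h1
    exact hall q.1 (hqprime.isMaximal hqbot)
  have hP₀mem : P₀ ∈ Ideal.primesOver (maximalIdeal R) (integralClosure R L) :=
    ⟨hP₀prime, hlP₀⟩
  have hsumf := Ideal.sum_ramification_inertia_eq_finrank (maximalIdeal R) (integralClosure R L)
  rw [Fintype.sum_eq_single
    (⟨P₀, hP₀mem⟩ : Ideal.primesOver (maximalIdeal R) (integralClosure R L))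
    (fun q hq' => absurd (Subtype.ext (hq q)) hq')] at hsumf
  have hsumf' : P₀.ramificationIdx R * P₀.inertiaDeg R =
      Module.finrank R (integralClosure R L) := hsumf
  rw [hf, mul_one, ← IsFractionRing.finrank_eq R K (integralClosure R L) L, hr] at hsumf'
  -- `B` is a DVR
  haveI hloc : IsLocalRing (integralClosure R L) :=
    IsLocalRing.of_unique_max_ideal ⟨P₀, hP₀max, fun Q hQ => hall Q hQ⟩
  have hnf : ¬ IsField (integralClosure R L) := by
    rw [Ring.not_isField_iff_exists_ideal_bot_lt_and_lt_top]
    exact ⟨P₀, bot_lt_iff_ne_bot.mpr hP₀bot, lt_top_iff_ne_top.mpr hP₀prime.ne_top⟩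
  haveI hdvr : IsDiscreteValuationRing (integralClosure R L) :=
    ((IsDiscreteValuationRing.TFAE (integralClosure R L) hnf).out 0 2).mpr hDed
  have hmaxeq : maximalIdeal (integralClosure R L) = P₀ := hall _ (maximalIdeal.isMaximal _)
  refine ⟨fun P hP => by rw [← hP₀]; exact hall P hP, by rw [← hP₀]; exact hsumf', ?_⟩
  intro ϖ' hϖ'
  obtain ⟨θ, hθ⟩ := IsDiscreteValuationRing.exists_irreducible (integralClosure R L)
  obtain ⟨n, u, hnu⟩ :=
    IsDiscreteValuationRing.eq_unit_mul_pow_irreducible (hBne ϖ' hϖ'.ne_zero) hθ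
  have hram : (maximalIdeal R).ramificationIdx' (maximalIdeal (integralClosure R L)) = n := by
    refine ramIdx_eq ϖ' hϖ' θ hθ n u⁻¹ ?_
    rw [hnu, mul_comm ((u : (integralClosure R L)ˣ) : integralClosure R L), mul_assoc,
      Units.mul_inv, mul_one]
  haveI hlm : (maximalIdeal (integralClosure R L)).LiesOver (maximalIdeal R) :=
    hlies _ (maximalIdeal.isMaximal _)
  have hconv := Ideal.ramificationIdx'_eq_ramificationIdx (maximalIdeal R)
    (maximalIdeal (integralClosure R L)) (IsDiscreteValuationRing.not_a_field R)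
  rw [hram, hmaxeq, hsumf'] at hconv
  refine ⟨θ, u, ?_⟩
  rw [← hconv]
  exact hnu

end Groth.Agent.Helper22.InerLA
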