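import Mathlib
import Groth.Prelude.Def_SGA7a
import Groth.Agent.Lib.Helper22.InerLA

/-!
# Tame Kummer theory when the whole Galois group is inertia (helper library for S19917)

`R` is a DVR with fraction field `K`, `Ω` a separable closure of `K`, `W` a valuation subring of `Ω`
dominating `R`, every `K`-automorphism of `Ω` is in the inertia group at `W`, and `r` is an integer
invertible in the residue field of `R`.

* `eq_one_of_pow_eq_one`: an `r`-th root of unity congruent to `1` modulo `𝔪_W` is `1`.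
* `mem_of_pow_mem`: a `W`-unit whose `r`-th power lies in an intermediate field `M` lies in `M`.
* `exists_galois`: `K(ϖ^{1/r})` is Galois of degree `r`.
* `galois_data`: for `M / K` Galois of degree `r`, the integral closure of `R` in `M` is totally
  ramified and `ϖ = u θ^r` with `θ, u ∈ M`, `u` a `W`-unit.
* `eq_adjoin`: such an `M` equals `K(ϖ^{1/r})`.
-/

set_option autoImplicit false
set_option linter.deprecated false
set_option linter.unusedVariables false
set_option linter.style.haveILetI false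

universe u

open IsLocalRing Polynomial IntermediateField

namespace Groth.Agent.Helper22.InerKum

variable {R K Ω : Type u} [CommRing R] [IsDomain R] [IsDiscreteValuationRing R] [Field K]
  [Algebra R K] [IsFractionRing R K] [Field Ω] [Algebra K Ω] [Algebra R Ω] [IsScalarTower R K Ω]
  (W : ValuationSubring Ω)

theorem val_eq_one_of_mem {x : Ω} (h0 : x ≠ 0) (h1 : x ∈ W) (h2 : x⁻¹ ∈ W) :
    W.valuation x = 1 := by
  have a1 := (W.valuation_le_one_iff x).mpr h1
  have a2 := (W.valuation_le_one_iff _).mpr h2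
  rw [map_inv₀] at a2
  have hpos : 0 < W.valuation x := zero_lt_iff.mpr ((Valuation.ne_zero_iff _).mpr h0)
  exact le_antisymm a1 ((inv_le_one₀ hpos).mp a2)

theorem res_eq_zero_iff (x : Ω) (hx : x ∈ W) :
    IsLocalRing.residue ↥W ⟨x, hx⟩ = 0 ↔ W.valuation x < 1 :=
  (IsLocalRing.residue_eq_zero_iff _).trans (ValuationSubring.valuation_lt_one_iff W ⟨x, hx⟩)

theorem val_eq_one_of_pow {x : Ω} {n : ℕ} (hn : 0 < n) (h : W.valuation (x ^ n) = 1) :
    W.valuation x = 1 := by
  rw [map_pow] at h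
  exact (pow_eq_one_iff_of_nonneg zero_le' hn.ne').mp h

include K in
theorem algMap_ne_zero {a : R} (ha : a ≠ 0) : algebraMap R Ω a ≠ 0 := by
  rw [IsScalarTower.algebraMap_apply R K Ω]
  intro h0
  have h1 := (_root_.map_eq_zero (algebraMap K Ω)).mp h0
  exact ha ((IsFractionRing.injective R K) (by rw [h1, map_zero]))

theorem algMap_mem (hW : SGA7.LiesOver K R W) (a : R) : algebraMap R Ω a ∈ W := by
  rw [IsScalarTower.algebraMap_apply R K Ω]; exact hW.1 a

theorem algMap_val_lt (hW : SGA7.LiesOver K R W) (a : R) (ha : a ∈ maximalIdeal R) :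
    W.valuation (algebraMap R Ω a) < 1 := by
  rw [IsScalarTower.algebraMap_apply R K Ω]; exact hW.2 a ha

theorem algMap_val_unit (hW : SGA7.LiesOver K R W) (a : R) (ha : IsUnit a) :
    W.valuation (algebraMap R Ω a) = 1 := by
  obtain ⟨b, hb⟩ := ha.exists_right_inv
  have h1 : algebraMap R Ω a * algebraMap R Ω b = 1 := by rw [← map_mul, hb, map_one]
  have h0 : algebraMap R Ω a ≠ 0 := left_ne_zero_of_mul_eq_one h1
  refine val_eq_one_of_mem W h0 (algMap_mem W hW a) ?_
  rw [← eq_inv_of_mul_eq_one_right h1]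
  exact algMap_mem W hW b

theorem val_natCast (hW : SGA7.LiesOver K R W) (r : ℕ)
    (hrk : ((r : ℕ) : ResidueField R) ≠ 0) : W.valuation ((r : ℕ) : Ω) = 1 := by
  have h1 : ((r : ℕ) : R) ∉ maximalIdeal R := by
    intro hmem
    apply hrk
    have h2 := (residue_eq_zero_iff ((r : ℕ) : R)).mpr hmem
    rwa [map_natCast] at h2
  have h3 := algMap_val_unit W hW _ (notMem_maximalIdeal.mp h1)
  rwa [map_natCast] at h3

theorem mem_of_isIntegral (hW : SGA7.LiesOver K R W) (x : Ω) (hx : IsIntegral R x) : x ∈ W := by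
  obtain ⟨p, hpm, hpx⟩ := hx
  let g : R →+* W := RingHom.codRestrict (algebraMap R Ω) W (algMap_mem W hW)
  have hcomp : (algebraMap W Ω).comp g = algebraMap R Ω := RingHom.ext fun a => rfl
  have hint : IsIntegral W x := by
    refine ⟨p.map g, hpm.map g, ?_⟩
    rw [Polynomial.eval₂_map, hcomp]
    exact hpx
  obtain ⟨y, hy⟩ := IsIntegrallyClosed.isIntegral_iff.mp hint
  rw [← hy]
  exact y.2

/-- An `r`-th root of unity congruent to `1` is `1` (for `r` a unit of `W`). -/
theorem eq_one_of_pow_eq_one (r : ℕ) (hr : 0 < r) (hvr : W.valuation ((r : ℕ) : Ω) = 1)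
    (η : Ω) (hη : η ^ r = 1) (hlt : W.valuation (η - 1) < 1) : η = 1 := by
  by_contra hne
  have hsum : ∑ i ∈ Finset.range r, η ^ i = 0 := by
    have h1 := mul_geom_sum η r
    rw [hη, sub_self] at h1
    rcases mul_eq_zero.mp h1 with h2 | h2
    · exact absurd (sub_eq_zero.mp h2) hne
    · exact h2
  have hv1 : W.valuation η = 1 := val_eq_one_of_pow W hr (by rw [hη, map_one])
  have hi : ∀ i : ℕ, W.valuation (η ^ i - 1) < 1 := by
    intro i
    induction i with
    | zero => rw [pow_zero, sub_self, map_zero]; exact zero_lt_one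
    | succ i ih =>
      have h2 : η ^ (i + 1) - 1 = η * (η ^ i - 1) + (η - 1) := by ring
      rw [h2]
      apply Valuation.map_add_lt
      · rw [map_mul, hv1, one_mul]; exact ih
      · exact hlt
  have h3 : ∑ i ∈ Finset.range r, (η ^ i - 1) = -((r : ℕ) : Ω) := by
    rw [Finset.sum_sub_distrib, hsum, Finset.sum_const, Finset.card_range, nsmul_eq_mul, mul_one,
      zero_sub]
  have h4 : W.valuation (-((r : ℕ) : Ω)) < 1 := by
    rw [← h3]
    exact Valuation.map_sum_lt _ one_ne_zero (fun i _ => hi i)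
  rw [Valuation.map_neg, hvr] at h4
  exact lt_irrefl _ h4

section sep

variable [IsSepClosure K Ω]

/-- Kummer descent: a `W`-unit whose `r`-th power lies in `M` lies in `M`. -/
theorem mem_of_pow_mem (hI : ∀ σ : Ω ≃ₐ[K] Ω, SGA7.IsInertia W σ) (r : ℕ) (hr : 0 < r)
    (hvr : W.valuation ((r : ℕ) : Ω) = 1) (M : IntermediateField K Ω) (y : Ω)
    (hy1 : W.valuation y = 1) (hyr : y ^ r ∈ M) : y ∈ M := by
  haveI : IsGalois K Ω := IsSepClosure.isGalois
  haveI : IsGalois M Ω := IsGalois.tower_top_of_isGalois K M Ω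
  have hy0 : y ≠ 0 := by
    intro h0; rw [h0, map_zero] at hy1; exact zero_ne_one hy1
  have hyW : y ∈ W := (W.valuation_le_one_iff y).mp hy1.le
  have hfix : ∀ τ : Ω ≃ₐ[M] Ω, τ y = y := by
    intro τ
    obtain ⟨_, hlt⟩ := hI (τ.restrictScalars K) y hyW
    rw [AlgEquiv.restrictScalars_apply] at hlt
    have hη : (τ y / y) ^ r = 1 := by
      have h1 : τ (y ^ r) = y ^ r := by
        have h2 : y ^ r = algebraMap M Ω ⟨y ^ r, hyr⟩ := rfl
        rw [h2, τ.commutes]
      rw [div_pow, ← map_pow, h1, div_self (pow_ne_zero r hy0)]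
    have hlt' : W.valuation (τ y / y - 1) < 1 := by
      have h3 : τ y / y - 1 = (τ y - y) / y := by field_simp
      rw [h3, map_div₀, hy1, div_one]
      exact hlt
    have h4 := eq_one_of_pow_eq_one W r hr hvr _ hη hlt'
    exact (div_eq_one_iff_eq hy0).mp h4
  obtain ⟨m, hm⟩ := (InfiniteGalois.mem_range_algebraMap_iff_fixed (k := ↥M) (K := Ω) y).mpr hfix
  rw [← hm]
  exact m.2

/-- `K(ϖ^{1/r})` is Galois of degree `r`. -/
theorem exists_galois (hW : SGA7.LiesOver K R W) (hI : ∀ σ : Ω ≃ₐ[K] Ω, SGA7.IsInertia W σ)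
    (r : ℕ) (hr : 0 < r) (hvr : W.valuation ((r : ℕ) : Ω) = 1) (ϖ : R) (hϖ : Irreducible ϖ)
    (t : Ω) (ht : t ^ r = algebraMap R Ω ϖ) :
    Module.finrank K K⟮t⟯ = r ∧ IsGalois K K⟮t⟯ := by
  haveI : IsGalois K Ω := IsSepClosure.isGalois
  have hϖmem : ϖ ∈ maximalIdeal R := (mem_maximalIdeal ϖ).mpr hϖ.not_isUnit
  have hϖ0 : ϖ ≠ 0 := hϖ.ne_zero
  have hπ : maximalIdeal R = Ideal.span {ϖ} := hϖ.maximalIdeal_eq
  have hmonic : (X ^ r - C ϖ : R[X]).Monic := monic_X_pow_sub_C ϖ hr.ne'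
  have hnd : (X ^ r - C ϖ : R[X]).natDegree = r := natDegree_X_pow_sub_C
  have hcoeff : ∀ i, (X ^ r - C ϖ : R[X]).coeff i =
      (if i = r then 1 else 0) - (if i = 0 then ϖ else 0) := by
    intro i; rw [coeff_sub, coeff_X_pow, coeff_C]
  have heis : (X ^ r - C ϖ : R[X]).IsEisensteinAt (maximalIdeal R) := by
    refine ⟨?_, ?_, ?_⟩
    · rw [hmonic.leadingCoeff]
      exact (Ideal.ne_top_iff_one _).mp (maximalIdeal.isMaximal R).ne_top
    · intro i hi
      rw [hnd] at hi
      rw [hcoeff, if_neg (show ¬ (i = r) by omega), zero_sub]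
      refine neg_mem ?_
      split_ifs
      · exact hϖmem
      · exact Ideal.zero_mem _
    · rw [hcoeff, if_neg (show ¬ (0 = r) by omega), if_pos rfl, zero_sub, hπ,
        Ideal.span_singleton_pow, Ideal.mem_span_singleton, dvd_neg]
      intro hdvd
      have h1 : ϖ ∣ 1 := by
        have h2 : ϖ * ϖ ∣ ϖ * 1 := by rw [mul_one, ← pow_two]; exact hdvd
        exact (mul_dvd_mul_iff_left hϖ0).mp h2
      exact hϖ.not_isUnit (isUnit_of_dvd_one h1)
  have hirr : Irreducible (X ^ r - C ϖ : R[X]) :=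
    heis.irreducible (maximalIdeal.isMaximal R).isPrime hmonic.isPrimitive
      (by rw [hnd]; exact hr)
  have hgirr : Irreducible ((X ^ r - C ϖ : R[X]).map (algebraMap R K)) :=
    (hmonic.irreducible_iff_irreducible_map_fraction_map (K := K)).mp hirr
  have hg' : (X ^ r - C ϖ : R[X]).map (algebraMap R K) = X ^ r - C (algebraMap R K ϖ) := by
    rw [Polynomial.map_sub, Polynomial.map_pow, Polynomial.map_X, Polynomial.map_C]
  rw [hg'] at hgirr
  have haeval : Polynomial.aeval t (X ^ r - C (algebraMap R K ϖ) : K[X]) = 0 := by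
    rw [map_sub, map_pow, aeval_X, aeval_C, ht, IsScalarTower.algebraMap_apply R K Ω, sub_self]
  have hmin : (X ^ r - C (algebraMap R K ϖ) : K[X]) = minpoly K t :=
    minpoly.eq_of_irreducible_of_monic hgirr haeval (monic_X_pow_sub_C _ hr.ne')
  have hint : IsIntegral K t := Algebra.IsSeparable.isIntegral K t
  have hfin : Module.finrank K K⟮t⟯ = r := by
    rw [IntermediateField.adjoin.finrank hint, ← hmin, natDegree_X_pow_sub_C]
  refine ⟨hfin, ?_⟩
  have hϖΩ : algebraMap R Ω ϖ ≠ 0 := algMap_ne_zero (K := K) hϖ0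
  have ht0 : t ≠ 0 := by
    intro h0
    rw [h0, zero_pow hr.ne'] at ht
    exact hϖΩ ht.symm
  have hnormal : Normal K K⟮t⟯ := by
    rw [IntermediateField.normal_iff_forall_map_le']
    intro σ
    rw [IntermediateField.adjoin_map, Set.image_singleton, IntermediateField.adjoin_simple_le_iff]
    have hζr : (σ t / t) ^ r = 1 := by
      have h1 : σ (t ^ r) = t ^ r := by
        rw [ht, IsScalarTower.algebraMap_apply R K Ω, σ.commutes]
      rw [div_pow, ← map_pow, h1, div_self (pow_ne_zero r ht0)]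
    have hζv : W.valuation (σ t / t) = 1 := val_eq_one_of_pow W hr (by rw [hζr, map_one])
    have hζmem : σ t / t ∈ K⟮t⟯ :=
      mem_of_pow_mem W hI r hr hvr K⟮t⟯ _ hζv (by rw [hζr]; exact one_mem _)
    have h5 : σ t / t * t = σ t := div_mul_cancel₀ _ ht0
    have h6 : σ t ∈ K⟮t⟯ := by
      rw [← h5]
      exact mul_mem hζmem (IntermediateField.mem_adjoin_simple_self K t)
    exact h6
  exact isGalois_iff.mpr ⟨inferInstance, hnormal⟩

theorem algMap_tower (M : IntermediateField K Ω) (a : R) :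
    algebraMap M Ω (algebraMap R M a) = algebraMap R Ω a := by
  rw [IsScalarTower.algebraMap_apply R K M, ← IsScalarTower.algebraMap_apply K M Ω,
    ← IsScalarTower.algebraMap_apply R K Ω]

/-- Local structure of a Galois extension of degree `r` inside `Ω`. -/
theorem galois_data (hW : SGA7.LiesOver K R W) (hI : ∀ σ : Ω ≃ₐ[K] Ω, SGA7.IsInertia W σ)
    (r : ℕ) (hrk : ((r : ℕ) : ResidueField R) ≠ 0)
    (M : IntermediateField K Ω) (hM : Module.finrank K M = r) [IsGalois K M]
    [FiniteDimensional K M] :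
    (∀ P : Ideal (integralClosure R M), P.IsMaximal → P.ramificationIdx R = r) ∧
    (∀ ϖ : R, Irreducible ϖ → ∃ θ u : Ω, θ ∈ M ∧ u ∈ M ∧ W.valuation u = 1 ∧
      algebraMap R Ω ϖ = u * θ ^ r) := by
  haveI : IsGalois K Ω := IsSepClosure.isGalois
  obtain ⟨φ, hφdef⟩ : ∃ φ : integralClosure R M →+* Ω,
      ∀ b, φ b = algebraMap M Ω (algebraMap (integralClosure R M) M b) :=
    ⟨(algebraMap M Ω).comp (algebraMap (integralClosure R M) M), fun b => rfl⟩
  have hφR : ∀ a : R, φ (algebraMap R (integralClosure R M) a) = algebraMap R Ω a := by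
    intro a
    rw [hφdef, ← IsScalarTower.algebraMap_apply R (integralClosure R M) M, algMap_tower]
  have hφσ : ∀ (σ : M ≃ₐ[K] M) (b : integralClosure R M),
      φ (galRestrict R K M (integralClosure R M) σ b) = (σ.liftNormal Ω) (φ b) := by
    intro σ b
    rw [hφdef, hφdef, algebraMap_galRestrict_apply, AlgEquiv.liftNormal_commutes]
  have hφM : ∀ b, φ b ∈ M := by
    intro b
    rw [hφdef]
    exact (algebraMap (integralClosure R M) M b).2
  have hφW : ∀ b, φ b ∈ W := by
    intro b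
    have hb : IsIntegral R (algebraMap (integralClosure R M) M b) := b.2
    have hb' : IsIntegral R (M.val (algebraMap (integralClosure R M) M b)) := hb.map M.val
    rw [hφdef]
    exact mem_of_isIntegral W hW _ hb'
  obtain ⟨χ, hχdef⟩ : ∃ χ : integralClosure R M →+* ResidueField W,
      ∀ b, χ b = residue W ⟨φ b, hφW b⟩ :=
    ⟨(residue W).comp (RingHom.codRestrict φ W hφW), fun b => rfl⟩
  have hχm : ∀ a ∈ maximalIdeal R, χ (algebraMap R (integralClosure R M) a) = 0 := by
    intro a ha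
    rw [hχdef, res_eq_zero_iff, hφR]
    exact algMap_val_lt W hW a ha
  have hχσ : ∀ (σ : M ≃ₐ[K] M) (b : integralClosure R M),
      χ (galRestrict R K M (integralClosure R M) σ b) = χ b := by
    intro σ b
    rw [hχdef, hχdef, ← sub_eq_zero, ← map_sub]
    have hsub : (⟨φ (galRestrict R K M (integralClosure R M) σ b), hφW _⟩ : W) - ⟨φ b, hφW b⟩ =
        ⟨φ (galRestrict R K M (integralClosure R M) σ b) - φ b, sub_mem (hφW _) (hφW b)⟩ := rfl
    rw [hsub, res_eq_zero_iff, hφσ]
    exact (hI (σ.liftNormal Ω) (φ b) (hφW b)).2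
  obtain ⟨h1, h2, h3⟩ := Groth.Agent.Helper22.InerLA.main R K M (ResidueField W) χ hχm hχσ r hM hrk
  refine ⟨fun P hP => by rw [h1 P hP]; exact h2, ?_⟩
  intro ϖ hϖ
  obtain ⟨θ, u, hθu⟩ := h3 ϖ hϖ
  refine ⟨φ θ, φ u, hφM θ, hφM u, ?_, ?_⟩
  · have hmul : φ (u : integralClosure R M) * φ ((u⁻¹ : (integralClosure R M)ˣ) : integralClosure R M) = 1 := by
      rw [← map_mul, Units.mul_inv, map_one]
    have h0 : φ (u : integralClosure R M) ≠ 0 := left_ne_zero_of_mul_eq_one hmul
    refine val_eq_one_of_mem W h0 (hφW _) ?_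
    rw [← eq_inv_of_mul_eq_one_right hmul]
    exact hφW _
  · rw [← hφR, hθu, map_mul, map_pow]

/-- A Galois extension of degree `r` containing suitable `θ, u` is `K(ϖ^{1/r})`. -/
theorem eq_adjoin (hW : SGA7.LiesOver K R W) (hI : ∀ σ : Ω ≃ₐ[K] Ω, SGA7.IsInertia W σ)
    (r : ℕ) (hr : 0 < r) (hvr : W.valuation ((r : ℕ) : Ω) = 1) (ϖ : R) (hϖ : Irreducible ϖ)
    (t : Ω) (ht : t ^ r = algebraMap R Ω ϖ)
    (M : IntermediateField K Ω) (hM : Module.finrank K M = r) (θ u : Ω) (hθ : θ ∈ M)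
    (hu : u ∈ M) (hu1 : W.valuation u = 1) (hθu : algebraMap R Ω ϖ = u * θ ^ r) :
    M = K⟮t⟯ := by
  haveI : IsSepClosed Ω := IsSepClosure.sep_closed K
  have hr0 : ((r : ℕ) : Ω) ≠ 0 := by
    intro h0; rw [h0, map_zero] at hvr; exact zero_ne_one hvr
  haveI : NeZero ((r : ℕ) : Ω) := ⟨hr0⟩
  obtain ⟨y, hy⟩ := IsSepClosed.exists_pow_nat_eq u r
  have hy1 : W.valuation y = 1 := val_eq_one_of_pow W hr (by rw [hy]; exact hu1)
  have hyM : y ∈ M := mem_of_pow_mem W hI r hr hvr M y hy1 (by rw [hy]; exact hu)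
  have hϖΩ : algebraMap R Ω ϖ ≠ 0 := algMap_ne_zero (K := K) hϖ.ne_zero
  have ht0 : t ≠ 0 := by
    intro h0
    rw [h0, zero_pow hr.ne'] at ht
    exact hϖΩ ht.symm
  obtain ⟨z, hzdef⟩ : ∃ z : Ω, z = y * θ := ⟨_, rfl⟩
  have hzM : z ∈ M := by rw [hzdef]; exact mul_mem hyM hθ
  have hs : z ^ r = t ^ r := by rw [hzdef, mul_pow, hy, ← hθu, ht]
  obtain ⟨ζ, hζdef⟩ : ∃ ζ : Ω, ζ = z / t := ⟨_, rfl⟩
  have hζr : ζ ^ r = 1 := by rw [hζdef, div_pow, hs, div_self (pow_ne_zero r ht0)]
  have hζ1 : W.valuation ζ = 1 := val_eq_one_of_pow W hr (by rw [hζr, map_one])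
  have hζM : ζ ∈ M := mem_of_pow_mem W hI r hr hvr M ζ hζ1 (by rw [hζr]; exact one_mem _)
  have hζ0 : ζ ≠ 0 := by
    intro h0; rw [h0, map_zero] at hζ1; exact zero_ne_one hζ1
  have hζmul : ζ * t = z := by rw [hζdef]; exact div_mul_cancel₀ _ ht0
  have htM : t ∈ M := by
    have h5 : t = ζ⁻¹ * z := by rw [← hζmul, ← mul_assoc, inv_mul_cancel₀ hζ0, one_mul]
    rw [h5]
    exact mul_mem (inv_mem hζM) hzM
  have hle : K⟮t⟯ ≤ M := IntermediateField.adjoin_simple_le_iff.mpr htM
  haveI : FiniteDimensional K M := Module.finite_of_finrank_pos (by rw [hM]; exact hr)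
  have hfin := (exists_galois W hW hI r hr hvr ϖ hϖ t ht).1
  exact (IntermediateField.eq_of_le_of_finrank_eq hle (by rw [hM, hfin])).symm

end sep

end Groth.Agent.Helper22.InerKum
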