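import Mathlib
import Groth.Prelude.Def_W4c1tameactTame
import Groth.Prelude.Def_GLin
import Groth.Prelude.Def_Hoch
import Groth.Agent.Lib.Helper19.HopfLib
import Groth.Agent.Lib.Helper12.ComodSemisimple

/-!
# Universe-polymorphic Reynolds operator via a normalized invariant integral (helper22)

For a linearly reductive commutative Hopf algebra `H` over a field `k` (any universes) we construct a
normalized left-invariant integral `I : H → k` (`exists_isInt`), and use helper19's
`TameAct.reynolds` machinery with the total integral `alpha I B = η_B ∘ I` to get a Reynolds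
operator `E I B M` on every `(B,H)`-Hopf module, with:
* `E_mem`, `E_of_mem` : projection onto the fixed points,
* `E_smul_of_mem` : `E (a • x) = E a • x` for `x` fixed,
* `E_mul_of_mem` : `E (c * b) = c * E b` for `c` invariant,
* `E_mem_ideal` : `E` preserves coaction-stable ideals,
* `fixedSub` : the fixed points as a module over the invariant ring, `fixedSub_fg`.
-/

set_option autoImplicit false
set_option linter.style.haveILetI false

namespace Groth.Agent.Helper22.Integ

open TensorProduct HopfRep Groth.Agent.Helper12 Groth.Agent.Helper19.HopfLib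

universe u v w w'

section integral

variable {k : Type u} [Field k] {H : Type v} [CommRing H] [HopfAlgebra k H]

/-- A normalized left-invariant integral on `H`. -/
structure IsInt (I : H →ₗ[k] k) : Prop where
  one : I 1 = 1
  inv : ∀ h : H, (I.rTensor H) (Coalgebra.comul (R := k) h) = (1 : k) ⊗ₜ[k] (I h • (1 : H))

theorem fixedPts_isSubcomod {V : Type w} [AddCommGroup V] [Module k V] [Comod k H V] :
    IsSubcomod (k := k) (A := H) (fixedPts k H V) := by
  intro x hx
  have hx' : Comod.coact (k := k) (A := H) x = x ⊗ₜ[k] (1 : H) := hx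
  rw [hx']
  exact ⟨(⟨x, hx⟩ : fixedPts k H V) ⊗ₜ[k] (1 : H), by rw [LinearMap.rTensor_tmul]; rfl⟩

theorem exists_isInt (hG : HopfRep.IsLinearlyReductive k H) : ∃ I : H →ₗ[k] k, IsInt I := by
  have hLR : ComodSS.LR.{u, v, v} k H := hG
  have hF : IsSubcomod (k := k) (A := H) (fixedPts k H H) := fixedPts_isSubcomod
  obtain ⟨T', hT', hc⟩ := ComodSS.exists_isCompl hLR (fixedPts k H H) hF
  have hE : Hoch.IsComodHom H
      ((fixedPts k H H).subtype ∘ₗ (fixedPts k H H).projectionOnto T' hc) :=
    ComodSS.isComodHom_proj _ _ hF hT' hc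
  generalize hEdef : (fixedPts k H H).subtype ∘ₗ (fixedPts k H H).projectionOnto T' hc = E at hE
  have hEmem : ∀ h, E h ∈ fixedPts k H H := by
    intro h
    rw [← hEdef]
    exact ((fixedPts k H H).projectionOnto T' hc h).2
  have h1mem : (1 : H) ∈ fixedPts k H H := by
    change Coalgebra.comul (R := k) (1 : H) = (1 : H) ⊗ₜ[k] (1 : H)
    exact Bialgebra.comul_one
  have hE1 : E 1 = 1 := by
    rw [← hEdef]
    exact congrArg Subtype.val (Submodule.projectionOnto_apply_left hc ⟨1, h1mem⟩)
  have hfix : ∀ x ∈ fixedPts k H H, x = Coalgebra.counit (R := k) x • (1 : H) := by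
    intro x hx
    have hx' : Coalgebra.comul (R := k) x = x ⊗ₜ[k] (1 : H) := hx
    have h2 := Coalgebra.rTensor_counit_comul (R := k) x
    rw [hx', LinearMap.rTensor_tmul] at h2
    have h3 := congrArg (TensorProduct.lid k H) h2
    rw [TensorProduct.lid_tmul, TensorProduct.lid_tmul, one_smul] at h3
    exact h3.symm
  refine ⟨Coalgebra.counit ∘ₗ E, ⟨?_, ?_⟩⟩
  · rw [LinearMap.comp_apply, hE1, Bialgebra.counit_one]
  · intro h
    have h1 := LinearMap.congr_fun hE h
    simp only [LinearMap.comp_apply] at h1
    have h1' : (E.rTensor H) (Coalgebra.comul (R := k) h) = Coalgebra.comul (R := k) (E h) :=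
      h1.symm
    rw [LinearMap.rTensor_comp, LinearMap.comp_apply, h1', Coalgebra.rTensor_counit_comul,
      LinearMap.comp_apply]
    congr 1
    exact hfix (E h) (hEmem h)

end integral

section reynolds

variable {k : Type u} [Field k] {H : Type v} [CommRing H] [HopfAlgebra k H]
  (I : H →ₗ[k] k)
  (B : Type w) [CommRing B] [Algebra k B] [Comod k H B] [GLin.IsCoactAlg k H B]
  (M : Type w') [AddCommGroup M] [Module k M] [Module B M] [IsScalarTower k B M]
  [Comod k H M]

/-- the total integral `H → B` attached to `I`. -/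
noncomputable def alpha : H →ₗ[k] B := Algebra.linearMap k B ∘ₗ I

omit [Comod k H B] [GLin.IsCoactAlg k H B] in
theorem alpha_apply (h : H) : alpha I B h = algebraMap k B (I h) := rfl

variable {I}

omit [Comod k H B] [GLin.IsCoactAlg k H B] in
theorem alpha_one (hI : IsInt I) : alpha I B 1 = 1 := by
  rw [alpha_apply, hI.one, map_one]

theorem alpha_isComodHom (hI : IsInt I) : Hoch.IsComodHom H (alpha I B) := by
  apply LinearMap.ext
  intro h
  have hR : (alpha I B).rTensor H (Coalgebra.comul (R := k) h) =
      (1 : B) ⊗ₜ[k] (I h • (1 : H)) := by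
    rw [alpha, LinearMap.rTensor_comp, LinearMap.comp_apply, hI.inv, LinearMap.rTensor_tmul,
      Algebra.linearMap_apply, map_one]
  have hL : Comod.coact (k := k) (A := H) (alpha I B h) = (1 : B) ⊗ₜ[k] (I h • (1 : H)) := by
    rw [alpha_apply, Algebra.algebraMap_eq_smul_one, map_smul,
      GLin.IsCoactAlg.coact_one (k := k) (A := H) (R := B), Algebra.TensorProduct.one_def,
      TensorProduct.tmul_smul]
  change Comod.coact (k := k) (A := H) (alpha I B h) =
    (alpha I B).rTensor H (Coalgebra.comul (R := k) h)
  rw [hL, hR]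

variable (I) in
/-- The Reynolds operator attached to the integral `I`. -/
noncomputable def E : M →ₗ[k] M := TameAct.reynolds k H B M (alpha I B)

theorem E_mem [TameAct.IsHopfMod k H B M] (hI : IsInt I) (x : M) :
    E I B M x ∈ fixedPts k H M :=
  reynolds_mem_fixedPts k H B M (alpha_isComodHom B hI) x

theorem E_of_mem [TameAct.IsHopfMod k H B M] (hI : IsInt I) (x : M)
    (hx : x ∈ fixedPts k H M) : E I B M x = x :=
  reynolds_of_mem_fixedPts k H B M (alpha I B) (alpha_one B hI) x hx

theorem E_smul_of_mem [TameAct.IsHopfMod k H B M] (a : B) (x : M)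
    (hx : x ∈ fixedPts k H M) : E I B M (a • x) = E I B B a • x := by
  haveI := isHopfMod_self k H B
  have hx' : Comod.coact (k := k) (A := H) x = x ⊗ₜ[k] (1 : H) := hx
  unfold E
  rw [reynolds_eq, reynolds_eq, TameAct.IsHopfMod.coact_smul (k := k) (A := H), hx']
  generalize Comod.coact (k := k) (A := H) a = t
  induction t using TensorProduct.induction_on with
  | zero => simp
  | tmul b h =>
    rw [TameAct.hmSMul_tmul, L_tmul, L_tmul, mul_one, smul_eq_mul, mul_smul]
  | add t₁ t₂ h₁ h₂ => rw [map_add, LinearMap.add_apply, map_add, map_add, h₁, h₂, add_smul]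

theorem E_mul_of_mem (c : B) (hc : c ∈ GLin.invariants k H B) (b : B) :
    E I B B (c * b) = c * E I B B b :=
  reynolds_mul_invariant k H B (alpha I B) c hc b

theorem E_mem_ideal (J : Ideal B)
    (hJ : IsSubcomod (k := k) (A := H) (J.restrictScalars k)) (a : B) (ha : a ∈ J) :
    E I B B a ∈ J := by
  haveI := isHopfMod_self k H B
  have key : ∀ s : ↥(J.restrictScalars k) ⊗[k] H,
      L k H B B (alpha I B) ((J.restrictScalars k).subtype.rTensor H s) ∈ J := by
    intro s
    induction s using TensorProduct.induction_on with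
    | zero => simp
    | tmul b h =>
      rw [LinearMap.rTensor_tmul, L_tmul]
      exact J.smul_mem _ b.2
    | add s₁ s₂ h₁ h₂ => rw [map_add, map_add]; exact J.add_mem h₁ h₂
  obtain ⟨s, hs⟩ := hJ a ha
  unfold E
  rw [reynolds_eq, ← hs]
  exact key s

variable (k H) in
/-- The fixed points of a Hopf module, as a module over the ring of invariants. -/
def fixedSub [TameAct.IsHopfMod k H B M] : Submodule (GLin.invariants k H B) M where
  carrier := {x | x ∈ fixedPts k H M}
  add_mem' := fun ha hb => (fixedPts k H M).add_mem ha hb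
  zero_mem' := (fixedPts k H M).zero_mem
  smul_mem' := by
    rintro ⟨c, hc⟩ x hx
    have hc' : Comod.coact (k := k) (A := H) c = c ⊗ₜ[k] (1 : H) :=
      (GLin.mem_invariants_iff k H B c).1 hc
    have hx' : Comod.coact (k := k) (A := H) x = x ⊗ₜ[k] (1 : H) := hx
    change Comod.coact (k := k) (A := H) (c • x) = (c • x) ⊗ₜ[k] (1 : H)
    rw [TameAct.IsHopfMod.coact_smul (k := k) (A := H), hc', hx', TameAct.hmSMul_tmul, mul_one]

theorem mem_fixedSub [TameAct.IsHopfMod k H B M] (x : M) :
    x ∈ fixedSub k H B M ↔ x ∈ fixedPts k H M := Iff.rfl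

theorem fixedSub_fg [TameAct.IsHopfMod k H B M] (hI : IsInt I) [IsNoetherianRing B]
    [Module.Finite B M] : (fixedSub k H B M).FG := by
  classical
  haveI := isHopfMod_self k H B
  have hN : (Submodule.span B ((fixedPts k H M : Set M))).FG := IsNoetherian.noetherian _
  obtain ⟨s, hs, hspan⟩ := (Submodule.fg_span_iff_fg_span_finset_subset _).mp hN
  refine ⟨s, le_antisymm ?_ ?_⟩
  · exact Submodule.span_le.mpr (fun y hy => hs hy)
  · intro x hx
    have hx1 : x ∈ Submodule.span B (s : Set M) := by
      rw [← hspan]; exact Submodule.subset_span hx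
    obtain ⟨f, -, hf⟩ := Submodule.mem_span_finset.mp hx1
    have h2 : x = ∑ y ∈ s,
        (⟨E I B B (f y), (GLin.mem_invariants_iff k H B _).2 (E_mem B B hI (f y))⟩ :
          GLin.invariants k H B) • y := by
      rw [← E_of_mem B M hI x hx, ← hf, map_sum]
      refine Finset.sum_congr rfl (fun y hy => ?_)
      rw [E_smul_of_mem B M (f y) y (hs hy)]
      rfl
    rw [h2]
    exact Submodule.sum_mem _ (fun y hy => Submodule.smul_mem _ _ (Submodule.subset_span hy))

end reynolds

end Groth.Agent.Helper22.Integ
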