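import Mathlib
import Groth.Prelude.Def_PLie

namespace Groth.Agent.Helper22.Jac

open Polynomial

section Ring

/-- `(-1)^(p-1-m) * C(p-1,m) = 1` in a ring where `p = 0`. -/
theorem neg_one_pow_mul_choose {E : Type*} [Ring E] {p : ℕ} (hp : p.Prime) (hpE : (p : E) = 0) :
    ∀ m, m ≤ p - 1 → (-1 : E) ^ (p - 1 - m) * ((p - 1).choose m : E) = 1 := by
  intro m
  induction m with
  | zero =>
    intro _
    rw [Nat.choose_zero_right, Nat.cast_one, mul_one, Nat.sub_zero]
    rcases hp.eq_two_or_odd' with h2 | hodd
    · subst h2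
      have h2' : (2 : E) = 0 := by exact_mod_cast hpE
      have h3 : (-1 : E) = 1 := by
        rw [neg_eq_iff_add_eq_zero, one_add_one_eq_two]; exact h2'
      rw [show 2 - 1 = 1 from rfl, pow_one]; exact h3
    · obtain ⟨k, hk⟩ := hodd
      have : Even (p - 1) := ⟨k, by omega⟩
      exact this.neg_one_pow
  | succ m ih =>
    intro hm
    have ih' := ih (by omega)
    have hch : ((p - 1).choose (m + 1) : E) = - ((p - 1).choose m : E) := by
      have h1 : p.choose (m + 1) = (p - 1).choose m + (p - 1).choose (m + 1) := by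
        have : p = (p - 1) + 1 := by have := hp.pos; omega
        conv_lhs => rw [this]
        exact Nat.choose_succ_succ _ _
      have h2 : (p.choose (m + 1) : E) = 0 := by
        have hdvd : p ∣ p.choose (m + 1) := hp.dvd_choose_self (by omega) (by omega)
        obtain ⟨c, hc⟩ := hdvd
        rw [hc, Nat.cast_mul, hpE, zero_mul]
      rw [h1, Nat.cast_add] at h2
      exact eq_neg_of_add_eq_zero_right h2
    have hk : p - 1 - m = (p - 1 - (m + 1)) + 1 := by omega
    rw [hk, pow_succ, mul_neg_one, neg_mul] at ih'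
    rw [hch, mul_neg]; exact ih'

/-- In a ring with `p = 0`, for commuting `x y`: `(x - y)^(p-1) = ∑ x^m y^(p-1-m)`. -/
theorem sub_pow_pred {E : Type*} [Ring E] {p : ℕ} (hp : p.Prime) (hpE : (p : E) = 0) {x y : E}
    (h : Commute x y) :
    (x - y) ^ (p - 1) = ∑ m ∈ Finset.range p, x ^ m * y ^ (p - 1 - m) := by
  rw [sub_eq_add_neg, (h.neg_right).add_pow]
  have hp1 : p - 1 + 1 = p := by have := hp.pos; omega
  rw [hp1]
  apply Finset.sum_congr rfl
  intro m hm
  rw [Finset.mem_range] at hm
  rw [neg_pow', mul_assoc, mul_assoc, neg_one_pow_mul_choose hp hpE m (by omega), mul_one]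

theorem sub_pow_prime {E : Type*} [Ring E] {p : ℕ} (hp : p.Prime) (hpE : (p : E) = 0) {x y : E}
    (h : Commute x y) : (x - y) ^ p = x ^ p - y ^ p := by
  have hp1 : p = p - 1 + 1 := by have := hp.pos; omega
  conv_lhs => rw [hp1, pow_succ, sub_pow_pred hp hpE h]
  exact h.geom_sum₂_mul p

end Ring

section Assoc

variable {A : Type*} [Ring A]

/-- nested commutators in an associative ring -/
def assocWord {ι : Type*} (x : ι → A) (c : A) : List ι → A
  | [] => c
  | i :: w => x i * assocWord x c w - assocWord x c w * x i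

@[simp] theorem assocWord_nil {ι : Type*} (x : ι → A) (c : A) : assocWord x c [] = c := rfl
@[simp] theorem assocWord_cons {ι : Type*} (x : ι → A) (c : A) (i : ι) (w : List ι) :
    assocWord x c (i :: w) = x i * assocWord x c w - assocWord x c w * x i := rfl

def pairA (a b : A) : Bool → A := fun t => if t then b else a

def cnt {n : ℕ} (t : Fin n → Bool) : ℕ := ∑ i, if t i then 1 else 0

theorem mulLeft_pow' (x : A) (m : ℕ) :
    (LinearMap.mulLeft ℤ x) ^ m = LinearMap.mulLeft ℤ (x ^ m) := by
  induction m with
  | zero => ext w; simp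
  | succ m ih => rw [pow_succ, ih]; ext w; simp [pow_succ, mul_assoc]

theorem mulRight_pow' (x : A) (m : ℕ) :
    (LinearMap.mulRight ℤ x) ^ m = LinearMap.mulRight ℤ (x ^ m) := by
  induction m with
  | zero => ext w; simp
  | succ m ih => rw [pow_succ', ih]; ext w; simp [pow_succ, mul_assoc]

theorem natCast_end_eq_zero {p : ℕ} (hpA : (p : A) = 0) : ((p : ℕ) : Module.End ℤ A) = 0 := by
  ext w
  simp [hpA]

theorem sum_pow_mul_pow_eq {p : ℕ} (hp : p.Prime) (hpA : (p : A) = 0) (x y : A) :
    ∑ j ∈ Finset.range p, x ^ j * y * x ^ (p - 1 - j) =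
      ((LinearMap.mulLeft ℤ x - LinearMap.mulRight ℤ x) ^ (p - 1)) y := by
  have hcomm : Commute (LinearMap.mulLeft ℤ x) (LinearMap.mulRight ℤ x) :=
    LinearMap.commute_mulLeft_right x x
  rw [sub_pow_pred hp (natCast_end_eq_zero hpA) hcomm, LinearMap.sum_apply]
  apply Finset.sum_congr rfl
  intro j _
  rw [mulLeft_pow', mulRight_pow']
  simp [mul_assoc]

theorem ad_pow_prime {p : ℕ} (hp : p.Prime) (hpA : (p : A) = 0) (x w : A) :
    ((LinearMap.mulLeft ℤ x - LinearMap.mulRight ℤ x) ^ p) w = x ^ p * w - w * x ^ p := by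
  have hcomm : Commute (LinearMap.mulLeft ℤ x) (LinearMap.mulRight ℤ x) :=
    LinearMap.commute_mulLeft_right x x
  rw [sub_pow_prime hp (natCast_end_eq_zero hpA) hcomm, mulLeft_pow', mulRight_pow']
  simp

theorem derivative_pow_noncomm (f : A[X]) (n : ℕ) :
    derivative (f ^ n) = ∑ j ∈ Finset.range n, f ^ j * derivative f * f ^ (n - 1 - j) := by
  induction n with
  | zero => simp
  | succ n ih =>
    rw [pow_succ, derivative_mul, ih, Finset.sum_range_succ, Finset.sum_mul]
    congr 1
    · apply Finset.sum_congr rfl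
      intro j hj
      rw [Finset.mem_range] at hj
      rw [mul_assoc, ← pow_succ]
      congr 2
      omega
    · simp

/-- commutator in `A[X]` -/
noncomputable def adP (f g : A[X]) : A[X] := f * g - g * f

theorem adP_monomial (a b w : A) (k : ℕ) :
    adP (monomial 0 a + monomial 1 b) (monomial k w) =
      monomial k (a * w - w * a) + monomial (k + 1) (b * w - w * b) := by
  unfold adP
  simp only [add_mul, mul_add, monomial_mul_monomial, zero_add, add_zero, map_sub]
  rw [add_comm 1 k]
  abel

theorem adP_sum {ι : Type*} (s : Finset ι) (f : A[X]) (g : ι → A[X]) :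
    adP f (∑ i ∈ s, g i) = ∑ i ∈ s, adP f (g i) := by
  unfold adP
  rw [Finset.mul_sum, Finset.sum_mul, Finset.sum_sub_distrib]

def consE (n : ℕ) : Bool × (Fin n → Bool) ≃ (Fin (n + 1) → Bool) where
  toFun f := Fin.cons f.1 f.2
  invFun f := (f 0, Fin.tail f)
  left_inv f := by simp
  right_inv f := by simp

theorem cnt_cons {n : ℕ} (b₀ : Bool) (t : Fin n → Bool) :
    cnt (Fin.cons b₀ t : Fin (n + 1) → Bool) = (if b₀ then 1 else 0) + cnt t := by
  unfold cnt
  rw [Fin.sum_univ_succ]
  simp

theorem iterate_adP (a b c : A) (n : ℕ) :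
    (adP (monomial 0 a + monomial 1 b))^[n] (monomial 0 c) =
      ∑ t : Fin n → Bool, monomial (cnt t) (assocWord (pairA a b) c (List.ofFn t)) := by
  induction n with
  | zero => simp [cnt]
  | succ n ih =>
    rw [Function.iterate_succ_apply', ih, adP_sum]
    rw [← (consE n).sum_comp, Fintype.sum_prod_type, Fintype.sum_bool]
    simp only [consE, Equiv.coe_fn_mk, cnt_cons, List.ofFn_succ, Fin.cons_zero, Fin.cons_succ,
      assocWord_cons, pairA, adP_monomial, Finset.sum_add_distrib]
    simp only [if_true, Bool.false_eq_true, if_false, zero_add, add_comm 1 (cnt _)]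
    rw [add_comm]

theorem card_false {n : ℕ} (t : Fin n → Bool) : Fintype.card {i // t i = false} = n - cnt t := by
  rw [Fintype.card_subtype]
  have h1 : cnt t = (Finset.univ.filter (fun i => t i = true)).card := by
    unfold cnt; rw [Finset.card_filter]
  have h2 := Finset.card_filter_add_card_filter_not
    (s := (Finset.univ : Finset (Fin n))) (fun i => t i = true)
  have h3 : (Finset.univ.filter (fun i => ¬ (t i = true))) =
      Finset.univ.filter (fun i => t i = false) := by
    apply Finset.filter_congr; intro i _; simp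
  rw [h3, Finset.card_univ, Fintype.card_fin] at h2
  omega

theorem cnt_le {n : ℕ} (t : Fin n → Bool) : cnt t ≤ n := by
  have h1 : cnt t = (Finset.univ.filter (fun i => t i = true)).card := by
    unfold cnt; rw [Finset.card_filter]
  rw [h1]
  calc _ ≤ (Finset.univ : Finset (Fin n)).card := Finset.card_filter_le _ _
    _ = n := by simp

theorem jacobson_assoc {R : Type*} [CommRing R] [Algebra R A] {p : ℕ} [hp : Fact p.Prime]
    [CharP R p] (a b : A) :
    (a + b) ^ p = a ^ p + b ^ p -
      ∑ t : Fin (p - 1) → Bool,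
        ((ZMod.castHom (dvd_refl p) R) ((Fintype.card {i // t i = false} : ZMod p)⁻¹)) •
          assocWord (pairA a b) b (List.ofFn t) := by
  have hpr := hp.out
  have hp1 : p - 1 + 1 = p := by have := hpr.pos; omega
  have hpA : (p : A) = 0 := by
    rw [← map_natCast (algebraMap R A), CharP.cast_eq_zero, map_zero]
  have hpP : ((p : ℕ) : A[X]) = 0 := by
    rw [← C_eq_natCast, hpA, C_0]
  set f : A[X] := monomial 0 a + monomial 1 b with hf
  set W : (Fin (p - 1) → Bool) → A := fun t => assocWord (pairA a b) b (List.ofFn t) with hW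
  have hder : derivative f = monomial 0 b := by
    rw [hf, map_add, derivative_monomial, derivative_monomial]
    simp
  have key : derivative (f ^ p) = ∑ t : Fin (p - 1) → Bool, monomial (cnt t) (W t) := by
    rw [derivative_pow_noncomm, hder, sum_pow_mul_pow_eq hpr hpP f (monomial 0 b),
      Module.End.pow_apply]
    have : ⇑(LinearMap.mulLeft ℤ f - LinearMap.mulRight ℤ f) = adP f := by
      funext g; simp [adP]
    rw [this, hf, iterate_adP]
  set s : ℕ → A := fun i => (f ^ p).coeff i with hs
  have hcoef : ∀ i : ℕ, s (i + 1) * ((i : A) + 1) =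
      ∑ t : Fin (p - 1) → Bool, if cnt t = i then W t else 0 := by
    intro i
    rw [hs]
    simp only
    rw [← coeff_derivative, key, finsetSum_coeff]
    apply Finset.sum_congr rfl
    intro t _
    rw [coeff_monomial]
  have hdeg : f.natDegree ≤ 1 := by
    rw [hf]
    exact natDegree_add_le_of_degree_le ((natDegree_monomial_le a).trans (by omega))
      (natDegree_monomial_le b)
  have hdegp : (f ^ p).natDegree < p + 1 := by
    have := natDegree_pow_le_of_le p hdeg
    omega
  let ev : A[X] →+* A := eval₂RingHom' (RingHom.id A) (1 : A) (fun _ => Commute.one_right _)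
  have hev : ev f = a + b := by
    simp [ev, hf, eval₂_monomial]
  have h1 : (a + b) ^ p = ∑ i ∈ Finset.range (p + 1), s i := by
    rw [← hev, ← map_pow]
    show eval₂ (RingHom.id A) 1 (f ^ p) = _
    rw [eval₂_eq_sum_range' (RingHom.id A) hdegp]
    simp [hs]
  have h0 : s 0 = a ^ p := by
    have := map_pow (constantCoeff : A[X] →+* A) f p
    simpa [constantCoeff_apply, hf, coeff_monomial, hs] using this
  have hlast : s p = b ^ p := by
    have := coeff_pow_of_natDegree_le (m := p) hdeg
    simpa [hf, coeff_monomial, hs] using this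
  have h2 : ∑ i ∈ Finset.range p, s i = ∑ i ∈ Finset.range (p - 1), s (i + 1) + s 0 := by
    have := Finset.sum_range_succ' s (p - 1)
    rwa [hp1] at this
  -- the Jacobson sum
  set coef : (Fin (p - 1) → Bool) → R := fun t =>
    (ZMod.castHom (dvd_refl p) R) ((Fintype.card {i // t i = false} : ZMod p)⁻¹) with hcoefdef
  have hJ : ∑ t : Fin (p - 1) → Bool, coef t • W t = - ∑ i ∈ Finset.range (p - 1), s (i + 1) := by
    have hmaps : ∀ t ∈ (Finset.univ : Finset (Fin (p - 1) → Bool)), cnt t ∈ Finset.range p := by
      intro t _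
      rw [Finset.mem_range]
      have := cnt_le t
      omega
    rw [← Finset.sum_fiberwise_of_maps_to hmaps]
    have := Finset.sum_range_succ
      (fun i => ∑ t ∈ Finset.univ.filter (fun t : Fin (p - 1) → Bool => cnt t = i), coef t • W t)
      (p - 1)
    rw [hp1] at this
    rw [this, ← Finset.sum_neg_distrib]
    have hzero : ∑ t ∈ Finset.univ.filter (fun t : Fin (p - 1) → Bool => cnt t = p - 1),
        coef t • W t = 0 := by
      apply Finset.sum_eq_zero
      intro t ht
      rw [Finset.mem_filter] at ht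
      have hc : coef t = 0 := by
        rw [hcoefdef]
        simp only
        rw [card_false, ht.2, Nat.sub_self, Nat.cast_zero, inv_zero, map_zero]
      rw [hc, zero_smul]
    rw [hzero, add_zero]
    apply Finset.sum_congr rfl
    intro i hi
    rw [Finset.mem_range] at hi
    -- constants
    have hv : ((i + 1 : ℕ) : ZMod p) ≠ 0 := by
      rw [Ne, ZMod.natCast_eq_zero_iff]
      exact Nat.not_dvd_of_pos_of_lt (by omega) (by omega)
    have hu : ((p - 1 - i : ℕ) : ZMod p) = - ((i + 1 : ℕ) : ZMod p) := by
      apply eq_neg_of_add_eq_zero_left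
      rw [← Nat.cast_add]
      have : p - 1 - i + (i + 1) = p := by omega
      rw [this, ZMod.natCast_self]
    have hc : ∀ t ∈ Finset.univ.filter (fun t : Fin (p - 1) → Bool => cnt t = i),
        coef t • W t =
          (ZMod.castHom (dvd_refl p) R) (((p - 1 - i : ℕ) : ZMod p)⁻¹) • W t := by
      intro t ht
      rw [Finset.mem_filter] at ht
      rw [hcoefdef]
      simp only
      rw [card_false, ht.2]
    rw [Finset.sum_congr rfl hc, ← Finset.smul_sum, Finset.sum_filter, ← hcoef i]
    have hA : ((i : A) + 1) = algebraMap R A (((i + 1 : ℕ) : R)) := by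
      rw [map_natCast]; push_cast; rfl
    rw [hA, ← Algebra.commutes, ← Algebra.smul_def, smul_smul]
    have hR : ((i + 1 : ℕ) : R) = (ZMod.castHom (dvd_refl p) R) ((i + 1 : ℕ) : ZMod p) := by
      rw [map_natCast]
    rw [hR, ← map_mul, hu, inv_neg, neg_mul, inv_mul_cancel₀ hv, map_neg, map_one, neg_smul,
      one_smul]
  rw [hJ, h1, Finset.sum_range_succ, h2, h0, hlast]
  abel

end Assoc

section Transfer

variable {R : Type*} [CommRing R] {p : ℕ} [hp : Fact p.Prime] [CharP R p]
variable {L : Type*} [LieRing L] [LieAlgebra R L] {A : Type*} [Ring A] [Algebra R A]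

theorem bracketWord_map (e : L →ₗ[R] A) (he : ∀ x y : L, e ⁅x, y⁆ = e x * e y - e y * e x)
    {ι : Type*} (x : ι → L) (c : L) (w : List ι) :
    e (PLie.bracketWord x c w) = assocWord (e ∘ x) (e c) w := by
  induction w with
  | nil => rfl
  | cons i w ih => simp [he, ih]

theorem pair_map (e : L →ₗ[R] A) (u₀ u₁ : L) :
    e ∘ PLie.pair u₀ u₁ = pairA (e u₀) (e u₁) := by
  funext t; cases t <;> simp [PLie.pair, pairA]

theorem ad_pow_map (e : L →ₗ[R] A) (he : ∀ x y : L, e ⁅x, y⁆ = e x * e y - e y * e x)
    (u : L) (n : ℕ) (w : L) :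
    e ((LieAlgebra.ad R L u ^ n) w) =
      ((LinearMap.mulLeft ℤ (e u) - LinearMap.mulRight ℤ (e u)) ^ n) (e w) := by
  induction n generalizing w with
  | zero => simp
  | succ n ih =>
    rw [pow_succ', Module.End.mul_apply, LieAlgebra.ad_apply, he, ih, pow_succ',
      Module.End.mul_apply]
    simp

/-- A Lie algebra embedded (injectively, brackets to commutators) in an associative algebra of
characteristic `p`, stable under `p`-th powers, gets a `p`-map. -/
noncomputable def pmapOfAssoc (e : L →ₗ[R] A) (hinj : Function.Injective e)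
    (he : ∀ x y : L, e ⁅x, y⁆ = e x * e y - e y * e x) (g : L → L)
    (hg : ∀ u, e (g u) = e u ^ p) : PLie.PMap R p L where
  toFun := g
  map_smul c u := hinj (by rw [hg, map_smul, _root_.smul_pow, map_smul, hg])
  ad_map u := by
    apply LinearMap.ext
    intro w
    apply hinj
    have hpA : (p : A) = 0 := by
      rw [← map_natCast (algebraMap R A), CharP.cast_eq_zero, map_zero]
    rw [LieAlgebra.ad_apply, he, hg, ad_pow_map e he, ad_pow_prime hp.out hpA]
  map_add u₀ u₁ := hinj (by
    rw [hg, map_add, jacobson_assoc (R := R), map_sub, map_add, hg, hg]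
    congr 1
    unfold PLie.jacobson
    rw [map_sum]
    apply Finset.sum_congr rfl
    intro t _
    rw [map_smul, bracketWord_map e he, pair_map])

@[simp] theorem pmapOfAssoc_apply (e : L →ₗ[R] A) (hinj : Function.Injective e)
    (he : ∀ x y : L, e ⁅x, y⁆ = e x * e y - e y * e x) (g : L → L)
    (hg : ∀ u, e (g u) = e u ^ p) (u : L) : pmapOfAssoc e hinj he g hg u = g u := rfl

end Transfer

end Groth.Agent.Helper22.Jac
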