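import Groth.Agent.Lib.Helper22.KL2

set_option maxHeartbeats 1600000
set_option autoImplicit false

universe u v

open scoped TensorProduct

namespace Groth.Agent.Helper22.KL

open Classical

section FlatQuot
variable {R : Type u} [CommRing R] {M : Type u} [AddCommGroup M] [Module R M]

/-- the quotient of the tensor power of a flat module by the symmetric tensors is flat -/
theorem flat_quot [Module.Flat R M] (n : ℕ) :
    Module.Flat R ((⨂[R] _ : Fin n, M) ⧸ TSm R M n) := by
  apply Module.Flat.of_forall_exists_factorization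
  intro l f x hx
  choose q hq using fun i : Fin l =>
    Submodule.mkQ_surjective (TSm R M n) (x (Finsupp.single i 1))
  have hf1 : f = ∑ i : Fin l, f i • Finsupp.single i (1 : R) := by
    conv_lhs => rw [← Finsupp.sum_single f]
    rw [Finsupp.sum_fintype _ _ (fun _ => Finsupp.single_zero _)]
    apply Finset.sum_congr rfl
    intro i _
    rw [Finsupp.smul_single_one]
  have hs : ∑ i : Fin l, f i • q i ∈ TSm R M n := by
    have h0 : (TSm R M n).mkQ (∑ i : Fin l, f i • q i) = 0 := by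
      refine Eq.trans ?_ hx
      conv_rhs => rw [hf1]
      rw [map_sum, map_sum]
      apply Finset.sum_congr rfl
      intro i _
      rw [map_smul, map_smul, hq i]
    exact (Submodule.Quotient.mk_eq_zero _).mp h0
  obtain ⟨m, v, t', ht'⟩ := exists_rep_multi (R := R) l q
  obtain ⟨w, hw⟩ : ∃ w : ⨂[R] _ : Fin n, (Fin m →₀ R), w = ∑ i : Fin l, f i • t' i := ⟨_, rfl⟩
  have hwimg : PiTensorProduct.map (fun _ : Fin n => Finsupp.linearCombination R v) w =
      ∑ i : Fin l, f i • q i := by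
    rw [hw, map_sum]
    apply Finset.sum_congr rfl
    intro i _
    rw [map_smul, ht' i]
  obtain ⟨k₁, a₁, y₁, h1, h2⟩ := kl_fintype n m (Finsupp.linearCombination R v)
    (fun σ : Equiv.Perm (Fin n) =>
      PiTensorProduct.reindex R (fun _ : Fin n => (Fin m →₀ R)) σ w - w)
    (fun σ => by
      show PiTensorProduct.map (fun _ : Fin n => Finsupp.linearCombination R v)
        (PiTensorProduct.reindex R (fun _ : Fin n => (Fin m →₀ R)) σ w - w) = 0
      rw [map_sub, map_reindex', hwimg, (mem_TSm _).mp hs σ, sub_self])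
  have hsym : ∀ σ : Equiv.Perm (Fin n),
      PiTensorProduct.reindex R (fun _ : Fin n => (Fin k₁ →₀ R)) σ
        (PiTensorProduct.map (fun _ : Fin n => a₁) w) =
      PiTensorProduct.map (fun _ : Fin n => a₁) w := by
    intro σ
    have h3 : PiTensorProduct.map (fun _ : Fin n => a₁)
        (PiTensorProduct.reindex R (fun _ : Fin n => (Fin m →₀ R)) σ w - w) = 0 := h2 σ
    rw [map_sub, sub_eq_zero, map_reindex'] at h3
    exact h3
  -- pass to the Pi-algebra `P = Fin k₁ → R`
  obtain ⟨ψ, hψ⟩ : ∃ ψ : (Fin k₁ →₀ R) ≃ₗ[R] (Fin k₁ → R),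
      ψ = Finsupp.linearEquivFunOnFinite R R (Fin k₁) := ⟨_, rfl⟩
  obtain ⟨b, hb⟩ : ∃ b : Module.Basis (ULift.{u} (Fin k₁)) R (Fin k₁ → R),
      b = (Pi.basisFun R (Fin k₁)).reindex Equiv.ulift.symm := ⟨_, rfl⟩
  obtain ⟨tb, htb⟩ : ∃ tb : Fin l → (⨂[R] _ : Fin n, (Fin k₁ → R)),
      ∀ i, tb i = PiTensorProduct.map (fun _ : Fin n => ψ.toLinearMap)
        (PiTensorProduct.map (fun _ : Fin n => a₁) (t' i)) := ⟨fun i => _, fun i => rfl⟩
  have e1 : ∑ i : Fin l, f i • tb i = PiTensorProduct.map (fun _ : Fin n => ψ.toLinearMap)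
      (PiTensorProduct.map (fun _ : Fin n => a₁) w) := by
    rw [hw, map_sum, map_sum]
    apply Finset.sum_congr rfl
    intro i _
    rw [map_smul, map_smul, htb i]
  have hwb : ∑ i : Fin l, f i • tb i ∈ SymTen.TS R (Fin k₁ → R) n := by
    rw [SymTen.mem_TS_iff]
    intro σ
    rw [e1]
    show PiTensorProduct.reindex R (fun _ : Fin n => (Fin k₁ → R)) σ
      (PiTensorProduct.map (fun _ : Fin n => ψ.toLinearMap)
        (PiTensorProduct.map (fun _ : Fin n => a₁) w)) = _
    rw [← map_reindex', hsym σ]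
  obtain ⟨Y, hY⟩ : ∃ Y : (⨂[R] _ : Fin n, (Fin k₁ → R)) →ₗ[R] (⨂[R] _ : Fin n, M),
      Y = PiTensorProduct.map (fun _ : Fin n => y₁ ∘ₗ ψ.symm.toLinearMap) := ⟨_, rfl⟩
  have hYTS : ∀ z, z ∈ SymTen.TS R (Fin k₁ → R) n → Y z ∈ TSm R M n := by
    intro z hz
    rw [mem_TSm]
    intro σ
    rw [hY, ← map_reindex', (SymTen.mem_TS_iff R (Fin k₁ → R) n z).mp hz σ]
  have hYtb : ∀ i, Y (tb i) = q i := by
    intro i
    rw [hY, htb i]
    rw [map_map', map_map']
    have h4 : ((y₁ ∘ₗ ψ.symm.toLinearMap) ∘ₗ ψ.toLinearMap) ∘ₗ a₁ =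
        Finsupp.linearCombination R v := by
      rw [h1]
      ext z
      simp
    rw [h4, ht' i]
  -- a basis of `T^n P` indexed by `Fin k`
  obtain ⟨bL, hbL⟩ : ∃ bL : Module.Basis (Fin (Fintype.card (Fin n → ULift.{u} (Fin k₁)))) R
      (⨂[R] _ : Fin n, (Fin k₁ → R)),
      bL = (GF.eB b n).reindex (Fintype.equivFin (Fin n → ULift.{u} (Fin k₁))) := ⟨_, rfl⟩
  obtain ⟨c, hc⟩ : ∃ c : Fin l → (⨂[R] _ : Fin n, (Fin k₁ → R)),
      ∀ i, c i = tb i - GF.rhoP b n (tb i) := ⟨fun i => _, fun i => rfl⟩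
  refine ⟨Fintype.card (Fin n → ULift.{u} (Fin k₁)),
    bL.repr.toLinearMap ∘ₗ Finsupp.linearCombination R c,
    ((TSm R M n).mkQ ∘ₗ Y) ∘ₗ bL.repr.symm.toLinearMap, ?_, ?_⟩
  · apply (Finsupp.basisSingleOne (R := R) (ι := Fin l)).ext
    intro i
    rw [Finsupp.coe_basisSingleOne]
    show x (Finsupp.single i 1) = (TSm R M n).mkQ (Y (bL.repr.symm (bL.repr
      (Finsupp.linearCombination R c (Finsupp.single i 1)))))
    rw [LinearEquiv.symm_apply_apply, Finsupp.linearCombination_single, one_smul, hc i,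
      map_sub, map_sub, hYtb i, hq i]
    have h7 : (TSm R M n).mkQ (Y (GF.rhoP b n (tb i))) = 0 :=
      (Submodule.Quotient.mk_eq_zero _).mpr (hYTS _ (GF.rhoP_mem_TS b n _))
    rw [h7, sub_zero]
  · show bL.repr (Finsupp.linearCombination R c f) = 0
    have h5 : Finsupp.linearCombination R c f = ∑ i : Fin l, f i • c i := by
      rw [Finsupp.linearCombination_apply, Finsupp.sum_fintype]
      intro i
      rw [zero_smul]
    have h6 : ∑ i : Fin l, f i • c i =
        (∑ i : Fin l, f i • tb i) - GF.rhoP b n (∑ i : Fin l, f i • tb i) := by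
      rw [map_sum, ← Finset.sum_sub_distrib]
      apply Finset.sum_congr rfl
      intro i _
      rw [map_smul, hc i, smul_sub]
    rw [h5, h6, GF.rhoP_fix_ground b n _ hwb, sub_self, map_zero]

/-- for a flat module, tensoring the inclusion of the symmetric tensors stays injective -/
theorem lTensor_TSm_injective [Module.Flat R M] (n : ℕ) (N : Type*) [AddCommGroup N]
    [Module R N] : Function.Injective ((TSm R M n).subtype.lTensor N) := by
  haveI := flat_quot (R := R) (M := M) n
  exact LinearMap.lTensor_injective_of_exact_of_flat (TSm R M n).mkQ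
    (Submodule.mkQ_surjective _) (TSm R M n).subtype (Submodule.injective_subtype _)
    (LinearMap.exact_subtype_mkQ _) N

end FlatQuot

end Groth.Agent.Helper22.KL
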