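import Mathlib
import Groth.Agent.Lib.Helper22.KR1

/-!
# Orbits of unipotent groups are closed: the translation computation (helper22)

If `j₁ : K ⊗ H → L` and `j₂ : H → L` satisfy `j₁ ∘ τ_y = j₂ ∘ φ` (the `L`-points `y · u` and
`x · g` agree), then `w = j₂ * (j₁ ∘ S)` (the point `g u⁻¹`) satisfies `w ∘ φ = j₁ ∘ (y ⊗ 1)`
(`x · (g u⁻¹) = y`).
-/

set_option autoImplicit false
universe u v w w'

open TensorProduct

namespace Groth.Agent.Helper22.KR

section Transl

variable {k : Type u} [Field k] {H : Type v} [CommRing H] [HopfAlgebra k H]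
  {A : Type w} [CommRing A] [Algebra k A] [HopfRep.Comod k H A] [GLin.IsCoactAlg k H A]

/-- `a ⊗ h ↦ ρ(a) (1 ⊗ S h)`. -/
noncomputable def Msh : A ⊗[k] H →ₐ[k] A ⊗[k] H :=
  Algebra.TensorProduct.lift (GLin.coactAlgHom k H A)
    ((Algebra.TensorProduct.includeRight : H →ₐ[k] A ⊗[k] H).comp
      (HopfAlgebra.antipodeAlgHom k H))
    (fun _ _ => Commute.all _ _)

theorem Msh_tmul (a : A) (h : H) :
    Msh (a ⊗ₜ[k] h) = HopfRep.Comod.coact (k := k) (A := H) a *
      ((1 : A) ⊗ₜ[k] HopfAlgebra.antipode k h) := by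
  simp [Msh]

/-- `u ⊗ (v ⊗ h) ↦ u ⊗ v S(h)`. -/
noncomputable def Fsh : A ⊗[k] (H ⊗[k] H) →ₗ[k] A ⊗[k] H :=
  LinearMap.lTensor A (LinearMap.mul' k H ∘ₗ LinearMap.lTensor H (HopfAlgebra.antipode k))

theorem Fsh_assoc_tmul (t : A ⊗[k] H) (h : H) :
    Fsh (TensorProduct.assoc k A H H (t ⊗ₜ[k] h)) =
      t * ((1 : A) ⊗ₜ[k] HopfAlgebra.antipode k h) := by
  induction t using TensorProduct.induction_on with
  | zero => simp
  | tmul u v =>
    rw [TensorProduct.assoc_tmul, Fsh, LinearMap.lTensor_tmul, LinearMap.comp_apply,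
      LinearMap.lTensor_tmul, LinearMap.mul'_apply, Algebra.TensorProduct.tmul_mul_tmul, mul_one]
  | add t₁ t₂ h₁ h₂ => simp only [TensorProduct.add_tmul, map_add, add_mul, h₁, h₂]

theorem Msh_eq (z : A ⊗[k] H) :
    Msh z = Fsh (TensorProduct.assoc k A H H
      ((HopfRep.Comod.coact (k := k) (A := H) : A →ₗ[k] A ⊗[k] H).rTensor H z)) := by
  induction z using TensorProduct.induction_on with
  | zero => simp
  | tmul a h => rw [LinearMap.rTensor_tmul, Fsh_assoc_tmul, Msh_tmul]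
  | add z₁ z₂ h₁ h₂ => simp only [map_add, h₁, h₂]

theorem Msh_coact (a : A) :
    Msh (HopfRep.Comod.coact (k := k) (A := H) a) = a ⊗ₜ[k] (1 : H) := by
  have hco := LinearMap.congr_fun (HopfRep.Comod.coassoc (k := k) (A := H) (V := A)) a
  simp only [LinearMap.comp_apply, LinearEquiv.coe_coe] at hco
  have hcu := LinearMap.congr_fun (HopfRep.Comod.counit_comp (k := k) (A := H) (V := A)) a
  simp only [LinearMap.comp_apply, LinearMap.flip_apply, TensorProduct.mk_apply] at hcu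
  rw [Msh_eq, hco, Fsh, ← LinearMap.comp_apply, ← LinearMap.lTensor_comp, LinearMap.comp_assoc,
    HopfAlgebra.mul_antipode_lTensor_comul, LinearMap.lTensor_comp, LinearMap.comp_apply, hcu,
    LinearMap.lTensor_tmul, Algebra.linearMap_apply, map_one]

variable {K : Type w'} [CommRing K] [Algebra k K] (y : A →ₐ[k] K)

/-- `a ⊗ h ↦ τ_y(a) (1 ⊗ S h)`. -/
noncomputable def Xi : A ⊗[k] H →ₐ[k] K ⊗[k] H :=
  Algebra.TensorProduct.lift (tau (H := H) y)
    ((Algebra.TensorProduct.includeRight : H →ₐ[k] K ⊗[k] H).comp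
      (HopfAlgebra.antipodeAlgHom k H))
    (fun _ _ => Commute.all _ _)

theorem Xi_tmul (a : A) (h : H) :
    Xi y (a ⊗ₜ[k] h) = tau (H := H) y a * ((1 : K) ⊗ₜ[k] HopfAlgebra.antipode k h) := by
  simp [Xi]

theorem Xi_eq : Xi (H := H) y = (Algebra.TensorProduct.map y (AlgHom.id k H)).comp Msh := by
  apply Algebra.TensorProduct.ext'
  intro a h
  rw [Xi_tmul, AlgHom.comp_apply, Msh_tmul, map_mul, Algebra.TensorProduct.map_tmul, map_one]
  rfl

theorem Xi_coact (a : A) :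
    Xi y (HopfRep.Comod.coact (k := k) (A := H) a) = y a ⊗ₜ[k] (1 : H) := by
  rw [Xi_eq, AlgHom.comp_apply, Msh_coact, Algebra.TensorProduct.map_tmul, map_one]

variable {L : Type*} [CommRing L] [Algebra k L] (x : A →ₐ[k] k) (j₁ : K ⊗[k] H →ₐ[k] L)
  (j₂ : H →ₐ[k] L)

/-- The point `g u⁻¹`. -/
noncomputable def wHom : H →ₐ[k] L :=
  (Algebra.TensorProduct.lift j₂
    ((j₁.comp (Algebra.TensorProduct.includeRight : H →ₐ[k] K ⊗[k] H)).comp
      (HopfAlgebra.antipodeAlgHom k H))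
    (fun _ _ => Commute.all _ _)).comp (Bialgebra.comulAlgHom k H)

theorem wHom_orbit (hj : ∀ a, j₁ (tau (H := H) y a) = j₂ (GLin.orbitHom k H x a)) (a : A) :
    wHom j₁ j₂ (GLin.orbitHom k H x a) = j₁ (y a ⊗ₜ[k] (1 : H)) := by
  have h2 : ∀ z : A ⊗[k] H,
      Algebra.TensorProduct.lift j₂
        ((j₁.comp (Algebra.TensorProduct.includeRight : H →ₐ[k] K ⊗[k] H)).comp
          (HopfAlgebra.antipodeAlgHom k H))
        (fun _ _ => Commute.all _ _)
        ((GLin.orbitHom k H x).toLinearMap.rTensor H z) = j₁ (Xi y z) := by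
    intro z
    induction z using TensorProduct.induction_on with
    | zero => simp
    | tmul a' h =>
      rw [LinearMap.rTensor_tmul, Algebra.TensorProduct.lift_tmul, AlgHom.toLinearMap_apply, ← hj,
        Xi_tmul, map_mul]
      rfl
    | add z₁ z₂ h₁ h₂ => simp only [map_add, h₁, h₂]
  rw [wHom, AlgHom.comp_apply, Bialgebra.comulAlgHom_apply, comul_orbitHom, h2, Xi_coact]

end Transl

end Groth.Agent.Helper22.KR
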