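import Mathlib
import Groth.Agent.Lib.Helper22.KR2

/-!
# Orbits of unipotent groups on affine schemes are closed (helper22)

For a commutative unipotent Hopf algebra `H` over a field `k` coacting on a commutative `k`-algebra
`A` and a rational point `x` of `A`, every prime of `A` containing the kernel of the orbit map
`φ : A → H` is the contraction of a prime of `H`; hence the image of `Spec H → Spec A` is closed.
-/

set_option autoImplicit false
universe u

open TensorProduct

namespace Groth.Agent.Helper22.KR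

section Closed

variable {k : Type u} [Field k] {H : Type u} [CommRing H] [HopfAlgebra k H]
  {A : Type u} [CommRing A] [Algebra k A] [HopfRep.Comod k H A] [GLin.IsCoactAlg k H A]

theorem exists_prime_of_maps {K : Type u} [Field K] [Algebra k K] (x : A →ₐ[k] k)
    (y : A →ₐ[k] K) {L : Type u} [CommRing L] [Nontrivial L] (j₁r : K ⊗[k] H →+* L)
    (j₂r : H →+* L)
    (hj : ∀ a, j₁r (tau (H := H) y a) = j₂r (GLin.orbitHom k H x a)) :
    ∃ q : Ideal H, q.IsPrime ∧ q.comap (GLin.orbitHom k H x).toRingHom = RingHom.ker y := by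
  letI : Algebra k L := (j₂r.comp (algebraMap k H)).toAlgebra
  let j₂ : H →ₐ[k] L := { j₂r with commutes' := fun c => rfl }
  have hj1k : ∀ c : k, j₁r (algebraMap k (K ⊗[k] H) c) = j₂r (algebraMap k H c) := by
    intro c
    have h1 := hj (algebraMap k A c)
    rw [AlgHom.commutes, AlgHom.commutes] at h1
    exact h1
  let j₁ : K ⊗[k] H →ₐ[k] L := { j₁r with commutes' := fun c => hj1k c }
  have hj' : ∀ a, j₁ (tau (H := H) y a) = j₂ (GLin.orbitHom k H x a) := fun a => hj a
  obtain ⟨t, ht⟩ := Ideal.exists_maximal L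
  haveI : t.IsPrime := ht.isPrime
  refine ⟨t.comap (wHom j₁ j₂).toRingHom, inferInstance, ?_⟩
  ext a
  rw [Ideal.mem_comap, Ideal.mem_comap, RingHom.mem_ker]
  show wHom j₁ j₂ (GLin.orbitHom k H x a) ∈ t ↔ y a = 0
  rw [wHom_orbit y x j₁ j₂ hj' a]
  constructor
  · intro h
    by_contra hne
    have hu : IsUnit (y a) := IsUnit.mk0 _ hne
    have hu2 : IsUnit (j₁ (y a ⊗ₜ[k] (1 : H))) := by
      have e : y a ⊗ₜ[k] (1 : H) =
          (Algebra.TensorProduct.includeLeft : K →ₐ[k] K ⊗[k] H) (y a) := rfl
      rw [e]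
      exact (hu.map (Algebra.TensorProduct.includeLeft : K →ₐ[k] K ⊗[k] H)).map j₁
    exact ht.ne_top (Ideal.eq_top_of_isUnit_mem _ h hu2)
  · intro h
    rw [h, TensorProduct.zero_tmul, map_zero]
    exact t.zero_mem

theorem exists_prime_over (hU : HopfRep.IsUnipotent k H) (x : A →ₐ[k] k) (P : Ideal A)
    [P.IsPrime] (hP : RingHom.ker (GLin.orbitHom k H x) ≤ P) :
    ∃ q : Ideal H, q.IsPrime ∧ q.comap (GLin.orbitHom k H x).toRingHom = P := by
  haveI : Nontrivial H := (Bialgebra.counitAlgHom k H).toRingHom.domain_nontrivial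
  let y : A →ₐ[k] P.ResidueField := IsScalarTower.toAlgHom k A P.ResidueField
  have hyker : RingHom.ker y = P := by
    ext a
    rw [RingHom.mem_ker]
    exact Ideal.algebraMap_residueField_eq_zero
  haveI : Nontrivial (P.ResidueField ⊗[k] H) :=
    (Algebra.TensorProduct.lift (AlgHom.id k P.ResidueField)
      ((Algebra.ofId k P.ResidueField).comp (Bialgebra.counitAlgHom k H))
      (fun _ _ => Commute.all _ _)).toRingHom.domain_nontrivial
  have hy : ∀ a, GLin.orbitHom k H x a = 0 → y a = 0 := by
    intro a ha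
    have h1 : a ∈ P := hP ((RingHom.mem_ker).mpr ha)
    rw [← hyker] at h1
    exact h1
  have hker : ∀ a, tau (H := H) y a = 0 ↔ GLin.orbitHom k H x a = 0 := ker_tau_eq hU x y hy
  have hne : RingHom.ker (GLin.orbitHom k H x).toRingHom ≠ ⊤ := RingHom.ker_ne_top _
  obtain ⟨⟨η, hη⟩⟩ := Ideal.nonempty_minimalPrimes hne
  haveI hηp : η.IsPrime := hη.1.1
  have hkereq : RingHom.ker (tau (H := H) y).toRingHom =
      RingHom.ker (GLin.orbitHom k H x).toRingHom := by
    ext a
    rw [RingHom.mem_ker, RingHom.mem_ker]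
    exact hker a
  obtain ⟨r, hrp, -, hr⟩ := Ideal.exists_comap_eq_of_mem_minimalPrimes (I := (⊥ : Ideal H))
    (GLin.orbitHom k H x).toRingHom η (by rw [← RingHom.ker_eq_comap_bot]; exact hη)
  obtain ⟨Q1, hQp, -, hQ⟩ := Ideal.exists_comap_eq_of_mem_minimalPrimes
    (I := (⊥ : Ideal (P.ResidueField ⊗[k] H)))
    (tau (H := H) y).toRingHom η (by rw [← RingHom.ker_eq_comap_bot, hkereq]; exact hη)
  haveI := hrp
  haveI := hQp
  let f₁ : η.ResidueField →+* Q1.ResidueField :=
    Ideal.ResidueField.map η Q1 (tau (H := H) y).toRingHom hQ.symm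
  let f₂ : η.ResidueField →+* r.ResidueField :=
    Ideal.ResidueField.map η r (GLin.orbitHom k H x).toRingHom hr.symm
  letI : Algebra η.ResidueField Q1.ResidueField := f₁.toAlgebra
  letI : Algebra η.ResidueField r.ResidueField := f₂.toAlgebra
  let j₁r : P.ResidueField ⊗[k] H →+* Q1.ResidueField ⊗[η.ResidueField] r.ResidueField :=
    (Algebra.TensorProduct.includeLeftRingHom).comp
      (algebraMap (P.ResidueField ⊗[k] H) Q1.ResidueField)
  let j₂r : H →+* Q1.ResidueField ⊗[η.ResidueField] r.ResidueField :=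
    (Algebra.TensorProduct.includeRight (R := η.ResidueField) (A := Q1.ResidueField)
      (B := r.ResidueField)).toRingHom.comp (algebraMap H r.ResidueField)
  have hj : ∀ a, j₁r (tau (H := H) y a) = j₂r (GLin.orbitHom k H x a) := by
    intro a
    show (algebraMap (P.ResidueField ⊗[k] H) Q1.ResidueField (tau (H := H) y a))
        ⊗ₜ[η.ResidueField] (1 : r.ResidueField) =
      (1 : Q1.ResidueField) ⊗ₜ[η.ResidueField]
        (algebraMap H r.ResidueField (GLin.orbitHom k H x a))
    have e1 : algebraMap (P.ResidueField ⊗[k] H) Q1.ResidueField (tau (H := H) y a) =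
        algebraMap η.ResidueField Q1.ResidueField (algebraMap A η.ResidueField a) :=
      (Ideal.ResidueField.map_algebraMap η Q1 _ hQ.symm a).symm
    have e2 : algebraMap H r.ResidueField (GLin.orbitHom k H x a) =
        algebraMap η.ResidueField r.ResidueField (algebraMap A η.ResidueField a) :=
      (Ideal.ResidueField.map_algebraMap η r _ hr.symm a).symm
    rw [e1, e2, Algebra.algebraMap_eq_smul_one,
      Algebra.algebraMap_eq_smul_one (A := r.ResidueField), TensorProduct.smul_tmul]
  obtain ⟨q, hq, hqc⟩ := exists_prime_of_maps x y j₁r j₂r hj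
  exact ⟨q, hq, hqc.trans hyker⟩

/-- **Kostant–Rosenlicht** for affine group schemes: orbits of a unipotent group on an affine
scheme are closed. -/
theorem isClosedOrbit (hU : HopfRep.IsUnipotent k H) (x : A →ₐ[k] k) :
    GLin.IsClosedOrbit k H x := by
  unfold GLin.IsClosedOrbit
  have hrange : Set.range (PrimeSpectrum.comap (GLin.orbitHom k H x).toRingHom) =
      PrimeSpectrum.zeroLocus (RingHom.ker (GLin.orbitHom k H x).toRingHom : Set A) := by
    ext p
    constructor
    · rintro ⟨q, rfl⟩
      rw [PrimeSpectrum.mem_zeroLocus]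
      intro a ha
      show a ∈ (PrimeSpectrum.comap (GLin.orbitHom k H x).toRingHom q).asIdeal
      rw [PrimeSpectrum.comap_asIdeal, Ideal.mem_comap]
      have h0 : (GLin.orbitHom k H x).toRingHom a = 0 := (RingHom.mem_ker).mp ha
      rw [h0]
      exact q.asIdeal.zero_mem
    · intro hp
      rw [PrimeSpectrum.mem_zeroLocus] at hp
      obtain ⟨q, hq, hqc⟩ := exists_prime_over hU x p.asIdeal (fun a ha => hp ha)
      refine ⟨⟨q, hq⟩, ?_⟩
      apply PrimeSpectrum.ext
      rw [PrimeSpectrum.comap_asIdeal]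
      exact hqc
  rw [hrange]
  exact PrimeSpectrum.isClosed_zeroLocus _

end Closed

end Groth.Agent.Helper22.KR
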