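import Mathlib

/-!
# Power series in three variables over a perfect field of characteristic `p`:
derivations are determined by their values on the variables (helper22, for S16050).
-/

set_option autoImplicit false
universe u

namespace Groth.Agent.Helper22.KaeExt

open MvPowerSeries

section Decomp

variable {k : Type u} [Field k] (p : ℕ) [Fact p.Prime] [CharP k p] [PerfectRing k p]

/-- exponent vector attached to a residue vector -/
noncomputable def aE (e : Fin 3 → Fin p) : Fin 3 →₀ ℕ :=
  Finsupp.equivFunOnFinite.symm (fun i => ((e i : Fin p) : ℕ))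

theorem aE_apply (e : Fin 3 → Fin p) (i : Fin 3) : aE p e i = ((e i : Fin p) : ℕ) := rfl

/-- Every power series is a combination of the monomials `X^a`, `a < p`, with `p`-th power
coefficients. -/
theorem decomp (g : MvPowerSeries (Fin 3) k) :
    ∃ h : (Fin 3 → Fin p) → MvPowerSeries (Fin 3) k,
      g = ∑ e : Fin 3 → Fin p, monomial (aE p e) (1 : k) * (h e) ^ p := by
  classical
  have hp : p ≠ 0 := (Fact.out : p.Prime).ne_zero
  have hppos : 0 < p := (Fact.out : p.Prime).pos
  set H : (Fin 3 → Fin p) → MvPowerSeries (Fin 3) k :=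
    fun e m => (frobeniusEquiv k p).symm (coeff (aE p e + p • m) g) with hH
  have hHc : ∀ e m, coeff m (H e) = (frobeniusEquiv k p).symm (coeff (aE p e + p • m) g) :=
    fun e m => rfl
  refine ⟨H, ?_⟩
  ext n
  rw [map_sum]
  set e₀ : Fin 3 → Fin p := fun i => ⟨n i % p, Nat.mod_lt _ hppos⟩ with he₀
  set m₀ : Fin 3 →₀ ℕ := Finsupp.equivFunOnFinite.symm (fun i => n i / p) with hm₀
  have hn : aE p e₀ + p • m₀ = n := by
    ext i
    have h1 : (aE p e₀ + p • m₀) i = aE p e₀ i + p * m₀ i := by
      rw [Finsupp.add_apply, Finsupp.smul_apply, smul_eq_mul]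
    rw [h1]
    exact Nat.mod_add_div (n i) p
  have hle : aE p e₀ ≤ n := by
    rw [Finsupp.le_def]
    intro i
    exact Nat.mod_le (n i) p
  have hsub : n - aE p e₀ = p • m₀ := by
    conv_lhs => rw [← hn]
    exact add_tsub_cancel_left _ _
  rw [Finset.sum_eq_single e₀]
  · rw [coeff_monomial_mul, if_pos hle, one_mul, ← map_frobenius_expand p hp, coeff_map,
      hsub, coeff_expand_smul, hHc, frobenius_apply_frobeniusEquiv_symm, hn]
  · intro e _ hne
    rw [coeff_monomial_mul]
    split_ifs with hle'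
    · rw [one_mul, ← map_frobenius_expand p hp, coeff_map]
      have hex : ∃ i, ¬ p ∣ (n - aE p e) i := by
        by_contra hcon
        push_neg at hcon
        apply hne
        funext i
        apply Fin.ext
        show ((e i : Fin p) : ℕ) = n i % p
        obtain ⟨q, hq⟩ := hcon i
        have hle'' : aE p e i ≤ n i := Finsupp.le_def.mp hle' i
        rw [Finsupp.tsub_apply] at hq
        rw [aE_apply] at hq hle''
        have h2 : n i = ((e i : Fin p) : ℕ) + p * q := by omega
        rw [h2, Nat.add_mul_mod_self_left, Nat.mod_eq_of_lt (e i).isLt]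
      obtain ⟨i, hi⟩ := hex
      rw [coeff_expand_of_not_dvd p hp _ hi, map_zero]
    · rfl
  · intro h
    exact absurd (Finset.mem_univ _) h

/-- A "`φ`-derivation" on the power series ring killing the variables is zero. -/
theorem phiDer_eq_zero {A M : Type*} [CommRing A] [AddCommGroup M] [Module A M]
    (φ : MvPowerSeries (Fin 3) k →+* A) (Δ : MvPowerSeries (Fin 3) k →+ M)
    (hmul : ∀ g h, Δ (g * h) = φ g • Δ h + φ h • Δ g)
    (hpM : ∀ m : M, p • m = 0)
    (hX : ∀ i, Δ (X i) = 0) (g : MvPowerSeries (Fin 3) k) : Δ g = 0 := by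
  classical
  have h1 : Δ 1 = 0 := by
    have h := hmul 1 1
    rw [mul_one, map_one φ, one_smul] at h
    exact add_eq_left.mp h.symm
  have hpow : ∀ (h : MvPowerSeries (Fin 3) k) (n : ℕ),
      Δ (h ^ (n + 1)) = (n + 1) • (φ h ^ n • Δ h) := by
    intro h n
    induction n with
    | zero => simp
    | succ n ih =>
      rw [pow_succ, hmul, ih, map_pow]
      module
  have hp1 : 1 ≤ p := (Fact.out : p.Prime).pos
  have hpp : ∀ h : MvPowerSeries (Fin 3) k, Δ (h ^ p) = 0 := by
    intro h
    have h2 := hpow h (p - 1)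
    rw [Nat.sub_add_cancel hp1] at h2
    rw [h2]
    exact hpM _
  have hXpow : ∀ (i : Fin 3) (b : ℕ), Δ ((X i : MvPowerSeries (Fin 3) k) ^ b) = 0 := by
    intro i b
    cases b with
    | zero => rw [pow_zero]; exact h1
    | succ b => rw [hpow, hX, smul_zero, smul_zero]
  have hmono : ∀ a : Fin 3 →₀ ℕ, Δ (monomial a (1 : k)) = 0 := by
    intro a
    refine Finsupp.induction a ?_ ?_
    · rw [monomial_zero_one]; exact h1
    · intro i b a _ _ ih
      have h3 : monomial (Finsupp.single i b + a) (1 : k) =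
          (X i : MvPowerSeries (Fin 3) k) ^ b * monomial a 1 := by
        rw [X_pow_eq, monomial_mul_monomial, one_mul]
      rw [h3, hmul, ih, hXpow, smul_zero, smul_zero, add_zero]
  obtain ⟨h, hg⟩ := decomp p g
  rw [hg, map_sum]
  apply Finset.sum_eq_zero
  intro e _
  rw [hmul, hpp, hmono, smul_zero, smul_zero, add_zero]

include p in
/-- Chain rule: a derivation of a `k`-algebra `A` composed with a ring map from the power series
ring is determined by the partial derivatives. -/
theorem der_eq_sum_pderiv {A M : Type*} [CommRing A] [Algebra k A] [AddCommGroup M] [Module A M]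
    [Module k M] (φ : MvPowerSeries (Fin 3) k →+* A) (D : Derivation k A M)
    (g : MvPowerSeries (Fin 3) k) :
    D (φ g) = ∑ i, φ (pderiv k i g) • D (φ (X i)) := by
  classical
  have hpM : ∀ m : M, p • m = 0 := fun m => by
    rw [← Nat.cast_smul_eq_nsmul k p m, CharP.cast_eq_zero k p, zero_smul]
  let Δ : MvPowerSeries (Fin 3) k →+ M :=
    { toFun := fun g => D (φ g) - ∑ i, φ (pderiv k i g) • D (φ (X i))
      map_zero' := by simp
      map_add' := fun a b => by
        simp only [map_add, add_smul, Finset.sum_add_distrib]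
        abel }
  have hΔ : ∀ g, Δ g = D (φ g) - ∑ i, φ (pderiv k i g) • D (φ (X i)) := fun _ => rfl
  have hΔmul : ∀ a b, Δ (a * b) = φ a • Δ b + φ b • Δ a := by
    intro a b
    have h1 : ∀ i, φ (pderiv k i (a * b)) • D (φ (X i)) =
        φ a • (φ (pderiv k i b) • D (φ (X i))) + φ b • (φ (pderiv k i a) • D (φ (X i))) := by
      intro i
      rw [Derivation.leibniz, smul_eq_mul, smul_eq_mul, map_add, map_mul, map_mul, add_smul,
        mul_smul, mul_smul]
    rw [hΔ, hΔ, hΔ, map_mul φ a b, D.leibniz, smul_sub, smul_sub, Finset.smul_sum,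
      Finset.smul_sum]
    simp only [h1, Finset.sum_add_distrib]
    abel
  have hΔX : ∀ j, Δ (X j) = 0 := by
    intro j
    rw [hΔ, Finset.sum_eq_single j]
    · rw [pderiv_X_self, map_one, one_smul, sub_self]
    · intro i _ hij
      rw [pderiv_X_of_ne (Ne.symm hij), map_zero, zero_smul]
    · intro h
      exact absurd (Finset.mem_univ _) h
  have h0 := phiDer_eq_zero p φ Δ hΔmul hpM hΔX g
  rw [hΔ] at h0
  exact sub_eq_zero.mp h0

end Decomp

section Socle

variable {k : Type u} [Field k]

theorem X_ne_zero' (i : Fin 3) : (X i : MvPowerSeries (Fin 3) k) ≠ 0 := by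
  intro h
  have h1 := congrArg (coeff (Finsupp.single i 1)) h
  rw [coeff_index_single_self_X, map_zero] at h1
  exact one_ne_zero h1

theorem socle (f s : MvPowerSeries (Fin 3) k) (hf0 : f ≠ 0)
    (h0 : s * X 0 ∈ Ideal.span {f}) (h1 : s * X 1 ∈ Ideal.span {f}) : s ∈ Ideal.span {f} := by
  obtain ⟨a, ha⟩ := Ideal.mem_span_singleton'.mp h0
  obtain ⟨b, hb⟩ := Ideal.mem_span_singleton'.mp h1
  have h2 : a * X 1 = b * X 0 := by
    apply mul_right_cancel₀ hf0
    calc a * X 1 * f = (a * f) * X 1 := by ring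
      _ = (b * f) * X 0 := by rw [ha, hb]; ring
      _ = b * X 0 * f := by ring
  have h3 : (X 0 : MvPowerSeries (Fin 3) k) ∣ a := by
    rw [X_dvd_iff]
    intro m hm
    have h4 : (X 0 : MvPowerSeries (Fin 3) k) ∣ a * X 1 := ⟨b, by rw [h2]; ring⟩
    rw [X_dvd_iff] at h4
    have h5 := h4 (m + Finsupp.single 1 1) (by
      rw [Finsupp.add_apply, hm, zero_add]
      exact Finsupp.single_eq_of_ne (by decide))
    rwa [X_def, coeff_add_mul_monomial, mul_one] at h5
  obtain ⟨a', rfl⟩ := h3
  apply Ideal.mem_span_singleton'.mpr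
  refine ⟨a', ?_⟩
  apply mul_left_cancel₀ (X_ne_zero' (k := k) 0)
  rw [← mul_assoc, ha]
  ring

end Socle

section Main

variable {k : Type u} [Field k] (p : ℕ) [Fact p.Prime] [CharP k p] [PerfectRing k p]

include p in
theorem mem_span_of_mul_pderiv_mem (f g : MvPowerSeries (Fin 3) k)
    (hiso : ∃ N : ℕ, IsLocalRing.maximalIdeal (MvPowerSeries (Fin 3) k) ^ N ≤
      Ideal.span {f} ⊔ Ideal.span {g' | ∃ D : Derivation k (MvPowerSeries (Fin 3) k)
        (MvPowerSeries (Fin 3) k), g' = D f})
    (hg : ∀ i, g * pderiv k i f ∈ Ideal.span {f}) : g ∈ Ideal.span {f} := by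
  obtain ⟨N, hN⟩ := hiso
  have hXm : ∀ i : Fin 3, (X i : MvPowerSeries (Fin 3) k) ∈
      IsLocalRing.maximalIdeal (MvPowerSeries (Fin 3) k) := by
    intro i
    rw [IsLocalRing.mem_maximalIdeal, mem_nonunits_iff, MvPowerSeries.isUnit_iff_constantCoeff,
      constantCoeff_X]
    exact not_isUnit_zero
  have hf0 : f ≠ 0 := by
    rintro rfl
    have h2 := hN (Ideal.pow_mem_pow (hXm 0) N)
    have h3 : Ideal.span {(0 : MvPowerSeries (Fin 3) k)} ⊔
        Ideal.span {g' | ∃ D : Derivation k (MvPowerSeries (Fin 3) k)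
          (MvPowerSeries (Fin 3) k), g' = D 0} ≤ ⊥ := by
      refine sup_le (Ideal.span_le.mpr ?_) (Ideal.span_le.mpr ?_)
      · intro x hx
        rw [Set.mem_singleton_iff] at hx
        rw [hx]
        exact Submodule.zero_mem _
      · rintro x ⟨D, rfl⟩
        rw [map_zero]
        exact Submodule.zero_mem _
    have h1 := h3 h2
    rw [Ideal.mem_bot] at h1
    exact pow_ne_zero N (X_ne_zero' (k := k) 0) h1
  have key : ∀ (N : ℕ) (g : MvPowerSeries (Fin 3) k),
      (∀ m ∈ IsLocalRing.maximalIdeal (MvPowerSeries (Fin 3) k) ^ N, g * m ∈ Ideal.span {f}) →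
      g ∈ Ideal.span {f} := by
    intro N
    induction N with
    | zero =>
      intro g h
      have h4 := h 1 (by rw [pow_zero, Ideal.one_eq_top]; exact Submodule.mem_top)
      rwa [mul_one] at h4
    | succ N ih =>
      intro g h
      apply ih
      intro m hm
      apply socle f (g * m) hf0
      · have h4 := h (m * X 0) (by rw [pow_succ]; exact Ideal.mul_mem_mul hm (hXm 0))
        rwa [← mul_assoc] at h4
      · have h4 := h (m * X 1) (by rw [pow_succ]; exact Ideal.mul_mem_mul hm (hXm 1))
        rwa [← mul_assoc] at h4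
  apply key N g
  intro m hm
  obtain ⟨m₁, hm₁, m₂, hm₂, rfl⟩ := Submodule.mem_sup.mp (hN hm)
  rw [mul_add]
  refine Ideal.add_mem _ (Ideal.mul_mem_left _ _ hm₁) ?_
  have hJ : Ideal.span {g' | ∃ D : Derivation k (MvPowerSeries (Fin 3) k)
      (MvPowerSeries (Fin 3) k), g' = D f} ≤
      Submodule.comap (LinearMap.mulLeft (MvPowerSeries (Fin 3) k) g) (Ideal.span {f}) := by
    refine Ideal.span_le.mpr ?_
    rintro x ⟨D, rfl⟩
    show g * D f ∈ Ideal.span {f}
    have h5 := der_eq_sum_pderiv p (RingHom.id _) D f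
    simp only [RingHom.id_apply] at h5
    rw [h5, Finset.mul_sum]
    refine Ideal.sum_mem _ (fun i _ => ?_)
    rw [smul_eq_mul, ← mul_assoc]
    exact Ideal.mul_mem_right _ _ (hg i)
  exact hJ hm₂

end Main

end Groth.Agent.Helper22.KaeExt
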