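import Mathlib
import Groth.Agent.Lib.Helper22.KaeExt1

/-!
# The conormal sequence `0 → R₀ → R₀³ → Ω_{R₀/k} → 0` of a hypersurface `R₀ = k[[x,y,z]]/(f)`
with isolated singularity, `k` perfect of characteristic `p` (helper22, for S16050).
-/

set_option autoImplicit false
universe u

namespace Groth.Agent.Helper22.KaeExt

open MvPowerSeries

section Defs

variable {k : Type u} [Field k]

/-- The hypersurface ring. -/
abbrev R0 (f : MvPowerSeries (Fin 3) k) : Type u := MvPowerSeries (Fin 3) k ⧸ Ideal.span {f}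

/-- The quotient map. -/
noncomputable abbrev mk0 (f : MvPowerSeries (Fin 3) k) : MvPowerSeries (Fin 3) k →+* R0 f :=
  Ideal.Quotient.mk (Ideal.span {f})

theorem mk0_self (f : MvPowerSeries (Fin 3) k) : mk0 f f = 0 :=
  Ideal.Quotient.eq_zero_iff_mem.mpr (Ideal.mem_span_singleton_self f)

theorem mk0_smul (f : MvPowerSeries (Fin 3) k) (c : k) (a : MvPowerSeries (Fin 3) k) :
    mk0 f (c • a) = c • mk0 f a :=
  map_smul (Ideal.Quotient.mkₐ k (Ideal.span {f})) c a

/-- The gradient vector. -/
noncomputable def vv (f : MvPowerSeries (Fin 3) k) : Fin 3 → R0 f := fun i => mk0 f (pderiv k i f)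

/-- `r ↦ r • grad f`. -/
noncomputable def delta (f : MvPowerSeries (Fin 3) k) : R0 f →ₗ[R0 f] (Fin 3 → R0 f) :=
  LinearMap.toSpanSingleton (R0 f) (Fin 3 → R0 f) (vv f)

theorem delta_apply (f : MvPowerSeries (Fin 3) k) (r : R0 f) (i : Fin 3) :
    delta f r i = r * mk0 f (pderiv k i f) := rfl

theorem delta_eq (f : MvPowerSeries (Fin 3) k) (r : R0 f) :
    delta f r = r • (fun i => mk0 f (pderiv k i f)) := rfl

/-- `c ↦ ∑ cᵢ d(xᵢ)`. -/
noncomputable def piMap (f : MvPowerSeries (Fin 3) k) : (Fin 3 → R0 f) →ₗ[R0 f] Ω[R0 f⁄k] :=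
  Fintype.linearCombination (R0 f) (fun i => KaehlerDifferential.D k (R0 f) (mk0 f (X i)))

theorem piMap_apply (f : MvPowerSeries (Fin 3) k) (c : Fin 3 → R0 f) :
    piMap f c = ∑ i, c i • KaehlerDifferential.D k (R0 f) (mk0 f (X i)) :=
  Fintype.linearCombination_apply _ _ _

/-- The cokernel of `delta`. -/
abbrev QQ (f : MvPowerSeries (Fin 3) k) : Type u := (Fin 3 → R0 f) ⧸ LinearMap.range (delta f)

theorem grad_mem_range (f g : MvPowerSeries (Fin 3) k) (hg : g ∈ Ideal.span {f}) :
    (fun i => mk0 f (pderiv k i g)) ∈ LinearMap.range (delta f) := by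
  obtain ⟨a, rfl⟩ := Ideal.mem_span_singleton'.mp hg
  refine ⟨mk0 f a, funext fun i => ?_⟩
  rw [delta_apply, Derivation.leibniz, smul_eq_mul, smul_eq_mul, map_add, map_mul, map_mul,
    mk0_self, zero_mul, add_zero]

/-- the would-be universal derivation into the cokernel (as a function) -/
noncomputable def dFun (f : MvPowerSeries (Fin 3) k) (r : R0 f) : QQ f :=
  Submodule.Quotient.mk (fun i => mk0 f (pderiv k i
    (Function.surjInv (Ideal.Quotient.mk_surjective (I := Ideal.span {f})) r)))

theorem dFun_mk (f g : MvPowerSeries (Fin 3) k) :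
    dFun f (mk0 f g) = Submodule.Quotient.mk (fun i => mk0 f (pderiv k i g)) := by
  unfold dFun
  rw [Submodule.Quotient.eq]
  have h1 : Function.surjInv (Ideal.Quotient.mk_surjective (I := Ideal.span {f})) (mk0 f g) - g ∈
      Ideal.span {f} :=
    Ideal.Quotient.eq.mp (Function.surjInv_eq _ _)
  have h2 := grad_mem_range f _ h1
  have h3 : (fun i => mk0 f (pderiv k i
      (Function.surjInv (Ideal.Quotient.mk_surjective (I := Ideal.span {f})) (mk0 f g) - g))) =
      (fun i => mk0 f (pderiv k i
        (Function.surjInv (Ideal.Quotient.mk_surjective (I := Ideal.span {f})) (mk0 f g)))) -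
      (fun i => mk0 f (pderiv k i g)) := by
    funext i
    simp only [Pi.sub_apply, map_sub]
  rw [← h3]
  exact h2

/-- `dFun` as a `k`-linear map. -/
noncomputable def dLin (f : MvPowerSeries (Fin 3) k) : R0 f →ₗ[k] QQ f where
  toFun := dFun f
  map_add' := by
    intro a b
    obtain ⟨a, rfl⟩ := Ideal.Quotient.mk_surjective a
    obtain ⟨b, rfl⟩ := Ideal.Quotient.mk_surjective b
    rw [← map_add, dFun_mk, dFun_mk, dFun_mk, ← Submodule.Quotient.mk_add]
    congr 1
    funext i
    simp only [map_add, Pi.add_apply]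
  map_smul' := by
    intro c a
    obtain ⟨a, rfl⟩ := Ideal.Quotient.mk_surjective a
    rw [RingHom.id_apply, ← mk0_smul, dFun_mk, dFun_mk, ← Submodule.Quotient.mk_smul]
    congr 1
    funext i
    rw [Pi.smul_apply, Derivation.map_smul, mk0_smul]

theorem dLin_apply (f : MvPowerSeries (Fin 3) k) (r : R0 f) : dLin f r = dFun f r := rfl

/-- The derivation `R₀ → coker delta`. -/
noncomputable def dQ (f : MvPowerSeries (Fin 3) k) : Derivation k (R0 f) (QQ f) where
  toLinearMap := dLin f
  map_one_eq_zero' := by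
    rw [dLin_apply, ← map_one (mk0 f), dFun_mk]
    have h : (fun i => mk0 f (pderiv k i (1 : MvPowerSeries (Fin 3) k))) = 0 := by
      funext i
      rw [Derivation.map_one_eq_zero, map_zero]
      rfl
    rw [h, Submodule.Quotient.mk_zero]
  leibniz' := by
    intro a b
    obtain ⟨a, rfl⟩ := Ideal.Quotient.mk_surjective a
    obtain ⟨b, rfl⟩ := Ideal.Quotient.mk_surjective b
    rw [dLin_apply, dLin_apply, dLin_apply, ← map_mul, dFun_mk, dFun_mk, dFun_mk,
      ← Submodule.Quotient.mk_smul, ← Submodule.Quotient.mk_smul, ← Submodule.Quotient.mk_add]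
    congr 1
    funext i
    simp only [Pi.add_apply, Pi.smul_apply, smul_eq_mul, Derivation.leibniz, map_add, map_mul]

theorem dQ_mk (f g : MvPowerSeries (Fin 3) k) :
    dQ f (mk0 f g) = Submodule.Quotient.mk (fun i => mk0 f (pderiv k i g)) :=
  dFun_mk f g

end Defs

section Exact

variable {k : Type u} [Field k] (p : ℕ) [Fact p.Prime] [CharP k p] [PerfectRing k p]
variable (f : MvPowerSeries (Fin 3) k)

include p in
theorem D_mk (g : MvPowerSeries (Fin 3) k) :
    KaehlerDifferential.D k (R0 f) (mk0 f g) = piMap f (fun i => mk0 f (pderiv k i g)) := by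
  rw [piMap_apply]
  exact der_eq_sum_pderiv p (mk0 f) (KaehlerDifferential.D k (R0 f)) g

include p in
theorem piMap_delta (r : R0 f) : piMap f (delta f r) = 0 := by
  rw [delta_eq, map_smul, ← D_mk p f f, mk0_self, map_zero, smul_zero]

include p in
theorem piMap_surjective : Function.Surjective (piMap f) := by
  rw [← LinearMap.range_eq_top, eq_top_iff, ← KaehlerDifferential.span_range_derivation k (R0 f),
    Submodule.span_le]
  rintro _ ⟨r, rfl⟩
  obtain ⟨g, rfl⟩ := Ideal.Quotient.mk_surjective r
  exact ⟨_, (D_mk p f g).symm⟩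

theorem ker_piMap_le : LinearMap.ker (piMap f) ≤ LinearMap.range (delta f) := by
  classical
  intro c hc
  rw [LinearMap.mem_ker] at hc
  have h1 : ∀ i, dQ f (mk0 f (X i)) =
      (LinearMap.range (delta f)).mkQ (Pi.single i (1 : R0 f)) := by
    intro i
    rw [dQ_mk, Submodule.mkQ_apply]
    congr 1
    funext j
    rw [pderiv_X]
    by_cases h : j = i
    · subst h
      simp
    · simp [h, Ne.symm h]
  have h2 : (∑ i, c i • (Pi.single i (1 : R0 f) : Fin 3 → R0 f)) = c := by
    funext j
    simp [Finset.sum_apply, Pi.single_apply]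
  have hL : (dQ f).liftKaehlerDifferential (piMap f c) = (LinearMap.range (delta f)).mkQ c := by
    rw [piMap_apply, map_sum]
    simp only [map_smul, Derivation.liftKaehlerDifferential_comp_D, h1]
    have h4 : (LinearMap.range (delta f)).mkQ c =
        ∑ i, c i • (LinearMap.range (delta f)).mkQ (Pi.single i (1 : R0 f)) := by
      conv_lhs => rw [← h2]
      rw [map_sum]
      simp only [map_smul]
    rw [h4]
  rw [hc, map_zero] at hL
  exact (Submodule.Quotient.mk_eq_zero _).mp hL.symm

include p in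
theorem delta_injective
    (hiso : ∃ N : ℕ, IsLocalRing.maximalIdeal (MvPowerSeries (Fin 3) k) ^ N ≤
      Ideal.span {f} ⊔ Ideal.span {g' | ∃ D : Derivation k (MvPowerSeries (Fin 3) k)
        (MvPowerSeries (Fin 3) k), g' = D f}) :
    Function.Injective (delta f) := by
  rw [injective_iff_map_eq_zero]
  intro r hr
  obtain ⟨g, rfl⟩ := Ideal.Quotient.mk_surjective r
  rw [Ideal.Quotient.eq_zero_iff_mem]
  apply mem_span_of_mul_pderiv_mem p f g hiso
  intro i
  rw [← Ideal.Quotient.eq_zero_iff_mem, map_mul]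
  have h := congrFun hr i
  rw [delta_apply, Pi.zero_apply] at h
  exact h

end Exact

end Groth.Agent.Helper22.KaeExt
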