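import Mathlib
import Groth.Agent.Lib.Helper22.KaeExt2

/-!
# `Ext` groups of `Ω_{R₀/k}` for an isolated hypersurface singularity `R₀ = k[[x,y,z]]/(f)`
(helper22, for S16050).
-/

set_option autoImplicit false
universe u

namespace Groth.Agent.Helper22.KaeExt

open MvPowerSeries CategoryTheory

variable {k : Type u} [Field k] (p : ℕ) [Fact p.Prime] [CharP k p] [PerfectRing k p]
variable (f : MvPowerSeries (Fin 3) k)

include p in
theorem SC_zero : ModuleCat.ofHom (delta f) ≫ ModuleCat.ofHom (piMap f) = 0 := by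
  apply ModuleCat.hom_ext
  apply LinearMap.ext
  intro r
  exact piMap_delta p f r

/-- The conormal sequence as a short complex. -/
noncomputable abbrev SC : ShortComplex (ModuleCat.{u} (R0 f)) :=
  ShortComplex.mk (ModuleCat.ofHom (delta f)) (ModuleCat.ofHom (piMap f)) (SC_zero p f)

theorem SC_shortExact
    (hiso : ∃ N : ℕ, IsLocalRing.maximalIdeal (MvPowerSeries (Fin 3) k) ^ N ≤
      Ideal.span {f} ⊔ Ideal.span {g' | ∃ D : Derivation k (MvPowerSeries (Fin 3) k)
        (MvPowerSeries (Fin 3) k), g' = D f}) :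
    (SC p f).ShortExact := by
  refine ShortComplex.ShortExact.mk' ?_ ?_ ?_
  · rw [ShortComplex.moduleCat_exact_iff]
    intro x hx
    exact ker_piMap_le f (LinearMap.mem_ker.mpr hx)
  · rw [ModuleCat.mono_iff_injective]
    exact delta_injective p f hiso
  · rw [ModuleCat.epi_iff_surjective]
    exact piMap_surjective p f

include p in
theorem ext2_subsingleton
    (hiso : ∃ N : ℕ, IsLocalRing.maximalIdeal (MvPowerSeries (Fin 3) k) ^ N ≤
      Ideal.span {f} ⊔ Ideal.span {g' | ∃ D : Derivation k (MvPowerSeries (Fin 3) k)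
        (MvPowerSeries (Fin 3) k), g' = D f}) :
    Subsingleton (Abelian.Ext (ModuleCat.of (R0 f) Ω[R0 f⁄k])
      (ModuleCat.of (R0 f) (R0 f)) 2) := by
  have hS := SC_shortExact p f hiso
  haveI : Projective (SC p f).X₂ :=
    (IsProjective.iff_projective (R := R0 f) (Fin 3 → R0 f)).mp inferInstance
  haveI : Projective (SC p f).X₁ :=
    (IsProjective.iff_projective (R := R0 f) (R0 f)).mp inferInstance
  have h0 : ∀ x : Abelian.Ext (SC p f).X₃ (ModuleCat.of (R0 f) (R0 f)) 2, x = 0 := by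
    intro x
    obtain ⟨x₁, hx₁⟩ := Abelian.Ext.contravariant_sequence_exact₃ hS _ x
      (Abelian.Ext.eq_zero_of_projective _) (rfl : 1 + 1 = 2)
    rw [← hx₁, Abelian.Ext.eq_zero_of_projective x₁, Abelian.Ext.comp_zero]
  exact ⟨fun a b => (h0 a).trans (h0 b).symm⟩

include p in
theorem ext1_equiv
    (hiso : ∃ N : ℕ, IsLocalRing.maximalIdeal (MvPowerSeries (Fin 3) k) ^ N ≤
      Ideal.span {f} ⊔ Ideal.span {g' | ∃ D : Derivation k (MvPowerSeries (Fin 3) k)
        (MvPowerSeries (Fin 3) k), g' = D f}) :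
    Nonempty (Abelian.Ext (ModuleCat.of (R0 f) Ω[R0 f⁄k]) (ModuleCat.of (R0 f) (R0 f)) 1
      ≃ₗ[R0 f] (R0 f ⧸ Ideal.map (mk0 f)
        (Ideal.span {g' | ∃ D : Derivation k (MvPowerSeries (Fin 3) k)
          (MvPowerSeries (Fin 3) k), g' = D f}))) := by
  classical
  have hS := SC_shortExact p f hiso
  haveI : Projective (SC p f).X₂ :=
    (IsProjective.iff_projective (R := R0 f) (Fin 3 → R0 f)).mp inferInstance
  let Y : ModuleCat.{u} (R0 f) := ModuleCat.of (R0 f) (R0 f)
  let c : R0 f →ₗ[R0 f] Abelian.Ext (SC p f).X₃ Y 1 :=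
    LinearMap.toSpanSingleton (R0 f) _ hS.extClass
  have hc : ∀ r, c r = r • hS.extClass := fun r => rfl
  have hsurj : Function.Surjective c := by
    intro x
    obtain ⟨x₁, hx₁⟩ := Abelian.Ext.contravariant_sequence_exact₃ hS Y x
      (Abelian.Ext.eq_zero_of_projective _) (rfl : 1 + 0 = 1)
    obtain ⟨φ, rfl⟩ := (Abelian.Ext.mk₀_bijective _ _).2 x₁
    refine ⟨φ.hom (1 : R0 f), ?_⟩
    rw [hc, Abelian.Ext.smul_eq_comp_mk₀, ← hx₁]
    have h1 : (φ.hom (1 : R0 f)) • 𝟙 Y = φ := by
      apply ModuleCat.hom_ext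
      apply LinearMap.ext_ring
      rw [ModuleCat.hom_smul, ModuleCat.hom_id]
      simp
    rw [h1]
  have hker : LinearMap.ker c = Ideal.map (mk0 f)
      (Ideal.span {g' | ∃ D : Derivation k (MvPowerSeries (Fin 3) k)
        (MvPowerSeries (Fin 3) k), g' = D f}) := by
    apply le_antisymm
    · intro r hr
      rw [LinearMap.mem_ker, hc, Abelian.Ext.smul_eq_comp_mk₀] at hr
      obtain ⟨x₂, hx₂⟩ := Abelian.Ext.contravariant_sequence_exact₁ hS Y
        (Abelian.Ext.mk₀ (r • 𝟙 Y)) (rfl : 1 + 0 = 1) hr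
      obtain ⟨ψ, rfl⟩ := (Abelian.Ext.mk₀_bijective _ _).2 x₂
      rw [Abelian.Ext.mk₀_comp_mk₀] at hx₂
      have hψ : (SC p f).f ≫ ψ = r • 𝟙 Y := (Abelian.Ext.mk₀_bijective _ _).1 hx₂
      have h1 : ψ.hom (vv f) = r := by
        have h2 := congrArg (fun m => m.hom (1 : R0 f)) hψ
        simp only [ModuleCat.hom_comp, ModuleCat.hom_ofHom, LinearMap.comp_apply,
          ModuleCat.hom_smul, ModuleCat.hom_id, LinearMap.smul_apply, LinearMap.id_apply,
          smul_eq_mul, mul_one] at h2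
        have h3 : (ModuleCat.Hom.hom (𝟙 Y)) (1 : R0 f) = 1 := rfl
        rw [h3, mul_one] at h2
        rw [← h2]
        congr 1
        show vv f = (1 : R0 f) • vv f
        rw [one_smul]
      rw [← h1, LinearMap.pi_apply_eq_sum_univ ψ.hom (vv f)]
      refine Ideal.sum_mem _ (fun i _ => ?_)
      rw [smul_eq_mul]
      apply Ideal.mul_mem_right
      exact Ideal.mem_map_of_mem _ (Ideal.subset_span ⟨pderiv k i, rfl⟩)
    · rw [Ideal.map_span, Ideal.span_le]
      rintro _ ⟨_, ⟨D, rfl⟩, rfl⟩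
      rw [SetLike.mem_coe, LinearMap.mem_ker, hc]
      set ψ : (Fin 3 → R0 f) →ₗ[R0 f] R0 f :=
        Fintype.linearCombination (R0 f) (fun i => mk0 f (D (X i))) with hψdef
      have hr : mk0 f (D f) = ψ (vv f) := by
        rw [hψdef, Fintype.linearCombination_apply]
        have h5 := der_eq_sum_pderiv p (RingHom.id _) D f
        simp only [RingHom.id_apply] at h5
        rw [h5, map_sum]
        refine Finset.sum_congr rfl (fun i _ => ?_)
        rw [smul_eq_mul, map_mul, smul_eq_mul]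
        rfl
      have hcomp : (SC p f).f ≫ ModuleCat.ofHom ψ = (mk0 f (D f)) • 𝟙 Y := by
        apply ModuleCat.hom_ext
        apply LinearMap.ext_ring
        rw [ModuleCat.hom_smul, ModuleCat.hom_id, ModuleCat.hom_comp, ModuleCat.hom_ofHom,
          LinearMap.comp_apply, LinearMap.smul_apply, LinearMap.id_apply, smul_eq_mul, mul_one, hr]
        congr 1
        show (1 : R0 f) • vv f = vv f
        rw [one_smul]
      rw [Abelian.Ext.smul_eq_comp_mk₀, ← hcomp, ← Abelian.Ext.mk₀_comp_mk₀]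
      exact hS.extClass_comp_assoc _
  exact ⟨((LinearMap.quotKerEquivOfSurjective c hsurj).symm).trans
    (Submodule.quotEquivOfEq _ _ hker)⟩

end Groth.Agent.Helper22.KaeExt
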