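import Mathlib
import Groth.Agent.Lib.Helper22.Kaplansky2

/-!
# Kaplansky's theorem, part 3: projective modules over local rings are free
-/

open Submodule Module

namespace Groth.Agent.Helper22.Kap

section Local

variable {R : Type*} [CommRing R] {F : Type*} [AddCommGroup F] [Module R F]

/-- Elementary basis change killing one coordinate. -/
theorem exists_basis_erase {I : Type*} [DecidableEq I] (b : Basis I R F) (x : F) (j : I)
    (c : I → R)
    (hj : b.repr x j = ∑ i ∈ (b.repr x).support.erase j, c i * b.repr x i) :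
    ∃ b' : Basis I R F, (b'.repr x).support = (b.repr x).support.erase j := by
  let ψ : F →ₗ[R] R := ∑ i ∈ (b.repr x).support.erase j, c i • b.coord i
  have hψ : ∀ v, ψ v = ∑ i ∈ (b.repr x).support.erase j, c i * b.repr v i := by
    intro v
    simp only [ψ, LinearMap.sum_apply, LinearMap.smul_apply, Basis.coord_apply, smul_eq_mul]
  have hψj : ψ (b j) = 0 := by
    rw [hψ]
    refine Finset.sum_eq_zero fun i hi => ?_
    simp [(Finset.ne_of_mem_erase hi).symm]
  let φ : F →ₗ[R] F := ψ.smulRight (b j)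
  have hφ : ∀ v, φ v = ψ v • b j := fun v => rfl
  have hφφ : ∀ v, φ (φ v) = 0 := by
    intro v
    have h1 : φ (φ v) = ψ (ψ v • b j) • b j := rfl
    rw [h1, map_smul, hψj, smul_zero, zero_smul]
  let e : F ≃ₗ[R] F := LinearEquiv.ofLinearMap (LinearMap.id + φ) (LinearMap.id - φ)
    (LinearMap.ext fun v => by
      simp only [LinearMap.comp_apply, LinearMap.add_apply, LinearMap.sub_apply,
        LinearMap.id_apply, map_sub]
      rw [hφφ]; abel)
    (LinearMap.ext fun v => by
      simp only [LinearMap.comp_apply, LinearMap.add_apply, LinearMap.sub_apply,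
        LinearMap.id_apply, map_add]
      rw [hφφ]; abel)
  refine ⟨b.map e, ?_⟩
  have h2 : (b.map e).repr x = Finsupp.erase j (b.repr x) := by
    rw [Basis.map_repr, LinearEquiv.trans_apply, Finsupp.erase_eq_sub_single]
    have h1 : e.symm x = x - φ x := rfl
    rw [h1, map_sub, hφ, map_smul, Basis.repr_self, hψ x, ← hj, Finsupp.smul_single,
      smul_eq_mul, mul_one]
  rw [h2, Finsupp.support_erase]

/-- A basis for which the expression of `x` has minimal support: no coefficient lies in the
ideal generated by the others. -/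
theorem exists_min_basis {I : Type*} [DecidableEq I] (b₀ : Basis I R F) (x : F) :
    ∃ b : Basis I R F, ∀ j ∈ (b.repr x).support,
      b.repr x j ∉ Ideal.span ((⇑(b.repr x)) '' (↑((b.repr x).support.erase j) : Set I)) := by
  classical
  let p : ℕ → Prop := fun n => ∃ b : Basis I R F, (b.repr x).support.card = n
  have hp : ∃ n, p n := ⟨_, b₀, rfl⟩
  obtain ⟨b, hb⟩ := Nat.find_spec hp
  refine ⟨b, fun j hj hmem => ?_⟩
  change b.repr x j ∈ Submodule.span R _ at hmem
  rw [Submodule.mem_span_image_finset_iff_exists_fun'] at hmem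
  obtain ⟨c, hc⟩ := hmem
  obtain ⟨b', hb'⟩ := exists_basis_erase b x j c (by rw [← hc]; simp only [smul_eq_mul])
  have hlt : ((b.repr x).support.erase j).card < Nat.find hp := by
    rw [← hb]; exact Finset.card_erase_lt_of_mem hj
  exact Nat.find_min hp hlt ⟨b', by rw [hb']⟩

theorem exists_free_summand_aux [IsLocalRing R] {I : Type*} [DecidableEq I] (b : Basis I R F)
    (S : Finset I) (a : I → R) {N N' : Submodule R F} (h : IsCompl N N') {x : F} (hx : x ∈ N)
    (hS : (b.repr x).support = S) (ha : ∀ i, b.repr x i = a i)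
    (hmin : ∀ j ∈ S, a j ∉ Ideal.span (a '' (↑(S.erase j) : Set I))) :
    ∃ Y C : Submodule R F, Y ⊔ C = N ∧ Disjoint Y C ∧ x ∈ Y ∧ Module.Free R Y := by
  have hxsum : x = ∑ i ∈ S, a i • b i := by
    conv_lhs => rw [← b.linearCombination_repr x]
    rw [Finsupp.linearCombination_apply, Finsupp.sum, hS]
    exact Finset.sum_congr rfl fun i _ => by rw [ha]
  set p := N.projection N' h with hp
  have hpx : p x = x := Submodule.projection_apply_of_mem_left h hx
  have hpN : ∀ v, p v ∈ N := fun v => Submodule.projection_apply_mem h v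
  have hxsum' : x = ∑ i ∈ S, a i • p (b i) := by
    calc x = p x := hpx.symm
      _ = p (∑ i ∈ S, a i • b i) := by rw [← hxsum]
      _ = ∑ i ∈ S, a i • p (b i) := by
        rw [map_sum]; exact Finset.sum_congr rfl fun i _ => map_smul _ _ _
  have hE : ∀ j, a j = ∑ i ∈ S, a i * b.repr (p (b i)) j := by
    intro j
    have h1 := congrArg (fun v => b.repr v j) hxsum'
    simp only [map_sum, map_smul, Finsupp.finsetSum_apply, Finsupp.smul_apply,
      smul_eq_mul] at h1
    rw [← ha j]; exact h1
  have hU1 : ∀ j ∈ S, ¬ IsUnit (1 - b.repr (p (b j)) j) := by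
    intro j hj hu
    apply hmin j hj
    have h1 : a j * (1 - b.repr (p (b j)) j) = ∑ i ∈ S.erase j, a i * b.repr (p (b i)) j := by
      have h2 := hE j
      rw [← Finset.add_sum_erase S _ hj] at h2
      linear_combination h2
    have h3 : a j * (1 - b.repr (p (b j)) j) ∈ Ideal.span (a '' (↑(S.erase j) : Set I)) := by
      rw [h1]
      exact Ideal.sum_mem _ fun i hi => Ideal.mul_mem_right _ _ (Ideal.subset_span ⟨i, hi, rfl⟩)
    obtain ⟨u, hu'⟩ := hu
    have h4 := Ideal.mul_mem_right (↑u⁻¹ : R) _ h3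
    rwa [← hu', mul_assoc, Units.mul_inv, mul_one] at h4
  have hU2 : ∀ i ∈ S, ∀ j ∈ S, j ≠ i → ¬ IsUnit (b.repr (p (b i)) j) := by
    intro i hi j hj hji hu
    apply hmin i hi
    have h1 : a i * b.repr (p (b i)) j =
        a j - ∑ k ∈ S.erase i, a k * b.repr (p (b k)) j := by
      have h2 := hE j
      rw [← Finset.add_sum_erase S _ hi] at h2
      linear_combination -h2
    have h3 : a i * b.repr (p (b i)) j ∈ Ideal.span (a '' (↑(S.erase i) : Set I)) := by
      rw [h1]
      exact Ideal.sub_mem _ (Ideal.subset_span ⟨j, Finset.mem_erase.mpr ⟨hji, hj⟩, rfl⟩)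
        (Ideal.sum_mem _ fun k hk => Ideal.mul_mem_right _ _ (Ideal.subset_span ⟨k, hk, rfl⟩))
    obtain ⟨u, hu'⟩ := hu
    have h4 := Ideal.mul_mem_right (↑u⁻¹ : R) _ h3
    rwa [← hu', mul_assoc, Units.mul_inv, mul_one] at h4
  let A : Matrix S S R := fun j i => b.repr (p (b i)) j
  have hmap : A.map (IsLocalRing.residue R) = 1 := by
    ext j i
    rw [Matrix.map_apply, Matrix.one_apply]
    split_ifs with hji
    · subst hji
      have h0 : IsLocalRing.residue R (1 - A j j) = 0 :=
        (IsLocalRing.residue_eq_zero_iff _).mpr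
          ((IsLocalRing.mem_maximalIdeal _).mpr (hU1 j j.2))
      rw [map_sub, map_one, sub_eq_zero] at h0
      exact h0.symm
    · exact (IsLocalRing.residue_eq_zero_iff _).mpr ((IsLocalRing.mem_maximalIdeal _).mpr
        (hU2 i i.2 j j.2 fun h => hji (Subtype.ext h)))
  have hdet : IsUnit A.det := by
    by_contra hnu
    have h0 : IsLocalRing.residue R A.det = 0 :=
      (IsLocalRing.residue_eq_zero_iff _).mpr ((IsLocalRing.mem_maximalIdeal _).mpr hnu)
    rw [RingHom.map_det, RingHom.mapMatrix_apply, hmap, Matrix.det_one] at h0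
    exact one_ne_zero h0
  let ιY : (S → R) →ₗ[R] F := Fintype.linearCombination R (fun i : S => p (b i))
  let qS : F →ₗ[R] (S → R) := LinearMap.pi fun j : S => b.coord j
  have hιY : ∀ c : S → R, ιY c = ∑ i, c i • p (b i) := fun c =>
    Fintype.linearCombination_apply R _ c
  have hg : ∀ c : S → R, qS (ιY c) = A.mulVec c := by
    intro c
    ext j
    rw [hιY]
    simp only [qS, LinearMap.pi_apply, Basis.coord_apply, map_sum, map_smul,
      Finsupp.finsetSum_apply, Finsupp.smul_apply, smul_eq_mul, Matrix.mulVec, dotProduct, A]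
    exact Finset.sum_congr rfl fun i _ => mul_comm _ _
  have hinj0 : ∀ c : S → R, qS (ιY c) = 0 → c = 0 := by
    intro c hc
    rw [hg] at hc
    have h1 := congrArg (fun v => A⁻¹.mulVec v) hc
    simp only [Matrix.mulVec_mulVec, Matrix.nonsing_inv_mul A hdet, Matrix.one_mulVec,
      Matrix.mulVec_zero] at h1
    exact h1
  have hsurj0 : ∀ d : S → R, ∃ c, qS (ιY c) = d := by
    intro d
    refine ⟨A⁻¹.mulVec d, ?_⟩
    rw [hg, Matrix.mulVec_mulVec, Matrix.mul_nonsing_inv A hdet, Matrix.one_mulVec]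
  have hinj : Function.Injective ιY := by
    rw [← LinearMap.ker_eq_bot, LinearMap.ker_eq_bot']
    intro c hc
    exact hinj0 c (by rw [hc, map_zero])
  have hYN : LinearMap.range ιY ≤ N := by
    rintro _ ⟨c, rfl⟩
    rw [hιY]
    exact N.sum_mem fun i _ => N.smul_mem _ (hpN _)
  refine ⟨LinearMap.range ιY, N ⊓ LinearMap.ker qS, ?_, ?_, ?_, ?_⟩
  · refine le_antisymm (sup_le hYN inf_le_left) fun v hv => ?_
    obtain ⟨c, hc⟩ := hsurj0 (qS v)
    have hv' : v = ιY c + (v - ιY c) := by abel
    rw [hv']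
    exact Submodule.add_mem_sup ⟨c, rfl⟩
      (Submodule.mem_inf.mpr ⟨N.sub_mem hv (hYN ⟨c, rfl⟩),
        LinearMap.mem_ker.mpr (by rw [map_sub, hc, sub_self])⟩)
  · rw [Submodule.disjoint_def]
    intro v hvY hvC
    obtain ⟨c, rfl⟩ := hvY
    have hker : qS (ιY c) = 0 := (Submodule.mem_inf.mp hvC).2
    rw [hinj0 c hker, map_zero]
  · refine ⟨fun i : S => a i, ?_⟩
    rw [hιY]
    conv_rhs => rw [hxsum']
    exact Finset.sum_coe_sort S (fun i => a i • p (b i))
  · exact Module.Free.of_equiv (LinearEquiv.ofInjective ιY hinj)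

/-- Over a local ring, every element of a direct summand `N` of a free module lies in a free
direct summand of `N`. -/
theorem exists_free_summand [IsLocalRing R] {I : Type*} (b₀ : Basis I R F) {N N' : Submodule R F}
    (h : IsCompl N N') {x : F} (hx : x ∈ N) :
    ∃ Y C : Submodule R F, Y ⊔ C = N ∧ Disjoint Y C ∧ x ∈ Y ∧ Module.Free R Y := by
  classical
  obtain ⟨b, hb⟩ := exists_min_basis b₀ x
  exact exists_free_summand_aux b _ (fun i => b.repr x i) h hx rfl (fun _ => rfl) hb

theorem isCompl_of_split {N N' Y C : Submodule R F} (h : IsCompl N N') (hsup : Y ⊔ C = N)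
    (hd : Disjoint Y C) : IsCompl C (Y ⊔ N') := by
  constructor
  · rw [Submodule.disjoint_def]
    intro v hvC hv
    obtain ⟨y, hy, n', hn', rfl⟩ := Submodule.mem_sup.mp hv
    have hyN : y ∈ N := hsup ▸ (le_sup_left : Y ≤ Y ⊔ C) hy
    have hvN : y + n' ∈ N := hsup ▸ (le_sup_right : C ≤ Y ⊔ C) hvC
    have hn'N : n' ∈ N := by simpa using N.sub_mem hvN hyN
    have hn'0 : n' = 0 := Submodule.disjoint_def.mp h.disjoint n' hn'N hn'
    rw [hn'0, add_zero] at hvC ⊢
    exact Submodule.disjoint_def.mp hd y hy hvC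
  · rw [codisjoint_iff, ← sup_assoc, sup_comm C Y, hsup]
    exact h.sup_eq_top

end Local

end Groth.Agent.Helper22.Kap
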