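import Mathlib
import Groth.Agent.Lib.Helper22.Kaplansky3

/-!
# Kaplansky's theorem, part 4: the countable induction and the final theorem
-/

open Submodule Module DirectSum

namespace Groth.Agent.Helper22.Kap

/-- A direct sum decomposition `F = C ⊕ D`. -/
structure St (R : Type*) (F : Type*) [CommRing R] [AddCommGroup F] [Module R F] where
  C : Submodule R F
  D : Submodule R F
  h : IsCompl C D

section Rec

variable {R : Type*} [CommRing R] [IsLocalRing R] {F : Type*} [AddCommGroup F] [Module R F]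
variable {I : Type*} (b₀ : Basis I R F)

include b₀ in
theorem step_exists (s : St R F) (x : F) :
    ∃ Y C : Submodule R F, Y ⊔ C = s.C ∧ Disjoint Y C ∧
      s.C.projection s.D s.h x ∈ Y ∧ Module.Free R Y :=
  exists_free_summand b₀ s.h (Submodule.projection_apply_mem s.h x)

noncomputable def stepY (s : St R F) (x : F) : Submodule R F := (step_exists b₀ s x).choose

noncomputable def stepC (s : St R F) (x : F) : Submodule R F :=
  (step_exists b₀ s x).choose_spec.choose

theorem step_spec (s : St R F) (x : F) :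
    stepY b₀ s x ⊔ stepC b₀ s x = s.C ∧ Disjoint (stepY b₀ s x) (stepC b₀ s x) ∧
      s.C.projection s.D s.h x ∈ stepY b₀ s x ∧ Module.Free R (stepY b₀ s x) :=
  (step_exists b₀ s x).choose_spec.choose_spec

noncomputable def step (s : St R F) (x : F) : St R F :=
  ⟨stepC b₀ s x, stepY b₀ s x ⊔ s.D,
    isCompl_of_split s.h (step_spec b₀ s x).1 (step_spec b₀ s x).2.1⟩

noncomputable def seq (s₀ : St R F) (x : ℕ → F) : ℕ → St R F
  | 0 => s₀
  | n + 1 => step b₀ (seq s₀ x n) (x n)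

noncomputable def Ys (s₀ : St R F) (x : ℕ → F) (n : ℕ) : Submodule R F :=
  stepY b₀ (seq b₀ s₀ x n) (x n)

theorem seq_zero (s₀ : St R F) (x : ℕ → F) : seq b₀ s₀ x 0 = s₀ := rfl

theorem seq_C_succ (s₀ : St R F) (x : ℕ → F) (n : ℕ) :
    (seq b₀ s₀ x (n + 1)).C = stepC b₀ (seq b₀ s₀ x n) (x n) := rfl

theorem seq_D_succ (s₀ : St R F) (x : ℕ → F) (n : ℕ) :
    (seq b₀ s₀ x (n + 1)).D = Ys b₀ s₀ x n ⊔ (seq b₀ s₀ x n).D := rfl

theorem Ys_spec (s₀ : St R F) (x : ℕ → F) (n : ℕ) :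
    Ys b₀ s₀ x n ⊔ (seq b₀ s₀ x (n + 1)).C = (seq b₀ s₀ x n).C ∧
      Disjoint (Ys b₀ s₀ x n) (seq b₀ s₀ x (n + 1)).C ∧
      (seq b₀ s₀ x n).C.projection (seq b₀ s₀ x n).D (seq b₀ s₀ x n).h (x n) ∈ Ys b₀ s₀ x n ∧
      Module.Free R (Ys b₀ s₀ x n) :=
  step_spec b₀ (seq b₀ s₀ x n) (x n)

theorem seq_C_antitone (s₀ : St R F) (x : ℕ → F) : Antitone fun n => (seq b₀ s₀ x n).C :=
  antitone_nat_of_succ_le fun n => le_sup_right.trans (Ys_spec b₀ s₀ x n).1.le

theorem seq_D_monotone (s₀ : St R F) (x : ℕ → F) : Monotone fun n => (seq b₀ s₀ x n).D :=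
  monotone_nat_of_le_succ fun n => by
    show (seq b₀ s₀ x n).D ≤ (seq b₀ s₀ x (n + 1)).D
    rw [seq_D_succ]; exact le_sup_right

theorem Ys_le_C (s₀ : St R F) (x : ℕ → F) (n : ℕ) : Ys b₀ s₀ x n ≤ (seq b₀ s₀ x n).C :=
  le_sup_left.trans (Ys_spec b₀ s₀ x n).1.le

theorem Ys_le_D (s₀ : St R F) (x : ℕ → F) (n : ℕ) : Ys b₀ s₀ x n ≤ (seq b₀ s₀ x (n + 1)).D := by
  rw [seq_D_succ]; exact le_sup_left

include b₀ in
theorem exists_free_seq {P Q : Submodule R F} (hPQ : IsCompl P Q) (x : ℕ → F)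
    (hspan : P ≤ span R (Set.range x)) :
    ∃ Y : ℕ → Submodule R F, iSupIndep Y ∧ ⨆ n, Y n = P ∧ ∀ n, Module.Free R (Y n) := by
  let s₀ : St R F := ⟨P, Q, hPQ⟩
  have hCP : ∀ n, (seq b₀ s₀ x n).C ≤ P := fun n => seq_C_antitone b₀ s₀ x (Nat.zero_le n)
  have hYP : ∀ n, Ys b₀ s₀ x n ≤ P := fun n => (Ys_le_C b₀ s₀ x n).trans (hCP n)
  refine ⟨Ys b₀ s₀ x, ?_, ?_, fun n => (Ys_spec b₀ s₀ x n).2.2.2⟩
  · rw [iSupIndep_def]
    intro n
    have hcomp : IsCompl (Ys b₀ s₀ x n) ((seq b₀ s₀ x (n + 1)).C ⊔ (seq b₀ s₀ x n).D) :=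
      isCompl_of_split (seq b₀ s₀ x n).h (by rw [sup_comm]; exact (Ys_spec b₀ s₀ x n).1)
        (Ys_spec b₀ s₀ x n).2.1.symm
    refine hcomp.disjoint.mono_right (iSup_le fun j => iSup_le fun hj => ?_)
    rcases lt_or_gt_of_ne hj with hlt | hgt
    · exact ((Ys_le_D b₀ s₀ x j).trans
        (seq_D_monotone b₀ s₀ x (Nat.succ_le_of_lt hlt))).trans le_sup_right
    · exact ((Ys_le_C b₀ s₀ x j).trans
        (seq_C_antitone b₀ s₀ x (Nat.succ_le_of_lt hgt))).trans le_sup_left
  · apply le_antisymm (iSup_le hYP)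
    have hD : ∀ n, (seq b₀ s₀ x n).D ≤ Q ⊔ ⨆ k, Ys b₀ s₀ x k := by
      intro n
      induction n with
      | zero => exact le_sup_left
      | succ n ih =>
        rw [seq_D_succ]
        exact sup_le ((le_iSup (Ys b₀ s₀ x) n).trans le_sup_right) ih
    have hxmem : ∀ n, x n ∈ Q ⊔ ⨆ k, Ys b₀ s₀ x k := by
      intro n
      have h1 := Submodule.projection_add_projection_eq_self (seq b₀ s₀ x n).h (x n)
      rw [← h1]
      refine Submodule.add_mem _ ?_ ?_
      · exact ((le_iSup (Ys b₀ s₀ x) n).trans le_sup_right) (Ys_spec b₀ s₀ x n).2.2.1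
      · exact hD n (Submodule.projection_apply_mem _ _)
    intro v hv
    have hv2 : v ∈ Q ⊔ ⨆ k, Ys b₀ s₀ x k :=
      (span_le.mpr (Set.range_subset_iff.mpr hxmem)) (hspan hv)
    obtain ⟨q, hq, w, hw, rfl⟩ := Submodule.mem_sup.mp hv2
    have hwP : w ∈ P := (iSup_le hYP) hw
    have hqP : q ∈ P := by simpa using P.sub_mem hv hwP
    have hq0 : q = 0 := Submodule.disjoint_def.mp hPQ.disjoint q hqP hq
    rw [hq0, zero_add]
    exact hw

end Rec

section Final

variable {R : Type*} [CommRing R] {F : Type*} [AddCommGroup F] [Module R F]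

theorem free_iSup_of_iSupIndep {ι : Type*} (Y : ι → Submodule R F) (hind : iSupIndep Y)
    (hfree : ∀ i, Module.Free R (Y i)) : Module.Free R ↥(⨆ i, Y i) := by
  classical
  let f : (⨁ i, Y i) →ₗ[R] F := DirectSum.coeLinearMap Y
  have hinj : Function.Injective f := hind.dfinsupp_lsum_injective
  have hrange : LinearMap.range f = ⨆ i, Y i := (Submodule.iSup_eq_range_dfinsupp_lsum Y).symm
  have e : (⨁ i, Y i) ≃ₗ[R] ↥(⨆ i, Y i) :=
    (LinearEquiv.ofInjective f hinj).trans (LinearEquiv.ofEq _ _ hrange)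
  exact Module.Free.of_equiv e

/-- A countably generated direct summand of a free module over a local ring is free. -/
theorem free_of_CG [IsLocalRing R] {I : Type*} (b₀ : Basis I R F) {P Q : Submodule R F}
    (hPQ : IsCompl P Q) (hcg : CG P) : Module.Free R ↥P := by
  obtain ⟨T, hT, hTP⟩ := hcg
  have hne : (insert (0 : F) T).Nonempty := ⟨0, Set.mem_insert _ _⟩
  obtain ⟨x, hx⟩ := (hT.insert 0).exists_eq_range hne
  have hspan : P ≤ span R (Set.range x) := by
    rw [← hx, ← hTP]; exact span_mono (Set.subset_insert _ _)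
  obtain ⟨Y, hind, hsup, hfree⟩ := exists_free_seq b₀ hPQ x hspan
  have h1 := free_iSup_of_iSupIndep Y hind hfree
  rwa [hsup] at h1

/-- **Kaplansky**: a projective module over a local ring is free. -/
theorem free_of_projective_local [IsLocalRing R] (P : Type*) [AddCommGroup P] [Module R P]
    [Module.Projective R P] : Module.Free R P := by
  classical
  obtain ⟨s, hs⟩ := Module.projective_def'.mp (inferInstance : Module.Projective R P)
  let lc : (P →₀ R) →ₗ[R] P := Finsupp.linearCombination R id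
  have hs' : ∀ v, lc (s v) = v := fun v => LinearMap.congr_fun hs v
  have hsinj : Function.Injective s := Function.LeftInverse.injective hs'
  have hPQ : IsCompl (LinearMap.range s) (LinearMap.ker lc) := by
    constructor
    · rw [Submodule.disjoint_def]
      rintro _ ⟨w, rfl⟩ hker
      have hw : w = 0 := by rw [← hs' w]; exact hker
      rw [hw, map_zero]
    · rw [codisjoint_iff, eq_top_iff]
      intro v _
      have hv : v = s (lc v) + (v - s (lc v)) := by abel
      rw [hv]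
      exact Submodule.add_mem_sup ⟨lc v, rfl⟩
        (LinearMap.mem_ker.mpr (by rw [map_sub, hs', sub_self]))
  let b₀ : Basis P R (P →₀ R) := Finsupp.basisSingleOne
  have hind : iSupIndep fun i => R ∙ b₀ i := b₀.linearIndependent.iSupIndep_span_singleton
  have htop : ⨆ i, R ∙ b₀ i = ⊤ := by
    rw [← Submodule.span_range_eq_iSup, b₀.span_eq]
  have hcg : ∀ i, CG (R ∙ b₀ i) := fun i => ⟨{b₀ i}, Set.countable_singleton _, rfl⟩
  obtain ⟨𝒦, hKind, hKsup, hKcg⟩ := summand_decomp hind htop hcg hPQ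
  have hKfree : ∀ K ∈ 𝒦, Module.Free R ↥K := by
    intro K hK
    have hcomp : IsCompl K (sSup (𝒦 \ {K}) ⊔ LinearMap.ker lc) := by
      refine isCompl_of_split hPQ ?_ (hKind hK).symm
      rw [← hKsup, sup_comm, ← sSup_insert, Set.insert_sdiff_singleton, Set.insert_eq_of_mem hK]
    exact free_of_CG b₀ hcomp (hKcg K hK)
  have hfree' : Module.Free R ↥(⨆ K : 𝒦, (K : Submodule R (P →₀ R))) :=
    free_iSup_of_iSupIndep _ ((sSupIndep_iff 𝒦).mp hKind) (fun K => hKfree K K.2)
  rw [← sSup_eq_iSup', hKsup] at hfree'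
  exact Module.Free.of_equiv (LinearEquiv.ofInjective s hsinj).symm

end Final

end Groth.Agent.Helper22.Kap
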