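import Mathlib
import Groth.Prelude.Def_EtRam
import Groth.Agent.Lib.Helper22.ASCases2
import Groth.Agent.Lib.Helper22.KumFacts

/-!
# Kummer-type extensions `(1 + w z)^p = 1 + w^p ξ` over a discrete valuation ring of mixed
characteristic: the ramification cases (helper library for S7159)
-/

set_option autoImplicit false
universe u

open IsLocalRing Polynomial

namespace Groth.Agent.Helper22.KumRam

open Groth.Agent.Helper22.ASGen Groth.Agent.Helper22.ASCases Groth.Agent.Helper22.KumFacts

section Ctx
variable (A K L : Type u) [CommRing A] [IsDomain A] [IsDiscreteValuationRing A] [Field K]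
  [Algebra A K] [IsFractionRing A K] [Field L] [Algebra K L] [Algebra A L] [IsScalarTower A K L]

/-- case (4): a unique dominating valuation ring, weakly unramified, with purely inseparable
residue extension of degree `p`. -/
def KCase4 (p : ℕ) : Prop :=
  (∃ V : ValuationSubring L, EtRam.Dominates A (algebraMap A L) V) ∧
    (∀ V V' : ValuationSubring L, EtRam.Dominates A (algebraMap A L) V →
      EtRam.Dominates A (algebraMap A L) V' → V = V') ∧
    ∀ (V : ValuationSubring L) (hV : EtRam.Dominates A (algebraMap A L) V),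
      letI : Algebra A V := (RingHom.codRestrict (algebraMap A L) V hV.1).toAlgebra
      ∀ [IsLocalHom (algebraMap A V)],
        EtRam.IsWeaklyUnramified A V ∧
          IsPurelyInseparable (ResidueField A) (ResidueField V) ∧
          Module.finrank (ResidueField A) (ResidueField V) = p

/-- the four cases. -/
def KCases (p : ℕ) : Prop :=
  Module.finrank K L = 1 ∨
    (EtRam.IsUnramifiedExt A (algebraMap A L) ∧ Module.finrank K L = p) ∨
    (EtRam.IsTotallyRamified A (algebraMap A L) ∧ Module.finrank K L = p) ∨ KCase4 A L p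

/-! ### part (A) -/

theorem partA' (p : ℕ) (hp : p.Prime) [FiniteDimensional K L]
    (hdich : Module.finrank K L = 1 ∨ Module.finrank K L = p)
    (π : A) (hπ : maximalIdeal A = Ideal.span {π}) (w : A) (hw0 : w ≠ 0)
    (hwm : w ∈ maximalIdeal A) (P : A[X]) (hP : C (w ^ p) * P = (1 + C w * X) ^ p - 1) (ε : A)
    (hε : IsUnit ε) (hpw : (p : A) = w ^ (p - 1) * ε) (z : L) (a : A)
    (hz : aeval z P = algebraMap A L a) (hadj : Algebra.adjoin K {z} = ⊤) :
    Module.finrank K L = 1 ∨
      (EtRam.IsUnramifiedExt A (algebraMap A L) ∧ Module.finrank K L = p) := by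
  rcases hdich with h1 | h1
  · exact Or.inl h1
  · right
    refine ⟨?_, h1⟩
    obtain ⟨hmonic, hdeg⟩ := monic_of_eq p hp A w hw0 P hP
    have hdeglt : (C a : A[X]).degree < P.degree :=
      lt_of_le_of_lt degree_C_le
        (natDegree_pos_iff_degree_pos.mp (by rw [hdeg]; exact hp.pos))
    have hfm : (P - C a).Monic := hmonic.sub_of_left hdeglt
    have hroot : aeval z (P - C a) = 0 := by rw [map_sub, aeval_C, hz, sub_self]
    exact unram_of_sep A K L π hπ (P - C a) hfm z hroot
      (sep_of_eq p hp A w hw0 hwm P hP ε hε hpw a) hadj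

/-! ### part (C) -/

theorem partC' (p : ℕ) (hp : p.Prime) [CharP (ResidueField A) p]
    (π : A) (hπ : maximalIdeal A = Ideal.span {π}) (P : A[X]) (hmonic : P.Monic)
    (hdeg : P.natDegree = p) (z : L) (m : ℕ) (hm : 0 < m) (a : A)
    (ha : ∀ r : A, residue A a ≠ residue A r ^ p)
    (hz : aeval z P * algebraMap A L π ^ (p * m) = algebraMap A L a)
    (hadj : Algebra.adjoin K {z} = ⊤) : KCase4 A L p := by
  have hπirr : Irreducible π := (IsDiscreteValuationRing.irreducible_iff_uniformizer π).mpr hπ
  have hπm : π ∈ maximalIdeal A := by rw [hπ]; exact Ideal.subset_span rfl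
  have hPK0 : algebraMap A K π ≠ 0 := fun h0 =>
    hπirr.ne_zero (IsFractionRing.injective A K (by rw [h0, map_zero]))
  obtain ⟨w', hw'⟩ : ∃ w' : L, w' = algebraMap A L (π ^ m) * z := ⟨_, rfl⟩
  have hsm : (scaleRoots P (π ^ m)).Monic := (monic_scaleRoots_iff _).mpr hmonic
  have hsdeg : (scaleRoots P (π ^ m)).natDegree = p := by rw [natDegree_scaleRoots, hdeg]
  have hdeglt : (C a : A[X]).degree < (scaleRoots P (π ^ m)).degree :=
    lt_of_le_of_lt degree_C_le
      (natDegree_pos_iff_degree_pos.mp (by rw [hsdeg]; exact hp.pos))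
  have hhm : (scaleRoots P (π ^ m) - C a).Monic := hsm.sub_of_left hdeglt
  have hroot : aeval w' (scaleRoots P (π ^ m) - C a) = 0 := by
    have h1 : aeval w' (scaleRoots P (π ^ m)) =
        algebraMap A L (π ^ m) ^ P.natDegree * aeval z P := by
      rw [hw', aeval_def, aeval_def]
      exact scaleRoots_eval₂_mul (algebraMap A L) z (π ^ m)
    have h2 : algebraMap A L (π ^ m) ^ p = algebraMap A L π ^ (p * m) := by
      rw [map_pow, ← pow_mul, mul_comm m p]
    rw [map_sub, aeval_C, h1, hdeg, h2, mul_comm (algebraMap A L π ^ (p * m)), hz, sub_self]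
  have hred : (scaleRoots P (π ^ m) - C a).map (residue A) = X ^ p - C (residue A a) := by
    rw [Polynomial.map_sub, Polynomial.map_C]
    congr 1
    ext i
    rw [coeff_map, coeff_scaleRoots, hdeg, coeff_X_pow, map_mul, map_pow, map_pow]
    have hres : residue A π = 0 := (residue_eq_zero_iff π).mpr hπm
    by_cases hi : i = p
    · rw [if_pos hi, hi, Nat.sub_self, pow_zero, mul_one]
      have h1 : P.coeff p = 1 := by rw [← hdeg]; exact hmonic.coeff_natDegree
      rw [h1, map_one]
    · rw [if_neg hi]
      rcases Nat.lt_or_gt_of_ne hi with hlt | hgt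
      · rw [hres, zero_pow hm.ne', zero_pow (by omega), mul_zero]
      · rw [coeff_eq_zero_of_natDegree_lt (by rw [hdeg]; exact hgt), map_zero, zero_mul]
  have hzaff : z = algebraMap K L ((algebraMap A K π ^ m)⁻¹) * w' + algebraMap K L 0 := by
    have hG : algebraMap A L (π ^ m) = algebraMap K L (algebraMap A K π ^ m) := by
      rw [IsScalarTower.algebraMap_apply A K L, map_pow]
    have hG0 : algebraMap K L (algebraMap A K π ^ m) ≠ 0 := by
      rw [ne_eq, map_eq_zero]; exact pow_ne_zero m hPK0
    rw [map_zero, add_zero, hw', hG, map_inv₀, ← mul_assoc, inv_mul_cancel₀ hG0, one_mul]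
  exact case4_of_insep A K L p hp π hπ a ha w' _ hhm hroot hred
    (adjoin_eq_top_of_affine K L z w' _ _ hzaff hadj)

/-! ### step 3: bounded pole order -/

theorem step3 (p : ℕ) (hp : p.Prime) [CharP (ResidueField A) p] [FiniteDimensional K L]
    (hdich : Module.finrank K L = 1 ∨ Module.finrank K L = p)
    (π : A) (hπ : maximalIdeal A = Ideal.span {π}) (w : A) (hw0 : w ≠ 0)
    (hwm : w ∈ maximalIdeal A) (P : A[X]) (hP : C (w ^ p) * P = (1 + C w * X) ^ p - 1) (ε : A)
    (hε : IsUnit ε) (hpw : (p : A) = w ^ (p - 1) * ε) (e₀ : ℕ) (ω : Aˣ)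
    (hwe : w = π ^ e₀ * ω) :
    ∀ n : ℕ, n < p * e₀ → ∀ (z : L) (a : A),
      aeval z P * algebraMap A L π ^ n = algebraMap A L a → Algebra.adjoin K {z} = ⊤ →
      KCases A K L p := by
  obtain ⟨hmonic, hdeg⟩ := monic_of_eq p hp A w hw0 P hP
  have hπirr : Irreducible π := (IsDiscreteValuationRing.irreducible_iff_uniformizer π).mpr hπ
  have hπm : π ∈ maximalIdeal A := by rw [hπ]; exact Ideal.subset_span rfl
  have hginj : Function.Injective (algebraMap A L) := injective_algebraMap A K L
  have hPL0 : algebraMap A L π ≠ 0 := fun h0 => hπirr.ne_zero (hginj (by rw [h0, map_zero]))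
  have hWL0 : algebraMap A L w ≠ 0 := fun h0 => hw0 (hginj (by rw [h0, map_zero]))
  have hPK0 : algebraMap A K π ≠ 0 := fun h0 =>
    hπirr.ne_zero (IsFractionRing.injective A K (by rw [h0, map_zero]))
  have hfr : Module.finrank K L ≤ p := by
    rcases hdich with h | h
    · exact h.le.trans hp.one_le
    · exact h.le
  intro n
  induction n with
  | zero =>
    intro _ z a hz hadj
    rw [pow_zero, mul_one] at hz
    rcases partA' A K L p hp hdich π hπ w hw0 hwm P hP ε hε hpw z a hz hadj with h | h
    · exact Or.inl h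
    · exact Or.inr (Or.inl h)
  | succ n ih =>
    intro hn z a hz hadj
    by_cases hau : IsUnit a
    · obtain ⟨au, rfl⟩ := hau
      by_cases hpn : p ∣ n + 1
      · by_cases hres : ∃ r : A, residue A (au : A) = residue A r ^ p
        · obtain ⟨r, hr⟩ := hres
          obtain ⟨m, hm⟩ := hpn
          have hm0 : 0 < m := by
            rcases Nat.eq_zero_or_pos m with h | h
            · rw [h, mul_zero] at hm; omega
            · exact h
          have hme : m < e₀ := by
            apply Nat.lt_of_mul_lt_mul_left (a := p)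
            rw [← hm]; exact hn
          have hmp : m * (p - 1) + m = p * m := by
            calc m * (p - 1) + m = m * (p - 1 + 1) := by ring
              _ = m * p := by rw [Nat.sub_add_cancel hp.one_le]
              _ = p * m := mul_comm _ _
          have hn1 : n + 1 = m * (p - 1) + m := by rw [hmp]; exact hm
          have hbm : (au : A) - r ^ p ∈ maximalIdeal A := by
            rw [← residue_eq_zero_iff, map_sub, map_pow, hr, sub_self]
          rw [hπ, Ideal.mem_span_singleton'] at hbm
          obtain ⟨b, hb⟩ := hbm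
          -- the unit `u₀ = 1 + w c`
          obtain ⟨u₀, hu₀⟩ : ∃ u₀ : A, u₀ = 1 + π ^ (e₀ - m) * ω * r := ⟨_, rfl⟩
          have hu₀unit : IsUnit u₀ := by
            by_contra hnu
            have h1 : u₀ ∈ maximalIdeal A := (mem_maximalIdeal _).mpr hnu
            have h2 : π ^ (e₀ - m) * ω * r ∈ maximalIdeal A := by
              apply Ideal.mul_mem_right
              apply Ideal.mul_mem_right
              exact Ideal.pow_mem_of_mem _ hπm _ (by omega)
            have h3 : (1 : A) ∈ maximalIdeal A := by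
              have h4 := Ideal.sub_mem _ h1 h2
              rwa [hu₀, add_sub_cancel_right] at h4
            exact (maximalIdeal.isMaximal A).ne_top ((Ideal.eq_top_iff_one _).mpr h3)
          obtain ⟨uu, huu⟩ := hu₀unit
          -- the translation `c = r / π^m`
          obtain ⟨cK, hcK⟩ : ∃ cK : K, cK = algebraMap A K r * (algebraMap A K π ^ m)⁻¹ :=
            ⟨_, rfl⟩
          have hcK1 : cK * algebraMap A K π ^ m = algebraMap A K r := by
            rw [hcK, mul_assoc, inv_mul_cancel₀ (pow_ne_zero m hPK0), mul_one]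
          obtain ⟨c, hc⟩ : ∃ c : L, c = algebraMap K L cK := ⟨_, rfl⟩
          have hc1 : c * algebraMap A L π ^ m = algebraMap A L r := by
            rw [hc, IsScalarTower.algebraMap_apply A K L π, IsScalarTower.algebraMap_apply A K L r,
              ← map_pow, ← map_mul, hcK1]
          have hsplit : algebraMap A L π ^ e₀ =
              algebraMap A L π ^ (e₀ - m) * algebraMap A L π ^ m := by
            rw [← pow_add, Nat.sub_add_cancel hme.le]
          have hWdef : algebraMap A L w =
              algebraMap A L π ^ (e₀ - m) * algebraMap A L π ^ m * algebraMap A L (ω : A) := by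
            rw [← hsplit, hwe, map_mul, map_pow]
          have hUc : 1 + algebraMap A L w * c = algebraMap A L u₀ := by
            rw [hu₀, map_add, map_one, map_mul, map_mul, map_pow]
            linear_combination c * hWdef +
              (algebraMap A L π ^ (e₀ - m) * algebraMap A L (ω : A)) * hc1
          have hvu : ((uu⁻¹ : Aˣ) : A) * u₀ = 1 := by rw [← huu]; exact Units.inv_mul uu
          have hvU : algebraMap A L ((uu⁻¹ : Aˣ) : A) * algebraMap A L u₀ = 1 := by
            rw [← map_mul, hvu, map_one]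
          -- the new generator
          obtain ⟨z', hz'⟩ : ∃ z' : L, z' = (z - c) * algebraMap A L ((uu⁻¹ : Aˣ) : A) :=
            ⟨_, rfl⟩
          have hz'U : z' * algebraMap A L u₀ = z - c := by
            rw [hz', mul_assoc, hvU, mul_one]
          have hE4 : (1 + algebraMap A L w * z') * algebraMap A L u₀ =
              1 + algebraMap A L w * z := by
            linear_combination algebraMap A L w * hz'U - hUc
          have hE1 := P_eval p w P hP z
          have hE2 := P_eval p w P hP c
          have hE3 := P_eval p w P hP z'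
          rw [hUc] at hE2
          have hE4' : (1 + algebraMap A L w * z') ^ p * algebraMap A L u₀ ^ p =
              (1 + algebraMap A L w * z) ^ p := by
            rw [← mul_pow, hE4]
          have hI : aeval z' P * algebraMap A L u₀ ^ p = aeval z P - aeval c P := by
            apply mul_left_cancel₀ (pow_ne_zero p hWL0)
            linear_combination algebraMap A L u₀ ^ p * hE3 - hE1 + hE2 + hE4'
          have hPQ : aeval c P.eraseLead + c ^ p = aeval c P := by
            have h := congrArg (aeval c) (eraseLead_add_C_mul_X_pow P)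
            rw [map_add, map_mul, aeval_C, map_pow, aeval_X, hmonic.leadingCoeff, map_one,
              one_mul, hdeg] at h
            exact h
          have hQd : P.eraseLead.natDegree ≤ p - 1 := by
            have h := eraseLead_natDegree_le P
            rwa [hdeg] at h
          obtain ⟨b₀, hb₀⟩ := aeval_div_mem π r c m hc1 P.eraseLead (p - 1) hQd
          have hA2 : algebraMap A L π ^ (n + 1) =
              algebraMap A L π ^ (m * (p - 1)) * algebraMap A L π ^ m := by
            rw [← pow_add, ← hn1]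
          have hA3 : algebraMap A L π ^ m = algebraMap A L π ^ (m - 1) * algebraMap A L π := by
            rw [← pow_succ, Nat.sub_add_cancel hm0]
          have hIV : c ^ p * algebraMap A L π ^ (n + 1) = algebraMap A L r ^ p := by
            rw [hm, mul_comm p m, pow_mul, ← mul_pow, hc1]
          have hVI : algebraMap A L (au : A) - algebraMap A L r ^ p =
              algebraMap A L b * algebraMap A L π := by
            rw [← map_pow, ← map_sub, ← hb, map_mul]
          have hfin1 : aeval z' P * algebraMap A L u₀ ^ p * algebraMap A L π ^ n =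
              algebraMap A L b - algebraMap A L b₀ * algebraMap A L π ^ (m - 1) := by
            apply mul_right_cancel₀ hPL0
            linear_combination algebraMap A L π ^ (n + 1) * hI + hz +
              algebraMap A L π ^ (n + 1) * hPQ - hIV + hVI - aeval c P.eraseLead * hA2 -
              algebraMap A L π ^ m * hb₀ - algebraMap A L b₀ * hA3
          have hvUp : algebraMap A L ((uu⁻¹ : Aˣ) : A) ^ p * algebraMap A L u₀ ^ p = 1 := by
            rw [← mul_pow, hvU, one_pow]
          have hz'P : aeval z' P * algebraMap A L π ^ n =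
              algebraMap A L ((b - b₀ * π ^ (m - 1)) * ((uu⁻¹ : Aˣ) : A) ^ p) := by
            simp only [map_mul, map_sub, map_pow]
            linear_combination algebraMap A L ((uu⁻¹ : Aˣ) : A) ^ p * hfin1 -
              (aeval z' P * algebraMap A L π ^ n) * hvUp
          have hzaff : z = algebraMap K L (algebraMap A K u₀) * z' + algebraMap K L cK := by
            rw [← IsScalarTower.algebraMap_apply A K L, ← hc, mul_comm (algebraMap A L u₀) z',
              hz'U, sub_add_cancel]
          exact ih (by omega) z' _ hz'P (adjoin_eq_top_of_affine K L z z' _ _ hzaff hadj)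
        · push_neg at hres
          obtain ⟨m, hm⟩ := hpn
          have hm0 : 0 < m := by
            rcases Nat.eq_zero_or_pos m with h | h
            · rw [h, mul_zero] at hm; omega
            · exact h
          rw [hm] at hz
          exact Or.inr (Or.inr (Or.inr
            (partC' A K L p hp π hπ P hmonic hdeg z m hm0 au hres hz hadj)))
      · exact Or.inr (Or.inr (Or.inl
          (totRam_of_pole A K L p hp hfr π hπ P hmonic hdeg z (n + 1) (Nat.succ_pos n) hpn au
            hz)))
    · have ham : a ∈ maximalIdeal A := (mem_maximalIdeal _).mpr hau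
      rw [hπ, Ideal.mem_span_singleton'] at ham
      obtain ⟨a', rfl⟩ := ham
      apply ih (by omega) z a' _ hadj
      apply mul_right_cancel₀ hPL0
      rw [mul_assoc, ← pow_succ, hz, map_mul]

/-! ### the Kummer chain -/

theorem kc_unit (p : ℕ) (hp : p.Prime) [CharP (ResidueField A) p] [FiniteDimensional K L]
    (hdich : Module.finrank K L = 1 ∨ Module.finrank K L = p)
    (π : A) (hπ : maximalIdeal A = Ideal.span {π}) (w : A) (hw0 : w ≠ 0)
    (hwm : w ∈ maximalIdeal A) (P : A[X]) (hP : C (w ^ p) * P = (1 + C w * X) ^ p - 1) (ε : A)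
    (hε : IsUnit ε) (hpw : (p : A) = w ^ (p - 1) * ε) (e₀ : ℕ) (he₀ : 0 < e₀) (ω : Aˣ)
    (hwe : w = π ^ e₀ * ω) (y : L) (a : Aˣ) (hy : y ^ p = algebraMap A L a)
    (hadj : Algebra.adjoin K {y} = ⊤) : KCases A K L p := by
  have hπirr : Irreducible π := (IsDiscreteValuationRing.irreducible_iff_uniformizer π).mpr hπ
  have hginj : Function.Injective (algebraMap A L) := injective_algebraMap A K L
  have hPL0 : algebraMap A L π ≠ 0 := fun h0 => hπirr.ne_zero (hginj (by rw [h0, map_zero]))
  have hWL0 : algebraMap A L w ≠ 0 := fun h0 => hw0 (hginj (by rw [h0, map_zero]))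
  by_cases hres : ∃ r : A, residue A (a : A) = residue A r ^ p
  · obtain ⟨r, hr⟩ := hres
    have hru : IsUnit r := by
      by_contra hnu
      have h1 : residue A r = 0 := (residue_eq_zero_iff r).mpr ((mem_maximalIdeal _).mpr hnu)
      rw [h1, zero_pow hp.ne_zero] at hr
      exact (mem_maximalIdeal _).mp ((residue_eq_zero_iff _).mp hr) a.isUnit
    obtain ⟨ru, rfl⟩ := hru
    have hres1 : residue A ((a : A) * ((ru⁻¹ : Aˣ) : A) ^ p) = 1 := by
      rw [map_mul, map_pow, hr, ← mul_pow, ← map_mul, Units.mul_inv, map_one, one_pow]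
    have hbm : (a : A) * ((ru⁻¹ : Aˣ) : A) ^ p - 1 ∈ maximalIdeal A := by
      rw [← residue_eq_zero_iff, map_sub, hres1, map_one, sub_self]
    rw [hπ, Ideal.mem_span_singleton'] at hbm
    obtain ⟨b, hb⟩ := hbm
    obtain ⟨y₂, hy₂⟩ : ∃ y₂ : L, y₂ = y * algebraMap A L ((ru⁻¹ : Aˣ) : A) := ⟨_, rfl⟩
    have hy₂p : y₂ ^ p = algebraMap A L ((a : A) * ((ru⁻¹ : Aˣ) : A) ^ p) := by
      rw [hy₂, mul_pow, hy, map_mul, map_pow]
    obtain ⟨z₂, hz₂⟩ : ∃ z₂ : L, z₂ = (y₂ - 1) * (algebraMap A L w)⁻¹ := ⟨_, rfl⟩
    have hyz : 1 + algebraMap A L w * z₂ = y₂ := by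
      rw [hz₂, mul_comm (y₂ - 1), ← mul_assoc, mul_inv_cancel₀ hWL0, one_mul]; ring
    have h2 : algebraMap A L ((a : A) * ((ru⁻¹ : Aˣ) : A) ^ p) - 1 =
        algebraMap A L b * algebraMap A L π := by
      rw [← map_mul, hb, map_sub, map_one]
    have hpe : 1 ≤ p * e₀ := Nat.mul_pos hp.pos he₀
    have hWp : algebraMap A L w ^ p =
        algebraMap A L π ^ (p * e₀ - 1) * algebraMap A L π * algebraMap A L (ω : A) ^ p := by
      rw [← pow_succ, Nat.sub_add_cancel hpe, hwe, map_mul, map_pow, mul_pow, ← pow_mul,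
        mul_comm e₀ p]
    have hE := P_eval p w P hP z₂
    rw [hyz, hy₂p, h2, hWp] at hE
    have h3 : aeval z₂ P * algebraMap A L π ^ (p * e₀ - 1) * algebraMap A L (ω : A) ^ p =
        algebraMap A L b := by
      apply mul_right_cancel₀ hPL0
      linear_combination hE
    have hωω : algebraMap A L (ω : A) ^ p * algebraMap A L ((ω⁻¹ : Aˣ) : A) ^ p = 1 := by
      rw [← mul_pow, ← map_mul, Units.mul_inv, map_one, one_pow]
    have hz₂P : aeval z₂ P * algebraMap A L π ^ (p * e₀ - 1) =
        algebraMap A L (b * ((ω⁻¹ : Aˣ) : A) ^ p) := by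
      rw [map_mul, map_pow, ← h3]
      linear_combination (-(aeval z₂ P * algebraMap A L π ^ (p * e₀ - 1))) * hωω
    have hruinv : algebraMap A L ((ru⁻¹ : Aˣ) : A) * algebraMap A L (ru : A) = 1 := by
      rw [← map_mul, Units.inv_mul, map_one]
    have hyaff : y = algebraMap K L (algebraMap A K ((ru : A) * w)) * z₂ +
        algebraMap K L (algebraMap A K (ru : A)) := by
      rw [← IsScalarTower.algebraMap_apply A K L, ← IsScalarTower.algebraMap_apply A K L, map_mul]
      have h4 : y₂ * algebraMap A L (ru : A) = y := by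
        rw [hy₂, mul_assoc, hruinv, mul_one]
      rw [← h4, ← hyz]; ring
    exact step3 A K L p hp hdich π hπ w hw0 hwm P hP ε hε hpw e₀ ω hwe (p * e₀ - 1)
      (Nat.sub_lt hpe Nat.one_pos) z₂ _ hz₂P (adjoin_eq_top_of_affine K L y z₂ _ _ hyaff hadj)
  · push_neg at hres
    have hroot : aeval y (X ^ p - C (a : A) : A[X]) = 0 := by
      rw [map_sub, map_pow, aeval_X, aeval_C, hy, sub_self]
    have hred : (X ^ p - C (a : A) : A[X]).map (residue A) = X ^ p - C (residue A (a : A)) := by
      simp only [Polynomial.map_sub, Polynomial.map_pow, Polynomial.map_X, Polynomial.map_C]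
    exact Or.inr (Or.inr (Or.inr (case4_of_insep A K L p hp π hπ (a : A) hres y _
      (monic_X_pow_sub_C _ hp.ne_zero) hroot hred hadj)))

theorem kc_int (p : ℕ) (hp : p.Prime) [CharP (ResidueField A) p] [FiniteDimensional K L]
    (hdich : Module.finrank K L = 1 ∨ Module.finrank K L = p)
    (π : A) (hπ : maximalIdeal A = Ideal.span {π}) (w : A) (hw0 : w ≠ 0)
    (hwm : w ∈ maximalIdeal A) (P : A[X]) (hP : C (w ^ p) * P = (1 + C w * X) ^ p - 1) (ε : A)
    (hε : IsUnit ε) (hpw : (p : A) = w ^ (p - 1) * ε) (e₀ : ℕ) (he₀ : 0 < e₀) (ω : Aˣ)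
    (hwe : w = π ^ e₀ * ω) (y : L) (a : A) (ha0 : a ≠ 0) (hy : y ^ p = algebraMap A L a)
    (hadj : Algebra.adjoin K {y} = ⊤) : KCases A K L p := by
  have hπirr : Irreducible π := (IsDiscreteValuationRing.irreducible_iff_uniformizer π).mpr hπ
  have hginj : Function.Injective (algebraMap A L) := injective_algebraMap A K L
  have hPL0 : algebraMap A L π ≠ 0 := fun h0 => hπirr.ne_zero (hginj (by rw [h0, map_zero]))
  have hfr : Module.finrank K L ≤ p := by
    rcases hdich with h | h
    · exact h.le.trans hp.one_le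
    · exact h.le
  obtain ⟨i, hassoc⟩ := IsDiscreteValuationRing.associated_pow_irreducible ha0 hπirr
  obtain ⟨u, hu⟩ := hassoc
  have hga0 : algebraMap A L a ≠ 0 := fun h0 => ha0 (hginj (by rw [h0, map_zero]))
  have h1 : algebraMap A L a * algebraMap A L (u : A) = algebraMap A L π ^ i := by
    rw [← map_mul, hu, map_pow]
  by_cases hpi : p ∣ i
  · obtain ⟨j, rfl⟩ := hpi
    have hPj0 : algebraMap A L π ^ j ≠ 0 := pow_ne_zero j hPL0
    obtain ⟨y₁, hy₁⟩ : ∃ y₁ : L, y₁ = y * (algebraMap A L π ^ j)⁻¹ := ⟨_, rfl⟩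
    have hy₁p : y₁ ^ p = algebraMap A L ((u⁻¹ : Aˣ) : A) := by
      have h2 : algebraMap A L (u : A) * algebraMap A L ((u⁻¹ : Aˣ) : A) = 1 := by
        rw [← map_mul, Units.mul_inv, map_one]
      have h3 : y₁ ^ p * algebraMap A L π ^ (p * j) = algebraMap A L a := by
        rw [hy₁, mul_pow, hy, inv_pow, ← pow_mul, mul_comm j p, mul_assoc,
          inv_mul_cancel₀ (pow_ne_zero _ hPL0), mul_one]
      have h4 : y₁ ^ p * algebraMap A L (u : A) = 1 := by
        apply mul_left_cancel₀ hga0
        rw [← h1] at h3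
        linear_combination h3
      linear_combination (algebraMap A L ((u⁻¹ : Aˣ) : A)) * h4 - y₁ ^ p * h2
    have hyaff : y = algebraMap K L (algebraMap A K π ^ j) * y₁ + algebraMap K L 0 := by
      rw [map_zero, add_zero, map_pow, ← IsScalarTower.algebraMap_apply A K L, hy₁, mul_comm y,
        ← mul_assoc, mul_inv_cancel₀ hPj0, one_mul]
    exact kc_unit A K L p hp hdich π hπ w hw0 hwm P hP ε hε hpw e₀ he₀ ω hwe y₁ u⁻¹ hy₁p
      (adjoin_eq_top_of_affine K L y y₁ _ _ hyaff hadj)
  · have hi0 : 0 < i := by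
      rcases Nat.eq_zero_or_pos i with h | h
      · exfalso
        apply hpi
        rw [h]; exact dvd_zero p
      · exact h
    have hz : aeval y⁻¹ (X ^ p : A[X]) * algebraMap A L π ^ i = algebraMap A L (u : A) := by
      rw [map_pow, aeval_X, inv_pow, hy, ← h1, ← mul_assoc, inv_mul_cancel₀ hga0, one_mul]
    exact Or.inr (Or.inr (Or.inl (totRam_of_pole A K L p hp hfr π hπ (X ^ p) (monic_X_pow p)
      (natDegree_X_pow p) y⁻¹ i hi0 hpi u hz)))

theorem kc (p : ℕ) (hp : p.Prime) [CharP (ResidueField A) p] [FiniteDimensional K L]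
    (hdich : Module.finrank K L = 1 ∨ Module.finrank K L = p)
    (π : A) (hπ : maximalIdeal A = Ideal.span {π}) (w : A) (hw0 : w ≠ 0)
    (hwm : w ∈ maximalIdeal A) (P : A[X]) (hP : C (w ^ p) * P = (1 + C w * X) ^ p - 1) (ε : A)
    (hε : IsUnit ε) (hpw : (p : A) = w ^ (p - 1) * ε) (e₀ : ℕ) (he₀ : 0 < e₀) (ω : Aˣ)
    (hwe : w = π ^ e₀ * ω) (η : K) (y : L) (hy : y ^ p = algebraMap K L η)
    (hadj : Algebra.adjoin K {y} = ⊤) : KCases A K L p := by
  by_cases hη : η = 0
  · refine Or.inl ?_
    apply finrank_one_of_mem_range K L y hadj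
    refine ⟨0, ?_⟩
    rw [hη, map_zero] at hy
    rw [map_zero]
    exact ((pow_eq_zero_iff hp.ne_zero).mp hy).symm
  · rcases ValuationRing.isInteger_or_isInteger A η with h | h
    · obtain ⟨a, ha⟩ := RingHom.mem_rangeS.mp h
      have ha0 : a ≠ 0 := by
        rintro rfl
        exact hη (by rw [← ha, map_zero])
      have hy' : y ^ p = algebraMap A L a := by
        rw [hy, ← ha, ← IsScalarTower.algebraMap_apply A K L]
      exact kc_int A K L p hp hdich π hπ w hw0 hwm P hP ε hε hpw e₀ he₀ ω hwe y a ha0 hy' hadj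
    · obtain ⟨a, ha⟩ := RingHom.mem_rangeS.mp h
      have ha0 : a ≠ 0 := by
        rintro rfl
        exact inv_ne_zero hη (by rw [← ha, map_zero])
      have hy0 : y ≠ 0 := by
        intro h0
        rw [h0, zero_pow hp.ne_zero] at hy
        exact hη ((map_eq_zero (algebraMap K L)).mp hy.symm)
      have hy' : y⁻¹ ^ p = algebraMap A L a := by
        rw [inv_pow, hy, ← map_inv₀, ← ha, ← IsScalarTower.algebraMap_apply A K L]
      have hadj' : Algebra.adjoin K {y⁻¹} = ⊤ := by
        rw [eq_top_iff, ← hadj]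
        apply Algebra.adjoin_le
        rw [Set.singleton_subset_iff]
        have hpp : y ^ p = y ^ (p - 1) * y := by
          rw [← pow_succ, Nat.sub_add_cancel hp.one_le]
        have hy_eq : y = algebraMap K L η * y⁻¹ ^ (p - 1) := by
          rw [← hy, hpp, inv_pow, mul_right_comm, mul_inv_cancel₀ (pow_ne_zero _ hy0), one_mul]
        have hmem0 : y⁻¹ ∈ Algebra.adjoin K {y⁻¹} :=
          Algebra.subset_adjoin (Set.mem_singleton _)
        have hmem : algebraMap K L η * y⁻¹ ^ (p - 1) ∈ Algebra.adjoin K {y⁻¹} :=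
          Subalgebra.mul_mem _ (Subalgebra.algebraMap_mem _ _) (Subalgebra.pow_mem _ hmem0 _)
        rw [← hy_eq] at hmem
        exact hmem
      exact kc_int A K L p hp hdich π hπ w hw0 hwm P hP ε hε hpw e₀ he₀ ω hwe y⁻¹ a ha0 hy'
        hadj'

/-! ### the main statement -/

theorem kummer_main (p : ℕ) (hp : p.Prime) [CharZero K] [CharP (ResidueField A) p] (ζ : A)
    (hζ : aeval ζ (cyclotomic p ℤ) = 0) (P : A[X])
    (hP : C ((1 - ζ) ^ p) * P = (1 + C (1 - ζ) * X) ^ p - 1) (π : A)
    (hπ : maximalIdeal A = Ideal.span {π}) (ξ : K) (z : L) (hz : aeval z P = algebraMap K L ξ)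
    (hgen : IntermediateField.adjoin K {z} = ⊤) :
    IsGalois K L ∧ KCases A K L p ∧
      ((∃ a : A, algebraMap A K a = ξ) → Module.finrank K L = 1 ∨
        (EtRam.IsUnramifiedExt A (algebraMap A L) ∧ Module.finrank K L = p)) ∧
      (∀ (n : ℕ) (a : Aˣ), 0 < n → ¬ p ∣ n → ξ * algebraMap A K π ^ n = algebraMap A K a →
        EtRam.IsTotallyRamified A (algebraMap A L) ∧ Module.finrank K L = p) ∧
      (∀ (n : ℕ) (a : A), 0 < n → p ∣ n → (∀ r : A, residue A a ≠ residue A r ^ p) →
          ξ * algebraMap A K π ^ n = algebraMap A K a → KCase4 A L p) := by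
  haveI : CharZero A := (algebraMap A K).charZero
  have hprim : IsPrimitiveRoot ζ p := isPrimitiveRoot_of_aeval p hp A ζ hζ
  obtain ⟨ε, hε, hpw⟩ := natCast_eq_pow_mul_unit p hp A ζ hprim
  have hwm : (1 - ζ) ∈ maximalIdeal A := one_sub_mem p hp A ζ hprim.pow_eq_one
  have hw0 : (1 - ζ) ≠ 0 := sub_ne_zero.mpr (hprim.ne_one hp.one_lt).symm
  obtain ⟨w, hw⟩ : ∃ w : A, w = 1 - ζ := ⟨_, rfl⟩
  rw [← hw] at hP hpw hwm hw0
  obtain ⟨hmonic, hdeg⟩ := monic_of_eq p hp A w hw0 P hP
  have hπirr : Irreducible π := (IsDiscreteValuationRing.irreducible_iff_uniformizer π).mpr hπ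
  obtain ⟨e₀, hassoc⟩ := IsDiscreteValuationRing.associated_pow_irreducible hw0 hπirr
  obtain ⟨ω, hω⟩ := hassoc.symm
  have he₀ : 0 < e₀ := by
    rcases Nat.eq_zero_or_pos e₀ with h | h
    · exfalso
      rw [h, pow_zero, one_mul] at hω
      exact (mem_maximalIdeal _).mp hwm (by rw [← hω]; exact ω.isUnit)
    · exact h
  -- `z` is algebraic
  have hqm : (P.map (algebraMap A K) - C ξ).Monic := by
    apply (hmonic.map (algebraMap A K)).sub_of_left
    apply lt_of_le_of_lt degree_C_le
    apply natDegree_pos_iff_degree_pos.mp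
    rw [hmonic.natDegree_map, hdeg]; exact hp.pos
  have hzalg : IsAlgebraic K z :=
    ⟨_, hqm.ne_zero, by rw [map_sub, aeval_map_algebraMap, aeval_C, hz, sub_self]⟩
  have hadjz : Algebra.adjoin K {z} = ⊤ := by
    rw [← IntermediateField.adjoin_simple_toSubalgebra_of_isAlgebraic hzalg, hgen,
      IntermediateField.top_toSubalgebra]
  -- the Kummer generator
  have hWK0 : algebraMap A K w ≠ 0 := fun h0 =>
    hw0 (IsFractionRing.injective A K (by rw [h0, map_zero]))
  have hWW : algebraMap A L w = algebraMap K L (algebraMap A K w) :=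
    IsScalarTower.algebraMap_apply A K L w
  have hWL0 : algebraMap K L (algebraMap A K w) ≠ 0 := by
    rw [ne_eq, map_eq_zero]; exact hWK0
  have hy : (1 + algebraMap A L w * z) ^ p =
      algebraMap K L (1 + algebraMap A K w ^ p * ξ) := by
    have h1 := P_eval p w P hP z
    rw [hz] at h1
    rw [map_add, map_one, map_mul, map_pow, ← hWW]
    linear_combination -h1
  have hzy : z = algebraMap K L ((algebraMap A K w)⁻¹) * (1 + algebraMap A L w * z) +
      algebraMap K L (-((algebraMap A K w)⁻¹)) := by
    rw [hWW, map_neg, map_inv₀, mul_add, mul_one, ← mul_assoc, inv_mul_cancel₀ hWL0, one_mul]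
    ring
  have hadjy : Algebra.adjoin K {1 + algebraMap A L w * z} = ⊤ :=
    adjoin_eq_top_of_affine K L z _ _ _ hzy hadjz
  have hζK : IsPrimitiveRoot (algebraMap A K ζ) p :=
    hprim.map_of_injective (IsFractionRing.injective A K)
  obtain ⟨hgal, hfin, hdich⟩ := kummer_galois p hp K L (algebraMap A K ζ) hζK _ _ hy hadjy
  haveI := hfin
  have hfr : Module.finrank K L ≤ p := by
    rcases hdich with h | h
    · exact h.le.trans hp.one_le
    · exact h.le
  refine ⟨hgal, ?_, ?_, ?_, ?_⟩
  · exact kc A K L p hp hdich π hπ w hw0 hwm P hP ε hε hpw e₀ he₀ ω hω.symm _ _ hy hadjy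
  · rintro ⟨a, ha⟩
    have hz' : aeval z P = algebraMap A L a := by
      rw [hz, ← ha, ← IsScalarTower.algebraMap_apply A K L]
    exact partA' A K L p hp hdich π hπ w hw0 hwm P hP ε hε hpw z a hz' hadjz
  · intro n a hn hpn ha
    have hz' : aeval z P * algebraMap A L π ^ n = algebraMap A L a := by
      rw [hz]
      have h1 := congrArg (algebraMap K L) ha
      rw [map_mul, map_pow, ← IsScalarTower.algebraMap_apply A K L,
        ← IsScalarTower.algebraMap_apply A K L] at h1
      exact h1
    exact totRam_of_pole A K L p hp hfr π hπ P hmonic hdeg z n hn hpn a hz'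
  · intro n a hn hpn hres ha
    obtain ⟨m, rfl⟩ := hpn
    have hm0 : 0 < m := by
      rcases Nat.eq_zero_or_pos m with h | h
      · rw [h, mul_zero] at hn; omega
      · exact h
    have hz' : aeval z P * algebraMap A L π ^ (p * m) = algebraMap A L a := by
      rw [hz]
      have h1 := congrArg (algebraMap K L) ha
      rw [map_mul, map_pow, ← IsScalarTower.algebraMap_apply A K L,
        ← IsScalarTower.algebraMap_apply A K L] at h1
      exact h1
    exact partC' A K L p hp π hπ P hmonic hdeg z m hm0 a hres hz' hadjz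

end Ctx

end Groth.Agent.Helper22.KumRam
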