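import Mathlib
import Groth.Agent.Lib.Lead.RLR9
import Groth.Agent.Lib.Helper7.IntDim

set_option autoImplicit false
universe u
open IsLocalRing

namespace Groth.Agent.Helper22.Kummer

/-- Abstract regularity criterion for Kummer-like extensions of a regular local ring. -/
theorem regular_of_kummer_like {A : Type u} [CommRing A] [IsRegularLocalRing A]
    {B : Type u} [CommRing B] [Algebra A B] [IsNoetherianRing B] [Algebra.IsIntegral A B]
    (hinj : Function.Injective (algebraMap A B))
    (r : ℕ) (f : Fin r → A) (hm : ∀ i, f i ∈ maximalIdeal A)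
    (hf : LinearIndependent (ResidueField A)
      (fun i => (maximalIdeal A).toCotangent ⟨f i, hm i⟩))
    (n : Fin r → ℕ) (hn : ∀ i, 1 ≤ n i)
    (t : Fin r → B) (ht : ∀ i, t i ^ n i = algebraMap A B (f i))
    (hgen : ∀ x : B, ∃ a : A, x - algebraMap A B a ∈ Ideal.span (Set.range t))
    (χ : B →+* ResidueField A) (hχ1 : ∀ a, χ (algebraMap A B a) = residue A a)
    (hχ2 : ∀ i, χ (t i) = 0) : IsRegularLocalRing B := by
  classical
  have hχsurj : Function.Surjective χ := by
    intro y
    obtain ⟨a, rfl⟩ := IsLocalRing.residue_surjective y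
    exact ⟨algebraMap A B a, hχ1 a⟩
  have hM0 : (RingHom.ker χ).IsMaximal := RingHom.ker_isMaximal_of_surjective χ hχsurj
  have hspan_le_ker : Ideal.span (Set.range t) ≤ RingHom.ker χ := by
    rw [Ideal.span_le]
    rintro _ ⟨i, rfl⟩
    exact (RingHom.mem_ker).2 (hχ2 i)
  have hdec : ∀ x ∈ RingHom.ker χ, ∃ a ∈ maximalIdeal A,
      x - algebraMap A B a ∈ Ideal.span (Set.range t) := by
    intro x hx
    obtain ⟨a, ha⟩ := hgen x
    refine ⟨a, ?_, ha⟩
    have h1 : χ (x - algebraMap A B a) = 0 := (RingHom.mem_ker).1 (hspan_le_ker ha)
    rw [map_sub, (RingHom.mem_ker).1 hx, zero_sub, neg_eq_zero, hχ1] at h1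
    exact (IsLocalRing.residue_eq_zero_iff a).1 h1
  have hle : ∀ M : Ideal B, M.IsMaximal → RingHom.ker χ ≤ M := by
    intro M hM
    haveI := hM
    have hcomap : M.comap (algebraMap A B) = maximalIdeal A := by
      have h1 : (M.comap (algebraMap A B)).IsMaximal :=
        Ideal.isMaximal_comap_of_isIntegral_of_isMaximal (R := A) M
      exact IsLocalRing.eq_maximalIdeal h1
    have halg : ∀ a ∈ maximalIdeal A, algebraMap A B a ∈ M := by
      intro a ha
      rw [← hcomap] at ha
      exact ha
    have ht_mem : ∀ i, t i ∈ M := by
      intro i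
      have h1 : t i ^ n i ∈ M := by
        rw [ht]
        exact halg _ (hm i)
      exact hM.isPrime.mem_of_pow_mem _ h1
    have hspanM : Ideal.span (Set.range t) ≤ M := by
      rw [Ideal.span_le]
      rintro _ ⟨i, rfl⟩
      exact ht_mem i
    intro x hx
    obtain ⟨a, ha, hxa⟩ := hdec x hx
    have hx' : x = (x - algebraMap A B a) + algebraMap A B a := by ring
    rw [hx']
    exact M.add_mem (hspanM hxa) (halg a ha)
  haveI : IsLocalRing B := IsLocalRing.of_unique_max_ideal
    ⟨RingHom.ker χ, hM0, fun M hM => (hM0.eq_of_le hM.ne_top (hle M hM)).symm⟩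
  have hmax : maximalIdeal B = RingHom.ker χ := (IsLocalRing.eq_maximalIdeal hM0).symm
  obtain ⟨e, y, hre, hz⟩ := Groth.Agent.Lead.RLR.exists_extension_of_linearIndependent
    (fun i => (⟨f i, hm i⟩ : maximalIdeal A)) hf
  obtain ⟨z, hzdef⟩ : ∃ z : Fin (r + e) → B,
      z = Fin.append t (fun j => algebraMap A B (y j : A)) := ⟨_, rfl⟩
  have hzl : ∀ i, z (Fin.castAdd e i) = t i := by
    intro i
    rw [hzdef, Fin.append_left]
  have hzr : ∀ j, z (Fin.natAdd r j) = algebraMap A B (y j : A) := by
    intro j
    rw [hzdef, Fin.append_right]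
  have hz_mem : ∀ i, z i ∈ RingHom.ker χ := by
    intro i
    induction i using Fin.addCases with
    | left i =>
      rw [hzl]
      exact (RingHom.mem_ker).2 (hχ2 i)
    | right j =>
      rw [hzr, RingHom.mem_ker, hχ1]
      exact (IsLocalRing.residue_eq_zero_iff _).2 (y j).2
  have hker_eq : RingHom.ker χ = Ideal.span (Set.range z) := by
    apply le_antisymm
    · intro x hx
      obtain ⟨a, ha, hxa⟩ := hdec x hx
      have h1 : Ideal.span (Set.range t) ≤ Ideal.span (Set.range z) := by
        rw [Ideal.span_le]
        rintro _ ⟨i, rfl⟩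
        exact Ideal.subset_span ⟨Fin.castAdd e i, hzl i⟩
      have h2 : algebraMap A B a ∈ Ideal.span (Set.range z) := by
        have h3 : maximalIdeal A ≤ (Ideal.span (Set.range z)).comap (algebraMap A B) := by
          rw [← hz, Ideal.span_le]
          rintro _ ⟨i, rfl⟩
          show algebraMap A B ((Fin.append (fun i => (⟨f i, hm i⟩ : maximalIdeal A)) y i :
            maximalIdeal A) : A) ∈ Ideal.span (Set.range z)
          induction i using Fin.addCases with
          | left i =>
            rw [Fin.append_left]
            show algebraMap A B (f i) ∈ _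
            rw [← ht]
            exact Ideal.pow_mem_of_mem (Ideal.span (Set.range z))
              (Ideal.subset_span (⟨Fin.castAdd e i, hzl i⟩ : t i ∈ Set.range z)) _ (hn i)
          | right j =>
            rw [Fin.append_right]
            exact Ideal.subset_span ⟨Fin.natAdd r j, hzr j⟩
        exact h3 ha
      have hx' : x = (x - algebraMap A B a) + algebraMap A B a := by ring
      rw [hx']
      exact Ideal.add_mem _ (h1 hxa) h2
    · rw [Ideal.span_le]
      rintro _ ⟨i, rfl⟩
      exact hz_mem i
  have hdimA : ringKrullDim A = ((r + e : ℕ) : WithBot ℕ∞) := by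
    rw [← IsRegularLocalRing.spanFinrank_maximalIdeal, hre]
  have hdimB : ringKrullDim B = ringKrullDim A :=
    Groth.Agent.Helper7.IntDim.ringKrullDim_eq_of_isIntegral_of_injective hinj
  apply IsRegularLocalRing.of_spanFinrank_maximalIdeal_le
  rw [hdimB, hdimA, hmax, hker_eq]
  have h5 : (Ideal.span (Set.range z)).spanFinrank ≤ r + e :=
    (Submodule.spanFinrank_span_le_ncard_of_finite (Set.finite_range z)).trans
      (Groth.Agent.Lead.RLR.ncard_range_le z)
  exact_mod_cast h5

/-- If the image of the jacobian of a square presubmersive presentation is a unit in the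
localization away from `g`, that localization is étale. -/
theorem etale_away_of_isUnit_jacobian {R S ι σ : Type*} [CommRing R] [CommRing S] [Algebra R S]
    [Finite ι] [Finite σ]
    (P0 : Algebra.PreSubmersivePresentation R S ι σ) (hcard : Nat.card ι = Nat.card σ) (g : S)
    (hu : IsUnit (algebraMap S (Localization.Away g) P0.jacobian)) :
    Algebra.Etale R (Localization.Away g) := by
  classical
  let Q0 : Algebra.SubmersivePresentation S (Localization.Away g) Unit Unit :=
    Algebra.SubmersivePresentation.localizationAway (Localization.Away g) g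
  have hunit : IsUnit (Q0.toPreSubmersivePresentation.comp P0).jacobian := by
    rw [Algebra.PreSubmersivePresentation.comp_jacobian_eq_jacobian_smul_jacobian,
      Algebra.smul_def]
    exact hu.mul Q0.jacobian_isUnit
  let C : Algebra.SubmersivePresentation R (Localization.Away g)
      (Unit ⊕ ι) (Unit ⊕ σ) :=
    { toPreSubmersivePresentation := Q0.toPreSubmersivePresentation.comp P0
      jacobian_isUnit := hunit }
  have hdim : C.dimension = 0 := by
    show (Q0.toPreSubmersivePresentation.comp P0).dimension = 0
    rw [Algebra.PreSubmersivePresentation.dimension_comp_eq_dimension_add_dimension]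
    have h1 : Q0.dimension = 0 := by
      show Nat.card Unit - Nat.card Unit = 0
      simp
    have h2 : P0.dimension = 0 := by
      show Nat.card ι - Nat.card σ = 0
      rw [hcard, Nat.sub_self]
    rw [h1, h2]
  have hss : Algebra.IsStandardSmoothOfRelativeDimension 0 R (Localization.Away g) :=
    C.isStandardSmoothOfRelativeDimension hdim
  exact inferInstance

theorem etale_away_base {A B : Type u} [CommRing A] [CommRing B] [Algebra A B] (F : A)
    (hE : Algebra.Etale A (Localization.Away (algebraMap A B F))) :
    letI := (Localization.awayMap (algebraMap A B) F).toAlgebra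
    Algebra.Etale (Localization.Away F) (Localization.Away (algebraMap A B F)) := by
  letI := (Localization.awayMap (algebraMap A B) F).toAlgebra
  haveI : IsScalarTower A (Localization.Away F) (Localization.Away (algebraMap A B F)) := by
    apply IsScalarTower.of_algebraMap_eq'
    rw [RingHom.algebraMap_toAlgebra,
      IsScalarTower.algebraMap_eq A B (Localization.Away (algebraMap A B F))]
    exact (IsLocalization.map_comp _).symm
  haveI := hE
  have h1 : Algebra.FormallyEtale (Localization.Away F)
      (Localization.Away (algebraMap A B F)) :=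
    Algebra.FormallyEtale.localization_base (Submonoid.powers F)
  have h2 : Algebra.FinitePresentation (Localization.Away F)
      (Localization.Away (algebraMap A B F)) :=
    Algebra.FinitePresentation.of_restrict_scalars_finitePresentation A _ _
  exact ⟨h1, h2⟩

end Groth.Agent.Helper22.Kummer
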