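import Mathlib
import Groth.Prelude.Def_SGA1
import Groth.Agent.Lib.Helper22.Kummer1

set_option autoImplicit false
universe u
open IsLocalRing MvPolynomial

namespace Groth.Agent.Helper22.Kummer

variable (A : Type u) [CommRing A] {r : ℕ} (f : Fin r → A) (n : Fin r → ℕ)

noncomputable abbrev KI : Ideal (MvPolynomial (Fin r) A) :=
  Ideal.span (Set.range fun i => (X i : MvPolynomial (Fin r) A) ^ n i - C (f i))

noncomputable def t (i : Fin r) : SGA1.kummerAlg A f n := Ideal.Quotient.mk (KI A f n) (X i)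

theorem alg_eq (a : A) :
    algebraMap A (SGA1.kummerAlg A f n) a = Ideal.Quotient.mk (KI A f n) (C a) := rfl

theorem t_pow (i : Fin r) : t A f n i ^ n i = algebraMap A (SGA1.kummerAlg A f n) (f i) := by
  rw [alg_eq]
  unfold t
  rw [← map_pow, Ideal.Quotient.eq]
  exact Ideal.subset_span ⟨i, rfl⟩

theorem hgen (x : SGA1.kummerAlg A f n) :
    ∃ a : A, x - algebraMap A (SGA1.kummerAlg A f n) a ∈ Ideal.span (Set.range (t A f n)) := by
  obtain ⟨p, rfl⟩ := Ideal.Quotient.mk_surjective x
  induction p using MvPolynomial.induction_on with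
  | C a =>
    refine ⟨a, ?_⟩
    rw [alg_eq, sub_self]
    exact Ideal.zero_mem _
  | add p q hp hq =>
    obtain ⟨a, ha⟩ := hp
    obtain ⟨b, hb⟩ := hq
    refine ⟨a + b, ?_⟩
    have h : Ideal.Quotient.mk (KI A f n) (p + q) -
        algebraMap A (SGA1.kummerAlg A f n) (a + b) =
        (Ideal.Quotient.mk (KI A f n) p - algebraMap A (SGA1.kummerAlg A f n) a) +
        (Ideal.Quotient.mk (KI A f n) q - algebraMap A (SGA1.kummerAlg A f n) b) := by
      rw [map_add, map_add]
      ring
    rw [h]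
    exact Ideal.add_mem _ ha hb
  | mul_X p i _ =>
    refine ⟨0, ?_⟩
    rw [map_zero, sub_zero, map_mul]
    exact Ideal.mul_mem_left _ _ (Ideal.subset_span ⟨i, rfl⟩)

theorem isIntegral_t (hn : ∀ i, 1 ≤ n i) (i : Fin r) : IsIntegral A (t A f n i) := by
  apply IsIntegral.of_pow (hn i)
  rw [t_pow]
  exact isIntegral_algebraMap

theorem isIntegral_mk (hn : ∀ i, 1 ≤ n i) (p : MvPolynomial (Fin r) A) :
    IsIntegral A (Ideal.Quotient.mk (KI A f n) p : SGA1.kummerAlg A f n) := by
  induction p using MvPolynomial.induction_on with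
  | C a =>
    rw [← alg_eq]
    exact isIntegral_algebraMap
  | add p q hp hq =>
    rw [map_add]
    exact hp.add hq
  | mul_X p i hp =>
    rw [map_mul]
    exact hp.mul (isIntegral_t A f n hn i)

theorem isIntegral (hn : ∀ i, 1 ≤ n i) : Algebra.IsIntegral A (SGA1.kummerAlg A f n) := by
  refine ⟨fun x => ?_⟩
  obtain ⟨p, rfl⟩ := Ideal.Quotient.mk_surjective x
  exact isIntegral_mk A f n hn p

theorem alg_injective [IsDomain A] (hn : ∀ i, 1 ≤ n i) :
    Function.Injective (algebraMap A (SGA1.kummerAlg A f n)) := by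
  let K := FractionRing A
  let L := AlgebraicClosure K
  let ι : A →+* L := (algebraMap K L).comp (algebraMap A K)
  have hι : Function.Injective ι :=
    (algebraMap K L).injective.comp (IsFractionRing.injective A K)
  have hroot : ∀ i, ∃ s : L, s ^ n i = ι (f i) := fun i =>
    IsAlgClosed.exists_pow_nat_eq _ (hn i)
  choose s hs using hroot
  let ψ : MvPolynomial (Fin r) A →+* L := eval₂Hom ι s
  have hψ : ∀ a ∈ KI A f n, ψ a = 0 := by
    have h : KI A f n ≤ RingHom.ker ψ := by
      apply Ideal.span_le.2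
      rintro _ ⟨i, rfl⟩
      show (X i : MvPolynomial (Fin r) A) ^ n i - C (f i) ∈ RingHom.ker ψ
      rw [RingHom.mem_ker, map_sub, map_pow]
      show (eval₂Hom ι s (X i)) ^ n i - eval₂Hom ι s (C (f i)) = 0
      rw [eval₂Hom_X', eval₂Hom_C, hs, sub_self]
    exact fun a ha => (RingHom.mem_ker).1 (h ha)
  let ρ : SGA1.kummerAlg A f n →+* L := Ideal.Quotient.lift (KI A f n) ψ hψ
  have hρ : ∀ a, ρ (algebraMap A (SGA1.kummerAlg A f n) a) = ι a := by
    intro a
    rw [alg_eq]
    show Ideal.Quotient.lift (KI A f n) ψ hψ (Ideal.Quotient.mk (KI A f n) (C a)) = ι a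
    rw [Ideal.Quotient.lift_mk]
    exact eval₂Hom_C _ _ _
  intro a b hab
  apply hι
  rw [← hρ, ← hρ, hab]

section local_

variable [IsLocalRing A]

noncomputable def χ' : MvPolynomial (Fin r) A →+* ResidueField A :=
  eval₂Hom (residue A) (fun _ => 0)

theorem χ'_mem (hm : ∀ i, f i ∈ maximalIdeal A) (hn : ∀ i, 1 ≤ n i)
    (a : MvPolynomial (Fin r) A) (ha : a ∈ KI A f n) : χ' A (r := r) a = 0 := by
  have h : KI A f n ≤ RingHom.ker (χ' A (r := r)) := by
    apply Ideal.span_le.2
    rintro _ ⟨i, rfl⟩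
    show (X i : MvPolynomial (Fin r) A) ^ n i - C (f i) ∈ RingHom.ker (χ' A (r := r))
    rw [RingHom.mem_ker, map_sub, map_pow]
    unfold χ'
    rw [eval₂Hom_X', eval₂Hom_C, zero_pow (by have := hn i; omega),
      (IsLocalRing.residue_eq_zero_iff _).2 (hm i), sub_self]
  exact (RingHom.mem_ker).1 (h ha)

noncomputable def χ (hm : ∀ i, f i ∈ maximalIdeal A) (hn : ∀ i, 1 ≤ n i) :
    SGA1.kummerAlg A f n →+* ResidueField A :=
  Ideal.Quotient.lift (KI A f n) (χ' A) (χ'_mem A f n hm hn)

theorem χ_alg (hm : ∀ i, f i ∈ maximalIdeal A) (hn : ∀ i, 1 ≤ n i) (a : A) :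
    χ A f n hm hn (algebraMap A (SGA1.kummerAlg A f n) a) = residue A a := by
  rw [alg_eq]
  unfold χ
  rw [Ideal.Quotient.lift_mk]
  unfold χ'
  rw [eval₂Hom_C]

theorem χ_t (hm : ∀ i, f i ∈ maximalIdeal A) (hn : ∀ i, 1 ≤ n i) (i : Fin r) :
    χ A f n hm hn (t A f n i) = 0 := by
  unfold χ t
  rw [Ideal.Quotient.lift_mk]
  unfold χ'
  rw [eval₂Hom_X']

end local_

noncomputable def P0 :
    Algebra.PreSubmersivePresentation A (SGA1.kummerAlg A f n) (Fin r) (Fin r) :=
  Algebra.PreSubmersivePresentation.naive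
    (v := fun i => (X i : MvPolynomial (Fin r) A) ^ n i - C (f i)) id Function.injective_id

noncomputable def d (j : Fin r) : MvPolynomial (Fin r) A :=
  C ((n j : ℕ) : A) * X j ^ (n j - 1)

theorem P0_jacobiMatrix : (P0 A f n).jacobiMatrix = Matrix.diagonal (d A n) := by
  refine Matrix.ext fun i j => ?_
  rw [Algebra.PreSubmersivePresentation.jacobiMatrix_apply]
  show pderiv i ((X j : MvPolynomial (Fin r) A) ^ n j - C (f j)) = Matrix.diagonal (d A n) i j
  rw [map_sub, pderiv_C, sub_zero, Derivation.leibniz_pow, pderiv_X, Matrix.diagonal_apply]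
  by_cases h : i = j
  · subst h
    rw [if_pos rfl, Pi.single_eq_same]
    unfold d
    rw [smul_eq_mul, mul_one, nsmul_eq_mul, map_natCast]
  · rw [if_neg h, Pi.single_eq_of_ne (Ne.symm h), smul_zero, smul_zero]

theorem P0_jacobian :
    (P0 A f n).jacobian = Ideal.Quotient.mk (KI A f n) (∏ j, d A n j) := by
  rw [Algebra.PreSubmersivePresentation.jacobian_eq_jacobiMatrix_det, P0_jacobiMatrix,
    Matrix.det_diagonal]
  rfl

noncomputable abbrev KL : Type u :=
  Localization.Away (algebraMap A (SGA1.kummerAlg A f n) (∏ i, f i))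

theorem isUnit_jacobian [IsLocalRing A] (hn : ∀ i, 1 ≤ n i)
    (hu : ∀ i, IsUnit ((n i : ℕ) : ResidueField A)) :
    IsUnit (algebraMap (SGA1.kummerAlg A f n) (KL A f n) (P0 A f n).jacobian) := by
  have hF : IsUnit (algebraMap (SGA1.kummerAlg A f n) (KL A f n)
      (algebraMap A (SGA1.kummerAlg A f n) (∏ i, f i))) :=
    IsLocalization.Away.algebraMap_isUnit _
  rw [P0_jacobian, map_prod (Ideal.Quotient.mk (KI A f n)) (d A n) Finset.univ,
    map_prod (algebraMap (SGA1.kummerAlg A f n) (KL A f n)) _ Finset.univ]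
  apply Finset.prod_induction _ IsUnit (fun a b ha hb => ha.mul hb) isUnit_one
  intro j _
  have h1 : IsUnit (algebraMap (SGA1.kummerAlg A f n) (KL A f n)
      (Ideal.Quotient.mk (KI A f n) (C ((n j : ℕ) : A)))) := by
    have h2 : IsUnit ((n j : ℕ) : A) := by
      have h3 : IsUnit (residue A ((n j : ℕ) : A)) := by
        rw [map_natCast]
        exact hu j
      exact isUnit_of_map_unit (residue A) _ h3
    rw [← alg_eq]
    exact (h2.map (algebraMap A (SGA1.kummerAlg A f n))).map _
  have h2 : IsUnit (algebraMap (SGA1.kummerAlg A f n) (KL A f n)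
      (Ideal.Quotient.mk (KI A f n) (X j))) := by
    have h3 : IsUnit ((algebraMap (SGA1.kummerAlg A f n) (KL A f n) (t A f n j)) ^ n j) := by
      rw [← map_pow, t_pow]
      apply isUnit_of_dvd_unit _ hF
      exact map_dvd _ (map_dvd _ (Finset.dvd_prod_of_mem f (Finset.mem_univ j)))
    exact (isUnit_pow_iff (by have := hn j; omega)).1 h3
  have hd : algebraMap (SGA1.kummerAlg A f n) (KL A f n)
      (Ideal.Quotient.mk (KI A f n) (d A n j)) =
      algebraMap (SGA1.kummerAlg A f n) (KL A f n)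
        (Ideal.Quotient.mk (KI A f n) (C ((n j : ℕ) : A))) *
      (algebraMap (SGA1.kummerAlg A f n) (KL A f n)
        (Ideal.Quotient.mk (KI A f n) (X j))) ^ (n j - 1) := by
    unfold d
    rw [map_mul (Ideal.Quotient.mk (KI A f n)), map_pow (Ideal.Quotient.mk (KI A f n)),
      map_mul (algebraMap (SGA1.kummerAlg A f n) (KL A f n)),
      map_pow (algebraMap (SGA1.kummerAlg A f n) (KL A f n))]
  show IsUnit (algebraMap (SGA1.kummerAlg A f n) (KL A f n)
      (Ideal.Quotient.mk (KI A f n) (d A n j)))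
  rw [hd]
  exact h1.mul (h2.pow _)

theorem etale_part [IsLocalRing A] (hn : ∀ i, 1 ≤ n i)
    (hu : ∀ i, IsUnit ((n i : ℕ) : ResidueField A)) :
    letI := (Localization.awayMap (algebraMap A (SGA1.kummerAlg A f n)) (∏ i, f i)).toAlgebra
    Algebra.Etale (Localization.Away (∏ i, f i))
      (Localization.Away (algebraMap A (SGA1.kummerAlg A f n) (∏ i, f i))) :=
  etale_away_base (∏ i, f i)
    (etale_away_of_isUnit_jacobian (P0 A f n) rfl _ (isUnit_jacobian A f n hn hu))

theorem main (A : Type u) [CommRing A] [IsRegularLocalRing A] (r : ℕ) (f : Fin r → A)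
    (hm : ∀ i, f i ∈ maximalIdeal A)
    (hf : LinearIndependent (ResidueField A)
      (fun i => (maximalIdeal A).toCotangent ⟨f i, hm i⟩))
    (n : Fin r → ℕ) (hn : ∀ i, 1 ≤ n i) :
    IsRegularLocalRing (SGA1.kummerAlg A f n) ∧
    ((∀ i, IsUnit ((n i : ℕ) : ResidueField A)) →
      letI := (Localization.awayMap (algebraMap A (SGA1.kummerAlg A f n)) (∏ i, f i)).toAlgebra
      Algebra.Etale (Localization.Away (∏ i, f i))
        (Localization.Away (algebraMap A (SGA1.kummerAlg A f n) (∏ i, f i)))) := by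
  haveI : IsDomain A := Groth.Agent.Lead.RLR.isDomain A
  haveI : Algebra.IsIntegral A (SGA1.kummerAlg A f n) := isIntegral A f n hn
  refine ⟨regular_of_kummer_like (alg_injective A f n hn) r f hm hf n hn (t A f n)
    (t_pow A f n) (hgen A f n) (χ A f n hm hn) (χ_alg A f n hm hn) (χ_t A f n hm hn), ?_⟩
  intro hu
  exact etale_part A f n hn hu

end Groth.Agent.Helper22.Kummer
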