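import Mathlib

/-!
# Index identities for lattices `ker (S D) / im A` vs `ker S / im (D A)`
-/

set_option autoImplicit false
namespace Groth.Agent.Helper22.LatIdx

theorem key {L : Type*} [AddCommGroup L] (D : L →+ L) (hD : Function.Injective D)
    (S : L →+ ℤ) (hS : Function.Surjective S) (B : AddSubgroup L)
    (hB : B ≤ (S.comp D).ker) :
    B.relIndex (S.comp D).ker * D.range.index =
      (S.comp D).range.index * (B.map D).relIndex S.ker := by
  set K := (S.comp D).ker with hK
  set K0 := S.ker with hK0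
  have ha : K.map D = D.range ⊓ K0 := by
    ext x
    simp only [AddSubgroup.mem_map, AddSubgroup.mem_inf, AddMonoidHom.mem_range, hK, hK0,
      AddMonoidHom.mem_ker, AddMonoidHom.comp_apply]
    constructor
    · rintro ⟨y, hy, rfl⟩
      exact ⟨⟨y, rfl⟩, hy⟩
    · rintro ⟨⟨y, rfl⟩, hy⟩
      exact ⟨y, hy, rfl⟩
  have hb : (B.map D).relIndex (K.map D) = B.relIndex K :=
    AddSubgroup.relIndex_map_map_of_injective B K hD
  have hle1 : B.map D ≤ K.map D := AddSubgroup.map_mono hB
  have hle2 : K.map D ≤ K0 := by rw [ha]; exact inf_le_right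
  have hc := AddSubgroup.relIndex_mul_relIndex (B.map D) (K.map D) K0 hle1 hle2
  have hd : (K.map D).relIndex K0 = D.range.relIndex (K0 ⊔ D.range) := by
    rw [ha, AddSubgroup.inf_relIndex_right, AddSubgroup.relIndex_sup_right]
  have he : D.range.relIndex (K0 ⊔ D.range) * (K0 ⊔ D.range).index = D.range.index :=
    AddSubgroup.relIndex_mul_index le_sup_right
  have hf : K0 ⊔ D.range = ((S.comp D).range).comap S := by
    ext x
    rw [AddSubgroup.mem_sup, AddSubgroup.mem_comap, AddMonoidHom.mem_range]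
    constructor
    · rintro ⟨y, hy, z, ⟨t, rfl⟩, rfl⟩
      refine ⟨t, ?_⟩
      rw [map_add, (AddMonoidHom.mem_ker.mp hy), zero_add, AddMonoidHom.comp_apply]
    · rintro ⟨t, ht⟩
      refine ⟨x - D t, ?_, D t, ⟨t, rfl⟩, sub_add_cancel _ _⟩
      rw [hK0, AddMonoidHom.mem_ker, map_sub, ← ht, AddMonoidHom.comp_apply, sub_self]
  have hg : (K0 ⊔ D.range).index = (S.comp D).range.index := by
    rw [hf, AddSubgroup.index_comap_of_surjective _ hS]
  rw [← hb, ← he, hg, ← hc, hd]
  ring

theorem key2 {L : Type*} [AddCommGroup L] (F D' : L →+ L) (K0 : AddSubgroup L)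
    (hF : F.range ≤ K0) :
    F.range.relIndex K0 * D'.range.index =
      D'.range.relIndex F.ker * (D'.range.map F).relIndex K0 := by
  have h1 : (D'.range.map F).relIndex F.range = (D'.range ⊔ F.ker).index := by
    have := AddSubgroup.relIndex_map_map F D'.range ⊤
    rw [← AddMonoidHom.range_eq_map] at this
    rw [this, top_sup_eq, AddSubgroup.relIndex_top_right]
  have h2 : (D'.range.map F).relIndex F.range * F.range.relIndex K0 =
      (D'.range.map F).relIndex K0 :=
    AddSubgroup.relIndex_mul_relIndex _ _ _ (by rintro _ ⟨y, _, rfl⟩; exact ⟨y, rfl⟩) hF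
  have h3 : D'.range.relIndex (D'.range ⊔ F.ker) * (D'.range ⊔ F.ker).index = D'.range.index :=
    AddSubgroup.relIndex_mul_index le_sup_left
  have h4 : D'.range.relIndex (D'.range ⊔ F.ker) = D'.range.relIndex F.ker :=
    AddSubgroup.relIndex_sup_left _ _
  rw [← h2, h1, ← h3, h4]
  ring

theorem diag_apply {n : ℕ} (δ : Fin n → ℤ) (y : Fin n → ℤ) (i : Fin n) :
    Matrix.mulVecLin (Matrix.diagonal δ) y i = δ i * y i := by
  simp [Matrix.mulVec_diagonal]

theorem diag_injective {n : ℕ} (δ : Fin n → ℤ) (hδ : ∀ i, δ i ≠ 0) :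
    Function.Injective (Matrix.mulVecLin (Matrix.diagonal δ)) := by
  intro x y hxy
  funext i
  have := congrFun hxy i
  rw [diag_apply, diag_apply] at this
  exact mul_left_cancel₀ (hδ i) this

theorem index_range_diagonal {n : ℕ} (δ : Fin n → ℤ) (hδ : ∀ i, δ i ≠ 0) :
    (Matrix.mulVecLin (Matrix.diagonal δ)).toAddMonoidHom.range.index = (∏ i, δ i).natAbs := by
  classical
  set Dl := Matrix.mulVecLin (Matrix.diagonal δ) with hDl
  have hDinj : Function.Injective Dl := diag_injective δ hδ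
  have h1 := Submodule.natAbs_det_equiv (LinearMap.range Dl) (LinearEquiv.ofInjective Dl hDinj)
  have h2 : (LinearMap.range Dl).subtype ∘ₗ AddMonoidHom.toIntLinearMap
      ((LinearEquiv.ofInjective Dl hDinj : (Fin n → ℤ) ≃ₗ[ℤ] LinearMap.range Dl) :
        (Fin n → ℤ) →+ LinearMap.range Dl) = Dl := by
    apply LinearMap.ext
    intro x
    rfl
  rw [h2, hDl, ← Matrix.toLin'_apply', LinearMap.det_toLin', Matrix.det_diagonal] at h1
  rw [h1]
  rfl

theorem ker_struct {n : ℕ} (hn : 0 < n) (δ' : Fin n → ℤ) (hδ' : ∀ i, δ' i ≠ 0)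
    (A : Matrix (Fin n) (Fin n) ℤ) (hA : A.rank = n - 1) (hAδ : A.mulVec δ' = 0) :
    ∃ v : Fin n → ℤ, (∀ i, δ' i = Finset.univ.gcd δ' * v i) ∧ A.mulVec v = 0 ∧
      ∀ x, A.mulVec x = 0 → ∃ m : ℤ, x = m • v := by
  classical
  set d' := Finset.univ.gcd δ' with hd'
  have hd0 : d' ≠ 0 := by
    intro h
    rw [hd', Finset.gcd_eq_zero_iff] at h
    exact hδ' ⟨0, hn⟩ (h _ (Finset.mem_univ _))
  set v : Fin n → ℤ := fun i => δ' i / d' with hv
  have hv' : ∀ i, δ' i = d' * v i := fun i =>
    (Int.mul_ediv_cancel' (Finset.gcd_dvd (Finset.mem_univ i))).symm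
  have hδv : δ' = d' • v := by
    funext i
    rw [Pi.smul_apply, smul_eq_mul]
    exact hv' i
  have hAv : A.mulVec v = 0 := by
    have h := hAδ
    rw [hδv, Matrix.mulVec_smul] at h
    exact (smul_eq_zero.mp h).resolve_left hd0
  obtain ⟨g, hg⟩ := Finset.gcd_eq_sum_mul (Finset.univ : Finset (Fin n)) δ'
  have hbez : ∑ i, v i * g i = 1 := by
    have h : d' * ∑ i, v i * g i = d' * 1 := by
      rw [mul_one, Finset.mul_sum]
      refine Eq.trans ?_ hg.symm
      refine Finset.sum_congr rfl fun i _ => ?_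
      rw [hv' i]
      ring
    exact mul_left_cancel₀ hd0 h
  refine ⟨v, hv', hAv, ?_⟩
  intro x hx
  set Al := Matrix.mulVecLin A with hAl
  have hfr : Module.finrank ℤ (LinearMap.ker Al) = 1 := by
    have h1 := Submodule.finrank_quotient_add_finrank (LinearMap.ker Al)
    rw [LinearEquiv.finrank_eq Al.quotKerEquivRange] at h1
    have h2 : Module.finrank ℤ (LinearMap.range Al) = n - 1 := hA
    rw [h2, Module.finrank_pi, Fintype.card_fin] at h1
    omega
  let X : LinearMap.ker Al := ⟨x, hx⟩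
  let Dp : LinearMap.ker Al := ⟨δ', hAδ⟩
  have hnli : ¬ LinearIndependent ℤ ![X, Dp] := by
    intro hli
    have := hli.fintype_card_le_finrank
    rw [hfr] at this
    simp at this
  rw [LinearIndependent.pair_iff] at hnli
  push_neg at hnli
  obtain ⟨s, t, hst, hne⟩ := hnli
  have hst' : ∀ i, s * x i + t * δ' i = 0 := by
    intro i
    have := congrArg (fun z : LinearMap.ker Al => (z : Fin n → ℤ) i) hst
    simpa [X, Dp] using this
  have hs0 : s ≠ 0 := by
    intro hs
    have ht : t ≠ 0 := hne hs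
    have := hst' ⟨0, hn⟩
    rw [hs, zero_mul, zero_add] at this
    exact hδ' _ ((mul_eq_zero.mp this).resolve_left ht)
  refine ⟨∑ i, x i * g i, ?_⟩
  funext j
  rw [Pi.smul_apply, smul_eq_mul]
  apply mul_left_cancel₀ hs0
  have h1 : ∀ i, s * x i = -(t * d') * v i := by
    intro i
    have := hst' i
    rw [hv' i] at this
    linarith
  have h2 : s * ∑ i, x i * g i = -(t * d') := by
    rw [Finset.mul_sum]
    calc ∑ i, s * (x i * g i) = ∑ i, -(t * d') * (v i * g i) :=
          Finset.sum_congr rfl fun i _ => by rw [← mul_assoc, h1 i, mul_assoc]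
      _ = -(t * d') := by rw [← Finset.mul_sum, hbez, mul_one]
  rw [← mul_assoc, h2, h1 j]

theorem relIndex_ker {n : ℕ} (hn : 0 < n) (δ' : Fin n → ℤ) (hδ' : ∀ i, δ' i ≠ 0)
    (A : Matrix (Fin n) (Fin n) ℤ) (hA : A.rank = n - 1) (hAδ : A.mulVec δ' = 0) :
    (Matrix.mulVecLin (Matrix.diagonal δ')).toAddMonoidHom.range.relIndex
      (Matrix.mulVecLin A).toAddMonoidHom.ker = (Finset.univ.gcd δ').natAbs := by
  obtain ⟨v, hv, hAv, hker⟩ := ker_struct hn δ' hδ' A hA hAδ
  set φ : ℤ →+ (Fin n → ℤ) := (LinearMap.toSpanSingleton ℤ (Fin n → ℤ) v).toAddMonoidHom with hφ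
  have hφ_apply : ∀ m, φ m = m • v := fun m => rfl
  have hrange : (Matrix.mulVecLin A).toAddMonoidHom.ker = φ.range := by
    ext x
    rw [AddMonoidHom.mem_ker, AddMonoidHom.mem_range]
    constructor
    · intro hx
      obtain ⟨m, rfl⟩ := hker x hx
      exact ⟨m, rfl⟩
    · rintro ⟨m, rfl⟩
      show A.mulVec (m • v) = 0
      rw [Matrix.mulVec_smul, hAv, smul_zero]
  rw [hrange, ← AddSubgroup.index_comap]
  have hcomap : (Matrix.mulVecLin (Matrix.diagonal δ')).toAddMonoidHom.range.comap φ =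
      AddSubgroup.zmultiples (Finset.univ.gcd δ') := by
    ext m
    rw [AddSubgroup.mem_comap, AddMonoidHom.mem_range, Int.mem_zmultiples_iff]
    constructor
    · rintro ⟨y, hy⟩
      have h0 := congrFun hy ⟨0, hn⟩
      have h0' : δ' ⟨0, hn⟩ * y ⟨0, hn⟩ = m * v ⟨0, hn⟩ := by
        rw [← diag_apply]
        exact h0
      have hv0 : v ⟨0, hn⟩ ≠ 0 := by
        intro h
        apply hδ' ⟨0, hn⟩
        rw [hv, h, mul_zero]
      refine ⟨y ⟨0, hn⟩, ?_⟩
      apply mul_right_cancel₀ hv0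
      rw [← h0', hv ⟨0, hn⟩]
      ring
    · rintro ⟨c, rfl⟩
      refine ⟨fun _ => c, ?_⟩
      funext i
      show Matrix.mulVecLin (Matrix.diagonal δ') (fun _ => c) i = _
      rw [diag_apply, hφ_apply, Pi.smul_apply, smul_eq_mul, hv i]
      ring
  rw [hcomap, Int.index_zmultiples]

end Groth.Agent.Helper22.LatIdx
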