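import Mathlib

/-!
# Helper22: factoring through a finite stage for schemes of finite type (injective transition maps)

Variant of Mathlib's `Scheme.exists_π_app_comp_eq_of_locallyOfFinitePresentation`:
for `X` only locally of finite type over `S`, a morphism `lim Dᵢ ⟶ X` over `S` factors through
some `Dᵢ` provided the `Dᵢ` are reduced and the projections `lim Dᵢ ⟶ Dᵢ` are dominant
(so that sections inject).  The proof of the gluing part is copied from Mathlib
(`Mathlib/AlgebraicGeometry/AffineTransitionLimit.lean`), with the affine input replaced.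
-/

set_option autoImplicit false

universe u

open CategoryTheory Limits AlgebraicGeometry

namespace Groth.Agent.Helper22.LimFT

/-- A dominant morphism into a reduced scheme is injective on sections. -/
lemma app_injective_of_isDominant {X Y : Scheme.{u}} [IsReduced X] (π : Y ⟶ X) [IsDominant π]
    (U : X.Opens) : Function.Injective (π.app U).hom := by
  rw [injective_iff_map_eq_zero]
  intro s hs
  rw [← basicOpen_eq_bot_iff]
  have h1 : π ⁻¹ᵁ (X.basicOpen s) = ⊥ := by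
    rw [Scheme.preimage_basicOpen]
    have h0 : (ConcreteCategory.hom (π.app U)) s = 0 := hs
    rw [h0, Scheme.basicOpen_zero]
  by_contra hne
  obtain ⟨x, hx⟩ := (TopologicalSpace.Opens.ne_bot_iff_nonempty _).mp hne
  obtain ⟨y, hy⟩ := π.denseRange.exists_mem_open (X.basicOpen s).isOpen ⟨x, hx⟩
  have h2 : y ∈ π ⁻¹ᵁ (X.basicOpen s) := hy
  rw [h1] at h2
  exact h2.elim

/-- Injectivity on global sections of a restriction `f.resLE U V` with `V = f ⁻¹ U`. -/
lemma injective_resLE_appTop {X Y : Scheme.{u}} (f : X ⟶ Y) (U : Y.Opens) (V : X.Opens)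
    (hV : V = f ⁻¹ᵁ U) (e : V ≤ f ⁻¹ᵁ U) (hf : Function.Injective (f.app U).hom) :
    Function.Injective (f.resLE U V e).appTop.hom := by
  subst hV
  have h1 : (f.resLE U (f ⁻¹ᵁ U) e).appTop =
      U.topIso.hom ≫ f.app U ≫ (f ⁻¹ᵁ U).topIso.inv := by
    rw [Scheme.Hom.appTop, Scheme.Hom.resLE_app_top, Scheme.Hom.appLE_eq_app]
  have ha : Function.Injective U.topIso.hom.hom :=
    (ConcreteCategory.bijective_of_isIso U.topIso.hom).injective
  have hb : Function.Injective (f ⁻¹ᵁ U).topIso.inv.hom :=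
    (ConcreteCategory.bijective_of_isIso (f ⁻¹ᵁ U).topIso.inv).injective
  intro s₁ s₂ h
  rw [h1] at h
  change (f ⁻¹ᵁ U).topIso.inv.hom ((f.app U).hom (U.topIso.hom.hom s₁)) =
    (f ⁻¹ᵁ U).topIso.inv.hom ((f.app U).hom (U.topIso.hom.hom s₂)) at h
  exact ha (hf (hb h))

set_option backward.defeqAttrib.useBackward true in
set_option backward.isDefEq.respectTransparency false in
/-- Affine case: `X` of finite type over `S`, all affine, and injective maps on global sections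
`Γ(Dᵢ) → Γ(lim Dᵢ)`.  Then `lim Dᵢ ⟶ X` factors through some `Dᵢ`. -/
lemma exists_π_app_comp_eq_of_isAffine_of_injective
    {I : Type u} [Category.{u} I] {S X : Scheme.{u}} (D : I ⥤ Scheme.{u})
    (t : D ⟶ (Functor.const I).obj S) (f : X ⟶ S) (c : Cone D) (hc : IsLimit c)
    [IsCofiltered I] [LocallyOfFiniteType f]
    [IsAffine S] [IsAffine X] [∀ i, IsAffine (D.obj i)]
    (hinj : ∀ i, Function.Injective (c.π.app i).appTop.hom)
    (a : c.pt ⟶ X) (ha : c.π ≫ t = (Functor.const _).map (a ≫ f)) :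
    ∃ (i : I) (g : D.obj i ⟶ X), c.π.app i ≫ g = a ∧ g ≫ f = t.app i := by
  classical
  have hft : RingHom.FiniteType f.appTop.hom :=
    (HasRingHomProperty.iff_of_isAffine (P := @LocallyOfFiniteType)).mp inferInstance
  letI := f.appTop.hom.toAlgebra
  obtain ⟨n, p, hp⟩ := Algebra.FiniteType.iff_quotient_mvPolynomial''.mp hft
  choose j x hx using fun k : Fin n ↦
    exists_appTop_π_eq_of_isAffine_of_isLimit D c hc (a.appTop.hom (p (MvPolynomial.X k)))
  obtain ⟨i, hi⟩ := IsCofiltered.inf_objs_exists (Finset.univ.image j)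
  have hi' : ∀ k, Nonempty (i ⟶ j k) :=
    fun k ↦ hi (Finset.mem_image_of_mem _ (Finset.mem_univ _))
  let m : ∀ k, i ⟶ j k := fun k ↦ (hi' k).some
  let ti : D.obj i ⟶ S := t.app i
  let πi : c.pt ⟶ D.obj i := c.π.app i
  let y : Fin n → Γ(D.obj i, ⊤) := fun k ↦ (D.map (m k)).appTop.hom (x k)
  have hy : ∀ k, πi.appTop.hom (y k) = a.appTop.hom (p (MvPolynomial.X k)) := by
    intro k
    have h1 : (D.map (m k)).appTop ≫ πi.appTop = (c.π.app (j k)).appTop := by
      rw [← Scheme.Hom.comp_appTop]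
      exact congrArg Scheme.Hom.appTop (c.w (m k))
    have h2 := congr(($h1).hom (x k))
    exact h2.trans (hx k)
  let ψ₀ : MvPolynomial (Fin n) Γ(S, ⊤) →+* Γ(D.obj i, ⊤) :=
    MvPolynomial.eval₂Hom ti.appTop.hom y
  have hcomp : πi ≫ ti = a ≫ f := congr(($ha).app i)
  have hkey' : πi.appTop.hom.comp ψ₀ = a.appTop.hom.comp p.toRingHom := by
    apply MvPolynomial.ringHom_ext
    · intro r
      have h1 : ti.appTop ≫ πi.appTop = f.appTop ≫ a.appTop := by
        rw [← Scheme.Hom.comp_appTop, ← Scheme.Hom.comp_appTop, hcomp]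
      have h2 := congr(($h1).hom r)
      have h3 : ψ₀ (MvPolynomial.C r) = ti.appTop.hom r := by
        simp only [ψ₀, MvPolynomial.coe_eval₂Hom, MvPolynomial.eval₂_C]
      have h4 : p (MvPolynomial.C r) = f.appTop.hom r := by
        rw [MvPolynomial.algHom_C]; rfl
      change πi.appTop.hom (ψ₀ (MvPolynomial.C r)) = a.appTop.hom (p (MvPolynomial.C r))
      rw [h3, h4]
      exact h2
    · intro k
      have h3 : ψ₀ (MvPolynomial.X k) = y k := by
        simp only [ψ₀, MvPolynomial.coe_eval₂Hom, MvPolynomial.eval₂_X]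
      change πi.appTop.hom (ψ₀ (MvPolynomial.X k)) = a.appTop.hom (p (MvPolynomial.X k))
      rw [h3]
      exact hy k
  have hkey : ∀ q, πi.appTop.hom (ψ₀ q) = a.appTop.hom (p q) :=
    fun q ↦ RingHom.congr_fun hkey' q
  have hker : RingHom.ker p.toRingHom ≤ RingHom.ker ψ₀ := by
    intro q hq
    rw [RingHom.mem_ker] at hq ⊢
    apply hinj i
    rw [map_zero]
    have h5 : p q = 0 := hq
    have h6 := hkey q
    rw [h5, map_zero] at h6
    exact h6
  have hp' : Function.Surjective p.toRingHom := hp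
  let ψ : Γ(X, ⊤) →+* Γ(D.obj i, ⊤) := RingHom.liftOfSurjective p.toRingHom hp' ⟨ψ₀, hker⟩
  have hψ : ∀ q, ψ (p q) = ψ₀ q :=
    fun q ↦ RingHom.liftOfRightInverse_comp_apply _ _ _ ⟨ψ₀, hker⟩ q
  let ψ' : Γ(X, ⊤) ⟶ Γ(D.obj i, ⊤) := CommRingCat.ofHom ψ
  have hψφ : f.appTop ≫ ψ' = ti.appTop := by
    apply CommRingCat.hom_ext
    apply RingHom.ext
    intro r
    have h3 : ψ₀ (MvPolynomial.C r) = ti.appTop.hom r := by
      simp only [ψ₀, MvPolynomial.coe_eval₂Hom, MvPolynomial.eval₂_C]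
    have h4 : p (MvPolynomial.C r) = f.appTop.hom r := by
      rw [MvPolynomial.algHom_C]; rfl
    change ψ (f.appTop.hom r) = ti.appTop.hom r
    rw [← h4, hψ, h3]
  have hψα : ψ' ≫ πi.appTop = a.appTop := by
    apply CommRingCat.hom_ext
    apply RingHom.ext
    intro b
    obtain ⟨q, rfl⟩ := hp b
    change πi.appTop.hom (ψ (p q)) = a.appTop.hom (p q)
    rw [hψ q]
    exact hkey q
  refine ⟨i, (D.obj i).toSpecΓ ≫ Spec.map ψ' ≫ X.isoSpec.inv, ?_, ?_⟩
  · change πi ≫ (D.obj i).toSpecΓ ≫ Spec.map ψ' ≫ X.isoSpec.inv = a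
    rw [Scheme.toSpecΓ_naturality_assoc, ← Spec.map_comp_assoc, hψα,
      ← Scheme.toSpecΓ_naturality_assoc, Scheme.toSpecΓ_isoSpec_inv, Category.comp_id]
  · change ((D.obj i).toSpecΓ ≫ Spec.map ψ' ≫ X.isoSpec.inv) ≫ f = ti
    rw [Category.assoc, Category.assoc, ← Scheme.isoSpec_inv_naturality, ← Spec.map_comp_assoc,
      hψφ, ← Scheme.toSpecΓ_naturality_assoc, Scheme.toSpecΓ_isoSpec_inv, Category.comp_id]

set_option backward.defeqAttrib.useBackward true in
set_option backward.isDefEq.respectTransparency false in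
open TopologicalSpace in
/-- Given a cofiltered diagram of reduced qcqs schemes `Dᵢ` over `S` with affine transition maps
and dominant projections `lim Dᵢ ⟶ Dᵢ`.  If `X` is locally of finite type over `S`, then any
`S`-morphism `lim Dᵢ ⟶ X` factors through some `Dⱼ`. -/
lemma exists_π_app_comp_eq_of_locallyOfFiniteType_of_isDominant
    {I : Type u} [Category.{u} I] {S X : Scheme.{u}} (D : I ⥤ Scheme.{u})
    (t : D ⟶ (Functor.const I).obj S) (f : X ⟶ S) (c : Cone D) (hc : IsLimit c)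
    [IsCofiltered I] [LocallyOfFiniteType f]
    [∀ {i j} (f : i ⟶ j), IsAffineHom (D.map f)]
    [∀ i, CompactSpace (D.obj i)] [∀ i, QuasiSeparatedSpace (D.obj i)]
    [∀ i, IsReduced (D.obj i)] [∀ i, IsDominant (c.π.app i)]
    (a : c.pt ⟶ X) (ha : c.π ≫ t = (Functor.const _).map (a ≫ f)) :
    ∃ (i : I) (g : D.obj i ⟶ X), c.π.app i ≫ g = a ∧ g ≫ f = t.app i := by
  -- The open cover of `c := lim Dᵢ` indexed by triplets of affine opens `(U, V, W)` with
  -- `U ⊆ c`, `V ⊆ X`, `W ⊆ S` such that `U` maps to `V` maps to `W`.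
  have 𝒰 := (c.pt.isBasis_affineOpens).isOpenCover_mem_and_le
    (((X.isBasis_affineOpens).isOpenCover_mem_and_le
    ((S.isBasis_affineOpens).isOpenCover.comap f.base.hom)).comap a.base.hom)
  -- By qcqs, this cover descends to some finite affine open cover `𝒱` of `Dᵢ`.
  obtain ⟨i, s, 𝒱, h𝒱, h𝒱𝒰⟩ := Scheme.exists_isOpenCover_and_isAffine D c hc _ 𝒰 fun U ↦ U.2.1
  obtain ⟨i', fi'i, hi'⟩ : ∃ (i' : I) (fi'i : i' ⟶ i),
      ∀ j, D.map fi'i ⁻¹ᵁ 𝒱 j ≤ t.app i' ⁻¹ᵁ j.1.1.2.1.2.1 := by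
    choose k fk hk using fun j ↦ exists_map_preimage_le_map_preimage D c hc (h𝒱𝒰 j).1.isCompact
      (V := t.app i ⁻¹ᵁ j.1.1.2.1.2.1) (by
      rw [← Scheme.Hom.comp_preimage, ← NatTrans.comp_app, ha]
      exact (h𝒱𝒰 j).2.symm.trans_le (j.1.prop.2.trans (a.preimage_mono j.1.1.2.prop.2)))
    obtain ⟨i', fi'i, fi', hfi'⟩ := IsCofiltered.wideCospan fk
    refine ⟨i', fi'i, fun j ↦ ?_⟩
    rw [← hfi', Functor.map_comp, Scheme.Hom.comp_preimage]
    refine (Scheme.Hom.preimage_mono _ (hk _)).trans ?_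
    simp only [← Scheme.Hom.comp_preimage, t.naturality, Functor.const_obj_obj,
      Functor.const_obj_map, Category.comp_id, le_refl]
  -- Using the affine version `exists_π_app_comp_eq_of_locallyOfFinitePresentation_of_isAffine`,
  -- one can now factor `Dⱼ ⁻¹ 𝒱ⱼ ⟶ lim Dᵢ ⟶ X` through some `Dⱼₖ ⁻¹ 𝒱ⱼ` for each `𝒱ⱼ`,
  -- and by finite-ness we may chose a fixed `k` that works for every `j`.
  have : ∃ k, ∃ (fk : k ⟶ i), ∀ j, ∃ (ak : ↑(D.map fk ⁻¹ᵁ 𝒱 j) ⟶ X),
      ak ≫ f = Scheme.Opens.ι _ ≫ t.app k ∧ c.π.app _ ∣_ _ ≫ ak = Scheme.Opens.ι _ ≫ a := by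
    let 𝒱' := (D.map fi'i ⁻¹ᵁ 𝒱 ·)
    have h𝒱'𝒰 (j : s) : c.π.app i' ⁻¹ᵁ 𝒱' j = j.1.1.1 := by
      rw [← Scheme.Hom.comp_preimage, c.w fi'i]; exact (h𝒱𝒰 j).2.symm
    have _ (j k) : IsAffine ((opensDiagram D i' (𝒱' j)).obj k) := ((h𝒱𝒰 _).1.preimage _).preimage _
    let t𝒱 (j : _) : opensDiagram D i' (𝒱' j) ⟶ (Functor.const (Over i')).obj j.1.1.2.1.2 :=
    { app k := (t.app k.left).resLE _ _ <| by
        refine (Scheme.Hom.preimage_mono _ (hi' _)).trans ?_
        simp only [Functor.const_obj_obj, ← Scheme.Hom.comp_preimage, t.naturality,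
          Functor.const_obj_map, Category.comp_id, le_refl]
      naturality {k₁ k₂} f₁₂ := by simp [Scheme.Hom.resLE_comp_resLE] }
    have (j : s) : IsAffine j.1.1.2.1.1 := j.1.1.2.prop.1
    have hinj (j : s) (k : Over i') :
        Function.Injective ((opensCone D c i' (𝒱' j)).π.app k).appTop.hom := by
      refine injective_resLE_appTop (c.π.app k.left) (D.map k.hom ⁻¹ᵁ 𝒱' j)
        (c.π.app i' ⁻¹ᵁ 𝒱' j) ?_ _
        (app_injective_of_isDominant (c.π.app k.left) (D.map k.hom ⁻¹ᵁ 𝒱' j))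
      calc c.π.app i' ⁻¹ᵁ 𝒱' j = (c.π.app k.left ≫ D.map k.hom) ⁻¹ᵁ 𝒱' j := by rw [c.w]
        _ = _ := Scheme.Hom.comp_preimage _ _ _
    choose k ak hk hk' using fun j ↦ exists_π_app_comp_eq_of_isAffine_of_injective
      _ (t𝒱 j) (f.resLE _ _ j.1.1.2.prop.2) _ (isLimitOpensCone D c hc i' (𝒱' j)) (hinj j)
      (a.resLE _ _ ((h𝒱'𝒰 _).trans_le j.1.prop.2)) (by
      ext k
      simp [t𝒱, Scheme.Hom.resLE_comp_resLE, show c.π.app k.left ≫ t.app k.left = a ≫ f from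
        congr(($ha).app k.left)])
    obtain ⟨i'', fi''i', fi'', hi''⟩ := IsCofiltered.wideCospan fun j ↦ (k j).hom
    refine ⟨i'', fi''i' ≫ fi'i, fun j ↦
      ⟨Scheme.homOfLE _ ?_ ≫ D.map (fi'' _) ∣_ _ ≫ ak j ≫ Scheme.Opens.ι _, ?_, ?_⟩⟩
    · simp only [← Scheme.Hom.comp_preimage, ← Functor.map_comp, 𝒱', reassoc_of% hi'']; rfl
    · have : ak j ≫ Scheme.Opens.ι _ ≫ f = Scheme.Opens.ι _ ≫ t.app (k j).left := by
        simpa [t𝒱] using! congr($(hk' j) ≫ Scheme.Opens.ι _)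
      simp [this]
    · have e : c.π.app i'' ⁻¹ᵁ D.map (fi''i' ≫ fi'i) ⁻¹ᵁ 𝒱 j ≤ c.π.app i' ⁻¹ᵁ 𝒱' j := by
        simp only [← Scheme.Hom.comp_preimage, Cone.w, 𝒱']; rfl
      simpa [← AlgebraicGeometry.Scheme.Hom.resLE_eq_morphismRestrict,
        Scheme.Hom.resLE_comp_resLE_assoc] using! congr(Scheme.homOfLE _ e ≫ $(hk j) ≫ Scheme.Opens.ι _)
  choose k fki ak hak hak' using this
  -- We may then find an `l` for each `j₁` and `j₂` such that the map `Dⱼ₁ₗ ⁻¹ 𝒱ⱼ₁ ⟶ X` and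
  -- `Dⱼ₂ₗ ⁻¹ 𝒱ⱼ₂ ⟶ X` agrees on the intersection in `Dₗ`.
  -- And again by finiteness we may choose a global `l`.
  obtain ⟨l, flk, hl⟩ : ∃ (l : I) (flk : l ⟶ k), ∀ j₁ j₂, Scheme.homOfLE _ inf_le_left ≫
      D.map flk ∣_ _ ≫ ak j₁ = Scheme.homOfLE _ inf_le_right ≫ D.map flk ∣_ _ ≫ ak j₂ := by
    let 𝒱' := (D.map fki ⁻¹ᵁ 𝒱 ·)
    have (j₁ j₂ : s) : ∃ (l : I) (flk : l ⟶ k), Scheme.homOfLE _ inf_le_left ≫ D.map flk ∣_ _ ≫
        ak j₁ = Scheme.homOfLE _ inf_le_right ≫ D.map flk ∣_ _ ≫ ak j₂ := by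
      have _ (x) : CompactSpace ↥((opensDiagram D k (𝒱' j₁ ⊓ 𝒱' j₂)).obj x) :=
        isCompact_iff_compactSpace.mp (QuasiCompact.isCompact_preimage _ (𝒱' j₁ ⊓ 𝒱' j₂).isOpen
          (((h𝒱𝒰 _).1.preimage _).isCompact.inter_of_isOpen ((h𝒱𝒰 _).1.preimage _).isCompact
            (D.map fki ⁻¹ᵁ 𝒱 j₁).2 (D.map fki ⁻¹ᵁ 𝒱 j₂).2))
      obtain ⟨⟨l, ⟨⟨⟩⟩, flk⟩, ⟨flk', ⟨⟨⟨⟩⟩⟩, h⟩, e⟩ :=
        Scheme.exists_hom_comp_eq_comp_of_locallyOfFiniteType _
          (opensDiagramι .. ≫ (Over.forget k).whiskerLeft t) f _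
          (isLimitOpensCone D c hc k (𝒱' j₁ ⊓ 𝒱' j₂)) (i := .mk (𝟙 k))
          (Scheme.homOfLE _ (by simp [𝒱']) ≫ ak j₁) (Scheme.homOfLE _ (by simp [𝒱']) ≫ ak j₂)
          (by simp [hak]) (by simp [hak]) (by simp; simp [Scheme.Hom.resLE, hak'])
      obtain rfl : flk = flk' := by simpa using! h.symm
      refine ⟨l, flk, by simpa [← Scheme.Hom.resLE_eq_morphismRestrict] using! e⟩
    choose l flk hflk using this
    obtain ⟨l', fl'k, fl'l, hl'⟩ := IsCofiltered.wideCospan (I := s × s) fun x ↦ flk x.1 x.2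
    refine ⟨l', fl'k, fun j₁ j₂ ↦ ?_⟩
    have H : (D.map fl'k ≫ D.map fki) ⁻¹ᵁ (𝒱 j₁ ⊓ 𝒱 j₂) ≤
        (D.map (fl'l (j₁, j₂)) ≫ D.map (flk j₁ j₂) ≫ D.map fki) ⁻¹ᵁ (𝒱 j₁ ⊓ 𝒱 j₂) := by
      simp only [← Functor.map_comp, reassoc_of% hl']; rfl
    simpa [← Scheme.Hom.resLE_eq_morphismRestrict, Scheme.Hom.resLE_comp_resLE_assoc,
      ← Functor.map_comp, hl'] using! congr((D.map (fl'l (j₁, j₂))).resLE _ _ H ≫ $(hflk j₁ j₂))
  -- We may glue the morphisms into `Dₗ ⟶ X` and verify that it indeed satisfies the hypothesis.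
  let h𝒲 := (h𝒱.comap (D.map fki).base.hom).comap (D.map flk).base.hom
  let 𝒲 := Scheme.openCoverOfIsOpenCover _ (D.map flk ⁻¹ᵁ D.map fki ⁻¹ᵁ 𝒱 ·) h𝒲
  let F := 𝒲.glueMorphisms (fun j ↦ D.map flk ∣_ D.map fki ⁻¹ᵁ 𝒱 j ≫ ak j) (fun j₁ j₂ ↦ by
      rw [← cancel_epi (isPullback_opens_inf _ _).isoPullback.hom]
      simpa [𝒲] using! hl j₁ j₂)
  have hF (j : s) : (D.map flk ⁻¹ᵁ D.map fki ⁻¹ᵁ 𝒱 j).ι ≫ F = D.map flk ∣_ _ ≫ ak j :=
    Scheme.Cover.ι_glueMorphisms ..
  refine ⟨l, F, ?_, ?_⟩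
  · refine Scheme.Cover.hom_ext (𝒲.pullback₁ (c.π.app l)) _ _ fun j ↦ ?_
    rw [← cancel_epi (isPullback_morphismRestrict _ _).flip.isoPullback.hom]
    dsimp [𝒲]
    simp only [pullback.condition_assoc, IsPullback.isoPullback_hom_snd_assoc,
      IsPullback.isoPullback_hom_fst_assoc, hF]
    have h : c.π.app l ⁻¹ᵁ D.map flk ⁻¹ᵁ D.map fki ⁻¹ᵁ 𝒱 j ≤ c.π.app k ⁻¹ᵁ D.map fki ⁻¹ᵁ 𝒱 j := by
      simp only [← Scheme.Hom.comp_preimage, c.w_assoc, c.w]; rfl
    simpa [← Scheme.Hom.resLE_eq_morphismRestrict, Scheme.Hom.resLE_comp_resLE_assoc] using!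
      congr(Scheme.homOfLE _ h ≫ $(hak' j))
  · refine 𝒲.hom_ext _ _ fun j ↦ ?_
    simp [F, Scheme.Cover.ι_glueMorphisms_assoc, hak]; rfl

/-- The application: a directed union of subalgebras of a domain. -/
theorem factor_through_subalgebra
    {ι : Type u} (A C : Type u) [CommRing A] [CommRing C] [Algebra A C] [IsDomain C]
    (S : ι → Subalgebra A C) (hdir : Directed (· ≤ ·) S) (hcov : ∀ c : C, ∃ i, c ∈ S i)
    (X : Scheme.{u}) (f : X ⟶ Spec (CommRingCat.of A))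
    [LocallyOfFiniteType f]
    (g : Spec (CommRingCat.of C) ⟶ X)
    (hg : g ≫ f = Spec.map (CommRingCat.ofHom (algebraMap A C))) :
    ∃ (i : ι) (g' : Spec (CommRingCat.of (S i)) ⟶ X),
      g' ≫ f = Spec.map (CommRingCat.ofHom (algebraMap A (S i))) ∧
      Spec.map (CommRingCat.ofHom (S i).val.toRingHom) ≫ g' = g := by
  classical
  obtain ⟨i₀, -⟩ := hcov 0
  have : Nonempty ι := ⟨i₀⟩
  letI : Preorder ι := Preorder.lift S
  have : IsDirectedOrder ι :=
    ⟨fun i j ↦ by obtain ⟨k, hik, hjk⟩ := hdir i j; exact ⟨k, hik, hjk⟩⟩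
  have : IsFiltered ι := isFiltered_of_directed_le_nonempty ι
  let F : ι ⥤ CommRingCat.{u} :=
    { obj := fun i ↦ CommRingCat.of (S i)
      map := fun {i j} h ↦ CommRingCat.ofHom (Subalgebra.inclusion (leOfHom h)).toRingHom
      map_id := fun i ↦ by
        apply CommRingCat.hom_ext; apply RingHom.ext; intro x; exact Subtype.ext rfl
      map_comp := fun h₁ h₂ ↦ by
        apply CommRingCat.hom_ext; apply RingHom.ext; intro x; exact Subtype.ext rfl }
  let c' : Cocone F :=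
    { pt := CommRingCat.of C
      ι :=
        { app := fun i ↦ CommRingCat.ofHom (S i).val.toRingHom
          naturality := fun i j h ↦ by
            apply CommRingCat.hom_ext; apply RingHom.ext; intro x; rfl } }
  have hc' : IsColimit c' := by
    haveI : PreservesColimitsOfShape ι (forget CommRingCat.{u}) :=
      PreservesFilteredColimitsOfSize.preserves_filtered_colimits ι
    haveI : ReflectsColimit F (forget CommRingCat.{u}) :=
      reflectsColimit_of_reflectsIsomorphisms _ _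
    refine isColimitOfReflects (forget CommRingCat.{u}) ?_
    refine Types.FilteredColimit.isColimitOf _ _ ?_ ?_
    · intro x
      obtain ⟨i, hi⟩ := hcov x
      exact ⟨i, ⟨x, hi⟩, rfl⟩
    · intro i j xi xj h
      obtain ⟨k, hik, hjk⟩ := hdir i j
      refine ⟨k, homOfLE hik, homOfLE hjk, ?_⟩
      apply Subtype.ext
      exact h
  let D : ιᵒᵖ ⥤ Scheme.{u} := F.op ⋙ Scheme.Spec
  let c : Cone D := Scheme.Spec.mapCone c'.op
  have hc : IsLimit c := isLimitOfPreserves Scheme.Spec hc'.op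
  let t : D ⟶ (Functor.const ιᵒᵖ).obj (Spec (CommRingCat.of A)) :=
    { app := fun i ↦ Spec.map (CommRingCat.ofHom (algebraMap A (S i.unop)))
      naturality := fun i j h ↦ by
        have e : CommRingCat.ofHom (algebraMap A (S j.unop)) ≫ F.map h.unop =
            CommRingCat.ofHom (algebraMap A (S i.unop)) := by
          apply CommRingCat.hom_ext; apply RingHom.ext; intro x; exact Subtype.ext rfl
        change Spec.map (F.map h.unop) ≫ Spec.map (CommRingCat.ofHom (algebraMap A (S j.unop))) =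
          Spec.map (CommRingCat.ofHom (algebraMap A (S i.unop))) ≫ 𝟙 _
        rw [Category.comp_id, ← Spec.map_comp, e] }
  haveI hDaff : ∀ i, IsAffine (D.obj i) := fun i ↦ by
    change IsAffine (Spec (CommRingCat.of (S i.unop))); infer_instance
  haveI : ∀ {i j : ιᵒᵖ} (h : i ⟶ j), IsAffineHom (D.map h) := fun h ↦ inferInstance
  haveI : ∀ i, IsReduced (D.obj i) := fun i ↦ by
    change IsReduced (Spec (CommRingCat.of (S i.unop))); infer_instance
  haveI : ∀ i, IsDominant (c.π.app i) := fun i ↦ by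
    refine ⟨?_⟩
    change DenseRange (PrimeSpectrum.comap (S i.unop).val.toRingHom)
    rw [PrimeSpectrum.denseRange_comap_iff_ker_le_nilRadical]
    intro x hx
    rw [RingHom.mem_ker] at hx
    have h0 : x = 0 := Subtype.ext hx
    rw [h0]
    exact zero_mem _
  have ha : c.π ≫ t = (Functor.const _).map (g ≫ f) := by
    ext i : 2
    have e : CommRingCat.ofHom (algebraMap A (S i.unop)) ≫ c'.ι.app i.unop =
        CommRingCat.ofHom (algebraMap A C) := by
      apply CommRingCat.hom_ext; apply RingHom.ext; intro x; rfl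
    change Spec.map (c'.ι.app i.unop) ≫ Spec.map (CommRingCat.ofHom (algebraMap A (S i.unop))) =
      g ≫ f
    rw [hg, ← Spec.map_comp, e]
  obtain ⟨i, g', h1, h2⟩ :=
    exists_π_app_comp_eq_of_locallyOfFiniteType_of_isDominant D t f c hc g ha
  exact ⟨i.unop, g', h2, h1⟩

end Groth.Agent.Helper22.LimFT
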