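import Groth.Agent.Lib.Helper22.StabOpen5
import Groth.Agent.Lib.Helper6.CartierRed

/-!
# A `G`-linearisation of the trivial line bundle is given by a character (helper22)
-/

set_option autoImplicit false
set_option maxHeartbeats 400000

namespace Groth.Agent.Helper22.LinTriv

open TensorProduct Groth.Agent.Helper29.GLinOrbit Groth.Agent.Helper18.OrbitDim
open Groth.Agent.Helper22.StabOpen

universe u

section gen

theorem idem_zero_or_one {B : Type*} [CommRing B] [ConnectedSpace (PrimeSpectrum B)] (a : B)
    (h : a * a = a) : a = 0 ∨ a = 1 := by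
  have hidem : IsIdempotentElem a := h
  have hclopen : IsClopen ((PrimeSpectrum.basicOpen a : TopologicalSpace.Opens (PrimeSpectrum B)) :
      Set (PrimeSpectrum B)) := PrimeSpectrum.isClopen_iff.mpr ⟨a, hidem, rfl⟩
  rcases isClopen_iff.mp hclopen with h0 | h1
  · left
    apply PrimeSpectrum.basicOpen_injOn_isIdempotentElem hidem (IsIdempotentElem.zero)
    apply TopologicalSpace.Opens.ext
    rw [h0, PrimeSpectrum.basicOpen_zero]
    rfl
  · right
    apply PrimeSpectrum.basicOpen_injOn_isIdempotentElem hidem (IsIdempotentElem.one)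
    apply TopologicalSpace.Opens.ext
    rw [h1, PrimeSpectrum.basicOpen_one]
    rfl

variable {k : Type u} [Field k]

/-- a nowhere vanishing function is a unit -/
theorem isUnit_of_forall_point {B : Type u} [CommRing B] [Algebra k B] [IsAlgClosed k]
    [Algebra.FiniteType k B] (b : B) (h : ∀ z : B →ₐ[k] k, z b ≠ 0) : IsUnit b := by
  by_contra hb
  have hne : Ideal.span {b} ≠ ⊤ := by
    rwa [Ne, Ideal.span_singleton_eq_top]
  obtain ⟨z, hz⟩ := exists_point_of_ne_top' (k := k) (Ideal.span {b}) hne
  exact h z (RingHom.mem_ker.1 (hz (Ideal.mem_span_singleton_self b)))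

/-- a functional separating a group-like element from all the others -/
theorem exists_sep {A : Type u} [CommRing A] [HopfAlgebra k A] (χ : A)
    (hχ : IsGroupLikeElem k χ) :
    ∃ ℓ : A →ₗ[k] k, ℓ χ = 1 ∧ ∀ a, IsGroupLikeElem k a → a ≠ χ → ℓ a = 0 := by
  classical
  have hli : LinearIndepOn k id {a : A | IsGroupLikeElem k a} := linearIndepOn_isGroupLikeElem
  have hsub := Module.Basis.subset_extend hli
  obtain ⟨i, hi⟩ : ∃ i, (Module.Basis.extend hli) i = χ :=
    ⟨⟨χ, hsub hχ⟩, Module.Basis.extend_apply_self hli _⟩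
  refine ⟨(Module.Basis.extend hli).coord i, ?_, ?_⟩
  · rw [← hi, Module.Basis.coord_apply, Module.Basis.repr_self, Finsupp.single_apply, if_pos rfl]
  · intro a ha hne
    obtain ⟨j, hj⟩ : ∃ j, (Module.Basis.extend hli) j = a :=
      ⟨⟨a, hsub ha⟩, Module.Basis.extend_apply_self hli _⟩
    have hji : ¬ j = i := fun e => hne (by rw [← hj, e, hi])
    rw [← hj, Module.Basis.coord_apply, Module.Basis.repr_self, Finsupp.single_apply, if_neg hji]

end gen

section pts

variable {k : Type u} [Field k] {A : Type u} [CommRing A] [HopfAlgebra k A]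
variable {R : Type u} [CommRing R] [Algebra k R] [HopfRep.Comod k A R] [GLin.IsCoactAlg k A R]

/-- evaluation at a point as an algebra map -/
noncomputable def EA (x : R →ₐ[k] k) : R ⊗[k] A →ₐ[k] A :=
  (Algebra.TensorProduct.lid k A).toAlgHom.comp (Algebra.TensorProduct.map x (AlgHom.id k A))

theorem evalL_eq_EA (x : R →ₐ[k] k) (t : R ⊗[k] A) : evalL x A t = EA x t := by
  induction t using TensorProduct.induction_on with
  | zero => simp
  | tmul r a => simp [EA]
  | add t s ht hs => simp only [map_add, ht, hs]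

theorem evalL_mul (x : R →ₐ[k] k) (s t : R ⊗[k] A) :
    evalL x A (s * t) = evalL x A s * evalL x A t := by
  rw [evalL_eq_EA, evalL_eq_EA, evalL_eq_EA, map_mul]

/-- the functional `g ⊗ h` on `A ⊗ A` -/
noncomputable def GH (g h : A →ₐ[k] k) : A ⊗[k] A →ₐ[k] k :=
  (Algebra.TensorProduct.lmul' k).comp (Algebra.TensorProduct.map g h)

theorem GH_tmul (g h : A →ₐ[k] k) (a b : A) : GH g h (a ⊗ₜ[k] b) = g a * h b := by
  simp [GH]

theorem key (θ : R ⊗[k] A) (x : R →ₐ[k] k) (g h : A →ₐ[k] k) (t : R ⊗[k] A) :
    GH g h ((((evalL x A) ∘ₗ (LinearMap.mulRight k θ) ∘ₗ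
      HopfRep.Comod.coact (k := k) (A := A) (V := R)).rTensor A) t) =
      g (evalL x A θ) * h (evalL (GLin.actPt k g x) A t) := by
  induction t using TensorProduct.induction_on with
  | zero => simp
  | tmul r a =>
    rw [LinearMap.rTensor_tmul, GH_tmul, LinearMap.comp_apply, LinearMap.comp_apply,
      LinearMap.mulRight_apply, evalL_mul, ← orbitHom_apply, map_mul, evalL_tmul, map_smul,
      smul_eq_mul]
    show g (GLin.orbitHom k A x r) * g (evalL x A θ) * h a =
      g (evalL x A θ) * (g (GLin.orbitHom k A x r) * h a)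
    ring
  | add t s ht hs => simp only [map_add, ht, hs, mul_add]

theorem cocycle_pt (θ : R ⊗[k] A)
    (h1 : (TensorProduct.assoc k R A A) ((((LinearMap.mulRight k θ) ∘ₗ
      HopfRep.Comod.coact (k := k) (A := A) (V := R)).rTensor A) θ) =
      (CoalgebraStruct.comul (R := k) (A := A)).lTensor R θ)
    (x : R →ₐ[k] k) (g h : A →ₐ[k] k) :
    GH g h (CoalgebraStruct.comul (R := k) (evalL x A θ)) =
      g (evalL x A θ) * h (evalL (GLin.actPt k g x) A θ) := by
  have e : (evalL x A).rTensor A ((((LinearMap.mulRight k θ) ∘ₗ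
      HopfRep.Comod.coact (k := k) (A := A) (V := R)).rTensor A) θ) =
      (((evalL x A) ∘ₗ (LinearMap.mulRight k θ) ∘ₗ
        HopfRep.Comod.coact (k := k) (A := A) (V := R)).rTensor A) θ := by
    exact (LinearMap.congr_fun (LinearMap.rTensor_comp A (evalL x A)
      ((LinearMap.mulRight k θ) ∘ₗ HopfRep.Comod.coact (k := k) (A := A) (V := R))) θ).symm
  rw [comul_evalL, ← h1, ← evalL_rTensor, e]
  exact key θ x g h θ

theorem GH_antipode (g : A →ₐ[k] k) (s : A ⊗[k] A) :
    GH g (g.comp (HopfAlgebra.antipodeAlgHom k A)) s =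
      g (LinearMap.mul' k A ((HopfAlgebraStruct.antipode k).lTensor A s)) := by
  induction s using TensorProduct.induction_on with
  | zero => simp
  | tmul a b =>
    rw [GH_tmul, AlgHom.comp_apply, LinearMap.lTensor_tmul, LinearMap.mul'_apply, map_mul]
    rfl
  | add s t hs ht => simp only [map_add, hs, ht]

theorem counit_evalL_one (θ : R ⊗[k] A)
    (h2 : (CoalgebraStruct.counit (R := k) (A := A)).lTensor R θ = (1 : R) ⊗ₜ[k] (1 : k))
    (x : R →ₐ[k] k) : CoalgebraStruct.counit (R := k) (evalL x A θ) = 1 := by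
  rw [counit_evalL, h2, evalL_tmul, map_one, one_smul]

theorem apply_ne_zero (θ : R ⊗[k] A)
    (h1 : (TensorProduct.assoc k R A A) ((((LinearMap.mulRight k θ) ∘ₗ
      HopfRep.Comod.coact (k := k) (A := A) (V := R)).rTensor A) θ) =
      (CoalgebraStruct.comul (R := k) (A := A)).lTensor R θ)
    (h2 : (CoalgebraStruct.counit (R := k) (A := A)).lTensor R θ = (1 : R) ⊗ₜ[k] (1 : k))
    (x : R →ₐ[k] k) (g : A →ₐ[k] k) : g (evalL x A θ) ≠ 0 := by
  intro h0
  have hc := counit_evalL_one θ h2 x
  have := cocycle_pt θ h1 x g (g.comp (HopfAlgebra.antipodeAlgHom k A))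
  rw [GH_antipode, HopfAlgebra.mul_antipode_lTensor_comul_apply, h0, zero_mul, AlgHom.commutes,
    hc] at this
  simp at this

end pts

section main

variable {k : Type u} [Field k] {A : Type u} [CommRing A] [HopfAlgebra k A]
variable {R : Type u} [CommRing R] [Algebra k R] [HopfRep.Comod k A R] [GLin.IsCoactAlg k A R]

/-- A `G`-linearisation of the trivial line bundle on a connected reduced affine `G`-variety is
given by a character, provided either the units of `G` are scalar multiples of characters or the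
units of `X` are constant. -/
theorem main [IsAlgClosed k] [CharZero k] [Algebra.FiniteType k A] [IsReduced R]
    [Algebra.FiniteType k R] [ConnectedSpace (PrimeSpectrum R)]
    (θ : R ⊗[k] A)
    (hassoc : (TensorProduct.assoc k R A A).toLinearMap ∘ₗ
        ((LinearMap.mulRight k θ) ∘ₗ HopfRep.Comod.coact (k := k) (A := A) (V := R)).rTensor A ∘ₗ
          ((LinearMap.mulRight k θ) ∘ₗ HopfRep.Comod.coact (k := k) (A := A) (V := R)) =
      (CoalgebraStruct.comul (R := k) (A := A)).lTensor R ∘ₗ
        ((LinearMap.mulRight k θ) ∘ₗ HopfRep.Comod.coact (k := k) (A := A) (V := R)))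
    (hcounit : (CoalgebraStruct.counit (R := k) (A := A)).lTensor R ∘ₗ
        ((LinearMap.mulRight k θ) ∘ₗ HopfRep.Comod.coact (k := k) (A := A) (V := R)) =
      (TensorProduct.mk k R k).flip 1)
    (h : (∀ u : Aˣ, ∃ (c : k) (χ : A), IsGroupLikeElem k χ ∧ (u : A) = c • χ) ∨
      (∀ u : Rˣ, (u : R) ∈ Set.range (algebraMap k R))) :
    ∃ χ : A, IsGroupLikeElem k χ ∧ θ = (1 : R) ⊗ₜ[k] χ := by
  have h1 : (TensorProduct.assoc k R A A) ((((LinearMap.mulRight k θ) ∘ₗ
      HopfRep.Comod.coact (k := k) (A := A) (V := R)).rTensor A) θ) =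
      (CoalgebraStruct.comul (R := k) (A := A)).lTensor R θ := by
    have := LinearMap.congr_fun hassoc 1
    simpa only [LinearMap.comp_apply, LinearMap.mulRight_apply,
      GLin.IsCoactAlg.coact_one (k := k) (A := A) (R := R), one_mul, LinearEquiv.coe_coe]
      using this
  have h2 : (CoalgebraStruct.counit (R := k) (A := A)).lTensor R θ = (1 : R) ⊗ₜ[k] (1 : k) := by
    have := LinearMap.congr_fun hcounit 1
    simpa only [LinearMap.comp_apply, LinearMap.mulRight_apply,
      GLin.IsCoactAlg.coact_one (k := k) (A := A) (R := R), one_mul, LinearMap.flip_apply,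
      TensorProduct.mk_apply] using this
  obtain ⟨p⟩ := (inferInstance : Nonempty (PrimeSpectrum R))
  obtain ⟨x₀, -⟩ := exists_point_of_ne_top' (k := k) p.asIdeal p.2.ne_top
  obtain ⟨χ, hχ⟩ : ∃ χ : A, χ = evalL x₀ A θ := ⟨_, rfl⟩
  have hne : ∀ (x : R →ₐ[k] k) (g : A →ₐ[k] k), g (evalL x A θ) ≠ 0 :=
    fun x g => apply_ne_zero θ h1 h2 x g
  haveI : IsReduced A := Groth.Agent.Lib.Helper6.CartierRed.isReduced k A
  have hcon : ∀ x : R →ₐ[k] k, evalL x A θ = χ := by
    rcases h with hA | hR
    · have hgl : ∀ x : R →ₐ[k] k, IsGroupLikeElem k (evalL x A θ) := by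
        intro x
        have hu : IsUnit (evalL x A θ) :=
          isUnit_of_forall_point (k := k) _ (fun g => hne x g)
        obtain ⟨c, χ', hχ', hc⟩ := hA hu.unit
        rw [IsUnit.unit_spec] at hc
        have hε := counit_evalL_one θ h2 x
        rw [hc, map_smul, hχ'.counit_eq_one, smul_eq_mul, mul_one] at hε
        rw [hc, hε, one_smul]
        exact hχ'
      have hglχ : IsGroupLikeElem k χ := by rw [hχ]; exact hgl x₀
      obtain ⟨ℓ, hℓ1, hℓ0⟩ := exists_sep (k := k) χ hglχ
      obtain ⟨u, hu⟩ : ∃ u : R, u = Groth.Agent.Helper12.slice ℓ θ := ⟨_, rfl⟩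
      have hxu : ∀ x : R →ₐ[k] k, x u = 1 ∨ x u = 0 := by
        intro x
        rw [hu, apply_slice]
        by_cases hx : evalL x A θ = χ
        · left
          rw [hx, hℓ1]
        · right
          exact hℓ0 _ (hgl x) hx
      have hidem : u * u = u := by
        rw [← sub_eq_zero]
        apply (isNilpotent_of_forall_point' (k := k) _ ?_).eq_zero
        intro x
        rw [map_sub, map_mul]
        rcases hxu x with e | e <;> rw [e] <;> simp
      rcases idem_zero_or_one u hidem with e0 | e1
      · exfalso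
        have : x₀ u = 1 := by
          rw [hu, apply_slice, ← hχ]
          exact hℓ1
        rw [e0, map_zero] at this
        exact zero_ne_one this
      · intro x
        by_contra hx
        have : x u = 0 := by
          rw [hu, apply_slice]
          exact hℓ0 _ (hgl x) hx
        rw [e1, map_one] at this
        exact one_ne_zero this
    · intro x
      have hsc : ∀ g : A →ₐ[k] k, g (evalL x A θ) = g χ := by
        intro g
        have hu : IsUnit (slA g θ) :=
          isUnit_of_forall_point (k := k) _ (fun z => by rw [apply_slA]; exact hne z g)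
        obtain ⟨c, hc⟩ := hR hu.unit
        rw [IsUnit.unit_spec] at hc
        have e1 : g (evalL x A θ) = c := by
          rw [← apply_slA, ← hc, AlgHom.commutes]
          rfl
        have e2 : g χ = c := by
          rw [hχ, ← apply_slA, ← hc, AlgHom.commutes]
          rfl
        rw [e1, e2]
      rw [← sub_eq_zero]
      apply (isNilpotent_of_forall_point' (k := k) _ ?_).eq_zero
      intro g
      rw [map_sub, hsc g, sub_self]
  have hθ : θ = (1 : R) ⊗ₜ[k] χ := by
    rw [← sub_eq_zero]
    apply eq_zero_of_slice_eq_zero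
    intro l
    apply (isNilpotent_of_forall_point' (k := k) _ ?_).eq_zero
    intro x
    rw [apply_slice, map_sub, evalL_tmul, map_one, one_smul, hcon x, sub_self, map_zero]
  refine ⟨χ, ⟨?_, ?_⟩, hθ⟩
  · rw [hχ]
    exact counit_evalL_one θ h2 x₀
  · rw [hθ] at h1
    simp only [LinearMap.rTensor_tmul, LinearMap.comp_apply,
      GLin.IsCoactAlg.coact_one (k := k) (A := A) (R := R), LinearMap.mulRight_apply, one_mul,
      TensorProduct.assoc_tmul, LinearMap.lTensor_tmul] at h1
    have := congrArg (evalL x₀ (A ⊗[k] A)) h1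
    rw [evalL_tmul, evalL_tmul, map_one, one_smul, one_smul] at this
    exact this.symm

end main

end Groth.Agent.Helper22.LinTriv
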