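import Mathlib

/-!
# Cauchy–Binet formula
-/

set_option autoImplicit false
namespace Groth.Agent.Helper22.MT

open Matrix Finset Equiv

variable {m E R : Type*} [Fintype m] [DecidableEq m] [Fintype E] [DecidableEq E] [CommRing R]

theorem det_mul_eq_sum_fun (A : Matrix m E R) (B : Matrix E m R) :
    (A * B).det = ∑ f : m → E, (A.submatrix id f).det * ∏ i, B (f i) i := by
  calc (A * B).det
      = ∑ p : m → E, ∑ σ : Perm m, ((Perm.sign σ : ℤ) : R) * ∏ i, A (σ i) (p i) * B (p i) i := by
        simp only [det_apply', mul_apply, prod_univ_sum, mul_sum, Fintype.piFinset_univ]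
        rw [Finset.sum_comm]
    _ = _ := by
        refine Finset.sum_congr rfl fun p _ => ?_
        rw [det_apply', Finset.sum_mul]
        refine Finset.sum_congr rfl fun σ _ => ?_
        rw [Finset.prod_mul_distrib]
        simp only [submatrix_apply, id_eq]
        ring

theorem image_eq (e : ∀ S : {S : Finset E // S.card = Fintype.card m}, m ≃ S.1)
    (S : {S : Finset E // S.card = Fintype.card m}) (τ : Perm m) :
    Finset.univ.image (fun i => (e S (τ i) : E)) = S.1 := by
  ext s
  constructor
  · intro hs
    obtain ⟨i, _, rfl⟩ := Finset.mem_image.mp hs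
    exact (e S (τ i)).2
  · intro hs
    refine Finset.mem_image.mpr ⟨τ.symm ((e S).symm ⟨s, hs⟩), Finset.mem_univ _, ?_⟩
    simp

theorem sum_injective_eq (g : (m → E) → R) (hg : ∀ f, ¬ Function.Injective f → g f = 0)
    (e : ∀ S : {S : Finset E // S.card = Fintype.card m}, m ≃ S.1) :
    ∑ f : m → E, g f = ∑ S : {S : Finset E // S.card = Fintype.card m},
      ∑ τ : Perm m, g (fun i => (e S (τ i) : E)) := by
  classical
  have h1 : ∑ f : m → E, g f = ∑ f ∈ Finset.univ.filter (fun f : m → E => Function.Injective f), g f := by
    symm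
    apply Finset.sum_filter_of_ne
    intro f _ hf
    by_contra h
    exact hf (hg f h)
  have h2 : ∑ S : {S : Finset E // S.card = Fintype.card m},
      ∑ τ : Perm m, g (fun i => (e S (τ i) : E)) =
      ∑ x : (Σ _ : {S : Finset E // S.card = Fintype.card m}, Perm m),
        g (fun i => (e x.1 (x.2 i) : E)) := by
    rw [← Finset.univ_sigma_univ, Finset.sum_sigma]
  rw [h1, h2]
  symm
  apply Finset.sum_bij (fun x _ => fun i => (e x.1 (x.2 i) : E))
  · intro x _
    rw [Finset.mem_filter]
    refine ⟨Finset.mem_univ _, ?_⟩
    intro i j hij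
    exact x.2.injective ((e x.1).injective (Subtype.ext hij))
  · rintro ⟨S₁, τ₁⟩ _ ⟨S₂, τ₂⟩ _ h
    have hS : S₁ = S₂ := by
      apply Subtype.ext
      rw [← image_eq e S₁ τ₁, ← image_eq e S₂ τ₂]
      exact congrArg (fun f => Finset.univ.image f) h
    subst hS
    have hτ : τ₁ = τ₂ := Equiv.ext fun i =>
      (e S₁).injective (Subtype.ext (congrFun h i))
    rw [hτ]
  · intro f hf
    have hinj : Function.Injective f := (Finset.mem_filter.mp hf).2
    have hcard : (Finset.univ.image f).card = Fintype.card m := by
      rw [Finset.card_image_of_injective _ hinj, Finset.card_univ]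
    let S : {S : Finset E // S.card = Fintype.card m} := ⟨Finset.univ.image f, hcard⟩
    let τf : m → m := fun i => (e S).symm ⟨f i, Finset.mem_image_of_mem f (Finset.mem_univ i)⟩
    have hτinj : Function.Injective τf := by
      intro i j hij
      have := (e S).symm.injective hij
      exact hinj (congrArg Subtype.val this)
    refine ⟨⟨S, Equiv.ofBijective τf (Finite.injective_iff_bijective.mp hτinj)⟩,
      Finset.mem_univ _, ?_⟩
    funext i
    simp [τf]
  · intro x _
    rfl

/-- **Cauchy–Binet formula.** -/
theorem cauchy_binet (A : Matrix m E R) (B : Matrix E m R)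
    (e : ∀ S : {S : Finset E // S.card = Fintype.card m}, m ≃ S.1) :
    (A * B).det = ∑ S : {S : Finset E // S.card = Fintype.card m},
      (A.submatrix id (fun i => (e S i : E))).det *
        (B.submatrix (fun i => (e S i : E)) id).det := by
  rw [det_mul_eq_sum_fun, sum_injective_eq _ _ e]
  · refine Finset.sum_congr rfl fun S _ => ?_
    have h1 : ∀ τ : Perm m, (A.submatrix id (fun i => (e S (τ i) : E))).det =
        ((Perm.sign τ : ℤ) : R) * (A.submatrix id (fun i => (e S i : E))).det := by
      intro τ
      rw [← Matrix.det_permute' τ (A.submatrix id (fun i => (e S i : E)))]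
      rfl
    rw [det_apply' (B.submatrix _ id), Finset.mul_sum]
    refine Finset.sum_congr rfl fun τ _ => ?_
    rw [h1]
    simp only [submatrix_apply, id_eq]
    ring
  · intro f hf
    rw [Function.Injective] at hf
    push_neg at hf
    obtain ⟨i, j, hij, hne⟩ := hf
    rw [Matrix.det_zero_of_column_eq hne (fun k => by simp [submatrix_apply, hij]), zero_mul]

end Groth.Agent.Helper22.MT
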