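import Mathlib
import Groth.Prelude.Def_W4c2conddiscmodels
import Groth.Agent.Lib.Helper22.MT1

/-!
# Incidence matrices of finite multigraphs, connectivity and unimodular minors
-/

set_option autoImplicit false
namespace Groth.Agent.Helper22.MT

open Matrix Finset LabGraph

universe u
variable {V E : Type u} [Fintype V] [Fintype E] [DecidableEq V] [DecidableEq E]

/-- incidence matrix (head minus tail) over a commutative ring. -/
def inc (R : Type*) [CommRing R] (ends : E → V × V) : Matrix V E R :=
  fun v e => (if (ends e).2 = v then 1 else 0) - (if (ends e).1 = v then 1 else 0)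

theorem inc_apply (R : Type*) [CommRing R] (ends : E → V × V) (v : V) (e : E) :
    inc R ends v e = (if (ends e).2 = v then 1 else 0) - (if (ends e).1 = v then 1 else 0) := rfl

theorem inc_col (R : Type*) [CommRing R] (ends : E → V × V) (e : E) :
    (inc R ends).col e = Pi.single (ends e).2 1 - Pi.single (ends e).1 1 := by
  ext u
  show inc R ends u e = _
  rw [inc_apply, Pi.sub_apply, Pi.single_apply, Pi.single_apply]
  congr 1 <;> exact if_congr eq_comm rfl rfl

theorem sum_inc (R : Type*) [CommRing R] (ends : E → V × V) (e : E) :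
    ∑ v, inc R ends v e = 0 := by
  simp only [inc_apply, Finset.sum_sub_distrib, Finset.sum_ite_eq, Finset.mem_univ, if_true,
    sub_self]

theorem sum_mulVec_inc (R : Type*) [CommRing R] (ends : E → V × V) (x : E → R) :
    ∑ v, ((inc R ends).mulVec x) v = 0 := by
  simp only [Matrix.mulVec, dotProduct]
  rw [Finset.sum_comm]
  refine Finset.sum_eq_zero fun e _ => ?_
  rw [← Finset.sum_mul, sum_inc, zero_mul]

theorem adj_symm (ends : E → V × V) {v w : V} (h : Adj ends v w) : Adj ends w v := by
  obtain ⟨e, he⟩ := h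
  exact ⟨e, he.symm⟩

theorem adj_ends (ends : E → V × V) (e : E) : Adj ends (ends e).1 (ends e).2 :=
  ⟨e, Or.inl rfl⟩

theorem rtg_symm (ends : E → V × V) {v w : V} (h : Relation.ReflTransGen (Adj ends) v w) :
    Relation.ReflTransGen (Adj ends) w v := by
  induction h with
  | refl => exact Relation.ReflTransGen.refl
  | tail _ hbc ih => exact Relation.ReflTransGen.head (adj_symm ends hbc) ih

theorem connected_of_reach (ends : E → V × V) (v0 : V)
    (h : ∀ w, Relation.ReflTransGen (Adj ends) v0 w) : Connected ends :=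
  ⟨⟨v0⟩, fun v w => (rtg_symm ends (h v)).trans (h w)⟩

/-- path vectors -/
theorem exists_path_vec (R : Type*) [CommRing R] (ends : E → V × V) {v w : V}
    (h : Relation.ReflTransGen (Adj ends) v w) :
    ∃ γ : E → R, (inc R ends).mulVec γ = Pi.single w 1 - Pi.single v 1 := by
  induction h with
  | refl => exact ⟨0, by simp⟩
  | tail _ hadj ih =>
    obtain ⟨γ, hγ⟩ := ih
    obtain ⟨e, he | he⟩ := hadj
    · refine ⟨γ + Pi.single e 1, ?_⟩
      rw [Matrix.mulVec_add, hγ, Matrix.mulVec_single_one, inc_col, he]
      abel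
    · refine ⟨γ - Pi.single e 1, ?_⟩
      rw [Matrix.mulVec_sub, hγ, Matrix.mulVec_single_one, inc_col, he]
      abel

theorem exists_right_inverse (R : Type*) [CommRing R] (ends : E → V × V) (hc : Connected ends)
    (v0 : V) :
    ∃ P : Matrix E {v // v ≠ v0} R,
      ((inc R ends).submatrix (Subtype.val : {v // v ≠ v0} → V) id) * P = 1 := by
  choose γ hγ using fun v : {v // v ≠ v0} => exists_path_vec R ends (hc.2 v0 v.1)
  refine ⟨fun e v => γ v e, ?_⟩
  ext u v
  rw [Matrix.mul_apply]
  have h1 := congrFun (hγ v) u.1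
  simp only [Matrix.mulVec, dotProduct] at h1
  simp only [submatrix_apply, id_eq]
  rw [h1, Pi.sub_apply, Pi.single_apply, Pi.single_apply, if_neg u.2, sub_zero, Matrix.one_apply]
  exact if_congr (Subtype.ext_iff).symm rfl rfl

theorem isUnit_det_of_connected (R : Type*) [CommRing R] (ends : E → V × V) (hc : Connected ends)
    (v0 : V) (e : {v // v ≠ v0} ≃ E) :
    IsUnit ((inc R ends).submatrix Subtype.val e).det := by
  obtain ⟨P, hP⟩ := exists_right_inverse R ends hc v0
  apply Matrix.isUnit_det_of_right_inverse (B := P.submatrix e id)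
  have h1 : (inc R ends).submatrix Subtype.val e =
      ((inc R ends).submatrix (Subtype.val : {v // v ≠ v0} → V) id).submatrix id e := rfl
  rw [h1, Matrix.submatrix_mul_equiv, hP, Matrix.submatrix_id_id]

theorem det_eq_zero_of_not_connected (ends : E → V × V) (v0 : V) (hnc : ¬ Connected ends)
    (e : {v // v ≠ v0} ≃ E) :
    ((inc ℤ ends).submatrix Subtype.val e).det = 0 := by
  classical
  have hex : ∃ w, ¬ Relation.ReflTransGen (Adj ends) v0 w := by
    by_contra h
    push_neg at h
    exact hnc (connected_of_reach ends v0 h)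
  obtain ⟨w, hw⟩ := hex
  have hw0 : w ≠ v0 := by
    rintro rfl
    exact hw Relation.ReflTransGen.refl
  obtain ⟨x, hx⟩ : ∃ x : V → ℤ, ∀ u, x u = if Relation.ReflTransGen (Adj ends) v0 u then 0 else 1 :=
    ⟨_, fun _ => rfl⟩
  have hx0 : x v0 = 0 := by rw [hx, if_pos Relation.ReflTransGen.refl]
  have hxw : x w = 1 := by rw [hx, if_neg hw]
  have hxe : ∀ e' : E, x (ends e').2 = x (ends e').1 := by
    intro e'
    have h1 : Adj ends (ends e').1 (ends e').2 := adj_ends ends e'
    have h2 : Relation.ReflTransGen (Adj ends) v0 (ends e').1 ↔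
        Relation.ReflTransGen (Adj ends) v0 (ends e').2 :=
      ⟨fun h => h.tail h1, fun h => h.tail (adj_symm ends h1)⟩
    rw [hx, hx]
    exact if_congr h2.symm rfl rfl
  rw [← Matrix.exists_vecMul_eq_zero_iff]
  refine ⟨fun u => x u.1, ?_, ?_⟩
  · intro h
    have h1 := congrFun h ⟨w, hw0⟩
    simp only [Pi.zero_apply] at h1
    rw [hxw] at h1
    exact one_ne_zero h1
  · ext i
    simp only [Matrix.vecMul, dotProduct, submatrix_apply, Pi.zero_apply]
    have h3 : ∑ u : V, x u * inc ℤ ends u (e i) = 0 := by
      simp only [inc_apply, mul_sub, Finset.sum_sub_distrib, mul_ite, mul_one, mul_zero,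
        Finset.sum_ite_eq, Finset.mem_univ, if_true]
      rw [hxe, sub_self]
    rw [Fintype.sum_eq_add_sum_subtype_ne _ v0, hx0, zero_mul, zero_add] at h3
    exact h3

end Groth.Agent.Helper22.MT
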