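import Mathlib
import Groth.Prelude.Def_W4c2conddiscmodels
import Groth.Agent.Lib.Helper22.MT2

/-!
# Trees: connected + (n-1) edges iff connected + no circuit
-/

set_option autoImplicit false
namespace Groth.Agent.Helper22.MT

open Matrix Finset LabGraph

universe u
variable {V E : Type u} [Fintype V] [Fintype E] [DecidableEq V] [DecidableEq E]

theorem exists_circuit_subset (ends : E → V × V) :
    ∀ C : Finset E, C.Nonempty → (∀ v, Even (endCount ends C v)) →
      ∃ C' ⊆ C, IsCircuit ends C' := by
  intro C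
  induction C using Finset.strongInduction with
  | H C ih =>
    intro hne hev
    by_cases h : ∀ C' : Finset E, C' ⊂ C → C'.Nonempty → ∃ v, ¬ Even (endCount ends C' v)
    · exact ⟨C, Finset.Subset.refl _, hne, hev, h⟩
    · push_neg at h
      obtain ⟨C', hC', hne', hev'⟩ := h
      obtain ⟨C'', hsub, hcirc⟩ := ih C' hC' hne' hev'
      exact ⟨C'', hsub.trans hC'.subset, hcirc⟩

theorem inc_zmod2 (ends : E → V × V) (v : V) (e : E) :
    inc (ZMod 2) ends v e =
      (((if (ends e).1 = v then 1 else 0) + (if (ends e).2 = v then 1 else 0) : ℕ) : ZMod 2) := by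
  rw [inc_apply, CharTwo.sub_eq_add]
  push_cast
  rw [add_comm]

theorem inc_mulVec_indicator (ends : E → V × V) (C : Finset E) (v : V) :
    ((inc (ZMod 2) ends).mulVec (fun e => if e ∈ C then 1 else 0)) v =
      (endCount ends C v : ZMod 2) := by
  simp only [Matrix.mulVec, dotProduct, mul_ite, mul_one, mul_zero]
  rw [Finset.sum_ite_mem, Finset.univ_inter, endCount, Nat.cast_sum]
  exact Finset.sum_congr rfl fun e _ => inc_zmod2 ends v e

theorem zmod2_eq_one_of_ne_zero : ∀ a : ZMod 2, a ≠ 0 → a = 1 := by decide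

theorem card_eq_card_subtype_ne_add_one (v0 : V) :
    Fintype.card V = Fintype.card {v // v ≠ v0} + 1 := by
  rw [← Fintype.card_option]
  exact (Fintype.card_congr (Equiv.optionSubtypeNe v0)).symm

/-- connected with `|V| - 1` edges implies no circuit. -/
theorem isForest_of_connected_card (ends : E → V × V) (hc : Connected ends)
    (hcard : Fintype.card E + 1 = Fintype.card V) : DualGr.IsForest ends := by
  classical
  obtain ⟨v0⟩ := hc.1
  have hV := card_eq_card_subtype_ne_add_one v0
  have e : {v // v ≠ v0} ≃ E := Fintype.equivOfCardEq (by omega)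
  intro C hC
  obtain ⟨hne, hev, _⟩ := hC
  obtain ⟨x, hx⟩ : ∃ x : E → ZMod 2, ∀ e', x e' = if e' ∈ C then 1 else 0 := ⟨_, fun _ => rfl⟩
  have hxeq : x = fun e' => if e' ∈ C then 1 else 0 := funext hx
  have h0 : (inc (ZMod 2) ends).mulVec x = 0 := by
    funext v
    rw [hxeq, inc_mulVec_indicator, Pi.zero_apply]
    exact ZMod.natCast_eq_zero_iff_even.mpr (hev v)
  have hu := isUnit_det_of_connected (ZMod 2) ends hc v0 e
  have h1 : ((inc (ZMod 2) ends).submatrix (Subtype.val : {v // v ≠ v0} → V) e).mulVec (x ∘ e) = 0 := by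
    rw [Matrix.submatrix_mulVec_equiv]
    have : (x ∘ ⇑e) ∘ ⇑e.symm = x := by
      funext e'
      simp
    rw [this, h0]
    rfl
  have h2 : x ∘ e = 0 := Matrix.eq_zero_of_mulVec_eq_zero hu.ne_zero h1
  obtain ⟨e', he'⟩ := hne
  have h3 : x e' = 0 := by
    have := congrFun h2 (e.symm e')
    simpa using this
  rw [hx, if_pos he'] at h3
  exact one_ne_zero h3

/-- a tree has `|V| - 1` edges. -/
theorem card_of_isTree (ends : E → V × V) (ht : DualGr.IsTree ends) :
    Fintype.card E + 1 = Fintype.card V := by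
  classical
  obtain ⟨hc, hf⟩ := ht
  obtain ⟨v0⟩ := hc.1
  have hV := card_eq_card_subtype_ne_add_one v0
  have h1 : Fintype.card {v // v ≠ v0} ≤ Fintype.card E := by
    obtain ⟨P, hP⟩ := exists_right_inverse ℚ ends hc v0
    have h := Matrix.rank_mul_le_left
      ((inc ℚ ends).submatrix (Subtype.val : {v // v ≠ v0} → V) id) P
    rw [hP, Matrix.rank_one] at h
    exact h.trans (Matrix.rank_le_card_width _)
  have h2 : Fintype.card E ≤ Fintype.card {v // v ≠ v0} := by
    by_contra hlt
    push_neg at hlt
    have hker : LinearMap.ker (Matrix.mulVecLin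
        ((inc (ZMod 2) ends).submatrix (Subtype.val : {v // v ≠ v0} → V) id)) ≠ ⊥ := by
      apply LinearMap.ker_ne_bot_of_finrank_lt
      rw [Module.finrank_fintype_fun_eq_card, Module.finrank_fintype_fun_eq_card]
      exact hlt
    obtain ⟨x, hx, hx0⟩ := (Submodule.ne_bot_iff _).mp hker
    rw [LinearMap.mem_ker, Matrix.mulVecLin_apply] at hx
    have hxv : ∀ v : V, v ≠ v0 → ((inc (ZMod 2) ends).mulVec x) v = 0 := by
      intro v hv
      exact congrFun hx ⟨v, hv⟩
    have hsum := sum_mulVec_inc (ZMod 2) ends x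
    rw [Fintype.sum_eq_add_sum_subtype_ne _ v0,
      Finset.sum_eq_zero (fun i _ => hxv i.1 i.2), add_zero] at hsum
    have hall : ∀ v : V, ((inc (ZMod 2) ends).mulVec x) v = 0 := by
      intro v
      by_cases hv : v = v0
      · rw [hv]; exact hsum
      · exact hxv v hv
    have hxind : x = fun e' => if e' ∈ Finset.univ.filter (fun e' => x e' ≠ 0) then 1 else 0 := by
      funext e'
      by_cases h : x e' = 0
      · rw [if_neg (by simp [h]), h]
      · rw [if_pos (by simp [h]), zmod2_eq_one_of_ne_zero _ h]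
    have hne : (Finset.univ.filter (fun e' => x e' ≠ 0)).Nonempty := by
      obtain ⟨e', he'⟩ := Function.ne_iff.mp hx0
      exact ⟨e', by simpa using he'⟩
    have hev : ∀ v, Even (endCount ends (Finset.univ.filter (fun e' => x e' ≠ 0)) v) := by
      intro v
      rw [← ZMod.natCast_eq_zero_iff_even, ← inc_mulVec_indicator, ← hxind]
      exact hall v
    obtain ⟨C', _, hC'⟩ := exists_circuit_subset ends _ hne hev
    exact hf C' hC'
  omega

end Groth.Agent.Helper22.MT
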