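import Mathlib
import Groth.Prelude.Def_W4c2conddiscmodels
import Groth.Agent.Lib.Helper22.MT3

/-!
# Spanning trees and the weighted matrix-tree theorem
-/

set_option autoImplicit false
namespace Groth.Agent.Helper22.MT

open Matrix Finset LabGraph

universe u
variable {V E : Type u} [Fintype V] [Fintype E] [DecidableEq V] [DecidableEq E]

theorem card_of_isSpanningTree (ends : E → V × V) (T : Finset E) (hT : IsSpanningTree ends T) :
    T.card + 1 = Fintype.card V := by
  have h := card_of_isTree (fun e : T => ends e.1) hT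
  rwa [Fintype.card_coe] at h

theorem isSpanningTree_of_connected_card (ends : E → V × V) (T : Finset E)
    (hc : Connected (fun e : T => ends e.1)) (hcard : T.card + 1 = Fintype.card V) :
    IsSpanningTree ends T :=
  ⟨hc, isForest_of_connected_card (fun e : T => ends e.1) hc (by rwa [Fintype.card_coe])⟩

theorem no_loop (ends : E → V × V) (T : Finset E) (hT : IsSpanningTree ends T) :
    ∀ e ∈ T, (ends e).1 ≠ (ends e).2 := by
  intro e he hl
  apply hT.2 {⟨e, he⟩}
  refine ⟨Finset.singleton_nonempty _, ?_, ?_⟩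
  · intro v
    rw [endCount, Finset.sum_singleton]
    show Even ((if (ends e).1 = v then 1 else 0) + (if (ends e).2 = v then 1 else 0))
    rw [hl]
    exact ⟨_, rfl⟩
  · intro C' hC' hne
    rw [Finset.ssubset_singleton_iff] at hC'
    rw [hC'] at hne
    exact absurd hne Finset.not_nonempty_empty

theorem no_parallel (ends : E → V × V) (T : Finset E) (hT : IsSpanningTree ends T) :
    ∀ e ∈ T, ∀ e' ∈ T, (ends e = ends e' ∨ ends e = ((ends e').2, (ends e').1)) → e = e' := by
  intro e he e' he' hpar
  by_contra hne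
  have hne' : (⟨e, he⟩ : T) ≠ ⟨e', he'⟩ := fun h => hne (congrArg Subtype.val h)
  apply hT.2 {⟨e, he⟩, ⟨e', he'⟩}
  refine ⟨⟨_, Finset.mem_insert_self _ _⟩, ?_, ?_⟩
  · intro v
    rw [endCount, Finset.sum_pair hne']
    show Even (((if (ends e).1 = v then 1 else 0) + (if (ends e).2 = v then 1 else 0)) +
      ((if (ends e').1 = v then 1 else 0) + (if (ends e').2 = v then 1 else 0)))
    rcases hpar with h | h
    · rw [h]
      exact ⟨_, rfl⟩
    · rw [h]
      refine ⟨(if (ends e').1 = v then 1 else 0) + (if (ends e').2 = v then 1 else 0), ?_⟩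
      ring
  · intro C' hC' hne''
    have hcard : C'.card < 2 := by
      have := Finset.card_lt_card hC'
      rwa [Finset.card_pair hne'] at this
    have hcard1 : C'.card = 1 := by
      have := Finset.card_pos.mpr hne''
      omega
    obtain ⟨a, rfl⟩ := Finset.card_eq_one.mp hcard1
    refine ⟨(ends a.1).1, ?_⟩
    rw [endCount, Finset.sum_singleton]
    show ¬ Even ((if (ends a.1).1 = (ends a.1).1 then 1 else 0) +
      (if (ends a.1).2 = (ends a.1).1 then 1 else 0))
    rw [if_pos rfl, if_neg (fun h => no_loop ends T hT a.1 a.2 h.symm)]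
    decide

theorem endCount_eq_nbrCount (ends : E → V × V) (T : Finset E) (hT : IsSpanningTree ends T)
    (v : V) : endCount ends T v = nbrCount ends T v := by
  classical
  have hloop := no_loop ends T hT
  have hpar := no_parallel ends T hT
  have h1 : endCount ends T v =
      (T.filter (fun e => (ends e).1 = v ∨ (ends e).2 = v)).card := by
    rw [Finset.card_filter, endCount]
    refine Finset.sum_congr rfl fun e he => ?_
    have hl := hloop e he
    by_cases h1 : (ends e).1 = v
    · have h2 : (ends e).2 ≠ v := fun h2 => hl (h1.trans h2.symm)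
      rw [if_pos h1, if_neg h2, if_pos (Or.inl h1)]
    · by_cases h2 : (ends e).2 = v
      · rw [if_neg h1, if_pos h2, if_pos (Or.inr h2)]
      · rw [if_neg h1, if_neg h2, if_neg (not_or.mpr ⟨h1, h2⟩)]
  rw [h1, nbrCount]
  obtain ⟨o, ho⟩ : ∃ o : E → V, ∀ e, o e = if (ends e).1 = v then (ends e).2 else (ends e).1 :=
    ⟨_, fun _ => rfl⟩
  have himg : (Finset.univ.filter fun w : V => w ≠ v ∧ ∃ e ∈ T, ends e = (v, w) ∨ ends e = (w, v)) =
      (T.filter (fun e => (ends e).1 = v ∨ (ends e).2 = v)).image o := by
    ext w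
    simp only [Finset.mem_filter, Finset.mem_univ, true_and, Finset.mem_image]
    constructor
    · rintro ⟨hwv, e, he, h | h⟩
      · refine ⟨e, ⟨he, Or.inl (by rw [h])⟩, ?_⟩
        rw [ho, h, if_pos rfl]
      · refine ⟨e, ⟨he, Or.inr (by rw [h])⟩, ?_⟩
        rw [ho, h, if_neg hwv]
    · rintro ⟨e, ⟨he, h⟩, rfl⟩
      have hl := hloop e he
      by_cases h1 : (ends e).1 = v
      · rw [ho, if_pos h1]
        refine ⟨fun h2 => hl (h1.trans h2.symm), e, he, Or.inl ?_⟩
        rw [← h1]
      · have h2 : (ends e).2 = v := h.resolve_left h1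
        rw [ho, if_neg h1]
        refine ⟨h1, e, he, Or.inr ?_⟩
        rw [← h2]
  rw [himg, Finset.card_image_of_injOn]
  intro e he e' he' hoe
  rw [Finset.mem_coe, Finset.mem_filter] at he he'
  rw [ho, ho] at hoe
  apply hpar e he.1 e' he'.1
  by_cases h1 : (ends e).1 = v
  · by_cases h1' : (ends e').1 = v
    · rw [if_pos h1, if_pos h1'] at hoe
      exact Or.inl (Prod.ext (h1.trans h1'.symm) hoe)
    · rw [if_pos h1, if_neg h1'] at hoe
      have h2' : (ends e').2 = v := he'.2.resolve_left h1'
      exact Or.inr (Prod.ext (h1.trans h2'.symm) hoe)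
  · have h2 : (ends e).2 = v := he.2.resolve_left h1
    by_cases h1' : (ends e').1 = v
    · rw [if_neg h1, if_pos h1'] at hoe
      exact Or.inr (Prod.ext hoe (h2.trans h1'.symm))
    · rw [if_neg h1, if_neg h1'] at hoe
      have h2' : (ends e').2 = v := he'.2.resolve_left h1'
      exact Or.inl (Prod.ext hoe (h2.trans h2'.symm))

theorem prod_ends_eq (ends : E → V × V) {M : Type*} [CommMonoid M] (β : V → M) (T : Finset E) :
    ∏ e ∈ T, (β (ends e).1 * β (ends e).2) = ∏ v, β v ^ endCount ends T v := by
  have h : ∀ v, β v ^ endCount ends T v =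
      ∏ e ∈ T, ((if (ends e).1 = v then β v else 1) * (if (ends e).2 = v then β v else 1)) := by
    intro v
    rw [endCount, ← Finset.prod_pow_eq_pow_sum]
    refine Finset.prod_congr rfl fun e _ => ?_
    rw [pow_add]
    congr 1 <;> split_ifs <;> simp
  rw [Finset.prod_congr rfl (fun v _ => h v), Finset.prod_comm]
  refine Finset.prod_congr rfl fun e _ => ?_
  rw [Finset.prod_mul_distrib, Finset.prod_ite_eq, Finset.prod_ite_eq, if_pos (Finset.mem_univ _),
    if_pos (Finset.mem_univ _)]

theorem det_sq (ends : E → V × V) (v0 : V) (S : Finset E) (e : {v // v ≠ v0} ≃ ↥S)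
    [Decidable (Connected (fun s : ↥S => ends s.1))] :
    (((inc ℤ ends).submatrix (Subtype.val : {v // v ≠ v0} → V) (fun i => (e i : E))).det) ^ 2 =
      if Connected (fun s : ↥S => ends s.1) then 1 else 0 := by
  have hM : (inc ℤ ends).submatrix (Subtype.val : {v // v ≠ v0} → V) (fun i => (e i : E)) =
      (inc ℤ (fun s : ↥S => ends s.1)).submatrix (Subtype.val : {v // v ≠ v0} → V) e := rfl
  rw [hM]
  split_ifs with hc
  · have hu := isUnit_det_of_connected ℤ _ hc v0 e
    rcases Int.isUnit_iff.mp hu with h | h <;> rw [h] <;> norm_num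
  · rw [det_eq_zero_of_not_connected _ v0 hc e]
    norm_num

/-- **Weighted matrix-tree theorem.** -/
theorem matrix_tree (ends : E → V × V) (c : E → ℤ) (v0 : V)
    [DecidablePred fun T : Finset E => IsSpanningTree ends T] :
    ((inc ℤ ends).submatrix (Subtype.val : {v // v ≠ v0} → V) id * Matrix.diagonal c *
        ((inc ℤ ends).submatrix (Subtype.val : {v // v ≠ v0} → V) id)ᵀ).det =
      ∑ T ∈ Finset.univ.filter (fun T : Finset E => IsSpanningTree ends T), ∏ e ∈ T, c e := by
  classical
  have hV := card_eq_card_subtype_ne_add_one v0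
  obtain ⟨e⟩ : Nonempty (∀ S : {S : Finset E // S.card = Fintype.card {v // v ≠ v0}},
      {v // v ≠ v0} ≃ S.1) :=
    ⟨fun S => Fintype.equivOfCardEq (by rw [Fintype.card_coe]; exact S.2.symm)⟩
  rw [cauchy_binet _ _ e]
  have hterm : ∀ S : {S : Finset E // S.card = Fintype.card {v // v ≠ v0}},
      (((inc ℤ ends).submatrix (Subtype.val : {v // v ≠ v0} → V) id * Matrix.diagonal c).submatrix
          id (fun i => (e S i : E))).det *
        ((((inc ℤ ends).submatrix (Subtype.val : {v // v ≠ v0} → V) id)ᵀ).submatrix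
          (fun i => (e S i : E)) id).det =
      if Connected (fun s : ↥S.1 => ends s.1) then ∏ e' ∈ S.1, c e' else 0 := by
    intro S
    have hA : ((inc ℤ ends).submatrix (Subtype.val : {v // v ≠ v0} → V) id *
        Matrix.diagonal c).submatrix id (fun i => (e S i : E)) =
        (inc ℤ ends).submatrix (Subtype.val : {v // v ≠ v0} → V) (fun i => (e S i : E)) *
          Matrix.diagonal (fun i => c (e S i : E)) := by
      ext u i
      rw [Matrix.submatrix_apply, Matrix.mul_diagonal, Matrix.mul_diagonal]
      rfl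
    have hB : (((inc ℤ ends).submatrix (Subtype.val : {v // v ≠ v0} → V) id)ᵀ).submatrix
        (fun i => (e S i : E)) id =
        ((inc ℤ ends).submatrix (Subtype.val : {v // v ≠ v0} → V) (fun i => (e S i : E)))ᵀ := rfl
    have hprod : ∏ i, c (e S i : E) = ∏ e' ∈ S.1, c e' := by
      rw [← Finset.prod_coe_sort S.1 c]
      exact Fintype.prod_equiv (e S) _ _ (fun _ => rfl)
    rw [hA, hB, Matrix.det_mul, Matrix.det_diagonal, Matrix.det_transpose, hprod]
    have hsq := det_sq ends v0 S.1 (e S)
    split_ifs with hc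
    · rw [if_pos hc] at hsq
      calc _ = (((inc ℤ ends).submatrix (Subtype.val : {v // v ≠ v0} → V)
              (fun i => (e S i : E))).det) ^ 2 * ∏ e' ∈ S.1, c e' := by ring
        _ = _ := by rw [hsq, one_mul]
    · rw [if_neg hc] at hsq
      have h0 : ((inc ℤ ends).submatrix (Subtype.val : {v // v ≠ v0} → V)
          (fun i => (e S i : E))).det = 0 := by
        exact pow_eq_zero_iff (two_ne_zero) |>.mp hsq
      rw [h0, zero_mul, zero_mul]
  rw [Finset.sum_congr rfl (fun S _ => hterm S)]
  rw [← Finset.sum_subtype (Finset.univ.filter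
      (fun S : Finset E => S.card = Fintype.card {v // v ≠ v0}))
    (by intro S; simp)
    (fun S : Finset E => if Connected (fun s : ↥S => ends s.1) then ∏ e' ∈ S, c e' else 0)]
  rw [← Finset.sum_filter, Finset.filter_filter]
  refine Finset.sum_congr (Finset.filter_congr fun S _ => ?_) (fun _ _ => rfl)
  constructor
  · rintro ⟨h1, h2⟩
    exact isSpanningTree_of_connected_card ends S h2 (by omega)
  · intro hT
    have := card_of_isSpanningTree ends S hT
    exact ⟨by omega, hT.1⟩

theorem exists_spanningTree (ends : E → V × V) (hc : Connected ends) :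
    ∃ T : Finset E, IsSpanningTree ends T := by
  classical
  obtain ⟨v0⟩ := hc.1
  have hV := card_eq_card_subtype_ne_add_one v0
  obtain ⟨P, hP⟩ := exists_right_inverse ℤ ends hc v0
  obtain ⟨e⟩ : Nonempty (∀ S : {S : Finset E // S.card = Fintype.card {v // v ≠ v0}},
      {v // v ≠ v0} ≃ S.1) :=
    ⟨fun S => Fintype.equivOfCardEq (by rw [Fintype.card_coe]; exact S.2.symm)⟩
  have h := cauchy_binet ((inc ℤ ends).submatrix (Subtype.val : {v // v ≠ v0} → V) id) P e
  rw [hP, Matrix.det_one] at h
  have hne : (∑ S : {S : Finset E // S.card = Fintype.card {v // v ≠ v0}},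
      (((inc ℤ ends).submatrix (Subtype.val : {v // v ≠ v0} → V) id).submatrix id
        (fun i => (e S i : E))).det * (P.submatrix (fun i => (e S i : E)) id).det) ≠ 0 := by
    rw [← h]
    exact one_ne_zero
  obtain ⟨S, _, hS⟩ := Finset.exists_ne_zero_of_sum_ne_zero hne
  have h1 := left_ne_zero_of_mul hS
  have hconn : Connected (fun s : ↥S.1 => ends s.1) := by
    by_contra hnc
    exact h1 (det_eq_zero_of_not_connected _ v0 hnc (e S))
  exact ⟨S.1, isSpanningTree_of_connected_card ends S.1 hconn (by have := S.2; omega)⟩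

end Groth.Agent.Helper22.MT
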