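import Mathlib
import Groth.Agent.Lib.Helper22.MT4

/-!
# Lattice index lemmas for Laplacian-type matrices
-/

set_option autoImplicit false
namespace Groth.Agent.Helper22.MT

open Matrix Finset

theorem card_quot_transport {M M' : Type*} [AddCommGroup M] [AddCommGroup M']
    (φ : M ≃ₗ[ℤ] M') (K R : Submodule ℤ M) (K' R' : Submodule ℤ M')
    (hK : ∀ x, x ∈ K ↔ φ x ∈ K') (hR : ∀ x, x ∈ R ↔ φ x ∈ R') :
    Nat.card (K ⧸ R.comap K.subtype) = Nat.card (K' ⧸ R'.comap K'.subtype) := by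
  have e1 : Nat.card (K ⧸ R.comap K.subtype) =
      R.toAddSubgroup.relIndex K.toAddSubgroup := rfl
  have e2 : Nat.card (K' ⧸ R'.comap K'.subtype) =
      R'.toAddSubgroup.relIndex K'.toAddSubgroup := rfl
  rw [e1, e2]
  have hR' : R.toAddSubgroup = R'.toAddSubgroup.comap φ.toLinearMap.toAddMonoidHom := by
    ext x
    exact hR x
  have hK' : K'.toAddSubgroup = K.toAddSubgroup.map φ.toLinearMap.toAddMonoidHom := by
    ext y
    constructor
    · intro hy
      refine ⟨φ.symm y, (hK _).mpr ?_, ?_⟩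
      · rw [LinearEquiv.apply_symm_apply]; exact hy
      · exact LinearEquiv.apply_symm_apply φ y
    · rintro ⟨x, hx, rfl⟩
      exact (hK x).mp hx
  rw [hR', hK', AddSubgroup.relIndex_comap]

section Lattice

variable {ι : Type*} [Fintype ι] [DecidableEq ι]

/-- extension: coordinates off `i0` given, coordinate at `i0` is minus the sum. -/
noncomputable def extK (i0 : ι) : ({i // i ≠ i0} → ℤ) →ₗ[ℤ] (ι → ℤ) :=
  LinearMap.pi (fun i => if h : i = i0 then -(∑ j : {i // i ≠ i0}, LinearMap.proj j)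
    else LinearMap.proj ⟨i, h⟩)

theorem extK_apply_ne (i0 : ι) (y : {i // i ≠ i0} → ℤ) (i : ι) (h : i ≠ i0) :
    extK i0 y i = y ⟨i, h⟩ := by
  simp [extK, h]

theorem extK_apply_self (i0 : ι) (y : {i // i ≠ i0} → ℤ) :
    extK i0 y i0 = -∑ j, y j := by
  simp [extK, LinearMap.sum_apply]

theorem card_ker_sum_quot (i0 : ι) (L : Matrix ι ι ℤ)
    (hrow : ∀ i, ∑ j, L i j = 0) (hcol : ∀ j, ∑ i, L i j = 0)
    (hdet : (L.submatrix (Subtype.val : {i // i ≠ i0} → ι) Subtype.val).det ≠ 0) :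
    Nat.card (LinearMap.ker (∑ i : ι, (LinearMap.proj i : (ι → ℤ) →ₗ[ℤ] ℤ)) ⧸
      (LinearMap.range (Matrix.mulVecLin L)).comap
        (LinearMap.ker (∑ i : ι, (LinearMap.proj i : (ι → ℤ) →ₗ[ℤ] ℤ))).subtype) =
      (L.submatrix (Subtype.val : {i // i ≠ i0} → ι) Subtype.val).det.natAbs := by
  classical
  obtain ⟨Sl, hSl⟩ : ∃ Sl : (ι → ℤ) →ₗ[ℤ] ℤ, Sl = ∑ i : ι, (LinearMap.proj i : (ι → ℤ) →ₗ[ℤ] ℤ) :=
    ⟨_, rfl⟩
  obtain ⟨Lt, hLt⟩ : ∃ Lt : Matrix {i // i ≠ i0} {i // i ≠ i0} ℤ,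
      Lt = L.submatrix (Subtype.val : {i // i ≠ i0} → ι) Subtype.val := ⟨_, rfl⟩
  rw [← hSl, ← hLt]
  rw [← hLt] at hdet
  have hSl_apply : ∀ x, Sl x = ∑ i, x i := fun x => by simp [hSl, LinearMap.sum_apply]
  have e1 : Nat.card (LinearMap.ker Sl ⧸
      (LinearMap.range (Matrix.mulVecLin L)).comap (LinearMap.ker Sl).subtype) =
      (LinearMap.range (Matrix.mulVecLin L)).toAddSubgroup.relIndex
        (LinearMap.ker Sl).toAddSubgroup := rfl
  rw [e1]
  obtain ⟨ex, hex⟩ : ∃ ex : ({i // i ≠ i0} → ℤ) →+ (ι → ℤ), ∀ y, ex y = extK i0 y :=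
    ⟨(extK i0).toAddMonoidHom, fun _ => rfl⟩
  have hex_ne : ∀ y (j : {i // i ≠ i0}), ex y j.1 = y j := fun y j => by
    rw [hex, extK_apply_ne i0 y j.1 j.2]
  have hex_self : ∀ y, ex y i0 = -∑ j, y j := fun y => by rw [hex, extK_apply_self]
  have hex_inj : Function.Injective ex := by
    intro y y' h
    funext j
    have := congrFun h j.1
    rwa [hex_ne, hex_ne] at this
  have hker_ex : ∀ x : ι → ℤ, Sl x = 0 → ex (fun j => x j.1) = x := by
    intro x hx
    funext i
    by_cases h : i = i0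
    · rw [h, hex_self]
      rw [hSl_apply, Fintype.sum_eq_add_sum_subtype_ne _ i0] at hx
      linarith
    · exact hex_ne _ ⟨i, h⟩
  have hkerS : (LinearMap.ker Sl).toAddSubgroup = (⊤ : AddSubgroup _).map ex := by
    ext x
    simp only [Submodule.mem_toAddSubgroup, LinearMap.mem_ker, AddSubgroup.mem_map,
      AddSubgroup.mem_top, true_and]
    constructor
    · intro hx
      exact ⟨_, hker_ex x hx⟩
    · rintro ⟨y, rfl⟩
      rw [hSl_apply, Fintype.sum_eq_add_sum_subtype_ne _ i0, hex_self,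
        Finset.sum_congr rfl (fun j _ => hex_ne y j)]
      exact neg_add_cancel _
  have hLker : ∀ z, Sl (L.mulVec z) = 0 := by
    intro z
    rw [hSl_apply]
    simp only [Matrix.mulVec, dotProduct]
    rw [Finset.sum_comm]
    refine Finset.sum_eq_zero fun j _ => ?_
    rw [← Finset.sum_mul, hcol, zero_mul]
  have hρL : ∀ z : ι → ℤ, (fun j : {i // i ≠ i0} => (L.mulVec z) j.1) =
      Lt.mulVec (fun j => z j.1 - z i0) := by
    intro z
    funext i
    simp only [Matrix.mulVec, dotProduct, hLt, Matrix.submatrix_apply]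
    rw [Fintype.sum_eq_add_sum_subtype_ne _ i0]
    have h1 : L i.1 i0 = -∑ j : {i // i ≠ i0}, L i.1 j.1 := by
      have := hrow i.1
      rw [Fintype.sum_eq_add_sum_subtype_ne _ i0] at this
      linarith
    rw [h1]
    simp only [mul_sub, Finset.sum_sub_distrib, ← Finset.sum_mul]
    ring
  have hrange : (LinearMap.range (Matrix.mulVecLin L)).toAddSubgroup =
      (LinearMap.range (Matrix.mulVecLin Lt)).toAddSubgroup.map ex := by
    ext x
    simp only [Submodule.mem_toAddSubgroup, LinearMap.mem_range, AddSubgroup.mem_map,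
      Matrix.mulVecLin_apply]
    constructor
    · rintro ⟨z, rfl⟩
      refine ⟨Lt.mulVec (fun j => z j.1 - z i0), ⟨fun j => z j.1 - z i0, rfl⟩, ?_⟩
      rw [← hρL z]
      exact hker_ex _ (hLker z)
    · rintro ⟨_, ⟨z', rfl⟩, rfl⟩
      refine ⟨fun i => if h : i = i0 then 0 else z' ⟨i, h⟩, ?_⟩
      rw [← hker_ex _ (hLker _), hρL]
      congr 2
      funext j
      simp [j.2]
  rw [hkerS, hrange, AddSubgroup.relIndex_map_map_of_injective _ _ hex_inj,
    AddSubgroup.relIndex_top_right]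
  have hinj : Function.Injective (Matrix.mulVecLin Lt) := by
    intro a b hab
    have h0 : Lt.mulVec (a - b) = 0 := by
      rw [Matrix.mulVec_sub]
      exact sub_eq_zero.mpr hab
    exact sub_eq_zero.mp (Matrix.eq_zero_of_mulVec_eq_zero hdet h0)
  have h1 := Submodule.natAbs_det_equiv (LinearMap.range (Matrix.mulVecLin Lt))
    (LinearEquiv.ofInjective (Matrix.mulVecLin Lt) hinj)
  have h2 : (LinearMap.range (Matrix.mulVecLin Lt)).subtype ∘ₗ AddMonoidHom.toIntLinearMap
      ((LinearEquiv.ofInjective (Matrix.mulVecLin Lt) hinj :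
          ({i // i ≠ i0} → ℤ) ≃ₗ[ℤ] LinearMap.range (Matrix.mulVecLin Lt)) :
        ({i // i ≠ i0} → ℤ) →+ LinearMap.range (Matrix.mulVecLin Lt)) =
      Matrix.mulVecLin Lt := by
    apply LinearMap.ext
    intro x
    rfl
  rw [h2, ← Matrix.toLin'_apply', LinearMap.det_toLin'] at h1
  rw [h1]
  rfl

theorem rank_eq_card_sub_one (i0 : ι) (A : Matrix ι ι ℤ) (b : ι → ℤ) (hb : b ≠ 0)
    (hAb : A.mulVec b = 0) (d d' : ι → ℤ) (hd : ∀ i, d i ≠ 0) (hd' : ∀ i, d' i ≠ 0)
    (hdet : ((Matrix.diagonal d * A * Matrix.diagonal d').submatrix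
      (Subtype.val : {i // i ≠ i0} → ι) Subtype.val).det ≠ 0) :
    A.rank = Fintype.card ι - 1 := by
  have hD : (Matrix.diagonal d).det ≠ 0 := by
    rw [Matrix.det_diagonal]
    exact Finset.prod_ne_zero_iff.mpr fun i _ => hd i
  have hD' : (Matrix.diagonal d').det ≠ 0 := by
    rw [Matrix.det_diagonal]
    exact Finset.prod_ne_zero_iff.mpr fun i _ => hd' i
  have h1 : (Matrix.diagonal d * A * Matrix.diagonal d').rank = A.rank := by
    rw [Matrix.rank_mul_eq_left_of_det_ne_zero _ _ hD',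
      Matrix.rank_mul_eq_right_of_det_ne_zero _ _ hD]
  have h2 : Fintype.card {i // i ≠ i0} ≤ A.rank := by
    rw [← h1, ← Matrix.rank_of_det_ne_zero hdet]
    exact Matrix.rank_submatrix_le _ _ _
  have h3 : A.rank + 1 ≤ Fintype.card ι := by
    have hk := Submodule.finrank_quotient_add_finrank (LinearMap.ker (Matrix.mulVecLin A))
    rw [LinearEquiv.finrank_eq (Matrix.mulVecLin A).quotKerEquivRange,
      Module.finrank_fintype_fun_eq_card] at hk
    have hne : LinearMap.ker (Matrix.mulVecLin A) ≠ ⊥ := by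
      rw [Submodule.ne_bot_iff]
      exact ⟨b, hAb, hb⟩
    have h4 := Submodule.one_le_finrank_iff.mpr hne
    have hr : A.rank = Module.finrank ℤ (LinearMap.range (Matrix.mulVecLin A)) := rfl
    omega
  have hV : Fintype.card ι = Fintype.card {i // i ≠ i0} + 1 := by
    rw [← Fintype.card_option]
    exact (Fintype.card_congr (Equiv.optionSubtypeNe i0)).symm
  omega

end Lattice

end Groth.Agent.Helper22.MT
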