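import Mathlib
import Groth.Prelude.Def_W4c2conddiscmodels
import Groth.Agent.Lib.Helper22.MT5
import Groth.Agent.S14806

/-!
# The component group of a multigraph with multiplicities: order via spanning trees
-/

set_option autoImplicit false
namespace Groth.Agent.Helper22.MT

open Matrix Finset LabGraph

universe u
variable {V E : Type u} [Fintype V] [Fintype E] [DecidableEq V] [DecidableEq E]

theorem edgeMult_comm (ends : E → V × V) (v w : V) : edgeMult ends v w = edgeMult ends w v := by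
  unfold edgeMult
  congr 1
  exact Finset.filter_congr fun e _ => or_comm

theorem mf_symm (ends : E → V × V) (β : V → ℤ) (v w : V) :
    mfMatrix ends β v w = mfMatrix ends β w v := by
  by_cases h : v = w
  · rw [h]
  · have h1 : mfMatrix ends β v w = (edgeMult ends v w : ℤ) := if_neg h
    have h2 : mfMatrix ends β w v = (edgeMult ends w v : ℤ) := if_neg (Ne.symm h)
    rw [h1, h2, edgeMult_comm]

theorem mf_row (ends : E → V × V) (β : V → ℤ) (hβ : IsMultFn ends β) (v : V) :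
    ∑ w, mfMatrix ends β v w * β w = 0 := by
  rw [← Finset.add_sum_erase _ _ (Finset.mem_univ v)]
  have hvv : mfMatrix ends β v v =
      -(∑ u ∈ Finset.univ.erase v, β u * (edgeMult ends v u : ℤ)) / β v := if_pos rfl
  have h1 : mfMatrix ends β v v * β v =
      -(∑ u ∈ Finset.univ.erase v, β u * (edgeMult ends v u : ℤ)) := by
    rw [hvv]
    exact Int.ediv_mul_cancel ((dvd_neg).mpr (hβ v).2)
  have h2 : ∑ w ∈ Finset.univ.erase v, mfMatrix ends β v w * β w =
      ∑ u ∈ Finset.univ.erase v, β u * (edgeMult ends v u : ℤ) := by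
    refine Finset.sum_congr rfl fun w hw => ?_
    have hvw : mfMatrix ends β v w = (edgeMult ends v w : ℤ) :=
      if_neg (Finset.ne_of_mem_erase hw).symm
    rw [hvw, mul_comm]
  rw [h1, h2, neg_add_cancel]

theorem Q_apply (ends : E → V × V) (c : E → ℤ) (v w : V) :
    (inc ℤ ends * Matrix.diagonal c * (inc ℤ ends)ᵀ) v w =
      ∑ e, inc ℤ ends v e * c e * inc ℤ ends w e := by
  rw [Matrix.mul_apply]
  refine Finset.sum_congr rfl fun e _ => ?_
  rw [Matrix.mul_diagonal, Matrix.transpose_apply]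

theorem Q_row (ends : E → V × V) (c : E → ℤ) (v : V) :
    ∑ w, (inc ℤ ends * Matrix.diagonal c * (inc ℤ ends)ᵀ) v w = 0 := by
  simp only [Q_apply]
  rw [Finset.sum_comm]
  refine Finset.sum_eq_zero fun e _ => ?_
  rw [← Finset.mul_sum, sum_inc, mul_zero]

theorem Q_col (ends : E → V × V) (c : E → ℤ) (w : V) :
    ∑ v, (inc ℤ ends * Matrix.diagonal c * (inc ℤ ends)ᵀ) v w = 0 := by
  simp only [Q_apply]
  rw [Finset.sum_comm]
  refine Finset.sum_eq_zero fun e _ => ?_
  rw [← Finset.sum_mul, ← Finset.sum_mul, sum_inc, zero_mul, zero_mul]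

theorem inc_mul_inc_offdiag (ends : E → V × V) (β : V → ℤ) (v w : V) (hvw : v ≠ w) (e : E) :
    inc ℤ ends v e * (β (ends e).1 * β (ends e).2) * inc ℤ ends w e =
      if (ends e = (v, w) ∨ ends e = (w, v)) then -(β v * β w) else 0 := by
  rcases hends : ends e with ⟨a, b⟩
  simp only [inc_apply, hends, Prod.mk.injEq]
  by_cases h1 : a = v <;> by_cases h2 : b = v <;> by_cases h3 : a = w <;> by_cases h4 : b = w <;>
    simp_all <;> ring

theorem Q_offdiag (ends : E → V × V) (β : V → ℤ) (v w : V) (hvw : v ≠ w) :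
    (inc ℤ ends * Matrix.diagonal (fun e => β (ends e).1 * β (ends e).2) * (inc ℤ ends)ᵀ) v w =
      -(β v * β w * (edgeMult ends v w : ℤ)) := by
  rw [Q_apply, Finset.sum_congr rfl (fun e _ => inc_mul_inc_offdiag ends β v w hvw e),
    Finset.sum_ite, Finset.sum_const_zero, add_zero, Finset.sum_const, edgeMult, nsmul_eq_mul]
  ring

theorem LV_eq_neg_Q (ends : E → V × V) (β : V → ℤ) (hβ : IsMultFn ends β) :
    Matrix.diagonal β * mfMatrix ends β * Matrix.diagonal β =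
      -(inc ℤ ends * Matrix.diagonal (fun e => β (ends e).1 * β (ends e).2) * (inc ℤ ends)ᵀ) := by
  obtain ⟨LV, hLVdef⟩ : ∃ LV : Matrix V V ℤ,
      LV = Matrix.diagonal β * mfMatrix ends β * Matrix.diagonal β := ⟨_, rfl⟩
  obtain ⟨Q, hQdef⟩ : ∃ Q : Matrix V V ℤ, Q = inc ℤ ends *
      Matrix.diagonal (fun e => β (ends e).1 * β (ends e).2) * (inc ℤ ends)ᵀ := ⟨_, rfl⟩
  rw [← hLVdef, ← hQdef]
  have hLV : ∀ v w, LV v w = β v * mfMatrix ends β v w * β w := fun v w => by
    rw [hLVdef, Matrix.mul_diagonal, Matrix.diagonal_mul]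
  have hoff : ∀ v w, v ≠ w → LV v w = -Q v w := by
    intro v w hvw
    have h1 : mfMatrix ends β v w = (edgeMult ends v w : ℤ) := if_neg hvw
    rw [hLV, hQdef, Q_offdiag ends β v w hvw, neg_neg, h1]
    ring
  have hrowLV : ∀ v, ∑ w, LV v w = 0 := by
    intro v
    calc ∑ w, LV v w = ∑ w, β v * (mfMatrix ends β v w * β w) :=
          Finset.sum_congr rfl fun w _ => by rw [hLV]; ring
      _ = β v * ∑ w, mfMatrix ends β v w * β w := (Finset.mul_sum _ _ _).symm
      _ = 0 := by rw [mf_row ends β hβ v, mul_zero]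
  have hrowQ : ∀ v, ∑ w, Q v w = 0 := by
    intro v
    rw [hQdef]
    exact Q_row ends _ v
  ext v w
  rw [Matrix.neg_apply]
  by_cases h : v = w
  · rw [← h]
    have h1 := hrowLV v
    rw [← Finset.add_sum_erase _ _ (Finset.mem_univ v)] at h1
    have h2 := hrowQ v
    rw [← Finset.add_sum_erase _ _ (Finset.mem_univ v)] at h2
    have h3 : ∑ w ∈ Finset.univ.erase v, LV v w = -∑ w ∈ Finset.univ.erase v, Q v w := by
      rw [← Finset.sum_neg_distrib]
      exact Finset.sum_congr rfl fun w hw => hoff v w (Finset.ne_of_mem_erase hw).symm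
    linarith
  · exact hoff v w h

theorem sda_eq_zero {ι : Type*} [Fintype ι] [DecidableEq ι] (δ : ι → ℤ) (A : Matrix ι ι ℤ)
    (h : Matrix.vecMul δ A = 0) :
    (∑ i : ι, (LinearMap.proj i : (ι → ℤ) →ₗ[ℤ] ℤ)) ∘ₗ
      (Matrix.mulVecLin (Matrix.diagonal δ)) ∘ₗ (Matrix.mulVecLin A) = 0 := by
  apply LinearMap.ext
  intro z
  simp only [LinearMap.comp_apply, LinearMap.sum_apply, LinearMap.proj_apply,
    Matrix.mulVecLin_apply, Matrix.mulVec_diagonal, LinearMap.zero_apply]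
  have h1 : ∑ i, δ i * (A.mulVec z) i = δ ⬝ᵥ A.mulVec z := rfl
  rw [h1, Matrix.dotProduct_mulVec, h, zero_dotProduct]

theorem adΔ_eq_zero {ι : Type*} [Fintype ι] [DecidableEq ι] (δ' : ι → ℤ) (A : Matrix ι ι ℤ)
    (h : A.mulVec δ' = 0) :
    (Matrix.mulVecLin A) ∘ₗ (Matrix.mulVecLin (Matrix.diagonal δ')) ∘ₗ
      (LinearMap.pi fun _ : ι => (LinearMap.id : ℤ →ₗ[ℤ] ℤ)) = 0 := by
  apply LinearMap.ext
  intro c
  simp only [LinearMap.comp_apply, Matrix.mulVecLin_apply, LinearMap.zero_apply]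
  have h1 : (Matrix.diagonal δ').mulVec
      ((LinearMap.pi fun _ : ι => (LinearMap.id : ℤ →ₗ[ℤ] ℤ)) c) = c • δ' := by
    funext i
    rw [Matrix.mulVec_diagonal, LinearMap.pi_apply, LinearMap.id_apply, Pi.smul_apply,
      smul_eq_mul, mul_comm]
  rw [h1, Matrix.mulVec_smul, h, smul_zero]

theorem mem_range_submatrix_iff {F : Type*} [Fintype F] [DecidableEq F] (e : V ≃ F)
    (M : Matrix V V ℤ) (x : V → ℤ) :
    x ∈ LinearMap.range (Matrix.mulVecLin M) ↔
      (fun i => x (e.symm i)) ∈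
        LinearMap.range (Matrix.mulVecLin (M.submatrix e.symm e.symm)) := by
  constructor
  · rintro ⟨z, rfl⟩
    refine ⟨z ∘ e.symm, ?_⟩
    rw [Matrix.mulVecLin_apply, Matrix.submatrix_mulVec_equiv]
    have : (z ∘ ⇑e.symm) ∘ ⇑e.symm.symm = z := by
      funext v
      simp
    rw [this]
    rfl
  · rintro ⟨w, hw⟩
    refine ⟨w ∘ e, ?_⟩
    rw [Matrix.mulVecLin_apply, Matrix.submatrix_mulVec_equiv] at hw
    rw [Matrix.mulVecLin_apply]
    funext v
    have h1 := congrFun hw (e v)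
    simp only [Function.comp_apply, Equiv.symm_apply_apply] at h1
    rw [← h1]
    rfl

theorem card_compGrp (ends : E → V × V) (β : V → ℤ) (hβ : IsMultFn ends β)
    (hG : Connected ends) [DecidablePred fun T : Finset E => IsSpanningTree ends T] :
    (Nat.card (CompGrp ends β) : ℤ) * (∏ v, β v) ^ 2 =
      (Finset.univ.gcd β) ^ 2 *
        ∑ T ∈ Finset.univ.filter (fun T : Finset E => IsSpanningTree ends T),
          ∏ e ∈ T, (β (ends e).1 * β (ends e).2) := by
  classical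
  obtain ⟨v0⟩ := hG.1
  have hpos : ∀ v, 0 < β v := fun v => (hβ v).1
  have hne : ∀ v, β v ≠ 0 := fun v => (hpos v).ne'
  obtain ⟨c, hc⟩ : ∃ c : E → ℤ, c = fun e => β (ends e).1 * β (ends e).2 := ⟨_, rfl⟩
  obtain ⟨α, hα⟩ : ∃ α : Matrix V V ℤ, α = mfMatrix ends β := ⟨_, rfl⟩
  obtain ⟨LV, hLV⟩ : ∃ LV : Matrix V V ℤ, LV = Matrix.diagonal β * α * Matrix.diagonal β :=
    ⟨_, rfl⟩
  obtain ⟨D, hD⟩ : ∃ D : ℤ, D = ∑ T ∈ Finset.univ.filter
      (fun T : Finset E => IsSpanningTree ends T), ∏ e ∈ T, c e := ⟨_, rfl⟩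
  have hcpos : ∀ e, 0 < c e := fun e => by
    rw [hc]
    exact mul_pos (hpos _) (hpos _)
  have hDpos : 0 < D := by
    obtain ⟨T0, hT0⟩ := exists_spanningTree ends hG
    rw [hD]
    apply Finset.sum_pos'
    · intro T _
      exact Finset.prod_nonneg fun e _ => (hcpos e).le
    · exact ⟨T0, Finset.mem_filter.mpr ⟨Finset.mem_univ _, hT0⟩,
        Finset.prod_pos fun e _ => hcpos e⟩
  have hLVQ : LV = -(inc ℤ ends * Matrix.diagonal c * (inc ℤ ends)ᵀ) := by
    rw [hLV, hα, hc]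
    exact LV_eq_neg_Q ends β hβ
  have hminor : LV.submatrix (Subtype.val : {v // v ≠ v0} → V) Subtype.val =
      -((inc ℤ ends).submatrix (Subtype.val : {v // v ≠ v0} → V) id * Matrix.diagonal c *
        ((inc ℤ ends).submatrix (Subtype.val : {v // v ≠ v0} → V) id)ᵀ) := by
    rw [hLVQ]
    ext u w
    rfl
  have hdet : (LV.submatrix (Subtype.val : {v // v ≠ v0} → V) Subtype.val).det =
      (-1) ^ Fintype.card {v // v ≠ v0} * D := by
    rw [hminor, Matrix.det_neg, matrix_tree ends c v0, hD]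
  have hdet0 : (LV.submatrix (Subtype.val : {v // v ≠ v0} → V) Subtype.val).det ≠ 0 := by
    rw [hdet]
    exact mul_ne_zero (pow_ne_zero _ (by norm_num)) hDpos.ne'
  have hdetabs : ((LV.submatrix (Subtype.val : {v // v ≠ v0} → V) Subtype.val).det.natAbs : ℤ)
      = D := by
    rw [hdet, Int.natAbs_mul, Int.natAbs_pow, Int.natAbs_neg, Int.natAbs_one, one_pow, one_mul,
      Int.natAbs_of_nonneg hDpos.le]
  have hrow : ∀ i, ∑ j, LV i j = 0 := by
    intro i
    rw [hLVQ]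
    simp only [Matrix.neg_apply, Finset.sum_neg_distrib, Q_row, neg_zero]
  have hcol : ∀ j, ∑ i, LV i j = 0 := by
    intro j
    rw [hLVQ]
    simp only [Matrix.neg_apply, Finset.sum_neg_distrib, Q_col, neg_zero]
  have hαβ : α.mulVec β = 0 := by
    funext v
    rw [hα]
    exact mf_row ends β hβ v
  have hβα : Matrix.vecMul β α = 0 := by
    funext w
    rw [hα]
    show ∑ v, β v * mfMatrix ends β v w = 0
    rw [← mf_row ends β hβ w]
    exact Finset.sum_congr rfl fun v _ => by rw [mf_symm ends β v w, mul_comm]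
  have hrank : α.rank = Fintype.card V - 1 :=
    rank_eq_card_sub_one v0 α β (fun h => hne v0 (congrFun h v0)) hαβ β β hne hne
      (by rw [← hLV]; exact hdet0)
  have hXV := card_ker_sum_quot v0 LV hrow hcol hdet0
  -- transport to `Fin n`
  obtain ⟨n, hn⟩ : ∃ n, n = Fintype.card V := ⟨_, rfl⟩
  have hn0 : 0 < n := by
    rw [hn]
    exact Fintype.card_pos_iff.mpr ⟨v0⟩
  obtain ⟨e⟩ : Nonempty (V ≃ Fin n) := by
    rw [hn]
    exact ⟨Fintype.equivFin V⟩
  obtain ⟨δ, hδ⟩ : ∃ δ : Fin n → ℤ, δ = β ∘ e.symm := ⟨_, rfl⟩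
  have hδne : ∀ i, δ i ≠ 0 := fun i => by
    rw [hδ]
    exact hne _
  obtain ⟨A, hA⟩ : ∃ A : Matrix (Fin n) (Fin n) ℤ, A = α.submatrix e.symm e.symm := ⟨_, rfl⟩
  have hArank : A.rank = n - 1 := by
    rw [hA, Matrix.rank_submatrix, hrank, hn]
  have hδA : Matrix.vecMul δ A = 0 := by
    rw [hδ, hA, Matrix.submatrix_vecMul_equiv]
    have : (β ∘ ⇑e.symm) ∘ ⇑e.symm.symm = β := by
      funext v
      simp
    rw [this, hβα]
    rfl
  have hAδ : A.mulVec δ = 0 := by
    rw [hδ, hA, Matrix.submatrix_mulVec_equiv]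
    have : (β ∘ ⇑e.symm) ∘ ⇑e.symm.symm = β := by
      funext v
      simp
    rw [this, hαβ]
    rfl
  have h806 := Groth.Agent.S14806.result n hn0 δ δ hδne hδne A hArank
    (sda_eq_zero δ A hδA) (adΔ_eq_zero δ A hAδ)
  -- the linear equivalence
  obtain ⟨φ, hφ⟩ : ∃ φ : (V → ℤ) ≃ₗ[ℤ] (Fin n → ℤ), ∀ x, φ x = fun i => x (e.symm i) :=
    ⟨LinearEquiv.funCongrLeft ℤ ℤ e.symm, fun _ => rfl⟩
  have hK1 : ∀ x, x ∈ LinearMap.ker (betaHom β) ↔ φ x ∈ LinearMap.ker
      ((∑ i : Fin n, (LinearMap.proj i : (Fin n → ℤ) →ₗ[ℤ] ℤ)) ∘ₗ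
        (Matrix.mulVecLin (Matrix.diagonal δ))) := by
    intro x
    rw [LinearMap.mem_ker, LinearMap.mem_ker, hφ]
    simp only [LinearMap.comp_apply, LinearMap.sum_apply, LinearMap.proj_apply,
      Matrix.mulVecLin_apply, Matrix.mulVec_diagonal, betaHom, Fintype.linearCombination_apply,
      smul_eq_mul]
    have h1 : ∑ i, δ i * x (e.symm i) = ∑ v, x v * β v := by
      rw [hδ]
      rw [← Equiv.sum_comp e.symm (fun v => x v * β v)]
      exact Finset.sum_congr rfl fun i _ => mul_comm _ _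
    rw [h1]
  have hR1 : ∀ x, x ∈ LinearMap.range (Matrix.mulVecLin (mfMatrix ends β)) ↔
      φ x ∈ LinearMap.range (Matrix.mulVecLin A) := by
    intro x
    rw [hφ, hA, hα]
    exact mem_range_submatrix_iff e _ x
  have hΦ := card_quot_transport φ (LinearMap.ker (betaHom β))
    (LinearMap.range (Matrix.mulVecLin (mfMatrix ends β))) _ _ hK1 hR1
  have hK2 : ∀ x, x ∈ LinearMap.ker (∑ i : V, (LinearMap.proj i : (V → ℤ) →ₗ[ℤ] ℤ)) ↔
      φ x ∈ LinearMap.ker (∑ i : Fin n, (LinearMap.proj i : (Fin n → ℤ) →ₗ[ℤ] ℤ)) := by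
    intro x
    rw [LinearMap.mem_ker, LinearMap.mem_ker, hφ]
    simp only [LinearMap.sum_apply, LinearMap.proj_apply]
    rw [Equiv.sum_comp e.symm x]
  have hLF : Matrix.mulVecLin (Matrix.diagonal δ) ∘ₗ Matrix.mulVecLin A ∘ₗ
      Matrix.mulVecLin (Matrix.diagonal δ) = Matrix.mulVecLin (LV.submatrix e.symm e.symm) := by
    rw [hLV, ← Matrix.submatrix_mul_equiv _ _ _ e.symm _,
      ← Matrix.submatrix_mul_equiv _ _ _ e.symm _, Matrix.submatrix_diagonal_equiv,
      Matrix.mulVecLin_mul, Matrix.mulVecLin_mul, LinearMap.comp_assoc, ← hδ, ← hA]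
  have hR2 : ∀ x, x ∈ LinearMap.range (Matrix.mulVecLin LV) ↔
      φ x ∈ LinearMap.range (Matrix.mulVecLin (Matrix.diagonal δ) ∘ₗ Matrix.mulVecLin A ∘ₗ
        Matrix.mulVecLin (Matrix.diagonal δ)) := by
    intro x
    rw [hφ, hLF]
    exact mem_range_submatrix_iff e _ x
  have hX := card_quot_transport φ
    (LinearMap.ker (∑ i : V, (LinearMap.proj i : (V → ℤ) →ₗ[ℤ] ℤ)))
    (LinearMap.range (Matrix.mulVecLin LV)) _ _ hK2 hR2
  have hgcd : Finset.univ.gcd δ = Finset.univ.gcd β := by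
    rw [hδ, ← Finset.gcd_image, Finset.image_univ_equiv]
  have hprod : ∏ i, δ i = ∏ v, β v := by
    rw [hδ]
    exact Equiv.prod_comp e.symm β
  have hPpos : 0 < ∏ v, β v := Finset.prod_pos fun v _ => hpos v
  rw [← hX, hXV, hdetabs, hgcd, hprod, abs_of_pos hPpos] at h806
  have hΦ' : Nat.card (CompGrp ends β) = Nat.card (LinearMap.ker
      ((∑ i : Fin n, (LinearMap.proj i : (Fin n → ℤ) →ₗ[ℤ] ℤ)) ∘ₗ
        (Matrix.mulVecLin (Matrix.diagonal δ))) ⧸
      (LinearMap.range (Matrix.mulVecLin A)).comap (LinearMap.ker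
        ((∑ i : Fin n, (LinearMap.proj i : (Fin n → ℤ) →ₗ[ℤ] ℤ)) ∘ₗ
          (Matrix.mulVecLin (Matrix.diagonal δ)))).subtype) := hΦ
  rw [← hΦ'] at h806
  have hfinal : (Nat.card (CompGrp ends β) : ℤ) * (∏ v, β v) ^ 2 =
      (Finset.univ.gcd β) ^ 2 * D := by
    linear_combination h806
  rw [hD] at hfinal
  subst hc
  exact hfinal

end Groth.Agent.Helper22.MT
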