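import Mathlib

/-!
# First-order automorphisms moving marked points (helper22)

For a smooth `k`-algebra `A` with finitely many distinct `k`-points `q_i` and lifts `q'_i` to
`A[ε] → k[ε]`, the automorphism `x ↦ x + ε D(x)` of `A[ε]` for a suitable derivation `D`
carries every `q'_i` to the trivial lift.
-/

set_option autoImplicit false

namespace Groth.Agent.Helper22.MarkedAut

open TrivSqZeroExt

universe u v

variable {k : Type u} [Field k] {A : Type u} [CommRing A] [Algebra k A]

theorem exists_derivation_single [Algebra.FormallySmooth k A] (q : A →ₐ[k] k) (d : A →ₗ[k] k)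
    (hd : ∀ a b, d (a * b) = q a * d b + q b * d a) :
    ∃ D : Derivation k A A, ∀ a, q (D a) = d a := by
  letI modA : Module A k := Module.compHom k (q : A →+* k)
  have hsm : ∀ (a : A) (c : k), a • c = q a * c := fun _ _ => rfl
  haveI : IsScalarTower k A k := ⟨fun c a x => by
    rw [hsm, hsm, map_smul, smul_eq_mul, smul_eq_mul, mul_assoc]⟩
  let dd : Derivation k A k := Derivation.mk' d (fun a b => by
    rw [hd, hsm, hsm])
  let δ : Ω[A⁄k] →ₗ[A] k := dd.liftKaehlerDifferential
  let qlin : A →ₗ[A] k :=
    { toFun := q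
      map_add' := map_add q
      map_smul' := fun a b => by
        show q (a * b) = q a * q b
        exact map_mul q a b }
  have hsurj : Function.Surjective qlin := by
    intro c
    refine ⟨algebraMap k A c, ?_⟩
    show q (algebraMap k A c) = c
    rw [AlgHom.commutes]
    rfl
  obtain ⟨L, hL⟩ := Module.projective_lifting_property qlin δ hsurj
  refine ⟨L.compDer (KaehlerDifferential.D k A), fun a => ?_⟩
  have h1 : qlin (L (KaehlerDifferential.D k A a)) = δ (KaehlerDifferential.D k A a) :=
    LinearMap.congr_fun hL _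
  have h2 : δ (KaehlerDifferential.D k A a) = dd a :=
    Derivation.liftKaehlerDifferential_comp_D dd a
  exact h1.trans h2

theorem exists_lagrange {ι : Type v} [Fintype ι] [DecidableEq ι] (q : ι → (A →ₐ[k] k))
    (hq : Function.Injective q) :
    ∃ e : ι → A, ∀ i j, q j (e i) = if i = j then 1 else 0 := by
  have h1 : ∀ i j, ∃ a : A, i ≠ j → q i a ≠ q j a := by
    intro i j
    by_cases hij : i = j
    · exact ⟨0, fun h => absurd hij h⟩
    · have hne : q i ≠ q j := fun h => hij (hq h)
      obtain ⟨a, ha⟩ := DFunLike.ne_iff.1 hne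
      exact ⟨a, fun _ => ha⟩
  choose a ha using h1
  refine ⟨fun i => ∏ j ∈ Finset.univ.erase i,
    ((q i (a i j) - q j (a i j))⁻¹ • (a i j - algebraMap k A (q j (a i j)))), fun i l => ?_⟩
  rw [map_prod]
  by_cases hil : i = l
  · subst hil
    rw [if_pos rfl]
    refine Finset.prod_eq_one fun j hj => ?_
    have hji : j ≠ i := Finset.ne_of_mem_erase hj
    have hne : q i (a i j) - q j (a i j) ≠ 0 := sub_ne_zero.2 (ha i j (Ne.symm hji))
    rw [map_smul, map_sub, AlgHom.commutes, smul_eq_mul]
    show (q i (a i j) - q j (a i j))⁻¹ * (q i (a i j) - q j (a i j)) = 1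
    exact inv_mul_cancel₀ hne
  · rw [if_neg hil]
    refine Finset.prod_eq_zero (Finset.mem_erase.2 ⟨Ne.symm hil, Finset.mem_univ l⟩) ?_
    rw [map_smul, map_sub, AlgHom.commutes]
    show (q i (a i l) - q l (a i l))⁻¹ • (q l (a i l) - q l (a i l)) = 0
    rw [sub_self, smul_zero]

/-- `x ↦ (x.fst, x.snd + D x.fst)`. -/
noncomputable def phiFun (D : Derivation k A A) (x : DualNumber A) : DualNumber A :=
  inl x.fst + inr (x.snd + D x.fst)

theorem fst_phiFun (D : Derivation k A A) (x : DualNumber A) : (phiFun D x).fst = x.fst := by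
  unfold phiFun
  rw [fst_add, fst_inl, fst_inr, add_zero]

theorem snd_phiFun (D : Derivation k A A) (x : DualNumber A) :
    (phiFun D x).snd = x.snd + D x.fst := by
  unfold phiFun
  rw [snd_add, snd_inl, snd_inr, zero_add]

noncomputable def phiHom (D : Derivation k A A) : DualNumber A →ₐ[k] DualNumber A where
  toFun := phiFun D
  map_one' := by
    refine TrivSqZeroExt.ext ?_ ?_
    · rw [fst_phiFun]
    · rw [snd_phiFun, snd_one, fst_one, Derivation.map_one_eq_zero, add_zero]
  map_mul' x y := by
    refine TrivSqZeroExt.ext ?_ ?_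
    · rw [fst_phiFun, fst_mul, fst_mul, fst_phiFun, fst_phiFun]
    · simp only [snd_phiFun, fst_phiFun, DualNumber.snd_mul, fst_mul, Derivation.leibniz,
        smul_eq_mul]
      ring
  map_zero' := by
    refine TrivSqZeroExt.ext ?_ ?_
    · rw [fst_phiFun]
    · rw [snd_phiFun, snd_zero, fst_zero, map_zero, add_zero]
  map_add' x y := by
    refine TrivSqZeroExt.ext ?_ ?_
    · rw [fst_phiFun, fst_add, fst_add, fst_phiFun, fst_phiFun]
    · simp only [snd_phiFun, fst_phiFun, snd_add, fst_add, map_add]
      abel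
  commutes' c := by
    rw [TrivSqZeroExt.algebraMap_eq_inl']
    refine TrivSqZeroExt.ext ?_ ?_
    · rw [fst_phiFun]
    · rw [snd_phiFun, snd_inl, fst_inl, Derivation.map_algebraMap, add_zero]

theorem phiHom_apply (D : Derivation k A A) (x : DualNumber A) : phiHom D x = phiFun D x := rfl

noncomputable def phiEquiv (D : Derivation k A A) : DualNumber A ≃ₐ[k] DualNumber A :=
  AlgEquiv.ofAlgHom (phiHom D) (phiHom (-D))
    (AlgHom.ext fun x => by
      show phiFun D (phiFun (-D) x) = x
      refine TrivSqZeroExt.ext ?_ ?_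
      · rw [fst_phiFun, fst_phiFun]
      · rw [snd_phiFun, snd_phiFun, fst_phiFun, Derivation.neg_apply]
        abel)
    (AlgHom.ext fun x => by
      show phiFun (-D) (phiFun D x) = x
      refine TrivSqZeroExt.ext ?_ ?_
      · rw [fst_phiFun, fst_phiFun]
      · rw [snd_phiFun, snd_phiFun, fst_phiFun, Derivation.neg_apply]
        abel)

theorem phiEquiv_apply (D : Derivation k A A) (x : DualNumber A) :
    phiEquiv D x = phiFun D x := rfl

theorem main [Algebra.Smooth k A] {ι : Type v} [Finite ι] (q : ι → (A →ₐ[k] k))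
    (hq : Function.Injective q) (q' : ι → (DualNumber A →ₐ[k] DualNumber k))
    (hε : ∀ i, q' i DualNumber.eps = DualNumber.eps)
    (hq' : ∀ i x, (q' i x).fst = q i x.fst) :
    ∃ φ : DualNumber A ≃ₐ[k] DualNumber A,
      φ DualNumber.eps = DualNumber.eps ∧ (∀ x, (φ x).fst = x.fst) ∧
        ∀ i x, (q' i (φ x)).fst = q i x.fst ∧ (q' i (φ x)).snd = q i x.snd := by
  classical
  cases nonempty_fintype ι
  let d : ι → (A →ₗ[k] k) := fun i =>
    { toFun := fun a => (q' i (inl a)).snd
      map_add' := fun a b => by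
        show (q' i (inl (a + b))).snd = (q' i (inl a)).snd + (q' i (inl b)).snd
        rw [inl_add, map_add, snd_add]
      map_smul' := fun c a => by
        show (q' i (inl (c • a))).snd = c • (q' i (inl a)).snd
        rw [inl_smul, map_smul, snd_smul] }
  have hdef : ∀ i a, d i a = (q' i (inl a)).snd := fun _ _ => rfl
  have hd : ∀ i a b, d i (a * b) = q i a * d i b + q i b * d i a := by
    intro i a b
    rw [hdef, hdef, hdef]
    have h1 : (inl (a * b) : DualNumber A) = inl a * inl b := by rw [inl_mul]
    rw [h1, map_mul, DualNumber.snd_mul, hq', hq', fst_inl, fst_inl]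
    ring
  choose Dd hDd using fun i => exists_derivation_single (q i) (d i) (hd i)
  obtain ⟨e, he⟩ := exists_lagrange q hq
  have hsum : ∀ (s : Finset ι) (a : A), (∑ i ∈ s, e i • Dd i) a = ∑ i ∈ s, e i * Dd i a := by
    intro s a
    induction s using Finset.induction_on with
    | empty =>
      rw [Finset.sum_empty, Finset.sum_empty]
      rfl
    | insert i s hi ih =>
      rw [Finset.sum_insert hi, Finset.sum_insert hi, Derivation.add_apply,
        Derivation.smul_apply, ih, smul_eq_mul]
  have hD : ∀ j a, q j ((-∑ i, e i • Dd i) a) = - d j a := by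
    intro j a
    rw [Derivation.neg_apply, hsum, map_neg, map_sum]
    congr 1
    rw [Finset.sum_eq_single j]
    · rw [map_mul, he, if_pos rfl, one_mul, hDd]
    · intro i _ hij
      rw [map_mul, he, if_neg hij, zero_mul]
    · intro h
      exact absurd (Finset.mem_univ j) h
  have hsnd : ∀ i (y : DualNumber A), (q' i y).snd = d i y.fst + q i y.snd := by
    intro i y
    have hy : y = inl y.fst + inl y.snd * DualNumber.eps := by
      rw [inl_mul_eq_smul, ← DualNumber.inr_eq_smul_eps, inl_fst_add_inr_snd_eq]
    have h1 : q' i y = q' i (inl y.fst) + q' i (inl y.snd) * DualNumber.eps := by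
      conv_lhs => rw [hy]
      rw [map_add, map_mul, hε]
    rw [h1, snd_add, DualNumber.snd_mul, DualNumber.fst_eps, DualNumber.snd_eps, mul_zero,
      add_zero, mul_one, hq', fst_inl, hdef]
  refine ⟨phiEquiv (-∑ i, e i • Dd i), ?_, ?_, ?_⟩
  · rw [phiEquiv_apply]
    refine TrivSqZeroExt.ext ?_ ?_
    · rw [fst_phiFun]
    · rw [snd_phiFun, DualNumber.fst_eps, map_zero, add_zero]
  · intro x
    rw [phiEquiv_apply, fst_phiFun]
  · intro i x
    refine ⟨?_, ?_⟩
    · rw [hq', phiEquiv_apply, fst_phiFun]
    · rw [hsnd, phiEquiv_apply, fst_phiFun, snd_phiFun, map_add, hD]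
      abel

end Groth.Agent.Helper22.MarkedAut
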