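import Mathlib

/-!
# Minkowski–Serre lemma: torsion units congruent to 1 mod n in a torsion-free f.g. ring (helper22)
-/

namespace Groth.Agent.Helper22.Mink

theorem binom_prime {R : Type*} [CommRing R] {ℓ : ℕ} (hℓ : ℓ.Prime) (y : R) :
    ∃ r : R, (1 + y) ^ ℓ = 1 + y ^ ℓ + ℓ * y + ℓ * y * y * r := by
  obtain ⟨s, rfl⟩ : ∃ s, ℓ = s + 2 := ⟨ℓ - 2, by have := hℓ.two_le; omega⟩
  refine ⟨∑ i ∈ Finset.range s, ((Nat.choose (s + 2) (i + 2) / (s + 2) : ℕ) : R) * y ^ i, ?_⟩
  rw [add_comm 1 y, add_pow]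
  simp only [one_pow, mul_one]
  rw [Finset.sum_range_succ, Finset.sum_range_succ', Finset.sum_range_succ']
  have hmid : ∑ k ∈ Finset.range s, y ^ (k + 1 + 1) * ((Nat.choose (s + 2) (k + 1 + 1) : ℕ) : R) =
      ((s + 2 : ℕ) : R) * y * y *
        ∑ i ∈ Finset.range s, ((Nat.choose (s + 2) (i + 2) / (s + 2) : ℕ) : R) * y ^ i := by
    rw [Finset.mul_sum]
    apply Finset.sum_congr rfl
    intro i hi
    have hi' : i < s := Finset.mem_range.mp hi
    have h1 : (s + 2) ∣ Nat.choose (s + 2) (i + 2) :=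
      hℓ.dvd_choose_self (by omega) (by omega)
    have h2 : Nat.choose (s + 2) (i + 2) =
        (s + 2) * (Nat.choose (s + 2) (i + 2) / (s + 2)) := (Nat.mul_div_cancel' h1).symm
    conv_lhs => rw [h2]
    push_cast
    ring
  rw [hmid]
  simp only [Nat.choose_self, Nat.cast_one, mul_one, pow_zero, Nat.choose_zero_right,
    Nat.choose_one_right, zero_add, pow_one]
  push_cast
  ring

variable {E : Type*} [CommRing E] [NoZeroSMulDivisors ℤ E]

theorem natCast_mul_cancel {a : ℕ} (ha : a ≠ 0) {x y : E} (h : (a : E) * x = (a : E) * y) :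
    x = y := by
  have h1 : (a : ℤ) • (x - y) = 0 := by
    rw [zsmul_eq_mul, mul_sub, Int.cast_natCast, h, sub_self]
  rcases eq_zero_or_eq_zero_of_smul_eq_zero h1 with h2 | h2
  · exact absurd (by exact_mod_cast h2) ha
  · exact sub_eq_zero.mp h2

theorem eq_zero_of_forall_pow_dvd [Module.Finite ℤ E] (q : ℕ) (hq : 2 ≤ q) (t : E)
    (h : ∀ k : ℕ, (q : E) ^ k ∣ t) : t = 0 := by
  haveI : Module.Free ℤ E := inferInstance
  let b := Module.Free.chooseBasis ℤ E
  apply b.repr.injective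
  rw [map_zero]
  ext i
  rw [Finsupp.zero_apply]
  by_contra hne
  obtain ⟨y, hy⟩ := h (b.repr t i).natAbs
  have h1 : b.repr t i = (q : ℤ) ^ (b.repr t i).natAbs * b.repr y i := by
    have h0 : ((q : E) ^ (b.repr t i).natAbs * y) = ((q : ℤ) ^ (b.repr t i).natAbs) • y := by
      rw [zsmul_eq_mul]; push_cast; rfl
    conv_lhs => rw [hy, h0, map_smul, Finsupp.smul_apply, smul_eq_mul]
  have h2 : (q : ℤ) ^ (b.repr t i).natAbs ∣ b.repr t i := ⟨_, h1⟩
  have h3 : q ^ (b.repr t i).natAbs ∣ (b.repr t i).natAbs := by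
    have := Int.natAbs_dvd_natAbs.mpr h2
    simpa [Int.natAbs_pow] using this
  have h4 : q ^ (b.repr t i).natAbs ≤ (b.repr t i).natAbs :=
    Nat.le_of_dvd (Int.natAbs_pos.mpr hne) h3
  have h5 : (b.repr t i).natAbs < q ^ (b.repr t i).natAbs := Nat.lt_pow_self hq
  omega

theorem step (ℓ q : ℕ) (hℓ : ℓ.Prime) (hq : q.Prime) (t : E) (ht : (1 + t) ^ ℓ = 1) (k : ℕ)
    (hk : 1 ≤ k) (hcase : q ≠ ℓ ∨ (q = ℓ ∧ (3 ≤ ℓ ∨ 2 ≤ k))) (hdvd : (q : E) ^ k ∣ t) :
    (q : E) ^ (k + 1) ∣ t := by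
  obtain ⟨r, hr⟩ := binom_prime hℓ t
  rw [ht] at hr
  have hmain : (ℓ : E) * t = -(t ^ ℓ + ℓ * t * t * r) := by linear_combination -hr
  have hℓ2 : 2 ≤ ℓ := hℓ.two_le
  have hpowℓ : (q : E) ^ (k * ℓ) ∣ t ^ ℓ := by
    rw [pow_mul]; exact pow_dvd_pow_of_dvd hdvd ℓ
  have htt : (q : E) ^ (k + k) ∣ t * t := by
    rw [pow_add]; exact mul_dvd_mul hdvd hdvd
  rcases hcase with hne | ⟨rfl, hc⟩
  · -- q ≠ ℓ
    have hkl : k + 1 ≤ k * ℓ := by nlinarith
    have h1 : (q : E) ^ (k + 1) ∣ t ^ ℓ := (pow_dvd_pow _ hkl).trans hpowℓ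
    have h2 : (q : E) ^ (k + 1) ∣ (ℓ : E) * t * t * r := by
      have : (q : E) ^ (k + 1) ∣ t * t := (pow_dvd_pow _ (by omega)).trans htt
      rw [mul_assoc (ℓ : E) t t, mul_assoc]
      exact Dvd.dvd.mul_left (Dvd.dvd.mul_right this r) _
    have h3 : (q : E) ^ (k + 1) ∣ t * (ℓ : E) := by
      rw [mul_comm, hmain]
      exact (dvd_add h1 h2).neg_right
    have hcop : IsCoprime ((q : ℤ) ^ (k + 1)) (ℓ : ℤ) := by
      apply IsCoprime.pow_left
      rw [Int.isCoprime_iff_gcd_eq_one, Int.gcd_natCast_natCast]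
      exact (Nat.coprime_primes hq hℓ).mpr hne
    have hcop' : IsCoprime ((q : E) ^ (k + 1)) (ℓ : E) := by
      have := hcop.map (Int.castRingHom E)
      simpa using this
    exact hcop'.dvd_of_dvd_mul_right h3
  · -- q = ℓ
    have hkl : k + 2 ≤ k * q := by
      rcases hc with h | h
      · nlinarith
      · nlinarith
    have h1 : (q : E) ^ (k + 2) ∣ t ^ q := (pow_dvd_pow _ hkl).trans hpowℓ
    have h2 : (q : E) ^ (k + 2) ∣ (q : E) * t * t * r := by
      have h2a : (q : E) ^ (1 + (k + k)) ∣ (q : E) * (t * t) := by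
        rw [pow_add, pow_one]; exact mul_dvd_mul_left _ htt
      rw [mul_assoc (q : E) t t]
      exact Dvd.dvd.mul_right ((pow_dvd_pow _ (by omega)).trans h2a) r
    have h3 : (q : E) ^ (k + 2) ∣ (q : E) * t := by
      rw [hmain]
      exact (dvd_add h1 h2).neg_right
    obtain ⟨z, hz⟩ := h3
    refine ⟨z, natCast_mul_cancel hq.ne_zero ?_⟩
    rw [hz]; ring

/-- Prime order case. -/
theorem eq_zero_of_prime [Module.Finite ℤ E] (n : ℕ) (hn : 3 ≤ n) (ℓ : ℕ) (hℓ : ℓ.Prime) (t : E)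
    (hnt : (n : E) ∣ t) (ht : (1 + t) ^ ℓ = 1) : t = 0 := by
  by_cases hA : ∃ q : ℕ, q.Prime ∧ q ∣ n ∧ q ≠ ℓ
  · obtain ⟨q, hq, hqn, hqℓ⟩ := hA
    have hq1 : (q : E) ^ 1 ∣ t := by
      rw [pow_one]; exact (Nat.cast_dvd_cast hqn).trans hnt
    have hall : ∀ k, 1 ≤ k → (q : E) ^ k ∣ t := by
      intro k hk
      induction k, hk using Nat.le_induction with
      | base => exact hq1
      | succ k hk ih => exact step ℓ q hℓ hq t ht k hk (Or.inl hqℓ) ih
    apply eq_zero_of_forall_pow_dvd q hq.two_le t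
    intro k
    rcases Nat.eq_zero_or_pos k with rfl | hk
    · rw [pow_zero]; exact one_dvd _
    · exact hall k hk
  · push_neg at hA
    have hn0 : n ≠ 0 := by omega
    have hpow := Nat.eq_prime_pow_of_unique_prime_dvd hn0 (fun {d} hd hdn => hA d hd hdn)
    set j := n.primeFactorsList.length with hj
    by_cases h3 : 3 ≤ ℓ
    · have hj1 : 1 ≤ j := by
        rcases Nat.eq_zero_or_pos j with h0 | h0
        · rw [h0, pow_zero] at hpow; omega
        · exact h0
      have hq1 : (ℓ : E) ^ 1 ∣ t := by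
        rw [pow_one]
        refine (Nat.cast_dvd_cast ?_).trans hnt
        rw [hpow]; exact dvd_pow_self ℓ (by omega)
      have hall : ∀ k, 1 ≤ k → (ℓ : E) ^ k ∣ t := by
        intro k hk
        induction k, hk using Nat.le_induction with
        | base => exact hq1
        | succ k hk ih => exact step ℓ ℓ hℓ hℓ t ht k hk (Or.inr ⟨rfl, Or.inl h3⟩) ih
      apply eq_zero_of_forall_pow_dvd ℓ hℓ.two_le t
      intro k
      rcases Nat.eq_zero_or_pos k with rfl | hk
      · rw [pow_zero]; exact one_dvd _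
      · exact hall k hk
    · have hℓ2 : ℓ = 2 := by have := hℓ.two_le; omega
      subst hℓ2
      have hj2 : 2 ≤ j := by
        by_contra hlt
        have : j = 0 ∨ j = 1 := by omega
        rcases this with h0 | h0
        · rw [h0, pow_zero] at hpow; omega
        · rw [h0, pow_one] at hpow; omega
      have hq2 : ((2 : ℕ) : E) ^ 2 ∣ t := by
        have h4 : (2 : ℕ) ^ 2 ∣ n := by rw [hpow]; exact pow_dvd_pow 2 hj2
        have := (Nat.cast_dvd_cast (α := E) h4).trans hnt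
        rw [Nat.cast_pow] at this
        exact this
      have hall : ∀ k, 2 ≤ k → ((2 : ℕ) : E) ^ k ∣ t := by
        intro k hk
        induction k, hk using Nat.le_induction with
        | base => exact hq2
        | succ k hk ih =>
          exact step 2 2 hℓ hℓ t ht k (by omega) (Or.inr ⟨rfl, Or.inr hk⟩) ih
      apply eq_zero_of_forall_pow_dvd 2 le_rfl t
      intro k
      by_cases hk : 2 ≤ k
      · exact hall k hk
      · exact (pow_dvd_pow _ (by omega : k ≤ 2)).trans hq2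

/-- General finite order. -/
theorem eq_one_of_pow_eq_one [Module.Finite ℤ E] (n : ℕ) (hn : 3 ≤ n) :
    ∀ (m : ℕ), 0 < m → ∀ u : E, (n : E) ∣ u - 1 → u ^ m = 1 → u = 1 := by
  intro m
  induction m using Nat.strong_induction_on with
  | _ m ih =>
    intro hm u hu hum
    by_cases hm1 : m = 1
    · rw [hm1, pow_one] at hum; exact hum
    · have hm2 : 2 ≤ m := by omega
      have hℓ : (m.minFac).Prime := Nat.minFac_prime hm1
      have hdvd : m.minFac ∣ m := Nat.minFac_dvd m
      obtain ⟨m', hm'⟩ := hdvd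
      have hm'pos : 0 < m' := by
        rcases Nat.eq_zero_or_pos m' with h | h
        · rw [h, mul_zero] at hm'; omega
        · exact h
      have hm'lt : m' < m := by
        rw [hm']
        have := hℓ.two_le
        nlinarith
      have h1 : (n : E) ∣ u ^ m' - 1 := by
        have := sub_dvd_pow_sub_pow u 1 m'
        rw [one_pow] at this
        exact hu.trans this
      have h2 : (1 + (u ^ m' - 1)) ^ m.minFac = 1 := by
        rw [add_sub_cancel, ← pow_mul, mul_comm, ← hm', hum]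
      have h3 := eq_zero_of_prime n hn m.minFac hℓ (u ^ m' - 1) h1 h2
      exact ih m' hm'lt hm'pos u hu (sub_eq_zero.mp h3)

end Groth.Agent.Helper22.Mink
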