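import Mathlib

/-!
# Determinants of products of rectangular matrices lie in the ideal of minors

A weak form of the Cauchy–Binet formula: for `P : s × t` and `Q : t × s` the determinant of `P * Q`
is a linear combination of the determinants of the matrices obtained from `P` by selecting `s`
columns (with repetitions allowed).  In particular it vanishes when `t < s`.
-/

namespace Groth.Agent.Helper22.MinorIdeal

open Matrix Finset

variable {R : Type*} [CommRing R]

theorem det_mul_mem_span {s t : ℕ} (P : Matrix (Fin s) (Fin t) R) (Q : Matrix (Fin t) (Fin s) R) :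
    (P * Q).det ∈ Ideal.span {d | ∃ c : Fin s → Fin t, d = (P.submatrix id c).det} := by
  classical
  rw [← det_transpose]
  have h1 : (P * Q)ᵀ = fun b => ∑ c : Fin t, Q c b • (fun a => P a c) := by
    funext b a
    simp only [Matrix.transpose_apply, Matrix.mul_apply, Finset.sum_apply, Pi.smul_apply,
      smul_eq_mul]
    exact Finset.sum_congr rfl fun c _ => mul_comm _ _
  rw [h1]
  have h2 : Matrix.det (fun b => ∑ c : Fin t, Q c b • (fun a => P a c)) =
      ∑ r : Fin s → Fin t, (∏ b, Q (r b) b) • Matrix.det (fun b => (fun a => P a (r b))) := by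
    have h3 := (Matrix.detRowAlternating (R := R) (n := Fin s)).toMultilinearMap.map_sum
      (fun b c => Q c b • (fun a => P a c))
    refine h3.trans ?_
    refine Finset.sum_congr rfl fun r _ => ?_
    exact (Matrix.detRowAlternating (R := R) (n := Fin s)).toMultilinearMap.map_smul_univ
      (fun b => Q (r b) b) (fun b a => P a (r b))
  rw [h2]
  refine Ideal.sum_mem _ fun r _ => ?_
  rw [smul_eq_mul]
  refine Ideal.mul_mem_left _ _ (Ideal.subset_span ⟨r, ?_⟩)
  rw [← det_transpose]
  rfl

theorem det_mul_eq_zero_of_lt {s t : ℕ} (h : t < s) (P : Matrix (Fin s) (Fin t) R)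
    (Q : Matrix (Fin t) (Fin s) R) : (P * Q).det = 0 := by
  have hmem := det_mul_mem_span P Q
  have hle : Ideal.span {d | ∃ c : Fin s → Fin t, d = (P.submatrix id c).det} ≤ (⊥ : Ideal R) := by
    rw [Ideal.span_le]
    rintro d ⟨c, rfl⟩
    obtain ⟨i, j, hij, hc⟩ := Fintype.exists_ne_map_eq_of_card_lt c (by simpa using h)
    rw [SetLike.mem_coe, Submodule.mem_bot]
    exact Matrix.det_zero_of_column_eq hij (fun k => by simp [hc])
  exact (Submodule.mem_bot R).mp (hle hmem)

end Groth.Agent.Helper22.MinorIdeal
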