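import Groth.Agent.Lib.Helper22.Cocomm
import Groth.Agent.Lib.Helper22.GLBasis
import Groth.Agent.Lib.Helper28.IntegralDescent
import Mathlib

/-!
Commutative, cocommutative Hopf algebras without primitive elements over an algebraically closed
field are diagonalizable; base change of primitives and cocommutativity (helper22).
-/

set_option autoImplicit false
universe u v w

open scoped TensorProduct

namespace Groth.Agent.Helper22.MultType
open Groth.Agent.Helper12 Groth.Agent.Helper22

section Basic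
variable {k : Type u} [Field k] {V : Type w} [AddCommGroup V] [Module k V]
variable {M : Type v} [AddCommGroup M] [Module k M]

theorem tmul_eq_zero_left {e : V} (he : e ≠ 0) {x : M} (h : e ⊗ₜ[k] x = 0) : x = 0 := by
  have hnot : e ∉ (⊥ : Submodule k V) := by simpa using he
  obtain ⟨φ, hφ, -⟩ := Submodule.exists_le_ker_of_notMem hnot
  have h1 := congrArg (fun z => TensorProduct.lid k M (φ.rTensor M z)) h
  simp only [LinearMap.rTensor_tmul, TensorProduct.lid_tmul, map_zero] at h1
  exact (smul_eq_zero.mp h1).resolve_left hφ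

end Basic

section Comod
variable {k : Type u} [Field k] {B : Type v} [CommRing B] [Bialgebra k B]
variable {V : Type w} [AddCommGroup V] [Module k V] [HopfRep.Comod k B V]

theorem isGroupLike_of_coact_eq {v : V} (hv : v ≠ 0) {a : B}
    (h : HopfRep.Comod.coact (k := k) (A := B) v = v ⊗ₜ[k] a) : IsGroupLikeElem k a := by
  refine ⟨?_, ?_⟩
  · have h1 := LinearMap.congr_fun (HopfRep.Comod.counit_comp (k := k) (A := B) (V := V)) v
    simp only [LinearMap.comp_apply, LinearMap.flip_apply, TensorProduct.mk_apply] at h1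
    rw [h, LinearMap.lTensor_tmul] at h1
    have h2 : v ⊗ₜ[k] (Coalgebra.counit (R := k) a - 1) = 0 := by
      rw [TensorProduct.tmul_sub, h1, sub_self]
    exact sub_eq_zero.mp (tmul_eq_zero_left hv h2)
  · have h1 := LinearMap.congr_fun (HopfRep.Comod.coassoc (k := k) (A := B) (V := V)) v
    simp only [LinearMap.comp_apply, LinearEquiv.coe_coe] at h1
    rw [h, LinearMap.rTensor_tmul, h, TensorProduct.assoc_tmul, LinearMap.lTensor_tmul] at h1
    have h2 : v ⊗ₜ[k] (Coalgebra.comul (R := k) a - a ⊗ₜ[k] a) = 0 := by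
      rw [TensorProduct.tmul_sub, ← h1, sub_self]
    exact sub_eq_zero.mp (tmul_eq_zero_left hv h2)

omit [HopfRep.Comod k B V] in
theorem exists_tmul_of_mem_range (e : V) (z : V ⊗[k] B)
    (hz : z ∈ LinearMap.range ((Submodule.span k {e}).subtype.rTensor B)) :
    ∃ f : B, z = e ⊗ₜ[k] f := by
  obtain ⟨y, rfl⟩ := hz
  induction y using TensorProduct.induction_on with
  | zero => exact ⟨0, by simp⟩
  | tmul s b =>
    obtain ⟨c, hc⟩ := Submodule.mem_span_singleton.mp s.2
    refine ⟨c • b, ?_⟩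
    rw [LinearMap.rTensor_tmul, Submodule.subtype_apply, ← hc, TensorProduct.smul_tmul]
  | add y₁ y₂ h₁ h₂ =>
    obtain ⟨a₁, h₁⟩ := h₁
    obtain ⟨a₂, h₂⟩ := h₂
    exact ⟨a₁ + a₂, by rw [map_add, h₁, h₂, TensorProduct.tmul_add]⟩

theorem comul_eq_of_coact {e v : V} (he0 : e ≠ 0) {χ ψ f : B}
    (he : HopfRep.Comod.coact (k := k) (A := B) e = e ⊗ₜ[k] χ) (hψ : IsGroupLikeElem k ψ)
    (hv : HopfRep.Comod.coact (k := k) (A := B) v = v ⊗ₜ[k] ψ + e ⊗ₜ[k] f) :
    Coalgebra.comul (R := k) f = f ⊗ₜ[k] ψ + χ ⊗ₜ[k] f := by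
  have h1 := LinearMap.congr_fun (HopfRep.Comod.coassoc (k := k) (A := B) (V := V)) v
  simp only [LinearMap.comp_apply, LinearEquiv.coe_coe] at h1
  have h1' : v ⊗ₜ[k] (ψ ⊗ₜ[k] ψ) + e ⊗ₜ[k] (f ⊗ₜ[k] ψ) + e ⊗ₜ[k] (χ ⊗ₜ[k] f) =
      v ⊗ₜ[k] (ψ ⊗ₜ[k] ψ) + e ⊗ₜ[k] Coalgebra.comul (R := k) f := by
    simpa only [hv, map_add, LinearMap.rTensor_tmul, LinearMap.lTensor_tmul, he,
      TensorProduct.add_tmul, TensorProduct.assoc_tmul, hψ.comul_eq_tmul_self] using h1
  have h2 : e ⊗ₜ[k] Coalgebra.comul (R := k) f =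
      e ⊗ₜ[k] (f ⊗ₜ[k] ψ) + e ⊗ₜ[k] (χ ⊗ₜ[k] f) :=
    add_left_cancel (h1'.symm.trans (add_assoc _ _ _))
  have h3 : e ⊗ₜ[k] (Coalgebra.comul (R := k) f - (f ⊗ₜ[k] ψ + χ ⊗ₜ[k] f)) = 0 := by
    rw [TensorProduct.tmul_sub, TensorProduct.tmul_add, h2, sub_self]
  exact sub_eq_zero.mp (tmul_eq_zero_left he0 h3)

omit [HopfRep.Comod k B V] in
theorem exists_smul_of_skew [Coalgebra.IsCocomm k B] {χ ψ f : B} (hne : ψ ≠ χ)
    (hf : Coalgebra.comul (R := k) f = f ⊗ₜ[k] ψ + χ ⊗ₜ[k] f) :
    ∃ c : k, f = c • (ψ - χ) := by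
  have hcomm : TensorProduct.comm k B B (Coalgebra.comul (R := k) f) =
      Coalgebra.comul (R := k) f := Coalgebra.comm_comul k f
  rw [hf, map_add, TensorProduct.comm_tmul, TensorProduct.comm_tmul] at hcomm
  have hnot : ψ - χ ∉ (⊥ : Submodule k B) := by
    simpa [sub_eq_zero] using hne
  obtain ⟨l, hl, -⟩ := Submodule.exists_le_ker_of_notMem hnot
  have h1 := congrArg (fun z => TensorProduct.rid k B (LinearMap.lTensor B l z)) hcomm
  simp only [map_add, LinearMap.lTensor_tmul, TensorProduct.rid_tmul] at h1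
  have h2 : l (ψ - χ) • f = l f • (ψ - χ) := by
    rw [map_sub, sub_smul, smul_sub, sub_eq_sub_iff_add_eq_add]
    exact h1.symm
  refine ⟨l f / l (ψ - χ), ?_⟩
  rw [div_eq_inv_mul, mul_smul, ← h2, smul_smul, inv_mul_cancel₀ hl, one_smul]

end Comod

section Hopf
variable {k : Type u} [Field k] {B : Type v} [CommRing B] [HopfAlgebra k B]

theorem eq_zero_of_skew_same
    (hP : ∀ p : B, Coalgebra.comul (R := k) p = p ⊗ₜ[k] (1 : B) + (1 : B) ⊗ₜ[k] p → p = 0)
    {χ f : B} (hχ : IsGroupLikeElem k χ)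
    (hf : Coalgebra.comul (R := k) f = f ⊗ₜ[k] χ + χ ⊗ₜ[k] f) : f = 0 := by
  have hu : IsGroupLikeElem k (HopfAlgebra.antipode k χ) := hχ.antipode
  have huχ : HopfAlgebra.antipode k χ * χ = 1 := hχ.antipode_mul_cancel
  have hp : Coalgebra.comul (R := k) (HopfAlgebra.antipode k χ * f) =
      (HopfAlgebra.antipode k χ * f) ⊗ₜ[k] (1 : B) +
        (1 : B) ⊗ₜ[k] (HopfAlgebra.antipode k χ * f) := by
    rw [Bialgebra.comul_mul, hu.comul_eq_tmul_self, hf, mul_add,
      Algebra.TensorProduct.tmul_mul_tmul, Algebra.TensorProduct.tmul_mul_tmul, huχ]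
  have h0 := hP _ hp
  calc f = (χ * HopfAlgebra.antipode k χ) * f := by rw [hχ.mul_antipode_cancel, one_mul]
    _ = χ * (HopfAlgebra.antipode k χ * f) := mul_assoc _ _ _
    _ = 0 := by rw [h0, mul_zero]

/-- Main lemma: over an algebraically closed field, comodules over a commutative cocommutative
Hopf algebra without nonzero primitive elements are spanned by eigenvectors. -/
theorem span_eigen_eq_top [IsAlgClosed k] [Coalgebra.IsCocomm k B]
    (hP : ∀ p : B, Coalgebra.comul (R := k) p = p ⊗ₜ[k] (1 : B) + (1 : B) ⊗ₜ[k] p → p = 0) :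
    ∀ (n : ℕ) (V : Type w) [AddCommGroup V] [Module k V] [HopfRep.Comod k B V]
      [Module.Finite k V], Module.finrank k V = n →
      Submodule.span k
        {v : V | ∃ a : B, HopfRep.Comod.coact (k := k) (A := B) v = v ⊗ₜ[k] a} = ⊤ := by
  intro n
  induction n using Nat.strong_induction_on with
  | _ n ih =>
    intro V _ _ _ _ hn
    rcases subsingleton_or_nontrivial V with hs | hnt
    · exact Subsingleton.elim _ _
    obtain ⟨S, -, hS⟩ := ComodSS.exists_simple_le (k := k) (C := B) (⊤ : Submodule k V)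
      isSubcomod_top top_ne_bot
    have hSle := Cocomm.simpleSub_le_span_eigen S hS
    obtain ⟨e, he0, χ, he⟩ : ∃ e : V, e ≠ 0 ∧ ∃ χ : B,
        HopfRep.Comod.coact (k := k) (A := B) e = e ⊗ₜ[k] χ := by
      by_contra hcon
      push Not at hcon
      apply hS.2.1
      rw [eq_bot_iff]
      refine hSle.trans ?_
      rw [Submodule.span_le]
      rintro v ⟨a, hv⟩
      show v ∈ (⊥ : Submodule k V)
      rw [Submodule.mem_bot]
      by_contra hv0
      exact hcon v hv0 a hv
    have hχ : IsGroupLikeElem k χ := isGroupLike_of_coact_eq he0 he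
    have hL : HopfRep.IsSubcomod (k := k) (A := B) (Submodule.span k {e}) :=
      Cocomm.isSubcomod_span_eigen e χ he
    letI := quotComod (Submodule.span k {e}) hL
    have hlt : Module.finrank k (V ⧸ Submodule.span k {e}) < n := by
      have h1 := Submodule.finrank_quotient_add_finrank (Submodule.span k {e})
      have h2 : Module.finrank k (Submodule.span k {e}) = 1 := finrank_span_singleton he0
      omega
    have hIH := ih _ hlt (V ⧸ Submodule.span k {e}) rfl
    have heE : e ∈ Submodule.span k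
        {v : V | ∃ a : B, HopfRep.Comod.coact (k := k) (A := B) v = v ⊗ₜ[k] a} :=
      Submodule.subset_span ⟨χ, he⟩
    have hLE : Submodule.span k {e} ≤ Submodule.span k
        {v : V | ∃ a : B, HopfRep.Comod.coact (k := k) (A := B) v = v ⊗ₜ[k] a} := by
      rw [Submodule.span_le]
      intro x hx
      rw [Set.mem_singleton_iff.mp hx]
      exact heE
    have claim : ∀ v : V, (∃ ψ : B, HopfRep.Comod.coact (k := k) (A := B)
        ((Submodule.span k {e}).mkQ v) = (Submodule.span k {e}).mkQ v ⊗ₜ[k] ψ) →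
        v ∈ Submodule.span k
          {v : V | ∃ a : B, HopfRep.Comod.coact (k := k) (A := B) v = v ⊗ₜ[k] a} := by
      rintro v ⟨ψ, hq⟩
      by_cases hq0 : (Submodule.span k {e}).mkQ v = 0
      · exact hLE ((Submodule.Quotient.mk_eq_zero _).mp hq0)
      have hψ : IsGroupLikeElem k ψ := isGroupLike_of_coact_eq hq0 hq
      have h1 : (Submodule.span k {e}).mkQ.rTensor B
          (HopfRep.Comod.coact (k := k) (A := B) v - v ⊗ₜ[k] ψ) = 0 := by
        rw [map_sub, LinearMap.rTensor_tmul, ← quotCoact_mkQ (Submodule.span k {e}) hL v]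
        exact sub_eq_zero.mpr hq
      have h2 := mem_range_rTensor_comap (C := B) (Submodule.span k {e}).mkQ ⊥
        (HopfRep.Comod.coact (k := k) (A := B) v - v ⊗ₜ[k] ψ) (by rw [h1]; exact zero_mem _)
      have h3 : (⊥ : Submodule k (V ⧸ Submodule.span k {e})).comap (Submodule.span k {e}).mkQ =
          Submodule.span k {e} := by
        rw [Submodule.comap_bot, Submodule.ker_mkQ]
      rw [h3] at h2
      obtain ⟨f, hf⟩ := exists_tmul_of_mem_range e _ h2
      have hv : HopfRep.Comod.coact (k := k) (A := B) v = v ⊗ₜ[k] ψ + e ⊗ₜ[k] f := by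
        rw [← hf]; abel
      have hskew := comul_eq_of_coact he0 he hψ hv
      by_cases hψχ : ψ = χ
      · rw [hψχ] at hskew
        have hf0 : f = 0 := eq_zero_of_skew_same hP hχ hskew
        rw [hf0, TensorProduct.tmul_zero, add_zero] at hv
        exact Submodule.subset_span ⟨ψ, hv⟩
      · obtain ⟨c, hc⟩ := exists_smul_of_skew hψχ hskew
        have hv' : HopfRep.Comod.coact (k := k) (A := B) (v + c • e) =
            (v + c • e) ⊗ₜ[k] ψ := by
          rw [map_add, map_smul, hv, he, hc, TensorProduct.add_tmul, TensorProduct.tmul_smul,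
            TensorProduct.tmul_sub, smul_sub, ← TensorProduct.smul_tmul']
          abel
        have hveq : v = (v + c • e) - c • e := by abel
        rw [hveq]
        exact Submodule.sub_mem _ (Submodule.subset_span ⟨ψ, hv'⟩) (Submodule.smul_mem _ c heE)
    have hmap : Submodule.span k {q : V ⧸ Submodule.span k {e} | ∃ a : B,
        HopfRep.Comod.coact (k := k) (A := B) q = q ⊗ₜ[k] a} ≤
        Submodule.map (Submodule.span k {e}).mkQ (Submodule.span k
          {v : V | ∃ a : B, HopfRep.Comod.coact (k := k) (A := B) v = v ⊗ₜ[k] a}) := by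
      rw [Submodule.span_le]
      rintro q ⟨ψ, hq⟩
      obtain ⟨v, rfl⟩ := (Submodule.span k {e}).mkQ_surjective q
      exact ⟨v, claim v ⟨ψ, hq⟩, rfl⟩
    rw [hIH] at hmap
    rw [eq_top_iff]
    intro x _
    obtain ⟨y, hyE, hy⟩ := hmap (Submodule.mem_top : (Submodule.span k {e}).mkQ x ∈ ⊤)
    have hxy : x - y ∈ Submodule.span k {e} := (Submodule.Quotient.eq _).mp hy.symm
    have hxeq : x = y + (x - y) := by abel
    rw [hxeq]
    exact Submodule.add_mem _ hyE (hLE hxy)

end Hopf

end Groth.Agent.Helper22.MultType
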