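import Mathlib
import Groth.Agent.Lib.Helper18.DimFG

/-!
# Nagata-style Noether normalisation with perturbations in the subring of `N`-th powers,
simultaneously over two fields (helper22)
-/

set_option autoImplicit false

open scoped TensorProduct

namespace Groth.Agent.Helper22.NagataPow

universe u

/-- Uniqueness of base-`M` digit expansions (shifted by one place). -/
theorem digits_inj (M : ℕ) : ∀ (n : ℕ) (a0 b0 : ℕ) (a b : Fin n → ℕ), a0 < M → b0 < M →
    (∀ i, a i < M) → (∀ i, b i < M) →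
    a0 + ∑ i, a i * M ^ ((i : ℕ) + 1) = b0 + ∑ i, b i * M ^ ((i : ℕ) + 1) → a0 = b0 ∧ a = b := by
  intro n
  induction n with
  | zero =>
    intro a0 b0 a b _ _ _ _ h
    simp only [Finset.univ_eq_empty, Finset.sum_empty, add_zero] at h
    exact ⟨h, funext fun i => i.elim0⟩
  | succ n ih =>
    intro a0 b0 a b ha0 hb0 ha hb h
    rw [Fin.sum_univ_succ, Fin.sum_univ_succ] at h
    have key : ∀ (c : Fin (n + 1) → ℕ),
        c 0 * M ^ (((0 : Fin (n + 1)) : ℕ) + 1) + ∑ i : Fin n, c i.succ * M ^ ((i.succ : ℕ) + 1)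
          = M * (c 0 + ∑ i : Fin n, c i.succ * M ^ ((i : ℕ) + 1)) := by
      intro c
      rw [mul_add, Finset.mul_sum]
      congr 1
      · simp [mul_comm]
      · apply Finset.sum_congr rfl
        intro i _
        rw [Fin.val_succ]
        ring
    rw [key a, key b] at h
    have h0 : a0 = b0 := by
      have h' := congrArg (· % M) h
      simp only [Nat.add_mul_mod_self_left] at h'
      rwa [Nat.mod_eq_of_lt ha0, Nat.mod_eq_of_lt hb0] at h'
    subst h0
    have hM : 0 < M := lt_of_le_of_lt (Nat.zero_le _) ha0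
    have h' := Nat.eq_of_mul_eq_mul_left hM (Nat.add_left_cancel h)
    obtain ⟨h1, h2⟩ := ih (a 0) (b 0) (fun i => a i.succ) (fun i => b i.succ) (ha 0) (hb 0)
      (fun i => ha _) (fun i => hb _) h'
    refine ⟨rfl, ?_⟩
    funext i
    exact Fin.cases h1 (fun j => congrFun h2 j) i

section Nagata

variable (F : Type*) [CommRing F] (n L : ℕ)

/-- The Nagata substitution `x_i ↦ T^(L^(i+1)) + x_i`, `x_last ↦ T`. -/
noncomputable def sub (j : Fin (n + 1)) : Polynomial (MvPolynomial (Fin n) F) :=
  Fin.lastCases (motive := fun _ => Polynomial (MvPolynomial (Fin n) F)) Polynomial.X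
    (fun i => Polynomial.X ^ (L ^ ((i : ℕ) + 1)) + Polynomial.C (MvPolynomial.X i)) j

theorem sub_last : sub F n L (Fin.last n) = Polynomial.X := by
  simp [sub]

theorem sub_castSucc (i : Fin n) :
    sub F n L i.castSucc = Polynomial.X ^ (L ^ ((i : ℕ) + 1)) + Polynomial.C (MvPolynomial.X i) := by
  simp [sub]

/-- The image of a monomial (up to its coefficient). -/
noncomputable def mon (α : Fin (n + 1) →₀ ℕ) : Polynomial (MvPolynomial (Fin n) F) :=
  (∏ i : Fin n, (Polynomial.X ^ (L ^ ((i : ℕ) + 1)) + Polynomial.C (MvPolynomial.X i)) ^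
    (α i.castSucc)) * Polynomial.X ^ (α (Fin.last n))

/-- The weight of an exponent vector. -/
def wt (α : Fin (n + 1) →₀ ℕ) : ℕ :=
  α (Fin.last n) + ∑ i : Fin n, α i.castSucc * L ^ ((i : ℕ) + 1)

theorem Phi_monomial (α : Fin (n + 1) →₀ ℕ) (c : F) :
    MvPolynomial.aeval (sub F n L) (MvPolynomial.monomial α c) =
      Polynomial.C (MvPolynomial.C c) * mon F n L α := by
  rw [MvPolynomial.aeval_monomial, Finsupp.prod_fintype _ _ (fun i => pow_zero _),
    Fin.prod_univ_castSucc]
  simp only [sub_last, sub_castSucc]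
  rw [Polynomial.algebraMap_apply, MvPolynomial.algebraMap_eq]
  rfl

variable {F n L}

theorem mon_monic (hL : 0 < L) (α : Fin (n + 1) →₀ ℕ) : (mon F n L α).Monic := by
  unfold mon
  exact Polynomial.Monic.mul (Polynomial.monic_prod_of_monic _ _ fun i _ =>
    Polynomial.Monic.pow (Polynomial.monic_X_pow_add_C _ (pow_pos hL _).ne') _)
    (Polynomial.monic_X_pow _)

theorem mon_natDegree [Nontrivial F] (hL : 0 < L) (α : Fin (n + 1) →₀ ℕ) :
    (mon F n L α).natDegree = wt n L α := by
  unfold mon wt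
  rw [Polynomial.Monic.natDegree_mul (Polynomial.monic_prod_of_monic _ _ fun i _ =>
    Polynomial.Monic.pow (Polynomial.monic_X_pow_add_C _ (pow_pos hL _).ne') _)
    (Polynomial.monic_X_pow _),
    Polynomial.natDegree_prod_of_monic _ _ (fun i _ =>
      Polynomial.Monic.pow (Polynomial.monic_X_pow_add_C _ (pow_pos hL _).ne') _),
    Polynomial.natDegree_X_pow, add_comm]
  congr 1
  apply Finset.sum_congr rfl
  intro i _
  rw [Polynomial.Monic.natDegree_pow (Polynomial.monic_X_pow_add_C _ (pow_pos hL _).ne'),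
    Polynomial.natDegree_X_pow_add_C]

theorem wt_inj {α β : Fin (n + 1) →₀ ℕ} (hα : ∀ j, α j < L) (hβ : ∀ j, β j < L)
    (h : wt n L α = wt n L β) : α = β := by
  obtain ⟨h0, h1⟩ := digits_inj L n (α (Fin.last n)) (β (Fin.last n)) (fun i => α i.castSucc)
    (fun i => β i.castSucc) (hα _) (hβ _) (fun i => hα _) (fun i => hβ _) h
  ext j
  exact Fin.lastCases h0 (fun i => congrFun h1 i) j

end Nagata

/-- Evaluating the Nagata substitution recovers the original evaluation. -/
theorem eval_Phi {F : Type*} [CommRing F] {B : Type*} [CommRing B] [Algebra F B] (n L : ℕ)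
    (b : Fin (n + 1) → B) (Q : MvPolynomial (Fin (n + 1)) F) :
    Polynomial.eval₂ (MvPolynomial.aeval (fun i : Fin n => b i.castSucc -
        b (Fin.last n) ^ (L ^ ((i : ℕ) + 1))) : MvPolynomial (Fin n) F →ₐ[F] B).toRingHom
      (b (Fin.last n)) (MvPolynomial.aeval (sub F n L) Q) = MvPolynomial.aeval b Q := by
  have hcomp : (Polynomial.aevalTower (MvPolynomial.aeval (fun i : Fin n => b i.castSucc -
        b (Fin.last n) ^ (L ^ ((i : ℕ) + 1))) : MvPolynomial (Fin n) F →ₐ[F] B)
        (b (Fin.last n))).comp (MvPolynomial.aeval (sub F n L)) = MvPolynomial.aeval b := by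
    apply MvPolynomial.algHom_ext
    intro j
    rw [AlgHom.comp_apply, MvPolynomial.aeval_X, MvPolynomial.aeval_X]
    refine Fin.lastCases ?_ (fun i => ?_) j
    · rw [sub_last, Polynomial.aevalTower_X]
    · rw [sub_castSucc, map_add, map_pow, Polynomial.aevalTower_X, Polynomial.aevalTower_C,
        MvPolynomial.aeval_X]
      ring
  exact DFunLike.congr_fun hcomp Q

theorem Phi_expand {F : Type*} [CommRing F] (n L : ℕ) (P : MvPolynomial (Fin (n + 1)) F) :
    MvPolynomial.aeval (sub F n L) P =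
      ∑ α ∈ P.support, Polynomial.C (MvPolynomial.C (MvPolynomial.coeff α P)) * mon F n L α := by
  conv_lhs => rw [← MvPolynomial.support_sum_monomial_coeff P]
  rw [map_sum]
  exact Finset.sum_congr rfl fun α _ => Phi_monomial F n L α _

/-- After scaling, the Nagata substitution of a nonzero polynomial of small degree is monic. -/
theorem exists_monic_scaling {F : Type*} [Field F] (n L : ℕ) (P : MvPolynomial (Fin (n + 1)) F)
    (hP : P ≠ 0) (hL : P.totalDegree < L) :
    ∃ a : F, (Polynomial.C (MvPolynomial.C a) * MvPolynomial.aeval (sub F n L) P).Monic := by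
  classical
  have hL0 : 0 < L := lt_of_le_of_lt (Nat.zero_le _) hL
  have hsupp : P.support.Nonempty :=
    Finset.nonempty_iff_ne_empty.mpr (fun h => hP (MvPolynomial.support_eq_empty.mp h))
  obtain ⟨α0, hα0, hmax⟩ := Finset.exists_max_image P.support (wt n L) hsupp
  have hlt : ∀ α ∈ P.support, ∀ j, α j < L := fun α hα j =>
    lt_of_le_of_lt ((MvPolynomial.monomial_le_degreeOf j hα).trans
      (MvPolynomial.degreeOf_le_totalDegree P j)) hL
  obtain ⟨c, hc⟩ : ∃ c : F, c = MvPolynomial.coeff α0 P := ⟨_, rfl⟩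
  have hc0 : c ≠ 0 := by
    rw [hc]
    exact MvPolynomial.mem_support_iff.mp hα0
  refine ⟨c⁻¹, ?_⟩
  have e2 : ∀ α, Polynomial.C (MvPolynomial.C c⁻¹) *
      (Polynomial.C (MvPolynomial.C (MvPolynomial.coeff α P)) * mon F n L α) =
        Polynomial.C (MvPolynomial.C (c⁻¹ * MvPolynomial.coeff α P)) * mon F n L α := by
    intro α
    rw [← mul_assoc, ← Polynomial.C_mul, ← MvPolynomial.C_mul]
  have e1 : Polynomial.C (MvPolynomial.C (c⁻¹ * MvPolynomial.coeff α0 P)) * mon F n L α0 =
      mon F n L α0 := by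
    rw [← hc, inv_mul_cancel₀ hc0, MvPolynomial.C_1, Polynomial.C_1, one_mul]
  have hp : Polynomial.C (MvPolynomial.C c⁻¹) * MvPolynomial.aeval (sub F n L) P =
      mon F n L α0 + ∑ α ∈ P.support.erase α0,
        Polynomial.C (MvPolynomial.C (c⁻¹ * MvPolynomial.coeff α P)) * mon F n L α := by
    calc Polynomial.C (MvPolynomial.C c⁻¹) * MvPolynomial.aeval (sub F n L) P
        = ∑ α ∈ P.support,
            Polynomial.C (MvPolynomial.C (c⁻¹ * MvPolynomial.coeff α P)) * mon F n L α := by
          rw [Phi_expand, Finset.mul_sum]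
          exact Finset.sum_congr rfl fun α _ => e2 α
      _ = Polynomial.C (MvPolynomial.C (c⁻¹ * MvPolynomial.coeff α0 P)) * mon F n L α0 +
            ∑ α ∈ P.support.erase α0,
              Polynomial.C (MvPolynomial.C (c⁻¹ * MvPolynomial.coeff α P)) * mon F n L α :=
          (Finset.add_sum_erase P.support (fun α => Polynomial.C (MvPolynomial.C
            (c⁻¹ * MvPolynomial.coeff α P)) * mon F n L α) hα0).symm
      _ = _ := by rw [e1]
  rw [hp]
  apply Polynomial.Monic.add_of_left (mon_monic hL0 α0)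
  rw [Polynomial.degree_eq_natDegree (mon_monic hL0 α0).ne_zero, mon_natDegree hL0,
    Polynomial.degree_lt_iff_coeff_zero]
  intro m hm
  rw [Polynomial.finsetSum_coeff]
  apply Finset.sum_eq_zero
  intro α hα
  rw [Polynomial.coeff_C_mul, Polynomial.coeff_eq_zero_of_natDegree_lt, mul_zero]
  rw [mon_natDegree hL0]
  have hα' := Finset.mem_of_mem_erase hα
  have hne : α ≠ α0 := Finset.ne_of_mem_erase hα
  refine lt_of_lt_of_le (lt_of_le_of_ne (hmax α hα') ?_) hm
  intro heq
  exact hne (wt_inj (hlt α hα') (hlt α0 hα0) heq)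

/-- **Nagata's trick**: if `P(b) = 0` with `P ≠ 0` of total degree `< L`, then the last variable
is integral over the subalgebra generated by the `b_i - b_last^(L^(i+1))`. -/
theorem nagata_integral {F : Type*} [Field F] {B : Type*} [CommRing B] [Algebra F B] (n : ℕ)
    (b : Fin (n + 1) → B) (P : MvPolynomial (Fin (n + 1)) F) (hP : P ≠ 0)
    (hPb : MvPolynomial.aeval b P = 0) (L : ℕ) (hL : P.totalDegree < L) :
    (MvPolynomial.aeval (fun i : Fin n => b i.castSucc - b (Fin.last n) ^ (L ^ ((i : ℕ) + 1))) :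
      MvPolynomial (Fin n) F →ₐ[F] B).toRingHom.IsIntegralElem (b (Fin.last n)) := by
  obtain ⟨a, ha⟩ := exists_monic_scaling n L P hP hL
  refine ⟨_, ha, ?_⟩
  rw [Polynomial.eval₂_mul, eval_Phi, hPb, mul_zero]

/-- If `B` is integral over `F[b]` and every `b_i` is integral over `F[b']`, then `B` is integral
over `F[b']`. -/
theorem isIntegral_of_isIntegralElem_gens {F : Type*} [CommRing F] {B : Type*} [CommRing B]
    [Algebra F B] {n m : ℕ} (b : Fin n → B) (b' : Fin m → B)
    (h1 : (MvPolynomial.aeval b : MvPolynomial (Fin n) F →ₐ[F] B).toRingHom.IsIntegral)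
    (h2 : ∀ i, (MvPolynomial.aeval b' : MvPolynomial (Fin m) F →ₐ[F] B).toRingHom.IsIntegralElem
      (b i)) :
    (MvPolynomial.aeval b' : MvPolynomial (Fin m) F →ₐ[F] B).toRingHom.IsIntegral := by
  letI : Algebra (MvPolynomial (Fin m) F) B :=
    (MvPolynomial.aeval b' : MvPolynomial (Fin m) F →ₐ[F] B).toRingHom.toAlgebra
  have hQ : ∀ Q : MvPolynomial (Fin n) F,
      IsIntegral (MvPolynomial (Fin m) F) (MvPolynomial.aeval b Q) := by
    intro Q
    induction Q using MvPolynomial.induction_on with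
    | C a =>
      have : (MvPolynomial.aeval b (MvPolynomial.C a) : B) =
          algebraMap (MvPolynomial (Fin m) F) B (MvPolynomial.C a) := by
        rw [RingHom.algebraMap_toAlgebra]
        show _ = MvPolynomial.aeval b' (MvPolynomial.C a)
        rw [MvPolynomial.aeval_C, MvPolynomial.aeval_C]
      rw [this]
      exact isIntegral_algebraMap
    | add p q hp hq =>
      rw [map_add]
      exact hp.add hq
    | mul_X p i hp =>
      rw [map_mul, MvPolynomial.aeval_X]
      exact hp.mul (h2 i)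
  intro x
  obtain ⟨p, hpm, hpx⟩ := h1 x
  let A0 := integralClosure (MvPolynomial (Fin m) F) B
  let φ : MvPolynomial (Fin n) F →+* A0 :=
    (MvPolynomial.aeval b : MvPolynomial (Fin n) F →ₐ[F] B).toRingHom.codRestrict A0
      (fun Q => hQ Q)
  have hx0 : IsIntegral A0 x := by
    refine ⟨p.map φ, hpm.map φ, ?_⟩
    rw [Polynomial.eval₂_map]
    exact hpx
  exact isIntegral_trans (R := MvPolynomial (Fin m) F) (A := A0) x hx0

/-- One elimination step over one field. -/
theorem step_field {F : Type*} [Field F] {B : Type*} [CommRing B] [Algebra F B] {n : ℕ}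
    (b : Fin (n + 1) → B) (P : MvPolynomial (Fin (n + 1)) F) (hP : P ≠ 0)
    (hPb : MvPolynomial.aeval b P = 0) (L : ℕ) (hL : P.totalDegree < L)
    (hint : (MvPolynomial.aeval b : MvPolynomial (Fin (n + 1)) F →ₐ[F] B).toRingHom.IsIntegral) :
    (MvPolynomial.aeval (fun i : Fin n => b i.castSucc - b (Fin.last n) ^ (L ^ ((i : ℕ) + 1))) :
      MvPolynomial (Fin n) F →ₐ[F] B).toRingHom.IsIntegral := by
  apply isIntegral_of_isIntegralElem_gens b _ hint
  have hlast := nagata_integral n b P hP hPb L hL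
  intro j
  refine Fin.lastCases hlast (fun i => ?_) j
  letI : Algebra (MvPolynomial (Fin n) F) B :=
    (MvPolynomial.aeval (fun i : Fin n => b i.castSucc - b (Fin.last n) ^ (L ^ ((i : ℕ) + 1))) :
      MvPolynomial (Fin n) F →ₐ[F] B).toRingHom.toAlgebra
  have h1 : IsIntegral (MvPolynomial (Fin n) F) (b (Fin.last n)) := hlast
  have h2 : IsIntegral (MvPolynomial (Fin n) F)
      (algebraMap (MvPolynomial (Fin n) F) B (MvPolynomial.X i)) := isIntegral_algebraMap
  have h3 := h2.add (h1.pow (L ^ ((i : ℕ) + 1)))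
  have h4 : algebraMap (MvPolynomial (Fin n) F) B (MvPolynomial.X i) +
      b (Fin.last n) ^ (L ^ ((i : ℕ) + 1)) = b i.castSucc := by
    rw [RingHom.algebraMap_toAlgebra]
    show MvPolynomial.aeval (fun i : Fin n => b i.castSucc - b (Fin.last n) ^ (L ^ ((i : ℕ) + 1)))
      (MvPolynomial.X i) + _ = _
    rw [MvPolynomial.aeval_X]
    ring
  rw [h4] at h3
  exact h3

/-- More variables than the dimension forces an algebraic relation. -/
theorem exists_relation {F : Type u} [Field F] {B : Type u} [CommRing B] [Algebra F B]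
    [Algebra.FiniteType F B] {d n : ℕ} (h : ringKrullDim B ≤ d) (hdn : d ≤ n)
    (b : Fin (n + 1) → B) :
    ∃ P : MvPolynomial (Fin (n + 1)) F, P ≠ 0 ∧ MvPolynomial.aeval b P = 0 := by
  by_contra hcon
  have hinj : Function.Injective (MvPolynomial.aeval b : MvPolynomial (Fin (n + 1)) F →ₐ[F] B) := by
    rw [injective_iff_map_eq_zero]
    intro P hP
    by_contra hP0
    exact hcon ⟨P, hP0, hP⟩
  have h1 := Groth.Agent.Helper18.DimFG.le_ringKrullDim_of_injective B (n + 1) _ hinj
  have h3 : ((n + 1 : ℕ) : WithBot ℕ∞) ≤ (d : WithBot ℕ∞) := h1.trans h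
  have h4 : n + 1 ≤ d := by exact_mod_cast h3
  omega

/-- Simultaneous Nagata normalisation over two fields with perturbations in the subring of
`N`-th powers. -/
theorem exists_perturbation {R : Type u} [CommRing R] (N : ℕ) (hN : 1 ≤ N) (d : ℕ)
    {F₁ : Type u} [Field F₁] {B₁ : Type u} [CommRing B₁] [Algebra F₁ B₁] [Algebra.FiniteType F₁ B₁]
    {F₂ : Type u} [Field F₂] {B₂ : Type u} [CommRing B₂] [Algebra F₂ B₂] [Algebra.FiniteType F₂ B₂]
    (ψ₁ : R →+* B₁) (ψ₂ : R →+* B₂)
    (h₁ : ringKrullDim B₁ ≤ d) (h₂ : ringKrullDim B₂ ≤ d) :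
    ∀ (n : ℕ) (hdn : d ≤ n) (z : Fin n → R),
      (MvPolynomial.aeval (fun i => ψ₁ (z i)) :
        MvPolynomial (Fin n) F₁ →ₐ[F₁] B₁).toRingHom.IsIntegral →
      (MvPolynomial.aeval (fun i => ψ₂ (z i)) :
        MvPolynomial (Fin n) F₂ →ₐ[F₂] B₂).toRingHom.IsIntegral →
      ∃ y : Fin d → R, (∀ i, y i ∈ Subring.closure (Set.range fun r : R => r ^ N)) ∧
        (MvPolynomial.aeval (fun i => ψ₁ (z (Fin.castLE hdn i) + y i)) :
          MvPolynomial (Fin d) F₁ →ₐ[F₁] B₁).toRingHom.IsIntegral ∧
        (MvPolynomial.aeval (fun i => ψ₂ (z (Fin.castLE hdn i) + y i)) :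
          MvPolynomial (Fin d) F₂ →ₐ[F₂] B₂).toRingHom.IsIntegral := by
  intro n hdn
  induction n, hdn using Nat.le_induction with
  | base =>
    intro z hz1 hz2
    refine ⟨fun _ => 0, fun _ => Subring.zero_mem _, ?_, ?_⟩
    · simpa using hz1
    · simpa using hz2
  | succ n hdn ih =>
    intro z hz1 hz2
    obtain ⟨P1, hP1, hP1b⟩ := exists_relation (F := F₁) h₁ hdn (fun i => ψ₁ (z i))
    obtain ⟨P2, hP2, hP2b⟩ := exists_relation (F := F₂) h₂ hdn (fun i => ψ₂ (z i))
    obtain ⟨M, hM⟩ : ∃ M : ℕ, M = max P1.totalDegree P2.totalDegree + 1 := ⟨_, rfl⟩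
    obtain ⟨L, hLdef⟩ : ∃ L : ℕ, L = N * M := ⟨_, rfl⟩
    have hML : M ≤ L := by
      rw [hLdef]
      exact Nat.le_mul_of_pos_left _ hN
    have hL1 : P1.totalDegree < L := by
      have : P1.totalDegree < M := by
        rw [hM]
        exact Nat.lt_succ_of_le (le_max_left _ _)
      omega
    have hL2 : P2.totalDegree < L := by
      have : P2.totalDegree < M := by
        rw [hM]
        exact Nat.lt_succ_of_le (le_max_right _ _)
      omega
    let z' : Fin n → R := fun i => z i.castSucc - z (Fin.last n) ^ (L ^ ((i : ℕ) + 1))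
    have hz1' : (MvPolynomial.aeval (fun i => ψ₁ (z' i)) :
        MvPolynomial (Fin n) F₁ →ₐ[F₁] B₁).toRingHom.IsIntegral := by
      have h := step_field (fun i => ψ₁ (z i)) P1 hP1 hP1b L hL1 hz1
      have e : (fun i => ψ₁ (z' i)) = fun i : Fin n =>
          ψ₁ (z i.castSucc) - ψ₁ (z (Fin.last n)) ^ (L ^ ((i : ℕ) + 1)) := by
        funext i
        simp only [z', map_sub, map_pow]
      rw [e]
      exact h
    have hz2' : (MvPolynomial.aeval (fun i => ψ₂ (z' i)) :
        MvPolynomial (Fin n) F₂ →ₐ[F₂] B₂).toRingHom.IsIntegral := by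
      have h := step_field (fun i => ψ₂ (z i)) P2 hP2 hP2b L hL2 hz2
      have e : (fun i => ψ₂ (z' i)) = fun i : Fin n =>
          ψ₂ (z i.castSucc) - ψ₂ (z (Fin.last n)) ^ (L ^ ((i : ℕ) + 1)) := by
        funext i
        simp only [z', map_sub, map_pow]
      rw [e]
      exact h
    obtain ⟨y', hy', hy1, hy2⟩ := ih z' hz1' hz2'
    have hkey : ∀ (h' : d ≤ n + 1) (i : Fin d),
        z (Fin.castLE h' i) + (y' i - z (Fin.last n) ^ (L ^ ((i : ℕ) + 1))) =
          z' (Fin.castLE hdn i) + y' i := by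
      intro h' i
      have e1 : (Fin.castLE hdn i).castSucc = Fin.castLE h' i := Fin.ext rfl
      simp only [z']
      rw [e1, Fin.val_castLE]
      ring
    refine ⟨fun i => y' i - z (Fin.last n) ^ (L ^ ((i : ℕ) + 1)), ?_, ?_, ?_⟩
    · intro i
      refine Subring.sub_mem _ (hy' i) ?_
      have : z (Fin.last n) ^ (L ^ ((i : ℕ) + 1)) = (z (Fin.last n) ^ (L ^ (i : ℕ) * M)) ^ N := by
        rw [← pow_mul]
        congr 1
        rw [pow_succ, hLdef]
        ring
      rw [this]
      exact Subring.subset_closure ⟨_, rfl⟩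
    · simp only [hkey]
      exact hy1
    · simp only [hkey]
      exact hy2

/-- The images of `x` together with generators of `R` generate the base change. -/
theorem surjective_aeval_tmul {V : Type*} [CommRing V] {k : Type*} [CommRing k] [Algebra V k]
    {R : Type*} [CommRing R] [Algebra V R] {t : ℕ} (f : MvPolynomial (Fin t) V →ₐ[V] R)
    (hf : Function.Surjective f) {d : ℕ} (x : Fin d → R) :
    Function.Surjective (MvPolynomial.aeval (fun i => (1 : k) ⊗ₜ[V]
      (Fin.append x (fun j => f (MvPolynomial.X j)) i)) :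
        MvPolynomial (Fin (d + t)) k →ₐ[k] k ⊗[V] R) := by
  set G : MvPolynomial (Fin (d + t)) k →ₐ[k] k ⊗[V] R := MvPolynomial.aeval (fun i => (1 : k) ⊗ₜ[V]
      (Fin.append x (fun j => f (MvPolynomial.X j)) i)) with hG
  have h1 : ∀ q : MvPolynomial (Fin t) V, (1 : k) ⊗ₜ[V] f q ∈ G.range := by
    intro q
    induction q using MvPolynomial.induction_on with
    | C v =>
      have : (1 : k) ⊗ₜ[V] f (MvPolynomial.C v) = algebraMap k (k ⊗[V] R) (algebraMap V k v) := by
        rw [← MvPolynomial.algebraMap_eq, AlgHom.commutes, Algebra.TensorProduct.algebraMap_apply,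
          Algebra.algebraMap_self, RingHom.id_apply, Algebra.TensorProduct.tmul_one_eq_one_tmul]
      rw [this]
      exact Subalgebra.algebraMap_mem _ _
    | add p q hp hq =>
      rw [map_add, TensorProduct.tmul_add]
      exact Subalgebra.add_mem _ hp hq
    | mul_X p i hp =>
      have : (1 : k) ⊗ₜ[V] f (p * MvPolynomial.X i) =
          ((1 : k) ⊗ₜ[V] f p) * ((1 : k) ⊗ₜ[V] f (MvPolynomial.X i)) := by
        rw [map_mul, Algebra.TensorProduct.tmul_mul_tmul, mul_one]
      rw [this]
      refine Subalgebra.mul_mem _ hp ((AlgHom.mem_range _).mpr ⟨MvPolynomial.X (Fin.natAdd d i), ?_⟩)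
      rw [hG, MvPolynomial.aeval_X, Fin.append_right]
  intro w
  have hw : w ∈ G.range := by
    induction w using TensorProduct.induction_on with
    | zero => exact Subalgebra.zero_mem _
    | tmul a r =>
      obtain ⟨q, rfl⟩ := hf r
      have : a ⊗ₜ[V] f q = a • ((1 : k) ⊗ₜ[V] f q) := by
        rw [TensorProduct.smul_tmul', smul_eq_mul, mul_one]
      rw [this]
      exact Subalgebra.smul_mem _ (h1 q) a
    | add u v hu hv => exact Subalgebra.add_mem _ hu hv
  exact (AlgHom.mem_range _).mp hw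

/-- Integral and of finite type implies finite, for `aeval`. -/
theorem finite_of_isIntegral {k B : Type*} [CommRing k] [CommRing B] [Algebra k B]
    [Algebra.FiniteType k B] {n : ℕ} (b : Fin n → B)
    (h : (MvPolynomial.aeval b : MvPolynomial (Fin n) k →ₐ[k] B).toRingHom.IsIntegral) :
    (MvPolynomial.aeval b : MvPolynomial (Fin n) k →ₐ[k] B).toRingHom.Finite := by
  apply RingHom.IsIntegral.to_finite h
  apply RingHom.FiniteType.of_comp_finiteType (f := algebraMap k (MvPolynomial (Fin n) k))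
  rw [AlgHom.toRingHom_eq_coe, AlgHom.comp_algebraMap]
  exact RingHom.finiteType_algebraMap.mpr inferInstance

/-- Relative Noether normalisation on two fibres with perturbations by `N`-th powers. -/
theorem main {V : Type u} [CommRing V] (R : Type u) [CommRing R] [Algebra V R]
    [Algebra.FiniteType V R] (k : Type u) [Field k] [Algebra V k] (K : Type u) [Field K]
    [Algebra V K] (d : ℕ) (hs : ringKrullDim (k ⊗[V] R) ≤ d) (hη : ringKrullDim (K ⊗[V] R) ≤ d)
    (x : Fin d → R) (N : ℕ) (hN : 1 ≤ N) :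
    ∃ y : Fin d → R, (∀ i, y i ∈ Subring.closure (Set.range fun r : R => r ^ N)) ∧
      (MvPolynomial.aeval (fun i => (1 : k) ⊗ₜ[V] (x i + y i)) :
        MvPolynomial (Fin d) k →ₐ[k] k ⊗[V] R).toRingHom.Finite ∧
      (MvPolynomial.aeval (fun i => (1 : K) ⊗ₜ[V] (x i + y i)) :
        MvPolynomial (Fin d) K →ₐ[K] K ⊗[V] R).toRingHom.Finite := by
  obtain ⟨t, f, hf⟩ := Algebra.FiniteType.iff_quotient_mvPolynomial''.mp
    (inferInstance : Algebra.FiniteType V R)
  have hsk := surjective_aeval_tmul (k := k) f hf x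
  have hsK := surjective_aeval_tmul (k := K) f hf x
  obtain ⟨y, hy, hy1, hy2⟩ := exists_perturbation N hN d
    (Algebra.TensorProduct.includeRight : R →ₐ[V] k ⊗[V] R).toRingHom
    (Algebra.TensorProduct.includeRight : R →ₐ[V] K ⊗[V] R).toRingHom hs hη (d + t)
    (Nat.le_add_right d t) (Fin.append x (fun j => f (MvPolynomial.X j)))
    (RingHom.isIntegral_of_surjective _ hsk) (RingHom.isIntegral_of_surjective _ hsK)
  have hz : ∀ i : Fin d, Fin.append x (fun j => f (MvPolynomial.X j))
      (Fin.castLE (Nat.le_add_right d t) i) = x i := fun i => Fin.append_left x _ i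
  simp only [hz] at hy1 hy2
  exact ⟨y, hy, finite_of_isIntegral _ hy1, finite_of_isIntegral _ hy2⟩

end Groth.Agent.Helper22.NagataPow
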