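import Mathlib

/-!
Generic lemmas for S14386 (étale maps from the semistable node to the affine line).
-/

set_option autoImplicit false

namespace Groth.Agent.Helper22.NodeA

/-! ### A1: extending a derivation to a localization -/

theorem exists_derivation_localization {R A S : Type*} [CommRing R] [CommRing A] [CommRing S]
    [Algebra R A] [Algebra R S] [Algebra A S] [IsScalarTower R A S]
    (M : Submonoid A) [IsLocalization M S] (d : Derivation R A A) :
    ∃ d' : Derivation R S S, ∀ a : A, d' (algebraMap A S a) = algebraMap A S (d a) := by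
  classical
  let φ : A →+* TrivSqZeroExt S S :=
    { toFun := fun a =>
        TrivSqZeroExt.inl (algebraMap A S a) + TrivSqZeroExt.inr (algebraMap A S (d a))
      map_one' := by
        apply TrivSqZeroExt.ext
        · simp
        · simp
      map_mul' := by
        intro a b
        apply TrivSqZeroExt.ext
        · simp
        · simp only [TrivSqZeroExt.snd_add, TrivSqZeroExt.snd_inl, TrivSqZeroExt.snd_inr,
            TrivSqZeroExt.snd_mul, TrivSqZeroExt.fst_add, TrivSqZeroExt.fst_inl,
            TrivSqZeroExt.fst_inr, Derivation.leibniz, map_add, smul_eq_mul, map_mul,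
            op_smul_eq_mul, zero_add, add_zero]
          ring
      map_zero' := by
        apply TrivSqZeroExt.ext
        · simp
        · simp
      map_add' := by
        intro a b
        apply TrivSqZeroExt.ext
        · simp
        · simp only [TrivSqZeroExt.snd_add, TrivSqZeroExt.snd_inl, TrivSqZeroExt.snd_inr,
            map_add, zero_add] }
  have hφfst : ∀ a : A, (φ a).fst = algebraMap A S a := by
    intro a
    show (TrivSqZeroExt.inl (algebraMap A S a) +
      TrivSqZeroExt.inr (algebraMap A S (d a)) : TrivSqZeroExt S S).fst = _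
    simp only [TrivSqZeroExt.fst_add, TrivSqZeroExt.fst_inl, TrivSqZeroExt.fst_inr, add_zero]
  have hφsnd : ∀ a : A, (φ a).snd = algebraMap A S (d a) := by
    intro a
    show (TrivSqZeroExt.inl (algebraMap A S a) +
      TrivSqZeroExt.inr (algebraMap A S (d a)) : TrivSqZeroExt S S).snd = _
    simp only [TrivSqZeroExt.snd_add, TrivSqZeroExt.snd_inl, TrivSqZeroExt.snd_inr, zero_add]
  have hφ : ∀ y : M, IsUnit (φ y) := by
    intro y
    rw [TrivSqZeroExt.isUnit_iff_isUnit_fst, hφfst]
    exact IsLocalization.map_units S y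
  let Φ : S →+* TrivSqZeroExt S S := IsLocalization.lift hφ
  have hΦ : ∀ a : A, Φ (algebraMap A S a) = φ a := fun a => IsLocalization.lift_eq hφ a
  have hfst : ∀ s : S, (Φ s).fst = s := by
    have h1 : (TrivSqZeroExt.fstHom S S S).toRingHom.comp Φ = RingHom.id S := by
      apply IsLocalization.ringHom_ext M
      ext a
      simp only [RingHom.comp_apply, hΦ, RingHom.id_apply]
      exact hφfst a
    intro s
    exact RingHom.congr_fun h1 s
  have hsndAlg : ∀ r : R, (Φ (algebraMap R S r)).snd = 0 := by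
    intro r
    rw [IsScalarTower.algebraMap_apply R A S, hΦ, hφsnd, Derivation.map_algebraMap, map_zero]
  let L : S →ₗ[R] S :=
    { toFun := fun s => (Φ s).snd
      map_add' := by
        intro s t
        simp
      map_smul' := by
        intro r s
        simp only [RingHom.id_apply]
        rw [Algebra.smul_def, map_mul, TrivSqZeroExt.snd_mul, hfst, hsndAlg, smul_zero, add_zero,
          smul_eq_mul, Algebra.smul_def] }
  refine ⟨Derivation.mk' L ?_, ?_⟩
  · intro s t
    show (Φ (s * t)).snd = s • (Φ t).snd + t • (Φ s).snd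
    rw [map_mul, TrivSqZeroExt.snd_mul, hfst, hfst, op_smul_eq_mul, smul_eq_mul, smul_eq_mul,
      mul_comm (Φ s).snd t]
  · intro a
    show (Φ (algebraMap A S a)).snd = _
    rw [hΦ, hφsnd]

/-! ### A2: derivations and formally unramified algebras -/

theorem derivation_mem_of_formallyUnramified {R A C : Type*} [CommRing R] [CommRing A]
    [CommRing C] [Algebra R A] [Algebra R C] [Algebra A C] [IsScalarTower R A C]
    [Algebra.FormallyUnramified A C] (d : Derivation R C C) (J : Ideal C)
    (hJ : ∀ a : A, d (algebraMap A C a) ∈ J) (c : C) : d c ∈ J := by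
  let L : C →ₗ[A] C ⧸ J :=
    { toFun := fun c => J.mkQ (d c)
      map_add' := by
        intro a b
        rw [map_add, map_add]
      map_smul' := by
        intro a c
        have h0 : J.mkQ (d (algebraMap A C a)) = 0 := by
          rw [Submodule.mkQ_apply, Submodule.Quotient.mk_eq_zero]
          exact hJ a
        simp only [RingHom.id_apply]
        rw [Algebra.smul_def, Derivation.leibniz, map_add, map_smul, map_smul, h0, smul_zero,
          add_zero, algebraMap_smul] }
  let D' : Derivation A C (C ⧸ J) := Derivation.mk' L (by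
    intro a b
    show J.mkQ (d (a * b)) = a • J.mkQ (d b) + b • J.mkQ (d a)
    rw [Derivation.leibniz, map_add, map_smul, map_smul])
  have hsub : Subsingleton (KaehlerDifferential A C) :=
    Algebra.FormallyUnramified.subsingleton_kaehlerDifferential
  have h1 : D' c = 0 := by
    rw [← Derivation.liftKaehlerDifferential_comp_D D' c,
      Subsingleton.elim (KaehlerDifferential.D A C c) 0, map_zero]
  have h2 : J.mkQ (d c) = 0 := h1
  rwa [Submodule.mkQ_apply, Submodule.Quotient.mk_eq_zero] at h2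

/-! ### A3: units in `Localization.Away` -/

theorem exists_mul_eq_pow_of_isUnit_away {B C : Type*} [CommRing B] [CommRing C] [Algebra B C]
    (π : B) [IsLocalization.Away π C] (u : B) (hu : IsUnit (algebraMap B C u)) :
    ∃ (v : B) (n : ℕ), u * v = π ^ n := by
  obtain ⟨w, hw⟩ := hu.exists_right_inv
  obtain ⟨n, b, hb⟩ := IsLocalization.Away.surj π w
  have h1 : algebraMap B C (u * b) = algebraMap B C (π ^ n) := by
    rw [map_mul, ← hb, ← mul_assoc, hw, one_mul, map_pow]
  obtain ⟨m, hm⟩ := IsLocalization.Away.exists_of_eq π h1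
  refine ⟨π ^ m * b, m + n, ?_⟩
  rw [pow_add, ← hm]
  ring

/-! ### A4: the dichotomy -/

theorem dvd_or_dvd_of_mul_eq_pow {B K : Type*} [CommRing B] [CommRing K] [IsDomain K]
    (θ₁ θ₂ : B →+* K) (x y π u : B)
    (hπ : π = x * y) (hreg : ∀ a b : B, π * a = π * b → a = b)
    (h1x : θ₁ x = 0) (h2y : θ₂ y = 0) (h2x : θ₂ x ≠ 0)
    (hk1 : ∀ b, θ₁ b = 0 → x ∣ b) (hk2 : ∀ b, θ₂ b = 0 → y ∣ b)
    (hu : ¬ IsUnit u) :
    ∀ (N : ℕ) (v : B), u * v = π ^ N → x ∣ u ∨ y ∣ u := by
  intro N
  induction N with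
  | zero =>
    intro v hv
    exact absurd (IsUnit.of_mul_eq_one v (by simpa using hv)) hu
  | succ N ih =>
    intro v hv
    have e1 : θ₁ u * θ₁ v = 0 := by
      rw [← map_mul, hv, map_pow, hπ, map_mul, h1x, zero_mul, zero_pow (Nat.succ_ne_zero N)]
    have e2 : θ₂ u * θ₂ v = 0 := by
      rw [← map_mul, hv, map_pow, hπ, map_mul, h2y, mul_zero, zero_pow (Nat.succ_ne_zero N)]
    rcases mul_eq_zero.mp e1 with h | h
    · exact Or.inl (hk1 u h)
    rcases mul_eq_zero.mp e2 with h' | h'
    · exact Or.inr (hk2 u h')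
    obtain ⟨v₁, rfl⟩ := hk1 v h
    have h3 : θ₂ v₁ = 0 := by
      rw [map_mul] at h'
      exact (mul_eq_zero.mp h').resolve_left h2x
    obtain ⟨v₂, rfl⟩ := hk2 v₁ h3
    apply ih v₂
    apply hreg
    rw [← pow_succ', ← hv, hπ]
    ring

/-! ### A5: vanishing of a Kähler differential -/

theorem kaehler_D_eq_zero {V B : Type*} [CommRing V] [CommRing B] [Algebra V B]
    (δ : Derivation V B B) (x y f : B)
    (hx : δ x ∈ Ideal.span {x})
    (hreg : ∀ c : B, c * δ y ∈ Ideal.span {x} → c ∈ Ideal.span {x})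
    (hgen : ∀ b : B, ∃ t : B, IsUnit t ∧ t ∈ Algebra.adjoin V {x, y} ∧
      t * b ∈ Algebra.adjoin V {x, y})
    (hf : δ f ∈ Ideal.span {x}) :
    KaehlerDifferential.D V (B ⧸ Ideal.span {x}) (Ideal.Quotient.mk (Ideal.span {x}) f) = 0 := by
  obtain ⟨J, hJ⟩ : ∃ J : Ideal B, J = Ideal.span {x} := ⟨_, rfl⟩
  rw [← hJ] at hx hreg hf ⊢
  have hxJ : x ∈ J := by rw [hJ]; exact Ideal.subset_span rfl
  let N : Submodule (B ⧸ J) (KaehlerDifferential V (B ⧸ J)) :=
    Submodule.span (B ⧸ J) {KaehlerDifferential.D V (B ⧸ J) (Ideal.Quotient.mk J y)}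
  have step1 : ∀ b ∈ Algebra.adjoin V {x, y},
      KaehlerDifferential.D V (B ⧸ J) (Ideal.Quotient.mk J b) ∈ N := by
    intro b hb
    induction hb using Algebra.adjoin_induction with
    | mem z hz =>
      simp only [Set.mem_insert_iff, Set.mem_singleton_iff] at hz
      rcases hz with hz | hz
      · have h0 : Ideal.Quotient.mk J z = 0 := by
          rw [hz]; exact Ideal.Quotient.eq_zero_iff_mem.mpr hxJ
        rw [h0, map_zero]
        exact N.zero_mem
      · rw [hz]
        exact Submodule.subset_span rfl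
    | algebraMap r =>
      have h0 : Ideal.Quotient.mk J (algebraMap V B r) = algebraMap V (B ⧸ J) r := rfl
      rw [h0, Derivation.map_algebraMap]
      exact N.zero_mem
    | add a b _ _ ha hb =>
      rw [map_add, map_add]
      exact N.add_mem ha hb
    | mul a b _ _ ha hb =>
      rw [map_mul, Derivation.leibniz]
      exact N.add_mem (N.smul_mem _ hb) (N.smul_mem _ ha)
  have step2 : ∀ b : B, KaehlerDifferential.D V (B ⧸ J) (Ideal.Quotient.mk J b) ∈ N := by
    intro b
    obtain ⟨t, ht, ht1, ht2⟩ := hgen b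
    have h1 := step1 _ ht2
    have h2 := step1 _ ht1
    rw [map_mul, Derivation.leibniz] at h1
    have h3 : Ideal.Quotient.mk J t • KaehlerDifferential.D V (B ⧸ J) (Ideal.Quotient.mk J b)
        ∈ N := by
      have h4 := N.sub_mem h1 (N.smul_mem (Ideal.Quotient.mk J b) h2)
      rwa [add_sub_cancel_right] at h4
    have htu : IsUnit (Ideal.Quotient.mk J t) := ht.map (Ideal.Quotient.mk J)
    obtain ⟨w, hw⟩ := htu.exists_left_inv
    have h5 := N.smul_mem w h3
    rwa [smul_smul, hw, one_smul] at h5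
  obtain ⟨c, hc⟩ := Submodule.mem_span_singleton.mp (step2 f)
  obtain ⟨c₀, rfl⟩ := Ideal.Quotient.mk_surjective c
  have hker : ∀ b : B, Ideal.Quotient.mkₐ V J b = 0 → Ideal.Quotient.mkₐ V J (δ b) = 0 := by
    intro b hb
    rw [Ideal.Quotient.mkₐ_eq_mk, Ideal.Quotient.eq_zero_iff_mem] at hb ⊢
    rw [hJ] at hb
    obtain ⟨a, rfl⟩ := Ideal.mem_span_singleton'.mp hb
    rw [Derivation.leibniz, smul_eq_mul, smul_eq_mul]
    exact J.add_mem (J.mul_mem_left _ hx) (J.mul_mem_right _ hxJ)
  let δ' : Derivation V (B ⧸ J) (B ⧸ J) :=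
    Derivation.liftOfSurjective (f := Ideal.Quotient.mkₐ V J) (Ideal.Quotient.mkₐ_surjective V J) hker
  have hδ' : ∀ b, δ' (Ideal.Quotient.mk J b) = Ideal.Quotient.mk J (δ b) := fun b =>
    Derivation.liftOfSurjective_apply (f := Ideal.Quotient.mkₐ V J)
      (Ideal.Quotient.mkₐ_surjective V J) hker b
  have key := congrArg δ'.liftKaehlerDifferential hc
  rw [map_smul, Derivation.liftKaehlerDifferential_comp_D,
    Derivation.liftKaehlerDifferential_comp_D, hδ', hδ', smul_eq_mul, ← map_mul] at key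
  have hf0 : Ideal.Quotient.mk J (δ f) = 0 := Ideal.Quotient.eq_zero_iff_mem.mpr hf
  rw [hf0, Ideal.Quotient.eq_zero_iff_mem] at key
  have hc0 : Ideal.Quotient.mk J c₀ = 0 := Ideal.Quotient.eq_zero_iff_mem.mpr (hreg c₀ key)
  rw [← hc, hc0, zero_smul]

/-! ### A8: derivation-like maps are determined by generators -/

theorem derivLike_ext {V B K : Type*} [CommRing V] [CommRing B] [CommRing K] [Algebra V B]
    (θ : B →+* K) (D₁ D₂ : B → K) (S : Set B)
    (hA₁ : ∀ a b, D₁ (a + b) = D₁ a + D₁ b) (hA₂ : ∀ a b, D₂ (a + b) = D₂ a + D₂ b)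
    (hL₁ : ∀ a b, D₁ (a * b) = θ a * D₁ b + θ b * D₁ a)
    (hL₂ : ∀ a b, D₂ (a * b) = θ a * D₂ b + θ b * D₂ a)
    (hV₁ : ∀ r : V, D₁ (algebraMap V B r) = 0) (hV₂ : ∀ r : V, D₂ (algebraMap V B r) = 0)
    (hS : ∀ z ∈ S, D₁ z = D₂ z)
    (hgen : ∀ b : B, ∃ t : B, IsUnit t ∧ t ∈ Algebra.adjoin V S ∧ t * b ∈ Algebra.adjoin V S) :
    ∀ b, D₁ b = D₂ b := by
  have step1 : ∀ b ∈ Algebra.adjoin V S, D₁ b = D₂ b := by
    intro b hb
    induction hb using Algebra.adjoin_induction with
    | mem z hz => exact hS z hz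
    | algebraMap r => rw [hV₁, hV₂]
    | add a b _ _ ha hb => rw [hA₁, hA₂, ha, hb]
    | mul a b _ _ ha hb => rw [hL₁, hL₂, ha, hb]
  intro b
  obtain ⟨t, ht, ht1, ht2⟩ := hgen b
  have h1 := step1 _ ht2
  have h2 := step1 _ ht1
  rw [hL₁, hL₂, h2] at h1
  have h3 : θ t * D₁ b = θ t * D₂ b := add_right_cancel h1
  exact (ht.map θ).mul_left_cancel h3

theorem intertwine {V B K : Type*} [CommRing V] [CommRing B] [Field K] [Algebra V B]
    (ρ : V →+* K) (θ : B →+* PowerSeries K) (x y : B) (δ : Derivation V B B) (t s : V)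
    (hθx : θ x = 0) (hθy : θ y = PowerSeries.X)
    (hθV : ∀ a : V, θ (algebraMap V B a) = PowerSeries.C (ρ a))
    (hδx : δ x = t • x) (hδy : δ y = s • y)
    (hgen : ∀ b : B, ∃ u : B, IsUnit u ∧ u ∈ Algebra.adjoin V {x, y} ∧
      u * b ∈ Algebra.adjoin V {x, y}) :
    ∀ b, θ (δ b) =
      PowerSeries.C (ρ s) * (PowerSeries.X * PowerSeries.derivative K (θ b)) := by
  apply derivLike_ext (V := V) θ (fun b => θ (δ b))
    (fun b => PowerSeries.C (ρ s) * (PowerSeries.X * PowerSeries.derivative K (θ b))) {x, y}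
  · intro a b
    simp only [map_add]
  · intro a b
    simp only [map_add, mul_add]
  · intro a b
    simp only [Derivation.leibniz, map_add, smul_eq_mul, map_mul]
  · intro a b
    simp only [map_mul, Derivation.leibniz, smul_eq_mul]
    ring
  · intro r
    simp only [Derivation.map_algebraMap, map_zero]
  · intro r
    simp only [hθV, PowerSeries.derivative_C, mul_zero]
  · intro z hz
    simp only [Set.mem_insert_iff, Set.mem_singleton_iff] at hz
    rcases hz with hz | hz
    · simp only [hz, hδx, Algebra.smul_def, map_mul, hθx, mul_zero, map_zero]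
    · simp only [hz, hδy, Algebra.smul_def, map_mul, hθV, hθy, PowerSeries.derivative_X, mul_one]
  · exact hgen

theorem not_isUnit_of_intertwine {B K : Type*} [CommRing B] [Field K]
    (θ : B →+* PowerSeries K) (u : B) (c : K) (G : PowerSeries K)
    (h : θ u = PowerSeries.C c * (PowerSeries.X * G)) : ¬ IsUnit u := by
  intro hu
  have h1 : IsUnit (θ u) := hu.map θ
  rw [PowerSeries.isUnit_iff_constantCoeff, h, map_mul, map_mul, PowerSeries.constantCoeff_X,
    zero_mul, mul_zero] at h1
  exact not_isUnit_zero h1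

/-! ### A6/A7: non-quasi-finiteness -/

theorem not_quasiFinite_of_const {V B K : Type*} [CommRing V] [CommRing B] [Field K]
    [Algebra V B] (θ : B →+* PowerSeries K) (f y : B)
    (hy0 : θ y ≠ 0) (hy1 : PowerSeries.constantCoeff (θ y) = 0)
    (hconst : ∀ p : Polynomial V, ∃ c : K, θ (Polynomial.aeval f p) = PowerSeries.C c) :
    ¬ (Polynomial.aeval f : Polynomial V →ₐ[V] B).toRingHom.QuasiFinite := by
  intro hqf
  letI : Algebra (Polynomial V) B :=
    (Polynomial.aeval f : Polynomial V →ₐ[V] B).toRingHom.toAlgebra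
  haveI : Algebra.QuasiFinite (Polynomial V) B := hqf
  let P₁ : Ideal B := RingHom.ker θ
  let P₂ : Ideal B := RingHom.ker ((PowerSeries.constantCoeff (R := K)).comp θ)
  haveI : P₁.IsPrime := RingHom.ker_isPrime θ
  haveI : P₂.IsPrime := RingHom.ker_isPrime _
  have hle : P₁ ≤ P₂ := by
    intro b hb
    rw [RingHom.mem_ker] at hb ⊢
    rw [RingHom.comp_apply, hb, map_zero]
  have hunder : Ideal.under (Polynomial V) P₁ = Ideal.under (Polynomial V) P₂ := by
    ext p
    rw [Ideal.under_def, Ideal.under_def, Ideal.mem_comap, Ideal.mem_comap, RingHom.mem_ker,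
      RingHom.mem_ker, RingHom.comp_apply]
    have h0 : algebraMap (Polynomial V) B p = Polynomial.aeval f p := rfl
    rw [h0]
    obtain ⟨c, hc⟩ := hconst p
    rw [hc, PowerSeries.constantCoeff_C]
    constructor
    · intro h
      exact (map_eq_zero_iff _ PowerSeries.C_injective).mp h
    · intro h
      rw [h, map_zero]
  have heq := Algebra.QuasiFinite.eq_of_le_of_under_eq P₁ P₂ hle hunder
  have hyP : y ∈ P₁ := by
    rw [heq]
    exact (RingHom.mem_ker).mpr (by rw [RingHom.comp_apply, hy1])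
  exact hy0 ((RingHom.mem_ker).mp hyP)

/-! ### regularity and generation in localizations -/

theorem regular_localization {Q S : Type*} [CommRing Q] [CommRing S] [Algebra Q S]
    (M : Submonoid Q) [IsLocalization M S] (π : Q) (hπ : ∀ q : Q, π * q = 0 → q = 0) :
    ∀ s : S, algebraMap Q S π * s = 0 → s = 0 := by
  intro s hs
  obtain ⟨⟨q, m⟩, rfl⟩ := IsLocalization.mk'_surjective M s
  simp only at hs ⊢
  rw [IsLocalization.mul_mk'_eq_mk'_of_mul, IsLocalization.mk'_eq_zero_iff] at hs
  obtain ⟨m', hm'⟩ := hs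
  rw [IsLocalization.mk'_eq_zero_iff]
  refine ⟨m', hπ _ ?_⟩
  rw [← hm']
  ring

theorem hgen_of_away {V Q B : Type*} [CommRing V] [CommRing Q] [CommRing B] [Algebra V Q]
    [Algebra V B] [Algebra Q B] [IsScalarTower V Q B]
    (h : Q) [IsLocalization.Away h B] (x y : Q) (htop : ∀ q : Q, q ∈ Algebra.adjoin V {x, y}) :
    ∀ b : B, ∃ u : B, IsUnit u ∧ u ∈ Algebra.adjoin V {algebraMap Q B x, algebraMap Q B y} ∧
      u * b ∈ Algebra.adjoin V {algebraMap Q B x, algebraMap Q B y} := by
  have himg : ∀ q : Q, algebraMap Q B q ∈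
      Algebra.adjoin V {algebraMap Q B x, algebraMap Q B y} := by
    intro q
    have h1 : (IsScalarTower.toAlgHom V Q B) q ∈
        Subalgebra.map (IsScalarTower.toAlgHom V Q B) (Algebra.adjoin V {x, y}) :=
      ⟨q, htop q, rfl⟩
    rw [AlgHom.map_adjoin, Set.image_pair] at h1
    exact h1
  intro b
  obtain ⟨n, q, hq⟩ := IsLocalization.Away.surj h b
  refine ⟨algebraMap Q B h ^ n, (IsLocalization.Away.algebraMap_isUnit h).pow n, ?_, ?_⟩
  · rw [← map_pow]
    exact himg _
  · rw [mul_comm, hq]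
    exact himg _

/-! ### one component -/

theorem side {V B K : Type*} [CommRing V] [CommRing B] [Field K] [Algebra V B]
    (ρ : V →+* K) (θ : B →+* PowerSeries K) (x y f : B) (δ : Derivation V B B) (t s : V)
    (hθx : θ x = 0) (hθy : θ y = PowerSeries.X)
    (hθV : ∀ a : V, θ (algebraMap V B a) = PowerSeries.C (ρ a))
    (hker : ∀ b, θ b = 0 → x ∣ b)
    (hδx : δ x = t • x) (hδy : δ y = s • y) (hs : s * s = 1)
    (hgen : ∀ b : B, ∃ u : B, IsUnit u ∧ u ∈ Algebra.adjoin V {x, y} ∧
      u * b ∈ Algebra.adjoin V {x, y})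
    (hdvd : x ∣ δ f) :
    KaehlerDifferential.D V (B ⧸ Ideal.span {x}) (Ideal.Quotient.mk (Ideal.span {x}) f) = 0 ∧
    (CharZero K → ¬ (Polynomial.aeval f : Polynomial V →ₐ[V] B).toRingHom.QuasiFinite) := by
  have hρs : ρ s ≠ 0 := by
    intro h0
    have h1 : ρ (s * s) = 1 := by rw [hs, map_one]
    rw [map_mul, h0, mul_zero] at h1
    exact zero_ne_one h1
  have hCs : (PowerSeries.C (ρ s) : PowerSeries K) ≠ 0 := by
    intro h0
    exact hρs ((map_eq_zero_iff _ PowerSeries.C_injective).mp h0)
  have hX : (PowerSeries.X : PowerSeries K) ≠ 0 := PowerSeries.X_ne_zero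
  have inter := intertwine ρ θ x y δ t s hθx hθy hθV hδx hδy hgen
  have hθspan : ∀ b, b ∈ Ideal.span {x} → θ b = 0 := by
    intro b hb
    obtain ⟨a, rfl⟩ := Ideal.mem_span_singleton'.mp hb
    rw [map_mul, hθx, mul_zero]
  refine ⟨?_, ?_⟩
  · apply kaehler_D_eq_zero δ x y f
    · rw [hδx, Algebra.smul_def]
      exact Ideal.mul_mem_left _ _ (Ideal.subset_span rfl)
    · intro c hc
      rw [Ideal.mem_span_singleton]
      apply hker
      have h1 := hθspan _ hc
      rw [hδy, Algebra.smul_def, map_mul, map_mul, hθV, hθy] at h1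
      rcases mul_eq_zero.mp h1 with h2 | h2
      · exact h2
      · exact absurd h2 (mul_ne_zero hCs hX)
    · exact hgen
    · exact Ideal.mem_span_singleton.mpr hdvd
  · intro hchar
    have h0 : θ (δ f) = 0 := hθspan _ (Ideal.mem_span_singleton.mpr hdvd)
    have h1 : PowerSeries.derivative K (θ f) = 0 := by
      have h2 := inter f
      rw [h0] at h2
      have h3 := (mul_eq_zero.mp h2.symm).resolve_left hCs
      exact (mul_eq_zero.mp h3).resolve_left hX
    have h4 : θ f = PowerSeries.C (PowerSeries.constantCoeff (θ f)) := by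
      ext n
      cases n with
      | zero =>
        rw [PowerSeries.coeff_zero_eq_constantCoeff_apply,
          PowerSeries.coeff_zero_eq_constantCoeff_apply, PowerSeries.constantCoeff_C]
      | succ n =>
        have h5 := PowerSeries.coeff_derivative (θ f) n
        rw [h1, map_zero] at h5
        have h6 : PowerSeries.coeff (n + 1) (θ f) = 0 :=
          (mul_eq_zero.mp h5.symm).resolve_right (Nat.cast_add_one_ne_zero n)
        rw [h6, PowerSeries.coeff_C, if_neg (Nat.succ_ne_zero n)]
    have hconst : ∀ p : Polynomial V, ∃ c : K,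
        θ (Polynomial.aeval f p) = PowerSeries.C c := by
      intro p
      induction p using Polynomial.induction_on with
      | C a =>
        exact ⟨ρ a, by rw [Polynomial.aeval_C, hθV]⟩
      | add p q hp hq =>
        obtain ⟨c₁, h₁⟩ := hp
        obtain ⟨c₂, h₂⟩ := hq
        exact ⟨c₁ + c₂, by rw [map_add, map_add, h₁, h₂, map_add]⟩
      | monomial n a hp =>
        obtain ⟨c, hc⟩ := hp
        refine ⟨c * PowerSeries.constantCoeff (θ f), ?_⟩
        rw [pow_succ, ← mul_assoc, map_mul, map_mul, hc, Polynomial.aeval_X, map_mul, ← h4]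
    exact not_quasiFinite_of_const θ f y (by rw [hθy]; exact hX)
      (by rw [hθy, PowerSeries.constantCoeff_X]) hconst

/-! ### abstract main theorem -/

theorem main_abstract {V B C K : Type*} [CommRing V] [CommRing B] [CommRing C] [Field K]
    [Algebra V B] [Algebra B C] [Algebra V C] [IsScalarTower V B C]
    (ρ : V →+* K) (π : V) [IsLocalization.Away (algebraMap V B π) C]
    (x y f : B) (hπ : algebraMap V B π = x * y)
    (hreg : ∀ b : B, algebraMap V B π * b = 0 → b = 0)
    (δ : Derivation V B B) (s₀ s₁ : V) (hδx : δ x = s₀ • x) (hδy : δ y = s₁ • y)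
    (hs₀ : s₀ * s₀ = 1) (hs₁ : s₁ * s₁ = 1)
    (θ₀ θ₁ : B →+* PowerSeries K)
    (h0x : θ₀ x = 0) (h0y : θ₀ y = PowerSeries.X)
    (h0V : ∀ a, θ₀ (algebraMap V B a) = PowerSeries.C (ρ a)) (h0k : ∀ b, θ₀ b = 0 → x ∣ b)
    (h1y : θ₁ y = 0) (h1x : θ₁ x = PowerSeries.X)
    (h1V : ∀ a, θ₁ (algebraMap V B a) = PowerSeries.C (ρ a)) (h1k : ∀ b, θ₁ b = 0 → y ∣ b)
    (hgen : ∀ b : B, ∃ u : B, IsUnit u ∧ u ∈ Algebra.adjoin V {x, y} ∧
      u * b ∈ Algebra.adjoin V {x, y})
    (hf : ((algebraMap B C).comp
      (Polynomial.aeval f : Polynomial V →ₐ[V] B).toRingHom).Etale) :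
    (KaehlerDifferential.D V (B ⧸ Ideal.span {x}) (Ideal.Quotient.mk (Ideal.span {x}) f) = 0 ∨
     KaehlerDifferential.D V (B ⧸ Ideal.span {y}) (Ideal.Quotient.mk (Ideal.span {y}) f) = 0) ∧
    (CharZero K → ¬ (Polynomial.aeval f : Polynomial V →ₐ[V] B).toRingHom.QuasiFinite) := by
  obtain ⟨δC, hδC⟩ := exists_derivation_localization (R := V) (S := C)
    (Submonoid.powers (algebraMap V B π)) δ
  have hunit : IsUnit (algebraMap B C (δ f)) := by
    let φ : Polynomial V →+* C :=
      (algebraMap B C).comp (Polynomial.aeval f : Polynomial V →ₐ[V] B).toRingHom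
    letI : Algebra (Polynomial V) C := φ.toAlgebra
    haveI : IsScalarTower V (Polynomial V) C := IsScalarTower.of_algebraMap_eq (by
      intro a
      show algebraMap V C a =
        algebraMap B C (Polynomial.aeval f (algebraMap V (Polynomial V) a))
      rw [AlgHom.commutes, ← IsScalarTower.algebraMap_apply])
    haveI : Algebra.Etale (Polynomial V) C := hf
    haveI : Algebra.FormallyUnramified (Polynomial V) C := inferInstance
    let J : Ideal C := Ideal.span {algebraMap B C (δ f)}
    have hJ : ∀ p : Polynomial V, δC (algebraMap (Polynomial V) C p) ∈ J := by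
      intro p
      have h0 : algebraMap (Polynomial V) C p = algebraMap B C (Polynomial.aeval f p) := rfl
      rw [h0, hδC, Derivation.map_aeval, smul_eq_mul, map_mul]
      exact Ideal.mul_mem_left _ _ (Ideal.subset_span rfl)
    have hall := derivation_mem_of_formallyUnramified (R := V) (A := Polynomial V) δC J hJ
    have hxC : algebraMap B C x ∈ J := by
      have h1 := hall (algebraMap B C x)
      rw [hδC, hδx, Algebra.smul_def, map_mul] at h1
      have h2 := J.mul_mem_left (algebraMap B C (algebraMap V B s₀)) h1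
      have h3 : algebraMap B C (algebraMap V B s₀) *
          (algebraMap B C (algebraMap V B s₀) * algebraMap B C x) = algebraMap B C x := by
        rw [← mul_assoc, ← map_mul (algebraMap B C), ← map_mul (algebraMap V B), hs₀, map_one,
          map_one, one_mul]
      rwa [h3] at h2
    have hxunit : IsUnit (algebraMap B C x) := by
      have h1 : IsUnit (algebraMap B C (algebraMap V B π)) :=
        IsLocalization.Away.algebraMap_isUnit _
      rw [hπ, map_mul] at h1
      exact isUnit_of_mul_isUnit_left h1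
    obtain ⟨a, ha⟩ := Ideal.mem_span_singleton'.mp hxC
    rw [← ha] at hxunit
    exact isUnit_of_mul_isUnit_right hxunit
  obtain ⟨v, N, hv⟩ := exists_mul_eq_pow_of_isUnit_away (C := C) (algebraMap V B π) (δ f) hunit
  have inter₀ := intertwine ρ θ₀ x y δ s₀ s₁ h0x h0y h0V hδx hδy hgen
  have hnu : ¬ IsUnit (δ f) := not_isUnit_of_intertwine θ₀ (δ f) _ _ (inter₀ f)
  have hreg' : ∀ a b : B, algebraMap V B π * a = algebraMap V B π * b → a = b := by
    intro a b hab
    have h1 : algebraMap V B π * (a - b) = 0 := by rw [mul_sub, hab, sub_self]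
    exact sub_eq_zero.mp (hreg _ h1)
  have h1xne : θ₁ x ≠ 0 := by
    rw [h1x]
    exact PowerSeries.X_ne_zero
  have hgen' : ∀ b : B, ∃ u : B, IsUnit u ∧ u ∈ Algebra.adjoin V {y, x} ∧
      u * b ∈ Algebra.adjoin V {y, x} := by
    rw [Set.pair_comm y x]
    exact hgen
  rcases dvd_or_dvd_of_mul_eq_pow θ₀ θ₁ x y (algebraMap V B π) (δ f) hπ hreg' h0x h1y h1xne
    h0k h1k hnu N v hv with hd | hd
  · have h := side ρ θ₀ x y f δ s₀ s₁ h0x h0y h0V h0k hδx hδy hs₁ hgen hd
    exact ⟨Or.inl h.1, h.2⟩
  · have h := side ρ θ₁ y x f δ s₁ s₀ h1y h1x h1V h1k hδy hδx hs₀ hgen' hd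
    exact ⟨Or.inr h.1, h.2⟩

end Groth.Agent.Helper22.NodeA
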