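import Mathlib
import Groth.Prelude.Def_W4c5spincurvestfNode
set_option autoImplicit false
universe u

/-!
Normal form in `R[[x,y]]/(xy - π)` for a complete local ring `R` and `π ∈ 𝔪`:
every class is `f(x) + g(y)`, uniquely up to moving a constant.
-/

namespace Groth.Agent.Helper22.NodeNF

open MvPowerSeries

variable {R : Type u} [CommRing R]

/-- the exponent `x^i y^j` -/
noncomputable def mk2 (i j : ℕ) : Fin 2 →₀ ℕ := Finsupp.single 0 i + Finsupp.single 1 j

lemma mk2_zero (i j : ℕ) : mk2 i j 0 = i := by simp [mk2]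

lemma mk2_one (i j : ℕ) : mk2 i j 1 = j := by simp [mk2]

lemma eq_mk2 (d : Fin 2 →₀ ℕ) : d = mk2 (d 0) (d 1) := by
  ext a
  fin_cases a
  · exact (mk2_zero _ _).symm
  · exact (mk2_one _ _).symm

lemma mk2_le (a b i j : ℕ) : mk2 a b ≤ mk2 i j ↔ a ≤ i ∧ b ≤ j := by
  rw [Finsupp.le_def, Fin.forall_fin_two, mk2_zero, mk2_zero, mk2_one, mk2_one]

lemma mk2_sub (a b i j : ℕ) : mk2 i j - mk2 a b = mk2 (i - a) (j - b) := by
  ext c
  fin_cases c
  · show (mk2 i j - mk2 a b) 0 = mk2 (i - a) (j - b) 0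
    rw [Finsupp.tsub_apply, mk2_zero, mk2_zero, mk2_zero]
  · show (mk2 i j - mk2 a b) 1 = mk2 (i - a) (j - b) 1
    rw [Finsupp.tsub_apply, mk2_one, mk2_one, mk2_one]

lemma mk2_i_zero (i : ℕ) : mk2 i 0 = Finsupp.single 0 i := by simp [mk2]

lemma mk2_zero_j (j : ℕ) : mk2 0 j = Finsupp.single 1 j := by simp [mk2]

lemma ext_mk2 {F G : MvPowerSeries (Fin 2) R}
    (h : ∀ i j, coeff (mk2 i j) F = coeff (mk2 i j) G) : F = G := by
  ext d
  have h1 := h (d 0) (d 1)
  rwa [← eq_mk2 d] at h1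

lemma coeff_node_mul (π : R) (H : MvPowerSeries (Fin 2) R) (i j : ℕ) :
    coeff (mk2 i j) ((X 0 * X 1 - C π) * H) =
      (if 1 ≤ i ∧ 1 ≤ j then coeff (mk2 (i - 1) (j - 1)) H else 0) - π * coeff (mk2 i j) H := by
  have hXX : (X 0 * X 1 : MvPowerSeries (Fin 2) R) = monomial (mk2 1 1) 1 := by
    rw [X_def, X_def, monomial_mul_monomial, one_mul]
    rfl
  rw [sub_mul, map_sub, hXX, coeff_monomial_mul, coeff_C_mul]
  congr 1
  by_cases h : 1 ≤ i ∧ 1 ≤ j
  · rw [if_pos h, if_pos ((mk2_le 1 1 i j).mpr h), one_mul, mk2_sub]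
  · rw [if_neg h, if_neg (fun h' => h ((mk2_le 1 1 i j).mp h'))]

section toMv

lemma coeff_toMv_single (a : Fin 2) (u : PowerSeries R) (n : ℕ) :
    coeff (Finsupp.single a n) (PowerSeries.toMvPowerSeries (σ := Fin 2) a u) =
      PowerSeries.coeff n u := by
  have h1 := MvPowerSeries.coeff_embDomain_rename (Function.Embedding.punit a) u
    (Finsupp.single PUnit.unit n)
  rw [Finsupp.embDomain_single] at h1
  exact h1

lemma coeff_toMv_ne (a b : Fin 2) (hb : b ≠ a) (u : PowerSeries R) (d : Fin 2 →₀ ℕ)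
    (hd : d b ≠ 0) : coeff d (PowerSeries.toMvPowerSeries (σ := Fin 2) a u) = 0 := by
  rw [PowerSeries.toMvPowerSeries_apply]
  apply MvPowerSeries.coeff_rename_eq_zero
  rintro ⟨x, hx⟩
  apply hd
  rw [← hx]
  apply Finsupp.mapDomain_of_notMem_range
  rintro ⟨_, h⟩
  exact hb h.symm

lemma coeff_toMv0 (u : PowerSeries R) (i j : ℕ) :
    coeff (mk2 i j) (PowerSeries.toMvPowerSeries (σ := Fin 2) 0 u) =
      if j = 0 then PowerSeries.coeff i u else 0 := by
  by_cases hj : j = 0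
  · subst hj
    rw [if_pos rfl, mk2_i_zero, coeff_toMv_single]
  · rw [if_neg hj]
    exact coeff_toMv_ne 0 1 (by decide) u _ (by rw [mk2_one]; exact hj)

lemma coeff_toMv1 (v : PowerSeries R) (i j : ℕ) :
    coeff (mk2 i j) (PowerSeries.toMvPowerSeries (σ := Fin 2) 1 v) =
      if i = 0 then PowerSeries.coeff j v else 0 := by
  by_cases hi : i = 0
  · subst hi
    rw [if_pos rfl, mk2_zero_j, coeff_toMv_single]
  · rw [if_neg hi]
    exact coeff_toMv_ne 1 0 (by decide) v _ (by rw [mk2_zero]; exact hi)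

end toMv

section Complete

variable [IsLocalRing R] [IsAdicComplete (IsLocalRing.maximalIdeal R) R]

lemma exists_S (π : R) (hπ : π ∈ IsLocalRing.maximalIdeal R) :
    ∃ S : (ℕ → R) → R, ∀ c : ℕ → R, S c = c 0 + π * S (fun n => c (n + 1)) := by
  obtain ⟨P, hPdef⟩ : ∃ P : (ℕ → R) → ℕ → R,
      ∀ c N, P c N = ∑ k ∈ Finset.range N, π ^ k * c k := ⟨_, fun _ _ => rfl⟩
  have hPsucc : ∀ c N, P c (N + 1) = c 0 + π * P (fun n => c (n + 1)) N := by
    intro c N
    rw [hPdef, hPdef, Finset.sum_range_succ', Finset.mul_sum, pow_zero, one_mul, add_comm]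
    congr 1
    apply Finset.sum_congr rfl
    intro k _
    rw [pow_succ]
    ring
  have hPstep : ∀ c n, P c (n + 1) = P c n + π ^ n * c n := by
    intro c n
    rw [hPdef, hPdef, Finset.sum_range_succ]
  have hcauchy : ∀ c (m n : ℕ), m ≤ n →
      P c n - P c m ∈ IsLocalRing.maximalIdeal R ^ m := by
    intro c m n hmn
    induction n, hmn using Nat.le_induction with
    | base =>
      rw [sub_self]
      exact Submodule.zero_mem _
    | succ n hmn ih =>
      have h1 : P c (n + 1) - P c m = (P c n - P c m) + π ^ n * c n := by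
        rw [hPstep]
        ring
      rw [h1]
      refine Ideal.add_mem _ ih (Ideal.mul_mem_right _ _ ?_)
      exact Ideal.pow_le_pow_right hmn (Ideal.pow_mem_pow hπ n)
  have hex : ∀ c : ℕ → R, ∃ L : R, ∀ N, P c N - L ∈ IsLocalRing.maximalIdeal R ^ N := by
    intro c
    obtain ⟨L, hL⟩ := IsPrecomplete.prec
      (inferInstance : IsPrecomplete (IsLocalRing.maximalIdeal R) R) (f := P c) (by
        intro m n hmn
        rw [SModEq.sub_mem, smul_eq_mul, Ideal.mul_top]
        have h1 := hcauchy c m n hmn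
        rw [← neg_sub]
        exact neg_mem h1)
    refine ⟨L, fun N => ?_⟩
    have h1 := hL N
    rw [SModEq.sub_mem, smul_eq_mul, Ideal.mul_top] at h1
    exact h1
  choose S hS using hex
  refine ⟨S, fun c => ?_⟩
  rw [← sub_eq_zero]
  apply IsHausdorff.haus (inferInstance : IsHausdorff (IsLocalRing.maximalIdeal R) R)
  intro N
  rw [SModEq.zero, smul_eq_mul, Ideal.mul_top]
  have h1 := hS c (N + 1)
  have h2 := hS (fun n => c (n + 1)) N
  have h1' : P c (N + 1) - S c ∈ IsLocalRing.maximalIdeal R ^ N :=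
    Ideal.pow_le_pow_right (Nat.le_succ N) h1
  have h3 : S c - (c 0 + π * S (fun n => c (n + 1))) =
      -(P c (N + 1) - S c) + π * (P (fun n => c (n + 1)) N - S (fun n => c (n + 1))) := by
    rw [hPsucc]
    ring
  rw [h3]
  exact Ideal.add_mem _ (neg_mem h1') (Ideal.mul_mem_left _ _ h2)

theorem nf_exists (π : R) (hπ : π ∈ IsLocalRing.maximalIdeal R)
    (F : MvPowerSeries (Fin 2) R) :
    ∃ (u v : PowerSeries R) (H : MvPowerSeries (Fin 2) R),
      F = PowerSeries.toMvPowerSeries (σ := Fin 2) 0 u +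
        PowerSeries.toMvPowerSeries (σ := Fin 2) 1 v + (X 0 * X 1 - C π) * H := by
  obtain ⟨S, hS⟩ := exists_S π hπ
  obtain ⟨c, hcdef⟩ : ∃ c : ℕ → ℕ → ℕ → R,
      ∀ i j n, c i j n = coeff (mk2 (i + n) (j + n)) F := ⟨_, fun _ _ _ => rfl⟩
  have hc : ∀ i j, coeff (mk2 i j) F = S (c i j) - π * S (c (i + 1) (j + 1)) := by
    intro i j
    rw [hS (c i j)]
    have h1 : (fun n => c i j (n + 1)) = c (i + 1) (j + 1) := by
      funext n
      rw [hcdef, hcdef]
      have e1 : i + (n + 1) = i + 1 + n := by omega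
      have e2 : j + (n + 1) = j + 1 + n := by omega
      rw [e1, e2]
    rw [h1, hcdef, Nat.add_zero, Nat.add_zero]
    ring
  obtain ⟨H, hHdef⟩ : ∃ H : MvPowerSeries (Fin 2) R,
      ∀ d, coeff d H = S (c (d 0 + 1) (d 1 + 1)) :=
    ⟨fun d => S (c (d 0 + 1) (d 1 + 1)), fun _ => rfl⟩
  have hH : ∀ i j, coeff (mk2 i j) H = S (c (i + 1) (j + 1)) := by
    intro i j
    rw [hHdef, mk2_zero, mk2_one]
  refine ⟨PowerSeries.mk (fun i => S (c i 0)),
    PowerSeries.mk (fun j => if j = 0 then 0 else S (c 0 j)), H, ?_⟩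
  apply ext_mk2
  intro i j
  rw [map_add, map_add, coeff_toMv0, coeff_toMv1, coeff_node_mul, PowerSeries.coeff_mk,
    PowerSeries.coeff_mk, hc]
  simp only [hH]
  rcases Nat.eq_zero_or_pos i with hi | hi
  · subst hi
    rcases Nat.eq_zero_or_pos j with hj | hj
    · subst hj
      simp
      ring
    · have hj0 : j ≠ 0 := by omega
      simp [hj0]
      ring
  · have hi0 : i ≠ 0 := by omega
    rcases Nat.eq_zero_or_pos j with hj | hj
    · subst hj
      simp [hi0]
      ring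
    · have hj0 : j ≠ 0 := by omega
      have hij : 1 ≤ i ∧ 1 ≤ j := ⟨hi, hj⟩
      rw [if_neg hj0, if_neg hi0, if_pos hij, Nat.sub_add_cancel hi, Nat.sub_add_cancel hj]
      ring

theorem nf_unique (π : R) (hπ : π ∈ IsLocalRing.maximalIdeal R)
    (u v : PowerSeries R) (H : MvPowerSeries (Fin 2) R)
    (h : PowerSeries.toMvPowerSeries (σ := Fin 2) 0 u +
      PowerSeries.toMvPowerSeries (σ := Fin 2) 1 v = (X 0 * X 1 - C π) * H) :
    (∀ i, PowerSeries.coeff (i + 1) u = 0) ∧ (∀ j, PowerSeries.coeff (j + 1) v = 0) ∧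
      PowerSeries.coeff 0 u + PowerSeries.coeff 0 v = 0 := by
  have hco : ∀ i j, (if j = 0 then PowerSeries.coeff i u else 0) +
      (if i = 0 then PowerSeries.coeff j v else 0) =
      (if 1 ≤ i ∧ 1 ≤ j then coeff (mk2 (i - 1) (j - 1)) H else 0) - π * coeff (mk2 i j) H := by
    intro i j
    have h1 := congrArg (coeff (mk2 i j)) h
    rw [map_add, coeff_toMv0, coeff_toMv1, coeff_node_mul] at h1
    exact h1
  have hrec : ∀ i j, coeff (mk2 i j) H = π * coeff (mk2 (i + 1) (j + 1)) H := by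
    intro i j
    have h1 := hco (i + 1) (j + 1)
    rw [if_neg (Nat.succ_ne_zero j), if_neg (Nat.succ_ne_zero i),
      if_pos ⟨Nat.succ_le_succ (Nat.zero_le i), Nat.succ_le_succ (Nat.zero_le j)⟩,
      Nat.add_sub_cancel, Nat.add_sub_cancel, add_zero] at h1
    exact (sub_eq_zero.mp h1.symm)
  have hpow : ∀ n i j, coeff (mk2 i j) H = π ^ n * coeff (mk2 (i + n) (j + n)) H := by
    intro n
    induction n with
    | zero => intro i j; rw [pow_zero, one_mul, Nat.add_zero, Nat.add_zero]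
    | succ n ih =>
      intro i j
      rw [ih i j, hrec (i + n) (j + n), pow_succ]
      have e1 : i + n + 1 = i + (n + 1) := by omega
      have e2 : j + n + 1 = j + (n + 1) := by omega
      rw [e1, e2]
      ring
  have hH0 : ∀ i j, coeff (mk2 i j) H = 0 := by
    intro i j
    apply IsHausdorff.haus (inferInstance : IsHausdorff (IsLocalRing.maximalIdeal R) R)
    intro n
    rw [SModEq.zero, smul_eq_mul, Ideal.mul_top, hpow n i j]
    exact Ideal.mul_mem_right _ _ (Ideal.pow_mem_pow hπ n)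
  refine ⟨fun i => ?_, fun j => ?_, ?_⟩
  · have h1 := hco (i + 1) 0
    rw [if_pos rfl, if_neg (Nat.succ_ne_zero i), add_zero, hH0 (i + 1) 0,
      if_neg (fun h' : 1 ≤ i + 1 ∧ 1 ≤ 0 => absurd h'.2 (by omega)), mul_zero, sub_zero] at h1
    exact h1
  · have h1 := hco 0 (j + 1)
    rw [if_neg (Nat.succ_ne_zero j), if_pos rfl, zero_add, hH0 0 (j + 1),
      if_neg (fun h' : 1 ≤ 0 ∧ 1 ≤ j + 1 => absurd h'.1 (by omega)), mul_zero, sub_zero] at h1
    exact h1
  · have h1 := hco 0 0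
    rw [if_pos rfl, if_pos rfl, hH0 0 0,
      if_neg (fun h' : 1 ≤ 0 ∧ 1 ≤ 0 => absurd h'.1 (by omega)), mul_zero, sub_zero] at h1
    exact h1

end Complete

end Groth.Agent.Helper22.NodeNF
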