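import Mathlib
import Groth.Prelude.Def_W4c5spincurvestfNode
import Groth.Agent.Lib.Helper22.NodeNF
set_option autoImplicit false
universe u

namespace Groth.Agent.Helper22.NodeAlpha

open MvPowerSeries SpinCurv Groth.Agent.Helper22.NodeNF

section Basic

variable (R : Type u) [CommRing R] (π : R)

/-- ring hom version of `ofX` -/
noncomputable def oX : PowerSeries R →+* NodeRing R π :=
  (Ideal.Quotient.mk _).comp (PowerSeries.toMvPowerSeries (σ := Fin 2) (R := R) 0).toRingHom

/-- ring hom version of `ofY` -/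
noncomputable def oY : PowerSeries R →+* NodeRing R π :=
  (Ideal.Quotient.mk _).comp (PowerSeries.toMvPowerSeries (σ := Fin 2) (R := R) 1).toRingHom

lemma ofX_eq (f : PowerSeries R) : NodeRing.ofX R π f = oX R π f := rfl

lemma ofY_eq (g : PowerSeries R) : NodeRing.ofY R π g = oY R π g := rfl

lemma oX_apply (f : PowerSeries R) : oX R π f =
    Ideal.Quotient.mk _ (PowerSeries.toMvPowerSeries (σ := Fin 2) 0 f) := rfl

lemma oY_apply (f : PowerSeries R) : oY R π f =
    Ideal.Quotient.mk _ (PowerSeries.toMvPowerSeries (σ := Fin 2) 1 f) := rfl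

lemma oX_X : oX R π PowerSeries.X = NodeRing.x R π := by
  rw [oX_apply, PowerSeries.toMvPowerSeries_X]

lemma oY_X : oY R π PowerSeries.X = NodeRing.y R π := by
  rw [oY_apply, PowerSeries.toMvPowerSeries_X]

lemma algebraMap_eq (r : R) : algebraMap R (NodeRing R π) r =
    Ideal.Quotient.mk _ (C r : MvPowerSeries (Fin 2) R) := by
  have h : algebraMap R (MvPowerSeries (Fin 2) R) r = C r := by
    rw [MvPowerSeries.algebraMap_apply]
    rfl
  rw [← h]
  rfl

lemma oX_C (r : R) : oX R π (PowerSeries.C r) = algebraMap R (NodeRing R π) r := by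
  rw [oX_apply, PowerSeries.toMvPowerSeries_C, algebraMap_eq]

lemma oY_C (r : R) : oY R π (PowerSeries.C r) = algebraMap R (NodeRing R π) r := by
  rw [oY_apply, PowerSeries.toMvPowerSeries_C, algebraMap_eq]

lemma x_mul_y : NodeRing.x R π * NodeRing.y R π = algebraMap R (NodeRing R π) π := by
  have h : Ideal.Quotient.mk (Ideal.span {(X 0 * X 1 - C π : MvPowerSeries (Fin 2) R)})
      (X 0 * X 1 - C π) = 0 :=
    Ideal.Quotient.eq_zero_iff_mem.mpr (Ideal.subset_span (Set.mem_singleton _))
  rw [map_sub, map_mul, sub_eq_zero] at h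
  rw [algebraMap_eq]
  exact h

variable [IsLocalRing R] [IsAdicComplete (IsLocalRing.maximalIdeal R) R]

theorem nfA (hπ : π ∈ IsLocalRing.maximalIdeal R) (a : NodeRing R π) :
    ∃ u v : PowerSeries R, a = oX R π u + oY R π v := by
  obtain ⟨F, rfl⟩ := Ideal.Quotient.mk_surjective a
  obtain ⟨u, v, H, hF⟩ := nf_exists π hπ F
  refine ⟨u, v, ?_⟩
  have h0 : Ideal.Quotient.mk (Ideal.span {(X 0 * X 1 - C π : MvPowerSeries (Fin 2) R)})
      ((X 0 * X 1 - C π) * H) = 0 :=
    Ideal.Quotient.eq_zero_iff_mem.mpr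
      (Ideal.mul_mem_right _ _ (Ideal.subset_span (Set.mem_singleton _)))
  conv_lhs => rw [hF]
  rw [map_add, map_add, h0, add_zero, oX_apply, oY_apply]

theorem nfA' (hπ : π ∈ IsLocalRing.maximalIdeal R) (a : NodeRing R π) :
    ∃ a₁ a₂ : PowerSeries R, a = oX R π a₁ + NodeRing.y R π * oY R π a₂ := by
  obtain ⟨u, v, h⟩ := nfA R π hπ a
  refine ⟨u + PowerSeries.C (PowerSeries.constantCoeff v),
    PowerSeries.mk (fun n => PowerSeries.coeff (n + 1) v), ?_⟩
  rw [h]
  conv_lhs => rw [PowerSeries.eq_X_mul_shift_add_const v]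
  rw [map_add, map_add, map_mul, oY_X, oY_C, oX_C]
  ring

theorem nfA'' (hπ : π ∈ IsLocalRing.maximalIdeal R) (b : NodeRing R π) :
    ∃ b₁ b₂ : PowerSeries R, b = NodeRing.x R π * oX R π b₁ + oY R π b₂ := by
  obtain ⟨u, v, h⟩ := nfA R π hπ b
  refine ⟨PowerSeries.mk (fun n => PowerSeries.coeff (n + 1) u),
    v + PowerSeries.C (PowerSeries.constantCoeff u), ?_⟩
  rw [h]
  conv_lhs => rw [PowerSeries.eq_X_mul_shift_add_const u]
  rw [map_add, map_add, map_mul, oX_X, oY_C, oX_C]
  ring

theorem nuA (hπ : π ∈ IsLocalRing.maximalIdeal R) (u v : PowerSeries R)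
    (h : oX R π u + oY R π v = 0) :
    (∀ i, PowerSeries.coeff (i + 1) u = 0) ∧ (∀ j, PowerSeries.coeff (j + 1) v = 0) ∧
      PowerSeries.coeff 0 u + PowerSeries.coeff 0 v = 0 := by
  have h1 : Ideal.Quotient.mk (Ideal.span {(X 0 * X 1 - C π : MvPowerSeries (Fin 2) R)})
      (PowerSeries.toMvPowerSeries (σ := Fin 2) 0 u +
        PowerSeries.toMvPowerSeries (σ := Fin 2) 1 v) = 0 := by
    rw [map_add]
    exact h
  rw [Ideal.Quotient.eq_zero_iff_mem, Ideal.mem_span_singleton] at h1
  obtain ⟨H, hH⟩ := h1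
  exact nf_unique π hπ u v H hH

theorem nuX (hπ : π ∈ IsLocalRing.maximalIdeal R) (f g : PowerSeries R)
    (h : oX R π (PowerSeries.X * f) + oY R π g = 0) : f = 0 := by
  obtain ⟨h1, -, -⟩ := nuA R π hπ _ _ h
  refine PowerSeries.ext (fun n => ?_)
  rw [← PowerSeries.coeff_succ_X_mul, h1 n, map_zero]

theorem nuY (hπ : π ∈ IsLocalRing.maximalIdeal R) (f g : PowerSeries R)
    (h : oX R π f + oY R π (PowerSeries.X * g) = 0) : g = 0 := by
  obtain ⟨-, h1, -⟩ := nuA R π hπ _ _ h
  refine PowerSeries.ext (fun n => ?_)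
  rw [← PowerSeries.coeff_succ_X_mul, h1 n, map_zero]

end Basic

section Main

variable (R : Type u) [CommRing R] [IsLocalRing R]
  [IsAdicComplete (IsLocalRing.maximalIdeal R) R] (p q : R)

lemma mulVec_eq (z : Fin 2 → NodeRing R (p * q)) :
    Matrix.mulVec (nodeAlpha R p q) z =
      ![NodeRing.x R (p * q) * z 0 + algebraMap R (NodeRing R (p * q)) p * z 1,
        algebraMap R (NodeRing R (p * q)) q * z 0 + NodeRing.y R (p * q) * z 1] := by
  funext i
  fin_cases i <;> simp [nodeAlpha, Matrix.mulVec, dotProduct, Fin.sum_univ_two]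

lemma hxy : NodeRing.x R (p * q) * NodeRing.y R (p * q) =
    algebraMap R (NodeRing R (p * q)) p * algebraMap R (NodeRing R (p * q)) q := by
  rw [x_mul_y, map_mul]

theorem ker_eq (hp : p ∈ IsLocalRing.maximalIdeal R) :
    LinearMap.ker (Matrix.mulVecLin (nodeAlpha R p q)) =
      Submodule.span (NodeRing R (p * q))
        {![algebraMap R (NodeRing R (p * q)) p, -NodeRing.x R (p * q)],
         ![NodeRing.y R (p * q), -algebraMap R (NodeRing R (p * q)) q]} := by
  have hπ : p * q ∈ IsLocalRing.maximalIdeal R := Ideal.mul_mem_right _ _ hp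
  have hxy' := hxy R p q
  apply le_antisymm
  · intro w hw
    rw [LinearMap.mem_ker, Matrix.mulVecLin_apply, mulVec_eq] at hw
    have hw0 := congrFun hw 0
    have hw1 := congrFun hw 1
    simp only [Matrix.cons_val_zero, Matrix.cons_val_one, Pi.zero_apply] at hw0 hw1
    obtain ⟨a₁, a₂, ha⟩ := nfA' R (p * q) hπ (w 0)
    obtain ⟨b₁, b₂, hb⟩ := nfA'' R (p * q) hπ (w 1)
    have e1 : oX R (p * q) (PowerSeries.X * (a₁ + PowerSeries.C p * b₁)) +
        oY R (p * q) (PowerSeries.C (p * q) * a₂ + PowerSeries.C p * b₂) = 0 := by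
      rw [← hw0, ha, hb]
      simp only [map_mul, map_add, oX_X, oX_C, oY_C]
      linear_combination (-(oY R (p * q) a₂)) * hxy'
    have e2 : oX R (p * q) (PowerSeries.C q * a₁ + PowerSeries.C (p * q) * b₁) +
        oY R (p * q) (PowerSeries.X * (PowerSeries.C q * a₂ + b₂)) = 0 := by
      rw [← hw1, ha, hb]
      simp only [map_mul, map_add, oY_X, oX_C, oY_C]
      linear_combination (-(oX R (p * q) b₁)) * hxy'
    have hA := nuX R (p * q) hπ _ _ e1
    have hB := nuY R (p * q) hπ _ _ e2
    have hA' : oX R (p * q) a₁ = -(algebraMap R (NodeRing R (p * q)) p * oX R (p * q) b₁) := by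
      have := congrArg (oX R (p * q)) hA
      rw [map_add, map_mul (oX R (p * q)), oX_C, map_zero] at this
      exact eq_neg_of_add_eq_zero_left this
    have hB' : oY R (p * q) b₂ = -(algebraMap R (NodeRing R (p * q)) q * oY R (p * q) a₂) := by
      have := congrArg (oY R (p * q)) hB
      rw [map_add, map_mul (oY R (p * q)), oY_C, map_zero] at this
      exact eq_neg_of_add_eq_zero_right this
    rw [Submodule.mem_span_pair]
    refine ⟨-(oX R (p * q) b₁), oY R (p * q) a₂, ?_⟩
    funext i
    fin_cases i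
    · show -(oX R (p * q) b₁) * algebraMap R (NodeRing R (p * q)) p +
        oY R (p * q) a₂ * NodeRing.y R (p * q) = w 0
      rw [ha, hA']
      ring
    · show -(oX R (p * q) b₁) * (-NodeRing.x R (p * q)) +
        oY R (p * q) a₂ * (-algebraMap R (NodeRing R (p * q)) q) = w 1
      rw [hb, hB']
      ring
  · rw [Submodule.span_le]
    intro w hw
    rw [Set.mem_insert_iff, Set.mem_singleton_iff] at hw
    rw [SetLike.mem_coe, LinearMap.mem_ker, Matrix.mulVecLin_apply, mulVec_eq]
    rcases hw with rfl | rfl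
    · funext i
      fin_cases i
      · simp only [Fin.zero_eta, Matrix.cons_val_zero, Matrix.cons_val_one, Pi.zero_apply]
        ring
      · simp only [Fin.mk_one, Matrix.cons_val_zero, Matrix.cons_val_one, Pi.zero_apply]
        linear_combination (-1 : NodeRing R (p * q)) * hxy'
    · funext i
      fin_cases i
      · simp only [Fin.zero_eta, Matrix.cons_val_zero, Matrix.cons_val_one, Pi.zero_apply]
        linear_combination hxy'
      · simp only [Fin.mk_one, Matrix.cons_val_zero, Matrix.cons_val_one, Pi.zero_apply]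
        ring

theorem inj_range (hp : p ∈ IsLocalRing.maximalIdeal R) :
    Function.Injective (fun fg : PowerSeries R × PowerSeries R =>
        Matrix.mulVec (nodeAlpha R p q)
          ![NodeRing.ofX R (p * q) fg.1, NodeRing.ofY R (p * q) fg.2]) ∧
    Set.range (fun fg : PowerSeries R × PowerSeries R =>
        Matrix.mulVec (nodeAlpha R p q)
          ![NodeRing.ofX R (p * q) fg.1, NodeRing.ofY R (p * q) fg.2]) =
      Set.range (Matrix.mulVec (nodeAlpha R p q)) := by
  have hπ : p * q ∈ IsLocalRing.maximalIdeal R := Ideal.mul_mem_right _ _ hp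
  have hxy' := hxy R p q
  constructor
  · rintro ⟨f, g⟩ ⟨f', g'⟩ h
    simp only [ofX_eq, ofY_eq] at h
    rw [mulVec_eq, mulVec_eq] at h
    have h0 := congrFun h 0
    have h1 := congrFun h 1
    simp only [Matrix.cons_val_zero, Matrix.cons_val_one] at h0 h1
    have e1 : oX R (p * q) (PowerSeries.X * (f - f')) +
        oY R (p * q) (PowerSeries.C p * (g - g')) = 0 := by
      simp only [map_mul, map_sub, oX_X, oY_C]
      linear_combination h0
    have e2 : oX R (p * q) (PowerSeries.C q * (f - f')) +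
        oY R (p * q) (PowerSeries.X * (g - g')) = 0 := by
      simp only [map_mul, map_sub, oY_X, oX_C]
      linear_combination h1
    have hf := nuX R (p * q) hπ _ _ e1
    have hg := nuY R (p * q) hπ _ _ e2
    rw [sub_eq_zero.mp hf, sub_eq_zero.mp hg]
  · apply Set.Subset.antisymm
    · rintro w ⟨fg, rfl⟩
      exact ⟨_, rfl⟩
    · rintro w ⟨z, rfl⟩
      obtain ⟨a₁, a₂, ha⟩ := nfA' R (p * q) hπ (z 0)
      obtain ⟨b₁, b₂, hb⟩ := nfA'' R (p * q) hπ (z 1)
      refine ⟨(a₁ + PowerSeries.C p * b₁, PowerSeries.C q * a₂ + b₂), ?_⟩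
      simp only [ofX_eq, ofY_eq]
      rw [mulVec_eq, mulVec_eq]
      funext i
      fin_cases i
      · simp only [Fin.zero_eta, Matrix.cons_val_zero, Matrix.cons_val_one, map_add, map_mul,
          oX_C, oY_C]
        rw [ha, hb]
        linear_combination (-(oY R (p * q) a₂)) * hxy'
      · simp only [Fin.mk_one, Matrix.cons_val_zero, Matrix.cons_val_one, map_add, map_mul,
          oX_C, oY_C]
        rw [ha, hb]
        linear_combination (-(oX R (p * q) b₁)) * hxy'

end Main

end Groth.Agent.Helper22.NodeAlpha
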