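import Mathlib
import Groth.Agent.Lib.Helper22.NodeA

/-!
Concrete structure of the semistable node `V[X₀, X₁]/(X₀X₁ - ϖ)` for S14386.
-/

set_option autoImplicit false
universe u

namespace Groth.Agent.Helper22.NodeB

open MvPolynomial

section Theta

variable (V : Type u) [CommRing V] [IsLocalRing V]

/-- `X_j ↦ Y`, the other variable `↦ 0`, coefficients reduced to the residue field. -/
noncomputable def thetaP (j : Fin 2) :
    MvPolynomial (Fin 2) V →+* PowerSeries (IsLocalRing.ResidueField V) :=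
  MvPolynomial.eval₂Hom ((PowerSeries.C).comp (IsLocalRing.residue V))
    (fun l => if l = j then PowerSeries.X else 0)

lemma thetaP_C (j : Fin 2) (a : V) :
    thetaP V j (C a) = PowerSeries.C (IsLocalRing.residue V a) := by
  rw [thetaP, MvPolynomial.eval₂Hom_C, RingHom.comp_apply]

lemma thetaP_X_self (j : Fin 2) : thetaP V j (X j) = PowerSeries.X := by
  rw [thetaP, MvPolynomial.eval₂Hom_X', if_pos rfl]

lemma thetaP_X_ne (i j : Fin 2) (h : i ≠ j) : thetaP V j (X i) = 0 := by
  rw [thetaP, MvPolynomial.eval₂Hom_X', if_neg h]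

end Theta

section DVR

variable {V : Type u} [CommRing V] [IsDomain V] [IsDiscreteValuationRing V] (ϖ : V)
  (hϖ : Irreducible ϖ)

include hϖ in
lemma residue_unif : IsLocalRing.residue V ϖ = 0 := by
  rw [IsLocalRing.residue_eq_zero_iff, hϖ.maximalIdeal_eq]
  exact Ideal.subset_span rfl

include hϖ in
lemma thetaP_rel (i j : Fin 2) (hne : i ≠ j) : thetaP V j (X i * X j - C ϖ) = 0 := by
  rw [map_sub, map_mul, thetaP_X_ne V i j hne, zero_mul, thetaP_C, residue_unif ϖ hϖ, map_zero,
    sub_zero]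

include hϖ in
theorem mk_mem_span_of_thetaP_eq_zero (i j : Fin 2) (hij : ∀ l : Fin 2, l = i ∨ l = j)
    (I : Ideal (MvPolynomial (Fin 2) V)) (hgI : X i * X j - C ϖ ∈ I)
    (p : MvPolynomial (Fin 2) V) (hp : thetaP V j p = 0) :
    Ideal.Quotient.mk I p ∈ Ideal.span {Ideal.Quotient.mk I (X i)} := by
  classical
  let τ : MvPolynomial (Fin 2) V →ₐ[V] Polynomial V :=
    MvPolynomial.aeval (fun l => if l = j then Polynomial.X else 0)
  let ψ : Polynomial V →ₐ[V] MvPolynomial (Fin 2) V := Polynomial.aeval (X j)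
  have hτX : ∀ l, τ (X l) = if l = j then Polynomial.X else 0 :=
    fun l => MvPolynomial.aeval_X _ l
  have h1 : p - ψ (τ p) ∈ Ideal.span {(X i : MvPolynomial (Fin 2) V)} := by
    have h0 : (Ideal.Quotient.mkₐ V (Ideal.span {(X i : MvPolynomial (Fin 2) V)})).comp
        (ψ.comp τ) = Ideal.Quotient.mkₐ V (Ideal.span {(X i : MvPolynomial (Fin 2) V)}) := by
      apply MvPolynomial.algHom_ext
      intro l
      rw [AlgHom.comp_apply, AlgHom.comp_apply, hτX]
      by_cases hl : l = j
      · rw [if_pos hl, hl]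
        show Ideal.Quotient.mkₐ V _ (Polynomial.aeval (X j) Polynomial.X) = _
        rw [Polynomial.aeval_X]
      · rw [if_neg hl, map_zero, map_zero]
        have hli : l = i := (hij l).resolve_right hl
        rw [hli, eq_comm, Ideal.Quotient.mkₐ_eq_mk, Ideal.Quotient.eq_zero_iff_mem]
        exact Ideal.subset_span rfl
    have h2 := AlgHom.congr_fun h0 p
    rw [AlgHom.comp_apply, AlgHom.comp_apply, Ideal.Quotient.mkₐ_eq_mk] at h2
    rw [← Ideal.Quotient.eq_zero_iff_mem, map_sub, sub_eq_zero]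
    exact h2.symm
  have h2 : ∀ q : MvPolynomial (Fin 2) V, thetaP V j q =
      ((Polynomial.map (IsLocalRing.residue V) (τ q) :
        Polynomial (IsLocalRing.ResidueField V)) :
        PowerSeries (IsLocalRing.ResidueField V)) := by
    have h0 : thetaP V j = (Polynomial.coeToPowerSeries.ringHom).comp
        ((Polynomial.mapRingHom (IsLocalRing.residue V)).comp τ.toRingHom) := by
      apply MvPolynomial.ringHom_ext
      · intro a
        rw [thetaP_C]
        simp [τ]
      · intro l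
        simp only [RingHom.comp_apply, AlgHom.toRingHom_eq_coe, RingHom.coe_coe, hτX]
        by_cases hl : l = j
        · rw [if_pos hl, hl, thetaP_X_self]
          simp
        · rw [if_neg hl, thetaP_X_ne V l j hl]
          simp
    intro q
    rw [h0]
    rfl
  have h3 : τ p ∈ Ideal.span {(Polynomial.C ϖ : Polynomial V)} := by
    have hmap : Polynomial.map (IsLocalRing.residue V) (τ p) = 0 := by
      apply Polynomial.coe_injective
      rw [← h2 p, hp, Polynomial.coe_zero]
    have h4 : τ p ∈ RingHom.ker (Polynomial.mapRingHom (IsLocalRing.residue V)) := by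
      rw [RingHom.mem_ker]
      exact hmap
    rw [Polynomial.ker_mapRingHom, IsLocalRing.ker_residue, hϖ.maximalIdeal_eq, Ideal.map_span,
      Set.image_singleton] at h4
    exact h4
  obtain ⟨r, hr⟩ := Ideal.mem_span_singleton'.mp h3
  obtain ⟨p', hp'⟩ := Ideal.mem_span_singleton'.mp h1
  have hg : Ideal.Quotient.mk I (C ϖ) =
      Ideal.Quotient.mk I (X i) * Ideal.Quotient.mk I (X j) := by
    rw [← map_mul, eq_comm, ← sub_eq_zero, ← map_sub]
    exact Ideal.Quotient.eq_zero_iff_mem.mpr hgI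
  have hψ : ψ (τ p) = ψ r * C ϖ := by
    rw [← hr, map_mul]
    congr 1
    show Polynomial.aeval (X j) (Polynomial.C ϖ) = C ϖ
    rw [Polynomial.aeval_C, MvPolynomial.algebraMap_eq]
  have hpe : p = p' * X i + ψ r * C ϖ := by
    rw [hp', ← hψ]
    ring
  rw [hpe, map_add, map_mul, map_mul, hg, Ideal.mem_span_singleton]
  exact ⟨Ideal.Quotient.mk I p' + Ideal.Quotient.mk I (ψ r) * Ideal.Quotient.mk I (X j),
    by ring⟩

include hϖ in
theorem constantCoeff_thetaP_ne_zero (i j : Fin 2) (hij : ∀ l : Fin 2, l = i ∨ l = j)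
    (I : Ideal (MvPolynomial (Fin 2) V)) (hgI : X i * X j - C ϖ ∈ I)
    (p : MvPolynomial (Fin 2) V)
    (hp : Ideal.Quotient.mk I p ∉
      Ideal.span {Ideal.Quotient.mk I (X i), Ideal.Quotient.mk I (X j)}) :
    PowerSeries.constantCoeff (thetaP V j p) ≠ 0 := by
  classical
  intro h0
  apply hp
  have hε : ∀ q : MvPolynomial (Fin 2) V, PowerSeries.constantCoeff (thetaP V j q) =
      IsLocalRing.residue V (MvPolynomial.constantCoeff q) := by
    have h1 : (PowerSeries.constantCoeff).comp (thetaP V j) =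
        (IsLocalRing.residue V).comp MvPolynomial.constantCoeff := by
      apply MvPolynomial.ringHom_ext
      · intro a
        rw [RingHom.comp_apply, RingHom.comp_apply, thetaP_C, PowerSeries.constantCoeff_C,
          MvPolynomial.constantCoeff_C]
      · intro l
        rw [RingHom.comp_apply, RingHom.comp_apply, MvPolynomial.constantCoeff_X, map_zero]
        by_cases hl : l = j
        · rw [hl, thetaP_X_self, PowerSeries.constantCoeff_X]
        · rw [thetaP_X_ne V l j hl, map_zero]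
    intro q
    exact RingHom.congr_fun h1 q
  rw [hε, IsLocalRing.residue_eq_zero_iff, hϖ.maximalIdeal_eq] at h0
  obtain ⟨c, hc⟩ := Ideal.mem_span_singleton'.mp h0
  have hg : Ideal.Quotient.mk I (C ϖ) =
      Ideal.Quotient.mk I (X i) * Ideal.Quotient.mk I (X j) := by
    rw [← map_mul, eq_comm, ← sub_eq_zero, ← map_sub]
    exact Ideal.Quotient.eq_zero_iff_mem.mpr hgI
  obtain ⟨J', hJ'⟩ : ∃ J' : Ideal (MvPolynomial (Fin 2) V ⧸ I),
      J' = Ideal.span {Ideal.Quotient.mk I (X i), Ideal.Quotient.mk I (X j)} := ⟨_, rfl⟩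
  rw [← hJ']
  have hXmem : ∀ l : Fin 2, Ideal.Quotient.mk I (X l) ∈ J' := by
    intro l
    rw [hJ']
    rcases hij l with hl | hl
    · rw [hl]
      exact Ideal.subset_span (Set.mem_insert _ _)
    · rw [hl]
      exact Ideal.subset_span (Set.mem_insert_of_mem _ rfl)
  have key : ∀ q : MvPolynomial (Fin 2) V, Ideal.Quotient.mk I q -
      Ideal.Quotient.mk I (C (MvPolynomial.constantCoeff q)) ∈ J' := by
    intro q
    induction q using MvPolynomial.induction_on with
    | C a =>
      rw [MvPolynomial.constantCoeff_C, sub_self]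
      exact J'.zero_mem
    | add p q hp hq =>
      have h1 : Ideal.Quotient.mk I (p + q) -
          Ideal.Quotient.mk I (C (MvPolynomial.constantCoeff (p + q))) =
          (Ideal.Quotient.mk I p - Ideal.Quotient.mk I (C (MvPolynomial.constantCoeff p))) +
          (Ideal.Quotient.mk I q - Ideal.Quotient.mk I (C (MvPolynomial.constantCoeff q))) := by
        simp only [map_add]
        ring
      rw [h1]
      exact J'.add_mem hp hq
    | mul_X p l _ =>
      have h1 : MvPolynomial.constantCoeff (p * X l) = 0 := by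
        rw [map_mul, MvPolynomial.constantCoeff_X, mul_zero]
      rw [h1, map_zero, map_zero, sub_zero, map_mul]
      exact J'.mul_mem_left _ (hXmem l)
  have h2 : Ideal.Quotient.mk I p = (Ideal.Quotient.mk I p -
      Ideal.Quotient.mk I (C (MvPolynomial.constantCoeff p))) +
      Ideal.Quotient.mk I (C c) * (Ideal.Quotient.mk I (X i) * Ideal.Quotient.mk I (X j)) := by
    rw [← hg, ← map_mul, ← map_mul, hc]
    ring
  rw [h2]
  exact J'.add_mem (key p) (J'.mul_mem_left _ (J'.mul_mem_left _ (hXmem j)))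

include hϖ in
theorem regular_unif_quot (i j : Fin 2) (I : Ideal (MvPolynomial (Fin 2) V))
    (hI : I = Ideal.span {X i * X j - C ϖ}) :
    ∀ q : MvPolynomial (Fin 2) V ⧸ I,
      algebraMap V (MvPolynomial (Fin 2) V ⧸ I) ϖ * q = 0 → q = 0 := by
  intro q hq
  obtain ⟨p, rfl⟩ := Ideal.Quotient.mk_surjective q
  have h0 : algebraMap V (MvPolynomial (Fin 2) V ⧸ I) ϖ = Ideal.Quotient.mk I (C ϖ) := rfl
  rw [h0, ← map_mul, Ideal.Quotient.eq_zero_iff_mem, hI] at hq
  obtain ⟨r, hr⟩ := Ideal.mem_span_singleton'.mp hq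
  have h1 : MvPolynomial.map (IsLocalRing.residue V) r *
      ((X i : MvPolynomial (Fin 2) (IsLocalRing.ResidueField V)) * X j) = 0 := by
    have h2 := congrArg (MvPolynomial.map (IsLocalRing.residue V)) hr
    rw [map_mul, map_mul, map_sub, map_mul, MvPolynomial.map_X, MvPolynomial.map_X,
      MvPolynomial.map_C, residue_unif ϖ hϖ, map_zero, sub_zero, zero_mul] at h2
    exact h2
  have h2 : MvPolynomial.map (IsLocalRing.residue V) r = 0 :=
    (mul_eq_zero.mp h1).resolve_right (mul_ne_zero (X_ne_zero i) (X_ne_zero j))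
  have h3 : r ∈ Ideal.span {(C ϖ : MvPolynomial (Fin 2) V)} := by
    have h4 : r ∈ RingHom.ker (MvPolynomial.map (σ := Fin 2) (IsLocalRing.residue V)) := h2
    rw [MvPolynomial.ker_map, IsLocalRing.ker_residue, hϖ.maximalIdeal_eq, Ideal.map_span,
      Set.image_singleton] at h4
    exact h4
  obtain ⟨r', hr'⟩ := Ideal.mem_span_singleton'.mp h3
  have hCϖ : (C ϖ : MvPolynomial (Fin 2) V) ≠ 0 := by
    rw [Ne, MvPolynomial.C_eq_zero]
    exact hϖ.ne_zero
  have h5 : p = r' * (X i * X j - C ϖ) := by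
    apply mul_left_cancel₀ hCϖ
    rw [← hr, ← hr']
    ring
  rw [Ideal.Quotient.eq_zero_iff_mem, hI, h5]
  exact Ideal.mul_mem_left _ _ (Ideal.subset_span rfl)

theorem mem_adjoin_quot (i j : Fin 2) (hij : ∀ l : Fin 2, l = i ∨ l = j)
    (I : Ideal (MvPolynomial (Fin 2) V)) (q : MvPolynomial (Fin 2) V ⧸ I) :
    q ∈ Algebra.adjoin V {Ideal.Quotient.mk I (X i), Ideal.Quotient.mk I (X j)} := by
  obtain ⟨p, rfl⟩ := Ideal.Quotient.mk_surjective q
  induction p using MvPolynomial.induction_on with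
  | C a =>
    have h0 : Ideal.Quotient.mk I (C a) = algebraMap V (MvPolynomial (Fin 2) V ⧸ I) a := rfl
    rw [h0]
    exact Subalgebra.algebraMap_mem _ a
  | add p q hp hq =>
    rw [map_add]
    exact Subalgebra.add_mem _ hp hq
  | mul_X p l hp =>
    rw [map_mul]
    refine Subalgebra.mul_mem _ hp (Algebra.subset_adjoin ?_)
    rcases hij l with hl | hl
    · rw [hl]
      exact Set.mem_insert _ _
    · rw [hl]
      exact Set.mem_insert_of_mem _ rfl

theorem exists_deltaQ (I : Ideal (MvPolynomial (Fin 2) V))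
    (hI : I = Ideal.span {X 0 * X 1 - C ϖ}) :
    ∃ δ : Derivation V (MvPolynomial (Fin 2) V ⧸ I) (MvPolynomial (Fin 2) V ⧸ I),
      δ (Ideal.Quotient.mk I (X 0)) = (1 : V) • Ideal.Quotient.mk I (X 0) ∧
      δ (Ideal.Quotient.mk I (X 1)) = (-1 : V) • Ideal.Quotient.mk I (X 1) := by
  classical
  let d₀ : Derivation V (MvPolynomial (Fin 2) V) (MvPolynomial (Fin 2) V) :=
    MvPolynomial.mkDerivation V (fun l : Fin 2 => if l = 0 then X 0 else - X 1)
  have hd0 : d₀ (X 0) = X 0 := by
    rw [MvPolynomial.mkDerivation_X, if_pos rfl]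
  have hd1 : d₀ (X 1) = - X 1 := by
    rw [MvPolynomial.mkDerivation_X, if_neg (by decide)]
  have hdC : d₀ (C ϖ) = 0 := by
    rw [← MvPolynomial.algebraMap_eq]
    exact d₀.map_algebraMap ϖ
  have hdg : d₀ (X 0 * X 1 - C ϖ) = 0 := by
    rw [map_sub, Derivation.leibniz, hd0, hd1, hdC, smul_eq_mul, smul_eq_mul]
    ring
  have hker : ∀ p : MvPolynomial (Fin 2) V,
      Ideal.Quotient.mkₐ V I p = 0 → Ideal.Quotient.mkₐ V I (d₀ p) = 0 := by
    intro p hp
    rw [Ideal.Quotient.mkₐ_eq_mk, Ideal.Quotient.eq_zero_iff_mem] at hp ⊢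
    rw [hI] at hp
    obtain ⟨a, rfl⟩ := Ideal.mem_span_singleton'.mp hp
    rw [Derivation.leibniz, hdg, smul_zero, zero_add, smul_eq_mul, hI]
    exact Ideal.mul_mem_right _ _ (Ideal.subset_span rfl)
  let δ : Derivation V (MvPolynomial (Fin 2) V ⧸ I) (MvPolynomial (Fin 2) V ⧸ I) :=
    Derivation.liftOfSurjective (f := Ideal.Quotient.mkₐ V I)
      (Ideal.Quotient.mkₐ_surjective V I) hker
  have hδ : ∀ p, δ (Ideal.Quotient.mk I p) = Ideal.Quotient.mk I (d₀ p) := fun p =>
    Derivation.liftOfSurjective_apply (f := Ideal.Quotient.mkₐ V I)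
      (Ideal.Quotient.mkₐ_surjective V I) hker p
  refine ⟨δ, ?_, ?_⟩
  · rw [hδ, hd0, one_smul]
  · rw [hδ, hd1, map_neg, neg_smul, one_smul]

include hϖ in
theorem exists_thetaB (i j : Fin 2) (hij : ∀ l : Fin 2, l = i ∨ l = j) (hne : i ≠ j)
    (I : Ideal (MvPolynomial (Fin 2) V)) (hI : I = Ideal.span {X i * X j - C ϖ})
    (h : MvPolynomial (Fin 2) V ⧸ I)
    (hh : h ∉ Ideal.span {Ideal.Quotient.mk I (X i), Ideal.Quotient.mk I (X j)}) :
    ∃ θ : Localization.Away h →+* PowerSeries (IsLocalRing.ResidueField V),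
      θ (algebraMap (MvPolynomial (Fin 2) V ⧸ I) (Localization.Away h)
        (Ideal.Quotient.mk I (X i))) = 0 ∧
      θ (algebraMap (MvPolynomial (Fin 2) V ⧸ I) (Localization.Away h)
        (Ideal.Quotient.mk I (X j))) = PowerSeries.X ∧
      (∀ a : V, θ (algebraMap V (Localization.Away h) a) =
        PowerSeries.C (IsLocalRing.residue V a)) ∧
      (∀ b, θ b = 0 → algebraMap (MvPolynomial (Fin 2) V ⧸ I) (Localization.Away h)
        (Ideal.Quotient.mk I (X i)) ∣ b) := by
  have hgI : X i * X j - C ϖ ∈ I := by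
    rw [hI]
    exact Ideal.subset_span rfl
  have hkill : ∀ a ∈ I, thetaP V j a = 0 := by
    intro a ha
    rw [hI] at ha
    obtain ⟨c, rfl⟩ := Ideal.mem_span_singleton'.mp ha
    rw [map_mul, thetaP_rel ϖ hϖ i j hne, mul_zero]
  let θQ : MvPolynomial (Fin 2) V ⧸ I →+* PowerSeries (IsLocalRing.ResidueField V) :=
    Ideal.Quotient.lift I (thetaP V j) hkill
  have hθQ : ∀ p, θQ (Ideal.Quotient.mk I p) = thetaP V j p :=
    fun p => Ideal.Quotient.lift_mk I _ hkill
  have hunit : IsUnit (θQ h) := by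
    obtain ⟨p, rfl⟩ := Ideal.Quotient.mk_surjective h
    rw [hθQ, PowerSeries.isUnit_iff_constantCoeff, isUnit_iff_ne_zero]
    exact constantCoeff_thetaP_ne_zero ϖ hϖ i j hij I hgI p hh
  let θ : Localization.Away h →+* PowerSeries (IsLocalRing.ResidueField V) :=
    IsLocalization.Away.lift h hunit
  have hθ : ∀ q, θ (algebraMap (MvPolynomial (Fin 2) V ⧸ I) (Localization.Away h) q) = θQ q :=
    fun q => IsLocalization.Away.lift_eq h hunit q
  refine ⟨θ, ?_, ?_, ?_, ?_⟩
  · rw [hθ, hθQ, thetaP_X_ne V i j hne]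
  · rw [hθ, hθQ, thetaP_X_self]
  · intro a
    rw [IsScalarTower.algebraMap_apply V (MvPolynomial (Fin 2) V ⧸ I) (Localization.Away h), hθ]
    have h0 : algebraMap V (MvPolynomial (Fin 2) V ⧸ I) a = Ideal.Quotient.mk I (C a) := rfl
    rw [h0, hθQ, thetaP_C]
  · intro b hb
    obtain ⟨n, q, hq⟩ := IsLocalization.Away.surj h b
    have h1 : θQ q = 0 := by
      rw [← hθ, ← hq, map_mul, hb, zero_mul]
    obtain ⟨p, rfl⟩ := Ideal.Quotient.mk_surjective q
    rw [hθQ] at h1
    have h2 := mk_mem_span_of_thetaP_eq_zero ϖ hϖ i j hij I hgI p h1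
    obtain ⟨a, ha⟩ := Ideal.mem_span_singleton'.mp h2
    have h3 : algebraMap (MvPolynomial (Fin 2) V ⧸ I) (Localization.Away h)
        (Ideal.Quotient.mk I (X i)) ∣
        b * algebraMap (MvPolynomial (Fin 2) V ⧸ I) (Localization.Away h) h ^ n := by
      rw [hq, ← ha, map_mul]
      exact Dvd.intro_left _ rfl
    exact (IsUnit.dvd_mul_right ((IsLocalization.Away.algebraMap_isUnit h).pow n)).mp h3

end DVR

end Groth.Agent.Helper22.NodeB
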