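import Mathlib

/-!
# Cancelling a pushout square in `IsBaseChange`

If `A → A'`, `A → B`, `B' = A' ⊗_A B` is a pushout square of commutative rings, `M` is a
`B`-module, `M'` a `B'`-module and `g : M → M'` is `B`-linear, then `g` is a base change along
`B → B'` as soon as it is a base change along `A → A'`.
-/

namespace Groth.Agent.Helper22.PushoutBC

universe u

theorem isBaseChange_of_isPushout
    {A A' B B' : Type u} [CommRing A] [CommRing A'] [CommRing B] [CommRing B']
    [Algebra A A'] [Algebra A B] [Algebra A' B'] [Algebra B B'] [Algebra A B']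
    [IsScalarTower A A' B'] [IsScalarTower A B B']
    (hB : Algebra.IsPushout A A' B B')
    {M M' : Type u} [AddCommGroup M] [AddCommGroup M']
    [Module A M] [Module B M] [IsScalarTower A B M]
    [Module A M'] [Module A' M'] [Module B M'] [Module B' M']
    [IsScalarTower A A' M'] [IsScalarTower A B M'] [IsScalarTower B B' M']
    [IsScalarTower A' B' M']
    (g : M →ₗ[B] M') (hg : IsBaseChange A' (g.restrictScalars A)) :
    IsBaseChange B' g := by
  apply IsBaseChange.of_lift_unique
  intro Q _ _ _ _ h
  letI instA'Q : Module A' Q := Module.compHom Q (algebraMap A' B')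
  letI instAQ : Module A Q := Module.compHom Q (algebraMap A B)
  haveI : IsScalarTower A' B' Q := IsScalarTower.of_algebraMap_smul fun _ _ => rfl
  haveI : IsScalarTower A B Q := IsScalarTower.of_algebraMap_smul fun _ _ => rfl
  haveI : IsScalarTower A A' Q := IsScalarTower.of_algebraMap_smul fun a q => by
    change algebraMap A' B' (algebraMap A A' a) • q = algebraMap A B a • q
    rw [← IsScalarTower.algebraMap_apply A A' B', IsScalarTower.algebraMap_apply A B B',
      algebraMap_smul]
  let h' : M' →ₗ[A'] Q := hg.lift (h.restrictScalars A)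
  have h'g : ∀ m, h' (g m) = h m := fun m => hg.lift_eq (h.restrictScalars A) m
  have key : ∀ (b' : B') (m' : M'), h' (b' • m') = b' • h' m' := by
    intro b'
    refine hB.out.inductionOn b' (fun b' => ∀ m' : M', h' (b' • m') = b' • h' m') ?_ ?_ ?_ ?_
    · intro m'
      rw [zero_smul, map_zero, zero_smul]
    · intro b m'
      change h' (algebraMap B B' b • m') = algebraMap B B' b • h' m'
      refine hg.inductionOn m'
        (fun m' => h' (algebraMap B B' b • m') = algebraMap B B' b • h' m') ?_ ?_ ?_ ?_
      · rw [smul_zero, map_zero, smul_zero]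
      · intro m
        change h' (algebraMap B B' b • g m) = algebraMap B B' b • h' (g m)
        rw [algebraMap_smul, algebraMap_smul, ← g.map_smul, h'g, h'g, h.map_smul]
      · intro a' n ih
        rw [smul_comm (algebraMap B B' b) a' n, map_smul, ih, map_smul, smul_comm]
      · intro n₁ n₂ h₁ h₂
        rw [smul_add, map_add, h₁, h₂, map_add, smul_add]
    · intro a' b'' ih m'
      rw [smul_assoc, map_smul, ih, smul_assoc]
    · intro b₁ b₂ h₁ h₂ m'
      rw [add_smul, map_add, h₁, h₂, add_smul]
  let h'' : M' →ₗ[B'] Q :=
    { toFun := h'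
      map_add' := h'.map_add
      map_smul' := key }
  refine ⟨h'', ?_, ?_⟩
  · ext m
    exact h'g m
  · intro y hy
    ext m'
    refine hg.inductionOn m' (fun m' => y m' = h'' m') ?_ ?_ ?_ ?_
    · rw [map_zero, map_zero]
    · intro m
      change y (g m) = h' (g m)
      rw [h'g, ← hy]
      rfl
    · intro a' n ih
      rw [← algebraMap_smul B' a' n, map_smul, map_smul, ih]
    · intro n₁ n₂ h₁ h₂
      rw [map_add, map_add, h₁, h₂]

end Groth.Agent.Helper22.PushoutBC
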