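import Mathlib
import Groth.Prelude.Def_QFDual
import Groth.Agent.Lib.Helper22.PushoutBC

/-!
# `Hom_A(B, A)` of a finite free algebra commutes with base change, as a `B`-module
-/

namespace Groth.Agent.Helper22.OmegaBC

universe u

open Disc

variable {A B A' B' : Type u} [CommRing A] [CommRing B] [CommRing A'] [CommRing B']
  [Algebra A B] [Algebra A A'] [Algebra B B'] [Algebra A' B'] [Algebra A B']
  [IsScalarTower A A' B'] [IsScalarTower A B B']

/-- trace commutes with base change along a pushout square. -/
theorem trace_algebraMap (hB : Algebra.IsPushout A A' B B') [Module.Finite A B] [Module.Free A B]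
    (x : B) :
    Algebra.trace A' B' (algebraMap B B' x) = algebraMap A A' (Algebra.trace A B x) := by
  classical
  let b := Module.Free.chooseBasis A B
  let b' := hB.out.basis b
  rw [Algebra.trace_eq_matrix_trace b', Algebra.trace_eq_matrix_trace b, Matrix.trace,
    Matrix.trace, map_sum]
  refine Finset.sum_congr rfl fun i _ => ?_
  rw [Matrix.diag_apply, Matrix.diag_apply, Algebra.leftMulMatrix_eq_repr_mul,
    Algebra.leftMulMatrix_eq_repr_mul, IsBaseChange.basis_apply]
  change b'.repr (algebraMap B B' x * algebraMap B B' (b i)) i = _
  rw [← map_mul]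
  exact hB.out.basis_repr_comp_apply b (x * b i) i

theorem bcFin_trace (hB : Algebra.IsPushout A A' B B') [Module.Finite A B] [Module.Free A B]
    [Module.Finite A' B'] [Module.Free A' B'] :
    QFDual.bcFin hB (Omega.trace A B) = Omega.trace A' B' := by
  apply Omega.ext
  refine hB.out.algHom_ext _ _ fun x => ?_
  change (QFDual.bcFin hB (Omega.trace A B)).toLinearMap (algebraMap B B' x) =
    Algebra.trace A' B' (algebraMap B B' x)
  rw [QFDual.bcFin_apply_algebraMap, trace_algebraMap hB]
  rfl

/-- `A` acts on `Hom_A(B, A)` through `B`. -/
@[reducible] noncomputable def modA : Module A (Omega A B) :=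
  Module.compHom _ (algebraMap A B)

/-- the underlying linear functional, as an `A`-linear equivalence. -/
noncomputable def toDualEquiv :
    letI := modA (A := A) (B := B)
    Omega A B ≃ₗ[A] Module.Dual A B :=
  letI := modA (A := A) (B := B)
  { toFun := Omega.toLinearMap
    invFun := Omega.mk
    map_add' := fun _ _ => rfl
    map_smul' := fun a φ => by
      ext x
      change φ.toLinearMap (algebraMap A B a * x) = a • φ.toLinearMap x
      rw [← Algebra.smul_def, map_smul]
    left_inv := fun _ => rfl
    right_inv := fun _ => rfl }

theorem finite_omega [Module.Finite A B] [Module.Free A B] : Module.Finite B (Omega A B) := by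
  letI := modA (A := A) (B := B)
  haveI : IsScalarTower A B (Omega A B) := IsScalarTower.of_algebraMap_smul fun _ _ => rfl
  haveI : Module.Finite A (Omega A B) := Module.Finite.equiv (toDualEquiv (A := A) (B := B)).symm
  exact Module.Finite.of_restrictScalars_finite A B (Omega A B)

/-- `bcFin` is a base change of `B`-modules along `B → B'`. -/
theorem isBaseChange_bcFin (hB : Algebra.IsPushout A A' B B') [Module.Finite A B]
    [Module.Free A B] :
    letI : Module B (Omega A' B') := Module.compHom _ (algebraMap B B')
    haveI : IsScalarTower B B' (Omega A' B') := IsScalarTower.of_algebraMap_smul fun _ _ => rfl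
    ∃ g : Omega A B →ₗ[B] Omega A' B', (∀ φ, g φ = QFDual.bcFin hB φ) ∧ IsBaseChange B' g := by
  letI : Module B (Omega A' B') := Module.compHom _ (algebraMap B B')
  haveI : IsScalarTower B B' (Omega A' B') := IsScalarTower.of_algebraMap_smul fun _ _ => rfl
  letI iA : Module A (Omega A B) := modA
  haveI : IsScalarTower A B (Omega A B) := IsScalarTower.of_algebraMap_smul fun _ _ => rfl
  letI iA' : Module A' (Omega A' B') := modA
  haveI : IsScalarTower A' B' (Omega A' B') := IsScalarTower.of_algebraMap_smul fun _ _ => rfl
  letI iAA' : Module A (Omega A' B') := Module.compHom _ (algebraMap A B')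
  haveI : IsScalarTower A A' (Omega A' B') := IsScalarTower.of_algebraMap_smul fun a x => by
    change algebraMap A' B' (algebraMap A A' a) • x = algebraMap A B' a • x
    rw [← IsScalarTower.algebraMap_apply A A' B']
  haveI : IsScalarTower A B (Omega A' B') := IsScalarTower.of_algebraMap_smul fun a x => by
    change algebraMap B B' (algebraMap A B a) • x = algebraMap A B' a • x
    rw [← IsScalarTower.algebraMap_apply A B B']
  let g : Omega A B →ₗ[B] Omega A' B' :=
    { toFun := QFDual.bcFin hB
      map_add' := (QFDual.bcFin hB).map_add
      map_smul' := fun b φ => (QFDual.bcFin hB).map_smulₛₗ b φ }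
  refine ⟨g, fun _ => rfl, ?_⟩
  have hd : IsBaseChange A' hB.out.toDual := hB.out.dual
  have hg : IsBaseChange A' (g.restrictScalars A) := by
    refine (IsBaseChange.iff_of_equiv_comm (toDualEquiv (A := A) (B := B))
      (toDualEquiv (A := A') (B := B')) ?_).mpr hd
    exact LinearMap.ext fun φ => rfl
  exact PushoutBC.isBaseChange_of_isPushout hB g hg

end Groth.Agent.Helper22.OmegaBC
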