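import Mathlib
import Groth.Prelude.Def_QFDual
import Groth.Agent.Lib.Helper22.PushoutBC
import Groth.Agent.Lib.Helper22.OmegaBC

/-!
# `Hom_A(B, A)` and base change, continued: the flat, finitely presented case
-/

namespace Groth.Agent.Helper22.OmegaBC

universe u

open Disc TensorProduct

/-- Flat base change of the dual of a finitely presented module. -/
theorem isBaseChange_toDual_of_flat {R : Type u} [CommRing R] {V W : Type u} [AddCommGroup V]
    [Module R V] [AddCommGroup W] [Module R W] {S : Type u} [CommRing S] [Algebra R S]
    [Module S W] [IsScalarTower R S W] {j : V →ₗ[R] W} (ibc : IsBaseChange S j)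
    [Module.Flat R S] [Module.FinitePresentation R V] : IsBaseChange S ibc.toDual := by
  have hmap : IsBaseChange S (LinearMap.baseChangeHom R S V R) :=
    Module.FinitePresentation.isBaseChange_map R V R S
  let E : (S ⊗[R] V →ₗ[S] S ⊗[R] R) ≃ₗ[S] Module.Dual S W :=
    LinearEquiv.arrowCongr ibc.equiv (AlgebraTensorModule.rid R S S)
  have hcomp := IsBaseChange.comp hmap (IsBaseChange.ofEquiv E)
  have heq : ibc.toDual = (E.toLinearMap.restrictScalars R).comp
      (LinearMap.baseChangeHom R S V R) := by
    ext f : 1
    refine ibc.algHom_ext _ _ fun v => ?_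
    rw [ibc.toDual_comp_apply]
    change _ = E (LinearMap.baseChange S f) (j v)
    rw [LinearEquiv.arrowCongr_apply, ibc.equiv_symm_apply, LinearMap.baseChange_tmul,
      AlgebraTensorModule.rid_tmul, Algebra.algebraMap_eq_smul_one]
  rw [heq]
  exact hcomp

variable {A B A' B' : Type u} [CommRing A] [CommRing B] [CommRing A'] [CommRing B']
  [Algebra A B] [Algebra A A'] [Algebra B B'] [Algebra A' B'] [Algebra A B']
  [IsScalarTower A A' B'] [IsScalarTower A B B']

/-- `bcFin` is a base change of `B`-modules along `B → B'` as soon as it is one along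
`A → A'`. -/
theorem isBaseChange_bcFin_of_toDual (hB : Algebra.IsPushout A A' B B')
    (hd : IsBaseChange A' hB.out.toDual) :
    letI : Module B (Omega A' B') := Module.compHom _ (algebraMap B B')
    haveI : IsScalarTower B B' (Omega A' B') := IsScalarTower.of_algebraMap_smul fun _ _ => rfl
    ∃ g : Omega A B →ₗ[B] Omega A' B', (∀ φ, g φ = QFDual.bcFin hB φ) ∧ IsBaseChange B' g := by
  letI : Module B (Omega A' B') := Module.compHom _ (algebraMap B B')
  haveI : IsScalarTower B B' (Omega A' B') := IsScalarTower.of_algebraMap_smul fun _ _ => rfl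
  letI iA : Module A (Omega A B) := modA
  haveI : IsScalarTower A B (Omega A B) := IsScalarTower.of_algebraMap_smul fun _ _ => rfl
  letI iA' : Module A' (Omega A' B') := modA
  haveI : IsScalarTower A' B' (Omega A' B') := IsScalarTower.of_algebraMap_smul fun _ _ => rfl
  letI iAA' : Module A (Omega A' B') := Module.compHom _ (algebraMap A B')
  haveI : IsScalarTower A A' (Omega A' B') := IsScalarTower.of_algebraMap_smul fun a x => by
    change algebraMap A' B' (algebraMap A A' a) • x = algebraMap A B' a • x
    rw [← IsScalarTower.algebraMap_apply A A' B']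
  haveI : IsScalarTower A B (Omega A' B') := IsScalarTower.of_algebraMap_smul fun a x => by
    change algebraMap B B' (algebraMap A B a) • x = algebraMap A B' a • x
    rw [← IsScalarTower.algebraMap_apply A B B']
  let g : Omega A B →ₗ[B] Omega A' B' :=
    { toFun := QFDual.bcFin hB
      map_add' := (QFDual.bcFin hB).map_add
      map_smul' := fun b φ => (QFDual.bcFin hB).map_smulₛₗ b φ }
  refine ⟨g, fun _ => rfl, ?_⟩
  have hg : IsBaseChange A' (g.restrictScalars A) := by
    refine (IsBaseChange.iff_of_equiv_comm (toDualEquiv (A := A) (B := B))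
      (toDualEquiv (A := A') (B := B')) ?_).mpr hd
    exact LinearMap.ext fun φ => rfl
  exact PushoutBC.isBaseChange_of_isPushout hB g hg

end Groth.Agent.Helper22.OmegaBC
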