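import Mathlib
import Groth.Prelude.Def_QFDual

/-!
# The relative dualizing module of a product
-/

namespace Groth.Agent.Helper22.OmegaProd

universe u

open TensorProduct Disc

variable (A B' B C' C : Type u) [CommRing A] [CommRing B'] [CommRing B] [CommRing C'] [CommRing C]
  [Algebra A B'] [Algebra B' B] [Algebra A B] [IsScalarTower A B' B]
  [Algebra A C'] [Algebra C' C] [Algebra A C] [IsScalarTower A C' C]

variable {A B' C'}

/-- restriction to the first factor -/
def rB (φ : Omega A (B' × C')) : Omega A B' := Omega.mk (φ.toLinearMap ∘ₗ LinearMap.inl A B' C')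
/-- restriction to the second factor -/
def rC (φ : Omega A (B' × C')) : Omega A C' := Omega.mk (φ.toLinearMap ∘ₗ LinearMap.inr A B' C')
/-- extension by zero from the first factor -/
def eB (ψ : Omega A B') : Omega A (B' × C') := Omega.mk (ψ.toLinearMap ∘ₗ LinearMap.fst A B' C')
/-- extension by zero from the second factor -/
def eC (ψ : Omega A C') : Omega A (B' × C') := Omega.mk (ψ.toLinearMap ∘ₗ LinearMap.snd A B' C')

theorem rB_add (φ ψ : Omega A (B' × C')) : rB (φ + ψ) = rB φ + rB ψ := Omega.ext rfl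
theorem rC_add (φ ψ : Omega A (B' × C')) : rC (φ + ψ) = rC φ + rC ψ := Omega.ext rfl
theorem eB_add (φ ψ : Omega A B') : eB (C' := C') (φ + ψ) = eB φ + eB ψ := Omega.ext rfl
theorem eC_add (φ ψ : Omega A C') : eC (B' := B') (φ + ψ) = eC φ + eC ψ := Omega.ext rfl

theorem rB_smul (r : B' × C') (φ : Omega A (B' × C')) : rB (r • φ) = r.1 • rB φ := by
  apply Omega.ext
  refine LinearMap.ext fun x => ?_
  change φ.toLinearMap (r * (x, 0)) = φ.toLinearMap ((r.1 * x, 0))
  congr 1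
  refine Prod.ext ?_ ?_ <;> simp

theorem rC_smul (r : B' × C') (φ : Omega A (B' × C')) : rC (r • φ) = r.2 • rC φ := by
  apply Omega.ext
  refine LinearMap.ext fun x => ?_
  change φ.toLinearMap (r * (0, x)) = φ.toLinearMap ((0, r.2 * x))
  congr 1
  refine Prod.ext ?_ ?_ <;> simp

theorem eB_smul (b' : B') (c' : C') (ψ : Omega A B') :
    eB (C' := C') (b' • ψ) = (b', c') • eB ψ := by
  apply Omega.ext
  refine LinearMap.ext fun x => ?_
  rfl

theorem eC_smul (b' : B') (c' : C') (ψ : Omega A C') :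
    eC (B' := B') (c' • ψ) = (b', c') • eC ψ := by
  apply Omega.ext
  refine LinearMap.ext fun x => ?_
  rfl

theorem eB_rB (φ : Omega A (B' × C')) : eB (rB φ) = ((1, 0) : B' × C') • φ := by
  apply Omega.ext
  refine LinearMap.ext fun x => ?_
  change φ.toLinearMap (x.1, 0) = φ.toLinearMap ((1, 0) * x)
  congr 1
  refine Prod.ext ?_ ?_ <;> simp

theorem eC_rC (φ : Omega A (B' × C')) : eC (rC φ) = ((0, 1) : B' × C') • φ := by
  apply Omega.ext
  refine LinearMap.ext fun x => ?_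
  change φ.toLinearMap (0, x.2) = φ.toLinearMap ((0, 1) * x)
  congr 1
  refine Prod.ext ?_ ?_ <;> simp

theorem rB_eB (ψ : Omega A B') : rB (eB (C' := C') ψ) = ψ := Omega.ext (LinearMap.ext fun _ => rfl)
theorem rC_eC (ψ : Omega A C') : rC (eC (B' := B') ψ) = ψ := Omega.ext (LinearMap.ext fun _ => rfl)

variable (A B' C')

theorem main [Algebra (B' × C') (B × C)] [IsScalarTower A (B' × C') (B × C)]
    (halg : algebraMap (B' × C') (B × C) = (algebraMap B' B).prodMap (algebraMap C' C)) :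
    ∃ e : QFDual.omega A (B' × C') (B × C) ≃ₗ[A] QFDual.omega A B' B × QFDual.omega A C' C,
      ∀ (b : B) (c : C) (φ : Disc.Omega A (B' × C')),
        e ((b, c) ⊗ₜ[B' × C'] φ) =
          (b ⊗ₜ[B'] Disc.Omega.mk (φ.toLinearMap ∘ₗ LinearMap.inl A B' C'),
            c ⊗ₜ[C'] Disc.Omega.mk (φ.toLinearMap ∘ₗ LinearMap.inr A B' C')) := by
  classical
  have hsmul : ∀ (r : B' × C') (x : B × C), r • x = (r.1 • x.1, r.2 • x.2) := by
    intro r x
    rw [Algebra.smul_def, halg]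
    refine Prod.ext ?_ ?_ <;> simp [Algebra.smul_def]
  -- the forward map
  let f : (B × C) →+ Omega A (B' × C') →+ (QFDual.omega A B' B × QFDual.omega A C' C) :=
    AddMonoidHom.mk' (fun x => AddMonoidHom.mk'
        (fun φ => (x.1 ⊗ₜ[B'] rB φ, x.2 ⊗ₜ[C'] rC φ))
        (fun φ ψ => by rw [rB_add, rC_add, tmul_add, tmul_add]; rfl))
      (fun x y => by
        refine AddMonoidHom.ext fun φ => ?_
        change ((x + y).1 ⊗ₜ[B'] rB φ, (x + y).2 ⊗ₜ[C'] rC φ) =
          (x.1 ⊗ₜ[B'] rB φ, x.2 ⊗ₜ[C'] rC φ) + (y.1 ⊗ₜ[B'] rB φ, y.2 ⊗ₜ[C'] rC φ)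
        rw [Prod.fst_add, Prod.snd_add, add_tmul, add_tmul]
        rfl)
  have hf : ∀ (r : B' × C') (x : B × C) (φ : Omega A (B' × C')), f (r • x) φ = f x (r • φ) := by
    intro r x φ
    change ((r • x).1 ⊗ₜ[B'] rB φ, (r • x).2 ⊗ₜ[C'] rC φ) =
      (x.1 ⊗ₜ[B'] rB (r • φ), x.2 ⊗ₜ[C'] rC (r • φ))
    rw [hsmul, rB_smul, rC_smul, ← TensorProduct.smul_tmul, ← TensorProduct.smul_tmul]
  let F : QFDual.omega A (B' × C') (B × C) →+ (QFDual.omega A B' B × QFDual.omega A C' C) :=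
    TensorProduct.liftAddHom f hf
  have hF : ∀ (x : B × C) (φ : Omega A (B' × C')),
      F (x ⊗ₜ[B' × C'] φ) = (x.1 ⊗ₜ[B'] rB φ, x.2 ⊗ₜ[C'] rC φ) := fun x φ => rfl
  -- the backward maps
  let gB : B →+ Omega A B' →+ QFDual.omega A (B' × C') (B × C) :=
    AddMonoidHom.mk' (fun b => AddMonoidHom.mk'
        (fun ψ => ((b, 0) : B × C) ⊗ₜ[B' × C'] eB ψ)
        (fun φ ψ => by rw [eB_add, tmul_add]))
      (fun b₁ b₂ => by
        refine AddMonoidHom.ext fun ψ => ?_
        change ((b₁ + b₂, 0) : B × C) ⊗ₜ[B' × C'] eB ψ =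
          ((b₁, 0) : B × C) ⊗ₜ[B' × C'] eB ψ + ((b₂, 0) : B × C) ⊗ₜ[B' × C'] eB ψ
        rw [← add_tmul, Prod.mk_add_mk, add_zero])
  have hgB : ∀ (r : B') (b : B) (ψ : Omega A B'), gB (r • b) ψ = gB b (r • ψ) := by
    intro r b ψ
    change ((r • b, 0) : B × C) ⊗ₜ[B' × C'] eB ψ = ((b, 0) : B × C) ⊗ₜ[B' × C'] eB (r • ψ)
    rw [eB_smul r 1 ψ, ← TensorProduct.smul_tmul, hsmul]
    simp
  let gC : C →+ Omega A C' →+ QFDual.omega A (B' × C') (B × C) :=
    AddMonoidHom.mk' (fun c => AddMonoidHom.mk'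
        (fun ψ => ((0, c) : B × C) ⊗ₜ[B' × C'] eC ψ)
        (fun φ ψ => by rw [eC_add, tmul_add]))
      (fun c₁ c₂ => by
        refine AddMonoidHom.ext fun ψ => ?_
        change ((0, c₁ + c₂) : B × C) ⊗ₜ[B' × C'] eC ψ =
          ((0, c₁) : B × C) ⊗ₜ[B' × C'] eC ψ + ((0, c₂) : B × C) ⊗ₜ[B' × C'] eC ψ
        rw [← add_tmul, Prod.mk_add_mk, add_zero])
  have hgC : ∀ (r : C') (c : C) (ψ : Omega A C'), gC (r • c) ψ = gC c (r • ψ) := by
    intro r c ψ
    change ((0, r • c) : B × C) ⊗ₜ[B' × C'] eC ψ = ((0, c) : B × C) ⊗ₜ[B' × C'] eC (r • ψ)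
    rw [eC_smul 1 r ψ, ← TensorProduct.smul_tmul, hsmul]
    simp
  let GB : QFDual.omega A B' B →+ QFDual.omega A (B' × C') (B × C) :=
    TensorProduct.liftAddHom gB hgB
  let GC : QFDual.omega A C' C →+ QFDual.omega A (B' × C') (B × C) :=
    TensorProduct.liftAddHom gC hgC
  have hGB : ∀ (b : B) (ψ : Omega A B'),
      GB (b ⊗ₜ[B'] ψ) = ((b, 0) : B × C) ⊗ₜ[B' × C'] eB ψ := fun b ψ => rfl
  have hGC : ∀ (c : C) (ψ : Omega A C'),
      GC (c ⊗ₜ[C'] ψ) = ((0, c) : B × C) ⊗ₜ[B' × C'] eC ψ := fun c ψ => rfl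
  have hFGB : ∀ x : QFDual.omega A B' B, F (GB x) = (x, 0) := by
    intro x
    induction x using TensorProduct.induction_on with
    | zero => rw [map_zero, map_zero]; rfl
    | tmul b ψ =>
      rw [hGB, hF]
      change (b ⊗ₜ[B'] rB (eB ψ), (0 : C) ⊗ₜ[C'] rC (eB ψ)) = _
      rw [rB_eB, zero_tmul]
    | add x y hx hy =>
      rw [map_add, map_add, hx, hy, Prod.mk_add_mk, add_zero]
  have hFGC : ∀ y : QFDual.omega A C' C, F (GC y) = (0, y) := by
    intro y
    induction y using TensorProduct.induction_on with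
    | zero => rw [map_zero, map_zero]; rfl
    | tmul c ψ =>
      rw [hGC, hF]
      change ((0 : B) ⊗ₜ[B'] rB (eC ψ), c ⊗ₜ[C'] rC (eC ψ)) = _
      rw [rC_eC, zero_tmul]
    | add x y hx hy =>
      rw [map_add, map_add, hx, hy, Prod.mk_add_mk, add_zero]
  have hGF : ∀ t : QFDual.omega A (B' × C') (B × C), GB (F t).1 + GC (F t).2 = t := by
    intro t
    induction t using TensorProduct.induction_on with
    | zero => rw [map_zero]; change GB 0 + GC 0 = 0; rw [map_zero, map_zero, add_zero]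
    | tmul x φ =>
      rw [hF]
      change GB (x.1 ⊗ₜ[B'] rB φ) + GC (x.2 ⊗ₜ[C'] rC φ) = _
      rw [hGB, hGC, eB_rB, eC_rC, ← TensorProduct.smul_tmul, ← TensorProduct.smul_tmul,
        ← add_tmul, hsmul, hsmul]
      congr 1
      refine Prod.ext ?_ ?_ <;> simp
    | add x y hx hy =>
      rw [map_add, Prod.fst_add, Prod.snd_add, map_add, map_add, add_add_add_comm, hx, hy]
  let e : QFDual.omega A (B' × C') (B × C) ≃+ (QFDual.omega A B' B × QFDual.omega A C' C) :=
    { toFun := F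
      invFun := fun p => GB p.1 + GC p.2
      left_inv := hGF
      right_inv := fun p => by
        change F (GB p.1 + GC p.2) = p
        rw [map_add, hFGB, hFGC, Prod.mk_add_mk, add_zero, zero_add]
      map_add' := F.map_add }
  have hlin : ∀ (a : A) (t : QFDual.omega A (B' × C') (B × C)), e (a • t) = a • e t := by
    intro a t
    change F (a • t) = a • F t
    induction t using TensorProduct.induction_on with
    | zero => rw [smul_zero, map_zero, smul_zero]
    | tmul x φ =>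
      rw [TensorProduct.smul_tmul', hF, hF]
      refine Prod.ext ?_ ?_
      · change (a • x.1) ⊗ₜ[B'] rB φ = a • (x.1 ⊗ₜ[B'] rB φ)
        rw [TensorProduct.smul_tmul']
      · change (a • x.2) ⊗ₜ[C'] rC φ = a • (x.2 ⊗ₜ[C'] rC φ)
        rw [TensorProduct.smul_tmul']
    | add x y hx hy => rw [smul_add, map_add, hx, hy, map_add, smul_add]
  exact ⟨e.toLinearEquiv hlin, fun b c φ => rfl⟩

end Groth.Agent.Helper22.OmegaProd
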