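import Mathlib
import Groth.Prelude.Def_GLin

/-!
# Coinvariants of a right coideal subalgebra (helper22)

For a commutative Hopf algebra `A` over a field and a right coideal subalgebra `C` over which `A`
is faithfully flat: a group-like element `χ` with `χ - 1 ∈ C⁺ A` lies in `C`.
-/

set_option autoImplicit false
set_option maxHeartbeats 400000

namespace Groth.Agent.Helper22.OrbQ

open TensorProduct

universe u

section Hopf

variable {k : Type u} [Field k] {A : Type u} [CommRing A] [HopfAlgebra k A]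
variable (C : Subalgebra k A)

/-- `a ⊗ b ↦ S b ⊗_C a` -/
noncomputable def Psi : A ⊗[k] A →ₗ[k] A ⊗[↥C] A :=
  (TensorProduct.mapOfCompatibleSMul ↥C k k A A) ∘ₗ (TensorProduct.comm k A A).toLinearMap ∘ₗ
    (HopfAlgebraStruct.antipode k).lTensor A

theorem Psi_tmul (a b : A) :
    Psi C (a ⊗ₜ[k] b) = (HopfAlgebraStruct.antipode k b) ⊗ₜ[↥C] a := by
  simp [Psi]

theorem Psi_mul (y : ↥C ⊗[k] A) (t : A ⊗[k] A) :
    Psi C (C.val.toLinearMap.rTensor A y * t) =
      (LinearMap.mul' k A ((HopfAlgebraStruct.antipode k).lTensor A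
        (C.val.toLinearMap.rTensor A y))) • Psi C t := by
  induction y using TensorProduct.induction_on with
  | zero => simp
  | tmul c a =>
    induction t using TensorProduct.induction_on with
    | zero => simp
    | tmul w₁ w₂ =>
      rw [LinearMap.rTensor_tmul, Algebra.TensorProduct.tmul_mul_tmul, Psi_tmul, Psi_tmul,
        LinearMap.lTensor_tmul, LinearMap.mul'_apply, TensorProduct.smul_tmul',
        HopfAlgebra.antipode_mul_distrib, smul_eq_mul]
      have h1 : C.val.toLinearMap c * w₁ = c • w₁ := by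
        rw [Algebra.smul_def]; rfl
      have h3 : C.val.toLinearMap c * (HopfAlgebraStruct.antipode k) a *
          (HopfAlgebraStruct.antipode k) w₂ =
          c • ((HopfAlgebraStruct.antipode k) a * (HopfAlgebraStruct.antipode k) w₂) := by
        rw [Algebra.smul_def, mul_assoc]; rfl
      rw [h1, h3, TensorProduct.smul_tmul]
    | add t₁ t₂ h₁ h₂ => rw [mul_add, map_add, h₁, h₂, map_add, smul_add]
  | add y₁ y₂ h₁ h₂ =>
    rw [map_add, add_mul, map_add, h₁, h₂, map_add, map_add, add_smul]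

/-- `w ↦ Σ S w₂ ⊗_C w₁` -/
noncomputable def Theta : A →ₗ[k] A ⊗[↥C] A := Psi C ∘ₗ CoalgebraStruct.comul

theorem Theta_mul
    (hC : ∀ c ∈ C, CoalgebraStruct.comul (R := k) c ∈
      LinearMap.range (C.val.toLinearMap.rTensor A))
    (c : A) (hc : c ∈ C) (w : A) :
    Theta C (c * w) = algebraMap k A (CoalgebraStruct.counit (R := k) c) • Theta C w := by
  obtain ⟨y, hy⟩ := hC c hc
  unfold Theta
  rw [LinearMap.comp_apply, LinearMap.comp_apply, Bialgebra.comul_mul, ← hy, Psi_mul, hy,
    HopfAlgebra.mul_antipode_lTensor_comul_apply]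

theorem Theta_eq_zero
    (hC : ∀ c ∈ C, CoalgebraStruct.comul (R := k) c ∈
      LinearMap.range (C.val.toLinearMap.rTensor A))
    (u : A)
    (hu : u ∈ Ideal.span {c : A | c ∈ C ∧ CoalgebraStruct.counit (R := k) c = 0}) :
    Theta C u = 0 := by
  have key : ∀ w : A, Theta C (u * w) = 0 := by
    refine Submodule.span_induction (p := fun (u : A) _ => ∀ w : A, Theta C (u * w) = 0)
      ?_ ?_ ?_ ?_ hu
    · rintro c ⟨hcC, hc0⟩ w
      rw [Theta_mul C hC c hcC w, hc0, map_zero, zero_smul]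
    · intro w
      rw [zero_mul, map_zero]
    · intro a b _ _ ha hb w
      rw [add_mul, map_add, ha w, hb w, add_zero]
    · intro a b _ hb w
      rw [smul_eq_mul, mul_assoc, mul_left_comm]
      exact hb (a * w)
  have h1 := key 1
  rwa [mul_one] at h1

/-- **Descent for a right coideal subalgebra.** -/
theorem mem_of_sub_one_mem [Module.FaithfullyFlat ↥C A]
    (hC : ∀ c ∈ C, CoalgebraStruct.comul (R := k) c ∈
      LinearMap.range (C.val.toLinearMap.rTensor A))
    (χ : A) (hχ : IsGroupLikeElem k χ)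
    (h : χ - 1 ∈ Ideal.span {c : A | c ∈ C ∧ CoalgebraStruct.counit (R := k) c = 0}) :
    χ ∈ C := by
  have h0 := Theta_eq_zero C hC _ h
  rw [map_sub] at h0
  have h1 : Theta C χ = (HopfAlgebraStruct.antipode k χ) ⊗ₜ[↥C] χ := by
    unfold Theta
    rw [LinearMap.comp_apply, hχ.comul_eq_tmul_self, Psi_tmul]
  have h2 : Theta C 1 = (1 : A) ⊗ₜ[↥C] (1 : A) := by
    unfold Theta
    rw [LinearMap.comp_apply, Bialgebra.comul_one, Algebra.TensorProduct.one_def, Psi_tmul,
      HopfAlgebra.antipode_one]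
  rw [h1, h2, sub_eq_zero] at h0
  have h3 : χ • ((HopfAlgebraStruct.antipode k χ) ⊗ₜ[↥C] χ) = χ • ((1 : A) ⊗ₜ[↥C] (1 : A)) := by
    rw [h0]
  rw [TensorProduct.smul_tmul', TensorProduct.smul_tmul', smul_eq_mul, smul_eq_mul,
    hχ.mul_antipode_cancel, mul_one] at h3
  let N : Submodule ↥C A := LinearMap.range (Algebra.linearMap ↥C A)
  have h4 := congrArg (LinearMap.lTensor A N.mkQ) h3
  rw [LinearMap.lTensor_tmul, LinearMap.lTensor_tmul] at h4
  have h5 : N.mkQ (1 : A) = 0 := by
    rw [Submodule.mkQ_apply, Submodule.Quotient.mk_eq_zero]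
    exact ⟨1, by rw [Algebra.linearMap_apply, map_one]⟩
  rw [h5, TensorProduct.tmul_zero] at h4
  have h6 : N.mkQ χ = 0 := (Module.FaithfullyFlat.one_tmul_eq_zero_iff ↥C _ _).1 h4
  rw [Submodule.mkQ_apply, Submodule.Quotient.mk_eq_zero] at h6
  obtain ⟨c, hc⟩ := h6
  rw [← hc]
  exact c.2

end Hopf

end Groth.Agent.Helper22.OrbQ
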