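import Groth.Agent.Lib.Helper22.OrbQ1
import Groth.Agent.Lib.Helper22.EqZMT1
import Groth.Agent.Lib.Helper22.HopfMod
import Groth.Agent.Lib.Helper29.GLinOrbit
import Groth.Agent.Lib.Helper16.Alg.GenRF5

/-!
# The coordinate ring of a closed orbit: `A` is faithfully flat over it (helper22)
-/

set_option autoImplicit false
set_option maxHeartbeats 400000

namespace Groth.Agent.Helper22.OrbQ

open TensorProduct Groth.Agent.Helper12 Groth.Agent.Helper29.GLinOrbit Groth.Agent.Helper22.EqZMT

universe u

attribute [local instance] Groth.Agent.Helper22.HopfMod.isCoactAlg_self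

section GenFlat

variable {C A : Type u} [CommRing C] [CommRing A] [Algebra C A]

theorem flat_away_of_flat (s : C) (L : Type u) [CommRing L] [Algebra A L] [Algebra C L]
    [IsScalarTower C A L] [IsLocalization.Away (algebraMap C A s) L]
    (hfl : Module.Flat (Localization.Away s) (Localization.Away s ⊗[C] A)) :
    Module.Flat C L := by
  have hu : IsUnit (algebraMap C L s) := by
    rw [IsScalarTower.algebraMap_apply C A L]
    exact IsLocalization.Away.algebraMap_isUnit (algebraMap C A s)
  letI : Algebra (Localization.Away s) L :=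
    (IsLocalization.Away.lift s (g := algebraMap C L) hu).toAlgebra
  haveI : IsScalarTower C (Localization.Away s) L :=
    IsScalarTower.of_algebraMap_eq' (RingHom.ext fun c => by
      rw [RingHom.comp_apply, RingHom.algebraMap_toAlgebra]
      exact (IsLocalization.Away.lift_eq s hu c).symm)
  haveI : IsLocalization (Algebra.algebraMapSubmonoid A (Submonoid.powers s)) L := by
    rw [Algebra.algebraMapSubmonoid_powers]
    exact (inferInstance : IsLocalization.Away (algebraMap C A s) L)
  haveI : IsLocalizedModule (Submonoid.powers s) (IsScalarTower.toAlgHom C A L).toLinearMap :=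
    isLocalizedModule_iff_isLocalization.2 inferInstance
  have hbc : IsBaseChange (Localization.Away s) (IsScalarTower.toAlgHom C A L).toLinearMap :=
    IsLocalizedModule.isBaseChange (Submonoid.powers s) (Localization.Away s) _
  haveI : Module.Flat (Localization.Away s) L := Module.Flat.of_linearEquiv hbc.equiv.symm
  exact Module.Flat.trans C (Localization.Away s) L

end GenFlat

section Tau

variable {k : Type u} [Field k] {A : Type u} [CommRing A] [HopfAlgebra k A]

/-- right translation by a point -/
noncomputable def tau (g : A →ₐ[k] k) : A →ₐ[k] A := actA (R := A) g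

theorem pt_tau (p g : A →ₐ[k] k) (a : A) : p (tau g a) = GLin.actPt k g p a := by
  unfold tau actA
  rw [AlgHom.comp_apply, Groth.Agent.Helper22.StabOpen.apply_slA, GLin.coactAlgHom_apply,
    ← orbitHom_apply]
  rfl

theorem eq_of_forall_pt [IsAlgClosed k] [Algebra.FiniteType k A] [IsReduced A] {a b : A}
    (h : ∀ p : A →ₐ[k] k, p a = p b) : a = b := by
  rw [← sub_eq_zero]
  apply (Groth.Agent.Helper22.StabOpen.isNilpotent_of_forall_point' (k := k) _ ?_).eq_zero
  intro p
  rw [map_sub, h p, sub_self]

theorem tau_tau [IsAlgClosed k] [Algebra.FiniteType k A] [IsReduced A]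
    (g h : WithConv (A →ₐ[k] k)) (a : A) :
    tau h.ofConv (tau g.ofConv a) = tau (h * g).ofConv a := by
  apply eq_of_forall_pt (k := k)
  intro p
  rw [pt_tau, pt_tau, pt_tau, actPt_mul]

theorem tau_one [IsAlgClosed k] [Algebra.FiniteType k A] [IsReduced A] (a : A) :
    tau (1 : WithConv (A →ₐ[k] k)).ofConv a = a := by
  apply eq_of_forall_pt (k := k)
  intro p
  rw [pt_tau, actPt_one]

theorem tau_inv_tau [IsAlgClosed k] [Algebra.FiniteType k A] [IsReduced A]
    (g : A →ₐ[k] k) (a : A) : tau ((WithConv.toConv g)⁻¹).ofConv (tau g a) = a := by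
  have h := tau_tau (WithConv.toConv g) ((WithConv.toConv g)⁻¹) a
  rw [inv_mul_cancel, tau_one, WithConv.ofConv_toConv] at h
  exact h

theorem tau_tau_inv [IsAlgClosed k] [Algebra.FiniteType k A] [IsReduced A]
    (g : A →ₐ[k] k) (a : A) : tau g (tau ((WithConv.toConv g)⁻¹).ofConv a) = a := by
  have h := tau_tau ((WithConv.toConv g)⁻¹) (WithConv.toConv g) a
  rw [mul_inv_cancel, tau_one, WithConv.ofConv_toConv] at h
  exact h

theorem tau_bijective [IsAlgClosed k] [Algebra.FiniteType k A] [IsReduced A]
    (g : A →ₐ[k] k) : Function.Bijective (tau g) :=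
  ⟨fun a b hab => by rw [← tau_inv_tau g a, ← tau_inv_tau g b, hab],
    fun a => ⟨_, tau_tau_inv g a⟩⟩

theorem actPt_counit (g : A →ₐ[k] k) : GLin.actPt k g (Bialgebra.counitAlgHom k A) = g := by
  apply AlgHom.ext
  intro a
  show g (GLin.orbitHom k A (Bialgebra.counitAlgHom k A) a) = g a
  rw [orbitHom_apply]
  have h := Coalgebra.rTensor_counit_comul (R := k) a
  show g ((TensorProduct.lid k A) ((LinearMap.rTensor A CoalgebraStruct.counit)
      (CoalgebraStruct.comul a))) = g a
  rw [h, TensorProduct.lid_tmul, one_smul]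

theorem exists_actPt_eq (p q : A →ₐ[k] k) : ∃ g : A →ₐ[k] k, GLin.actPt k g p = q := by
  refine ⟨((WithConv.toConv p)⁻¹ * WithConv.toConv q).ofConv, ?_⟩
  have h := actPt_mul (Bialgebra.counitAlgHom k A) (WithConv.toConv p)
    ((WithConv.toConv p)⁻¹ * WithConv.toConv q)
  rw [mul_inv_cancel_left, WithConv.ofConv_toConv, WithConv.ofConv_toConv, actPt_counit,
    actPt_counit] at h
  exact h.symm

end Tau

section Orb

variable {k : Type u} [Field k] {A : Type u} [CommRing A] [HopfAlgebra k A]
variable {R : Type u} [CommRing R] [Algebra k R] [HopfRep.Comod k A R] [GLin.IsCoactAlg k A R]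
variable (x : R →ₐ[k] k)

theorem tau_orbitHom (g : A →ₐ[k] k) (f : R) :
    tau g (GLin.orbitHom k A x f) = GLin.orbitHom k A x (actA g f) := by
  unfold tau
  rw [actA_apply, actA_apply]
  show slice g.toLinearMap (CoalgebraStruct.comul (R := k) (GLin.orbitHom k A x f)) = _
  rw [comul_orbitHom, Groth.Agent.Helper22.EqZMT.slice_rTensor]
  rfl

/-- the coordinate ring of the orbit closure, inside `A` -/
noncomputable abbrev orbC : Subalgebra k A := (GLin.orbitHom k A x).range

theorem orbC_coideal : ∀ c ∈ orbC (A := A) x, CoalgebraStruct.comul (R := k) c ∈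
    LinearMap.range ((orbC (A := A) x).val.toLinearMap.rTensor A) := by
  intro c hc
  obtain ⟨f, rfl⟩ := (AlgHom.mem_range _).1 hc
  rw [comul_orbitHom]
  have hcomp : (GLin.orbitHom k A x).toLinearMap =
      (orbC (A := A) x).val.toLinearMap ∘ₗ (GLin.orbitHom k A x).rangeRestrict.toLinearMap :=
    LinearMap.ext fun _ => rfl
  rw [hcomp, LinearMap.rTensor_comp, LinearMap.comp_apply]
  exact ⟨_, rfl⟩

theorem tau_mem (g : A →ₐ[k] k) {c : A} (hc : c ∈ orbC (A := A) x) :
    tau g c ∈ orbC (A := A) x := by
  obtain ⟨f, rfl⟩ := (AlgHom.mem_range _).1 hc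
  rw [tau_orbitHom]
  exact (AlgHom.mem_range _).2 ⟨_, rfl⟩

/-- the translation restricted to the orbit ring -/
noncomputable def sig (g : A →ₐ[k] k) : ↥(orbC (A := A) x) →ₐ[k] ↥(orbC (A := A) x) :=
  ((tau g).comp (orbC (A := A) x).val).codRestrict (orbC (A := A) x)
    (fun c => tau_mem x g c.2)

theorem sig_bijective [IsAlgClosed k] [Algebra.FiniteType k A] [IsReduced A] (g : A →ₐ[k] k) :
    Function.Bijective (sig x g) := by
  constructor
  · intro a b hab
    have h1 : tau g (a : A) = tau g (b : A) := congrArg Subtype.val hab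
    exact Subtype.ext ((tau_bijective g).1 h1)
  · intro c
    refine ⟨⟨tau ((WithConv.toConv g)⁻¹).ofConv (c : A), tau_mem x _ c.2⟩, ?_⟩
    exact Subtype.ext (tau_tau_inv g (c : A))

/-- `C → A → A[1/a]` is flat -/
def QF (a : A) : Prop :=
  ((algebraMap A (Localization.Away a)).comp (algebraMap ↥(orbC (A := A) x) A)).Flat

theorem QF_tau [IsAlgClosed k] [Algebra.FiniteType k A] [IsReduced A] (g : A →ₐ[k] k) (a : A)
    (h : QF x a) : QF x (tau g a) := by
  let τe : A ≃+* A := RingEquiv.ofBijective (tau g).toRingHom (tau_bijective g)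
  have H : (Submonoid.powers a).map τe.toMonoidHom = Submonoid.powers (tau g a) :=
    Submonoid.map_powers _ _
  let e : Localization.Away a ≃+* Localization.Away (tau g a) :=
    IsLocalization.ringEquivOfRingEquiv (Localization.Away a) (Localization.Away (tau g a)) τe H
  let g' : A →ₐ[k] k := ((WithConv.toConv g)⁻¹).ofConv
  have hσ : Function.Bijective (sig x g').toRingHom := sig_bijective x g'
  have heq : (algebraMap A (Localization.Away (tau g a))).comp
      (algebraMap ↥(orbC (A := A) x) A) =
      e.toRingHom.comp (((algebraMap A (Localization.Away a)).comp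
        (algebraMap ↥(orbC (A := A) x) A)).comp (sig x g').toRingHom) := by
    apply RingHom.ext
    intro c
    show algebraMap A (Localization.Away (tau g a)) (c : A) =
      e (algebraMap A (Localization.Away a) (tau g' (c : A)))
    rw [IsLocalization.ringEquivOfRingEquiv_eq]
    show _ = algebraMap A (Localization.Away (tau g a)) (tau g (tau g' (c : A)))
    rw [tau_tau_inv]
  unfold QF
  rw [heq]
  exact ((RingHom.Flat.of_bijective hσ).comp h).comp (RingHom.Flat.of_bijective e.bijective)

theorem exists_QF [IsDomain A] [Algebra.FiniteType k A] :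
    ∃ s : ↥(orbC (A := A) x), s ≠ 0 ∧ QF x (s : A) := by
  haveI : Algebra.FiniteType ↥(orbC (A := A) x) A :=
    Algebra.FiniteType.of_restrictScalars_finiteType k _ A
  obtain ⟨s, hs, hfree, -⟩ :=
    Groth.Agent.Helper16.GenRF.exists_free_fp_away ↥(orbC (A := A) x) A
  refine ⟨s, fun h => hs (h ▸ IsNilpotent.zero), ?_⟩
  haveI : IsLocalization.Away (algebraMap ↥(orbC (A := A) x) A s) (Localization.Away (s : A)) :=
    (inferInstance : IsLocalization.Away (s : A) (Localization.Away (s : A)))
  haveI : Module.Flat ↥(orbC (A := A) x) (Localization.Away (s : A)) :=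
    flat_away_of_flat (A := A) s (Localization.Away (s : A)) inferInstance
  have h1 : (algebraMap ↥(orbC (A := A) x) (Localization.Away (s : A))).Flat :=
    RingHom.flat_algebraMap_iff.2 inferInstance
  unfold QF
  rw [← IsScalarTower.algebraMap_eq ↥(orbC (A := A) x) A (Localization.Away (s : A))]
  exact h1

theorem flat_orbC [IsAlgClosed k] [IsDomain A] [Algebra.FiniteType k A] :
    Module.Flat ↥(orbC (A := A) x) A := by
  obtain ⟨s, hs0, hQ⟩ := exists_QF (A := A) x
  let S' : Set A := Set.range (fun g : A →ₐ[k] k => tau g (s : A))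
  have hspan : Ideal.span S' = ⊤ := by
    by_contra hne
    obtain ⟨p, hp⟩ := exists_point_of_ne_top (k := k) _ hne
    have hall : ∀ q : A →ₐ[k] k, q (s : A) = 0 := by
      intro q
      obtain ⟨g, hg⟩ := exists_actPt_eq p q
      rw [← hg, ← pt_tau]
      have h1 : tau g (s : A) ∈ RingHom.ker p := hp (Ideal.subset_span ⟨g, rfl⟩)
      exact h1
    have hnil := Groth.Agent.Helper22.StabOpen.isNilpotent_of_forall_point' (k := k) (s : A) hall
    exact hs0 (Subtype.ext hnil.eq_zero)
  have hflat : (algebraMap ↥(orbC (A := A) x) A).Flat :=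
    RingHom.Flat.ofLocalizationSpanTarget _ S' hspan (by
      rintro ⟨_, g, rfl⟩
      exact QF_tau x g _ hQ)
  exact RingHom.flat_algebraMap_iff.1 hflat

theorem faithfullyFlat_orbC [IsAlgClosed k] [IsDomain A] [Algebra.FiniteType k A]
    [Algebra.FiniteType k R] (hcl : GLin.IsClosedOrbit k A x) :
    Module.FaithfullyFlat ↥(orbC (A := A) x) A := by
  haveI := flat_orbC (A := A) x
  rw [Module.FaithfullyFlat.iff_flat_and_proper_ideal]
  refine ⟨inferInstance, fun I hI htop => ?_⟩
  haveI : Algebra.FiniteType k ↥(orbC (A := A) x) :=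
    Algebra.FiniteType.of_surjective (GLin.orbitHom k A x).rangeRestrict
      (AlgHom.rangeRestrict_surjective _)
  obtain ⟨z, hz⟩ := exists_point_of_ne_top (k := k) I hI
  let z' : R →ₐ[k] k := z.comp (GLin.orbitHom k A x).rangeRestrict
  have hz' : GLin.InOrbitClosure k A x z' := by
    intro f hf
    rw [RingHom.mem_ker] at hf ⊢
    show z ((GLin.orbitHom k A x).rangeRestrict f) = 0
    have h0 : (GLin.orbitHom k A x).rangeRestrict f = 0 := Subtype.ext hf
    rw [h0, map_zero]
  obtain ⟨g, hg⟩ := exists_actPt_eq_of_isClosedOrbit x z' hcl hz'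
  have hzg : ∀ c : ↥(orbC (A := A) x), z c = g (c : A) := by
    intro c
    obtain ⟨f, hf⟩ := (AlgHom.mem_range _).1 c.2
    have hc : c = (GLin.orbitHom k A x).rangeRestrict f := Subtype.ext hf.symm
    rw [hc]
    exact congrArg (fun w : R →ₐ[k] k => w f) hg
  have hall : ∀ m ∈ I • (⊤ : Submodule ↥(orbC (A := A) x) A), g m = 0 := by
    intro m hm
    refine Submodule.smul_induction_on hm ?_ ?_
    · intro i hi a _
      rw [Algebra.smul_def, map_mul]
      have h0 : g (algebraMap ↥(orbC (A := A) x) A i) = 0 := by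
        show g (i : A) = 0
        rw [← hzg]
        exact hz hi
      rw [h0, zero_mul]
    · intro a b ha hb
      rw [map_add, ha, hb, add_zero]
  have h1 : (1 : A) ∈ I • (⊤ : Submodule ↥(orbC (A := A) x) A) := by
    rw [htop]; trivial
  have h2 := hall 1 h1
  rw [map_one] at h2
  exact one_ne_zero h2

end Orb

end Groth.Agent.Helper22.OrbQ
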