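import Groth.Agent.Lib.Helper22.OrbQ2
import Groth.Agent.Lib.Helper29.Reynolds

/-!
# Characters trivial on the stabilizer of a closed orbit extend to semi-invariants (helper22)
-/

set_option autoImplicit false
set_option maxHeartbeats 400000

namespace Groth.Agent.Helper22.OrbQ

open TensorProduct Groth.Agent.Helper12 Groth.Agent.Helper29.GLinOrbit Groth.Agent.Helper22.EqZMT

universe u

section Eigen

variable {k : Type u} [Field k] {A : Type u} [CommRing A] [HopfAlgebra k A]
variable {R : Type u} [CommRing R] [Algebra k R] [HopfRep.Comod k A R] [GLin.IsCoactAlg k A R]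

/-- a group-like element in the image of the orbit map lifts to a semi-invariant -/
theorem exists_eigen_of_mem_range (hG : HopfRep.IsLinearlyReductive k A) (x : R →ₐ[k] k)
    (χ : A) (hχ : IsGroupLikeElem k χ) (h : χ ∈ (GLin.orbitHom k A x).range) :
    ∃ v ∈ HopfRep.eigenspace k A R χ, x v = 1 := by
  obtain ⟨f₀, hf₀⟩ := (AlgHom.mem_range _).1 h
  have hLR : Groth.Agent.Helper29.H12Copy.ComodSS.LR.{u, u, u} k A := hG
  have hK : HopfRep.IsSubcomod (k := k) (A := A)
      ((RingHom.ker (GLin.orbitHom k A x)).restrictScalars k) := ker_orbitHom_isSubcomod x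
  obtain ⟨T', hT', hc⟩ := Groth.Agent.Helper29.H12Copy.ComodSS.exists_isCompl hLR _ hK
  have hf : f₀ ∈ (RingHom.ker (GLin.orbitHom k A x)).restrictScalars k ⊔ T' := by
    rw [hc.sup_eq_top]; trivial
  obtain ⟨u, hu, v, hv, huv⟩ := Submodule.mem_sup.1 hf
  have hφu : GLin.orbitHom k A x u = 0 := RingHom.mem_ker.1 hu
  have hφv : GLin.orbitHom k A x v = χ := by
    rw [← hf₀, ← huv, map_add, hφu, zero_add]
  refine ⟨v, ?_, ?_⟩
  · obtain ⟨y, hy⟩ := hT' v hv
    have hψinj : Function.Injective ((GLin.orbitHom k A x).toLinearMap ∘ₗ T'.subtype) := by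
      rw [← LinearMap.ker_eq_bot, LinearMap.ker_eq_bot']
      intro w hw
      have h1 : (w : R) ∈ (RingHom.ker (GLin.orbitHom k A x)).restrictScalars k ⊓ T' :=
        ⟨RingHom.mem_ker.2 hw, w.2⟩
      rw [hc.inf_eq_bot] at h1
      exact Subtype.ext ((Submodule.mem_bot k).1 h1)
    have hψ2 : Function.Injective
        (((GLin.orbitHom k A x).toLinearMap ∘ₗ T'.subtype).rTensor A) :=
      Module.Flat.rTensor_preserves_injective_linearMap _ hψinj
    have key : y = (⟨v, hv⟩ : T') ⊗ₜ[k] χ := by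
      apply hψ2
      rw [LinearMap.rTensor_tmul, LinearMap.rTensor_comp, LinearMap.comp_apply, hy,
        ← comul_orbitHom]
      show CoalgebraStruct.comul (R := k) (GLin.orbitHom k A x v) = GLin.orbitHom k A x v ⊗ₜ[k] χ
      rw [hφv, hχ.comul_eq_tmul_self]
    show HopfRep.Comod.coact (k := k) (A := A) v = v ⊗ₜ[k] χ
    rw [← hy, key, LinearMap.rTensor_tmul]
    rfl
  · rw [← counit_orbitHom (A := A) x v, hφv, hχ.counit_eq_one]

/-- **Characters trivial on the stabilizer of a closed orbit.** -/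
theorem main [IsAlgClosed k] [IsDomain A] [Algebra.FiniteType k A] [Algebra.FiniteType k R]
    (hG : HopfRep.IsLinearlyReductive k A) (χ : A) (hχ : IsGroupLikeElem k χ) :
    ∃ E : Set R, E ⊆ GLin.invariants k A R ∧
      ∀ x : R →ₐ[k] k, GLin.IsClosedOrbit k A x →
        (χ - 1 ∈ GLin.stabIdeal k A x ↔ ∃ f ∈ E, x f ≠ 0) := by
  have hχ' : IsGroupLikeElem k (HopfAlgebraStruct.antipode k χ) := hχ.antipode
  refine ⟨{e | ∃ f ∈ HopfRep.eigenspace k A R χ,
    ∃ h ∈ HopfRep.eigenspace k A R (HopfAlgebraStruct.antipode k χ), e = f * h}, ?_, ?_⟩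
  · rintro _ ⟨f, hf, h, hh, rfl⟩
    have hf' : HopfRep.Comod.coact (k := k) (A := A) f = f ⊗ₜ[k] χ := hf
    have hh' : HopfRep.Comod.coact (k := k) (A := A) h =
        h ⊗ₜ[k] (HopfAlgebraStruct.antipode k χ) := hh
    show HopfRep.Comod.coact (k := k) (A := A) (f * h) = (f * h) ⊗ₜ[k] (1 : A)
    rw [GLin.IsCoactAlg.coact_mul, hf', hh', Algebra.TensorProduct.tmul_mul_tmul,
      hχ.mul_antipode_cancel]
  · intro x hcl
    constructor
    · intro hmem
      haveI := faithfullyFlat_orbC (A := A) x hcl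
      have hJ : GLin.stabIdeal k A x ≤
          Ideal.span {c : A | c ∈ orbC (A := A) x ∧ CoalgebraStruct.counit (R := k) c = 0} := by
        unfold GLin.stabIdeal
        rw [Ideal.map_le_iff_le_comap]
        intro f hf
        rw [Ideal.mem_comap]
        apply Ideal.subset_span
        refine ⟨(AlgHom.mem_range _).2 ⟨f, rfl⟩, ?_⟩
        rw [counit_orbitHom]
        exact RingHom.mem_ker.1 hf
      have h1 : χ ∈ orbC (A := A) x :=
        mem_of_sub_one_mem (orbC (A := A) x) (orbC_coideal x) χ hχ (hJ hmem)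
      have hmem' : HopfAlgebraStruct.antipode k χ - 1 ∈ GLin.stabIdeal k A x := by
        have h0 : HopfAlgebraStruct.antipode k χ - 1 =
            -(HopfAlgebraStruct.antipode k χ) * (χ - 1) := by
          rw [neg_mul, mul_sub, hχ.antipode_mul_cancel, mul_one]
          ring
        rw [h0]
        exact Ideal.mul_mem_left _ _ hmem
      have h2 : HopfAlgebraStruct.antipode k χ ∈ orbC (A := A) x :=
        mem_of_sub_one_mem (orbC (A := A) x) (orbC_coideal x) _ hχ' (hJ hmem')
      obtain ⟨f, hf, hxf⟩ := exists_eigen_of_mem_range hG x χ hχ h1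
      obtain ⟨h, hh, hxh⟩ := exists_eigen_of_mem_range hG x _ hχ' h2
      refine ⟨f * h, ⟨f, hf, h, hh, rfl⟩, ?_⟩
      rw [map_mul, hxf, hxh, one_mul]
      exact one_ne_zero
    · rintro ⟨_, ⟨f, hf, h, hh, rfl⟩, hne⟩
      have hf' : HopfRep.Comod.coact (k := k) (A := A) f = f ⊗ₜ[k] χ := hf
      have hxf : x f ≠ 0 := fun h0 => hne (by rw [map_mul, h0, zero_mul])
      have hφf : GLin.orbitHom k A x f = x f • χ := by
        rw [orbitHom_apply, hf', evalL_tmul]
      have h1 : GLin.orbitHom k A x (f - algebraMap k R (x f)) = x f • (χ - 1) := by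
        rw [map_sub, hφf, AlgHom.commutes, smul_sub, Algebra.algebraMap_eq_smul_one]
      have h2 : x f • (χ - 1) ∈ GLin.stabIdeal k A x := by
        rw [← h1]
        apply Ideal.mem_map_of_mem
        rw [RingHom.mem_ker, map_sub, AlgHom.commutes]
        exact sub_self _
      have h3 : χ - 1 = (x f)⁻¹ • (x f • (χ - 1)) := by
        rw [smul_smul, inv_mul_cancel₀ hxf, one_smul]
      rw [h3]
      exact Submodule.smul_of_tower_mem _ _ h2

end Eigen

end Groth.Agent.Helper22.OrbQ
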