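import Groth.Agent.Lib.Helper22.Coeff
import Mathlib

/-!
# The span of the orbit of a vector under the rational points of a reduced affine group

Over an algebraically closed field, for a reduced finite type bialgebra `A` and a comodule `V`,
the span of the translates `g · v` (`g` a `k`-point) is the smallest subcomodule containing `v`.
-/

set_option autoImplicit false
noncomputable section
namespace Groth.Agent.Helper22.OrbitSpan
open TensorProduct Groth.Agent.Helper12 WithConv Groth.Agent.Helper22.DualAct
  Groth.Agent.Helper22.Coeff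
universe u v w

section Points
variable {k : Type u} [Field k] [IsAlgClosed k] {A : Type v} [CommRing A] [Algebra k A]
  [Algebra.FiniteType k A]

theorem exists_point_of_isMaximal (m : Ideal A) [hm : m.IsMaximal] :
    ∃ g : A →ₐ[k] k, ∀ a ∈ m, g a = 0 := by
  letI : Field (A ⧸ m) := Ideal.Quotient.field m
  haveI : Algebra.FiniteType k (A ⧸ m) :=
    Algebra.FiniteType.of_surjective (Ideal.Quotient.mkₐ k m) (Ideal.Quotient.mkₐ_surjective k m)
  haveI : Module.Finite k (A ⧸ m) := finite_of_finite_type_of_isJacobsonRing k (A ⧸ m)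
  have hbij : Function.Bijective (algebraMap k (A ⧸ m)) :=
    IsAlgClosed.algebraMap_bijective_of_isIntegral
  let e : k ≃ₐ[k] (A ⧸ m) := AlgEquiv.ofBijective (Algebra.ofId k (A ⧸ m)) hbij
  refine ⟨(e.symm : (A ⧸ m) →ₐ[k] k).comp (Ideal.Quotient.mkₐ k m), fun a ha => ?_⟩
  have h0 : Ideal.Quotient.mkₐ k m a = 0 := Ideal.Quotient.eq_zero_iff_mem.mpr ha
  rw [AlgHom.comp_apply, h0, map_zero]

theorem eq_zero_of_forall_point [IsReduced A] (a : A) (h : ∀ g : A →ₐ[k] k, g a = 0) :
    a = 0 := by
  haveI : IsJacobsonRing A := isJacobsonRing_of_finiteType (A := k) (B := A)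
  have hmem : a ∈ (⊥ : Ideal A).jacobson := by
    rw [Ideal.jacobson, Ideal.mem_sInf]
    rintro m ⟨-, hm⟩
    haveI := hm
    obtain ⟨g, hg⟩ := exists_point_of_isMaximal (k := k) m
    have hker : m = RingHom.ker (g : A →+* k) :=
      hm.eq_of_le (RingHom.ker_ne_top _) (fun x hx => (RingHom.mem_ker).mpr (hg x hx))
    rw [hker, RingHom.mem_ker]
    exact h g
  rw [← Ideal.radical_eq_jacobson] at hmem
  obtain ⟨n, hn⟩ := hmem
  have hnil : IsNilpotent a := ⟨n, by simpa using hn⟩
  exact hnil.eq_zero

end Points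

section Main
variable {k : Type u} [Field k] {A : Type v} [CommRing A] [Bialgebra k A]
variable (V : Type w) [AddCommGroup V] [Module k V] [HopfRep.Comod k A V]

theorem act_eq_opT (g : A →ₐ[k] k) :
    HopfRep.Comod.act k A V g = SubComod.opT V g.toLinearMap := rfl

omit [HopfRep.Comod k A V] in
theorem apply_slice (l : A →ₗ[k] k) (f : V →ₗ[k] k) (x : V ⊗[k] A) :
    f (slice l x) = l (lslice f x) := by
  induction x using TensorProduct.induction_on with
  | zero => simp
  | tmul w c => simp [mul_comm]
  | add a b ha hb => simp only [map_add, ha, hb]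

/-- the cyclic subcomodule generated by a vector -/
def cyc (v : V) : Submodule k V :=
  ofSub V (Submodule.span (WithConv (A →ₗ[k] k)) {toMod (k := k) (C := A) V v})

theorem cyc_isSubcomod (v : V) : HopfRep.IsSubcomod (k := k) (A := A) (cyc (k := k) (A := A) V v) :=
  ofSub_isSubcomod V (Submodule.span (WithConv (A →ₗ[k] k)) {toMod (k := k) (C := A) V v})

theorem mem_cyc_self (v : V) : v ∈ cyc (k := k) (A := A) V v := by
  unfold cyc
  rw [mem_ofSub]
  exact Submodule.subset_span (Set.mem_singleton _)

theorem cyc_le (v : V) (W : Submodule k V) (hW : HopfRep.IsSubcomod (k := k) (A := A) W)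
    (hv : v ∈ W) : cyc (k := k) (A := A) V v ≤ W := by
  have h1 : Submodule.span (WithConv (A →ₗ[k] k)) {toMod (k := k) (C := A) V v} ≤
      toSub V W hW := by
    rw [Submodule.span_le]
    rintro _ rfl
    exact hv
  calc cyc (k := k) (A := A) V v ≤ ofSub V (toSub V W hW) := (ofSub_le_iff V).mpr h1
    _ = W := ofSub_toSub V W hW

theorem mem_cyc_iff (v w : V) :
    w ∈ cyc (k := k) (A := A) V v ↔ ∃ l : A →ₗ[k] k, SubComod.opT V l v = w := by
  unfold cyc
  rw [mem_ofSub, Submodule.mem_span_singleton]
  constructor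
  · rintro ⟨x, hx⟩
    exact ⟨x.ofConv, (toMod (k := k) (C := A) V).injective (by rw [← hx]; rfl)⟩
  · rintro ⟨l, rfl⟩
    exact ⟨toConv l, rfl⟩

theorem span_orbit_eq_cyc [IsAlgClosed k] [Algebra.FiniteType k A] [IsReduced A] (v : V) :
    Submodule.span k (Set.range fun g : A →ₐ[k] k => HopfRep.Comod.act k A V g v) =
      cyc (k := k) (A := A) V v := by
  apply le_antisymm
  · rw [Submodule.span_le]
    rintro _ ⟨g, rfl⟩
    exact (mem_cyc_iff V v _).mpr ⟨g.toLinearMap, rfl⟩
  · intro w hw
    obtain ⟨l, rfl⟩ := (mem_cyc_iff V v w).mp hw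
    by_contra hnot
    obtain ⟨f, hfw, hle⟩ := Submodule.exists_le_ker_of_notMem hnot
    apply hfw
    have ha : lslice f (HopfRep.Comod.coact (k := k) (A := A) v) = 0 := by
      apply eq_zero_of_forall_point (k := k)
      intro g
      have h1 : HopfRep.Comod.act k A V g v ∈ Submodule.span k
          (Set.range fun g : A →ₐ[k] k => HopfRep.Comod.act k A V g v) :=
        Submodule.subset_span ⟨g, rfl⟩
      have h2 := hle h1
      rw [LinearMap.mem_ker, act_eq_opT, SubComod.opT_apply, apply_slice] at h2
      exact h2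
    rw [SubComod.opT_apply, apply_slice, ha, map_zero]

end Main

end Groth.Agent.Helper22.OrbitSpan
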