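import Mathlib

/-!
# p-bases: a cofinite family of subfields with intersection `k^p`
-/

set_option autoImplicit false
set_option linter.unusedSectionVars false
set_option linter.unusedVariables false

namespace Groth.Agent.Helper22.PBasis

open IntermediateField Polynomial

section Exchange

variable {E k : Type*} [Field E] [Field k] [Algebra E k] (p : ℕ) [hp : Fact p.Prime] [CharP k p]

theorem isIntegral_of_pow (hpow : ∀ x : k, x ^ p ∈ Set.range (algebraMap E k)) (y : k) :
    IsIntegral E y := by
  obtain ⟨a, ha⟩ := hpow y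
  refine ⟨X ^ p - C a, monic_X_pow_sub_C a hp.out.ne_zero, ?_⟩
  simp [ha]

theorem finrank_simple (hpow : ∀ x : k, x ^ p ∈ Set.range (algebraMap E k)) {y : k}
    (hy : y ∉ (⊥ : IntermediateField E k)) : Module.finrank E E⟮y⟯ = p := by
  obtain ⟨a, ha⟩ := hpow y
  haveI : ExpChar k p := ExpChar.prime hp.out
  have hirr : Irreducible (X ^ p - C a : E[X]) := by
    refine X_pow_sub_C_irreducible_of_prime hp.out (fun c hc => hy ?_)
    rw [IntermediateField.mem_bot]
    refine ⟨c, ?_⟩
    have h1 : (algebraMap E k c) ^ p = y ^ p := by rw [← map_pow, hc, ha]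
    exact frobenius_inj k p (by simpa [frobenius_def] using h1)
  have hroot : aeval y (X ^ p - C a : E[X]) = 0 := by simp [ha]
  have hmin := minpoly.eq_of_irreducible_of_monic hirr hroot
    (monic_X_pow_sub_C a hp.out.ne_zero)
  rw [IntermediateField.adjoin.finrank (isIntegral_of_pow p hpow y), ← hmin,
    natDegree_X_pow_sub_C]

theorem exchange (hpow : ∀ x : k, x ^ p ∈ Set.range (algebraMap E k)) {x b : k}
    (hx : x ∈ E⟮b⟯) (hxE : x ∉ (⊥ : IntermediateField E k)) : b ∈ E⟮x⟯ := by
  have hb : b ∉ (⊥ : IntermediateField E k) := by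
    intro hb
    apply hxE
    have : E⟮b⟯ = ⊥ := IntermediateField.adjoin_simple_eq_bot_iff.2 hb
    rw [this] at hx
    exact hx
  have hle : E⟮x⟯ ≤ E⟮b⟯ := IntermediateField.adjoin_simple_le_iff.2 hx
  haveI : FiniteDimensional E E⟮b⟯ :=
    IntermediateField.adjoin.finiteDimensional (isIntegral_of_pow p hpow b)
  have heq : E⟮x⟯ = E⟮b⟯ :=
    IntermediateField.eq_of_le_of_finrank_eq hle
      (by rw [finrank_simple p hpow hxE, finrank_simple p hpow hb])
  rw [heq]
  exact IntermediateField.mem_adjoin_simple_self E b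

theorem finiteDimensional_of_adjoin_eq_top {S : Set k} [Finite S]
    (hS : ∀ x ∈ S, IsIntegral E x) (h : adjoin E S = ⊤) : FiniteDimensional E k := by
  haveI := IntermediateField.finiteDimensional_adjoin hS
  exact ((IntermediateField.equivOfEq h).trans
    IntermediateField.topEquiv).toLinearEquiv.finiteDimensional

end Exchange

section PInd

variable {F k : Type*} [Field F] [Field k] [Algebra F k]

/-- `p`-independence of a subset of `k` relative to a subfield `F ⊇ k^p`. -/
def PInd (F : Type*) {k : Type*} [Field F] [Field k] [Algebra F k] (B : Set k) : Prop :=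
  ∀ b ∈ B, b ∉ adjoin F (B \ {b})

theorem notMem_bot_of {E : IntermediateField F k} {y : k} (hy : y ∉ E) :
    y ∉ (⊥ : IntermediateField E k) := by
  intro h
  rw [IntermediateField.mem_bot] at h
  obtain ⟨e, rfl⟩ := h
  exact hy e.2

theorem mem_adjoin_insert_iff (S : Set k) (x y : k) :
    y ∈ adjoin F (insert x S) ↔ y ∈ adjoin (↥(adjoin F S)) ({x} : Set k) := by
  have h := IntermediateField.adjoin_adjoin_left F S {x}
  rw [Set.union_singleton] at h
  rw [← h]
  rfl

variable (p : ℕ) [hp : Fact p.Prime] [CharP k p]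
  (hpow : ∀ x : k, x ^ p ∈ Set.range (algebraMap F k))

include hpow in
theorem hpow_inter (E : IntermediateField F k) :
    ∀ x : k, x ^ p ∈ Set.range (algebraMap E k) := by
  intro x
  obtain ⟨a, ha⟩ := hpow x
  exact ⟨algebraMap F E a, by rw [← IsScalarTower.algebraMap_apply, ha]⟩

include hpow in
theorem pind_insert {B : Set k} (hB : PInd F B) {x : k} (hx : x ∉ adjoin F B) :
    PInd F (insert x B) := by
  intro b hb hmem
  rcases hb with hbx | hbB
  · apply hx
    rw [hbx] at hmem
    refine adjoin.mono F _ _ ?_ hmem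
    rintro y ⟨hy1, hy2⟩
    rcases hy1 with hyx | hyB
    · exact absurd (Set.mem_singleton_iff.2 hyx) hy2
    · exact hyB
  · have hbx : b ≠ x := by
      intro h
      rw [h] at hbB
      exact hx (subset_adjoin F B hbB)
    have hset : insert x B \ {b} = insert x (B \ {b}) := by
      ext y
      simp only [Set.mem_diff, Set.mem_insert_iff, Set.mem_singleton_iff]
      constructor
      · rintro ⟨h | h, h2⟩
        · exact Or.inl h
        · exact Or.inr ⟨h, h2⟩
      · rintro (h | ⟨h, h2⟩)
        · exact ⟨Or.inl h, by rw [h]; exact fun h' => hbx h'.symm⟩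
        · exact ⟨Or.inr h, h2⟩
    rw [hset, mem_adjoin_insert_iff] at hmem
    have hbE : b ∉ adjoin F (B \ {b}) := hB b hbB
    have hx' := exchange p (hpow_inter p hpow (adjoin F (B \ {b}))) hmem (notMem_bot_of hbE)
    rw [← mem_adjoin_insert_iff] at hx'
    apply hx
    refine adjoin.mono F _ _ ?_ hx'
    intro y hy
    rcases hy with hyb | hy
    · rw [hyb]; exact hbB
    · exact hy.1

include hpow in
theorem exists_pbasis : ∃ B : Set k, PInd F B ∧ adjoin F B = ⊤ := by
  classical
  obtain ⟨m, hm⟩ := zorn_subset {B : Set k | PInd F B} (by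
    intro c hcS hc
    refine ⟨⋃₀ c, ?_, fun s hs => Set.subset_sUnion_of_mem hs⟩
    intro b hb hmem
    obtain ⟨T, hT, hbT⟩ := IntermediateField.exists_finset_of_mem_adjoin hmem
    obtain ⟨s₀, hs₀, hbs₀⟩ := hb
    have hne : c.Nonempty := ⟨s₀, hs₀⟩
    have hsub : (↑(insert b T) : Set k) ⊆ ⋃ i ∈ c, (fun i : Set k => i) i := by
      intro y hy
      rw [Finset.coe_insert] at hy
      rcases hy with hyb | hyT
      · rw [hyb]; exact Set.mem_iUnion₂.2 ⟨s₀, hs₀, hbs₀⟩
      · obtain ⟨s', hs', hys'⟩ := (hT hyT).1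
        exact Set.mem_iUnion₂.2 ⟨s', hs', hys'⟩
    obtain ⟨s, hsc, hs⟩ := DirectedOn.exists_mem_subset_of_finset_subset_biUnion
      (f := fun i : Set k => i) hne hc.directedOn hsub
    have hbs : b ∈ s := hs (by simp)
    have hTs : (↑T : Set k) ⊆ s \ {b} := fun y hy => ⟨hs (by simp [hy]), (hT hy).2⟩
    exact hcS hsc b hbs (adjoin.mono F _ _ hTs hbT))
  refine ⟨m, hm.prop, ?_⟩
  rw [eq_top_iff]
  intro x _
  by_contra hx
  have h1 : PInd F (insert x m) := pind_insert p hpow hm.prop hx
  have h2 : insert x m ⊆ m := hm.le_of_ge h1 (Set.subset_insert x m)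
  exact hx (subset_adjoin F m (h2 (Set.mem_insert x m)))

include hpow in
theorem inter_le_bot (T : Finset k) : ∀ (S : Set k),
    (∀ b ∈ T, b ∉ adjoin F (S ∪ ((↑T : Set k) \ {b}))) →
    ∀ x, x ∈ adjoin F (↑T : Set k) → x ∈ adjoin F S → x ∈ (⊥ : IntermediateField F k) := by
  classical
  induction T using Finset.induction_on with
  | empty =>
    intro S _ x hx _
    rw [Finset.coe_empty, IntermediateField.adjoin_empty] at hx
    exact hx
  | insert b₀ T' hb₀ ih =>
    intro S hS x hxT hxS
    have hx1 : x ∈ adjoin F (↑T' : Set k) := by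
      by_contra hx1
      rw [Finset.coe_insert, mem_adjoin_insert_iff] at hxT
      have h2 := exchange p (hpow_inter p hpow (adjoin F (↑T' : Set k))) hxT (notMem_bot_of hx1)
      rw [← mem_adjoin_insert_iff] at h2
      apply hS b₀ (Finset.mem_insert_self b₀ T')
      have h3 : adjoin F (insert x (↑T' : Set k)) ≤
          adjoin F (S ∪ ((↑(insert b₀ T') : Set k) \ {b₀})) := by
        rw [IntermediateField.adjoin_le_iff]
        intro y hy
        rcases hy with hyx | hyT
        · rw [hyx]
          exact adjoin.mono F _ _ Set.subset_union_left hxS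
        · refine subset_adjoin F _ (Or.inr ⟨?_, ?_⟩)
          · rw [Finset.coe_insert]; exact Or.inr hyT
          · intro hyb
            rw [Set.mem_singleton_iff] at hyb
            rw [hyb] at hyT
            exact hb₀ (Finset.mem_coe.1 hyT)
      exact h3 h2
    refine ih S (fun b hb => ?_) x hx1 hxS
    intro hmem
    apply hS b (Finset.mem_insert_of_mem hb)
    refine adjoin.mono F _ _ ?_ hmem
    rintro y (hy | ⟨hy1, hy2⟩)
    · exact Or.inl hy
    · exact Or.inr ⟨by rw [Finset.coe_insert]; exact Or.inr hy1, hy2⟩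

include hpow in
theorem exists_family : ∃ B : Set k,
    (∀ J : Finset k, FiniteDimensional (adjoin F (B \ (↑J : Set k))) k) ∧
    (∀ x : k, (∀ J : Finset k, x ∈ adjoin F (B \ (↑J : Set k))) →
      x ∈ (⊥ : IntermediateField F k)) := by
  classical
  obtain ⟨B, hB, htop⟩ := exists_pbasis p hpow
  refine ⟨B, ?_, ?_⟩
  · intro J
    have h1 : adjoin (↥(adjoin F (B \ (↑J : Set k)))) (↑J : Set k) = ⊤ := by
      rw [eq_top_iff]
      intro y _
      have h2 : y ∈ IntermediateField.restrictScalars F
          (adjoin (↥(adjoin F (B \ (↑J : Set k)))) (↑J : Set k)) := by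
        rw [IntermediateField.adjoin_adjoin_left]
        have : y ∈ adjoin F B := by rw [htop]; trivial
        refine adjoin.mono F _ _ ?_ this
        intro z hz
        by_cases hzJ : z ∈ (↑J : Set k)
        · exact Or.inr hzJ
        · exact Or.inl ⟨hz, hzJ⟩
      exact h2
    exact finiteDimensional_of_adjoin_eq_top
      (fun y _ => isIntegral_of_pow p (hpow_inter p hpow _) y) h1
  · intro x hx
    have hxB : x ∈ adjoin F B := by rw [htop]; trivial
    obtain ⟨T, hT, hxT⟩ := IntermediateField.exists_finset_of_mem_adjoin hxB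
    refine inter_le_bot p hpow T (B \ (↑T : Set k)) ?_ x hxT (hx T)
    intro b hb hmem
    apply hB b (hT hb)
    refine adjoin.mono F _ _ ?_ hmem
    rintro y (⟨hy1, hy2⟩ | ⟨hy1, hy2⟩)
    · refine ⟨hy1, ?_⟩
      intro hyb
      rw [Set.mem_singleton_iff] at hyb
      rw [hyb] at hy2
      exact hy2 hb
    · exact ⟨hT hy1, hy2⟩

end PInd

end Groth.Agent.Helper22.PBasis
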