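import Mathlib
import Groth.Agent.Lib.Helper22.PBasis1

/-!
# `k[[T]]` over `E[[T^p]]` for a cofinite subfield `E ⊇ k^p`
-/

set_option autoImplicit false
set_option linter.unusedSectionVars false
set_option linter.unusedVariables false

namespace Groth.Agent.Helper22.PBasis

open MvPowerSeries Module

universe u₁ u₂

section Series

variable {E k : Type*} [Field E] [Field k] [Algebra E k] (p : ℕ) [hp : Fact p.Prime] [CharP k p]
  {σ : Type*} [Fintype σ] [DecidableEq σ]

/-- The ring hom `E[[T]] → k[[T]]`, `f ↦ f(T^p)`. -/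
noncomputable def phi : MvPowerSeries σ E →+* MvPowerSeries σ k :=
  ((MvPowerSeries.expand p hp.out.ne_zero :
    MvPowerSeries σ k →ₐ[k] MvPowerSeries σ k) : MvPowerSeries σ k →+* MvPowerSeries σ k).comp
    (MvPowerSeries.map (algebraMap E k))

theorem phi_apply (c : MvPowerSeries σ E) :
    phi p c = MvPowerSeries.expand p hp.out.ne_zero (MvPowerSeries.map (algebraMap E k) c) := rfl

theorem coeff_phi_smul (c : MvPowerSeries σ E) (n : σ →₀ ℕ) :
    coeff (p • n) (phi p c) = algebraMap E k (coeff n c) := by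
  rw [phi_apply, coeff_expand_smul, coeff_map]

theorem coeff_phi_of_not_dvd (c : MvPowerSeries σ E) {m : σ →₀ ℕ} {i : σ} (h : ¬ p ∣ m i) :
    coeff m (phi p (k := k) c) = 0 := by
  rw [phi_apply]
  exact coeff_expand_of_not_dvd p hp.out.ne_zero _ h

/-- quotient exponent -/
noncomputable def quo (m : σ →₀ ℕ) : σ →₀ ℕ := m.mapRange (fun n => n / p) (Nat.zero_div p)

/-- remainder exponent as a function to `Fin p` -/
def remF (m : σ →₀ ℕ) : σ → Fin p := fun i => ⟨m i % p, Nat.mod_lt _ hp.out.pos⟩

/-- a function to `Fin p` as an exponent -/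
noncomputable def fe (f : σ → Fin p) : σ →₀ ℕ :=
  Finsupp.equivFunOnFinite.symm (fun i => (f i : ℕ))

theorem fe_apply (f : σ → Fin p) (i : σ) : fe p f i = (f i : ℕ) := by
  simp [fe]

theorem quo_add_rem (m : σ →₀ ℕ) : p • quo p m + fe p (remF p m) = m := by
  ext i
  simp only [Finsupp.coe_add, Pi.add_apply, Finsupp.coe_smul, Pi.smul_apply, smul_eq_mul, quo,
    Finsupp.mapRange_apply, fe_apply, remF]
  exact Nat.div_add_mod (m i) p

theorem eq_smul_quo {m : σ →₀ ℕ} (h : ∀ i, p ∣ m i) : m = p • quo p m := by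
  ext i
  simp only [Finsupp.coe_smul, Pi.smul_apply, smul_eq_mul, quo, Finsupp.mapRange_apply]
  exact (Nat.mul_div_cancel' (h i)).symm

variable {α : Type*} [Fintype α] (v : Basis α E k)

/-- the candidate basis of `k[[T]]` over `E[[T^p]]` -/
noncomputable def ebasis (i : α × (σ → Fin p)) : MvPowerSeries σ k :=
  monomial (fe p i.2) (v i.1)

theorem key (c : α × (σ → Fin p) → MvPowerSeries σ E) (n : σ →₀ ℕ) (f : σ → Fin p) :
    coeff (p • n + fe p f) (∑ i, phi p (c i) * ebasis p v i) =
      ∑ a, algebraMap E k (coeff n (c (a, f))) * v a := by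
  rw [map_sum, Fintype.sum_prod_type]
  refine Finset.sum_congr rfl (fun a _ => ?_)
  rw [Finset.sum_eq_single f]
  · show coeff (p • n + fe p f) (phi p (c (a, f)) * monomial (fe p f) (v a)) = _
    rw [coeff_mul_monomial, if_pos le_add_self, add_tsub_cancel_right, coeff_phi_smul]
  · intro f' _ hf'
    show coeff (p • n + fe p f) (phi p (c (a, f')) * monomial (fe p f') (v a)) = 0
    rw [coeff_mul_monomial]
    split_ifs with hle
    · obtain ⟨i, hi⟩ : ∃ i, f' i ≠ f i := by
        by_contra hcon
        push Not at hcon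
        exact hf' (funext hcon)
      rw [coeff_phi_of_not_dvd p _ (i := i), zero_mul]
      intro hdvd
      apply hi
      have hle_i : (f' i : ℕ) ≤ p * n i + (f i : ℕ) := by
        have := hle i
        simpa [fe_apply] using this
      have hval : (p • n + fe p f - fe p f') i = p * n i + (f i : ℕ) - (f' i : ℕ) := by
        simp [Finsupp.tsub_apply, fe_apply]
      rw [hval] at hdvd
      obtain ⟨q, hq⟩ := hdvd
      have h1 : p * n i + (f i : ℕ) = p * q + (f' i : ℕ) := by omega
      have h2 : (f i : ℕ) % p = (f' i : ℕ) % p := by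
        have := congrArg (· % p) h1
        simpa [Nat.mul_add_mod] using this
      rw [Nat.mod_eq_of_lt (f i).2, Nat.mod_eq_of_lt (f' i).2] at h2
      exact (Fin.ext h2).symm
    · rfl
  · intro h
    exact absurd (Finset.mem_univ f) h

theorem indep_aux (c : α × (σ → Fin p) → MvPowerSeries σ E)
    (h : ∑ i, phi p (c i) * ebasis p v i = 0) : ∀ i, c i = 0 := by
  rintro ⟨a, f⟩
  ext n
  have h1 := key p v c n f
  rw [h, map_zero] at h1
  have h2 : ∑ a, (coeff n (c (a, f))) • v a = 0 := by
    simp only [Algebra.smul_def]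
    exact h1.symm
  have := Fintype.linearIndependent_iff.1 v.linearIndependent (fun a => coeff n (c (a, f))) h2 a
  simpa using this

theorem span_aux (g : MvPowerSeries σ k) :
    g = ∑ i : α × (σ → Fin p),
      phi p (fun n => v.repr (coeff (p • n + fe p i.2) g) i.1 : MvPowerSeries σ E) *
        ebasis p v i := by
  ext m
  have hm := quo_add_rem p m
  have h1 := key p v (fun (i : α × (σ → Fin p)) =>
    (fun n => v.repr (coeff (p • n + fe p i.2) g) i.1 : MvPowerSeries σ E)) (quo p m) (remF p m)
  rw [hm] at h1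
  rw [h1]
  have h2 : ∀ a, coeff (quo p m)
      (fun n => v.repr (coeff (p • n + fe p (remF p m)) g) a : MvPowerSeries σ E) =
      v.repr (coeff m g) a := by
    intro a
    rw [coeff_apply, hm]
  simp only [h2, ← Algebra.smul_def]
  exact (v.sum_repr _).symm

theorem linearIndependent_ebasis :
    LinearIndependent (phi p (E := E) (k := k) (σ := σ)).range (ebasis p (σ := σ) v) := by
  rw [Fintype.linearIndependent_iff]
  intro s hs i
  choose c hc using fun i => RingHom.mem_range.1 (s i).2
  have h : ∑ i, phi p (c i) * ebasis p v i = 0 := by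
    rw [← hs]
    refine Finset.sum_congr rfl (fun i _ => ?_)
    rw [hc i]
    rfl
  have := indep_aux p v c h i
  apply Subtype.ext
  rw [← hc i, this, map_zero]
  rfl

theorem span_ebasis :
    ⊤ ≤ Submodule.span (phi p (E := E) (k := k) (σ := σ)).range
      (Set.range (ebasis p (σ := σ) v)) := by
  intro g _
  rw [span_aux p v g]
  refine Submodule.sum_mem _ (fun i _ => ?_)
  have : ∀ c : MvPowerSeries σ E, phi p c * ebasis p v i =
      (⟨phi p c, ⟨c, rfl⟩⟩ : (phi p (E := E) (k := k) (σ := σ)).range) • ebasis p v i :=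
    fun c => rfl
  rw [this]
  exact Submodule.smul_mem _ _ (Submodule.subset_span ⟨i, rfl⟩)

/-- The basis of `k[[T]]` over `E[[T^p]]`. -/
noncomputable def theBasis :
    Basis (α × (σ → Fin p)) (phi p (E := E) (k := k) (σ := σ)).range (MvPowerSeries σ k) :=
  Basis.mk (linearIndependent_ebasis p v) (span_ebasis p v)

theorem theBasis_apply (i : α × (σ → Fin p)) : theBasis p v i = ebasis p v i :=
  Basis.mk_apply _ _ i

theorem saturated (a₀ : α) (ha₀ : v a₀ = 1) {x w : MvPowerSeries σ k}
    (hw : w ∈ (phi p (E := E) (k := k) (σ := σ)).range) (hw0 : w ≠ 0)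
    (hxw : x * w ∈ (phi p (E := E) (k := k) (σ := σ)).range) :
    x ∈ (phi p (E := E) (k := k) (σ := σ)).range := by
  have hb1 : theBasis p (σ := σ) v ((a₀, fun _ => (⟨0, hp.out.pos⟩ : Fin p)) : α × (σ → Fin p)) = 1 := by
    rw [theBasis_apply]
    show monomial (fe p _) (v a₀) = 1
    rw [ha₀]
    have : fe p (fun _ : σ => (⟨0, hp.out.pos⟩ : Fin p)) = 0 := by
      ext i
      rw [fe_apply]
      rfl
    rw [this, monomial_zero_one]
  have h1 : (⟨w, hw⟩ : (phi p (E := E) (k := k) (σ := σ)).range) • x =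
      (⟨x * w, hxw⟩ : (phi p (E := E) (k := k) (σ := σ)).range) •
        theBasis p (σ := σ) v ((a₀, fun _ => (⟨0, hp.out.pos⟩ : Fin p)) : α × (σ → Fin p)) := by
    rw [hb1]
    show w * x = (x * w) * 1
    ring
  have h2 := congrArg ((theBasis p (σ := σ) v).coord ((a₀, fun _ => (⟨0, hp.out.pos⟩ : Fin p)) : α × (σ → Fin p))) h1
  rw [map_smul, map_smul, Basis.coord_apply, Basis.coord_apply, Basis.repr_self,
    Finsupp.single_eq_same, smul_eq_mul, smul_eq_mul, mul_one] at h2
  have h3 : w * (((theBasis p (σ := σ) v).repr x ((a₀, fun _ => (⟨0, hp.out.pos⟩ : Fin p)) : α × (σ → Fin p)) :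
      (phi p (E := E) (k := k) (σ := σ)).range) : MvPowerSeries σ k) = x * w :=
    congrArg Subtype.val h2
  have h4 : (((theBasis p (σ := σ) v).repr x ((a₀, fun _ => (⟨0, hp.out.pos⟩ : Fin p)) : α × (σ → Fin p)) :
      (phi p (E := E) (k := k) (σ := σ)).range) : MvPowerSeries σ k) = x := by
    apply mul_left_cancel₀ hw0
    rw [h3, mul_comm]
  rw [← h4]
  exact Subtype.property _

theorem pow_mem_range (hpow : ∀ x : k, x ^ p ∈ Set.range (algebraMap E k))
    (g : MvPowerSeries σ k) : g ^ p ∈ (phi p (E := E) (k := k) (σ := σ)).range := by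
  haveI : ExpChar k p := ExpChar.prime hp.out
  choose c hc using fun n => hpow (coeff n g)
  refine ⟨(fun n => c n : MvPowerSeries σ E), ?_⟩
  rw [phi_apply, ← map_frobenius_expand p hp.out.ne_zero, map_expand]
  congr 1
  ext n
  rw [coeff_map, coeff_map, coeff_apply, hc n, frobenius_def]

theorem exists_pow_eq (x : MvPowerSeries σ k)
    (hx : x ∈ (phi p (E := E) (k := k) (σ := σ)).range)
    (hc : ∀ n, ∃ y : k, y ^ p = coeff (p • n) x) : ∃ g : MvPowerSeries σ k, g ^ p = x := by
  haveI : ExpChar k p := ExpChar.prime hp.out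
  choose y hy using hc
  refine ⟨(fun n => y n : MvPowerSeries σ k), ?_⟩
  obtain ⟨c, rfl⟩ := hx
  rw [← map_frobenius_expand p hp.out.ne_zero]
  ext m
  rw [coeff_map]
  by_cases h : ∀ i, p ∣ m i
  · have hm := eq_smul_quo p h
    rw [hm, coeff_expand_smul, frobenius_def, coeff_apply]
    exact hy (quo p m)
  · push Not at h
    obtain ⟨i, hi⟩ := h
    rw [coeff_expand_of_not_dvd p _ _ hi, map_zero, coeff_phi_of_not_dvd p c hi]

theorem free_finite [FiniteDimensional E k] :
    IsNoetherianRing (phi p (E := E) (k := k) (σ := σ)).range ∧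
      Module.Free (phi p (E := E) (k := k) (σ := σ)).range (MvPowerSeries σ k) ∧
      Module.Finite (phi p (E := E) (k := k) (σ := σ)).range (MvPowerSeries σ k) := by
  refine ⟨isNoetherianRing_range _, ?_, ?_⟩
  · exact Module.Free.of_basis (theBasis p (Module.finBasis E k))
  · exact Module.Finite.of_basis (theBasis p (Module.finBasis E k))

theorem exists_basis_one {E : Type u₁} {k : Type u₂} [Field E] [Field k] [Algebra E k]
    [FiniteDimensional E k] :
    ∃ (β : Type u₂) (_ : Fintype β) (v : Basis β E k) (a₀ : β), v a₀ = 1 := by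
  have hli : LinearIndepOn E id ({1} : Set k) :=
    LinearIndepOn.singleton (by simp)
  let b := Basis.extend hli
  have h1 : (1 : k) ∈ hli.extend (Set.subset_univ _) :=
    Basis.subset_extend hli (Set.mem_singleton 1)
  exact ⟨_, FiniteDimensional.fintypeBasisIndex b, b, ⟨1, h1⟩, Basis.extend_apply_self hli _⟩

theorem saturated' [FiniteDimensional E k] {x w : MvPowerSeries σ k}
    (hw : w ∈ (phi p (E := E) (k := k) (σ := σ)).range) (hw0 : w ≠ 0)
    (hxw : x * w ∈ (phi p (E := E) (k := k) (σ := σ)).range) :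
    x ∈ (phi p (E := E) (k := k) (σ := σ)).range := by
  obtain ⟨β, hβ, v, a₀, ha₀⟩ := exists_basis_one (E := E) (k := k)
  exact saturated p v a₀ ha₀ hw hw0 hxw

end Series

end Groth.Agent.Helper22.PBasis
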