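import Mathlib
import Groth.Agent.Lib.Helper22.PBasis2

/-!
# EGA 0_IV 21.8.8-type statement: `k[[T]]` is finite free over a filtered family of Noetherian
subrings whose fraction fields intersect in `K^p`.
-/

set_option autoImplicit false
set_option linter.unusedSectionVars false
set_option linter.unusedVariables false

namespace Groth.Agent.Helper22.PBasis

open MvPowerSeries Module

universe u

section Mono

variable {F k : Type*} [Field F] [Field k] [Algebra F k] (p : ℕ) [hp : Fact p.Prime] [CharP k p]
  {σ : Type*} [Fintype σ] [DecidableEq σ]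

theorem range_mono {E' E : IntermediateField F k} (h : E' ≤ E) :
    (phi p (E := ↥E') (k := k) (σ := σ)).range ≤ (phi p (E := ↥E) (k := k) (σ := σ)).range := by
  rintro _ ⟨c, rfl⟩
  refine ⟨MvPowerSeries.map ((IntermediateField.inclusion h : ↥E' →ₐ[F] ↥E) : ↥E' →+* ↥E) c, ?_⟩
  rw [phi_apply, phi_apply]
  congr 1

theorem coeff_mem_of_mem_range {E : IntermediateField F k} {x : MvPowerSeries σ k}
    (hx : x ∈ (phi p (E := ↥E) (k := k) (σ := σ)).range) (n : σ →₀ ℕ) :
    coeff (p • n) x ∈ E := by
  obtain ⟨c, rfl⟩ := hx
  rw [coeff_phi_smul]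
  exact (coeff n c).2

end Mono

theorem main (p : ℕ) [Fact p.Prime] (k : Type u) [Field k] [CharP k p] (r : ℕ) :
    ∃ (ι : Type u) (_ : Nonempty ι) (S : ι → Subring (MvPowerSeries (Fin r) k)),
      (∀ a b : ι, ∃ c, S c ≤ S a ⊓ S b) ∧
      (∀ i, IsNoetherianRing (S i) ∧ Module.Free (S i) (MvPowerSeries (Fin r) k) ∧
        Module.Finite (S i) (MvPowerSeries (Fin r) k)) ∧
      ((⨅ i, Subfield.closure (algebraMap (MvPowerSeries (Fin r) k)
          (FractionRing (MvPowerSeries (Fin r) k)) '' (S i)) :
          Set (FractionRing (MvPowerSeries (Fin r) k)))) =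
        Set.range fun x : FractionRing (MvPowerSeries (Fin r) k) => x ^ p := by
  classical
  have hpow : ∀ x : k, x ^ p ∈ Set.range (algebraMap ((frobenius k p).fieldRange) k) :=
    fun x => ⟨⟨x ^ p, ⟨x, rfl⟩⟩, rfl⟩
  obtain ⟨B, hfin, hint⟩ := exists_family p hpow
  refine ⟨Finset k, ⟨∅⟩, fun J => (phi p
    (E := ↥(IntermediateField.adjoin ((frobenius k p).fieldRange) (B \ (↑J : Set k))))
    (k := k) (σ := Fin r)).range, ?_, ?_, ?_⟩
  · intro a b
    refine ⟨a ∪ b, le_inf (range_mono p ?_) (range_mono p ?_)⟩
    · apply IntermediateField.adjoin.mono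
      intro y hy
      refine ⟨hy.1, fun h => hy.2 ?_⟩
      rw [Finset.coe_union]
      exact Or.inl h
    · apply IntermediateField.adjoin.mono
      intro y hy
      refine ⟨hy.1, fun h => hy.2 ?_⟩
      rw [Finset.coe_union]
      exact Or.inr h
  · intro J
    haveI := hfin J
    exact free_finite p
  · ext x
    rw [Set.iInf_eq_iInter, Set.mem_iInter]
    have hinj := IsFractionRing.injective (MvPowerSeries (Fin r) k)
      (FractionRing (MvPowerSeries (Fin r) k))
    constructor
    · intro hx
      obtain ⟨a, s, hs, rfl⟩ := IsFractionRing.div_surjective (MvPowerSeries (Fin r) k) x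
      have hs0 : s ≠ 0 := nonZeroDivisors.ne_zero hs
      have hs0' : algebraMap (MvPowerSeries (Fin r) k)
          (FractionRing (MvPowerSeries (Fin r) k)) s ≠ 0 :=
        fun h => hs0 (hinj (by rw [h, map_zero]))
      have hmem : ∀ J : Finset k, a * s ^ (p - 1) ∈ (phi p
          (E := ↥(IntermediateField.adjoin ((frobenius k p).fieldRange) (B \ (↑J : Set k))))
          (k := k) (σ := Fin r)).range := by
        intro J
        haveI := hfin J
        have hxJ := hx J
        beta_reduce at hxJ
        rw [SetLike.mem_coe, Subfield.mem_closure_iff] at hxJ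
        obtain ⟨y, hy, z, hz, hyz⟩ := hxJ
        rw [← Subring.coe_map, Subring.closure_eq] at hy hz
        obtain ⟨u, hu, rfl⟩ := Subring.mem_map.1 hy
        obtain ⟨w, hw, rfl⟩ := Subring.mem_map.1 hz
        by_cases hw0 : w = 0
        · rw [hw0, map_zero, div_zero] at hyz
          have ha : a = 0 := by
            have h1 : algebraMap (MvPowerSeries (Fin r) k)
                (FractionRing (MvPowerSeries (Fin r) k)) a = 0 := by
              rcases div_eq_zero_iff.1 hyz.symm with h | h
              · exact h
              · exact absurd h hs0'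
            exact hinj (by rw [h1, map_zero])
          rw [ha, zero_mul]
          exact Subring.zero_mem _
        · have hw0' : algebraMap (MvPowerSeries (Fin r) k)
              (FractionRing (MvPowerSeries (Fin r) k)) w ≠ 0 :=
            fun h => hw0 (hinj (by rw [h, map_zero]))
          have h1 : u * s = a * w := by
            apply hinj
            rw [map_mul, map_mul]
            exact (div_eq_div_iff hw0' hs0').1 hyz
          refine saturated' p hw hw0 ?_
          have h2 : a * s ^ (p - 1) * w = u * s ^ p := by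
            calc a * s ^ (p - 1) * w = (a * w) * s ^ (p - 1) := by ring
              _ = (u * s) * s ^ (p - 1) := by rw [h1]
              _ = u * s ^ ((p - 1) + 1) := by ring
              _ = u * s ^ p := by rw [Nat.sub_add_cancel (Fact.out : p.Prime).one_le]
          rw [h2]
          exact Subring.mul_mem _ hu (pow_mem_range p (hpow_inter p hpow _) s)
      have hcoef : ∀ n, ∃ y : k, y ^ p = MvPowerSeries.coeff (p • n) (a * s ^ (p - 1)) := by
        intro n
        have h1 := hint (MvPowerSeries.coeff (p • n) (a * s ^ (p - 1)))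
          (fun J => coeff_mem_of_mem_range p (hmem J) n)
        rw [IntermediateField.mem_bot] at h1
        obtain ⟨f₀, hf₀⟩ := h1
        obtain ⟨y, hy⟩ := RingHom.mem_fieldRange.1 f₀.2
        exact ⟨y, by rw [← hf₀]; exact hy⟩
      obtain ⟨g, hg⟩ := exists_pow_eq p _ (hmem ∅) hcoef
      refine ⟨algebraMap _ _ g / algebraMap _ _ s, ?_⟩
      show (algebraMap _ _ g / algebraMap _ _ s) ^ p = algebraMap _ _ a / algebraMap _ _ s
      rw [div_pow, ← map_pow, hg, map_mul, map_pow,
        div_eq_div_iff (pow_ne_zero p hs0') hs0', mul_assoc, ← pow_succ,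
        Nat.sub_add_cancel (Fact.out : p.Prime).one_le]
    · rintro ⟨y, rfl⟩ J
      obtain ⟨a, s, hs, rfl⟩ := IsFractionRing.div_surjective (MvPowerSeries (Fin r) k) y
      show (algebraMap _ _ a / algebraMap _ _ s) ^ p ∈ Subfield.closure _
      rw [div_pow, ← map_pow, ← map_pow]
      exact Subfield.div_mem _
        (Subfield.subset_closure ⟨a ^ p, pow_mem_range p (hpow_inter p hpow _) a, rfl⟩)
        (Subfield.subset_closure ⟨s ^ p, pow_mem_range p (hpow_inter p hpow _) s, rfl⟩)

end Groth.Agent.Helper22.PBasis
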