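import Mathlib
import Groth.Prelude.Def_EtRam
import Groth.Agent.Lib.Helper22.EtU

/-!
# Adjoining `p`-th roots of residually non-`p`-th-power units (helper library for S16360)

Fix a field `Ω` with a valuation subring `𝒲`, a base ring `R → Ω` landing in `𝒲`, a "uniformizer"
`ϖ` and a prime `p` which is the characteristic of the residue field of `𝒲`.

* `PGood 𝒲 p hg ϖ H`: the subfield `H` is unramified over the base (`Div`, `Arch`), the residues of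
  `H ∩ 𝒲` are purely inseparable over the residues of `R`, and `H ∩ 𝒲` is a directed union of
  finite free `R`-algebras of `p`-power rank.
* `pgood_adjoin`: if `a ∈ H ∩ 𝒲` is residually not a `p`-th power in `H ∩ 𝒲` and `θ ^ p = a`, then
  `H(θ)` is again `PGood`.
-/

set_option autoImplicit false
set_option linter.deprecated false
set_option linter.unusedVariables false
universe u

open Polynomial IsLocalRing

namespace Groth.Agent.Helper22.PClA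

open Groth.Agent.Helper22.EtU

section Abstract

/-- if `a` is not a `p`-th power in `F` and `θ ^ p = a`, then `1, θ, …, θ ^ (p - 1)` are linearly
independent over `F` -/
theorem coeff_zero_of_sum_eq_zero {F E : Type*} [Field F] [Field E] [Algebra F E] (p : ℕ)
    (hp : p.Prime) (a : F) (ha : ∀ b : F, b ^ p ≠ a) (θ : E) (hθ : θ ^ p = algebraMap F E a)
    (c : ℕ → F) (hsum : ∑ i ∈ Finset.range p, algebraMap F E (c i) * θ ^ i = 0) :
    ∀ i < p, c i = 0 := by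
  have hirr : Irreducible (X ^ p - C a : F[X]) := X_pow_sub_C_irreducible_of_prime hp ha
  have hmon : (X ^ p - C a : F[X]).Monic := monic_X_pow_sub_C a hp.ne_zero
  have hroot : aeval θ (X ^ p - C a : F[X]) = 0 := by
    rw [map_sub, map_pow, aeval_X, aeval_C, hθ, sub_self]
  have hmin : (X ^ p - C a : F[X]) = minpoly F θ :=
    minpoly.eq_of_irreducible_of_monic hirr hroot hmon
  obtain ⟨s, hs⟩ : ∃ s : F[X], s = ∑ i ∈ Finset.range p, C (c i) * X ^ i := ⟨_, rfl⟩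
  have hcoeff : ∀ j, s.coeff j = if j < p then c j else 0 := by
    intro j
    rw [hs, Polynomial.finset_sum_coeff]
    by_cases hj : j < p
    · rw [if_pos hj, Finset.sum_eq_single j]
      · rw [coeff_C_mul_X_pow, if_pos rfl]
      · intro i _ hij
        rw [coeff_C_mul_X_pow, if_neg (fun h => hij h.symm)]
      · intro h
        exact absurd (Finset.mem_range.mpr hj) h
    · rw [if_neg hj]
      apply Finset.sum_eq_zero
      intro i hi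
      rw [coeff_C_mul_X_pow, if_neg]
      intro h
      apply hj
      rw [h]
      exact Finset.mem_range.mp hi
  have hev : aeval θ s = 0 := by
    rw [hs, map_sum, ← hsum]
    apply Finset.sum_congr rfl
    intro i _
    rw [map_mul, aeval_C, map_pow, aeval_X]
  have hs0 : s = 0 := by
    by_contra hne
    have h1 := minpoly.degree_le_of_ne_zero F θ hne hev
    rw [← hmin, degree_X_pow_sub_C hp.pos a] at h1
    have h2 : s.degree < (p : WithBot ℕ) :=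
      (degree_lt_iff_coeff_zero s p).mpr (fun m hm => by rw [hcoeff, if_neg (not_lt.mpr hm)])
    exact absurd h1 (not_le.mpr h2)
  intro i hi
  have h := hcoeff i
  rw [hs0, coeff_zero, if_pos hi] at h
  exact h.symm

end Abstract

section PP
variable {R κ : Type*} [CommRing R] [CommRing κ] (p : ℕ) (gb : R →+* κ)

/-- `y` has a `p`-power-th power in the image of `gb` -/
def IsPP (y : κ) : Prop := ∃ (m : ℕ) (z : R), y ^ (p ^ m) = gb z

variable {p gb}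

theorem IsPP.map (z : R) : IsPP p gb (gb z) := ⟨0, z, by rw [pow_zero, pow_one]⟩

theorem IsPP.zero : IsPP p gb 0 := ⟨0, 0, by rw [pow_zero, pow_one, map_zero]⟩

theorem IsPP.of_pow {y : κ} (h : IsPP p gb (y ^ p)) : IsPP p gb y := by
  obtain ⟨m, z, hz⟩ := h
  refine ⟨m + 1, z, ?_⟩
  rw [pow_succ', pow_mul]
  exact hz

theorem IsPP.pow {y : κ} (h : IsPP p gb y) (n : ℕ) : IsPP p gb (y ^ n) := by
  obtain ⟨m, z, hz⟩ := h
  refine ⟨m, z ^ n, ?_⟩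
  rw [← pow_mul, mul_comm, pow_mul, hz, map_pow]

theorem IsPP.mul {y₁ y₂ : κ} (h₁ : IsPP p gb y₁) (h₂ : IsPP p gb y₂) : IsPP p gb (y₁ * y₂) := by
  obtain ⟨m₁, z₁, h₁⟩ := h₁
  obtain ⟨m₂, z₂, h₂⟩ := h₂
  have e₁ : y₁ ^ (p ^ (m₁ + m₂)) = gb (z₁ ^ (p ^ m₂)) := by
    rw [map_pow, ← h₁, ← pow_mul, ← pow_add]
  have e₂ : y₂ ^ (p ^ (m₁ + m₂)) = gb (z₂ ^ (p ^ m₁)) := by
    rw [map_pow, ← h₂, ← pow_mul, ← pow_add, add_comm]
  exact ⟨m₁ + m₂, z₁ ^ (p ^ m₂) * z₂ ^ (p ^ m₁), by rw [mul_pow, e₁, e₂, map_mul]⟩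

theorem IsPP.add (hp : p.Prime) [CharP κ p] {y₁ y₂ : κ} (h₁ : IsPP p gb y₁) (h₂ : IsPP p gb y₂) :
    IsPP p gb (y₁ + y₂) := by
  haveI := Fact.mk hp
  obtain ⟨m₁, z₁, h₁⟩ := h₁
  obtain ⟨m₂, z₂, h₂⟩ := h₂
  have e₁ : y₁ ^ (p ^ (m₁ + m₂)) = gb (z₁ ^ (p ^ m₂)) := by
    rw [map_pow, ← h₁, ← pow_mul, ← pow_add]
  have e₂ : y₂ ^ (p ^ (m₁ + m₂)) = gb (z₂ ^ (p ^ m₁)) := by
    rw [map_pow, ← h₂, ← pow_mul, ← pow_add, add_comm]
  exact ⟨m₁ + m₂, z₁ ^ (p ^ m₂) + z₂ ^ (p ^ m₁), by rw [add_pow_char_pow, e₁, e₂, map_add]⟩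

theorem IsPP.sum (hp : p.Prime) [CharP κ p] {ι : Type*} (s : Finset ι) (f : ι → κ)
    (h : ∀ i ∈ s, IsPP p gb (f i)) : IsPP p gb (∑ i ∈ s, f i) :=
  Finset.sum_induction f (IsPP p gb) (fun _ _ h₁ h₂ => IsPP.add hp h₁ h₂) IsPP.zero h

end PP

section Val
variable {Ω : Type u} [Field Ω] (𝒲 : ValuationSubring Ω)

theorem res_eq_zero_iff (x : Ω) (hx : x ∈ 𝒲) :
    IsLocalRing.residue ↥𝒲 ⟨x, hx⟩ = 0 ↔ 𝒲.valuation x < 1 :=
  (IsLocalRing.residue_eq_zero_iff _).trans (ValuationSubring.valuation_lt_one_iff 𝒲 ⟨x, hx⟩)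

theorem mem_of_pow_mem {p : ℕ} (hp : p ≠ 0) (x : Ω) (hx : x ^ p ∈ 𝒲) : x ∈ 𝒲 := by
  have hint : IsIntegral ↥𝒲 x := by
    refine ⟨X ^ p - C (⟨x ^ p, hx⟩ : ↥𝒲), monic_X_pow_sub_C _ hp, ?_⟩
    rw [eval₂_sub, eval₂_pow, eval₂_X, eval₂_C]
    exact sub_self _
  obtain ⟨y, hy⟩ := IsIntegrallyClosed.isIntegral_iff.mp hint
  rw [← hy]
  exact y.2

/-- the subfield of the residue field of `𝒲` consisting of the residues of elements of `H ∩ 𝒲` -/
def resSubfield (H : Subfield Ω) : Subfield (ResidueField ↥𝒲) where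
  carrier := {y | ∃ (x : Ω) (hx : x ∈ 𝒲), x ∈ H ∧ IsLocalRing.residue ↥𝒲 ⟨x, hx⟩ = y}
  mul_mem' := by
    rintro _ _ ⟨x₁, h₁, hH₁, rfl⟩ ⟨x₂, h₂, hH₂, rfl⟩
    exact ⟨x₁ * x₂, mul_mem h₁ h₂, H.mul_mem hH₁ hH₂,
      map_mul (IsLocalRing.residue ↥𝒲) ⟨x₁, h₁⟩ ⟨x₂, h₂⟩⟩
  one_mem' := ⟨1, one_mem 𝒲, H.one_mem, map_one (IsLocalRing.residue ↥𝒲)⟩
  add_mem' := by
    rintro _ _ ⟨x₁, h₁, hH₁, rfl⟩ ⟨x₂, h₂, hH₂, rfl⟩
    exact ⟨x₁ + x₂, add_mem h₁ h₂, H.add_mem hH₁ hH₂,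
      map_add (IsLocalRing.residue ↥𝒲) ⟨x₁, h₁⟩ ⟨x₂, h₂⟩⟩
  zero_mem' := ⟨0, zero_mem 𝒲, H.zero_mem, map_zero (IsLocalRing.residue ↥𝒲)⟩
  neg_mem' := by
    rintro _ ⟨x, h, hH, rfl⟩
    exact ⟨-x, neg_mem h, H.neg_mem hH, map_neg (IsLocalRing.residue ↥𝒲) ⟨x, h⟩⟩
  inv_mem' := by
    rintro _ ⟨x, h, hH, rfl⟩
    by_cases h0 : IsLocalRing.residue ↥𝒲 ⟨x, h⟩ = 0
    · rw [h0, inv_zero]
      exact ⟨0, zero_mem 𝒲, H.zero_mem, map_zero (IsLocalRing.residue ↥𝒲)⟩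
    · have hv : 𝒲.valuation x = 1 := by
        apply le_antisymm ((𝒲.valuation_le_one_iff x).mpr h)
        apply not_lt.mp
        intro hlt
        exact h0 ((res_eq_zero_iff 𝒲 x h).mpr hlt)
      obtain ⟨hx0, -, hinv⟩ := (val_eq_one_iff 𝒲 x).mp hv
      refine ⟨x⁻¹, hinv, H.inv_mem hH, ?_⟩
      apply eq_inv_of_mul_eq_one_right
      rw [← map_mul]
      have h1 : ((⟨x, h⟩ : ↥𝒲) * ⟨x⁻¹, hinv⟩) = 1 := Subtype.ext (mul_inv_cancel₀ hx0)
      rw [h1, map_one]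

theorem mem_resSubfield (H : Subfield Ω) (y : ResidueField ↥𝒲) :
    y ∈ resSubfield 𝒲 H ↔
      ∃ (x : Ω) (hx : x ∈ 𝒲), x ∈ H ∧ IsLocalRing.residue ↥𝒲 ⟨x, hx⟩ = y := Iff.rfl

/-- `a` is residually not a `p`-th power in `H ∩ 𝒲` -/
def NotPow (p : ℕ) (H : Subfield Ω) (a : Ω) : Prop :=
  ∀ z ∈ H, z ∈ 𝒲 → ¬ 𝒲.valuation (z ^ p - a) < 1

/-- **Lemma V1**: a combination of `1, θ, …, θ ^ (p-1)` with coefficients in `H ∩ 𝒲`, one of which
is a unit, is a unit of `𝒲`. -/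
theorem val_sum_eq_one (p : ℕ) (H : Subfield Ω) (a θ : Ω) (hp : p.Prime) (haH : a ∈ H)
    (hθ : θ ^ p = a) (hθW : θ ∈ 𝒲) (hnp : NotPow 𝒲 p H a) (d : ℕ → Ω) (hdH : ∀ i, d i ∈ H)
    (hdW : ∀ i, d i ∈ 𝒲) (i₀ : ℕ) (hi₀ : i₀ < p) (hu : 𝒲.valuation (d i₀) = 1) :
    𝒲.valuation (∑ i ∈ Finset.range p, d i * θ ^ i) = 1 := by
  have haW : a ∈ 𝒲 := by rw [← hθ]; exact pow_mem hθW p
  have hxW : ∑ i ∈ Finset.range p, d i * θ ^ i ∈ 𝒲 :=
    sum_mem (fun i _ => mul_mem (hdW i) (pow_mem hθW i))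
  apply le_antisymm ((𝒲.valuation_le_one_iff _).mpr hxW)
  apply not_lt.mp
  intro hlt
  obtain ⟨ab, hab⟩ : ∃ ab : ↥(resSubfield 𝒲 H),
      (ab : ResidueField ↥𝒲) = IsLocalRing.residue ↥𝒲 ⟨a, haW⟩ :=
    ⟨⟨_, ⟨a, haW, haH, rfl⟩⟩, rfl⟩
  have habnp : ∀ b : ↥(resSubfield 𝒲 H), b ^ p ≠ ab := by
    intro b hb
    obtain ⟨z, hzW, hzH, hz⟩ := (mem_resSubfield 𝒲 H _).mp b.2
    apply hnp z hzH hzW
    have h1 : IsLocalRing.residue ↥𝒲 ⟨z, hzW⟩ ^ p = IsLocalRing.residue ↥𝒲 ⟨a, haW⟩ := by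
      rw [hz, ← hab]
      exact congrArg Subtype.val hb
    have h2 : IsLocalRing.residue ↥𝒲 (⟨z, hzW⟩ ^ p - ⟨a, haW⟩) = 0 := by
      rw [map_sub, map_pow, h1, sub_self]
    have h3 := (IsLocalRing.residue_eq_zero_iff _).mp h2
    rw [ValuationSubring.valuation_lt_one_iff] at h3
    exact h3
  obtain ⟨θb, hθb⟩ : ∃ θb : ResidueField ↥𝒲, θb = IsLocalRing.residue ↥𝒲 ⟨θ, hθW⟩ := ⟨_, rfl⟩
  have hθbp : θb ^ p = algebraMap ↥(resSubfield 𝒲 H) (ResidueField ↥𝒲) ab := by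
    show θb ^ p = (ab : ResidueField ↥𝒲)
    rw [hab, hθb, ← map_pow]
    exact congrArg _ (Subtype.ext hθ)
  let dW : ℕ → ↥𝒲 := fun i => ⟨d i, hdW i⟩
  let θW : ↥𝒲 := ⟨θ, hθW⟩
  have hsumW : (∑ i ∈ Finset.range p, dW i * θW ^ i : ↥𝒲) =
      ⟨∑ i ∈ Finset.range p, d i * θ ^ i, hxW⟩ := by
    apply Subtype.ext
    show 𝒲.subtype (∑ i ∈ Finset.range p, dW i * θW ^ i) = ∑ i ∈ Finset.range p, d i * θ ^ i
    rw [map_sum]
    apply Finset.sum_congr rfl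
    intro i _
    rw [map_mul, map_pow]
    rfl
  have hres0 : IsLocalRing.residue ↥𝒲 (∑ i ∈ Finset.range p, dW i * θW ^ i) = 0 := by
    rw [hsumW]
    exact (res_eq_zero_iff 𝒲 _ hxW).mpr hlt
  let δ : ℕ → ↥(resSubfield 𝒲 H) := fun i =>
    ⟨IsLocalRing.residue ↥𝒲 (dW i), ⟨d i, hdW i, hdH i, rfl⟩⟩
  have hsum : ∑ i ∈ Finset.range p,
      algebraMap ↥(resSubfield 𝒲 H) (ResidueField ↥𝒲) (δ i) * θb ^ i = 0 := by
    have h1 : ∑ i ∈ Finset.range p,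
        algebraMap ↥(resSubfield 𝒲 H) (ResidueField ↥𝒲) (δ i) * θb ^ i =
        IsLocalRing.residue ↥𝒲 (∑ i ∈ Finset.range p, dW i * θW ^ i) := by
      rw [map_sum]
      apply Finset.sum_congr rfl
      intro i _
      rw [map_mul, map_pow, hθb]
      rfl
    rw [h1, hres0]
  have h0 := coeff_zero_of_sum_eq_zero p hp ab habnp θb hθbp δ hsum i₀ hi₀
  have h1 : IsLocalRing.residue ↥𝒲 ⟨d i₀, hdW i₀⟩ = 0 := congrArg Subtype.val h0
  have h2 := (res_eq_zero_iff 𝒲 _ _).mp h1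
  rw [hu] at h2
  exact lt_irrefl _ h2

/-- **Lemma V2**: the valuation of a combination of `1, θ, …, θ ^ (p-1)` with coefficients in `H`
is the maximum of the valuations of the coefficients. -/
theorem exists_max_coeff (p : ℕ) (H : Subfield Ω) (a θ : Ω) (hp : p.Prime) (haH : a ∈ H)
    (hθ : θ ^ p = a) (hθW : θ ∈ 𝒲) (hnp : NotPow 𝒲 p H a) (c : ℕ → Ω) (hcH : ∀ i, c i ∈ H)
    (hne : ∃ i < p, c i ≠ 0) :
    ∃ i₀ < p, c i₀ ≠ 0 ∧ (∀ j < p, 𝒲.valuation (c j) ≤ 𝒲.valuation (c i₀)) ∧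
      𝒲.valuation (∑ i ∈ Finset.range p, c i * θ ^ i) = 𝒲.valuation (c i₀) := by
  obtain ⟨i₀, hi₀mem, hmax⟩ := Finset.exists_max_image (Finset.range p)
    (fun i => 𝒲.valuation (c i)) ⟨0, Finset.mem_range.mpr hp.pos⟩
  have hi₀ : i₀ < p := Finset.mem_range.mp hi₀mem
  have hmax' : ∀ j < p, 𝒲.valuation (c j) ≤ 𝒲.valuation (c i₀) :=
    fun j hj => hmax j (Finset.mem_range.mpr hj)
  have hc0 : c i₀ ≠ 0 := by
    obtain ⟨i, hi, hci⟩ := hne
    intro h0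
    have h1 := hmax' i hi
    rw [h0, map_zero] at h1
    exact hci ((Valuation.zero_iff _).mp (le_antisymm h1 zero_le'))
  refine ⟨i₀, hi₀, hc0, hmax', ?_⟩
  have hpos : 0 < 𝒲.valuation (c i₀) := val_pos 𝒲 hc0
  obtain ⟨d, hd⟩ : ∃ d : ℕ → Ω, ∀ i, d i = if i < p then c i / c i₀ else 0 :=
    ⟨_, fun i => rfl⟩
  have hdH : ∀ i, d i ∈ H := by
    intro i
    rw [hd]
    split_ifs
    · exact H.div_mem (hcH i) (hcH i₀)
    · exact H.zero_mem
  have hdW : ∀ i, d i ∈ 𝒲 := by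
    intro i
    rw [hd]
    split_ifs with hi
    · apply (𝒲.valuation_le_one_iff _).mp
      rw [map_div₀]
      exact (div_le_one₀ hpos).mpr (hmax' i hi)
    · exact zero_mem 𝒲
  have hu : 𝒲.valuation (d i₀) = 1 := by
    rw [hd, if_pos hi₀, div_self hc0, map_one]
  have h1 := val_sum_eq_one 𝒲 p H a θ hp haH hθ hθW hnp d hdH hdW i₀ hi₀ hu
  have h2 : ∑ i ∈ Finset.range p, c i * θ ^ i =
      c i₀ * ∑ i ∈ Finset.range p, d i * θ ^ i := by
    rw [Finset.mul_sum]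
    apply Finset.sum_congr rfl
    intro i hi
    rw [hd, if_pos (Finset.mem_range.mp hi), ← mul_assoc, mul_div_cancel₀ _ hc0]
  rw [h2, map_mul, h1, mul_one]

end Val

section Rep
variable {Ω : Type u} [Field Ω]

/-- elements of `H(θ)` are combinations of `1, θ, …, θ ^ (p-1)` with coefficients in `H` -/
theorem exists_rep (p : ℕ) (H : Subfield Ω) (a θ : Ω) (hp0 : p ≠ 0) (haH : a ∈ H)
    (hθ : θ ^ p = a) (y : Ω) (hy : y ∈ IntermediateField.adjoin ↥H {θ}) :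
    ∃ c : ℕ → Ω, (∀ i, c i ∈ H) ∧ y = ∑ i ∈ Finset.range p, c i * θ ^ i := by
  obtain ⟨f, hf⟩ : ∃ f : (↥H)[X], f = X ^ p - C (⟨a, haH⟩ : ↥H) := ⟨_, rfl⟩
  have hfm : f.Monic := by rw [hf]; exact monic_X_pow_sub_C _ hp0
  have hfdeg : f.natDegree = p := by rw [hf]; exact natDegree_X_pow_sub_C
  have hfθ : aeval θ f = 0 := by
    rw [hf, map_sub, map_pow, aeval_X, aeval_C, hθ]
    exact sub_self _
  have hf1 : f ≠ 1 := by
    intro h
    have h1 := congrArg natDegree h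
    rw [hfdeg, natDegree_one] at h1
    exact hp0 h1
  have hint : IsIntegral ↥H θ := ⟨f, hfm, hfθ⟩
  have hy' : y ∈ (IntermediateField.adjoin ↥H {θ}).toSubalgebra := hy
  rw [IntermediateField.adjoin_simple_toSubalgebra_of_isAlgebraic hint.isAlgebraic,
    Algebra.adjoin_singleton_eq_range_aeval] at hy'
  obtain ⟨q, hq⟩ := (AlgHom.mem_range _).mp hy'
  have hr : aeval θ (q %ₘ f) = aeval θ q := aeval_modByMonic_eq_self_of_root hfθ
  have hdeg : (q %ₘ f).natDegree < p := by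
    have h1 := natDegree_modByMonic_lt q hfm hf1
    rwa [hfdeg] at h1
  refine ⟨fun i => (((q %ₘ f).coeff i : ↥H) : Ω), fun i => ((q %ₘ f).coeff i).2, ?_⟩
  rw [← hq, ← hr, aeval_eq_sum_range' hdeg]
  apply Finset.sum_congr rfl
  intro i _
  rw [Algebra.smul_def]
  rfl

end Rep

section Step
variable {R : Type u} [CommRing R] [IsDomain R] {Ω : Type u} [Field Ω] [Algebra R Ω]
  (𝒲 : ValuationSubring Ω) (p : ℕ) (hg : ∀ z : R, algebraMap R Ω z ∈ 𝒲) (ϖ : Ω)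

/-- the residue map on the base ring -/
noncomputable def gres : R →+* ResidueField ↥𝒲 :=
  (IsLocalRing.residue ↥𝒲).comp ((algebraMap R Ω).codRestrict 𝒲 hg)

/-- the subfield `H` is "purely inseparably unramified" over the base -/
structure PGood (H : Subfield Ω) : Prop where
  div : Div 𝒲 ϖ H
  arch : Arch 𝒲 ϖ H
  perf : ∀ (x : Ω) (hx : x ∈ 𝒲), x ∈ H → IsPP p (gres 𝒲 hg) (IsLocalRing.residue ↥𝒲 ⟨x, hx⟩)
  fin : ∀ s : Finset Ω, (∀ x ∈ s, x ∈ H ∧ x ∈ 𝒲) → ∃ S : Subalgebra R Ω, (↑s : Set Ω) ⊆ ↑S ∧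
    (∀ x ∈ S, x ∈ H ∧ x ∈ 𝒲) ∧ Module.Finite R S ∧ Module.Free R S ∧
    ∃ m : ℕ, Module.finrank R S = p ^ m

/-- **Key step**: adjoining a `p`-th root of an element which is residually not a `p`-th power. -/
theorem pgood_adjoin (hp : p.Prime) [CharP (ResidueField ↥𝒲) p] (H : Subfield Ω)
    (hH : PGood 𝒲 p hg ϖ H) (a θ : Ω) (haH : a ∈ H) (haW : a ∈ 𝒲) (hθ : θ ^ p = a)
    (hnp : NotPow 𝒲 p H a) :
    PGood 𝒲 p hg ϖ (IntermediateField.adjoin ↥H {θ}).toSubfield := by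
  classical
  have hp0 : p ≠ 0 := hp.ne_zero
  have hθW : θ ∈ 𝒲 := mem_of_pow_mem 𝒲 hp0 θ (by rw [hθ]; exact haW)
  obtain ⟨H', hH'⟩ : ∃ H' : Subfield Ω, H' = (IntermediateField.adjoin ↥H {θ}).toSubfield :=
    ⟨_, rfl⟩
  rw [← hH']
  have hmemH' : ∀ y, y ∈ H' ↔ y ∈ IntermediateField.adjoin ↥H {θ} := fun y => by
    rw [hH']
    exact IntermediateField.mem_toSubfield _ y
  have hHH' : ∀ x ∈ H, x ∈ H' := fun x hx =>
    (hmemH' x).mpr ((IntermediateField.adjoin ↥H {θ}).algebraMap_mem ⟨x, hx⟩)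
  have hθH' : θ ∈ H' := (hmemH' θ).mpr (IntermediateField.mem_adjoin_simple_self ↥H θ)
  have hrep : ∀ y ∈ H', ∃ c : ℕ → Ω, (∀ i, c i ∈ H) ∧
      y = ∑ i ∈ Finset.range p, c i * θ ^ i :=
    fun y hy => exists_rep p H a θ hp0 haH hθ y ((hmemH' y).mp hy)
  have hVAL : ∀ y ∈ H', y ≠ 0 → ∃ u ∈ H, u ≠ 0 ∧ 𝒲.valuation y = 𝒲.valuation u := by
    intro y hy hy0
    obtain ⟨c, hcH, hyc⟩ := hrep y hy
    have hne : ∃ i < p, c i ≠ 0 := by
      by_contra hcon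
      push_neg at hcon
      apply hy0
      rw [hyc]
      apply Finset.sum_eq_zero
      intro i hi
      rw [hcon i (Finset.mem_range.mp hi), zero_mul]
    obtain ⟨i₀, -, hc0, -, hval⟩ := exists_max_coeff 𝒲 p H a θ hp haH hθ hθW hnp c hcH hne
    exact ⟨c i₀, hcH i₀, hc0, by rw [hyc, hval]⟩
  have hNF : ∀ y ∈ H', y ∈ 𝒲 → ∃ c : ℕ → Ω, (∀ i, c i ∈ H) ∧ (∀ i, c i ∈ 𝒲) ∧
      y = ∑ i ∈ Finset.range p, c i * θ ^ i := by
    intro y hy hyW
    obtain ⟨c, hcH, hyc⟩ := hrep y hy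
    by_cases hne : ∃ i < p, c i ≠ 0
    · obtain ⟨i₀, -, hc0, hmax, hval⟩ :=
        exists_max_coeff 𝒲 p H a θ hp haH hθ hθW hnp c hcH hne
      refine ⟨fun i => if i < p then c i else 0, fun i => ?_, fun i => ?_, ?_⟩
      · show (if i < p then c i else 0) ∈ H
        split_ifs
        · exact hcH i
        · exact H.zero_mem
      · show (if i < p then c i else 0) ∈ 𝒲
        split_ifs with hi
        · apply (𝒲.valuation_le_one_iff _).mp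
          apply le_trans (hmax i hi)
          rw [← hval, ← hyc]
          exact (𝒲.valuation_le_one_iff _).mpr hyW
        · exact zero_mem 𝒲
      · rw [hyc]
        apply Finset.sum_congr rfl
        intro i hi
        show c i * θ ^ i = (if i < p then c i else 0) * θ ^ i
        rw [if_pos (Finset.mem_range.mp hi)]
    · push_neg at hne
      refine ⟨fun _ => 0, fun _ => H.zero_mem, fun _ => zero_mem 𝒲, ?_⟩
      rw [hyc]
      apply Finset.sum_congr rfl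
      intro i hi
      rw [hne i (Finset.mem_range.mp hi)]
  have hnotpow : ∀ b : ↥H, b ^ p ≠ (⟨a, haH⟩ : ↥H) := by
    intro b hb
    have hb' : (b : Ω) ^ p = a := congrArg Subtype.val hb
    have hbW : (b : Ω) ∈ 𝒲 := mem_of_pow_mem 𝒲 hp0 _ (by rw [hb']; exact haW)
    apply hnp (b : Ω) b.2 hbW
    rw [hb', sub_self, map_zero]
    exact zero_lt_iff.mpr one_ne_zero
  refine ⟨?_, ?_, ?_, ?_⟩
  · -- div
    intro y hy hlt
    by_cases hy0 : y = 0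
    · rw [hy0, map_zero]
      exact zero_le'
    · obtain ⟨u, huH, hu0, hyu⟩ := hVAL y hy hy0
      rw [hyu] at hlt ⊢
      exact hH.div u huH hlt
  · -- arch
    intro y hy hy0
    obtain ⟨u, huH, hu0, hyu⟩ := hVAL y hy hy0
    rw [hyu]
    exact hH.arch u huH hu0
  · -- perf
    intro x hx hxH'
    obtain ⟨c, hcH, hcW, hxc⟩ := hNF x hxH' hx
    have hθpp : IsPP p (gres 𝒲 hg) (IsLocalRing.residue ↥𝒲 ⟨θ, hθW⟩) := by
      apply IsPP.of_pow
      have h1 : IsLocalRing.residue ↥𝒲 ⟨θ, hθW⟩ ^ p = IsLocalRing.residue ↥𝒲 ⟨a, haW⟩ := by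
        rw [← map_pow]
        exact congrArg _ (Subtype.ext hθ)
      rw [h1]
      exact hH.perf a haW haH
    have h2 : IsLocalRing.residue ↥𝒲 ⟨x, hx⟩ = ∑ i ∈ Finset.range p,
        IsLocalRing.residue ↥𝒲 ⟨c i, hcW i⟩ * IsLocalRing.residue ↥𝒲 ⟨θ, hθW⟩ ^ i := by
      have h3 : (⟨x, hx⟩ : ↥𝒲) =
          ∑ i ∈ Finset.range p, (⟨c i, hcW i⟩ : ↥𝒲) * (⟨θ, hθW⟩ : ↥𝒲) ^ i := by
        apply Subtype.ext
        show x = 𝒲.subtype (∑ i ∈ Finset.range p, (⟨c i, hcW i⟩ : ↥𝒲) * (⟨θ, hθW⟩ : ↥𝒲) ^ i)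
        rw [map_sum, hxc]
        apply Finset.sum_congr rfl
        intro i _
        rw [map_mul, map_pow]
        rfl
      rw [h3, map_sum]
      apply Finset.sum_congr rfl
      intro i _
      rw [map_mul, map_pow]
    rw [h2]
    apply IsPP.sum hp
    intro i _
    exact IsPP.mul (hH.perf (c i) (hcW i) (hcH i)) (IsPP.pow hθpp i)
  · -- fin
    intro s hs
    have hnf : ∀ x ∈ s, ∃ c : ℕ → Ω, (∀ i, c i ∈ H) ∧ (∀ i, c i ∈ 𝒲) ∧
        x = ∑ i ∈ Finset.range p, c i * θ ^ i := fun x hx => hNF x (hs x hx).1 (hs x hx).2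
    choose! c hcH hcW hcx using hnf
    obtain ⟨s₀, hs₀def⟩ : ∃ s₀ : Finset Ω,
        s₀ = insert a (s.biUnion fun x => (Finset.range p).image (c x)) := ⟨_, rfl⟩
    have has₀ : a ∈ s₀ := by
      rw [hs₀def]
      exact Finset.mem_insert_self _ _
    have hcs₀ : ∀ x ∈ s, ∀ i < p, c x i ∈ s₀ := by
      intro x hx i hi
      rw [hs₀def]
      exact Finset.mem_insert_of_mem (Finset.mem_biUnion.mpr
        ⟨x, hx, Finset.mem_image.mpr ⟨i, Finset.mem_range.mpr hi, rfl⟩⟩)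
    have hs₀ : ∀ x ∈ s₀, x ∈ H ∧ x ∈ 𝒲 := by
      intro x hx
      rw [hs₀def] at hx
      rcases Finset.mem_insert.mp hx with hxa | hx
      · rw [hxa]
        exact ⟨haH, haW⟩
      · obtain ⟨y, hy, hxy⟩ := Finset.mem_biUnion.mp hx
        obtain ⟨i, -, hi⟩ := Finset.mem_image.mp hxy
        rw [← hi]
        exact ⟨hcH y hy i, hcW y hy i⟩
    obtain ⟨S₀, hsS₀, hS₀, hfin, hfree, m, hrank⟩ := hH.fin s₀ hs₀
    haveI := hfin
    haveI := hfree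
    have haS₀ : a ∈ S₀ := hsS₀ (Finset.mem_coe.mpr has₀)
    obtain ⟨f, hf⟩ : ∃ f : (↥S₀)[X], f = X ^ p - C (⟨a, haS₀⟩ : ↥S₀) := ⟨_, rfl⟩
    have hfm : f.Monic := by rw [hf]; exact monic_X_pow_sub_C _ hp0
    have hfdeg : f.natDegree = p := by rw [hf]; exact natDegree_X_pow_sub_C
    have hf1 : f ≠ 1 := by
      intro h
      have h1 := congrArg natDegree h
      rw [hfdeg, natDegree_one] at h1
      exact hp0 h1
    have hfθ : eval₂ ((S₀.val : ↥S₀ →ₐ[R] Ω) : ↥S₀ →+* Ω) θ f = 0 := by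
      rw [hf, eval₂_sub, eval₂_pow, eval₂_X, eval₂_C, hθ]
      exact sub_self _
    obtain ⟨φ, hφroot, hφof, hφmk⟩ : ∃ φ : AdjoinRoot f →ₐ[R] Ω,
        φ (AdjoinRoot.root f) = θ ∧ (∀ b : ↥S₀, φ (AdjoinRoot.of f b) = (b : Ω)) ∧
        ∀ q : (↥S₀)[X], φ (AdjoinRoot.mk f q) =
          eval₂ ((S₀.val : ↥S₀ →ₐ[R] Ω) : ↥S₀ →+* Ω) θ q :=
      ⟨AdjoinRoot.liftAlgHom f S₀.val θ hfθ, AdjoinRoot.liftAlgHom_root f S₀.val θ hfθ,
        fun b => AdjoinRoot.liftAlgHom_of f S₀.val θ hfθ b,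
        fun q => (congrFun (AdjoinRoot.coe_liftAlgHom f S₀.val θ hfθ) (AdjoinRoot.mk f q)).trans
          (AdjoinRoot.lift_mk hfθ q)⟩
    have hS₀φ : ∀ b ∈ S₀, b ∈ φ.range := fun b hb =>
      (AlgHom.mem_range φ).mpr ⟨AdjoinRoot.of f ⟨b, hb⟩, hφof ⟨b, hb⟩⟩
    have hθφ : θ ∈ φ.range := (AlgHom.mem_range φ).mpr ⟨AdjoinRoot.root f, hφroot⟩
    have hsφ : (↑s : Set Ω) ⊆ ↑φ.range := by
      intro x hx
      have hx' : x ∈ s := Finset.mem_coe.mp hx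
      show x ∈ φ.range
      rw [hcx x hx']
      exact sum_mem (fun i hi => mul_mem
        (hS₀φ _ (hsS₀ (Finset.mem_coe.mpr (hcs₀ x hx' i (Finset.mem_range.mp hi)))))
        (pow_mem hθφ i))
    have hφsub : ∀ y ∈ φ.range, y ∈ H' ∧ y ∈ 𝒲 := by
      intro y hy
      obtain ⟨t, ht⟩ := (AlgHom.mem_range φ).mp hy
      obtain ⟨q, hq⟩ := AdjoinRoot.mk_surjective t
      rw [← ht, ← hq, hφmk, eval₂_eq_sum, sum_def]
      constructor
      · exact sum_mem (fun n _ => mul_mem (hHH' _ (hS₀ _ (q.coeff n).2).1) (pow_mem hθH' n))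
      · exact sum_mem (fun n _ => mul_mem (hS₀ _ (q.coeff n).2).2 (pow_mem hθW n))
    have hinj : Function.Injective φ := by
      rw [injective_iff_map_eq_zero]
      intro t ht
      obtain ⟨q, hq⟩ := AdjoinRoot.mk_surjective t
      have hdeg : (q %ₘ f).natDegree < p := by
        have h1 := natDegree_modByMonic_lt q hfm hf1
        rwa [hfdeg] at h1
      have hmk : AdjoinRoot.mk f q = AdjoinRoot.mk f (q %ₘ f) := by
        rw [AdjoinRoot.mk_eq_mk]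
        exact ⟨q /ₘ f, sub_eq_iff_eq_add'.mpr (modByMonic_add_div q f).symm⟩
      rw [← hq, hmk, hφmk, eval₂_eq_sum_range' _ hdeg] at ht
      have hc := coeff_zero_of_sum_eq_zero p hp (⟨a, haH⟩ : ↥H) hnotpow θ hθ
        (fun i => ⟨(((q %ₘ f).coeff i : ↥S₀) : Ω), (hS₀ _ ((q %ₘ f).coeff i).2).1⟩) ht
      have hzero : q %ₘ f = 0 := by
        apply Polynomial.ext
        intro i
        rw [coeff_zero]
        by_cases hi : i < p
        · have h5 : (((q %ₘ f).coeff i : ↥S₀) : Ω) = 0 :=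
            congrArg (Subtype.val : ↥H → Ω) (hc i hi)
          exact Subtype.ext h5
        · exact coeff_eq_zero_of_natDegree_lt (lt_of_lt_of_le hdeg (not_lt.mp hi))
      rw [← hq, hmk, hzero, map_zero]
    haveI hfinA : Module.Finite ↥S₀ (AdjoinRoot f) := hfm.finite_adjoinRoot
    haveI hfreeA : Module.Free ↥S₀ (AdjoinRoot f) := hfm.free_adjoinRoot
    haveI : Module.Finite R (AdjoinRoot f) := Module.Finite.trans ↥S₀ (AdjoinRoot f)
    haveI : Module.Free R (AdjoinRoot f) :=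
      Module.Free.trans (R := R) (S := ↥S₀) (M := AdjoinRoot f)
    have hrk : Module.finrank R (AdjoinRoot f) = p ^ (m + 1) := by
      rw [← Module.finrank_mul_finrank R ↥S₀ (AdjoinRoot f), hrank,
        (AdjoinRoot.powerBasis' hfm).finrank, AdjoinRoot.powerBasis'_dim, hfdeg, pow_succ]
    let e : AdjoinRoot f ≃ₐ[R] ↥φ.range := AlgEquiv.ofInjective φ hinj
    exact ⟨φ.range, hsφ, hφsub, Module.Finite.equiv e.toLinearEquiv,
      Module.Free.of_equiv e.toLinearEquiv, m + 1, by rw [← e.toLinearEquiv.finrank_eq, hrk]⟩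

end Step

end Groth.Agent.Helper22.PClA
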