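import Mathlib
import Groth.Prelude.Def_EtRam
import Groth.Agent.Lib.Helper22.PClA
import Groth.Agent.Lib.Helper22.EtCl
import Groth.Agent.Lib.Helper22.TotRam
import Groth.Agent.Lib.Helper22.WUGen
import Groth.Agent.Lib.Helper1.IH1

/-!
# A henselian DVR extension with perfect residue field (helper library for S16360)
-/

set_option autoImplicit false
set_option linter.deprecated false
set_option linter.unusedVariables false
universe u

open Polynomial IsLocalRing

namespace Groth.Agent.Helper22.PClB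

open Groth.Agent.Helper22.EtU Groth.Agent.Helper22.EtCl Groth.Agent.Helper22.PClA

section Zorn
variable {R : Type u} [CommRing R] [IsDomain R] {Ω : Type u} [Field Ω] [Algebra R Ω]
  (𝒲 : ValuationSubring Ω) (p : ℕ) (hg : ∀ z : R, algebraMap R Ω z ∈ 𝒲) (ϖ : Ω)

theorem exists_mem_of_chain {c : Set (Subfield Ω)} (hc : IsChain (· ≤ ·) c) (H₀ : Subfield Ω)
    (hH₀ : H₀ ∈ c) (s : Finset Ω) (hs : ∀ x ∈ s, ∃ H ∈ c, x ∈ H) :
    ∃ H ∈ c, ∀ x ∈ s, x ∈ H := by
  classical
  revert hs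
  refine Finset.induction_on s ?_ ?_
  · intro _
    exact ⟨H₀, hH₀, fun x hx => by simp at hx⟩
  · intro b t _ ih hs
    obtain ⟨H₁, hH₁, h₁⟩ := ih (fun x hx => hs x (Finset.mem_insert_of_mem hx))
    obtain ⟨H₂, hH₂, h₂⟩ := hs b (Finset.mem_insert_self b t)
    rcases hc.total hH₁ hH₂ with h | h
    · refine ⟨H₂, hH₂, fun x hx => ?_⟩
      rcases Finset.mem_insert.mp hx with hxb | hx
      · rw [hxb]
        exact h₂
      · exact h (h₁ x hx)
    · refine ⟨H₁, hH₁, fun x hx => ?_⟩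
      rcases Finset.mem_insert.mp hx with hxb | hx
      · rw [hxb]
        exact h h₂
      · exact h₁ x hx

theorem pgood_sSup {c : Set (Subfield Ω)} (hc : IsChain (· ≤ ·) c) (H₀ : Subfield Ω)
    (hH₀ : H₀ ∈ c) (h : ∀ H ∈ c, PGood 𝒲 p hg ϖ H) : PGood 𝒲 p hg ϖ (sSup c) := by
  have hdir : DirectedOn (· ≤ ·) c := hc.directedOn
  have hmem : ∀ {x : Ω}, x ∈ sSup c → ∃ H ∈ c, x ∈ H := fun hx =>
    (Subfield.mem_sSup_of_directedOn ⟨H₀, hH₀⟩ hdir).mp hx
  refine ⟨?_, ?_, ?_, ?_⟩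
  · intro y hy hlt
    obtain ⟨H, hHc, hyH⟩ := hmem hy
    exact (h H hHc).div y hyH hlt
  · intro y hy hy0
    obtain ⟨H, hHc, hyH⟩ := hmem hy
    exact (h H hHc).arch y hyH hy0
  · intro x hx hxs
    obtain ⟨H, hHc, hxH⟩ := hmem hxs
    exact (h H hHc).perf x hx hxH
  · intro s hs
    obtain ⟨H, hHc, hsH⟩ := exists_mem_of_chain hc H₀ hH₀ s (fun x hx => hmem (hs x hx).1)
    obtain ⟨S, h1, h2, h3⟩ := (h H hHc).fin s (fun x hx => ⟨hsH x hx, (hs x hx).2⟩)
    exact ⟨S, h1, fun x hx => ⟨le_sSup hHc (h2 x hx).1, (h2 x hx).2⟩, h3⟩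

theorem exists_maximal (H₀ : Subfield Ω) (h₀ : PGood 𝒲 p hg ϖ H₀) :
    ∃ H : Subfield Ω, H₀ ≤ H ∧ PGood 𝒲 p hg ϖ H ∧
      ∀ H' : Subfield Ω, PGood 𝒲 p hg ϖ H' → H ≤ H' → H' ≤ H := by
  have hzorn : ∀ c ⊆ {H : Subfield Ω | PGood 𝒲 p hg ϖ H}, IsChain (· ≤ ·) c → ∀ y ∈ c,
      ∃ ub ∈ {H : Subfield Ω | PGood 𝒲 p hg ϖ H}, ∀ z ∈ c, z ≤ ub := by
    intro c hc hchain y hy
    exact ⟨sSup c, pgood_sSup 𝒲 p hg ϖ hchain y hy (fun H hH => hc hH), fun z hz => le_sSup hz⟩
  obtain ⟨m, hle, hmax⟩ := zorn_le_nonempty₀ {H : Subfield Ω | PGood 𝒲 p hg ϖ H} hzorn H₀ h₀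
  exact ⟨m, hle, hmax.prop, fun H' hH' hle' => hmax.le_of_ge hH' hle'⟩

end Zorn

section Base
variable {R : Type u} [CommRing R] [IsDomain R] [IsDiscreteValuationRing R] {Ω : Type u} [Field Ω]
  [Algebra R Ω] (𝒲 : ValuationSubring Ω) (p : ℕ)

theorem pgood_base (K : Type u) [Field K] [Algebra R K] [IsFractionRing R K] [Algebra K Ω]
    [IsScalarTower R K Ω] (hdom : EtRam.Dominates R (algebraMap R Ω) 𝒲) (π : R)
    (hπ : Irreducible π) :
    PGood 𝒲 p hdom.1 (algebraMap R Ω π) (algebraMap K Ω).fieldRange := by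
  have hinj : Function.Injective (algebraMap R Ω) := by
    rw [IsScalarTower.algebraMap_eq R K Ω]
    exact (algebraMap K Ω).injective.comp (IsFractionRing.injective R K)
  have hdom' : EtRam.Dominates R ((algebraMap K Ω).comp (algebraMap R K)) 𝒲 := by
    rw [← IsScalarTower.algebraMap_eq R K Ω]
    exact hdom
  haveI : IsLocalHom (RingHom.codRestrict ((algebraMap K Ω).comp (algebraMap R K)) 𝒲 hdom'.1) :=
    WUGen.isLocalHom_of_dominates _ _ hdom'
  letI : Algebra (ResidueField R) (ResidueField ↥𝒲) :=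
    (ResidueField.map
      (RingHom.codRestrict ((algebraMap K Ω).comp (algebraMap R K)) 𝒲 hdom'.1)).toAlgebra
  have hbase := good_base 𝒲 R K (algebraMap K Ω) hdom' π hπ (fun a => rfl)
  have hint : ∀ x : K, algebraMap K Ω x ∈ 𝒲 → ∃ z : R, algebraMap R K z = x := by
    intro x hx
    rcases ValuationRing.isInteger_or_isInteger R x with ⟨z, hz⟩ | ⟨z, hz⟩
    · exact ⟨z, hz⟩
    · by_cases hx0 : x = 0
      · exact ⟨0, by rw [hx0, map_zero]⟩
      by_cases hzu : IsUnit z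
      · obtain ⟨w, hw⟩ := hzu.exists_right_inv
        refine ⟨w, ?_⟩
        have h1 : algebraMap R K z * algebraMap R K w = 1 := by rw [← map_mul, hw, map_one]
        have hz' : algebraMap R K z = x⁻¹ := hz
        rw [hz'] at h1
        rw [eq_inv_of_mul_eq_one_right h1, inv_inv]
      · exfalso
        have hzm : z ∈ maximalIdeal R := (mem_maximalIdeal z).mpr hzu
        have h2 : 𝒲.valuation (algebraMap R Ω z) < 1 := hdom.2 z hzm
        have hz' : algebraMap R K z = x⁻¹ := hz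
        rw [IsScalarTower.algebraMap_apply R K Ω, hz', map_inv₀, map_inv₀] at h2
        have h3 := (𝒲.valuation_le_one_iff _).mpr hx
        have hpos : 0 < 𝒲.valuation (algebraMap K Ω x) :=
          val_pos 𝒲 ((_root_.map_ne_zero _).mpr hx0)
        rw [inv_lt_one₀ hpos] at h2
        exact absurd h3 (not_le.mpr h2)
  have hint' : ∀ x ∈ (algebraMap K Ω).fieldRange, x ∈ 𝒲 → ∃ z : R, algebraMap R Ω z = x := by
    intro x hx hxW
    obtain ⟨k, hk⟩ := RingHom.mem_fieldRange.mp hx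
    rw [← hk] at hxW
    obtain ⟨z, hz⟩ := hint k hxW
    exact ⟨z, by rw [IsScalarTower.algebraMap_apply R K Ω z, hz, hk]⟩
  refine ⟨?_, ?_, ?_, ?_⟩
  · have h := hbase.1
    rwa [← IsScalarTower.algebraMap_apply R K Ω π] at h
  · have h := hbase.2.1
    rwa [← IsScalarTower.algebraMap_apply R K Ω π] at h
  · intro x hx hxH
    obtain ⟨z, hz⟩ := hint' x hxH hx
    subst hz
    exact IsPP.map z
  · intro s hs
    refine ⟨⊥, ?_, ?_, ?_, ?_, 0, ?_⟩
    · intro x hx
      obtain ⟨z, hz⟩ := hint' x (hs x (Finset.mem_coe.mp hx)).1 (hs x (Finset.mem_coe.mp hx)).2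
      rw [← hz]
      exact Subalgebra.algebraMap_mem ⊥ z
    · intro x hx
      obtain ⟨z, hz⟩ := Algebra.mem_bot.mp hx
      rw [← hz]
      refine ⟨?_, hdom.1 z⟩
      rw [IsScalarTower.algebraMap_apply R K Ω z]
      exact RingHom.mem_fieldRange.mpr ⟨_, rfl⟩
    · exact Subalgebra.finite_bot
    · exact Module.Free.of_equiv (Algebra.botEquivOfInjective hinj).symm.toLinearEquiv
    · rw [pow_zero, (Algebra.botEquivOfInjective hinj).toLinearEquiv.finrank_eq,
        Module.finrank_self]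

end Base

section Main

theorem main_core (R K Ω : Type u) [CommRing R] [IsDomain R] [IsDiscreteValuationRing R]
    [HenselianLocalRing R] [Field K] [Algebra R K] [IsFractionRing R K] [Field Ω] [Algebra K Ω]
    [Algebra R Ω] [IsScalarTower R K Ω] [IsAlgClosed Ω] (p : ℕ) (hp : p.Prime)
    [CharP (ResidueField R) p] :
    ∃ (R' : Type u) (_ : CommRing R') (_ : IsDomain R') (_ : IsDiscreteValuationRing R')
      (_ : HenselianLocalRing R') (_ : Algebra R R'),
      Function.Injective (algebraMap R R') ∧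
      Ideal.map (algebraMap R R') (maximalIdeal R) = maximalIdeal R' ∧
      (∀ s : Finset R', ∃ S : Subalgebra R R', (↑s : Set R') ⊆ ↑S ∧ Module.Finite R S ∧
        Module.Free R S ∧ ∃ m : ℕ, Module.finrank R S = p ^ m) ∧
      (∀ y : R', ∃ z : R', z ^ p - y ∈ maximalIdeal R') ∧
      (∀ y : R', ∃ (m : ℕ) (z : R), algebraMap R R' z - y ^ (p ^ m) ∈ maximalIdeal R') := by
  classical
  have hinj : Function.Injective (algebraMap R Ω) := by
    rw [IsScalarTower.algebraMap_eq R K Ω]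
    exact (algebraMap K Ω).injective.comp (IsFractionRing.injective R K)
  obtain ⟨𝒲, hdom⟩ := TotRam.exists_dominating (algebraMap R Ω)
  obtain ⟨π, hπ⟩ := IsDiscreteValuationRing.exists_irreducible R
  obtain ⟨ϖ, hϖ⟩ : ∃ ϖ : Ω, ϖ = algebraMap R Ω π := ⟨_, rfl⟩
  have hϖ0 : ϖ ≠ 0 := by
    rw [hϖ]
    intro h0
    exact hπ.ne_zero ((_root_.map_eq_zero_iff _ hinj).mp h0)
  have hϖ1 : 𝒲.valuation ϖ < 1 := by
    rw [hϖ]
    exact hdom.2 π ((mem_maximalIdeal _).mpr hπ.not_isUnit)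
  have hg : ∀ z : R, algebraMap R Ω z ∈ 𝒲 := hdom.1
  haveI hchar : CharP (ResidueField ↥𝒲) p := by
    have h1 : ((p : ℕ) : R) ∈ maximalIdeal R := by
      rw [← IsLocalRing.residue_eq_zero_iff, map_natCast]
      exact CharP.cast_eq_zero _ p
    have h2 := hdom.2 _ h1
    rw [map_natCast] at h2
    have h3 : IsLocalRing.residue ↥𝒲 ((p : ℕ) : ↥𝒲) = 0 := by
      rw [IsLocalRing.residue_eq_zero_iff, ValuationSubring.valuation_lt_one_iff]
      have h4 : (((p : ℕ) : ↥𝒲) : Ω) = ((p : ℕ) : Ω) := map_natCast 𝒲.subtype p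
      rw [h4]
      exact h2
    rw [map_natCast] at h3
    exact (CharP.charP_iff_prime_eq_zero hp).mpr h3
  have hbase := pgood_base 𝒲 p K hdom π hπ
  rw [← hϖ] at hbase
  obtain ⟨H, hH₀, hH, hmax⟩ := exists_maximal 𝒲 p hg ϖ _ hbase
  have hgH : ∀ z : R, algebraMap R Ω z ∈ H := by
    intro z
    apply hH₀
    rw [IsScalarTower.algebraMap_apply R K Ω z]
    exact RingHom.mem_fieldRange.mpr ⟨_, rfl⟩
  have hϖH : ϖ ∈ H := by
    rw [hϖ]
    exact hgH π
  -- the ring `R'`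
  let A' : ValuationSubring ↥H := 𝒲.comap H.subtype
  have hmemA' : ∀ x : ↥H, x ∈ A' ↔ (x : Ω) ∈ 𝒲 := fun x => ValuationSubring.mem_comap
  haveI hDVR : IsDiscreteValuationRing ↥A' :=
    isDVR_comap 𝒲 ϖ H.subtype ⟨ϖ, hϖH⟩ rfl hϖ0 hϖ1 (fun x hx => hH.div _ x.2 hx)
      (fun x hx0 => hH.arch _ x.2 (fun h => hx0 (Subtype.ext h)))
  let φ : R →+* ↥A' := RingHom.codRestrict (RingHom.codRestrict (algebraMap R Ω) H hgH) A'
    (fun z => ValuationSubring.mem_comap.mpr (hg z))
  letI algR' : Algebra R ↥A' := φ.toAlgebra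
  have hvalA' : ∀ y : ↥A', y ∈ maximalIdeal ↥A' ↔ 𝒲.valuation ((y : ↥H) : Ω) < 1 := fun y =>
    (ValuationSubring.valuation_lt_one_iff A' y).trans (val_comap_lt_one 𝒲 H.subtype (y : ↥H))
  -- the inclusion of `R'` into `Ω`
  let ψ : ↥A' →ₐ[R] Ω :=
    { toRingHom := H.subtype.comp A'.subtype
      commutes' := fun z => rfl }
  have hψinj : Function.Injective ψ := fun x y h => Subtype.ext (Subtype.ext h)
  have h1 : Function.Injective (algebraMap R ↥A') := by
    intro x y h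
    apply hinj
    exact congrArg (fun t : ↥A' => ((t : ↥H) : Ω)) h
  have h2 : Ideal.map (algebraMap R ↥A') (maximalIdeal R) = maximalIdeal ↥A' := by
    rw [hπ.maximalIdeal_eq, Ideal.map_span, Set.image_singleton]
    apply le_antisymm
    · rw [Ideal.span_le]
      intro x hx
      rw [Set.mem_singleton_iff] at hx
      rw [hx]
      show algebraMap R ↥A' π ∈ maximalIdeal ↥A'
      rw [hvalA']
      show 𝒲.valuation (algebraMap R Ω π) < 1
      rw [← hϖ]
      exact hϖ1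
    · intro x hx
      have hlt := (hvalA' x).mp hx
      have hle := hH.div _ (x : ↥H).2 hlt
      have hdivW : ((x : ↥H) : Ω) / ϖ ∈ 𝒲 := by
        apply (𝒲.valuation_le_one_iff _).mp
        rw [map_div₀]
        exact (div_le_one₀ (val_pos 𝒲 hϖ0)).mpr hle
      have hdivH : ((x : ↥H) : Ω) / ϖ ∈ H := H.div_mem (x : ↥H).2 hϖH
      rw [Ideal.mem_span_singleton']
      refine ⟨⟨⟨_, hdivH⟩, (hmemA' _).mpr hdivW⟩, ?_⟩
      apply Subtype.ext
      apply Subtype.ext
      show ((x : ↥H) : Ω) / ϖ * algebraMap R Ω π = ((x : ↥H) : Ω)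
      rw [← hϖ]
      exact div_mul_cancel₀ _ hϖ0
  have h3 : ∀ s : Finset ↥A', ∃ S : Subalgebra R ↥A', (↑s : Set ↥A') ⊆ ↑S ∧
      Module.Finite R S ∧ Module.Free R S ∧ ∃ m : ℕ, Module.finrank R S = p ^ m := by
    intro s
    obtain ⟨S, hsS, hSsub, hfin, hfree, m, hrank⟩ :=
      hH.fin (s.image (fun y : ↥A' => ((y : ↥H) : Ω))) (by
        intro x hx
        obtain ⟨y, -, hy⟩ := Finset.mem_image.mp hx
        rw [← hy]
        exact ⟨(y : ↥H).2, (hmemA' _).mp y.2⟩)
    haveI := hfin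
    haveI := hfree
    let e₀ : ↥(Subalgebra.comap ψ S) →ₗ[R] ↥S :=
      { toFun := fun y => ⟨ψ y, (Subalgebra.mem_comap S ψ y).mp y.2⟩
        map_add' := fun x y => Subtype.ext (map_add ψ _ _)
        map_smul' := fun r x => Subtype.ext (map_smul ψ r _) }
    have he₀ : Function.Bijective e₀ := by
      constructor
      · intro x y h
        have h' : ψ (x : ↥A') = ψ (y : ↥A') := congrArg (Subtype.val : ↥S → Ω) h
        exact Subtype.ext (hψinj h')
      · intro x
        obtain ⟨hxH, hxW⟩ := hSsub x x.2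
        refine ⟨⟨⟨⟨x, hxH⟩, (hmemA' _).mpr hxW⟩, ?_⟩, ?_⟩
        · apply (Subalgebra.mem_comap S ψ _).mpr
          exact x.2
        · exact Subtype.ext rfl
    let e : ↥(Subalgebra.comap ψ S) ≃ₗ[R] ↥S := LinearEquiv.ofBijective e₀ he₀
    refine ⟨Subalgebra.comap ψ S, ?_, Module.Finite.equiv e.symm, Module.Free.of_equiv e.symm,
      m, ?_⟩
    · intro y hy
      apply (Subalgebra.mem_comap S ψ _).mpr
      exact hsS (Finset.mem_coe.mpr (Finset.mem_image_of_mem _ (Finset.mem_coe.mp hy)))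
    · rw [e.finrank_eq, hrank]
  haveI hintR' : Algebra.IsIntegral R ↥A' := by
    constructor
    intro y
    obtain ⟨S, hyS, hfin, -, -⟩ := h3 {y}
    haveI := hfin
    haveI : Algebra.IsIntegral R ↥S := Algebra.IsIntegral.of_finite R ↥S
    have hyS' : y ∈ S := hyS (by simp)
    have h6 : IsIntegral R (⟨y, hyS'⟩ : ↥S) := Algebra.IsIntegral.isIntegral _
    exact h6.map S.val
  have hHens : HenselianLocalRing ↥A' :=
    Groth.Agent.Helper1.IH.henselianLocalRing_of_isIntegral R ↥A'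
  have h4 : ∀ y : ↥A', ∃ z : ↥A', z ^ p - y ∈ maximalIdeal ↥A' := by
    intro y
    by_contra hcon
    push_neg at hcon
    obtain ⟨a, ha⟩ : ∃ a : Ω, a = ((y : ↥H) : Ω) := ⟨_, rfl⟩
    have haH : a ∈ H := by
      rw [ha]
      exact (y : ↥H).2
    have haW : a ∈ 𝒲 := by
      rw [ha]
      exact (hmemA' _).mp y.2
    have hnp : NotPow 𝒲 p H a := by
      intro z hzH hzW hlt
      apply hcon ⟨⟨z, hzH⟩, (hmemA' _).mpr hzW⟩
      rw [hvalA']
      show 𝒲.valuation (z ^ p - ((y : ↥H) : Ω)) < 1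
      rw [← ha]
      exact hlt
    obtain ⟨θ, hθ⟩ := IsAlgClosed.exists_pow_nat_eq a hp.pos
    have hgood := pgood_adjoin 𝒲 p hg ϖ hp H hH a θ haH haW hθ hnp
    have hle : H ≤ (IntermediateField.adjoin ↥H {θ}).toSubfield := by
      intro x hx
      rw [IntermediateField.mem_toSubfield]
      exact (IntermediateField.adjoin ↥H {θ}).algebraMap_mem ⟨x, hx⟩
    have hge := hmax _ hgood hle
    have hθH : θ ∈ H := hge ((IntermediateField.mem_toSubfield _ _).mpr
      (IntermediateField.mem_adjoin_simple_self ↥H θ))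
    have hθW : θ ∈ 𝒲 := mem_of_pow_mem 𝒲 hp.ne_zero θ (by rw [hθ]; exact haW)
    apply hnp θ hθH hθW
    rw [hθ, sub_self, map_zero]
    exact zero_lt_iff.mpr one_ne_zero
  have h5 : ∀ y : ↥A', ∃ (m : ℕ) (z : R),
      algebraMap R ↥A' z - y ^ (p ^ m) ∈ maximalIdeal ↥A' := by
    intro y
    have hyW : ((y : ↥H) : Ω) ∈ 𝒲 := (hmemA' _).mp y.2
    obtain ⟨m, z, hmz⟩ := hH.perf _ hyW (y : ↥H).2
    refine ⟨m, z, ?_⟩
    rw [hvalA']
    show 𝒲.valuation (algebraMap R Ω z - ((y : ↥H) : Ω) ^ (p ^ m)) < 1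
    have h6 : IsLocalRing.residue ↥𝒲
        (⟨algebraMap R Ω z, hg z⟩ - ⟨((y : ↥H) : Ω), hyW⟩ ^ (p ^ m)) = 0 := by
      rw [map_sub, map_pow, hmz]
      exact sub_self _
    have h7 := (IsLocalRing.residue_eq_zero_iff _).mp h6
    rw [ValuationSubring.valuation_lt_one_iff] at h7
    exact h7
  exact ⟨↥A', inferInstance, inferInstance, hDVR, hHens, algR', h1, h2, h3, h4, h5⟩

theorem main_prime (R : Type u) [CommRing R] [IsDomain R] [IsDiscreteValuationRing R]
    [HenselianLocalRing R] (p : ℕ) (hp : p.Prime) [CharP (ResidueField R) p] :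
    ∃ (R' : Type u) (_ : CommRing R') (_ : IsDomain R') (_ : IsDiscreteValuationRing R')
      (_ : HenselianLocalRing R') (_ : Algebra R R'),
      Function.Injective (algebraMap R R') ∧
      Ideal.map (algebraMap R R') (maximalIdeal R) = maximalIdeal R' ∧
      (∀ s : Finset R', ∃ S : Subalgebra R R', (↑s : Set R') ⊆ ↑S ∧ Module.Finite R S ∧
        Module.Free R S ∧ ∃ m : ℕ, Module.finrank R S = p ^ m) ∧
      (∀ y : R', ∃ z : R', z ^ p - y ∈ maximalIdeal R') ∧
      (∀ y : R', ∃ (m : ℕ) (z : R), algebraMap R R' z - y ^ (p ^ m) ∈ maximalIdeal R') :=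
  main_core R (FractionRing R) (AlgebraicClosure (FractionRing R)) p hp

theorem main (R : Type u) [CommRing R] [IsDomain R] [IsDiscreteValuationRing R]
    [HenselianLocalRing R] (q : ℕ) [hq : ExpChar (ResidueField R) q] :
    ∃ (R' : Type u) (_ : CommRing R') (_ : IsDomain R') (_ : IsDiscreteValuationRing R')
      (_ : HenselianLocalRing R') (_ : Algebra R R'),
      Function.Injective (algebraMap R R') ∧
      Ideal.map (algebraMap R R') (maximalIdeal R) = maximalIdeal R' ∧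
      (∀ s : Finset R', ∃ S : Subalgebra R R', (↑s : Set R') ⊆ ↑S ∧ Module.Finite R S ∧
        Module.Free R S ∧ ∃ m : ℕ, Module.finrank R S = q ^ m) ∧
      (∀ y : R', ∃ z : R', z ^ q - y ∈ maximalIdeal R') ∧
      (∀ y : R', ∃ (m : ℕ) (z : R), algebraMap R R' z - y ^ (q ^ m) ∈ maximalIdeal R') := by
  cases hq with
  | zero =>
    refine ⟨R, inferInstance, inferInstance, inferInstance, inferInstance, Algebra.id R,
      fun x y h => h, Ideal.map_id _, ?_, ?_, ?_⟩
    · intro s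
      refine ⟨⊤, fun x _ => Algebra.mem_top,
        Module.Finite.equiv Subalgebra.topEquiv.symm.toLinearEquiv,
        Module.Free.of_equiv Subalgebra.topEquiv.symm.toLinearEquiv, 0, ?_⟩
      rw [pow_zero, Subalgebra.topEquiv.toLinearEquiv.finrank_eq, Module.finrank_self]
    · intro y
      refine ⟨y, ?_⟩
      rw [pow_one, sub_self]
      exact zero_mem _
    · intro y
      refine ⟨0, y, ?_⟩
      rw [pow_zero, pow_one]
      show y - y ∈ _
      rw [sub_self]
      exact zero_mem _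
  | prime hprime => exact main_prime R q hprime

end Main

end Groth.Agent.Helper22.PClB
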