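import Mathlib
import Groth.Prelude.Def_PLie

set_option autoImplicit false
universe u v

namespace Groth.Agent.Helper22

variable {k : Type u} [Field k] {L : Type v} [LieRing L] [LieAlgebra k L]

/-- `ad` of the ideal (as a Lie algebra) is the restriction of `ad` of the ambient algebra. -/
theorem ad_ideal_pow_apply (I : LieIdeal k L) (x : I) (m : ℕ) (y : I) :
    (((LieAlgebra.ad k I x) ^ m) y : L) = (LieAlgebra.ad k L (x : L) ^ m) (y : L) := by
  induction m generalizing y with
  | zero => simp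
  | succ m ih =>
    rw [pow_succ', Module.End.mul_apply, pow_succ', Module.End.mul_apply, ← ih]
    rfl

/-- iterating the `p`-map corresponds to taking `p^n`-th powers of `ad`. -/
theorem ad_iterate_pMap {p : ℕ} [CharP k p] (φ : PLie.PMap k p L) (n : ℕ) (z : L) :
    LieAlgebra.ad k L (φ.toFun^[n] z) = LieAlgebra.ad k L z ^ (p ^ n) := by
  induction n with
  | zero => simp
  | succ n ih =>
    rw [Function.iterate_succ_apply', φ.ad_map, ih, ← pow_mul, pow_succ]

/-- A nilpotent ideal acts nilpotently on the whole (finite-dimensional) algebra. -/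
theorem exists_lcs_eq_bot_of_isNilpotent [Module.Finite k L] (N : LieIdeal k L)
    (hN : LieRing.IsNilpotent N) : ∃ m, N.lcs L m = ⊥ := by
  have h1 : LieModule.IsNilpotent N L := by
    rw [LieModule.isNilpotent_iff_forall' (R := k)]
    intro n
    haveI : LieModule.IsNilpotent N N := hN
    obtain ⟨m, hm⟩ : _root_.IsNilpotent (LieAlgebra.ad k N n) :=
      LieModule.isNilpotent_toEnd_of_isNilpotent k N N n
    refine ⟨m + 1, ?_⟩
    ext y
    have h2 : ((LieModule.toEnd k N L n) ^ (m + 1)) y
        = (LieAlgebra.ad k L (n : L) ^ m) ((⟨⁅(n : L), y⁆, lie_mem_left k L N n y n.2⟩ : N) : L) := by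
      rw [pow_succ, Module.End.mul_apply]
      rfl
    rw [h2, ← ad_ideal_pow_apply, hm]
    simp
  obtain ⟨m, hm⟩ := (LieModule.isNilpotent_iff k N L).mp h1
  refine ⟨m, ?_⟩
  rw [← LieSubmodule.toSubmodule_inj, LieIdeal.coe_lcs_eq]
  have := congrArg LieSubmodule.toSubmodule hm
  simpa using this

/-- An endomorphism that shifts the filtration `N.lcs L j` is nilpotent. -/
theorem pow_mem_lcs (N : LieIdeal k L) (T : Module.End k L)
    (hT : ∀ (j : ℕ) (y : L), y ∈ N.lcs L j → T y ∈ N.lcs L (j + 1)) (j : ℕ) (y : L) :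
    (T ^ j) y ∈ N.lcs L j := by
  induction j with
  | zero => simp [LieIdeal.lcs_zero]
  | succ j ih =>
    rw [pow_succ', Module.End.mul_apply]
    exact hT j _ ih

theorem ad_mem_lcs_succ (N : LieIdeal k L) (n : L) (hn : n ∈ N) (j : ℕ) (y : L)
    (hy : y ∈ N.lcs L j) : LieAlgebra.ad k L n y ∈ N.lcs L (j + 1) := by
  rw [LieIdeal.lcs_succ, LieAlgebra.ad_apply]
  exact LieSubmodule.lie_mem_lie hn hy

theorem ad_pow_mem_lcs_succ (N : LieIdeal k L) (n : L) (hn : n ∈ N) (q : ℕ) (j : ℕ) (y : L)
    (hy : y ∈ N.lcs L j) : (LieAlgebra.ad k L n ^ (q + 1)) y ∈ N.lcs L (j + 1) := by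
  rw [pow_succ', Module.End.mul_apply]
  apply ad_mem_lcs_succ N n hn
  clear hn
  induction q with
  | zero => simpa using hy
  | succ q ih =>
    rw [pow_succ', Module.End.mul_apply, LieAlgebra.ad_apply]
    exact (N.lcs L j).lie_mem ih

end Groth.Agent.Helper22
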