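import Mathlib
set_option autoImplicit false
universe u

/-!
The local ring of `k[[t₁,t₂]]` at `(t₁)` embeds into the complete DVR `K̄[[T]]`, where `K̄` is an
algebraic closure of `Frac k[[t₂]]`, with `t₁ ↦ T`.
-/

namespace Groth.Agent.Helper22.PSDom

open MvPowerSeries

theorem main (k : Type u) [Field k]
    (P : Ideal (MvPowerSeries (Fin 2) k))
    (hP : P = Ideal.span {(MvPowerSeries.X 0 : MvPowerSeries (Fin 2) k)}) [P.IsPrime] :
    ∃ (A : Type u) (_ : CommRing A) (_ : IsDomain A) (_ : IsDiscreteValuationRing A)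
      (_ : Algebra k A) (φ : Localization.AtPrime P →ₐ[k] A),
      IsAdicComplete (IsLocalRing.maximalIdeal A) A ∧ IsAlgClosed (IsLocalRing.ResidueField A) ∧
        Function.Injective φ ∧ IsLocalHom φ.toRingHom ∧
          Irreducible (φ (algebraMap (MvPowerSeries (Fin 2) k) (Localization.AtPrime P)
            (MvPowerSeries.X 0))) := by
  classical
  haveI : IsDomain (MvPowerSeries (Fin 1) k) := NoZeroDivisors.to_isDomain _
  let ι : MvPowerSeries (Fin 1) k →+*
      AlgebraicClosure (FractionRing (MvPowerSeries (Fin 1) k)) :=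
    (algebraMap (FractionRing (MvPowerSeries (Fin 1) k))
      (AlgebraicClosure (FractionRing (MvPowerSeries (Fin 1) k)))).comp
      (algebraMap (MvPowerSeries (Fin 1) k) (FractionRing (MvPowerSeries (Fin 1) k)))
  have hι : Function.Injective ι := by
    intro x y h
    exact IsFractionRing.injective (MvPowerSeries (Fin 1) k)
      (FractionRing (MvPowerSeries (Fin 1) k))
      ((algebraMap (FractionRing (MvPowerSeries (Fin 1) k))
        (AlgebraicClosure (FractionRing (MvPowerSeries (Fin 1) k)))).injective h)
  let Ψ : MvPowerSeries (Fin 2) k →+*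
      PowerSeries (AlgebraicClosure (FractionRing (MvPowerSeries (Fin 1) k))) :=
    (PowerSeries.map ι).comp (MvPowerSeries.finSuccEquiv k 1).toRingEquiv.toRingHom
  have hΨ : ∀ f, Ψ f = PowerSeries.map ι (MvPowerSeries.finSuccEquiv k 1 f) := fun _ => rfl
  have hΨX : Ψ (X 0) = PowerSeries.X := by
    rw [hΨ, MvPowerSeries.finSuccEquiv_X_zero, PowerSeries.map_X]
  have hmapinj : Function.Injective (PowerSeries.map ι) := by
    intro f g h
    refine PowerSeries.ext (fun n => ?_)
    have h1 := congrArg (PowerSeries.coeff n) h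
    rw [PowerSeries.coeff_map, PowerSeries.coeff_map] at h1
    exact hι h1
  have hΨinj : Function.Injective Ψ := by
    intro x y h
    rw [hΨ, hΨ] at h
    exact (MvPowerSeries.finSuccEquiv k 1).injective (hmapinj h)
  have hunit : ∀ y : MvPowerSeries (Fin 2) k, ¬ (X 0 ∣ y) → IsUnit (Ψ y) := by
    intro y hy
    rw [PowerSeries.isUnit_iff_constantCoeff, isUnit_iff_ne_zero]
    intro h0
    apply hy
    rw [MvPowerSeries.X_dvd_iff]
    intro m hm
    have h1 : PowerSeries.constantCoeff (MvPowerSeries.finSuccEquiv k 1 y) = 0 := by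
      apply hι
      rw [map_zero]
      have h2 : PowerSeries.constantCoeff
          (PowerSeries.map ι (MvPowerSeries.finSuccEquiv k 1 y)) =
          ι (PowerSeries.constantCoeff (MvPowerSeries.finSuccEquiv k 1 y)) := by
        rw [← PowerSeries.coeff_zero_eq_constantCoeff_apply, PowerSeries.coeff_map,
          PowerSeries.coeff_zero_eq_constantCoeff_apply]
      rw [← h2, ← hΨ]
      exact h0
    have h2 : MvPowerSeries.coeff ((Finsupp.tail m).cons 0) y = 0 := by
      rw [← MvPowerSeries.coeff_coeff_finSuccEquiv, PowerSeries.coeff_zero_eq_constantCoeff_apply,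
        h1, map_zero]
    have h3 : (Finsupp.tail m).cons 0 = m := by
      rw [← hm]
      exact Finsupp.cons_tail m
    rw [← h3]
    exact h2
  have hnotunit : ∀ y : MvPowerSeries (Fin 2) k, X 0 ∣ y → ¬ IsUnit (Ψ y) := by
    rintro y ⟨z, rfl⟩ hu
    rw [map_mul, hΨX] at hu
    have hX : IsUnit (PowerSeries.X :
        PowerSeries (AlgebraicClosure (FractionRing (MvPowerSeries (Fin 1) k)))) :=
      isUnit_of_mul_isUnit_left hu
    exact PowerSeries.X_irreducible.not_isUnit hX
  subst hP
  have hg : ∀ y : (Ideal.span {(MvPowerSeries.X 0 : MvPowerSeries (Fin 2) k)}).primeCompl,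
      IsUnit (Ψ y) :=
    fun y => hunit y (fun hdvd => y.2 (Ideal.mem_span_singleton.mpr hdvd))
  letI alg : Algebra k (PowerSeries (AlgebraicClosure (FractionRing (MvPowerSeries (Fin 1) k)))) :=
    (Ψ.comp (MvPowerSeries.C : k →+* MvPowerSeries (Fin 2) k)).toAlgebra
  have hcomm : ∀ c : k, (IsLocalization.lift hg :
      Localization.AtPrime (Ideal.span {(MvPowerSeries.X 0 : MvPowerSeries (Fin 2) k)}) →+* _)
      (algebraMap k _ c) = algebraMap k _ c := by
    intro c
    rw [IsScalarTower.algebraMap_apply k (MvPowerSeries (Fin 2) k)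
      (Localization.AtPrime (Ideal.span {(MvPowerSeries.X 0 : MvPowerSeries (Fin 2) k)})) c,
      IsLocalization.lift_eq]
    have h1 : algebraMap k (MvPowerSeries (Fin 2) k) c = MvPowerSeries.C c := by
      rw [MvPowerSeries.algebraMap_apply]
      rfl
    rw [h1]
    rfl
  refine ⟨PowerSeries (AlgebraicClosure (FractionRing (MvPowerSeries (Fin 1) k))), inferInstance,
    inferInstance, inferInstance, alg, ⟨IsLocalization.lift hg, hcomm⟩, ?_, ?_, ?_, ?_, ?_⟩
  · rw [PowerSeries.maximalIdeal_eq_span_X]
    infer_instance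
  · exact IsAlgClosed.of_ringEquiv (AlgebraicClosure (FractionRing (MvPowerSeries (Fin 1) k))) _
      PowerSeries.residueFieldOfPowerSeries.symm
  · show Function.Injective (IsLocalization.lift hg)
    rw [IsLocalization.lift_injective_iff]
    intro x y
    constructor
    · intro h
      have hxy : x = y := IsLocalization.injective
        (Localization.AtPrime (Ideal.span {(MvPowerSeries.X 0 : MvPowerSeries (Fin 2) k)}))
        (Ideal.primeCompl_le_nonZeroDivisors
          (Ideal.span {(MvPowerSeries.X 0 : MvPowerSeries (Fin 2) k)})) h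
      rw [hxy]
    · intro h
      rw [hΨinj h]
  · show IsLocalHom (IsLocalization.lift hg)
    constructor
    intro a ha
    obtain ⟨⟨r, s⟩, rfl⟩ := IsLocalization.mk'_surjective
      (Ideal.span {(MvPowerSeries.X 0 : MvPowerSeries (Fin 2) k)}).primeCompl a
    have hspec := IsLocalization.mk'_spec
      (Localization.AtPrime (Ideal.span {(MvPowerSeries.X 0 : MvPowerSeries (Fin 2) k)})) r s
    have h1 := congrArg (IsLocalization.lift hg) hspec
    rw [map_mul, IsLocalization.lift_eq, IsLocalization.lift_eq] at h1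
    have hur : IsUnit (Ψ r) := by
      rw [← h1]
      exact ha.mul (hg s)
    have hr : r ∈ (Ideal.span {(MvPowerSeries.X 0 : MvPowerSeries (Fin 2) k)}).primeCompl := by
      intro hmem
      exact hnotunit r (Ideal.mem_span_singleton.mp hmem) hur
    have hru : IsUnit (algebraMap (MvPowerSeries (Fin 2) k)
        (Localization.AtPrime (Ideal.span {(MvPowerSeries.X 0 : MvPowerSeries (Fin 2) k)})) r) :=
      IsLocalization.map_units _ (⟨r, hr⟩ :
        (Ideal.span {(MvPowerSeries.X 0 : MvPowerSeries (Fin 2) k)}).primeCompl)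
    rw [← hspec] at hru
    exact isUnit_of_mul_isUnit_left hru
  · show Irreducible ((IsLocalization.lift hg) (algebraMap _ _ (X 0)))
    rw [IsLocalization.lift_eq, hΨX]
    exact PowerSeries.X_irreducible

end Groth.Agent.Helper22.PSDom
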