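import Mathlib

/-!
# Closed subsets `S` of a root pairing over `ℤ` with `S ∪ -S = everything` contain a positive system
(helper22; Bourbaki Lie VI §1.7 Prop. 20, the max-cardinality argument).  No reducedness assumed.
-/

set_option autoImplicit false

namespace Groth.Agent.Helper22.Parab

open Set Function

variable {ι M N : Type*} [AddCommGroup M] [AddCommGroup N]

/-- positive roots with respect to a base -/
def pos (P : RootPairing ι ℤ M N) (b : P.Base) : Set ι :=
  {a | P.root a ∈ AddSubmonoid.closure (P.root '' (b.support : Set ι))}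

variable {P : RootPairing ι ℤ M N}

lemma sum_mem_closure' {V : Type*} [AddCommGroup V] (v : ι → V) (s : Finset ι) (S : Set V)
    (hS : ∀ j ∈ s, v j ∈ S) (z : ι → ℤ) (hz : ∀ j ∈ s, 0 ≤ z j) :
    ∑ j ∈ s, z j • v j ∈ AddSubmonoid.closure S := by
  refine AddSubmonoid.sum_mem _ fun j hj => ?_
  obtain ⟨m, hm⟩ := Int.eq_ofNat_of_zero_le (hz j hj)
  rw [hm, natCast_zsmul]
  exact AddSubmonoid.nsmul_mem _ (AddSubmonoid.subset_closure (hS j hj)) m

lemma exists_nat_coeff (b : P.Base) {m : M}
    (hm : m ∈ AddSubmonoid.closure (P.root '' (b.support : Set ι))) :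
    ∃ f : ι → ℕ, f.support ⊆ b.support ∧ m = ∑ j ∈ b.support, f j • P.root j := by
  classical
  refine AddSubmonoid.closure_induction ?_ ⟨0, by simp⟩ ?_ hm
  · rintro - ⟨j, hj, rfl⟩
    exact ⟨Pi.single j 1, by simpa, by aesop (add simp Pi.single_apply)⟩
  · intro _ _ _ _ ⟨f, hf, hf'⟩ ⟨g, hg, hg'⟩
    refine ⟨f + g, ?_, by simp [hf', hg', add_smul, Finset.sum_add_distrib]⟩
    exact (support_add f g).trans <| union_subset_iff.mpr ⟨hf, hg⟩

lemma isPos_of_mem_pos (b : P.Base) {a : ι} (ha : a ∈ pos P b) : b.IsPos a := by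
  obtain ⟨f, -, hf⟩ := exists_nat_coeff b ha
  rw [RootPairing.Base.isPos_iff']
  have h : P.root a = ∑ j ∈ b.support, ((f j : ℤ)) • P.root j := by
    rw [hf]; exact Finset.sum_congr rfl fun j _ => (natCast_zsmul _ _).symm
  rw [RootPairing.Base.height_eq_sum (f := fun j => (f j : ℤ)) h]
  exact Finset.sum_nonneg fun j _ => Int.natCast_nonneg _

lemma root_neg (a : ι) : P.root (P.reflectionPerm a a) = -P.root a := by
  rw [P.root_reflectionPerm, P.reflection_apply_self]

lemma pos_subset_of_closed [Finite ι] (b : P.Base) (S : Set ι)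
    (hS : ∀ a b c : ι, a ∈ S → b ∈ S → P.root a + P.root b = P.root c → c ∈ S)
    (hb : ∀ j ∈ b.support, j ∈ S) : pos P b ⊆ S := by
  intro a ha
  refine (isPos_of_mem_pos b ha).induction_on_add (p := fun i => i ∈ S) hb ?_
  intro i j k hk hi hj
  exact hS i j k hi (hb j hj) hk.symm

lemma map_mem_closure {A B : Type*} [AddCommMonoid A] [AddCommMonoid B] (f : A →+ B) {T : Set A}
    {x : A} (hx : x ∈ AddSubmonoid.closure T) : f x ∈ AddSubmonoid.closure (f '' T) := by
  rw [← AddMonoidHom.map_mclosure]
  exact AddSubmonoid.mem_map_of_mem f hx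

lemma refl_image (α : ι) (T : Set ι) :
    (P.reflection α) '' (P.root '' T) = P.root '' ((P.reflectionPerm α) '' T) := by
  rw [Set.image_image, Set.image_image]
  exact Set.image_congr fun j _ => (P.root_reflectionPerm α j).symm

lemma corefl_image (α : ι) (T : Set ι) :
    (P.coreflection α) '' (P.coroot '' T) = P.coroot '' ((P.reflectionPerm α) '' T) := by
  rw [Set.image_image, Set.image_image]
  exact Set.image_congr fun j _ => (P.coroot_reflectionPerm α j).symm

lemma refl_mem_closure (α : ι) (T : Set ι) {x : M}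
    (hx : x ∈ AddSubmonoid.closure (P.root '' T)) :
    P.reflection α x ∈ AddSubmonoid.closure (P.root '' ((P.reflectionPerm α) '' T)) := by
  have := map_mem_closure ((P.reflection α).toLinearMap.toAddMonoidHom) hx
  rw [← refl_image]
  exact this

lemma corefl_mem_closure (α : ι) (T : Set ι) {x : N}
    (hx : x ∈ AddSubmonoid.closure (P.coroot '' T)) :
    P.coreflection α x ∈ AddSubmonoid.closure (P.coroot '' ((P.reflectionPerm α) '' T)) := by
  have := map_mem_closure ((P.coreflection α).toLinearMap.toAddMonoidHom) hx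
  rw [← corefl_image]
  exact this

lemma image_image_reflectionPerm (α : ι) (T : Set ι) :
    (P.reflectionPerm α) '' ((P.reflectionPerm α) '' T) = T := by
  rw [Set.image_image]
  simp [P.reflectionPerm_self]

/-- The base obtained by reflecting `b` in the root `α`. -/
def reflectBase (b : P.Base) (α : ι) : P.Base where
  support := b.support.map (P.reflectionPerm α).toEmbedding
  linearIndepOn_root := by
    rw [Finset.coe_map, Equiv.coe_toEmbedding]
    refine LinearIndepOn.image_of_comp (P.reflectionPerm α) P.root ?_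
    have h : (P.root ∘ P.reflectionPerm α) = (P.reflection α).toLinearMap ∘ P.root := by
      funext j
      exact P.root_reflectionPerm α j
    rw [h]
    exact b.linearIndepOn_root.map_injOn (P.reflection α).toLinearMap
      ((P.reflection α).injective.injOn)
  linearIndepOn_coroot := by
    rw [Finset.coe_map, Equiv.coe_toEmbedding]
    refine LinearIndepOn.image_of_comp (P.reflectionPerm α) P.coroot ?_
    have h : (P.coroot ∘ P.reflectionPerm α) = (P.coreflection α).toLinearMap ∘ P.coroot := by
      funext j
      exact P.coroot_reflectionPerm α j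
    rw [h]
    exact b.linearIndepOn_coroot.map_injOn (P.coreflection α).toLinearMap
      ((P.coreflection α).injective.injOn)
  root_mem_or_neg_mem i := by
    rw [Finset.coe_map, Equiv.coe_toEmbedding]
    have hi : P.reflection α (P.root (P.reflectionPerm α i)) = P.root i := by
      rw [← P.root_reflectionPerm, P.reflectionPerm_self]
    rcases b.root_mem_or_neg_mem (P.reflectionPerm α i) with h | h
    · left
      rw [← hi]
      exact refl_mem_closure α _ h
    · right
      rw [← hi, ← map_neg]
      exact refl_mem_closure α _ h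
  coroot_mem_or_neg_mem i := by
    rw [Finset.coe_map, Equiv.coe_toEmbedding]
    have hi : P.coreflection α (P.coroot (P.reflectionPerm α i)) = P.coroot i := by
      rw [← P.coroot_reflectionPerm, P.reflectionPerm_self]
    rcases b.coroot_mem_or_neg_mem (P.reflectionPerm α i) with h | h
    · left
      rw [← hi]
      exact corefl_mem_closure α _ h
    · right
      rw [← hi, ← map_neg]
      exact corefl_mem_closure α _ h

lemma coe_support_reflectBase (b : P.Base) (α : ι) :
    ((reflectBase b α).support : Set ι) = (P.reflectionPerm α) '' (b.support : Set ι) := by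
  rw [reflectBase, Finset.coe_map, Equiv.coe_toEmbedding]

lemma mem_pos_reflectBase (b : P.Base) (α i : ι) :
    i ∈ pos P (reflectBase b α) ↔ P.reflectionPerm α i ∈ pos P b := by
  unfold pos
  rw [Set.mem_setOf_eq, Set.mem_setOf_eq, coe_support_reflectBase]
  constructor
  · intro h
    have := refl_mem_closure α _ h
    rwa [image_image_reflectionPerm, ← P.root_reflectionPerm] at this
  · intro h
    have := refl_mem_closure α _ h
    rwa [← P.root_reflectionPerm, P.reflectionPerm_self] at this

lemma reflectionPerm_mem_pos [Finite ι] (b : P.Base) {α i : ι} (hα : α ∈ b.support)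
    (hi : i ∈ pos P b) (hne : i ≠ α) : P.reflectionPerm α i ∈ pos P b := by
  classical
  haveI : Module.IsReflexive ℤ M := .of_isPerfPair P.toLinearMap
  haveI : Module.IsReflexive ℤ N := .of_isPerfPair P.flip.toLinearMap
  haveI : IsAddTorsionFree M := .of_isTorsionFree ℤ M
  haveI : IsAddTorsionFree N := .of_isTorsionFree ℤ N
  obtain ⟨f, hfs, hf⟩ := exists_nat_coeff b hi
  let g : ι → ℤ := fun j => (f j : ℤ) - (if j = α then P.pairing i α else 0)
  have hg : P.root (P.reflectionPerm α i) = ∑ j ∈ b.support, g j • P.root j := by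
    rw [P.root_reflectionPerm, P.reflection_apply_root, hf]
    simp only [g, sub_smul, Finset.sum_sub_distrib, ite_smul, zero_smul, Finset.sum_ite_eq', hα,
      if_true, natCast_zsmul]
  have hgs : g.support ⊆ b.support := by
    intro j hj
    by_contra hjn
    have h1 : f j = 0 := by
      by_contra h
      exact hjn (hfs (by simpa using h))
    have h2 : j ≠ α := fun h => hjn (h ▸ hα)
    simp [g, h1, h2] at hj
  rcases b.pos_or_neg_of_sum_smul_root_mem g (by rw [← hg]; exact mem_range_self _) hgs with
    hpos | hneg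
  · show P.root (P.reflectionPerm α i) ∈ AddSubmonoid.closure (P.root '' (b.support : Set ι))
    rw [hg]
    exact sum_mem_closure' _ _ _ (fun j hj => mem_image_of_mem _ hj) g (fun j _ => hpos.le j)
  · exfalso
    have h0 : ∀ j, j ≠ α → f j = 0 := by
      intro j hj
      have := hneg.le j
      simp only [g, if_neg hj, sub_zero, Pi.zero_apply] at this
      have h' : (0 : ℤ) ≤ (f j : ℤ) := Int.natCast_nonneg _
      omega
    have hi' : P.root i = (f α : ℤ) • P.root α := by
      rw [hf, Finset.sum_eq_single_of_mem α hα (fun j _ hj => by rw [h0 j hj, zero_smul]),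
        natCast_zsmul]
    rcases b.eq_one_or_neg_one_of_mem_support_of_smul_mem α hα (f α : ℤ) ⟨i, hi'⟩ with h1 | h1
    · rw [h1, one_smul] at hi'
      exact hne (P.root.injective hi')
    · have : (0 : ℤ) ≤ (f α : ℤ) := Int.natCast_nonneg _
      omega

lemma neg_notMem_pos (b : P.Base) {α : ι} (hα : α ∈ b.support) :
    P.reflectionPerm α α ∉ pos P b := by
  intro h
  have h1 := isPos_of_mem_pos b h
  rw [RootPairing.Base.isPos_iff] at h1
  have h2 : b.height (P.reflectionPerm α α) = -b.height α := b.height_reflectionPerm_self α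
  rw [h2, RootPairing.Base.height_one_of_mem_support hα] at h1
  omega

lemma ncard_lt [Finite ι] (S : Set ι) (b : P.Base) {α : ι} (hα : α ∈ b.support) (hαS : α ∉ S)
    (hneg : P.reflectionPerm α α ∈ S) :
    (S ∩ pos P b).ncard < (S ∩ pos P (reflectBase b α)).ncard := by
  apply Set.ncard_lt_ncard _ (Set.toFinite _)
  refine Set.ssubset_def.mpr ⟨?_, ?_⟩
  · rintro i ⟨hiS, hi⟩
    exact ⟨hiS, (mem_pos_reflectBase b α i).mpr
      (reflectionPerm_mem_pos b hα hi (fun h => hαS (h ▸ hiS)))⟩
  · intro hsub
    have hmem : P.reflectionPerm α α ∈ pos P (reflectBase b α) := by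
      rw [mem_pos_reflectBase, P.reflectionPerm_self]
      exact AddSubmonoid.subset_closure ⟨α, hα, rfl⟩
    exact neg_notMem_pos b hα (hsub ⟨hneg, hmem⟩).2

theorem exists_base_pos_subset [Finite ι] (S : Set ι)
    (hS : ∀ a b c : ι, a ∈ S → b ∈ S → P.root a + P.root b = P.root c → c ∈ S)
    (hS2 : ∀ a, a ∈ S ∨ P.reflectionPerm a a ∈ S) (b₀ : P.Base) :
    ∃ b : P.Base, pos P b ⊆ S := by
  classical
  suffices H : ∀ (k : ℕ) (b : P.Base), Nat.card ι - (S ∩ pos P b).ncard ≤ k →
      ∃ b' : P.Base, pos P b' ⊆ S from H _ b₀ le_rfl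
  intro k
  induction k with
  | zero =>
    intro b hk
    by_cases hall : ∀ j ∈ b.support, j ∈ S
    · exact ⟨b, pos_subset_of_closed b S hS hall⟩
    · exfalso
      push Not at hall
      obtain ⟨α, hα, hαS⟩ := hall
      have h1 := ncard_lt S b hα hαS ((hS2 α).resolve_left hαS)
      have h2 := Set.ncard_le_card (S ∩ pos P (reflectBase b α))
      omega
  | succ k ih =>
    intro b hk
    by_cases hall : ∀ j ∈ b.support, j ∈ S
    · exact ⟨b, pos_subset_of_closed b S hS hall⟩
    · push Not at hall
      obtain ⟨α, hα, hαS⟩ := hall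
      have h1 := ncard_lt S b hα hαS ((hS2 α).resolve_left hαS)
      have h2 := Set.ncard_le_card (S ∩ pos P (reflectBase b α))
      exact ih (reflectBase b α) (by omega)

end Groth.Agent.Helper22.Parab
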