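import Mathlib
import Groth.Prelude.Def_Frob
import Groth.Agent.Lib.Helper22.Perf10

/-!
# Perfect closures of rings give perfections of affine schemes
-/

set_option autoImplicit false

universe u

open CategoryTheory CategoryTheory.Limits AlgebraicGeometry FrobSch Opposite

namespace Groth.Agent.Helper22.Perf

variable (p : ℕ) [Fact p.Prime]

/-- `Spec` of a ring isomorphism. -/
noncomputable def specIsoOfRingEquiv {R S : Type u} [CommRing R] [CommRing S] (e : R ≃+* S) :
    Spec (CommRingCat.of S) ≅ Spec (CommRingCat.of R) where
  hom := Spec.map (CommRingCat.ofHom (e : R →+* S))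
  inv := Spec.map (CommRingCat.ofHom (e.symm : S →+* R))
  hom_inv_id := by
    rw [← Spec.map_comp, ← Spec.map_id]
    congr 1
    ext x
    simp
  inv_hom_id := by
    rw [← Spec.map_comp, ← Spec.map_id]
    congr 1
    ext x
    simp

theorem isPerfection_Spec_of_isPerfectClosure (A A' : Type u) [CommRing A] [CommRing A']
    [CharP A p] [CharP A' p] [PerfectRing A' p] (i : A →+* A') [IsPerfectClosure i p] :
    IsPerfection (Spec.map (CommRingCat.ofHom i)) p := by
  have he : ((IsPerfectClosure.equiv (PerfectClosure.of A p) i p : PerfectClosure A p ≃+* A') :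
      PerfectClosure A p →+* A').comp (PerfectClosure.of A p) = i :=
    IsPerfectClosure.equiv_comp _ _ _
  have h := isPerfection_iso_comp p _
    (specIsoOfRingEquiv (IsPerfectClosure.equiv (PerfectClosure.of A p) i p))
    (isPerfection_Spec_perfectClosure p A)
  have h2 : (specIsoOfRingEquiv (IsPerfectClosure.equiv (PerfectClosure.of A p) i p)).hom ≫
      Spec.map (CommRingCat.ofHom (PerfectClosure.of A p)) = Spec.map (CommRingCat.ofHom i) := by
    show Spec.map _ ≫ Spec.map _ = _
    rw [← Spec.map_comp, ← CommRingCat.ofHom_comp, he]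
  rw [← h2]
  exact h

/-- Affine form: the perfect closure of an étale algebra is the base change of the perfect
closure of the base. -/
theorem bijective_perfectClosure_tensor_of_etale
    (A B A' B' : Type u) [CommRing A] [CommRing B] [CommRing A'] [CommRing B']
    [CharP A p] [CharP B p] [CharP A' p] [CharP B' p] [PerfectRing A' p] [PerfectRing B' p]
    [Algebra A B] [Algebra.Etale A B] [Algebra A A'] [Algebra B B'] [Algebra A B']
    [IsScalarTower A B B']
    [IsPerfectClosure (algebraMap A A') p] [IsPerfectClosure (algebraMap B B') p]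
    (φ' : A' →ₐ[A] B') :
    Function.Bijective (Algebra.TensorProduct.lift φ' (IsScalarTower.toAlgHom A B B')
      (fun a b => Commute.all (φ' a) (IsScalarTower.toAlgHom A B B' b))) := by
  have hπY : IsPerfection (Spec.map (CommRingCat.ofHom (algebraMap A A'))) p :=
    isPerfection_Spec_of_isPerfectClosure p A A' (algebraMap A A')
  have hπX : IsPerfection (Spec.map (CommRingCat.ofHom (algebraMap B B'))) p :=
    isPerfection_Spec_of_isPerfectClosure p B B' (algebraMap B B')
  have w : Spec.map (CommRingCat.ofHom φ'.toRingHom) ≫
      Spec.map (CommRingCat.ofHom (algebraMap A A')) =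
      Spec.map (CommRingCat.ofHom (algebraMap B B')) ≫
        Spec.map (CommRingCat.ofHom (algebraMap A B)) := by
    rw [← Spec.map_comp, ← Spec.map_comp]
    congr 1
    ext a
    simp [← IsScalarTower.algebraMap_apply A B B']
  haveI : Etale (Spec.map (CommRingCat.ofHom (algebraMap A B))) := by
    rw [HasRingHomProperty.Spec_iff (P := @Etale)]
    exact RingHom.etale_algebraMap.mpr inferInstance
  have hpb := isPullback_perfection_of_etale p _ _ hπX hπY _ _ w
  have hpb2 := isPullback_SpecMap_of_isPushout _ _ _ _
    (CommRingCat.isPushout_tensorProduct A A' B)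
  have h1 : Spec.map (CommRingCat.ofHom (Algebra.TensorProduct.lift φ'
      (IsScalarTower.toAlgHom A B B')
      (fun a b => Commute.all (φ' a) (IsScalarTower.toAlgHom A B B' b))).toRingHom) ≫
      Spec.map (CommRingCat.ofHom (S := TensorProduct A A' B)
        Algebra.TensorProduct.includeLeftRingHom) =
      Spec.map (CommRingCat.ofHom φ'.toRingHom) := by
    rw [← Spec.map_comp]
    congr 1
    ext a
    simp
  have h2 : Spec.map (CommRingCat.ofHom (Algebra.TensorProduct.lift φ'
      (IsScalarTower.toAlgHom A B B')
      (fun a b => Commute.all (φ' a) (IsScalarTower.toAlgHom A B B' b))).toRingHom) ≫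
      Spec.map (CommRingCat.ofHom (S := TensorProduct A A' B)
        (Algebra.TensorProduct.includeRight (R := A) (A := A') (B := B)).toRingHom) =
      Spec.map (CommRingCat.ofHom (algebraMap B B')) := by
    rw [← Spec.map_comp]
    congr 1
    ext b
    simp
  have h3 : Spec.map (CommRingCat.ofHom (Algebra.TensorProduct.lift φ'
      (IsScalarTower.toAlgHom A B B')
      (fun a b => Commute.all (φ' a) (IsScalarTower.toAlgHom A B B' b))).toRingHom) =
      (hpb.isoIsPullback _ _ hpb2).hom := by
    apply hpb2.hom_ext
    · rw [h1, IsPullback.isoIsPullback_hom_fst]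
    · rw [h2, IsPullback.isoIsPullback_hom_snd]
  have h4 : IsIso (Spec.map (CommRingCat.ofHom (Algebra.TensorProduct.lift φ'
      (IsScalarTower.toAlgHom A B B')
      (fun a b => Commute.all (φ' a) (IsScalarTower.toAlgHom A B B' b))).toRingHom)) := by
    rw [h3]; infer_instance
  exact isIso_SpecMap_iff.mp h4

end Groth.Agent.Helper22.Perf
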