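import Mathlib
import Groth.Prelude.Def_Frob
import Groth.Agent.Lib.Helper22.Perf11

/-!
# Sections of a perfection over qcqs schemes; affineness descends along perfections
-/

set_option autoImplicit false

universe u

open CategoryTheory CategoryTheory.Limits AlgebraicGeometry FrobSch Opposite

namespace Groth.Agent.Helper22.Perf

variable (p : ℕ) [Fact p.Prime]

theorem morphismRestrict_appTop_eq {X' X : Scheme.{u}} (π : X' ⟶ X) (U : X.Opens) :
    (π ∣_ U).appTop = U.topIso.hom ≫ π.app U ≫ (π ⁻¹ᵁ U).topIso.inv := by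
  rw [morphismRestrict_appTop, Scheme.Hom.app_eq π (U.ι_image_top)]
  simp only [Scheme.Opens.topIso_hom, Scheme.Opens.topIso_inv, Category.assoc,
    ← Functor.map_comp]
  rfl

/-- Local form of `exists_pow_eq_appTop` over an affine open. -/
theorem exists_pow_eq_app_of_isAffineOpen {X XP : Scheme.{u}} [IsCharP X p] [IsCharP XP p]
    (π : XP ⟶ X) (hX : IsPerfection π p) (U : X.Opens) (hU : IsAffineOpen U)
    (s : Γ(XP, π ⁻¹ᵁ U)) : ∃ (n : ℕ) (t : Γ(X, U)), s ^ p ^ n = π.app U t := by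
  haveI : IsAffine (U : Scheme) := hU
  have h1 := isPerfection_morphismRestrict p π hX U
  obtain ⟨n, b, hb⟩ := exists_pow_eq_appTop p (π ∣_ U) h1 ((π ⁻¹ᵁ U).topIso.inv s)
  refine ⟨n, U.topIso.hom b, ?_⟩
  rw [morphismRestrict_appTop_eq] at hb
  have h2 : (π ⁻¹ᵁ U).topIso.inv (s ^ p ^ n) =
      (π ⁻¹ᵁ U).topIso.inv (π.app U (U.topIso.hom b)) := by
    rw [map_pow]
    exact hb
  have h4 : ∀ z, (π ⁻¹ᵁ U).topIso.hom ((π ⁻¹ᵁ U).topIso.inv z) = z := fun z =>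
    congrArg (fun φ => φ.hom z) (π ⁻¹ᵁ U).topIso.inv_hom_id
  have h3 := congrArg (fun z => (π ⁻¹ᵁ U).topIso.hom z) h2
  dsimp only at h3
  rw [h4, h4] at h3
  exact h3

theorem sub_pow_of_natCast_eq_zero {R : Type*} [CommRing R] (h : (p : R) = 0) (a b : R) (m : ℕ) :
    (a - b) ^ p ^ m = a ^ p ^ m - b ^ p ^ m := by
  rcases subsingleton_or_nontrivial R with hR | hR
  · exact Subsingleton.elim _ _
  · haveI : CharP R p := (CharP.charP_iff_prime_eq_zero Fact.out).2 h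
    exact sub_pow_char_pow a b m

theorem app_res {X' X : Scheme.{u}} (π : X' ⟶ X) {S T : X.Opens} (h : S ≤ T) (t : Γ(X, T)) :
    π.app S (X.presheaf.map (homOfLE h).op t) =
      X'.presheaf.map (homOfLE (show π ⁻¹ᵁ S ≤ π ⁻¹ᵁ T from fun _ hx => h hx)).op
        (π.app T t) := by
  have h1 := π.naturality (homOfLE h).op
  exact congrArg (fun φ => φ.hom t) h1

theorem res_res {X : Scheme.{u}} {A B C : X.Opens} (h₁ : A ≤ B) (h₂ : B ≤ C) (s : Γ(X, C)) :
    X.presheaf.map (homOfLE h₁).op (X.presheaf.map (homOfLE h₂).op s) =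
      X.presheaf.map (homOfLE (h₁.trans h₂)).op s := by
  rw [← ConcreteCategory.comp_apply, ← Functor.map_comp]
  rfl

/-- Sections of the perfection over a quasi-compact open: some `p^n`-th power comes from below. -/
theorem exists_pow_eq_app_of_isCompact {X XP : Scheme.{u}} [IsCharP X p] [IsCharP XP p]
    [QuasiSeparatedSpace X]
    (π : XP ⟶ X) (hX : IsPerfection π p) (S : X.Opens) (hS : IsCompact (S : Set X)) :
    ∀ s : Γ(XP, π ⁻¹ᵁ S), ∃ (n : ℕ) (t : Γ(X, S)), s ^ p ^ n = π.app S t := by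
  refine compact_open_induction_on (P := fun S => ∀ s : Γ(XP, π ⁻¹ᵁ S),
    ∃ (n : ℕ) (t : Γ(X, S)), s ^ p ^ n = π.app S t) S hS ?_ ?_
  · intro s
    haveI : Subsingleton Γ(XP, π ⁻¹ᵁ (⊥ : X.Opens)) := by
      show Subsingleton Γ(XP, ⊥)
      infer_instance
    exact ⟨0, 0, Subsingleton.elim _ _⟩
  · intro S hS U ih s
    have hSle : S ≤ S ⊔ U.1 := le_sup_left
    have hUle : U.1 ≤ S ⊔ U.1 := le_sup_right
    have hS' : π ⁻¹ᵁ S ≤ π ⁻¹ᵁ (S ⊔ U.1) := fun _ hx => hSle hx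
    have hU' : π ⁻¹ᵁ U.1 ≤ π ⁻¹ᵁ (S ⊔ U.1) := fun _ hx => hUle hx
    obtain ⟨n, a, b, ha, hb⟩ : ∃ (n : ℕ) (a : Γ(X, S)) (b : Γ(X, U.1)),
        (XP.presheaf.map (homOfLE hS').op s) ^ p ^ n = π.app S a ∧
        (XP.presheaf.map (homOfLE hU').op s) ^ p ^ n = π.app U.1 b := by
      obtain ⟨n₁, t₁, h₁⟩ := ih (XP.presheaf.map (homOfLE hS').op s)
      obtain ⟨n₂, t₂, h₂⟩ := exists_pow_eq_app_of_isAffineOpen p π hX U.1 U.2
        (XP.presheaf.map (homOfLE hU').op s)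
      refine ⟨n₁ + n₂, t₁ ^ p ^ n₂, t₂ ^ p ^ n₁, ?_, ?_⟩
      · rw [pow_add, pow_mul, h₁, map_pow]
      · rw [add_comm n₁ n₂, pow_add, pow_mul, h₂, map_pow]
    have hW : IsCompact ((S ⊓ U.1 : X.Opens) : Set X) :=
      QuasiSeparatedSpace.inter_isCompact _ _ S.2 hS U.1.2 U.2.isCompact
    have hd : π.app (S ⊓ U.1)
        (X.presheaf.map (homOfLE (inf_le_left : S ⊓ U.1 ≤ S)).op a -
          X.presheaf.map (homOfLE (inf_le_right : S ⊓ U.1 ≤ U.1)).op b) = 0 := by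
      rw [map_sub, app_res, app_res, ← ha, ← hb, map_pow, map_pow, sub_eq_zero, res_res, res_res]
    obtain ⟨m, hm⟩ := exists_pow_eq_zero_of_app_eq_zero p π hX (S ⊓ U.1) hW _ hd
    have hm' : X.presheaf.map (homOfLE (inf_le_left : S ⊓ U.1 ≤ S)).op (a ^ p ^ m) =
        X.presheaf.map (homOfLE (inf_le_right : S ⊓ U.1 ≤ U.1)).op (b ^ p ^ m) := by
      rw [map_pow, map_pow, ← sub_eq_zero,
        ← sub_pow_of_natCast_eq_zero p (natCast_eq_zero_app X p _)]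
      exact hm
    obtain ⟨t, htS, htU⟩ : ∃ t : Γ(X, S ⊔ U.1),
        X.presheaf.map (homOfLE hSle).op t = a ^ p ^ m ∧
        X.presheaf.map (homOfLE hUle).op t = b ^ p ^ m :=
      ⟨(X.sheaf.objSupIsoProdEqLocus S U.1).inv ⟨(a ^ p ^ m, b ^ p ^ m), hm'⟩,
        X.sheaf.objSupIsoProdEqLocus_inv_fst S U.1 ⟨(a ^ p ^ m, b ^ p ^ m), hm'⟩,
        X.sheaf.objSupIsoProdEqLocus_inv_snd S U.1 ⟨(a ^ p ^ m, b ^ p ^ m), hm'⟩⟩
    refine ⟨n + m, t, ?_⟩
    have hcover : π ⁻¹ᵁ (S ⊔ U.1) ≤ π ⁻¹ᵁ S ⊔ π ⁻¹ᵁ U.1 := by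
      intro y hy
      exact hy
    apply XP.sheaf.eq_of_locally_eq₂ (homOfLE hS') (homOfLE hU') hcover
    · show XP.presheaf.map (homOfLE hS').op (s ^ p ^ (n + m)) =
        XP.presheaf.map (homOfLE hS').op (π.app (S ⊔ U.1) t)
      rw [map_pow, pow_add, pow_mul, ha, ← map_pow, ← htS, app_res]
    · show XP.presheaf.map (homOfLE hU').op (s ^ p ^ (n + m)) =
        XP.presheaf.map (homOfLE hU').op (π.app (S ⊔ U.1) t)
      rw [map_pow, pow_add, pow_mul, hb, ← map_pow, ← htU, app_res]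

theorem exists_pow_eq_appTop_of_qcqs {X XP : Scheme.{u}} [IsCharP X p] [IsCharP XP p]
    [CompactSpace X] [QuasiSeparatedSpace X]
    (π : XP ⟶ X) (hX : IsPerfection π p) (s : Γ(XP, ⊤)) :
    ∃ (n : ℕ) (t : Γ(X, ⊤)), s ^ p ^ n = π.appTop t :=
  exists_pow_eq_app_of_isCompact p π hX ⊤ (by simpa using isCompact_univ) s

theorem isIntegral_appTop_of_qcqs {X XP : Scheme.{u}} [IsCharP X p] [IsCharP XP p]
    [CompactSpace X] [QuasiSeparatedSpace X]
    (π : XP ⟶ X) (hX : IsPerfection π p) : π.appTop.hom.IsIntegral := by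
  intro s
  obtain ⟨n, t, hnt⟩ := exists_pow_eq_appTop_of_qcqs p π hX s
  refine ⟨Polynomial.X ^ (p ^ n) - Polynomial.C t,
    Polynomial.monic_X_pow_sub_C t (pow_ne_zero n (Fact.out : p.Prime).ne_zero), ?_⟩
  rw [Polynomial.eval₂_sub, Polynomial.eval₂_pow, Polynomial.eval₂_X, Polynomial.eval₂_C,
    sub_eq_zero]
  exact hnt

theorem ideal_eq_top_of_map_eq_top {R R' : Type*} [CommRing R] [CommRing R'] (φ : R →+* R')
    (hker : ∀ b, φ b = 0 → IsNilpotent b) (hint : φ.IsIntegral) (I : Ideal R)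
    (h : Ideal.map φ I = ⊤) : I = ⊤ := by
  by_contra hI
  obtain ⟨m, hm, hIm⟩ := Ideal.exists_le_maximal I hI
  letI := φ.toAlgebra
  haveI : Algebra.IsIntegral R R' := ⟨hint⟩
  haveI := hm.isPrime
  have hk : (⊥ : Ideal R').comap (algebraMap R R') ≤ m := by
    intro b hb
    have hb' : φ b = 0 := by
      have h0 := hb
      rw [Ideal.mem_comap, Ideal.mem_bot] at h0
      exact h0
    obtain ⟨n, hn⟩ := hker b hb'
    exact hm.isPrime.mem_of_pow_mem n (hn ▸ m.zero_mem)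
  obtain ⟨Q, -, hQ, hQm⟩ := Ideal.exists_ideal_over_prime_of_isIntegral m ⊥ hk
  have h2 : Ideal.map φ I ≤ Q := by
    rw [Ideal.map_le_iff_le_comap]
    exact hIm.trans (le_of_eq hQm.symm)
  rw [h] at h2
  exact hQ.ne_top (top_le_iff.mp h2)

/-- If the perfection of `X` is affine then so is `X`. -/
theorem isAffine_of_isPerfection {X XP : Scheme.{u}} [IsCharP X p] [IsCharP XP p]
    (π : XP ⟶ X) (hX : IsPerfection π p) [IsAffine XP] : IsAffine X := by
  have hhomeo := isHomeomorph_of_isPerfection p π hX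
  have hsurj := surjective_of_isPerfection p π hX
  haveI : CompactSpace X := ⟨by
    have h1 := (isCompact_univ (X := XP)).image hhomeo.continuous
    rwa [Set.image_univ, hhomeo.surjective.range_eq] at h1⟩
  haveI : QuasiSeparatedSpace X :=
    (quasiSeparatedSpace_congr (IsHomeomorph.homeomorph _ hhomeo)).mp inferInstance
  have hcov : (⊤ : XP.Opens) ≤ ⨆ f : ((π.appTop.hom : Γ(X, ⊤) → Γ(XP, ⊤)) ''
      {t : Γ(X, ⊤) | IsAffineOpen (X.basicOpen t)}), XP.basicOpen f.1 := by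
    rintro x' -
    obtain ⟨U₀, hU₀, hxU₀, -⟩ :=
      exists_isAffineOpen_mem_and_subset (x := π x') (U := ⊤) trivial
    obtain ⟨s₀, hs₀le, hs₀x⟩ :=
      (isAffineOpen_top XP).exists_basicOpen_le (V := π ⁻¹ᵁ U₀) ⟨x', hxU₀⟩ trivial
    obtain ⟨n, t, hnt⟩ := exists_pow_eq_appTop_of_qcqs p π hX s₀
    have hpre : π ⁻¹ᵁ X.basicOpen t = XP.basicOpen s₀ := by
      rw [Scheme.preimage_basicOpen_top, ← hnt,
        Scheme.basicOpen_pow _ _ (pow_pos (Fact.out : p.Prime).pos n)]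
    have hle : X.basicOpen t ≤ U₀ := by
      intro x hx
      obtain ⟨y, rfl⟩ := hsurj.surj x
      have hy : y ∈ π ⁻¹ᵁ X.basicOpen t := hx
      rw [hpre] at hy
      exact hs₀le hy
    have htG : IsAffineOpen (X.basicOpen t) := by
      have h1 := hU₀.basicOpen (X.presheaf.map (homOfLE (le_top : U₀ ≤ ⊤)).op t)
      rw [Scheme.basicOpen_res, inf_eq_right.mpr hle] at h1
      exact h1
    refine TopologicalSpace.Opens.mem_iSup.mpr ⟨⟨π.appTop t, ⟨t, htG, rfl⟩⟩, ?_⟩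
    show x' ∈ XP.basicOpen (π.appTop t)
    rw [← Scheme.preimage_basicOpen_top, hpre]
    exact hs₀x
  have hspan := (isAffineOpen_top XP).self_le_iSup_basicOpen_iff.mp hcov
  rw [← Ideal.map_span] at hspan
  have hG : Ideal.span {t : Γ(X, ⊤) | IsAffineOpen (X.basicOpen t)} = ⊤ :=
    ideal_eq_top_of_map_eq_top π.appTop.hom
      (fun b hb => isNilpotent_of_app_eq_zero p π hX ⊤ (by simpa using isCompact_univ) b hb)
      (isIntegral_appTop_of_qcqs p π hX) _ hspan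
  exact isAffine_of_isAffineOpen_basicOpen _ hG (fun t ht => ht)

theorem isAffineHom_iff_perfection {X Y XP YP : Scheme.{u}} [IsCharP X p] [IsCharP Y p]
    [IsCharP XP p] [IsCharP YP p]
    (πX : XP ⟶ X) (πY : YP ⟶ Y) (hX : IsPerfection πX p) (hY : IsPerfection πY p)
    (f : X ⟶ Y) (fP : XP ⟶ YP) (w : fP ≫ πY = πX ≫ f) :
    IsAffineHom f ↔ IsAffineHom fP := by
  haveI hπX := isIntegralHom_of_isPerfection p πX hX
  haveI hπY := isIntegralHom_of_isPerfection p πY hY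
  constructor
  · intro hf
    haveI : IsAffineHom (fP ≫ πY) := by rw [w]; infer_instance
    exact IsAffineHom.comp_iff.mp (inferInstance : IsAffineHom (fP ≫ πY))
  · intro hfP
    refine ⟨fun V hV => ?_⟩
    have hEq : πX ⁻¹ᵁ (f ⁻¹ᵁ V) = fP ⁻¹ᵁ (πY ⁻¹ᵁ V) := by
      show (πX ≫ f) ⁻¹ᵁ V = (fP ≫ πY) ⁻¹ᵁ V
      rw [w]
    have h1 : IsAffineOpen (πX ⁻¹ᵁ (f ⁻¹ᵁ V)) := by
      rw [hEq]
      exact (hV.preimage πY).preimage fP
    haveI : IsAffine ((πX ⁻¹ᵁ (f ⁻¹ᵁ V) : XP.Opens) : Scheme) := h1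
    exact isAffine_of_isPerfection p (πX ∣_ (f ⁻¹ᵁ V))
      (isPerfection_morphismRestrict p πX hX (f ⁻¹ᵁ V))

end Groth.Agent.Helper22.Perf
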