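import Mathlib
import Groth.Prelude.Def_Frob
import Groth.Agent.Lib.Helper22.Perf4

/-!
# Perfection of an open immersion
-/

set_option autoImplicit false

universe u

open CategoryTheory CategoryTheory.Limits AlgebraicGeometry FrobSch Opposite

namespace Groth.Agent.Helper22.Perf

variable (p : ℕ) [Fact p.Prime]

theorem isOpenImmersion_perfection {X Y XP YP : Scheme.{u}} [IsCharP X p] [IsCharP Y p]
    [IsCharP XP p] [IsCharP YP p]
    (πX : XP ⟶ X) (πY : YP ⟶ Y) (hX : IsPerfection πX p) (hY : IsPerfection πY p)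
    (f : X ⟶ Y) (fP : XP ⟶ YP) (w : fP ≫ πY = πX ≫ f) [IsOpenImmersion f] :
    IsOpenImmersion fP := by
  have h1 : IsPerfection (πX ≫ f.isoOpensRange.hom) p :=
    isPerfection_comp_iso p πX f.isoOpensRange hX
  have h2 : IsPerfection (πY ∣_ f.opensRange) p :=
    isPerfection_morphismRestrict p πY hY f.opensRange
  obtain ⟨e, he⟩ := exists_iso_of_isPerfection p _ _ h1 h2
  have h3 : e.hom ≫ (πY ⁻¹ᵁ f.opensRange).ι = fP := by
    apply (hY.2 XP hX.1).injective
    show (e.hom ≫ (πY ⁻¹ᵁ f.opensRange).ι) ≫ πY = fP ≫ πY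
    rw [Category.assoc, ← morphismRestrict_ι, ← Category.assoc, he, Category.assoc,
      Scheme.Hom.isoOpensRange_hom_ι, w]
  rw [← h3]
  infer_instance

end Groth.Agent.Helper22.Perf
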