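import Mathlib

/-!
# Determinants of skew-symmetric matrices are squares (existence of a Pfaffian polynomial)

* `exists_sq_det_of_skew`: over a field with `2 ≠ 0`, the determinant of a skew-symmetric matrix
  is a square (Schur complement induction).
* `exists_pf`: the determinant of the generic skew matrix `X (i,j) - X (j,i)` over
  `MvPolynomial (ι × ι) ℂ` is the square of a polynomial `pf`.
* `main_aux`: charpoly / det of `A` with `Aᵀ J = J A` (J skew invertible) is a square of a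
  polynomial in the entries.
-/

namespace Groth.Agent.Helper22.Pfaff

open Matrix

/-- the pivot equivalence -/
def pivotEquiv {ι : Type*} [DecidableEq ι] (i j : ι) (hne : i ≠ j) :
    ι ≃ Fin 2 ⊕ {k : ι // k ≠ i ∧ k ≠ j} where
  toFun k := if hi : k = i then Sum.inl 0 else
    if hj : k = j then Sum.inl 1 else Sum.inr ⟨k, hi, hj⟩
  invFun := Sum.elim ![i, j] Subtype.val
  left_inv := by
    intro k
    by_cases hi : k = i
    · subst hi; simp
    · by_cases hj : k = j
      · subst hj; simp [hi]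
      · simp [hi, hj]
  right_inv := by
    rintro (x | ⟨k, hki, hkj⟩)
    · fin_cases x
      · simp
      · simp [hne.symm]
    · simp [hki, hkj]

section field
variable {F : Type*} [Field F]

theorem step {κ : Type*} [Fintype κ] [DecidableEq κ] (h2 : (2 : F) ≠ 0)
    (M : Matrix (Fin 2 ⊕ κ) (Fin 2 ⊕ κ) F) (hM : Mᵀ = -M)
    (ha : M (Sum.inl 0) (Sum.inl 1) ≠ 0)
    (ih : ∀ N : Matrix κ κ F, Nᵀ = -N → ∃ s : F, N.det = s ^ 2) :
    ∃ s : F, M.det = s ^ 2 := by
  have hsk : ∀ x y, M y x = - M x y := fun x y => congrFun (congrFun hM x) y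
  have hdiag : ∀ x, M x x = 0 := by
    intro x
    have h := hsk x x
    have h' : (2 : F) * M x x = 0 := by linear_combination h
    exact (mul_eq_zero.1 h').resolve_left h2
  have hdetA : M.toBlocks₁₁.det = (M (Sum.inl 0) (Sum.inl 1)) ^ 2 := by
    rw [Matrix.det_fin_two]
    show M (Sum.inl 0) (Sum.inl 0) * M (Sum.inl 1) (Sum.inl 1)
      - M (Sum.inl 0) (Sum.inl 1) * M (Sum.inl 1) (Sum.inl 0) = _
    rw [hdiag, hdiag, hsk (Sum.inl 0) (Sum.inl 1)]
    ring
  have hAu : IsUnit M.toBlocks₁₁.det := by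
    rw [hdetA]; exact (pow_ne_zero 2 ha).isUnit
  haveI : Invertible M.toBlocks₁₁ := Matrix.invertibleOfIsUnitDet _ hAu
  have hAT : (M.toBlocks₁₁)ᵀ = -M.toBlocks₁₁ :=
    Matrix.ext fun x y => hsk (Sum.inl x) (Sum.inl y)
  have hBT : (M.toBlocks₁₂)ᵀ = -M.toBlocks₂₁ :=
    Matrix.ext fun x y => hsk (Sum.inr x) (Sum.inl y)
  have hCT : (M.toBlocks₂₁)ᵀ = -M.toBlocks₁₂ :=
    Matrix.ext fun x y => hsk (Sum.inl x) (Sum.inr y)
  have hDT : (M.toBlocks₂₂)ᵀ = -M.toBlocks₂₂ :=
    Matrix.ext fun x y => hsk (Sum.inr x) (Sum.inr y)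
  have hinvT : (⅟M.toBlocks₁₁)ᵀ = -⅟M.toBlocks₁₁ := by
    have h1 : (⅟M.toBlocks₁₁)ᵀ * (-M.toBlocks₁₁) = 1 := by
      rw [← hAT, ← Matrix.transpose_mul, mul_invOf_self, Matrix.transpose_one]
    calc (⅟M.toBlocks₁₁)ᵀ = (⅟M.toBlocks₁₁)ᵀ * ((-M.toBlocks₁₁) * (-⅟M.toBlocks₁₁)) := by
          rw [neg_mul_neg, mul_invOf_self, Matrix.mul_one]
      _ = ((⅟M.toBlocks₁₁)ᵀ * (-M.toBlocks₁₁)) * (-⅟M.toBlocks₁₁) :=
          (Matrix.mul_assoc _ _ _).symm
      _ = -⅟M.toBlocks₁₁ := by rw [h1, Matrix.one_mul]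
  have hS : (M.toBlocks₂₂ - M.toBlocks₂₁ * ⅟M.toBlocks₁₁ * M.toBlocks₁₂)ᵀ
      = -(M.toBlocks₂₂ - M.toBlocks₂₁ * ⅟M.toBlocks₁₁ * M.toBlocks₁₂) := by
    rw [Matrix.transpose_sub, Matrix.transpose_mul, Matrix.transpose_mul, hDT, hBT, hCT, hinvT]
    have e1 : -M.toBlocks₂₁ * (-⅟M.toBlocks₁₁ * -M.toBlocks₁₂)
        = -(M.toBlocks₂₁ * ⅟M.toBlocks₁₁ * M.toBlocks₁₂) := by
      simp only [Matrix.neg_mul, Matrix.mul_neg, neg_neg, Matrix.mul_assoc]
    rw [e1]; abel
  obtain ⟨s, hs⟩ := ih _ hS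
  have hdet : M.det = M.toBlocks₁₁.det
      * (M.toBlocks₂₂ - M.toBlocks₂₁ * ⅟M.toBlocks₁₁ * M.toBlocks₁₂).det := by
    have := Matrix.det_fromBlocks₁₁ M.toBlocks₁₁ M.toBlocks₁₂ M.toBlocks₂₁ M.toBlocks₂₂
    rwa [Matrix.fromBlocks_toBlocks] at this
  refine ⟨M (Sum.inl 0) (Sum.inl 1) * s, ?_⟩
  rw [hdet, hdetA, hs]; ring

theorem exists_sq_det_of_skew (h2 : (2 : F) ≠ 0) :
    ∀ (n : ℕ) (ι : Type) [Fintype ι] [DecidableEq ι], Fintype.card ι = n →
      ∀ M : Matrix ι ι F, Mᵀ = -M → ∃ s : F, M.det = s ^ 2 := by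
  intro n
  induction n using Nat.strong_induction_on with
  | _ n ih =>
    intro ι _ _ hcard M hM
    have hsk : ∀ x y, M y x = - M x y := fun x y => congrFun (congrFun hM x) y
    by_cases h0 : M = 0
    · subst h0
      rcases isEmpty_or_nonempty ι with he | hne
      · exact ⟨1, by rw [Matrix.det_isEmpty]; ring⟩
      · exact ⟨0, by rw [Matrix.det_zero]; ring⟩
    · obtain ⟨i, j, hij⟩ : ∃ i j, M i j ≠ 0 := by
        by_contra hcon
        simp only [not_exists, ne_eq, not_not] at hcon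
        exact h0 (Matrix.ext hcon)
      have hne : i ≠ j := by
        rintro rfl
        have h := hsk i i
        have h' : (2 : F) * M i i = 0 := by linear_combination h
        exact hij ((mul_eq_zero.1 h').resolve_left h2)
      have hcardκ : Fintype.card {k : ι // k ≠ i ∧ k ≠ j} < n := by
        have := Fintype.card_congr (pivotEquiv i j hne)
        rw [Fintype.card_sum, Fintype.card_fin, hcard] at this
        omega
      have hM' : (Matrix.reindex (pivotEquiv i j hne) (pivotEquiv i j hne) M)ᵀ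
          = -(Matrix.reindex (pivotEquiv i j hne) (pivotEquiv i j hne) M) := by
        refine Matrix.ext fun x y => ?_
        exact hsk ((pivotEquiv i j hne).symm x) ((pivotEquiv i j hne).symm y)
      have hpiv : (Matrix.reindex (pivotEquiv i j hne) (pivotEquiv i j hne) M)
          (Sum.inl 0) (Sum.inl 1) ≠ 0 := by
        show M ((pivotEquiv i j hne).symm (Sum.inl 0)) ((pivotEquiv i j hne).symm (Sum.inl 1)) ≠ 0
        exact hij
      obtain ⟨s, hs⟩ := step h2 (Matrix.reindex (pivotEquiv i j hne) (pivotEquiv i j hne) M)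
        hM' hpiv (fun N hN => ih _ hcardκ _ rfl N hN)
      exact ⟨s, by rw [← hs, Matrix.det_reindex_self]⟩

end field

section generic
variable (ι : Type) [Fintype ι] [DecidableEq ι]

/-- generic skew matrix -/
noncomputable def G : Matrix ι ι (MvPolynomial (ι × ι) ℂ) :=
  Matrix.of fun i j => MvPolynomial.X (i, j) - MvPolynomial.X (j, i)

theorem G_skew : (G ι)ᵀ = -(G ι) := by
  refine Matrix.ext fun i j => ?_
  show (MvPolynomial.X (j, i) - MvPolynomial.X (i, j) : MvPolynomial (ι × ι) ℂ)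
    = -(MvPolynomial.X (i, j) - MvPolynomial.X (j, i))
  ring

theorem exists_pf : ∃ pf : MvPolynomial (ι × ι) ℂ, (G ι).det = pf ^ 2 := by
  have h2 : (2 : FractionRing (MvPolynomial (ι × ι) ℂ)) ≠ 0 := two_ne_zero
  have hskK : ((algebraMap (MvPolynomial (ι × ι) ℂ)
        (FractionRing (MvPolynomial (ι × ι) ℂ))).mapMatrix (G ι))ᵀ
      = -((algebraMap (MvPolynomial (ι × ι) ℂ)
        (FractionRing (MvPolynomial (ι × ι) ℂ))).mapMatrix (G ι)) := by
    refine Matrix.ext fun i j => ?_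
    show algebraMap (MvPolynomial (ι × ι) ℂ) (FractionRing (MvPolynomial (ι × ι) ℂ)) (G ι j i)
      = -(algebraMap (MvPolynomial (ι × ι) ℂ) (FractionRing (MvPolynomial (ι × ι) ℂ)) (G ι i j))
    rw [← map_neg]
    congr 1
    exact congrFun (congrFun (G_skew ι) i) j
  obtain ⟨s, hs⟩ := exists_sq_det_of_skew h2 _ ι rfl _ hskK
  have hdet : algebraMap (MvPolynomial (ι × ι) ℂ) (FractionRing (MvPolynomial (ι × ι) ℂ))
      (G ι).det = s ^ 2 := by
    rw [RingHom.map_det]; exact hs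
  obtain ⟨pf, hpf⟩ := IsIntegrallyClosed.exists_algebraMap_eq_of_isIntegral_pow
    (R := MvPolynomial (ι × ι) ℂ) (K := FractionRing (MvPolynomial (ι × ι) ℂ)) (x := s) (n := 2)
    (by norm_num) (by rw [← hdet]; exact isIntegral_algebraMap)
  refine ⟨pf, ?_⟩
  apply IsFractionRing.injective (MvPolynomial (ι × ι) ℂ) (FractionRing (MvPolynomial (ι × ι) ℂ))
  rw [hdet, map_pow, hpf]

theorem det_eq_sq_of_map {S : Type*} [CommRing S] (φ : MvPolynomial (ι × ι) ℂ →+* S)
    (pf : MvPolynomial (ι × ι) ℂ) (hpf : (G ι).det = pf ^ 2) (N : Matrix ι ι S)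
    (hmap : ∀ i j, φ (MvPolynomial.X (i, j)) - φ (MvPolynomial.X (j, i)) = N i j) :
    N.det = (φ pf) ^ 2 := by
  have hm : φ.mapMatrix (G ι) = N := Matrix.ext fun i j => by
    show φ (MvPolynomial.X (i, j) - MvPolynomial.X (j, i)) = N i j
    rw [map_sub]; exact hmap i j
  calc N.det = (φ.mapMatrix (G ι)).det := by rw [hm]
    _ = φ (G ι).det := (RingHom.map_det _ _).symm
    _ = φ (pf ^ 2) := by rw [hpf]
    _ = (φ pf) ^ 2 := map_pow _ _ _

end generic

theorem main_aux {ι : Type} [Fintype ι] [DecidableEq ι] (J : Matrix ι ι ℂ) (hJ : Jᵀ = -J)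
    (hJdet : J.det ≠ 0) :
    (∃ P : MvPolynomial (ι × ι) (Polynomial ℂ), ∀ A : Matrix ι ι ℂ, Aᵀ * J = J * A →
        A.charpoly = (MvPolynomial.eval (fun ij => Polynomial.C (A ij.1 ij.2)) P) ^ 2) ∧
    (∃ Q : MvPolynomial (ι × ι) ℂ, ∀ A : Matrix ι ι ℂ, Aᵀ * J = J * A →
        A.det = (MvPolynomial.eval (fun ij => A ij.1 ij.2) Q) ^ 2) := by
  obtain ⟨pf, hpf⟩ := exists_pf ι
  obtain ⟨c, hc⟩ := IsAlgClosed.exists_eq_mul_self (J.det)⁻¹
  have hcJ : c * c * J.det = 1 := by rw [← hc]; exact inv_mul_cancel₀ hJdet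
  have hJs : ∀ i j, J j i = -J i j := fun i j => congrFun (congrFun hJ i) j
  have hJA : ∀ A : Matrix ι ι ℂ, Aᵀ * J = J * A → ∀ i j, (J * A) j i = -(J * A) i j := by
    intro A hA i j
    have h : (J * A)ᵀ = -(J * A) := by
      rw [Matrix.transpose_mul, hJ, Matrix.mul_neg, hA]
    exact congrFun (congrFun h i) j
  constructor
  · refine ⟨MvPolynomial.C (Polynomial.C c) *
      MvPolynomial.eval₂Hom ((MvPolynomial.C).comp Polynomial.C)
        (fun ij : ι × ι => MvPolynomial.C (Polynomial.C (1/2 : ℂ)) *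
          ∑ k, MvPolynomial.C (Polynomial.C (J ij.1 k)) *
            (MvPolynomial.C ((Matrix.diagonal fun _ : ι => (Polynomial.X : Polynomial ℂ)) k ij.2)
              - MvPolynomial.X (k, ij.2))) pf, fun A hA => ?_⟩
    have hN : ∀ i j, ((Polynomial.C : ℂ →+* Polynomial ℂ).mapMatrix J * Matrix.charmatrix A) i j
        = Polynomial.C (J i j) * Polynomial.X - Polynomial.C ((J * A) i j) := by
      intro i j
      rw [Matrix.charmatrix, Matrix.mul_sub, Matrix.sub_apply]
      congr 1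
      · rw [Matrix.scalar_apply, Matrix.mul_diagonal]; rfl
      · rw [← map_mul]; rfl
    have hNsk : ∀ i j, ((Polynomial.C : ℂ →+* Polynomial ℂ).mapMatrix J * Matrix.charmatrix A) j i
        = -((Polynomial.C : ℂ →+* Polynomial ℂ).mapMatrix J * Matrix.charmatrix A) i j := by
      intro i j
      rw [hN, hN, hJs i j, hJA A hA i j, map_neg, map_neg]; ring
    have hX : ∀ i j, ((MvPolynomial.eval (fun ij : ι × ι => Polynomial.C (A ij.1 ij.2))).comp
        (MvPolynomial.eval₂Hom ((MvPolynomial.C).comp Polynomial.C)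
        (fun ij : ι × ι => MvPolynomial.C (Polynomial.C (1/2 : ℂ)) *
          ∑ k, MvPolynomial.C (Polynomial.C (J ij.1 k)) *
            (MvPolynomial.C ((Matrix.diagonal fun _ : ι => (Polynomial.X : Polynomial ℂ)) k ij.2)
              - MvPolynomial.X (k, ij.2))))) (MvPolynomial.X (i, j))
        = Polynomial.C (1/2 : ℂ) *
          ((Polynomial.C : ℂ →+* Polynomial ℂ).mapMatrix J * Matrix.charmatrix A) i j := by
      intro i j
      rw [RingHom.comp_apply, MvPolynomial.eval₂Hom_X']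
      show MvPolynomial.eval (fun ij : ι × ι => Polynomial.C (A ij.1 ij.2))
        (MvPolynomial.C (Polynomial.C (1/2 : ℂ)) *
          ∑ k, MvPolynomial.C (Polynomial.C (J i k)) *
            (MvPolynomial.C ((Matrix.diagonal fun _ : ι => (Polynomial.X : Polynomial ℂ)) k j)
              - MvPolynomial.X (k, j))) = _
      rw [map_mul, map_sum, MvPolynomial.eval_C, Matrix.mul_apply]
      congr 1
      refine Finset.sum_congr rfl fun k _ => ?_
      rw [map_mul, map_sub, MvPolynomial.eval_C, MvPolynomial.eval_C, MvPolynomial.eval_X]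
      rfl
    have hhalf : Polynomial.C (1/2 : ℂ) * 2 = 1 := by
      have h2' : (2 : Polynomial ℂ) = Polynomial.C 2 := (map_ofNat Polynomial.C 2).symm
      rw [h2', ← map_mul]; norm_num
    have key := det_eq_sq_of_map ι _ pf hpf
      ((Polynomial.C : ℂ →+* Polynomial ℂ).mapMatrix J * Matrix.charmatrix A)
      (fun i j => by
        rw [hX, hX]
        linear_combination
          (((Polynomial.C : ℂ →+* Polynomial ℂ).mapMatrix J * Matrix.charmatrix A) i j) * hhalf
          - (Polynomial.C (1/2 : ℂ)) * hNsk i j)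
    have hdetN : ((Polynomial.C : ℂ →+* Polynomial ℂ).mapMatrix J * Matrix.charmatrix A).det
        = Polynomial.C J.det * A.charpoly := by
      rw [Matrix.det_mul, ← RingHom.map_det]; rfl
    have hc' : Polynomial.C c ^ 2 * Polynomial.C J.det = 1 := by
      rw [← map_pow, ← map_mul, pow_two, hcJ, map_one]
    rw [map_mul, MvPolynomial.eval_C, mul_pow]
    rw [RingHom.comp_apply] at key
    rw [← key, hdetN]
    linear_combination (-A.charpoly) * hc'
  · refine ⟨MvPolynomial.C c * MvPolynomial.bind₁ (fun ij : ι × ι =>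
      MvPolynomial.C (1/2 : ℂ) * ∑ k, MvPolynomial.C (J ij.1 k) * MvPolynomial.X (k, ij.2)) pf,
      fun A hA => ?_⟩
    have hX : ∀ i j, ((MvPolynomial.eval (fun ij : ι × ι => A ij.1 ij.2)).comp
        (MvPolynomial.bind₁ (fun ij : ι × ι =>
          MvPolynomial.C (1/2 : ℂ) * ∑ k, MvPolynomial.C (J ij.1 k) * MvPolynomial.X (k, ij.2))
          ).toRingHom) (MvPolynomial.X (i, j)) = (1/2 : ℂ) * (J * A) i j := by
      intro i j
      rw [RingHom.comp_apply]
      show MvPolynomial.eval (fun ij : ι × ι => A ij.1 ij.2)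
        (MvPolynomial.bind₁ (fun ij : ι × ι =>
          MvPolynomial.C (1/2 : ℂ) * ∑ k, MvPolynomial.C (J ij.1 k) * MvPolynomial.X (k, ij.2))
          (MvPolynomial.X (i, j))) = _
      rw [MvPolynomial.bind₁_X_right]
      show MvPolynomial.eval (fun ij : ι × ι => A ij.1 ij.2)
        (MvPolynomial.C (1/2 : ℂ) * ∑ k, MvPolynomial.C (J i k) * MvPolynomial.X (k, j)) = _
      rw [map_mul, map_sum, MvPolynomial.eval_C, Matrix.mul_apply]
      congr 1
      refine Finset.sum_congr rfl fun k _ => ?_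
      rw [map_mul, MvPolynomial.eval_C, MvPolynomial.eval_X]
    have key := det_eq_sq_of_map ι _ pf hpf (J * A)
      (fun i j => by
        rw [hX, hX, hJA A hA i j]
        ring)
    rw [map_mul, MvPolynomial.eval_C, mul_pow]
    rw [RingHom.comp_apply] at key
    have key' : (MvPolynomial.eval (fun ij : ι × ι => A ij.1 ij.2)
        (MvPolynomial.bind₁ (fun ij : ι × ι =>
          MvPolynomial.C (1/2 : ℂ) * ∑ k, MvPolynomial.C (J ij.1 k) * MvPolynomial.X (k, ij.2))
          pf)) ^ 2 = (J * A).det := key.symm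
    rw [key', Matrix.det_mul]
    linear_combination (-A.det) * hcJ

theorem main (m : ℕ) :
    (∃ P : MvPolynomial ((Fin m ⊕ Fin m) × (Fin m ⊕ Fin m)) (Polynomial ℂ),
      ∀ A : Matrix (Fin m ⊕ Fin m) (Fin m ⊕ Fin m) ℂ,
        A.transpose * Matrix.fromBlocks 0 1 (-1) 0 = Matrix.fromBlocks 0 1 (-1) 0 * A →
        A.charpoly = (MvPolynomial.eval (fun ij => Polynomial.C (A ij.1 ij.2)) P) ^ 2) ∧
    (∃ Q : MvPolynomial ((Fin m ⊕ Fin m) × (Fin m ⊕ Fin m)) ℂ,
      ∀ A : Matrix (Fin m ⊕ Fin m) (Fin m ⊕ Fin m) ℂ,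
        A.transpose * Matrix.fromBlocks 0 1 (-1) 0 = Matrix.fromBlocks 0 1 (-1) 0 * A →
        A.det = (MvPolynomial.eval (fun ij => A ij.1 ij.2) Q) ^ 2) := by
  have hJ : (Matrix.fromBlocks (0 : Matrix (Fin m) (Fin m) ℂ) (1 : Matrix (Fin m) (Fin m) ℂ) (-1 : Matrix (Fin m) (Fin m) ℂ) (0 : Matrix (Fin m) (Fin m) ℂ))ᵀ
      = -(Matrix.fromBlocks (0 : Matrix (Fin m) (Fin m) ℂ) (1 : Matrix (Fin m) (Fin m) ℂ) (-1 : Matrix (Fin m) (Fin m) ℂ) (0 : Matrix (Fin m) (Fin m) ℂ)) := by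
    rw [Matrix.fromBlocks_transpose, Matrix.fromBlocks_neg]
    simp
  have hJdet : (Matrix.fromBlocks (0 : Matrix (Fin m) (Fin m) ℂ) (1 : Matrix (Fin m) (Fin m) ℂ) (-1 : Matrix (Fin m) (Fin m) ℂ) (0 : Matrix (Fin m) (Fin m) ℂ)).det ≠ 0 := by
    have h : (Matrix.fromBlocks (0 : Matrix (Fin m) (Fin m) ℂ) (1 : Matrix (Fin m) (Fin m) ℂ) (-1 : Matrix (Fin m) (Fin m) ℂ) (0 : Matrix (Fin m) (Fin m) ℂ))
        * (Matrix.fromBlocks (0 : Matrix (Fin m) (Fin m) ℂ) (-1 : Matrix (Fin m) (Fin m) ℂ) (1 : Matrix (Fin m) (Fin m) ℂ) (0 : Matrix (Fin m) (Fin m) ℂ)) = 1 := by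
      rw [Matrix.fromBlocks_multiply]
      simp [Matrix.fromBlocks_one]
    intro h0
    have := congrArg Matrix.det h
    rw [Matrix.det_mul, h0, zero_mul, Matrix.det_one] at this
    exact zero_ne_one this
  exact main_aux _ hJ hJdet

end Groth.Agent.Helper22.Pfaff
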