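import Mathlib

/-!
# Picard group of a polynomial ring over a product of valuation rings

Invertible modules over `(∏ Rᵢ)[x₁, …, xₙ]` with every `Rᵢ[x₁, …, xₙ]` a GCD domain are free:
an invertible module gives a matrix `E` of rank one and trace one; over each GCD domain it
factors as `v wᵀ`, with degrees bounded by those of `E`, and the factorizations assemble.
-/

set_option autoImplicit false
universe u

namespace Groth.Agent.Helper22.PicProd

open MvPolynomial

theorem isGCDMonoid_of_ringEquiv {α β : Type*} [CommRing α] [CommRing β] [IsDomain β]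
    (e : α ≃+* β) [h : IsGCDMonoid α] : IsGCDMonoid β := by
  obtain ⟨-, hg⟩ := isGCDMonoid_iff_exists_gcd.mp h
  refine isGCDMonoid_iff_exists_gcd.mpr ⟨inferInstance, fun a b => ?_⟩
  obtain ⟨c, hc⟩ := hg (e.symm a) (e.symm b)
  refine ⟨e c, fun d => ?_⟩
  have key : ∀ x y : β, x ∣ y ↔ e.symm x ∣ e.symm y := fun x y =>
    ⟨fun hxy => map_dvd e.symm hxy, fun hxy => by
      have := map_dvd e hxy
      simpa using this⟩
  rw [key d a, key d b, key d (e c), hc (e.symm d)]
  simp

theorem isGCDMonoid_mvPolynomial_fin (V : Type*) [CommRing V] [IsDomain V] [IsGCDMonoid V]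
    (n : ℕ) : IsGCDMonoid (MvPolynomial (Fin n) V) := by
  induction n with
  | zero => exact isGCDMonoid_of_ringEquiv (isEmptyAlgEquiv V (Fin 0)).symm.toRingEquiv
  | succ n ih =>
    haveI := ih
    exact isGCDMonoid_of_ringEquiv (finSuccEquiv V n).symm.toRingEquiv

/-- A square matrix over a GCD domain with vanishing `2 × 2` minors and trace one is a product
of a column and a row. -/
theorem exists_factorization {D : Type*} [CommRing D] [IsDomain D] [IsGCDMonoid D] {m : ℕ}
    (E : Fin m → Fin m → D)
    (h2 : ∀ k j l r, E k j * E l r = E k r * E l j)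
    (htr : ∑ k, E k k = 1) :
    ∃ v w : Fin m → D, ∀ k j, E k j = v k * w j := by
  obtain ⟨k₀, hk₀⟩ : ∃ k₀, E k₀ k₀ ≠ 0 := by
    by_contra hcon
    push_neg at hcon
    have h0 : (∑ k, E k k) = 0 := Finset.sum_eq_zero fun k _ => hcon k
    rw [htr] at h0
    exact one_ne_zero h0
  let I : Ideal D := Ideal.span (Set.range fun k => E k k₀)
  let J : Ideal D := Ideal.span (Set.range fun j => E k₀ j)
  have haIJ : E k₀ k₀ ∈ I * J := by
    have h1 : E k₀ k₀ = ∑ k, E k k₀ * E k₀ k := by
      calc E k₀ k₀ = E k₀ k₀ * ∑ k, E k k := by rw [htr, mul_one]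
        _ = ∑ k, E k₀ k₀ * E k k := Finset.mul_sum _ _ _
        _ = ∑ k, E k k₀ * E k₀ k := Finset.sum_congr rfl fun k _ => by
            rw [h2 k₀ k₀ k k, mul_comm]
    rw [h1]
    exact Ideal.sum_mem _ fun k _ =>
      Ideal.mul_mem_mul (Ideal.subset_span ⟨k, rfl⟩) (Ideal.subset_span ⟨k, rfl⟩)
  have hIJ : I * J = Ideal.span {E k₀ k₀} := by
    apply le_antisymm
    · rw [Ideal.span_mul_span', Ideal.span_le]
      rintro _ ⟨_, ⟨k, rfl⟩, _, ⟨j, rfl⟩, rfl⟩
      exact Ideal.mem_span_singleton'.mpr ⟨E k j, (h2 k k₀ k₀ j).symm⟩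
    · rw [Ideal.span_le, Set.singleton_subset_iff]
      exact haIJ
  have hne : I * J ≠ 0 := by
    rw [hIJ, Ideal.zero_eq_bot, Ne, Ideal.span_singleton_eq_bot]
    exact hk₀
  have hI : I.IsPrincipal :=
    IsGCDMonoid.isPrincipal_of_exists_mul_ne_zero_isPrincipal
      ⟨J, hne, by rw [hIJ]; infer_instance⟩
  obtain ⟨d, hd⟩ := hI.principal
  have hd' : I = Ideal.span {d} := hd
  have hd0 : d ≠ 0 := by
    rintro rfl
    apply hne
    rw [hd', Ideal.span_singleton_eq_bot.mpr rfl, Ideal.zero_eq_bot, Ideal.bot_mul]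
  have hcol : ∀ k, ∃ vk, E k k₀ = d * vk := fun k => by
    have hmem : E k k₀ ∈ I := Ideal.subset_span ⟨k, rfl⟩
    rw [hd'] at hmem
    obtain ⟨c, hc⟩ := Ideal.mem_span_singleton'.mp hmem
    exact ⟨c, by rw [← hc, mul_comm]⟩
  choose v hv using hcol
  have hdI : d ∈ I := by
    rw [hd']
    exact Ideal.subset_span rfl
  obtain ⟨u, hu⟩ := Ideal.mem_span_range_iff_exists_fun.mp hdI
  have huv : ∑ k, u k * v k = 1 := by
    have h1 : d * ∑ k, u k * v k = d * 1 := by
      rw [Finset.mul_sum, mul_one]
      conv_rhs => rw [← hu]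
      exact Finset.sum_congr rfl fun k _ => by rw [hv k]; ring
    exact mul_left_cancel₀ hd0 h1
  refine ⟨v, fun j => ∑ l, u l * E l j, fun k j => ?_⟩
  have hprop : ∀ l, E k j * v l = v k * E l j := by
    intro l
    have h := h2 k j l k₀
    rw [hv l, hv k] at h
    apply mul_left_cancel₀ hd0
    calc d * (E k j * v l) = E k j * (d * v l) := by ring
      _ = d * v k * E l j := h
      _ = d * (v k * E l j) := by ring
  calc E k j = E k j * ∑ l, u l * v l := by rw [huv, mul_one]
    _ = ∑ l, u l * (E k j * v l) := by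
        rw [Finset.mul_sum]; exact Finset.sum_congr rfl fun l _ => by ring
    _ = ∑ l, u l * (v k * E l j) := Finset.sum_congr rfl fun l _ => by rw [hprop l]
    _ = v k * ∑ l, u l * E l j := by
        rw [Finset.mul_sum]; exact Finset.sum_congr rfl fun l _ => by ring

/-- Degrees of the factors are bounded by the degrees of the entries. -/
theorem degree_bound {D : Type*} [CommRing D] [IsDomain D] {σ : Type*} {m : ℕ}
    (v w : Fin m → MvPolynomial σ D) (E : Fin m → Fin m → MvPolynomial σ D)
    (hE : ∀ k j, E k j = v k * w j) (hsum : ∑ k, v k * w k = 1) (N : ℕ)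
    (hN : ∀ k j, (E k j).totalDegree ≤ N) :
    ∀ k, (v k).totalDegree ≤ N ∧ (w k).totalDegree ≤ N := by
  obtain ⟨j₀, hj₀⟩ : ∃ j₀, v j₀ * w j₀ ≠ 0 := by
    by_contra hcon
    push_neg at hcon
    have h0 : (∑ k, v k * w k) = 0 := Finset.sum_eq_zero fun k _ => hcon k
    rw [hsum] at h0
    exact one_ne_zero h0
  have hv0 : v j₀ ≠ 0 := left_ne_zero_of_mul hj₀
  have hw0 : w j₀ ≠ 0 := right_ne_zero_of_mul hj₀
  intro k
  constructor
  · by_cases hk : v k = 0
    · rw [hk, totalDegree_zero]; exact Nat.zero_le _
    · have h := hN k j₀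
      rw [hE, totalDegree_mul_of_isDomain hk hw0] at h
      omega
  · by_cases hk : w k = 0
    · rw [hk, totalDegree_zero]; exact Nat.zero_le _
    · have h := hN j₀ k
      rw [hE, totalDegree_mul_of_isDomain hv0 hk] at h
      omega

/-- Polynomials over a product ring are determined by their components. -/
theorem eq_of_forall_map_eq {ι : Type*} (R : ι → Type*) [∀ i, CommRing (R i)] {σ : Type*}
    (p p' : MvPolynomial σ (∀ i, R i))
    (h : ∀ i, map (Pi.evalRingHom R i) p = map (Pi.evalRingHom R i) p') : p = p' := by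
  ext m i
  have h1 := congrArg (coeff m) (h i)
  rw [coeff_map, coeff_map] at h1
  exact h1

/-- A family of polynomials of bounded degree over the factors assembles to a polynomial over
the product. -/
theorem exists_assemble {ι : Type*} (R : ι → Type*) [∀ i, CommRing (R i)] (n N : ℕ)
    (q : ∀ i, MvPolynomial (Fin n) (R i)) (hq : ∀ i, (q i).totalDegree ≤ N) :
    ∃ p : MvPolynomial (Fin n) (∀ i, R i), ∀ i, map (Pi.evalRingHom R i) p = q i := by
  let b : Fin n →₀ ℕ := Finsupp.onFinset Finset.univ (fun _ => N) (fun _ _ => Finset.mem_univ _)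
  have hb : ∀ j, b j = N := fun j => rfl
  have hmem : ∀ i (m : Fin n →₀ ℕ), coeff m (q i) ≠ 0 → m ∈ Finset.Iic b := by
    intro i m hm
    rw [Finset.mem_Iic, Finsupp.le_def]
    intro j
    rw [hb]
    have hsupp : m ∈ (q i).support := mem_support_iff.mpr hm
    have h1 := le_totalDegree hsupp
    have h2 : m j ≤ m.sum fun _ e => e := by
      by_cases hj : j ∈ m.support
      · exact Finset.single_le_sum (f := fun x => m x) (fun _ _ => Nat.zero_le _) hj
      · rw [Finsupp.notMem_support_iff.mp hj]; exact Nat.zero_le _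
    exact h2.trans (h1.trans (hq i))
  refine ⟨∑ m ∈ Finset.Iic b, monomial m (fun i => coeff m (q i)), fun i => ?_⟩
  ext m'
  rw [coeff_map, coeff_sum]
  simp only [coeff_monomial]
  rw [Finset.sum_ite_eq']
  by_cases hm : m' ∈ Finset.Iic b
  · rw [if_pos hm]; rfl
  · rw [if_neg hm]
    have h0 : coeff m' (q i) = 0 := by
      by_contra h
      exact hm (hmem i m' h)
    rw [h0, map_zero]

/-- Dual basis data of an invertible module: the associated matrix has rank one and trace one. -/
theorem exists_dualBasis {P : Type u} [CommRing P] (M : Type u) [AddCommGroup M] [Module P M]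
    [Module.Invertible P M] :
    ∃ (m : ℕ) (x : Fin m → M) (s : M →ₗ[P] (Fin m → P)),
      (∀ y : M, y = ∑ k, s y k • x k) ∧
      (∀ k j l r, s (x j) k * s (x r) l = s (x r) k * s (x j) l) ∧
      ∑ k, s (x k) k = 1 := by
  obtain ⟨m, π, hπ⟩ := Module.Finite.exists_fin' P M
  obtain ⟨s, hs⟩ := Module.projective_lifting_property π LinearMap.id hπ
  refine ⟨m, fun k => π (fun j => if k = j then 1 else 0), s, ?_⟩
  have F1 : ∀ y : M, y = ∑ k, s y k • π (fun j => if k = j then 1 else 0) := by
    intro y
    have h1 : π (s y) = y := by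
      have := LinearMap.congr_fun hs y
      simpa using this
    rw [LinearMap.pi_apply_eq_sum_univ π (s y)] at h1
    exact h1.symm
  have swap : ∀ (f g : M →ₗ[P] P) (y z : M), f y * g z = f z * g y := by
    intro f g y z
    have h := congrArg (fun t => LinearMap.mul' P P (TensorProduct.map f g t))
      (Module.Invertible.tmul_comm (R := P) (m₁ := y) (m₂ := z))
    simpa using h
  refine ⟨F1, ?_, ?_⟩
  · intro k j l r
    have h := swap ((LinearMap.proj k).comp s) ((LinearMap.proj l).comp s)
      (π (fun j' => if j = j' then 1 else 0)) (π (fun j' => if r = j' then 1 else 0))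
    simpa using h
  · have hT : ∀ (f : M →ₗ[P] P) (y : M),
        f y = (∑ k, s (π (fun j => if k = j then 1 else 0)) k) * f y := by
      intro f y
      have h1 : f y = ∑ k, s y k * f (π (fun j => if k = j then 1 else 0)) := by
        calc f y = f (∑ k, s y k • π (fun j => if k = j then 1 else 0)) := congrArg f (F1 y)
          _ = ∑ k, s y k * f (π (fun j => if k = j then 1 else 0)) := by
              rw [map_sum]
              exact Finset.sum_congr rfl fun k _ => by rw [map_smul, smul_eq_mul]
      calc f y = ∑ k, s y k * f (π (fun j => if k = j then 1 else 0)) := h1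
        _ = ∑ k, s (π (fun j => if k = j then 1 else 0)) k * f y :=
            Finset.sum_congr rfl fun k _ => by
              have h := swap ((LinearMap.proj k).comp s) f y
                (π (fun j => if k = j then 1 else 0))
              simpa using h
        _ = (∑ k, s (π (fun j => if k = j then 1 else 0)) k) * f y :=
            (Finset.sum_mul _ _ _).symm
    obtain ⟨t, ht⟩ := (Module.Invertible.bijective (R := P) (M := M)).2 1
    have key : ∀ t : TensorProduct P (Module.Dual P M) M,
        contractLeft P M t =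
          (∑ k, s (π (fun j => if k = j then 1 else 0)) k) * contractLeft P M t := by
      intro t
      induction t using TensorProduct.induction_on with
      | zero => simp
      | tmul f y => rw [contractLeft_apply]; exact hT f y
      | add a b ha hb => rw [map_add, mul_add, ← ha, ← hb]
    have h := key t
    rw [ht, mul_one] at h
    exact h.symm

/-- If the matrix of a dual basis factors as a column times a row, the module is free. -/
theorem free_of_factorization {P : Type u} [CommRing P] (M : Type u) [AddCommGroup M]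
    [Module P M] [Module.Invertible P M] {m : ℕ} (x : Fin m → M) (s : M →ₗ[P] (Fin m → P))
    (F1 : ∀ y : M, y = ∑ k, s y k • x k) (V W : Fin m → P)
    (hEVW : ∀ k j, s (x j) k = V k * W j) : Module.Free P M := by
  have hsurj : Function.Surjective (LinearMap.toSpanSingleton P M (∑ k, V k • x k)) := by
    intro y
    refine ⟨∑ l, W l * s y l, ?_⟩
    rw [LinearMap.toSpanSingleton_apply]
    have G1 : ∀ j, s y j = V j * ∑ l, W l * s y l := by
      intro j
      have h1 : s y j = ∑ l, s y l * s (x l) j := by
        have h := congrArg (fun t => s t j) (F1 y)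
        simp only [map_sum, map_smul, Finset.sum_apply, Pi.smul_apply, smul_eq_mul] at h
        exact h
      rw [h1, Finset.mul_sum]
      exact Finset.sum_congr rfl fun l _ => by rw [hEVW j l]; ring
    calc (∑ l, W l * s y l) • (∑ k, V k • x k)
        = ∑ j, (V j * ∑ l, W l * s y l) • x j := by
          rw [Finset.smul_sum]
          exact Finset.sum_congr rfl fun j _ => by rw [smul_smul, mul_comm]
      _ = ∑ j, s y j • x j := Finset.sum_congr rfl fun j _ => by rw [← G1 j]
      _ = y := (F1 y).symm
  exact Module.Free.of_equiv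
    (LinearEquiv.ofBijective _ (Module.Invertible.bijective_of_surjective hsurj))

theorem totalDegree_map_le' {R S σ : Type*} [CommSemiring R] [CommSemiring S] (f : R →+* S)
    (p : MvPolynomial σ R) : (map f p).totalDegree ≤ p.totalDegree :=
  Finset.sup_mono (support_map_subset f p)

/-- Factorization of a rank one, trace one matrix over `(∏ Rᵢ)[x₁, …, xₙ]`. -/
theorem exists_factorization_pi {ι : Type u} (R : ι → Type u)
    [∀ i, CommRing (R i)] [∀ i, IsDomain (R i)] [∀ i, ValuationRing (R i)] (n : ℕ) {m : ℕ}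
    (E : Fin m → Fin m → MvPolynomial (Fin n) (∀ i, R i))
    (h2 : ∀ k j l r, E k j * E l r = E k r * E l j) (hT1 : ∑ k, E k k = 1) :
    ∃ V W : Fin m → MvPolynomial (Fin n) (∀ i, R i), ∀ k j, E k j = V k * W j := by
  have hfac : ∀ i, ∃ v w : Fin m → MvPolynomial (Fin n) (R i),
      ∀ k j, map (Pi.evalRingHom R i) (E k j) = v k * w j := by
    intro i
    haveI : IsGCDMonoid (MvPolynomial (Fin n) (R i)) := isGCDMonoid_mvPolynomial_fin (R i) n
    apply exists_factorization (fun k j => map (Pi.evalRingHom R i) (E k j))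
    · intro k j l r
      rw [← map_mul, ← map_mul, h2 k j l r]
    · rw [← map_sum, hT1, map_one]
  choose v w hvw using hfac
  let N : ℕ := ∑ k, ∑ j, (E k j).totalDegree
  have hN : ∀ k j, (E k j).totalDegree ≤ N := fun k j =>
    (Finset.single_le_sum (f := fun j => (E k j).totalDegree) (fun _ _ => Nat.zero_le _)
      (Finset.mem_univ j)).trans
      (Finset.single_le_sum (f := fun k => ∑ j, (E k j).totalDegree) (fun _ _ => Nat.zero_le _)
        (Finset.mem_univ k))
  have hNi : ∀ i k j, (map (Pi.evalRingHom R i) (E k j)).totalDegree ≤ N := fun i k j =>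
    (totalDegree_map_le' (Pi.evalRingHom R i) (E k j)).trans (hN k j)
  have hsum : ∀ i, ∑ k, v i k * w i k = 1 := by
    intro i
    have h1 : ∑ k, v i k * w i k = ∑ k, map (Pi.evalRingHom R i) (E k k) :=
      Finset.sum_congr rfl fun k _ => (hvw i k k).symm
    rw [h1, ← map_sum, hT1, map_one]
  have hdeg := fun i => degree_bound (v i) (w i)
    (fun k j => map (Pi.evalRingHom R i) (E k j)) (hvw i) (hsum i) N (hNi i)
  have hV : ∀ k, ∃ Vk : MvPolynomial (Fin n) (∀ i, R i),
      ∀ i, map (Pi.evalRingHom R i) Vk = v i k := fun k =>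
    exists_assemble R n N (fun i => v i k) (fun i => (hdeg i k).1)
  have hW : ∀ k, ∃ Wk : MvPolynomial (Fin n) (∀ i, R i),
      ∀ i, map (Pi.evalRingHom R i) Wk = w i k := fun k =>
    exists_assemble R n N (fun i => w i k) (fun i => (hdeg i k).2)
  choose V hV using hV
  choose W hW using hW
  refine ⟨V, W, fun k j => ?_⟩
  apply eq_of_forall_map_eq R
  intro i
  rw [map_mul, hV, hW, hvw]

/-- Invertible modules over `(∏ Rᵢ)[x₁, …, xₙ]`, `Rᵢ` valuation rings, are free. -/
theorem free_of_invertible {ι : Type u} (R : ι → Type u)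
    [∀ i, CommRing (R i)] [∀ i, IsDomain (R i)] [∀ i, ValuationRing (R i)] (n : ℕ)
    (M : Type u) [AddCommGroup M] [Module (MvPolynomial (Fin n) (∀ i, R i)) M]
    [Module.Invertible (MvPolynomial (Fin n) (∀ i, R i)) M] :
    Module.Free (MvPolynomial (Fin n) (∀ i, R i)) M := by
  obtain ⟨m, x, s, F1, h2, hT1⟩ := exists_dualBasis (P := MvPolynomial (Fin n) (∀ i, R i)) M
  obtain ⟨V, W, hVW⟩ := exists_factorization_pi R n (fun k j => s (x j) k) h2 hT1
  exact free_of_factorization M x s F1 V W hVW

end Groth.Agent.Helper22.PicProd
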