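import Mathlib

/-!
# Images of homogeneous polynomials under evaluation (helper22)

For `k → A → C` and `v : ι → C`, the image of the degree-`d` homogeneous polynomials of
`MvPolynomial ι A` under `aeval v` is `Ā · Vᵈ`, with `Ā` the image of `A` in `C` and `V` the
`k`-span of the `v i` (product and power of `k`-submodules of `C`).
-/

set_option autoImplicit false

namespace Groth.Agent.Helper22.PolyFilt

open MvPolynomial

variable {k A C : Type*} [CommRing k] [CommRing A] [CommRing C] [Algebra k A] [Algebra k C]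
  [Algebra A C] [IsScalarTower k A C] {ι : Type*} (v : ι → C)

variable (k A C) in
/-- the image of `A` in `C` as a `k`-submodule -/
def abar : Submodule k C := LinearMap.range (IsScalarTower.toAlgHom k A C).toLinearMap

theorem mem_abar (x : C) : x ∈ abar k A C ↔ ∃ a : A, algebraMap A C a = x := by
  constructor
  · rintro ⟨a, rfl⟩; exact ⟨a, rfl⟩
  · rintro ⟨a, rfl⟩; exact ⟨a, rfl⟩

theorem abar_mul_abar : abar k A C * abar k A C ≤ abar k A C := by
  rw [Submodule.mul_le]
  intro x hx y hy
  obtain ⟨a, rfl⟩ := (mem_abar x).1 hx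
  obtain ⟨b, rfl⟩ := (mem_abar y).1 hy
  exact (mem_abar _).2 ⟨a * b, map_mul _ _ _⟩

theorem one_mem_abar : (1 : C) ∈ abar k A C := (mem_abar _).2 ⟨1, map_one _⟩

theorem aeval_mem (d : ℕ) (x : MvPolynomial ι A) (hx : x ∈ homogeneousSubmodule ι A d) :
    aeval v x ∈ abar k A C * (Submodule.span k (Set.range v)) ^ d := by
  rw [← homogeneousSubmodule_one_pow, homogeneousSubmodule_one_eq_span_X] at hx
  have h1 : ∀ m ∈ Submodule.span A (Set.range (X : ι → MvPolynomial ι A)),
      aeval v m ∈ abar k A C * Submodule.span k (Set.range v) := by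
    intro m hm
    induction hm using Submodule.span_induction with
    | mem m hm =>
      obtain ⟨i, rfl⟩ := hm
      rw [aeval_X]
      have h2 := Submodule.mul_mem_mul (one_mem_abar (k := k) (A := A) (C := C))
        (Submodule.subset_span (R := k) (s := Set.range v) ⟨i, rfl⟩)
      rwa [one_mul] at h2
    | zero => rw [map_zero]; exact Submodule.zero_mem _
    | add x y _ _ hx hy => rw [map_add]; exact Submodule.add_mem _ hx hy
    | smul a x _ hx =>
      rw [map_smul, Algebra.smul_def]
      have h2 := Submodule.mul_mem_mul ((mem_abar (k := k) _).2 ⟨a, rfl⟩) hx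
      rw [← mul_assoc] at h2
      exact mul_le_mul' abar_mul_abar le_rfl h2
  induction hx using Submodule.pow_induction_on_left' with
  | algebraMap a =>
    rw [pow_zero, mul_one, MvPolynomial.algebraMap_eq, aeval_C]
    exact (mem_abar _).2 ⟨a, rfl⟩
  | add x y i _ _ ihx ihy =>
    rw [map_add]; exact Submodule.add_mem _ ihx ihy
  | mem_mul m hm i x _ ih =>
    rw [map_mul]
    have h2 := Submodule.mul_mem_mul (h1 m hm) ih
    rw [mul_mul_mul_comm, ← pow_succ'] at h2
    exact mul_le_mul' abar_mul_abar le_rfl h2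

theorem exists_aeval_eq (d : ℕ) (f : C)
    (hf : f ∈ abar k A C * (Submodule.span k (Set.range v)) ^ d) :
    ∃ x ∈ homogeneousSubmodule ι A d, aeval v x = f := by
  let Pi : ℕ → Submodule k C := fun d =>
    ((homogeneousSubmodule ι A d).restrictScalars k).map
      ((aeval v : MvPolynomial ι A →ₐ[A] C).toLinearMap.restrictScalars k)
  have hPi : ∀ d y, y ∈ Pi d ↔ ∃ x ∈ homogeneousSubmodule ι A d, aeval v x = y :=
    fun d y => Iff.rfl
  suffices h : abar k A C * (Submodule.span k (Set.range v)) ^ d ≤ Pi d from (hPi d f).1 (h hf)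
  have hV1 : Submodule.span k (Set.range v) ≤ Pi 1 := by
    rw [Submodule.span_le]
    rintro _ ⟨i, rfl⟩
    exact (hPi 1 _).2 ⟨X i, isHomogeneous_X A i, aeval_X v i⟩
  have hVd : ∀ d, (Submodule.span k (Set.range v)) ^ d ≤ Pi d := by
    intro d
    induction d with
    | zero =>
      rw [pow_zero, Submodule.one_le]
      exact (hPi 0 _).2 ⟨1, isHomogeneous_one ι A, map_one _⟩
    | succ d ih =>
      rw [pow_succ', Submodule.mul_le]
      intro m hm w hw
      obtain ⟨x, hx, rfl⟩ := (hPi 1 _).1 (hV1 hm)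
      obtain ⟨y, hy, rfl⟩ := (hPi d _).1 (ih hw)
      refine (hPi (d + 1) _).2 ⟨x * y, ?_, map_mul _ _ _⟩
      have h2 := IsHomogeneous.mul hx hy
      rwa [add_comm] at h2
  rw [Submodule.mul_le]
  intro a' ha' w hw
  obtain ⟨a, rfl⟩ := (mem_abar a').1 ha'
  obtain ⟨y, hy, rfl⟩ := (hPi d _).1 (hVd d hw)
  refine (hPi d _).2 ⟨a • y, Submodule.smul_mem _ a hy, ?_⟩
  rw [map_smul, Algebra.smul_def]

end Groth.Agent.Helper22.PolyFilt
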