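import Mathlib
import Groth.Prelude.Def_W4c5spincurvestfNode

set_option autoImplicit false

/-! The ring `R[x,y]/(xy - π)`: the monomial basis `x^i, y^j` indexed by `ℤ`, coordinates. -/

namespace Groth.Agent.Helper22.PolyNode

open SpinCurv

universe u
variable {R : Type u} [CommRing R]

theorem xy (π : R) :
    PolyNodeRing.x R π * PolyNodeRing.y R π = algebraMap R (PolyNodeRing R π) π := by
  have h : (Ideal.Quotient.mk (Ideal.span {(MvPolynomial.X 0 * MvPolynomial.X 1 - MvPolynomial.C π :
      MvPolynomial (Fin 2) R)})) (MvPolynomial.X 0 * MvPolynomial.X 1 - MvPolynomial.C π) = 0 :=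
    Ideal.Quotient.eq_zero_iff_mem.2 (Ideal.subset_span rfl)
  rw [map_sub, map_mul, sub_eq_zero] at h
  rw [h]
  exact Ideal.Quotient.mk_algebraMap R _ π

theorem smul_eq (π : R) (r : R) (z : PolyNodeRing R π) :
    r • z = algebraMap R (PolyNodeRing R π) r * z := Algebra.smul_def r z

theorem hom_ext {B : Type*} [Semiring B] [Algebra R B] (π : R)
    (f g : PolyNodeRing R π →ₐ[R] B)
    (hx : f (PolyNodeRing.x R π) = g (PolyNodeRing.x R π))
    (hy : f (PolyNodeRing.y R π) = g (PolyNodeRing.y R π)) : f = g := by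
  apply Ideal.Quotient.algHom_ext
  apply MvPolynomial.algHom_ext
  intro i
  fin_cases i
  · exact hx
  · exact hy

/-- the monomial basis: `x^m` for `m ≥ 0`, `y^(-m)` for `m ≤ 0`. -/
noncomputable def bas (π : R) (m : ℤ) : PolyNodeRing R π :=
  PolyNodeRing.x R π ^ m.toNat * PolyNodeRing.y R π ^ (-m).toNat

theorem bas_of_nonneg (π : R) {m : ℤ} (hm : 0 ≤ m) :
    bas π m = PolyNodeRing.x R π ^ m.toNat := by
  have h : (-m).toNat = 0 := by omega
  rw [bas, h, pow_zero, mul_one]

theorem bas_of_nonpos (π : R) {m : ℤ} (hm : m ≤ 0) :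
    bas π m = PolyNodeRing.y R π ^ (-m).toNat := by
  have h : m.toNat = 0 := by omega
  rw [bas, h, pow_zero, one_mul]

theorem bas_zero (π : R) : bas π 0 = 1 := by
  simp [bas]

theorem x_mul_bas_nonneg (π : R) {m : ℤ} (hm : 0 ≤ m) :
    PolyNodeRing.x R π * bas π m = bas π (m + 1) := by
  rw [bas_of_nonneg π hm, bas_of_nonneg π (show (0:ℤ) ≤ m + 1 by omega)]
  have h : (m + 1).toNat = m.toNat + 1 := by omega
  rw [h, pow_succ, mul_comm]

theorem x_mul_bas_neg (π : R) {m : ℤ} (hm : m < 0) :
    PolyNodeRing.x R π * bas π m = π • bas π (m + 1) := by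
  rw [bas_of_nonpos π hm.le, bas_of_nonpos π (show m + 1 ≤ 0 by omega)]
  have h : (-m).toNat = (-(m + 1)).toNat + 1 := by omega
  rw [h, pow_succ, ← mul_assoc, mul_comm (PolyNodeRing.x R π) _, mul_assoc, xy,
    smul_eq, mul_comm]

theorem y_mul_bas_nonpos (π : R) {m : ℤ} (hm : m ≤ 0) :
    PolyNodeRing.y R π * bas π m = bas π (m - 1) := by
  rw [bas_of_nonpos π hm, bas_of_nonpos π (show m - 1 ≤ 0 by omega)]
  have h : (-(m - 1)).toNat = (-m).toNat + 1 := by omega
  rw [h, pow_succ, mul_comm]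

theorem y_mul_bas_pos (π : R) {m : ℤ} (hm : 0 < m) :
    PolyNodeRing.y R π * bas π m = π • bas π (m - 1) := by
  rw [bas_of_nonneg π hm.le, bas_of_nonneg π (show (0:ℤ) ≤ m - 1 by omega)]
  have h : m.toNat = (m - 1).toNat + 1 := by omega
  rw [h, pow_succ, ← mul_assoc, mul_comm (PolyNodeRing.y R π) _, mul_assoc,
    mul_comm (PolyNodeRing.y R π) (PolyNodeRing.x R π), xy, smul_eq, mul_comm]

theorem x_pow_mul_bas (π : R) (k : ℕ) (m : ℤ) :
    PolyNodeRing.x R π ^ k * bas π m = π ^ (min k (-m).toNat) • bas π (m + k) := by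
  induction k with
  | zero => simp
  | succ k ih =>
    rw [pow_succ', mul_assoc, ih, mul_smul_comm]
    by_cases h : 0 ≤ m + k
    · rw [x_mul_bas_nonneg π h]
      have e1 : min (k + 1) (-m).toNat = min k (-m).toNat := by omega
      have e2 : m + (k:ℤ) + 1 = m + ((k + 1 : ℕ) : ℤ) := by push_cast; ring
      rw [e1, e2]
    · rw [x_mul_bas_neg π (show m + (k:ℤ) < 0 by omega), smul_smul]
      have e1 : min (k + 1) (-m).toNat = min k (-m).toNat + 1 := by omega
      have e2 : m + (k:ℤ) + 1 = m + ((k + 1 : ℕ) : ℤ) := by push_cast; ring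
      rw [e1, e2, pow_succ]

/-- coordinates on the polynomial ring -/
noncomputable def coPre (π : R) : MvPolynomial (Fin 2) R →ₗ[R] (ℤ →₀ R) :=
  (MvPolynomial.basisMonomials (Fin 2) R).constr R
    (fun s => Finsupp.single ((s 0 : ℤ) - (s 1 : ℤ)) (π ^ min (s 0) (s 1)))

theorem coPre_monomial (π : R) (s : Fin 2 →₀ ℕ) (a : R) :
    coPre π (MvPolynomial.monomial s a) =
      Finsupp.single ((s 0 : ℤ) - (s 1 : ℤ)) (a * π ^ min (s 0) (s 1)) := by
  have h : MvPolynomial.monomial s a = a • (MvPolynomial.basisMonomials (Fin 2) R) s := by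
    simp only [MvPolynomial.coe_basisMonomials, MvPolynomial.smul_monomial, smul_eq_mul, mul_one]
  rw [h, map_smul]
  simp only [coPre, Module.Basis.constr_basis, Finsupp.smul_single, smul_eq_mul]

theorem coPre_mul_rel (π : R) (g : MvPolynomial (Fin 2) R) :
    coPre π (g * (MvPolynomial.X 0 * MvPolynomial.X 1 - MvPolynomial.C π)) = 0 := by
  refine MvPolynomial.induction_on' g (fun s a => ?_) (fun p q hp hq => ?_)
  · have hX : (MvPolynomial.X 0 * MvPolynomial.X 1 : MvPolynomial (Fin 2) R) =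
        MvPolynomial.monomial (Finsupp.single 0 1 + Finsupp.single 1 1) 1 := by
      rw [MvPolynomial.X, MvPolynomial.X, MvPolynomial.monomial_mul, one_mul]
    rw [mul_sub, map_sub, sub_eq_zero, hX, MvPolynomial.monomial_mul,
      mul_comm (MvPolynomial.monomial s a) (MvPolynomial.C π), MvPolynomial.C_mul_monomial,
      coPre_monomial, coPre_monomial]
    have e0 : (s + (Finsupp.single 0 1 + Finsupp.single 1 1 : Fin 2 →₀ ℕ)) 0 = s 0 + 1 := by
      simp
    have e1 : (s + (Finsupp.single 0 1 + Finsupp.single 1 1 : Fin 2 →₀ ℕ)) 1 = s 1 + 1 := by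
      simp
    rw [e0, e1, Nat.add_min_add_right, pow_succ]
    congr 1
    · push_cast
      ring
    · ring
  · rw [add_mul, map_add, hp, hq, add_zero]

/-- coordinates on `R[x,y]/(xy - π)` -/
noncomputable def co (π : R) : PolyNodeRing R π →ₗ[R] (ℤ →₀ R) :=
  (Submodule.liftQ ((Ideal.span {(MvPolynomial.X 0 * MvPolynomial.X 1 - MvPolynomial.C π :
      MvPolynomial (Fin 2) R)}).restrictScalars R) (coPre π) (by
        intro f hf
        rw [Submodule.restrictScalars_mem] at hf
        obtain ⟨g, rfl⟩ := Ideal.mem_span_singleton'.1 hf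
        exact LinearMap.mem_ker.2 (coPre_mul_rel π g))).comp
    (Submodule.Quotient.restrictScalarsEquiv R
      (Ideal.span {(MvPolynomial.X 0 * MvPolynomial.X 1 - MvPolynomial.C π :
        MvPolynomial (Fin 2) R)})).symm.toLinearMap

theorem co_mk (π : R) (f : MvPolynomial (Fin 2) R) :
    co π (Ideal.Quotient.mk _ f) = coPre π f := by
  rw [← Ideal.Quotient.mk_eq_mk]
  unfold co
  rw [LinearMap.comp_apply, LinearEquiv.coe_coe,
    Submodule.Quotient.restrictScalarsEquiv_symm_mk, Submodule.liftQ_apply]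

theorem co_bas (π : R) (m : ℤ) : co π (bas π m) = Finsupp.single m 1 := by
  have h : bas π m = Ideal.Quotient.mk _ (MvPolynomial.monomial
      (Finsupp.single 0 m.toNat + Finsupp.single 1 (-m).toNat) (1:R)) := by
    rw [bas, ← one_mul (1:R), ← MvPolynomial.monomial_mul, ← MvPolynomial.X_pow_eq_monomial,
      ← MvPolynomial.X_pow_eq_monomial, map_mul, map_pow, map_pow]
  rw [h, co_mk, coPre_monomial]
  have e0 : (Finsupp.single 0 m.toNat + Finsupp.single 1 (-m).toNat : Fin 2 →₀ ℕ) 0 =
      m.toNat := by simp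
  have e1 : (Finsupp.single 0 m.toNat + Finsupp.single 1 (-m).toNat : Fin 2 →₀ ℕ) 1 =
      (-m).toNat := by simp
  rw [e0, e1]
  have e2 : min m.toNat (-m).toNat = 0 := by omega
  have e3 : ((m.toNat : ℕ) : ℤ) - (((-m).toNat : ℕ) : ℤ) = m := by omega
  rw [e2, e3, pow_zero, mul_one]

theorem x_mul_mem_span (π : R) (e : PolyNodeRing R π)
    (he : e ∈ Submodule.span R (Set.range (bas π))) :
    PolyNodeRing.x R π * e ∈ Submodule.span R (Set.range (bas π)) := by
  refine Submodule.span_induction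
    (p := fun e _ => PolyNodeRing.x R π * e ∈ Submodule.span R (Set.range (bas π)))
    ?_ ?_ ?_ ?_ he
  · rintro z ⟨m, rfl⟩
    by_cases hm : 0 ≤ m
    · rw [x_mul_bas_nonneg π hm]
      exact Submodule.subset_span ⟨_, rfl⟩
    · rw [x_mul_bas_neg π (show m < 0 by omega)]
      exact Submodule.smul_mem _ _ (Submodule.subset_span ⟨_, rfl⟩)
  · rw [mul_zero]
    exact Submodule.zero_mem _
  · intro a b _ _ ha hb
    rw [mul_add]
    exact Submodule.add_mem _ ha hb
  · intro r a _ ha
    rw [mul_smul_comm]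
    exact Submodule.smul_mem _ r ha

theorem y_mul_mem_span (π : R) (e : PolyNodeRing R π)
    (he : e ∈ Submodule.span R (Set.range (bas π))) :
    PolyNodeRing.y R π * e ∈ Submodule.span R (Set.range (bas π)) := by
  refine Submodule.span_induction
    (p := fun e _ => PolyNodeRing.y R π * e ∈ Submodule.span R (Set.range (bas π)))
    ?_ ?_ ?_ ?_ he
  · rintro z ⟨m, rfl⟩
    by_cases hm : m ≤ 0
    · rw [y_mul_bas_nonpos π hm]
      exact Submodule.subset_span ⟨_, rfl⟩
    · rw [y_mul_bas_pos π (show 0 < m by omega)]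
      exact Submodule.smul_mem _ _ (Submodule.subset_span ⟨_, rfl⟩)
  · rw [mul_zero]
    exact Submodule.zero_mem _
  · intro a b _ _ ha hb
    rw [mul_add]
    exact Submodule.add_mem _ ha hb
  · intro r a _ ha
    rw [mul_smul_comm]
    exact Submodule.smul_mem _ r ha

theorem span_bas (π : R) (e : PolyNodeRing R π) :
    e ∈ Submodule.span R (Set.range (bas π)) := by
  obtain ⟨f, rfl⟩ := Ideal.Quotient.mk_surjective e
  refine MvPolynomial.induction_on
    (motive := fun f => (Ideal.Quotient.mk (Ideal.span {(MvPolynomial.X 0 * MvPolynomial.X 1 -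
        MvPolynomial.C π : MvPolynomial (Fin 2) R)})) f ∈ Submodule.span R (Set.range (bas π)))
    f (fun a => ?_) (fun f g hf hg => ?_) (fun f i hf => ?_)
  · have h : (Ideal.Quotient.mk (Ideal.span {(MvPolynomial.X 0 * MvPolynomial.X 1 -
        MvPolynomial.C π : MvPolynomial (Fin 2) R)})) (MvPolynomial.C a) = a • bas π 0 := by
      rw [bas_zero, smul_eq, mul_one]
      exact Ideal.Quotient.mk_algebraMap R _ a
    rw [h]
    exact Submodule.smul_mem _ _ (Submodule.subset_span ⟨_, rfl⟩)
  · rw [map_add]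
    exact Submodule.add_mem _ hf hg
  · rw [map_mul, mul_comm ((Ideal.Quotient.mk _) f) ((Ideal.Quotient.mk _) (MvPolynomial.X i))]
    fin_cases i
    · exact x_mul_mem_span π _ hf
    · exact y_mul_mem_span π _ hf

theorem co_lc (π : R) (c : ℤ →₀ R) :
    co π (Finsupp.linearCombination R (bas π) c) = c := by
  rw [Finsupp.apply_linearCombination]
  have h : (⇑(co π) ∘ bas π) = fun m => Finsupp.single m (1:R) := funext (co_bas π)
  rw [h, Finsupp.linearCombination_apply]
  simp only [Finsupp.smul_single, smul_eq_mul, mul_one]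
  exact Finsupp.sum_single c

theorem lc_co (π : R) (e : PolyNodeRing R π) :
    Finsupp.linearCombination R (bas π) (co π e) = e := by
  obtain ⟨c, hc⟩ := Finsupp.mem_span_range_iff_exists_finsupp.1 (span_bas π e)
  rw [← Finsupp.linearCombination_apply] at hc
  rw [← hc, co_lc]

theorem co_injective (π : R) : Function.Injective (co π) := by
  intro e e' h
  rw [← lc_co π e, ← lc_co π e', h]

end Groth.Agent.Helper22.PolyNode
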