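import Groth.Agent.Lib.Helper22.PolyNode1

set_option autoImplicit false

/-! The two charts of the blown-up node and twisted sections. -/

namespace Groth.Agent.Helper22.PolyNode

open SpinCurv

universe u
variable {R : Type u} [CommRing R]

section Phi

variable {A B C : Type u} [CommRing A] [CommRing B] [CommRing C]
  [Algebra R A] [Algebra R B] [Algebra R C]

/-- the map `F ↦ (Σ rU (F i) u^(n-i), Σ rV (F i) v^i)` as an `R`-linear map -/
noncomputable def PhiLin (rU : A →ₐ[R] B) (rV : A →ₐ[R] C) (u : B) (v : C) (n : ℕ) :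
    (Fin (n + 1) → A) →ₗ[R] (B × C) :=
  LinearMap.prod
    (∑ i : Fin (n + 1), (LinearMap.mulRight R (u ^ (n - (i : ℕ)))).comp
      (rU.toLinearMap.comp (LinearMap.proj i)))
    (∑ i : Fin (n + 1), (LinearMap.mulRight R (v ^ (i : ℕ))).comp
      (rV.toLinearMap.comp (LinearMap.proj i)))

theorem PhiLin_apply (rU : A →ₐ[R] B) (rV : A →ₐ[R] C) (u : B) (v : C) (n : ℕ)
    (F : Fin (n + 1) → A) :
    PhiLin rU rV u v n F =
      (∑ i : Fin (n + 1), rU (F i) * u ^ (n - (i : ℕ)),
        ∑ i : Fin (n + 1), rV (F i) * v ^ (i : ℕ)) := by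
  refine Prod.ext ?_ ?_
  · show (∑ i : Fin (n + 1), (LinearMap.mulRight R (u ^ (n - (i : ℕ)))).comp
      (rU.toLinearMap.comp (LinearMap.proj i))) F = _
    simp only [LinearMap.sum_apply, LinearMap.comp_apply, LinearMap.mulRight_apply,
      AlgHom.toLinearMap_apply, LinearMap.proj_apply]
  · show (∑ i : Fin (n + 1), (LinearMap.mulRight R (v ^ (i : ℕ))).comp
      (rV.toLinearMap.comp (LinearMap.proj i))) F = _
    simp only [LinearMap.sum_apply, LinearMap.comp_apply, LinearMap.mulRight_apply,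
      AlgHom.toLinearMap_apply, LinearMap.proj_apply]

/-- `a` placed in slot `i` -/
def sg (n : ℕ) (i : ℕ) (a : A) : Fin (n + 1) → A := fun k => if (k : ℕ) = i then a else 0

theorem single_eq_sg (n : ℕ) (i : Fin (n + 1)) (a : A) :
    (Pi.single i a : Fin (n + 1) → A) = sg n (i : ℕ) a := by
  funext k
  by_cases h : k = i
  · subst h
    simp [sg]
  · have h' : (k : ℕ) ≠ (i : ℕ) := fun e => h (Fin.ext e)
    simp [sg, h, h']

theorem sg_add (n i : ℕ) (a b : A) : sg n i (a + b) = sg n i a + sg n i b := by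
  funext k
  by_cases h : (k : ℕ) = i <;> simp [sg, h]

theorem sg_zero (n i : ℕ) : sg n i (0 : A) = 0 := by
  funext k
  simp [sg]

theorem sg_rsmul (n i : ℕ) (r : R) (a : A) : sg n i (r • a) = r • sg n i a := by
  funext k
  by_cases h : (k : ℕ) = i <;> simp [sg, h]

theorem sg_asmul (n i : ℕ) (b a : A) : b • sg n i a = sg n i (b * a) := by
  funext k
  by_cases h : (k : ℕ) = i <;> simp [sg, h]

theorem PhiLin_sg (rU : A →ₐ[R] B) (rV : A →ₐ[R] C) (u : B) (v : C) (n : ℕ)
    (i : ℕ) (hi : i < n + 1) (a : A) :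
    PhiLin rU rV u v n (sg n i a) = (rU a * u ^ (n - i), rV a * v ^ i) := by
  have e : sg n i a = (Pi.single (⟨i, hi⟩ : Fin (n + 1)) a : Fin (n + 1) → A) :=
    (single_eq_sg n ⟨i, hi⟩ a).symm
  rw [e, PhiLin_apply]
  congr 1
  · rw [Fintype.sum_eq_single (⟨i, hi⟩ : Fin (n + 1))]
    · rw [Pi.single_eq_same]
    · intro j hj
      rw [Pi.single_eq_of_ne hj, map_zero, zero_mul]
  · rw [Fintype.sum_eq_single (⟨i, hi⟩ : Fin (n + 1))]
    · rw [Pi.single_eq_same]
    · intro j hj
      rw [Pi.single_eq_of_ne hj, map_zero, zero_mul]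

theorem PhiLin_asmul (rU : A →ₐ[R] B) (rV : A →ₐ[R] C) (u : B) (v : C) (n : ℕ)
    (a : A) (F : Fin (n + 1) → A) :
    PhiLin rU rV u v n (a • F) =
      (rU a * (PhiLin rU rV u v n F).1, rV a * (PhiLin rU rV u v n F).2) := by
  rw [PhiLin_apply, PhiLin_apply]
  simp only [Pi.smul_apply, smul_eq_mul, map_mul, Finset.mul_sum, mul_assoc]

end Phi

/-- the hypotheses of the statement -/
structure Data (p q : R) where
  rU : PolyNodeRing R (p * q) →ₐ[R] PolyNodeRing R q
  hrUx : rU (PolyNodeRing.x R (p * q)) = algebraMap R _ p * PolyNodeRing.x R q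
  hrUy : rU (PolyNodeRing.y R (p * q)) = PolyNodeRing.y R q
  rV : PolyNodeRing R (p * q) →ₐ[R] PolyNodeRing R p
  hrVx : rV (PolyNodeRing.x R (p * q)) = PolyNodeRing.y R p
  hrVy : rV (PolyNodeRing.y R (p * q)) = algebraMap R _ q * PolyNodeRing.x R p
  gU : PolyNodeRing R q →ₐ[R] LaurentPolynomial R
  hgUs : gU (PolyNodeRing.x R q) = LaurentPolynomial.T 1
  hgUy : gU (PolyNodeRing.y R q) = LaurentPolynomial.C q * LaurentPolynomial.T (-1)
  gV : PolyNodeRing R p →ₐ[R] LaurentPolynomial R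
  hgVt : gV (PolyNodeRing.x R p) = LaurentPolynomial.T (-1)
  hgVx : gV (PolyNodeRing.y R p) = LaurentPolynomial.C p * LaurentPolynomial.T 1

variable {p q : R}

theorem Data.rU_bas (D : Data p q) (m : ℤ) :
    D.rU (bas (p * q) m) = p ^ m.toNat • bas q m := by
  rw [bas, map_mul, map_pow, map_pow, D.hrUx, D.hrUy, bas, smul_eq, map_pow]
  ring

theorem Data.rV_bas (D : Data p q) (m : ℤ) :
    D.rV (bas (p * q) m) = q ^ (-m).toNat • bas p (-m) := by
  rw [bas, map_mul, map_pow, map_pow, D.hrVx, D.hrVy, bas, neg_neg, smul_eq, map_pow]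
  ring

theorem Data.gU_bas (D : Data p q) (m : ℤ) :
    D.gU (bas q m) = q ^ (-m).toNat • LaurentPolynomial.T m := by
  rw [bas, map_mul, map_pow, map_pow, D.hgUs, D.hgUy, mul_pow, LaurentPolynomial.T_pow,
    LaurentPolynomial.T_pow, ← map_pow, LaurentPolynomial.smul_eq_C_mul, mul_left_comm,
    ← LaurentPolynomial.T_add]
  have e : ((m.toNat : ℕ) : ℤ) * 1 + (((-m).toNat : ℕ) : ℤ) * (-1) = m := by omega
  rw [e]

theorem Data.gV_bas (D : Data p q) (m : ℤ) :
    D.gV (bas p m) = p ^ (-m).toNat • LaurentPolynomial.T (-m) := by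
  rw [bas, map_mul, map_pow, map_pow, D.hgVt, D.hgVx, mul_pow, LaurentPolynomial.T_pow,
    LaurentPolynomial.T_pow, ← map_pow, LaurentPolynomial.smul_eq_C_mul, mul_left_comm,
    ← LaurentPolynomial.T_add]
  have e : ((m.toNat : ℕ) : ℤ) * (-1) + (((-m).toNat : ℕ) : ℤ) * 1 = -m := by omega
  rw [e]

theorem Data.gU_rU (D : Data p q) (a : PolyNodeRing R (p * q)) :
    D.gU (D.rU a) = D.gV (D.rV a) := by
  have h : D.gU.comp D.rU = D.gV.comp D.rV := by
    apply hom_ext
    · rw [AlgHom.comp_apply, AlgHom.comp_apply, D.hrUx, D.hrVx, map_mul, AlgHom.commutes,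
        D.hgUs, D.hgVx, LaurentPolynomial.C_eq_algebraMap]
    · rw [AlgHom.comp_apply, AlgHom.comp_apply, D.hrUy, D.hrVy, map_mul, AlgHom.commutes,
        D.hgUy, D.hgVt, LaurentPolynomial.C_eq_algebraMap]
  exact congrArg (fun f => f a) h

/-- the map of the statement -/
noncomputable def Data.Phi (D : Data p q) (n : ℕ) :
    (Fin (n + 1) → PolyNodeRing R (p * q)) →ₗ[R] (PolyNodeRing R q × PolyNodeRing R p) :=
  PhiLin D.rU D.rV (PolyNodeRing.x R q) (PolyNodeRing.x R p) n

theorem Data.Phi_sg_bas (D : Data p q) (n : ℕ) (i : ℕ) (hi : i < n + 1) (m : ℤ) :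
    D.Phi n (sg n i (bas (p * q) m)) =
      ((p ^ m.toNat * q ^ (min (n - i) (-m).toNat)) • bas q (m + ((n - i : ℕ) : ℤ)),
       (q ^ (-m).toNat * p ^ (min i m.toNat)) • bas p (-m + ((i : ℕ) : ℤ))) := by
  rw [Data.Phi, PhiLin_sg _ _ _ _ n i hi, D.rU_bas, D.rV_bas]
  congr 1
  · have h := x_pow_mul_bas q (n - i) m
    rw [smul_eq] at h
    rw [smul_eq, smul_eq, map_mul, mul_assoc, mul_comm (bas q m), h]
    ring
  · have h := x_pow_mul_bas p i (-m)
    rw [smul_eq, neg_neg] at h
    rw [smul_eq, smul_eq, map_mul, mul_assoc, mul_comm (bas p (-m)), h]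
    ring

/-- slot of the normal form generator of weight `w` -/
def i0 (n : ℕ) (w : ℤ) : ℕ := if (n : ℤ) < w then 0 else if w < 0 then n else ((n : ℤ) - w).toNat

/-- exponent of the normal form generator of weight `w` -/
def m0 (n : ℕ) (w : ℤ) : ℤ := if (n : ℤ) < w then w - n else if w < 0 then w else 0

/-- first coefficient -/
def aw (p : R) (n : ℕ) (w : ℤ) : R := if (n : ℤ) < w then p ^ (w - n).toNat else 1

/-- second coefficient -/
def bw (q : R) (n : ℕ) (w : ℤ) : R := if (n : ℤ) < w then 1 else q ^ (-w).toNat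

theorem i0_lt (n : ℕ) (w : ℤ) : i0 n w < n + 1 := by
  unfold i0
  split_ifs <;> omega

theorem i0m0_spec (n : ℕ) (i : ℕ) (m : ℤ) (hi : i ≤ n)
    (h : (i = 0 ∧ 0 ≤ m) ∨ (i = n ∧ m ≤ 0) ∨ m = 0) :
    i0 n (m + n - i) = i ∧ m0 n (m + n - i) = m := by
  unfold i0 m0
  rcases h with ⟨rfl, hm⟩ | ⟨rfl, hm⟩ | rfl
  · split_ifs <;> constructor <;> omega
  · split_ifs <;> constructor <;> omega
  · split_ifs <;> constructor <;> omega

/-- normal form generator of weight `w` -/
noncomputable def eps0 (p q : R) (n : ℕ) (w : ℤ) : Fin (n + 1) → PolyNodeRing R (p * q) :=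
  sg n (i0 n w) (bas (p * q) (m0 n w))

theorem Data.Phi_eps0 (D : Data p q) (n : ℕ) (w : ℤ) :
    D.Phi n (eps0 p q n w) = (aw p n w • bas q w, bw q n w • bas p ((n : ℤ) - w)) := by
  rw [eps0, D.Phi_sg_bas n _ (i0_lt n w)]
  by_cases h1 : (n : ℤ) < w
  · have hi : i0 n w = 0 := by simp [i0, h1]
    have hm : m0 n w = w - n := by simp [m0, h1]
    have ha : aw p n w = p ^ (w - n).toNat := by simp [aw, h1]
    have hb : bw q n w = 1 := by simp [bw, h1]
    rw [hi, hm, ha, hb]
    have e1 : (-(w - (n : ℤ))).toNat = 0 := by omega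
    have e2 : w - (n : ℤ) + ((n - 0 : ℕ) : ℤ) = w := by omega
    have e3 : -(w - (n : ℤ)) + ((0 : ℕ) : ℤ) = (n : ℤ) - w := by omega
    rw [e1, e2, e3]
    simp
  · by_cases h2 : w < 0
    · have hi : i0 n w = n := by simp [i0, h1, h2]
      have hm : m0 n w = w := by simp [m0, h1, h2]
      have ha : aw p n w = 1 := by simp [aw, h1]
      have hb : bw q n w = q ^ (-w).toNat := by simp [bw, h1]
      rw [hi, hm, ha, hb]
      have e1 : w.toNat = 0 := by omega
      have e2 : w + ((n - n : ℕ) : ℤ) = w := by omega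
      have e3 : -w + ((n : ℕ) : ℤ) = (n : ℤ) - w := by omega
      rw [e1, e2, e3]
      simp
    · have hi : i0 n w = ((n : ℤ) - w).toNat := by simp [i0, h1, h2]
      have hm : m0 n w = 0 := by simp [m0, h1, h2]
      have ha : aw p n w = 1 := by simp [aw, h1]
      have hb : bw q n w = 1 := by
        have e : (-w).toNat = 0 := by omega
        simp [bw, h1, e]
      rw [hi, hm, ha, hb]
      have e2 : (0 : ℤ) + ((n - ((n : ℤ) - w).toNat : ℕ) : ℤ) = w := by omega
      have e3 : -(0 : ℤ) + ((((n : ℤ) - w).toNat : ℕ) : ℤ) = (n : ℤ) - w := by omega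
      rw [e2, e3]
      simp

theorem Data.co_Phi_lc_fst (D : Data p q) (n : ℕ) (Λ : ℤ →₀ R) (w : ℤ) :
    co q (D.Phi n (Finsupp.linearCombination R (eps0 p q n) Λ)).1 w = Λ w * aw p n w := by
  refine Finsupp.induction_linear Λ ?_ ?_ ?_
  · simp
  · intro f g hf hg
    rw [map_add, map_add, Prod.fst_add, map_add, Finsupp.add_apply, hf, hg, Finsupp.add_apply,
      add_mul]
  · intro w' r
    rw [Finsupp.linearCombination_single, map_smul, D.Phi_eps0]
    simp only [Prod.smul_fst, map_smul, co_bas, Finsupp.smul_apply, Finsupp.single_apply,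
      smul_eq_mul]
    by_cases h : w' = w
    · subst h
      simp
    · simp [h]

theorem Data.co_Phi_lc_snd (D : Data p q) (n : ℕ) (Λ : ℤ →₀ R) (u : ℤ) :
    co p (D.Phi n (Finsupp.linearCombination R (eps0 p q n) Λ)).2 u =
      Λ ((n : ℤ) - u) * bw q n ((n : ℤ) - u) := by
  refine Finsupp.induction_linear Λ ?_ ?_ ?_
  · simp
  · intro f g hf hg
    rw [map_add, map_add, Prod.snd_add, map_add, Finsupp.add_apply, hf, hg, Finsupp.add_apply,
      add_mul]
  · intro w' r
    rw [Finsupp.linearCombination_single, map_smul, D.Phi_eps0]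
    simp only [Prod.smul_snd, map_smul, co_bas, Finsupp.smul_apply, Finsupp.single_apply,
      smul_eq_mul]
    by_cases h : w' = (n : ℤ) - u
    · subst h
      have e : (n : ℤ) - ((n : ℤ) - u) = u := by ring
      simp [e]
    · have h' : ¬ ((n : ℤ) - w' = u) := by omega
      simp [h, h']

theorem Data.gU_lc_coeff (D : Data p q) (c : ℤ →₀ R) (w : ℤ) :
    (D.gU (Finsupp.linearCombination R (bas q) c)).coeff w = c w * q ^ (-w).toNat := by
  refine Finsupp.induction_linear c ?_ ?_ ?_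
  · simp
  · intro f g hf hg
    rw [map_add, map_add, AddMonoidAlgebra.coeff_add, Finsupp.add_apply, hf, hg,
      Finsupp.add_apply, add_mul]
  · intro m r
    rw [Finsupp.linearCombination_single, map_smul, D.gU_bas,
      AddMonoidAlgebra.coeff_smul_apply, AddMonoidAlgebra.coeff_smul_apply,
      LaurentPolynomial.T_apply, Finsupp.single_apply]
    by_cases h : m = w
    · subst h
      simp
    · simp [h]

theorem Data.TgV_lc_coeff (D : Data p q) (n : ℕ) (c : ℤ →₀ R) (w : ℤ) :
    (LaurentPolynomial.T (n : ℤ) * D.gV (Finsupp.linearCombination R (bas p) c)).coeff w =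
      c ((n : ℤ) - w) * p ^ (w - n).toNat := by
  refine Finsupp.induction_linear c ?_ ?_ ?_
  · simp
  · intro f g hf hg
    rw [map_add, map_add, mul_add, AddMonoidAlgebra.coeff_add, Finsupp.add_apply, hf, hg,
      Finsupp.add_apply, add_mul]
  · intro u r
    rw [Finsupp.linearCombination_single, map_smul, D.gV_bas]
    have e : LaurentPolynomial.T (n : ℤ) * (r • p ^ (-u).toNat • LaurentPolynomial.T (-u)) =
        r • p ^ (-u).toNat • (LaurentPolynomial.T ((n : ℤ) + -u) : LaurentPolynomial R) := by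
      rw [LaurentPolynomial.T_add, LaurentPolynomial.smul_eq_C_mul,
        LaurentPolynomial.smul_eq_C_mul, LaurentPolynomial.smul_eq_C_mul,
        LaurentPolynomial.smul_eq_C_mul]
      ring
    rw [e, AddMonoidAlgebra.coeff_smul_apply, AddMonoidAlgebra.coeff_smul_apply,
      LaurentPolynomial.T_apply, Finsupp.single_apply]
    by_cases h : u = (n : ℤ) - w
    · subst h
      have e1 : (n : ℤ) + -((n : ℤ) - w) = w := by ring
      have e2 : (-((n : ℤ) - w)).toNat = (w - (n : ℤ)).toNat := by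
        congr 1
        ring
      simp [e1, e2]
    · have h' : ¬ ((n : ℤ) + -u = w) := by omega
      simp [h, h']

end Groth.Agent.Helper22.PolyNode
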