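import Groth.Agent.Lib.Helper22.PolyNode2

set_option autoImplicit false

/-! Range and kernel of the twisted sections map. -/

namespace Groth.Agent.Helper22.PolyNode

open SpinCurv

universe u
variable {R : Type u} [CommRing R] {p q : R}

/-- first family of relations -/
noncomputable def relX (p q : R) (n : ℕ) (j : Fin n) : Fin (n + 1) → PolyNodeRing R (p * q) :=
  Pi.single (Fin.castSucc j) (algebraMap R (PolyNodeRing R (p * q)) p) -
    Pi.single (Fin.succ j) (PolyNodeRing.x R (p * q))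

/-- second family of relations -/
noncomputable def relY (p q : R) (n : ℕ) (j : Fin n) : Fin (n + 1) → PolyNodeRing R (p * q) :=
  Pi.single (Fin.castSucc j) (PolyNodeRing.y R (p * q)) -
    Pi.single (Fin.succ j) (algebraMap R (PolyNodeRing R (p * q)) q)

/-- the submodule of relations -/
noncomputable def relN (p q : R) (n : ℕ) :
    Submodule (PolyNodeRing R (p * q)) (Fin (n + 1) → PolyNodeRing R (p * q)) :=
  Submodule.span (PolyNodeRing R (p * q)) (Set.range (relX p q n) ∪ Set.range (relY p q n))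

theorem relX_eq (n i : ℕ) (hi : i < n) :
    relX p q n ⟨i, hi⟩ = sg n i (algebraMap R (PolyNodeRing R (p * q)) p) -
      sg n (i + 1) (PolyNodeRing.x R (p * q)) := by
  have h1 : ((Fin.castSucc (⟨i, hi⟩ : Fin n) : Fin (n + 1)) : ℕ) = i := rfl
  have h2 : ((Fin.succ (⟨i, hi⟩ : Fin n) : Fin (n + 1)) : ℕ) = i + 1 := rfl
  rw [relX, single_eq_sg, single_eq_sg, h1, h2]

theorem relY_eq (n i : ℕ) (hi : i < n) :
    relY p q n ⟨i, hi⟩ = sg n i (PolyNodeRing.y R (p * q)) -
      sg n (i + 1) (algebraMap R (PolyNodeRing R (p * q)) q) := by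
  have h1 : ((Fin.castSucc (⟨i, hi⟩ : Fin n) : Fin (n + 1)) : ℕ) = i := rfl
  have h2 : ((Fin.succ (⟨i, hi⟩ : Fin n) : Fin (n + 1)) : ℕ) = i + 1 := rfl
  rw [relY, single_eq_sg, single_eq_sg, h1, h2]

theorem relX_mem (n : ℕ) (j : Fin n) : relX p q n j ∈ relN p q n :=
  Submodule.subset_span (Or.inl ⟨j, rfl⟩)

theorem relY_mem (n : ℕ) (j : Fin n) : relY p q n j ∈ relN p q n :=
  Submodule.subset_span (Or.inr ⟨j, rfl⟩)

theorem Data.Phi_relX (D : Data p q) (n : ℕ) (j : Fin n) : D.Phi n (relX p q n j) = 0 := by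
  obtain ⟨i, hi⟩ := j
  have e : PolyNodeRing.x R q ^ (n - i) =
      PolyNodeRing.x R q ^ (n - (i + 1)) * PolyNodeRing.x R q := by
    rw [← pow_succ]
    congr 1
    omega
  rw [relX_eq, map_sub, Data.Phi, PhiLin_sg _ _ _ _ n i (show i < n + 1 by omega),
    PhiLin_sg _ _ _ _ n (i + 1) (show i + 1 < n + 1 by omega),
    AlgHom.commutes, AlgHom.commutes, D.hrUx, D.hrVx, Prod.mk_sub_mk, Prod.mk_eq_zero, e]
  constructor
  · ring
  · rw [← xy p]
    ring

theorem Data.Phi_relY (D : Data p q) (n : ℕ) (j : Fin n) : D.Phi n (relY p q n j) = 0 := by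
  obtain ⟨i, hi⟩ := j
  have e : PolyNodeRing.x R q ^ (n - i) =
      PolyNodeRing.x R q ^ (n - (i + 1)) * PolyNodeRing.x R q := by
    rw [← pow_succ]
    congr 1
    omega
  rw [relY_eq, map_sub, Data.Phi, PhiLin_sg _ _ _ _ n i (show i < n + 1 by omega),
    PhiLin_sg _ _ _ _ n (i + 1) (show i + 1 < n + 1 by omega),
    AlgHom.commutes, AlgHom.commutes, D.hrUy, D.hrVy, Prod.mk_sub_mk, Prod.mk_eq_zero, e]
  constructor
  · rw [← xy q]
    ring
  · ring

theorem Data.Phi_of_mem_relN (D : Data p q) (n : ℕ)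
    {ν : Fin (n + 1) → PolyNodeRing R (p * q)} (hν : ν ∈ relN p q n) : D.Phi n ν = 0 := by
  have hν' : ν ∈ Submodule.span (PolyNodeRing R (p * q))
      (Set.range (relX p q n) ∪ Set.range (relY p q n)) := hν
  refine Submodule.span_induction (p := fun e _ => D.Phi n e = 0) ?_ ?_ ?_ ?_ hν'
  · rintro e (⟨j, rfl⟩ | ⟨j, rfl⟩)
    · exact D.Phi_relX n j
    · exact D.Phi_relY n j
  · exact map_zero _
  · intro a b _ _ ha hb
    rw [map_add, ha, hb, add_zero]
  · intro a e _ he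
    rw [Data.Phi] at he
    rw [Data.Phi, PhiLin_asmul, he]
    simp

theorem Data.range_sub (D : Data p q) (n : ℕ) (F : Fin (n + 1) → PolyNodeRing R (p * q)) :
    D.gU (D.Phi n F).1 = LaurentPolynomial.T (n : ℤ) * D.gV (D.Phi n F).2 := by
  have e : D.Phi n F = (∑ i : Fin (n + 1), D.rU (F i) * PolyNodeRing.x R q ^ (n - (i : ℕ)),
        ∑ i : Fin (n + 1), D.rV (F i) * PolyNodeRing.x R p ^ (i : ℕ)) :=
    PhiLin_apply _ _ _ _ n F
  rw [e]
  show D.gU (∑ i : Fin (n + 1), D.rU (F i) * PolyNodeRing.x R q ^ (n - (i : ℕ))) =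
    LaurentPolynomial.T (n : ℤ) *
      D.gV (∑ i : Fin (n + 1), D.rV (F i) * PolyNodeRing.x R p ^ (i : ℕ))
  rw [map_sum, map_sum, Finset.mul_sum]
  refine Finset.sum_congr rfl (fun i _ => ?_)
  have hi : (i : ℕ) ≤ n := Nat.lt_succ_iff.1 i.2
  have e2 : (((n - (i : ℕ) : ℕ) : ℤ) * 1) = (n : ℤ) + ((i : ℕ) : ℤ) * (-1) := by omega
  rw [map_mul D.gU, map_mul D.gV, map_pow D.gU, map_pow D.gV, D.hgUs, D.hgVt, D.gU_rU,
    LaurentPolynomial.T_pow,
    LaurentPolynomial.T_pow, e2, LaurentPolynomial.T_add]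
  ring

theorem Data.mem_range_of (D : Data p q) (n : ℕ) (g : PolyNodeRing R q) (f : PolyNodeRing R p)
    (h : D.gU g = LaurentPolynomial.T (n : ℤ) * D.gV f) :
    ∃ F : Fin (n + 1) → PolyNodeRing R (p * q), D.Phi n F = (g, f) := by
  have hS : ∀ w : ℤ,
      co q g w * q ^ (-w).toNat = co p f ((n : ℤ) - w) * p ^ (w - n).toNat := by
    intro w
    have h1 := D.gU_lc_coeff (co q g) w
    have h2 := D.TgV_lc_coeff n (co p f) w
    rw [lc_co] at h1
    rw [lc_co] at h2
    rw [← h1, ← h2, h]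
  obtain ⟨Λ, hΛ⟩ : ∃ Λ : ℤ →₀ R,
      ∀ w, Λ w = if w ≤ (n : ℤ) then co q g w else co p f ((n : ℤ) - w) := by
    refine ⟨Finsupp.onFinset
      ((co q g).support ∪ (co p f).support.image (fun u => (n : ℤ) - u))
      (fun w => if w ≤ (n : ℤ) then co q g w else co p f ((n : ℤ) - w)) ?_, fun w => rfl⟩
    intro w hw
    have hw' : (if w ≤ (n : ℤ) then co q g w else co p f ((n : ℤ) - w)) ≠ 0 := hw
    rw [Finset.mem_union, Finset.mem_image]
    by_cases hwn : w ≤ (n : ℤ)
    · rw [if_pos hwn] at hw'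
      exact Or.inl (Finsupp.mem_support_iff.2 hw')
    · rw [if_neg hwn] at hw'
      exact Or.inr ⟨(n : ℤ) - w, Finsupp.mem_support_iff.2 hw', by ring⟩
  have h1 : (D.Phi n (Finsupp.linearCombination R (eps0 p q n) Λ)).1 = g := by
    apply co_injective q
    ext w
    rw [D.co_Phi_lc_fst, hΛ]
    by_cases hwn : w ≤ (n : ℤ)
    · have hn : ¬ ((n : ℤ) < w) := not_lt.2 hwn
      rw [if_pos hwn, aw, if_neg hn, mul_one]
    · have hlt : (n : ℤ) < w := not_le.1 hwn
      have e : (-w).toNat = 0 := by omega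
      have h3 := hS w
      rw [e, pow_zero, mul_one] at h3
      rw [if_neg hwn, aw, if_pos hlt, ← h3]
  have h2 : (D.Phi n (Finsupp.linearCombination R (eps0 p q n) Λ)).2 = f := by
    apply co_injective p
    ext u
    rw [D.co_Phi_lc_snd, hΛ]
    have e1 : (n : ℤ) - ((n : ℤ) - u) = u := by ring
    by_cases hu : (n : ℤ) - u ≤ n
    · have hn : ¬ ((n : ℤ) < n - u) := not_lt.2 hu
      have e2 : ((n : ℤ) - u - n).toNat = 0 := by omega
      have h3 := hS ((n : ℤ) - u)
      rw [e1, e2, pow_zero, mul_one] at h3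
      rw [if_pos hu, bw, if_neg hn]
      exact h3
    · have hlt : (n : ℤ) < n - u := not_le.1 hu
      rw [if_neg hu, bw, if_pos hlt, mul_one, e1]
  exact ⟨_, Prod.ext h1 h2⟩

/-! ### the kernel -/

theorem sg_rsmul' (n i : ℕ) (r : R) (a : PolyNodeRing R (p * q)) :
    sg n i (r • a) = r • sg n i a := by
  funext k
  simp only [sg, Pi.smul_apply]
  by_cases h : (k : ℕ) = i
  · rw [if_pos h, if_pos h]
  · rw [if_neg h, if_neg h, smul_zero]

theorem sg_psmul (n i : ℕ) (r : R) (a : PolyNodeRing R (p * q)) :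
    r • sg n i a = sg n i (algebraMap R (PolyNodeRing R (p * q)) r * a) := by
  rw [← sg_rsmul', smul_eq]

theorem relN_rsmul (n : ℕ) (r : R) {v : Fin (n + 1) → PolyNodeRing R (p * q)}
    (hv : v ∈ relN p q n) : r • v ∈ relN p q n := by
  have e : r • v = (algebraMap R (PolyNodeRing R (p * q)) r) • v := by
    funext k
    rw [Pi.smul_apply, Pi.smul_apply, smul_eq, smul_eq_mul]
  rw [e]
  exact Submodule.smul_mem _ _ hv

theorem stepX (n i : ℕ) (hi : i < n) {m : ℤ} (hm : 0 ≤ m) :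
    sg n (i + 1) (bas (p * q) (m + 1)) - p • sg n i (bas (p * q) m) ∈ relN p q n := by
  have h : sg n (i + 1) (bas (p * q) (m + 1)) - p • sg n i (bas (p * q) m) =
      -(bas (p * q) m • relX p q n ⟨i, hi⟩) := by
    rw [relX_eq, smul_sub, sg_asmul, sg_asmul, sg_psmul,
      mul_comm (bas (p * q) m) (PolyNodeRing.x R (p * q)),
      x_mul_bas_nonneg _ hm, mul_comm (bas (p * q) m), neg_sub]
  rw [h]
  exact Submodule.neg_mem _ (Submodule.smul_mem _ _ (relX_mem n _))

theorem stepY (n i : ℕ) (hi : i < n) {m : ℤ} (hm : m ≤ 0) :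
    sg n i (bas (p * q) (m - 1)) - q • sg n (i + 1) (bas (p * q) m) ∈ relN p q n := by
  have h : sg n i (bas (p * q) (m - 1)) - q • sg n (i + 1) (bas (p * q) m) =
      bas (p * q) m • relY p q n ⟨i, hi⟩ := by
    rw [relY_eq, smul_sub, sg_asmul, sg_asmul, sg_psmul,
      mul_comm (bas (p * q) m) (PolyNodeRing.y R (p * q)),
      y_mul_bas_nonpos _ hm, mul_comm (bas (p * q) m)]
  rw [h]
  exact Submodule.smul_mem _ _ (relY_mem n _)

theorem chainX (n k : ℕ) : ∀ (i' : ℕ) (m' : ℤ) (i : ℕ) (m : ℤ), 0 ≤ m' → i = i' + k →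
    m = m' + (k : ℤ) → i ≤ n →
    sg n i (bas (p * q) m) - p ^ k • sg n i' (bas (p * q) m') ∈ relN p q n := by
  induction k with
  | zero =>
    intro i' m' i m _ hi hm _
    have e1 : i = i' := by omega
    have e2 : m = m' := by omega
    subst e1
    subst e2
    rw [pow_zero, one_smul, sub_self]
    exact Submodule.zero_mem _
  | succ k ih =>
    intro i' m' i m hm' hi hm hin
    obtain ⟨j, rfl⟩ : ∃ j, i = j + 1 := ⟨i' + k, by omega⟩
    obtain ⟨l, rfl⟩ : ∃ l, m = l + 1 := ⟨m' + k, by omega⟩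
    have h1 := stepX (p := p) (q := q) n j (show j < n by omega) (show (0 : ℤ) ≤ l by omega)
    have h2 := relN_rsmul n p (ih i' m' j l hm' (by omega) (by omega) (by omega))
    have e : sg n (j + 1) (bas (p * q) (l + 1)) - p ^ (k + 1) • sg n i' (bas (p * q) m') =
        (sg n (j + 1) (bas (p * q) (l + 1)) - p • sg n j (bas (p * q) l)) +
        p • (sg n j (bas (p * q) l) - p ^ k • sg n i' (bas (p * q) m')) := by
      rw [smul_sub, smul_smul, ← pow_succ']
      abel
    rw [e]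
    exact Submodule.add_mem _ h1 h2

theorem chainY (n k : ℕ) : ∀ (i' : ℕ) (m' : ℤ) (i : ℕ) (m : ℤ), m' ≤ 0 → i' = i + k →
    m = m' - (k : ℤ) → i' ≤ n →
    sg n i (bas (p * q) m) - q ^ k • sg n i' (bas (p * q) m') ∈ relN p q n := by
  induction k with
  | zero =>
    intro i' m' i m _ hi hm _
    have e1 : i = i' := by omega
    have e2 : m = m' := by omega
    subst e1
    subst e2
    rw [pow_zero, one_smul, sub_self]
    exact Submodule.zero_mem _
  | succ k ih =>
    intro i' m' i m hm' hi hm hin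
    obtain ⟨l, rfl⟩ : ∃ l, m = l - 1 := ⟨m' - k, by omega⟩
    have h1 := stepY (p := p) (q := q) n i (show i < n by omega) (show l ≤ 0 by omega)
    have h2 := relN_rsmul n q (ih i' m' (i + 1) l hm' (by omega) (by omega) hin)
    have e : sg n i (bas (p * q) (l - 1)) - q ^ (k + 1) • sg n i' (bas (p * q) m') =
        (sg n i (bas (p * q) (l - 1)) - q • sg n (i + 1) (bas (p * q) l)) +
        q • (sg n (i + 1) (bas (p * q) l) - q ^ k • sg n i' (bas (p * q) m')) := by
      rw [smul_sub, smul_smul, ← pow_succ']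
      abel
    rw [e]
    exact Submodule.add_mem _ h1 h2

theorem sg_eq_eps0 (n i' : ℕ) (m' : ℤ) (hi : i' ≤ n)
    (h : (i' = 0 ∧ 0 ≤ m') ∨ (i' = n ∧ m' ≤ 0) ∨ m' = 0) :
    sg n i' (bas (p * q) m') = eps0 p q n (m' + n - i') := by
  obtain ⟨h1, h2⟩ := i0m0_spec n i' m' hi h
  rw [eps0, h1, h2]

theorem nf (n i : ℕ) (hi : i ≤ n) (m : ℤ) :
    ∃ (c : R) (w : ℤ), sg n i (bas (p * q) m) - c • eps0 p q n w ∈ relN p q n := by
  by_cases hm : 0 ≤ m
  · obtain ⟨k, hk⟩ : ∃ k : ℕ, k = min i m.toNat := ⟨_, rfl⟩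
    have h1 := chainX (p := p) (q := q) n k (i - k) (m - k) i m
      (by omega) (by omega) (by omega) hi
    rw [sg_eq_eps0 n (i - k) (m - k) (by omega) (by omega)] at h1
    exact ⟨_, _, h1⟩
  · obtain ⟨k, hk⟩ : ∃ k : ℕ, k = min (n - i) (-m).toNat := ⟨_, rfl⟩
    have h1 := chainY (p := p) (q := q) n k (i + k) (m + k) i m
      (by omega) (by omega) (by omega) (by omega)
    rw [sg_eq_eps0 n (i + k) (m + k) (by omega) (by omega)] at h1
    exact ⟨_, _, h1⟩

/-- the `R`-submodule generated by the relations and the normal forms -/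
noncomputable def MM (p q : R) (n : ℕ) : Submodule R (Fin (n + 1) → PolyNodeRing R (p * q)) :=
  (relN p q n).restrictScalars R ⊔ Submodule.span R (Set.range (eps0 p q n))

theorem sg_bas_mem (n i : ℕ) (hi : i ≤ n) (m : ℤ) : sg n i (bas (p * q) m) ∈ MM p q n := by
  obtain ⟨c, w, h⟩ := nf (p := p) (q := q) n i hi m
  have h1 : sg n i (bas (p * q) m) - c • eps0 p q n w ∈ MM p q n :=
    Submodule.mem_sup_left ((Submodule.restrictScalars_mem R _ _).2 h)
  have h2 : c • eps0 p q n w ∈ MM p q n :=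
    Submodule.mem_sup_right (Submodule.smul_mem _ _ (Submodule.subset_span ⟨w, rfl⟩))
  have h3 := Submodule.add_mem _ h1 h2
  rwa [sub_add_cancel] at h3

theorem sg_mem (n i : ℕ) (hi : i ≤ n) (a : PolyNodeRing R (p * q)) :
    sg n i a ∈ MM p q n := by
  refine Submodule.span_induction (p := fun a _ => sg n i a ∈ MM p q n) ?_ ?_ ?_ ?_
    (span_bas (p * q) a)
  · rintro _ ⟨m, rfl⟩
    exact sg_bas_mem n i hi m
  · rw [sg_zero]
    exact Submodule.zero_mem _
  · intro a b _ _ ha hb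
    rw [sg_add]
    exact Submodule.add_mem _ ha hb
  · intro r a _ ha
    rw [sg_rsmul']
    exact Submodule.smul_mem _ r ha

theorem all_mem (n : ℕ) (F : Fin (n + 1) → PolyNodeRing R (p * q)) : F ∈ MM p q n := by
  have e : (∑ i : Fin (n + 1), sg n (i : ℕ) (F i)) = F :=
    (Finset.sum_congr rfl (fun i _ => (single_eq_sg n i (F i)).symm)).trans
      (Finset.univ_sum_single F)
  have h : (∑ i : Fin (n + 1), sg n (i : ℕ) (F i)) ∈ MM p q n :=
    sum_mem (fun i _ => sg_mem n i (Nat.lt_succ_iff.1 i.2) (F i))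
  rwa [e] at h

theorem Data.ker_sub (D : Data p q) (n : ℕ) (F : Fin (n + 1) → PolyNodeRing R (p * q))
    (hF : D.Phi n F = 0) : F ∈ relN p q n := by
  have hall : F ∈ (relN p q n).restrictScalars R ⊔
      Submodule.span R (Set.range (eps0 p q n)) := all_mem n F
  obtain ⟨ν, hν, e, he, hsum⟩ := Submodule.mem_sup.1 hall
  obtain ⟨Λ, hΛ⟩ := Finsupp.mem_span_range_iff_exists_finsupp.1 he
  rw [← Finsupp.linearCombination_apply] at hΛ
  have hν' : ν ∈ relN p q n := (Submodule.restrictScalars_mem R _ _).1 hν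
  have hPe : D.Phi n (Finsupp.linearCombination R (eps0 p q n) Λ) = 0 := by
    have h1 : D.Phi n F = D.Phi n ν + D.Phi n e := by rw [← hsum, map_add]
    rw [hF, D.Phi_of_mem_relN n hν', zero_add, ← hΛ] at h1
    exact h1.symm
  have hΛ0 : Λ = 0 := by
    ext w
    change Λ w = 0
    have h1 : Λ w * aw p n w = 0 := by
      rw [← D.co_Phi_lc_fst n Λ w, hPe]
      simp
    have h2 : Λ w * bw q n w = 0 := by
      have h := D.co_Phi_lc_snd n Λ ((n : ℤ) - w)
      have e1 : (n : ℤ) - ((n : ℤ) - w) = w := by ring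
      rw [hPe, e1] at h
      rw [← h]
      simp
    by_cases hw : (n : ℤ) < w
    · have hb : bw q n w = 1 := by rw [bw, if_pos hw]
      rw [hb, mul_one] at h2
      exact h2
    · have ha : aw p n w = 1 := by rw [aw, if_neg hw]
      rw [ha, mul_one] at h1
      exact h1
  rw [hΛ0, map_zero] at hΛ
  rw [← hsum, ← hΛ, add_zero]
  exact hν'

end Groth.Agent.Helper22.PolyNode
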