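import Mathlib
import Groth.Agent.Lib.Helper22.PowTors

/-! More on base change of power-torsion modules (helper22). -/

open scoped TensorProduct

universe u v

namespace Groth.Agent.Helper22.PowTors

theorem eq_zero_of_tmul_eq_zero {R S : Type u} [CommRing R] [CommRing S] [Algebra R S]
    [Module.Flat R S] (I : Ideal R)
    (hq : Function.Bijective (Ideal.quotientMap (I.map (algebraMap R S)) (algebraMap R S)
      Ideal.le_comap_map))
    (M : Type v) [AddCommGroup M] [Module R M] (m : M)
    (hm : ∃ n : ℕ, ∀ a ∈ I ^ n, a • m = 0) (h : (1 : S) ⊗ₜ[R] m = 0) : m = 0 := by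
  obtain ⟨n, hn'⟩ := hm
  have hn : ∀ a ∈ I ^ (n + 1), a • m = 0 :=
    fun a ha => hn' a (Ideal.pow_le_pow_right (Nat.le_succ n) ha)
  set N := Submodule.torsionBySet R M ((I ^ (n + 1) : Ideal R) : Set R) with hNdef
  have hNmem : ∀ x : M, x ∈ N ↔ ∀ a ∈ I ^ (n + 1), a • x = 0 := by
    intro x
    rw [hNdef, Submodule.mem_torsionBySet_iff]
    exact ⟨fun h a ha => h ⟨a, ha⟩, fun h a => h a.1 a.2⟩
  have hbij : Function.Bijective (TensorProduct.mk R S N 1) := by
    apply bij_of_killed_pow I hq n
    intro a ha x
    apply Subtype.ext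
    exact (hNmem x).1 x.2 a ha
  have hmN : m ∈ N := (hNmem m).2 hn
  have hflat : Function.Injective (LinearMap.lTensor S N.subtype) :=
    Module.Flat.lTensor_preserves_injective_linearMap N.subtype N.injective_subtype
  have h5 : LinearMap.lTensor S N.subtype ((1 : S) ⊗ₜ[R] (⟨m, hmN⟩ : N)) = 0 := by
    rw [LinearMap.lTensor_tmul]
    exact h
  have h6 : (1 : S) ⊗ₜ[R] (⟨m, hmN⟩ : N) = 0 := hflat (h5.trans (map_zero _).symm)
  have h7 : (⟨m, hmN⟩ : N) = 0 :=
    hbij.1 (h6.trans (map_zero (TensorProduct.mk R S N 1)).symm)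
  exact congrArg Subtype.val h7

theorem exists_of_killed {R S : Type u} [CommRing R] [CommRing S] [Algebra R S]
    [Module.Flat R S] (I : Ideal R) (hI : I.FG)
    (hq : Function.Bijective (Ideal.quotientMap (I.map (algebraMap R S)) (algebraMap R S)
      Ideal.le_comap_map))
    (N : Type v) [AddCommGroup N] [Module R N] (n : ℕ) (z : S ⊗[R] N)
    (hz : ∀ a ∈ I ^ n, a • z = 0) :
    ∃ y : N, (∀ a ∈ I ^ n, a • y = 0) ∧ (1 : S) ⊗ₜ[R] y = z := by
  classical
  cases n with
  | zero =>
    have h1 : (1 : R) ∈ I ^ 0 := by rw [pow_zero, Ideal.one_eq_top]; trivial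
    have hz0 : z = 0 := by
      have := hz 1 h1
      rwa [one_smul] at this
    exact ⟨0, fun a _ => smul_zero a, by rw [hz0, TensorProduct.tmul_zero]⟩
  | succ n =>
    obtain ⟨k, a, ha⟩ := Submodule.fg_iff_exists_fin_generating_family.1 (hI.pow (n := n + 1))
    have hamem : ∀ i, a i ∈ I ^ (n + 1) := by
      intro i
      rw [← ha]
      exact Submodule.subset_span ⟨i, rfl⟩
    let φ : N →ₗ[R] (Fin k → N) := LinearMap.pi (fun i => LinearMap.lsmul R N (a i))
    have hφ : ∀ y i, φ y i = a i • y := fun y i => rfl
    have hker : ∀ y : N, y ∈ LinearMap.ker φ ↔ ∀ b ∈ I ^ (n + 1), b • y = 0 := by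
      intro y
      constructor
      · intro hy b hb
        rw [LinearMap.mem_ker] at hy
        rw [← ha] at hb
        refine Submodule.span_induction ?_ ?_ ?_ ?_ hb
        · rintro _ ⟨i, rfl⟩
          have := congrFun hy i
          rwa [hφ] at this
        · exact zero_smul _ _
        · intro x x' _ _ hx hx'
          rw [add_smul, hx, hx', add_zero]
        · intro c x _ hx
          rw [smul_eq_mul, mul_smul, hx, smul_zero]
      · intro hy
        rw [LinearMap.mem_ker]
        funext i
        rw [hφ]
        exact hy _ (hamem i)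
    have hcomp : ∀ w : S ⊗[R] N,
        TensorProduct.piRight R S S (fun _ : Fin k => N) (LinearMap.lTensor S φ w) =
          fun i => a i • w := by
      intro w
      induction w using TensorProduct.induction_on with
      | zero =>
        funext i
        simp
      | tmul s y =>
        funext i
        rw [LinearMap.lTensor_tmul, TensorProduct.piRight_apply, TensorProduct.piRightHom_tmul]
        show s ⊗ₜ[R] φ y i = a i • s ⊗ₜ[R] y
        rw [hφ, TensorProduct.tmul_smul]
      | add x y hx hy =>
        rw [map_add, map_add, hx, hy]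
        funext i
        simp [smul_add]
    have hφz : LinearMap.lTensor S φ z = 0 := by
      apply (TensorProduct.piRight R S S (fun _ : Fin k => N)).injective
      rw [hcomp, map_zero]
      funext i
      exact hz _ (hamem i)
    have hex : Function.Exact (LinearMap.lTensor S (LinearMap.ker φ).subtype)
        (LinearMap.lTensor S φ) :=
      Module.Flat.lTensor_exact S (LinearMap.exact_subtype_ker_map φ)
    obtain ⟨w, hw⟩ := (hex z).1 hφz
    have hbij : Function.Bijective (TensorProduct.mk R S (LinearMap.ker φ) 1) := by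
      apply bij_of_killed_pow I hq n
      intro b hb x
      apply Subtype.ext
      exact (hker x).1 x.2 b hb
    obtain ⟨y', hy'⟩ := hbij.2 w
    refine ⟨(y' : N), (hker y').1 y'.2, ?_⟩
    rw [← hw, ← hy']
    rfl

end Groth.Agent.Helper22.PowTors
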