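import Mathlib
import Groth.Prelude.Def_FrobAlg

/-!
# Base change to the perfect closure commutes with jointly injective families
(when the Frobenius of `R` is projective): the perfect closure is a Mittag-Leffler module.
-/

set_option autoImplicit false

universe u

open TensorProduct

namespace Groth.Agent.Helper22.PrePerf

section General

variable {R : Type*} [CommRing R]

theorem eq_zero_of_lTensor_finsupp {J : Type*} {K : Type*} [AddCommGroup K] [Module R K]
    {ι : Type*} {M : ι → Type*} [∀ i, AddCommGroup (M i)] [∀ i, Module R (M i)]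
    (π : ∀ i, K →ₗ[R] M i) (hπ : ∀ k : K, (∀ i, π i k = 0) → k = 0)
    (z : (J →₀ R) ⊗[R] K) (hz : ∀ i, (π i).lTensor (J →₀ R) z = 0) : z = 0 := by
  classical
  have key : ∀ (i : ι) (w : (J →₀ R) ⊗[R] K) (j : J),
      TensorProduct.finsuppScalarLeft R (M i) J ((π i).lTensor (J →₀ R) w) j =
        π i (TensorProduct.finsuppScalarLeft R K J w j) := by
    intro i w j
    induction w using TensorProduct.induction_on with
    | zero => simp
    | tmul f k =>
      rw [LinearMap.lTensor_tmul, TensorProduct.finsuppScalarLeft_apply_tmul_apply,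
        TensorProduct.finsuppScalarLeft_apply_tmul_apply, map_smul]
    | add x y hx hy => simp only [map_add, Finsupp.add_apply, hx, hy]
  apply (TensorProduct.finsuppScalarLeft R K J).injective
  rw [map_zero]
  refine Finsupp.ext fun j => ?_
  show (TensorProduct.finsuppScalarLeft R K J z) j = 0
  apply hπ
  intro i
  rw [← key, hz i, map_zero]
  rfl

theorem eq_zero_of_lTensor_projective {P : Type*} [AddCommGroup P] [Module R P]
    [Module.Projective R P]
    {K : Type*} [AddCommGroup K] [Module R K]
    {ι : Type*} {M : ι → Type*} [∀ i, AddCommGroup (M i)] [∀ i, Module R (M i)]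
    (π : ∀ i, K →ₗ[R] M i) (hπ : ∀ k : K, (∀ i, π i k = 0) → k = 0)
    (z : P ⊗[R] K) (hz : ∀ i, (π i).lTensor P z = 0) : z = 0 := by
  obtain ⟨s, hs⟩ := (Module.projective_def' (R := R) (P := P)).1 inferInstance
  have h1 : s.rTensor K z = 0 := by
    apply eq_zero_of_lTensor_finsupp π hπ
    intro i
    have : ∀ w : P ⊗[R] K, (π i).lTensor (P →₀ R) (s.rTensor K w) =
        s.rTensor (M i) ((π i).lTensor P w) := by
      intro w
      induction w using TensorProduct.induction_on with
      | zero => simp
      | tmul a b => simp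
      | add x y hx hy => simp only [map_add, hx, hy]
    rw [this, hz i, map_zero]
  have h2 : (Finsupp.linearCombination R id).rTensor K (s.rTensor K z) = z := by
    rw [← LinearMap.comp_apply, ← LinearMap.rTensor_comp, hs, LinearMap.rTensor_id,
      LinearMap.id_apply]
  rw [← h2, h1, map_zero]

/-- A module that is a countable increasing union of images of projective modules mapping
purely into it preserves joint injectivity of families of maps. -/
theorem injective_pi_lTensor {R' : Type*} [AddCommGroup R'] [Module R R']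
    {K : Type*} [AddCommGroup K] [Module R K]
    {ι : Type*} {M : ι → Type*} [∀ i, AddCommGroup (M i)] [∀ i, Module R (M i)]
    (π : ∀ i, K →ₗ[R] M i) (hπ : ∀ k : K, (∀ i, π i k = 0) → k = 0)
    (P : ℕ → Type*) [∀ n, AddCommGroup (P n)] [∀ n, Module R (P n)]
    (hproj : ∀ n, Module.Projective R (P n))
    (ιn : ∀ n, P n →ₗ[R] R')
    (hmono : ∀ n, LinearMap.range (ιn n) ≤ LinearMap.range (ιn (n + 1)))
    (hcov : ∀ r : R', ∃ n, r ∈ LinearMap.range (ιn n))
    (hpure : ∀ n i, Function.Injective ((ιn n).rTensor (M i))) :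
    Function.Injective (LinearMap.pi fun i => (π i).lTensor R') := by
  have hmono' : Monotone fun n => LinearMap.range (ιn n) := monotone_nat_of_le_succ hmono
  have hmonoT : ∀ n m, n ≤ m →
      LinearMap.range ((ιn n).rTensor K) ≤ LinearMap.range ((ιn m).rTensor K) := by
    rintro n m hnm _ ⟨y, rfl⟩
    induction y using TensorProduct.induction_on with
    | zero => rw [map_zero]; exact zero_mem _
    | tmul a k =>
      obtain ⟨b, hb⟩ := hmono' hnm (LinearMap.mem_range_self (ιn n) a)
      exact ⟨b ⊗ₜ k, by rw [LinearMap.rTensor_tmul, LinearMap.rTensor_tmul, hb]⟩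
    | add x y hx hy => rw [map_add]; exact add_mem hx hy
  have hcovT : ∀ x : R' ⊗[R] K, ∃ n, x ∈ LinearMap.range ((ιn n).rTensor K) := by
    intro x
    induction x using TensorProduct.induction_on with
    | zero => exact ⟨0, zero_mem _⟩
    | tmul r k =>
      obtain ⟨n, a, ha⟩ := hcov r
      exact ⟨n, a ⊗ₜ k, by rw [LinearMap.rTensor_tmul, ha]⟩
    | add x y hx hy =>
      obtain ⟨n, hn⟩ := hx
      obtain ⟨m, hm⟩ := hy
      exact ⟨max n m, add_mem (hmonoT n _ (le_max_left n m) hn)
        (hmonoT m _ (le_max_right n m) hm)⟩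
  rw [injective_iff_map_eq_zero]
  intro x hx
  obtain ⟨n, y, rfl⟩ := hcovT x
  have hx' : ∀ i, (π i).lTensor R' ((ιn n).rTensor K y) = 0 := fun i => congrFun hx i
  haveI := hproj n
  have hy : y = 0 := by
    apply eq_zero_of_lTensor_projective π hπ
    intro i
    apply hpure n i
    rw [map_zero]
    have : ∀ w : P n ⊗[R] K, (ιn n).rTensor (M i) ((π i).lTensor (P n) w) =
        (π i).lTensor R' ((ιn n).rTensor K w) := by
      intro w
      induction w using TensorProduct.induction_on with
      | zero => simp
      | tmul a b => simp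
      | add x y hx hy => simp only [map_add, hx, hy]
    rw [this, hx' i]
  rw [hy, map_zero]

/-- Projectivity is transitive along a ring map. -/
theorem projective_trans (R T P : Type*) [CommRing R] [CommRing T] [Algebra R T]
    [AddCommGroup P] [Module R P] [Module T P] [IsScalarTower R T P]
    [Module.Projective R T] [Module.Projective T P] : Module.Projective R P := by
  classical
  obtain ⟨s, hs⟩ := (Module.projective_def' (R := T) (P := P)).1 inferInstance
  haveI : Module.Projective R (P →₀ T) :=
    Module.Projective.of_equiv' (finsuppLequivDFinsupp R).symm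
  refine Module.Projective.of_split (R := R) (M := P →₀ T) (s.restrictScalars R)
    ((Finsupp.linearCombination T id).restrictScalars R) ?_
  ext x
  exact LinearMap.congr_fun hs x

end General

section Specific

set_option linter.unusedVariables false in
/-- A copy of `R`, an `R`-algebra through the `n`-th iterate of Frobenius. -/
def Pn (p : ℕ) (R : Type u) (n : ℕ) : Type u := R

variable (p : ℕ) [Fact p.Prime] (R : Type u) [CommRing R] [CharP R p]

instance (n : ℕ) : CommRing (Pn p R n) := inferInstanceAs (CommRing R)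

/-- identity of underlying rings -/
def toPn (n : ℕ) : R ≃+* Pn p R n := RingEquiv.refl R

instance algPn (n : ℕ) : Algebra R (Pn p R n) :=
  ((toPn p R n : R →+* Pn p R n).comp (iterateFrobenius R p n)).toAlgebra

theorem algebraMap_Pn (n : ℕ) (s : R) :
    algebraMap R (Pn p R n) s = toPn p R n (s ^ p ^ n) := rfl

theorem mk_shift (n k : ℕ) (r : R) :
    PerfectClosure.mk R p (n + k, r ^ p ^ k) = PerfectClosure.mk R p (n, r) := by
  induction k with
  | zero => simp
  | succ k ih =>
    rw [pow_succ, pow_mul, ← ih]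
    exact PerfectClosure.mk_succ_pow R p (n + k) (r ^ p ^ k)

/-- the canonical map from the `n`-th copy to the perfect closure: `r ↦ r^{1/p^n}` -/
noncomputable def phi (n : ℕ) : Pn p R n →+* PerfectClosure R p :=
  ((iterateFrobeniusEquiv (PerfectClosure R p) p n).symm :
      PerfectClosure R p →+* PerfectClosure R p).comp
    ((PerfectClosure.of R p).comp ((toPn p R n).symm : Pn p R n →+* R))

theorem phi_apply (n : ℕ) (r : R) :
    phi p R n (toPn p R n r) = PerfectClosure.mk R p (n, r) := by
  show (iterateFrobeniusEquiv (PerfectClosure R p) p n).symm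
    (PerfectClosure.of R p ((toPn p R n).symm (toPn p R n r))) = _
  rw [RingEquiv.symm_apply_apply, RingEquiv.symm_apply_eq, iterateFrobeniusEquiv_def,
    ← iterate_frobenius, PerfectClosure.iterate_frobenius_mk]

/-- `R → R^{perf}` as an algebra -/
@[reducible] noncomputable def algPC : Algebra R (PerfectClosure R p) :=
  (PerfectClosure.of R p).toAlgebra

/-- `P_n → R^{perf}` as an algebra -/
@[reducible] noncomputable def algPnPC (n : ℕ) : Algebra (Pn p R n) (PerfectClosure R p) :=
  (phi p R n).toAlgebra

attribute [local instance] algPC algPnPC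

instance towerPC (n : ℕ) : IsScalarTower R (Pn p R n) (PerfectClosure R p) :=
  IsScalarTower.of_algebraMap_eq fun s => by
    show PerfectClosure.of R p s = phi p R n (algebraMap R (Pn p R n) s)
    rw [algebraMap_Pn, phi_apply, PerfectClosure.of_apply]
    have := mk_shift p R 0 n s
    rw [zero_add] at this
    exact this.symm

/-- the `R`-algebra map `P_n → R^{perf}` -/
noncomputable def iotaA (n : ℕ) : Pn p R n →ₐ[R] PerfectClosure R p :=
  IsScalarTower.toAlgHom R (Pn p R n) (PerfectClosure R p)

theorem iotaA_apply (n : ℕ) (y : Pn p R n) : iotaA p R n y = phi p R n y := rfl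

/-- the transition maps `P_n → P_{n+z}`, `r ↦ r^{p^z}` -/
noncomputable def trans (n z : ℕ) : Pn p R n →ₐ[R] Pn p R (n + z) where
  toRingHom := ((toPn p R (n + z) : R →+* Pn p R (n + z)).comp (iterateFrobenius R p z)).comp
    ((toPn p R n).symm : Pn p R n →+* R)
  commutes' s := by
    show toPn p R (n + z) (((toPn p R n).symm (algebraMap R (Pn p R n) s)) ^ p ^ z) =
      algebraMap R (Pn p R (n + z)) s
    rw [algebraMap_Pn, algebraMap_Pn, RingEquiv.symm_apply_apply, ← pow_mul, ← pow_add]

theorem trans_apply (n z : ℕ) (r : R) :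
    trans p R n z (toPn p R n r) = toPn p R (n + z) (r ^ p ^ z) := by
  show toPn p R (n + z) (((toPn p R n).symm (toPn p R n r)) ^ p ^ z) = _
  rw [RingEquiv.symm_apply_apply]

theorem iotaA_trans (n z : ℕ) (y : Pn p R n) :
    iotaA p R (n + z) (trans p R n z y) = iotaA p R n y := by
  obtain ⟨r, rfl⟩ := (toPn p R n).surjective y
  rw [trans_apply, iotaA_apply, iotaA_apply, phi_apply, phi_apply, mk_shift]

theorem mk_eq_zero (n : ℕ) (s : R) (h : PerfectClosure.mk R p (n, s) = 0) :
    ∃ z : ℕ, s ^ p ^ z = 0 := by
  rw [← PerfectClosure.mk_zero_right R p n] at h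
  obtain ⟨z, hz⟩ := (PerfectClosure.mk_eq_iff R p (n, s) (n, 0)).1 h
  refine ⟨n + z, ?_⟩
  dsimp only at hz
  rw [iterate_frobenius, iterate_frobenius,
    zero_pow (pow_ne_zero _ (Fact.out : p.Prime).ne_zero)] at hz
  exact hz

theorem ker_iotaA (n : ℕ) (y : Pn p R n) (h : iotaA p R n y = 0) :
    ∃ z, trans p R n z y = 0 := by
  obtain ⟨r, rfl⟩ := (toPn p R n).surjective y
  rw [iotaA_apply, phi_apply] at h
  obtain ⟨z, hz⟩ := mk_eq_zero p R n r h
  exact ⟨z, by rw [trans_apply, hz, map_zero]⟩

theorem range_iotaA_mono : Monotone fun n => LinearMap.range (iotaA p R n).toLinearMap := by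
  apply monotone_nat_of_le_succ
  rintro n _ ⟨y, rfl⟩
  exact ⟨trans p R n 1 y, iotaA_trans p R n 1 y⟩

theorem exists_mem_range_iotaA (x : PerfectClosure R p) :
    ∃ n, x ∈ LinearMap.range (iotaA p R n).toLinearMap := by
  induction x using PerfectClosure.induction_on with
  | _ x =>
    obtain ⟨n, r⟩ := x
    exact ⟨n, toPn p R n r, phi_apply p R n r⟩

theorem flat_PC (hfl : ∀ n, Module.Flat R (Pn p R n)) : Module.Flat R (PerfectClosure R p) := by
  apply Module.Flat.of_forall_isTrivialRelation
  intro l f x hfx
  have hlev : ∃ N, ∀ i, x i ∈ LinearMap.range (iotaA p R N).toLinearMap := by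
    choose n hn using fun i => exists_mem_range_iotaA p R (x i)
    exact ⟨Finset.univ.sup n, fun i =>
      range_iotaA_mono p R (Finset.le_sup (Finset.mem_univ i)) (hn i)⟩
  obtain ⟨N, hN⟩ := hlev
  choose y hy using hN
  have hy' : ∀ i, iotaA p R N (y i) = x i := hy
  have h0 : iotaA p R N (∑ i, f i • y i) = 0 := by
    rw [map_sum, ← hfx]
    refine Finset.sum_congr rfl fun i _ => ?_
    rw [map_smul, hy' i]
  obtain ⟨z, hz⟩ := ker_iotaA p R N _ h0
  have hrel : ∑ i, f i • trans p R N z (y i) = 0 := by
    rw [← hz, map_sum]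
    refine Finset.sum_congr rfl fun i _ => ?_
    rw [map_smul]
  haveI := hfl (N + z)
  obtain ⟨k, a, y', hxy, hfa⟩ := Module.Flat.isTrivialRelation_of_sum_smul_eq_zero (R := R)
    (M := Pn p R (N + z)) (f := f) (x := fun i => trans p R N z (y i)) hrel
  refine ⟨k, a, fun j => iotaA p R (N + z) (y' j), fun i => ?_, hfa⟩
  have h3 := congrArg (iotaA p R (N + z)) (hxy i)
  rw [iotaA_trans, map_sum, hy' i] at h3
  refine h3.trans (Finset.sum_congr rfl fun j _ => ?_)
  rw [map_smul]

theorem isIntegral_of' : (PerfectClosure.of R p).IsIntegral := by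
  intro y
  induction y using PerfectClosure.induction_on with
  | _ x =>
    obtain ⟨n, a⟩ := x
    refine ⟨Polynomial.X ^ (p ^ n) - Polynomial.C a,
      Polynomial.monic_X_pow_sub_C a (pow_ne_zero n (Fact.out : p.Prime).ne_zero), ?_⟩
    rw [Polynomial.eval₂_sub, Polynomial.eval₂_pow, Polynomial.eval₂_X, Polynomial.eval₂_C,
      sub_eq_zero, ← PerfectClosure.iterate_frobenius_mk R p n a, iterate_frobenius]

theorem faithfullyFlat_of (hfl : ∀ n, Module.Flat R (Pn p R n)) :
    (PerfectClosure.of R p).FaithfullyFlat := by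
  rw [RingHom.FaithfullyFlat.iff_flat_and_comap_surjective]
  refine ⟨flat_PC p R hfl, fun P => ?_⟩
  haveI : Algebra.IsIntegral R (PerfectClosure R p) := ⟨fun x => isIntegral_of' p R x⟩
  obtain ⟨Q, -, hQ, hQP⟩ := Ideal.exists_ideal_over_prime_of_isIntegral P.asIdeal
    (⊥ : Ideal (PerfectClosure R p)) (by
      intro r hr
      have h0 : PerfectClosure.of R p r = 0 := Ideal.mem_bot.1 (Ideal.mem_comap.1 hr)
      rw [PerfectClosure.of_apply] at h0
      obtain ⟨z, hz⟩ := mk_eq_zero p R 0 r h0
      exact P.isPrime.mem_of_pow_mem _ (hz ▸ P.asIdeal.zero_mem))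
  exact ⟨⟨Q, hQ⟩, PrimeSpectrum.ext hQP⟩

theorem faithfullyFlat_phi (hfl : ∀ n, Module.Flat R (Pn p R n)) (n : ℕ) :
    Module.FaithfullyFlat (Pn p R n) (PerfectClosure R p) := by
  have h1 : ((toPn p R n).symm : Pn p R n →+* R).FaithfullyFlat :=
    .of_bijective (toPn p R n).symm.bijective
  have h2 := faithfullyFlat_of p R hfl
  have h3 : ((iterateFrobeniusEquiv (PerfectClosure R p) p n).symm :
      PerfectClosure R p →+* PerfectClosure R p).FaithfullyFlat :=
    .of_bijective (RingEquiv.bijective _)
  exact RingHom.FaithfullyFlat.stableUnderComposition _ _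
    (RingHom.FaithfullyFlat.stableUnderComposition _ _ h1 h2) h3

theorem hpure (hfl : ∀ n, Module.Flat R (Pn p R n)) (n : ℕ)
    (N : Type*) [AddCommGroup N] [Module R N] :
    Function.Injective ((iotaA p R n).toLinearMap.rTensor N) := by
  haveI := faithfullyFlat_phi p R hfl n
  have h1 := Module.FaithfullyFlat.tensorProduct_mk_injective (A := Pn p R n)
    (B := PerfectClosure R p) (Pn p R n ⊗[R] N)
  let e := TensorProduct.AlgebraTensorModule.cancelBaseChange R (Pn p R n) (Pn p R n)
    (PerfectClosure R p) N
  have h2 : ∀ w : Pn p R n ⊗[R] N, (iotaA p R n).toLinearMap.rTensor N w =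
      e (TensorProduct.mk (Pn p R n) (PerfectClosure R p) (Pn p R n ⊗[R] N) 1 w) := by
    intro w
    induction w using TensorProduct.induction_on with
    | zero => simp
    | tmul a b =>
      rw [LinearMap.rTensor_tmul, TensorProduct.mk_apply,
        TensorProduct.AlgebraTensorModule.cancelBaseChange_tmul]
      show (algebraMap (Pn p R n) (PerfectClosure R p) a) ⊗ₜ[R] b =
        (a • (1 : PerfectClosure R p)) ⊗ₜ[R] b
      rw [Algebra.algebraMap_eq_smul_one]
    | add x y hx hy => simp only [map_add, hx, hy]
  intro w1 w2 h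
  apply h1
  apply e.injective
  rw [← h2, ← h2]
  exact h

theorem projective_Pn [Module.Projective R (FrobAlg.Twist p R)] :
    ∀ n, Module.Projective R (Pn p R n) := by
  intro n
  induction n with
  | zero =>
    let e : R ≃ₗ[R] Pn p R 0 := (toPn p R 0).toAddEquiv.toLinearEquiv (fun r x => by
      show toPn p R 0 (r • x) = r • toPn p R 0 x
      rw [smul_eq_mul, map_mul, Algebra.smul_def, algebraMap_Pn, pow_zero, pow_one])
    exact Module.Projective.of_equiv' e
  | succ n ih =>
    haveI := ih
    let ψ : FrobAlg.Twist p R →+* Pn p R (n + 1) :=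
      ((toPn p R (n + 1) : R →+* Pn p R (n + 1)).comp (iterateFrobenius R p n)).comp
        ((FrobAlg.toTwist p R).symm : FrobAlg.Twist p R →+* R)
    letI : Algebra (FrobAlg.Twist p R) (Pn p R (n + 1)) := ψ.toAlgebra
    have hψ : ∀ r : R, ψ (FrobAlg.toTwist p R r) = toPn p R (n + 1) (r ^ p ^ n) := by
      intro r
      show toPn p R (n + 1) (((FrobAlg.toTwist p R).symm (FrobAlg.toTwist p R r)) ^ p ^ n) = _
      rw [RingEquiv.symm_apply_apply]
    haveI : IsScalarTower R (FrobAlg.Twist p R) (Pn p R (n + 1)) :=
      IsScalarTower.of_algebraMap_eq fun r => by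
        show algebraMap R (Pn p R (n + 1)) r = ψ (algebraMap R (FrobAlg.Twist p R) r)
        rw [FrobAlg.algebraMap_twist, hψ, algebraMap_Pn, ← pow_mul, pow_succ']
    haveI i1 : RingHomInvPair (FrobAlg.toTwist p R : R →+* FrobAlg.Twist p R)
        ((FrobAlg.toTwist p R).symm : FrobAlg.Twist p R →+* R) :=
      RingHomInvPair.of_ringEquiv _
    haveI i2 : RingHomInvPair ((FrobAlg.toTwist p R).symm : FrobAlg.Twist p R →+* R)
        (FrobAlg.toTwist p R : R →+* FrobAlg.Twist p R) :=
      RingHomInvPair.of_ringEquiv_symm _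
    let e₂ : Pn p R n ≃ₛₗ[(FrobAlg.toTwist p R : R →+* FrobAlg.Twist p R)] Pn p R (n + 1) :=
      { toFun := fun x => toPn p R (n + 1) ((toPn p R n).symm x)
        invFun := fun y => toPn p R n ((toPn p R (n + 1)).symm y)
        map_add' := fun x y => by rw [map_add, map_add]
        map_smul' := fun r x => by
          obtain ⟨x, rfl⟩ := (toPn p R n).surjective x
          show toPn p R (n + 1) ((toPn p R n).symm (r • toPn p R n x)) =
            ψ (FrobAlg.toTwist p R r) * toPn p R (n + 1) ((toPn p R n).symm (toPn p R n x))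
          rw [hψ, Algebra.smul_def, algebraMap_Pn, ← map_mul, RingEquiv.symm_apply_apply,
            RingEquiv.symm_apply_apply, map_mul]
        left_inv := fun x => by simp
        right_inv := fun y => by simp }
    haveI : Module.Projective (FrobAlg.Twist p R) (Pn p R (n + 1)) :=
      Module.Projective.of_equiv e₂
    exact projective_trans R (FrobAlg.Twist p R) (Pn p R (n + 1))

/-- The perfect closure of `R` (Frobenius projective) preserves joint injectivity of families. -/
theorem main' [Module.Projective R (FrobAlg.Twist p R)]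
    {K : Type*} [AddCommGroup K] [Module R K]
    {ι : Type*} {M : ι → Type*} [∀ i, AddCommGroup (M i)] [∀ i, Module R (M i)]
    (π : ∀ i, K →ₗ[R] M i) (hπ : ∀ k : K, (∀ i, π i k = 0) → k = 0) :
    Function.Injective (LinearMap.pi fun i => (π i).lTensor (PerfectClosure R p)) := by
  have hproj := projective_Pn p R
  have hfl : ∀ n, Module.Flat R (Pn p R n) := fun n => by
    haveI := hproj n
    infer_instance
  exact injective_pi_lTensor π hπ (fun n => Pn p R n) hproj
    (fun n => (iotaA p R n).toLinearMap)
    (fun n => range_iotaA_mono p R (Nat.le_succ n)) (exists_mem_range_iotaA p R)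
    (fun n i => hpure p R hfl n (M i))

end Specific

end Groth.Agent.Helper22.PrePerf
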