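import Mathlib
import Groth.Prelude.Def_CohB1
import Groth.Agent.Lib.Helper22.CoHt
import Groth.Agent.Lib.Helper14.CMCatenary
import Groth.Agent.Lib.Lead.RLR7

/-!
# Dimension theory of closed subsets of the projective spectrum
-/

set_option autoImplicit false
set_option maxHeartbeats 800000
universe u

noncomputable section

namespace Groth.Agent.Helper22.ProjDim

open Groth.Agent.Helper22.HypConn Groth.Agent.Helper22.CoHt

theorem withBot_le_of_add_le_add_left (a : ℕ∞) (ha : a ≠ ⊤) (x y : WithBot ℕ∞)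
    (h : (a : WithBot ℕ∞) + x ≤ (a : WithBot ℕ∞) + y) : x ≤ y := by
  induction x using WithBot.recBotCoe with
  | bot => exact bot_le
  | coe x =>
    induction y using WithBot.recBotCoe with
    | bot =>
      rw [WithBot.add_bot, ← WithBot.coe_add] at h
      exact absurd (le_bot_iff.mp h) WithBot.coe_ne_bot
    | coe y =>
      rw [← WithBot.coe_add, ← WithBot.coe_add, WithBot.coe_le_coe] at h
      exact WithBot.coe_le_coe.mpr ((ENat.add_le_add_iff_left ha).mp h)

/-- A minimal prime over `q + (a)` covers `q`. -/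
theorem covBy_of_mem_minimalPrimes {R : Type*} [CommRing R] [IsNoetherianRing R]
    (q : Ideal R) [hq : q.IsPrime] (a : R) (ha : a ∉ q) (q' : Ideal R) [hq'P : q'.IsPrime]
    (hq' : q' ∈ (q ⊔ Ideal.span {a}).minimalPrimes) :
    (⟨q, hq⟩ : PrimeSpectrum R) ⋖ ⟨q', hq'P⟩ := by
  have hqq' : q ≤ q' := le_sup_left.trans hq'.1.2
  have haq' : a ∈ q' := hq'.1.2 (Ideal.mem_sup_right (Ideal.mem_span_singleton_self a))
  refine ⟨?_, ?_⟩
  · rw [lt_iff_le_not_ge]
    exact ⟨hqq', fun h => ha (h haq')⟩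
  · intro r hqr hrq'
    rw [lt_iff_le_not_ge] at hqr hrq'
    obtain ⟨hqr1, hqr2⟩ := hqr
    obtain ⟨hrq1, hrq2⟩ := hrq'
    have hqr1' : q ≤ r.asIdeal := hqr1
    have hqr2' : ¬ r.asIdeal ≤ q := hqr2
    have hrq1' : r.asIdeal ≤ q' := hrq1
    have hrq2' : ¬ q' ≤ r.asIdeal := hrq2
    haveI hrP : r.asIdeal.IsPrime := r.isPrime
    obtain ⟨f, hf⟩ : ∃ f : R →+* R ⧸ q, f = Ideal.Quotient.mk q := ⟨_, rfl⟩
    have hfs : Function.Surjective f := by rw [hf]; exact Ideal.Quotient.mk_surjective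
    have hker : ∀ x : R, f x = 0 ↔ x ∈ q := by
      intro x; rw [hf]; exact Ideal.Quotient.eq_zero_iff_mem
    haveI hQ'P : (q'.map f).IsPrime := by
      rw [hf]; exact Ideal.isPrime_map_quotientMk_of_isPrime hqq'
    haveI hR'P : (r.asIdeal.map f).IsPrime := by
      rw [hf]; exact Ideal.isPrime_map_quotientMk_of_isPrime hqr1'
    have hQ'ht : (q'.map f).height ≤ 1 := by
      rw [hf]; exact Ideal.map_height_le_one_of_mem_minimalPrimes hq'
    have hpull : ∀ (I : Ideal R), q ≤ I → ∀ x : R, f x ∈ I.map f → x ∈ I := by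
      intro I hqI x hx
      obtain ⟨x', hx'I, hx'⟩ := (Ideal.mem_map_iff_of_surjective f hfs).mp hx
      have h1 : f (x - x') = 0 := by rw [map_sub, hx', sub_self]
      have h2 : x - x' ∈ I := hqI ((hker _).mp h1)
      have h3 : x = (x - x') + x' := by ring
      rw [h3]
      exact I.add_mem h2 hx'I
    have hlt1 : (⊥ : Ideal (R ⧸ q)) < r.asIdeal.map f := by
      rw [bot_lt_iff_ne_bot]
      intro hbot
      apply hqr2'
      intro x hx
      have h1 : f x ∈ r.asIdeal.map f := Ideal.mem_map_of_mem f hx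
      rw [hbot, Ideal.mem_bot] at h1
      exact (hker x).mp h1
    have hlt2 : r.asIdeal.map f < q'.map f := by
      rw [lt_iff_le_not_ge]
      refine ⟨Ideal.map_mono hrq1', ?_⟩
      intro hle
      apply hrq2'
      intro x hx
      exact hpull r.asIdeal hqr1' x (hle (Ideal.mem_map_of_mem f hx))
    have h1 : (⊥ : Ideal (R ⧸ q)).height < (r.asIdeal.map f).height :=
      Ideal.height_strict_mono_of_isPrime hlt1
    have h2 : (r.asIdeal.map f).height < (q'.map f).height :=
      Ideal.height_strict_mono_of_isPrime hlt2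
    have h3 : (r.asIdeal.map f).height < 1 := lt_of_lt_of_le h2 hQ'ht
    rw [ENat.lt_one_iff_eq_zero] at h3
    rw [h3] at h1
    exact not_lt_of_ge zero_le h1

section Abstract

variable {A σ : Type*} [CommRing A] [SetLike σ A] [AddSubmonoidClass σ A]
  (𝒜 : ℕ → σ) [GradedRing 𝒜]

theorem le_iff_toIdeal_le (x y : ProjectiveSpectrum 𝒜) :
    x ≤ y ↔ x.asHomogeneousIdeal.toIdeal ≤ y.asHomogeneousIdeal.toIdeal :=
  (ProjectiveSpectrum.as_ideal_le_as_ideal 𝒜 x y).symm

theorem subtype_le_iff (Y : Set (ProjectiveSpectrum 𝒜)) (a b : ↥Y) :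
    a ≤ b ↔ a.1.asHomogeneousIdeal.toIdeal ≤ b.1.asHomogeneousIdeal.toIdeal :=
  le_iff_toIdeal_le 𝒜 a.1 b.1

theorem mem_zeroLocus_ideal (q : Ideal A) (x : ProjectiveSpectrum 𝒜) :
    x ∈ ProjectiveSpectrum.zeroLocus 𝒜 (q : Set A) ↔ q ≤ x.asHomogeneousIdeal.toIdeal := by
  rw [ProjectiveSpectrum.mem_zeroLocus]
  constructor
  · intro h a ha
    exact h ha
  · intro h a ha
    exact h ha

/-- closure of a point in a subspace of the projective spectrum -/
theorem mem_closure_singleton_subtype (Y : Set (ProjectiveSpectrum 𝒜)) (y y' : ↥Y) :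
    y' ∈ closure ({y} : Set ↥Y) ↔ y ≤ y' := by
  rw [closure_subtype, Set.image_singleton]
  exact (ProjectiveSpectrum.le_iff_mem_closure 𝒜 y.1 y'.1).symm

theorem exists_generic_subtype (Y : Set (ProjectiveSpectrum 𝒜)) (hY : IsClosed Y)
    (c : TopologicalSpace.IrreducibleCloseds ↥Y) :
    ∃ z : ↥Y, ∀ y : ↥Y, y ∈ (c : Set ↥Y) ↔ z ≤ y := by
  obtain ⟨Z, hZ⟩ : ∃ Z : Set (ProjectiveSpectrum 𝒜),
      Z = closure (Subtype.val '' (c : Set ↥Y)) := ⟨_, rfl⟩
  have hZirr : IsIrreducible Z := by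
    rw [hZ]
    exact (c.isIrreducible.image Subtype.val continuous_subtype_val.continuousOn).closure
  have hZcl : IsClosed Z := by rw [hZ]; exact isClosed_closure
  have hZY : Z ⊆ Y := by
    rw [hZ]
    apply closure_minimal _ hY
    rintro _ ⟨y, _, rfl⟩
    exact y.2
  obtain ⟨z0, hz0⟩ := exists_generic 𝒜 Z hZirr hZcl
  have hz0Z : z0 ∈ Z := (hz0 z0).mpr le_rfl
  refine ⟨⟨z0, hZY hz0Z⟩, ?_⟩
  intro y
  have h1 : y ∈ (c : Set ↥Y) ↔ y ∈ closure (c : Set ↥Y) := by rw [c.isClosed.closure_eq]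
  rw [h1, closure_subtype, ← hZ, hz0 y.1]
  exact (subtype_le_iff 𝒜 Y ⟨z0, hZY hz0Z⟩ y).symm

/-- The topological Krull dimension of a closed subset of the projective spectrum is the Krull
dimension of its poset of points. -/
theorem topologicalKrullDim_eq_krullDim (Y : Set (ProjectiveSpectrum 𝒜)) (hY : IsClosed Y) :
    topologicalKrullDim ↥Y = Order.krullDim ↥Y := by
  classical
  apply le_antisymm
  · have hex := exists_generic_subtype 𝒜 Y hY
    choose gen hgen using hex
    have hle : ∀ c1 c2 : TopologicalSpace.IrreducibleCloseds ↥Y,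
        c1 ≤ c2 ↔ gen c2 ≤ gen c1 := by
      intro c1 c2
      constructor
      · intro h
        have h1 : gen c1 ∈ (c1 : Set ↥Y) := (hgen c1 (gen c1)).mpr le_rfl
        have h2 : gen c1 ∈ (c2 : Set ↥Y) := (SetLike.coe_subset_coe.mpr h) h1
        exact (hgen c2 (gen c1)).mp h2
      · intro h
        rw [← SetLike.coe_subset_coe]
        intro y hy
        exact (hgen c2 y).mpr (h.trans ((hgen c1 y).mp hy))
    have hmono : StrictMono
        (fun c : TopologicalSpace.IrreducibleCloseds ↥Y => OrderDual.toDual (gen c)) := by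
      intro c c' hcc'
      show gen c' < gen c
      rw [lt_iff_le_not_ge] at hcc' ⊢
      exact ⟨(hle c c').mp hcc'.1, fun h => hcc'.2 ((hle c' c).mpr h)⟩
    have h1 := Order.krullDim_le_of_strictMono _ hmono
    rw [Order.krullDim_orderDual] at h1
    exact h1
  · have hmono : StrictMono (fun y : (↥Y)ᵒᵈ =>
        (⟨closure {OrderDual.ofDual y}, isIrreducible_singleton.closure, isClosed_closure⟩ :
          TopologicalSpace.IrreducibleCloseds ↥Y)) := by
      intro a b hab
      have hab' : OrderDual.ofDual b < OrderDual.ofDual a := hab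
      beta_reduce
      rw [lt_iff_le_not_ge]
      constructor
      · rw [← SetLike.coe_subset_coe]
        show closure {OrderDual.ofDual a} ⊆ closure {OrderDual.ofDual b}
        apply closure_minimal _ isClosed_closure
        rw [Set.singleton_subset_iff, mem_closure_singleton_subtype]
        exact hab'.le
      · intro h
        rw [← SetLike.coe_subset_coe] at h
        have h1 : OrderDual.ofDual b ∈ closure ({OrderDual.ofDual a} : Set ↥Y) :=
          h (subset_closure (Set.mem_singleton _))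
        rw [mem_closure_singleton_subtype] at h1
        exact absurd hab' (not_lt_of_ge h1)
    have h1 := Order.krullDim_le_of_strictMono _ hmono
    rw [Order.krullDim_orderDual] at h1
    exact h1

variable [IsNoetherianRing A]

/-- A homogeneous element of the irrelevant ideal outside a smaller homogeneous prime. -/
theorem exists_homogeneous_not_mem (m : Ideal A)
    (hm : m = (HomogeneousIdeal.irrelevant 𝒜).toIdeal)
    (q : Ideal A) (hqm : q ≤ m) (hqne : q ≠ m) :
    ∃ (i : ℕ) (a : A), a ∈ 𝒜 i ∧ a ∈ m ∧ a ∉ q := by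
  classical
  have hmhom : m.IsHomogeneous 𝒜 := by
    rw [hm]; exact (HomogeneousIdeal.irrelevant 𝒜).isHomogeneous
  have hnmq : ¬ m ≤ q := fun h => hqne (le_antisymm hqm h)
  obtain ⟨b, hbm, hbq⟩ := SetLike.not_le_iff_exists.mp hnmq
  have hcomp : ∃ i, ((DirectSum.decompose 𝒜 b) i : A) ∉ q := by
    by_contra h
    push_neg at h
    apply hbq
    rw [← DirectSum.sum_support_decompose 𝒜 b]
    exact Ideal.sum_mem q (fun i _ => h i)
  obtain ⟨i, hi⟩ := hcomp
  exact ⟨i, _, SetLike.coe_mem _, hmhom i hbm, hi⟩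

/-- Minimal primes over `q + (a)` inside the irrelevant ideal: homogeneous, covering `q`,
height one more. -/
theorem exists_cover_of_elem (m : Ideal A) [hmP : m.IsPrime]
    (hCM : ∀ (q : Ideal A) [q.IsPrime],
      LocCoh.IsCohenMacaulayLocalRing (Localization.AtPrime q))
    (q : Ideal A) (hqP : q.IsPrime) (hqh : q.IsHomogeneous 𝒜) (hqm : q ≤ m)
    (i : ℕ) (a : A) (hai : a ∈ 𝒜 i) (ham : a ∈ m) (hi : a ∉ q) :
    ∃ q' : Ideal A, q' ∈ (q ⊔ Ideal.span {a}).minimalPrimes ∧ q'.IsPrime ∧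
      q'.IsHomogeneous 𝒜 ∧ q' ≤ m ∧ q < q' ∧ a ∈ q' ∧ q'.height = q.height + 1 := by
  haveI := hqP
  obtain ⟨J, hJ⟩ : ∃ J : Ideal A, J = q ⊔ Ideal.span {a} := ⟨_, rfl⟩
  have hspanhom : (Ideal.span ({a} : Set A)).IsHomogeneous 𝒜 := by
    apply Ideal.homogeneous_span
    intro x hx
    rw [Set.mem_singleton_iff] at hx
    rw [hx]
    exact ⟨i, hai⟩
  have hJhom : J.IsHomogeneous 𝒜 := by rw [hJ]; exact hqh.sup hspanhom
  have hspanm : Ideal.span ({a} : Set A) ≤ m := by
    rw [Ideal.span_singleton_le_iff_mem]; exact ham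
  have hJm : J ≤ m := by
    rw [hJ]
    exact sup_le hqm hspanm
  obtain ⟨q', hq'min, hq'm⟩ := Ideal.exists_minimalPrimes_le hJm
  have hq'P : q'.IsPrime := hq'min.1.1
  haveI := hq'P
  have hq'h : q'.IsHomogeneous 𝒜 := isHomogeneous_of_mem_minimalPrimes 𝒜 hJhom hq'min
  have hq'min' : q' ∈ (q ⊔ Ideal.span {a}).minimalPrimes := by rw [← hJ]; exact hq'min
  have hcov := covBy_of_mem_minimalPrimes q a hi q' hq'min'
  have hht : q'.height = q.height + 1 :=
    Groth.Agent.Helper14.CMCatenary.height_eq_of_covBy A hCM ⟨q, hqP⟩ ⟨q', hq'P⟩ hcov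
  have hqq'le : q ≤ q' := le_sup_left.trans hq'min'.1.2
  have haq' : a ∈ q' :=
    hq'min'.1.2 (Ideal.mem_sup_right (Ideal.mem_span_singleton_self a))
  have hqq' : q < q' := lt_of_le_of_ne hqq'le (fun h => hi (by rw [h]; exact haq'))
  exact ⟨q', hq'min', hq'P, hq'h, hq'm, hqq', haq', hht⟩

theorem height_irrelevant_le (m : Ideal A) (hm : m = (HomogeneousIdeal.irrelevant 𝒜).toIdeal)
    [hmP : m.IsPrime]
    (hCM : ∀ (q : Ideal A) [q.IsPrime],
      LocCoh.IsCohenMacaulayLocalRing (Localization.AtPrime q)) :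
    ∀ q : Ideal A, q.IsPrime → q.IsHomogeneous 𝒜 → q ≤ m → q ≠ m →
      (m.height : WithBot ℕ∞) ≤ (q.height : WithBot ℕ∞) +
        Order.krullDim ↥(ProjectiveSpectrum.zeroLocus 𝒜 (q : Set A)) + 1 := by
  classical
  intro q
  induction q using WellFoundedGT.induction with
  | ind q ih =>
    intro hqP hqh hqm hqne
    haveI := hqP
    have hnmq : ¬ m ≤ q := fun h => hqne (le_antisymm hqm h)
    obtain ⟨i, a, hai, ham, hi⟩ := exists_homogeneous_not_mem 𝒜 m hm q hqm hqne
    obtain ⟨q', -, hq'P, hq'h, hq'm, hqq', haq', hht⟩ :=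
      exists_cover_of_elem 𝒜 m hCM q hqP hqh hqm i a hai ham hi
    haveI := hq'P
    have hqq'le : q ≤ q' := hqq'.le
    have hqrel : ¬ (HomogeneousIdeal.irrelevant 𝒜).toIdeal ≤ q := by rw [← hm]; exact hnmq
    obtain ⟨qhat, hqhat⟩ : ∃ x : ProjectiveSpectrum 𝒜, x.asHomogeneousIdeal.toIdeal = q :=
      ⟨mkPt 𝒜 q hqP hqh hqrel, rfl⟩
    have hqhatmem : qhat ∈ ProjectiveSpectrum.zeroLocus 𝒜 (q : Set A) := by
      rw [mem_zeroLocus_ideal]; exact le_of_eq hqhat.symm
    haveI : Nonempty ↥(ProjectiveSpectrum.zeroLocus 𝒜 (q : Set A)) := ⟨⟨qhat, hqhatmem⟩⟩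
    have h0 : (0 : WithBot ℕ∞) ≤
        Order.krullDim ↥(ProjectiveSpectrum.zeroLocus 𝒜 (q : Set A)) := Order.krullDim_nonneg
    by_cases hq'm_eq : q' = m
    · have h1 : m.height = q.height + 1 := by rw [← hq'm_eq]; exact hht
      rw [h1, WithBot.coe_add, WithBot.coe_one]
      calc (q.height : WithBot ℕ∞) + 1 = (q.height : WithBot ℕ∞) + 0 + 1 := by rw [add_zero]
        _ ≤ (q.height : WithBot ℕ∞) +
            Order.krullDim ↥(ProjectiveSpectrum.zeroLocus 𝒜 (q : Set A)) + 1 :=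
          add_le_add (add_le_add le_rfl h0) le_rfl
    · have hq'rel : ¬ (HomogeneousIdeal.irrelevant 𝒜).toIdeal ≤ q' := by
        rw [← hm]; exact fun h => hq'm_eq (le_antisymm hq'm h)
      obtain ⟨q'hat, hq'hat⟩ : ∃ x : ProjectiveSpectrum 𝒜,
          x.asHomogeneousIdeal.toIdeal = q' := ⟨mkPt 𝒜 q' hq'P hq'h hq'rel, rfl⟩
      have hq'hatmem : q'hat ∈ ProjectiveSpectrum.zeroLocus 𝒜 (q' : Set A) := by
        rw [mem_zeroLocus_ideal]; exact le_of_eq hq'hat.symm
      haveI : Nonempty ↥(ProjectiveSpectrum.zeroLocus 𝒜 (q' : Set A)) :=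
        ⟨⟨q'hat, hq'hatmem⟩⟩
      have hIH := ih q' hqq' hq'P hq'h hq'm hq'm_eq
      have hsub : ∀ x : ProjectiveSpectrum 𝒜,
          x ∈ ProjectiveSpectrum.zeroLocus 𝒜 (q' : Set A) →
          x ∈ ProjectiveSpectrum.zeroLocus 𝒜 (q : Set A) := by
        intro x hx
        rw [mem_zeroLocus_ideal] at hx ⊢
        exact hqq'le.trans hx
      obtain ⟨φ, hφ⟩ : ∃ φ : WithBot ↥(ProjectiveSpectrum.zeroLocus 𝒜 (q' : Set A)) →
          ↥(ProjectiveSpectrum.zeroLocus 𝒜 (q : Set A)), StrictMono φ := by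
        refine ⟨fun w => WithBot.recBotCoe
          (⟨qhat, hqhatmem⟩ : ↥(ProjectiveSpectrum.zeroLocus 𝒜 (q : Set A)))
          (fun y => ⟨y.1, hsub y.1 y.2⟩) w, ?_⟩
        intro x y hxy
        induction x using WithBot.recBotCoe with
        | bot =>
          induction y using WithBot.recBotCoe with
          | bot => exact absurd hxy (lt_irrefl _)
          | coe y =>
            show (⟨qhat, hqhatmem⟩ : ↥(ProjectiveSpectrum.zeroLocus 𝒜 (q : Set A))) <
              ⟨y.1, hsub y.1 y.2⟩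
            have hy := (mem_zeroLocus_ideal 𝒜 q' y.1).mp y.2
            rw [lt_iff_le_not_ge]
            refine ⟨(subtype_le_iff 𝒜 _ _ _).mpr ?_, fun h => ?_⟩
            · show qhat.asHomogeneousIdeal.toIdeal ≤ y.1.asHomogeneousIdeal.toIdeal
              rw [hqhat]
              exact hqq'le.trans hy
            · have h' : y.1.asHomogeneousIdeal.toIdeal ≤ qhat.asHomogeneousIdeal.toIdeal :=
                (subtype_le_iff 𝒜 _ _ _).mp h
              rw [hqhat] at h'
              exact absurd (hy.trans h') (not_le_of_gt hqq')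
        | coe x =>
          induction y using WithBot.recBotCoe with
          | bot => exact absurd hxy not_lt_bot
          | coe y =>
            have hxy' : x < y := WithBot.coe_lt_coe.mp hxy
            show (⟨x.1, hsub x.1 x.2⟩ : ↥(ProjectiveSpectrum.zeroLocus 𝒜 (q : Set A))) <
              ⟨y.1, hsub y.1 y.2⟩
            exact hxy'
      have hkd : Order.krullDim ↥(ProjectiveSpectrum.zeroLocus 𝒜 (q' : Set A)) + 1 ≤
          Order.krullDim ↥(ProjectiveSpectrum.zeroLocus 𝒜 (q : Set A)) := by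
        have h1 := Order.krullDim_le_of_strictMono φ hφ
        rw [Order.krullDim_withBot] at h1
        exact h1
      rw [hht, WithBot.coe_add, WithBot.coe_one] at hIH
      obtain ⟨kd', hkd'⟩ : ∃ kd' : WithBot ℕ∞,
          kd' = Order.krullDim ↥(ProjectiveSpectrum.zeroLocus 𝒜 (q' : Set A)) := ⟨_, rfl⟩
      rw [← hkd'] at hIH hkd
      calc (m.height : WithBot ℕ∞) ≤ (q.height : WithBot ℕ∞) + 1 + kd' + 1 := hIH
        _ = (q.height : WithBot ℕ∞) + (kd' + 1) + 1 := by
            rw [add_assoc (q.height : WithBot ℕ∞) 1 kd', add_comm 1 kd']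
        _ ≤ (q.height : WithBot ℕ∞) +
            Order.krullDim ↥(ProjectiveSpectrum.zeroLocus 𝒜 (q : Set A)) + 1 :=
          add_le_add (add_le_add le_rfl hkd) le_rfl

theorem ringKrullDim_quotient_eq (m : Ideal A)
    (hm : m = (HomogeneousIdeal.irrelevant 𝒜).toIdeal) [hmP : m.IsPrime]
    (hCM : ∀ (q : Ideal A) [q.IsPrime],
      LocCoh.IsCohenMacaulayLocalRing (Localization.AtPrime q))
    (hH2 : ∀ I : Ideal A, I.IsHomogeneous 𝒜 → I ≠ ⊤ → I ≤ m)
    (hdim : ringKrullDim A ≤ (m.height : WithBot ℕ∞))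
    (p : Ideal A) [hp : p.IsPrime] (hph : p.IsHomogeneous 𝒜) (hrel : ¬ m ≤ p) :
    ringKrullDim (A ⧸ p) =
        Order.krullDim ↥(ProjectiveSpectrum.zeroLocus 𝒜 (p : Set A)) + 1 ∧
      (p.height : WithBot ℕ∞) + ringKrullDim (A ⧸ p) = (m.height : WithBot ℕ∞) := by
  have hpm : p ≤ m := hH2 p hph hp.ne_top
  have hpne : p ≠ m := fun h => hrel (le_of_eq h.symm)
  have h1 := height_irrelevant_le 𝒜 m hm hCM p hp hph hpm hpne
  have h2 : (p.height : WithBot ℕ∞) + ringKrullDim (A ⧸ p) ≤ ringKrullDim A :=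
    Groth.Agent.Lead.RLR.height_add_ringKrullDim_quotient_le p
  have hprel : ¬ (HomogeneousIdeal.irrelevant 𝒜).toIdeal ≤ p := by rw [← hm]; exact hrel
  have hphatmem : mkPt 𝒜 p hp hph hprel ∈ ProjectiveSpectrum.zeroLocus 𝒜 (p : Set A) := by
    rw [mem_zeroLocus_ideal]; exact le_rfl
  haveI : Nonempty ↥(ProjectiveSpectrum.zeroLocus 𝒜 (p : Set A)) := ⟨⟨_, hphatmem⟩⟩
  have h3 : Order.krullDim ↥(ProjectiveSpectrum.zeroLocus 𝒜 (p : Set A)) + 1 ≤
      ringKrullDim (A ⧸ p) := by
    rw [ringKrullDim_quotient]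
    have hmem : ∀ x : ↥(ProjectiveSpectrum.zeroLocus 𝒜 (p : Set A)),
        (⟨x.1.asHomogeneousIdeal.toIdeal, x.1.isPrime⟩ : PrimeSpectrum A) ∈
          PrimeSpectrum.zeroLocus (p : Set A) := by
      intro x
      rw [PrimeSpectrum.mem_zeroLocus]
      intro a ha
      exact (mem_zeroLocus_ideal 𝒜 p x.1).mp x.2 ha
    have hmmem : (⟨m, hmP⟩ : PrimeSpectrum A) ∈ PrimeSpectrum.zeroLocus (p : Set A) := by
      rw [PrimeSpectrum.mem_zeroLocus]
      intro a ha
      exact hpm ha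
    obtain ⟨ψ, hψ⟩ : ∃ ψ : WithTop ↥(ProjectiveSpectrum.zeroLocus 𝒜 (p : Set A)) →
        ↥(PrimeSpectrum.zeroLocus (p : Set A)), StrictMono ψ := by
      refine ⟨fun w => WithTop.recTopCoe
        (⟨⟨m, hmP⟩, hmmem⟩ : ↥(PrimeSpectrum.zeroLocus (p : Set A)))
        (fun x => ⟨⟨x.1.asHomogeneousIdeal.toIdeal, x.1.isPrime⟩, hmem x⟩) w, ?_⟩
      intro x y hxy
      induction y using WithTop.recTopCoe with
      | top =>
        induction x using WithTop.recTopCoe with
        | top => exact absurd hxy (lt_irrefl _)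
        | coe x =>
          show (⟨⟨x.1.asHomogeneousIdeal.toIdeal, x.1.isPrime⟩, hmem x⟩ :
            ↥(PrimeSpectrum.zeroLocus (p : Set A))) < ⟨⟨m, hmP⟩, hmmem⟩
          rw [lt_iff_le_not_ge]
          refine ⟨?_, ?_⟩
          · show x.1.asHomogeneousIdeal.toIdeal ≤ m
            exact hH2 _ x.1.asHomogeneousIdeal.isHomogeneous x.1.isPrime.ne_top
          · intro h
            have h' : m ≤ x.1.asHomogeneousIdeal.toIdeal := h
            rw [hm] at h'
            exact x.1.not_irrelevant_le h'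
      | coe y =>
        induction x using WithTop.recTopCoe with
        | top => exact absurd hxy not_top_lt
        | coe x =>
          have hxy' : x < y := WithTop.coe_lt_coe.mp hxy
          rw [lt_iff_le_not_ge, subtype_le_iff, subtype_le_iff] at hxy'
          show (⟨⟨x.1.asHomogeneousIdeal.toIdeal, x.1.isPrime⟩, hmem x⟩ :
            ↥(PrimeSpectrum.zeroLocus (p : Set A))) <
            ⟨⟨y.1.asHomogeneousIdeal.toIdeal, y.1.isPrime⟩, hmem y⟩
          rw [lt_iff_le_not_ge]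
          exact ⟨hxy'.1, hxy'.2⟩
    have h4 := Order.krullDim_le_of_strictMono ψ hψ
    rw [Order.krullDim_WithTop] at h4
    exact h4
  have hfin : p.height ≠ ⊤ := Ideal.height_ne_top_of_isPrime
  constructor
  · apply le_antisymm _ h3
    apply withBot_le_of_add_le_add_left p.height hfin
    calc (p.height : WithBot ℕ∞) + ringKrullDim (A ⧸ p) ≤ ringKrullDim A := h2
      _ ≤ (m.height : WithBot ℕ∞) := hdim
      _ ≤ (p.height : WithBot ℕ∞) +
          Order.krullDim ↥(ProjectiveSpectrum.zeroLocus 𝒜 (p : Set A)) + 1 := h1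
      _ = (p.height : WithBot ℕ∞) +
          (Order.krullDim ↥(ProjectiveSpectrum.zeroLocus 𝒜 (p : Set A)) + 1) := add_assoc _ _ _
  · apply le_antisymm (h2.trans hdim)
    calc (m.height : WithBot ℕ∞) ≤ (p.height : WithBot ℕ∞) +
          Order.krullDim ↥(ProjectiveSpectrum.zeroLocus 𝒜 (p : Set A)) + 1 := h1
      _ = (p.height : WithBot ℕ∞) +
          (Order.krullDim ↥(ProjectiveSpectrum.zeroLocus 𝒜 (p : Set A)) + 1) := add_assoc _ _ _
      _ ≤ (p.height : WithBot ℕ∞) + ringKrullDim (A ⧸ p) := add_le_add le_rfl h3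

/-- Proper homogeneous ideals lie in the irrelevant ideal when nonzero degree-zero elements are
units. -/
theorem le_irrelevant_of_isHomogeneous (hunit : ∀ a ∈ 𝒜 0, a ≠ 0 → IsUnit a)
    (I : Ideal A) (hI : I.IsHomogeneous 𝒜) (hne : I ≠ ⊤) :
    I ≤ (HomogeneousIdeal.irrelevant 𝒜).toIdeal := by
  intro a ha
  rw [HomogeneousIdeal.mem_iff, HomogeneousIdeal.mem_irrelevant_iff, GradedRing.proj_apply]
  obtain ⟨a0, ha0⟩ : ∃ a0 : A, a0 = ((DirectSum.decompose 𝒜 a) 0 : A) := ⟨_, rfl⟩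
  rw [← ha0]
  have h1 : a0 ∈ I := by rw [ha0]; exact hI 0 ha
  have h2 : a0 ∈ 𝒜 0 := by rw [ha0]; exact SetLike.coe_mem _
  by_contra hne0
  have hu := hunit a0 h2 hne0
  exact hne (Ideal.eq_top_of_isUnit_mem I h1 hu)

end Abstract

end Groth.Agent.Helper22.ProjDim
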