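import Mathlib
import Groth.Prelude.Def_CohB1
import Groth.Agent.Lib.Helper22.ProjDim1
import Groth.Agent.Lib.Lead.Fib3
import Groth.Agent.Lib.Helper14.SmoothDim
import Groth.Agent.Lib.Helper22.RegPt2

/-!
# Dimension of closed subsets of projective space over a field
-/

set_option autoImplicit false
set_option maxHeartbeats 800000
universe u

noncomputable section

namespace Groth.Agent.Helper22.ProjDim

open Groth.Agent.Helper22.HypConn Groth.Agent.Helper22.CoHt

/-- Facts about the irrelevant ideal of `k[x₀,…,xₙ]`. -/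
structure PolyFacts (k : Type u) [Field k] (n : ℕ)
    (m : Ideal (MvPolynomial (Fin (n + 1)) k)) : Prop where
  hmax : m.IsMaximal
  hht : m.height = ((n + 1 : ℕ) : ℕ∞)
  hH2 : ∀ I : Ideal (MvPolynomial (Fin (n + 1)) k),
    I.IsHomogeneous (CohB1.polyGrading n k) → I ≠ ⊤ → I ≤ m
  hdim : ringKrullDim (MvPolynomial (Fin (n + 1)) k) ≤ (m.height : WithBot ℕ∞)
  hCM : ∀ (q : Ideal (MvPolynomial (Fin (n + 1)) k)) [q.IsPrime],
    LocCoh.IsCohenMacaulayLocalRing (Localization.AtPrime q)

open MvPolynomial in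
theorem polyFacts (k : Type u) [Field k] (n : ℕ) :
    PolyFacts k n (HomogeneousIdeal.irrelevant (CohB1.polyGrading n k)).toIdeal := by
  obtain ⟨irr, hirr⟩ : ∃ irr : Ideal (MvPolynomial (Fin (n + 1)) k),
      irr = (HomogeneousIdeal.irrelevant (CohB1.polyGrading n k)).toIdeal := ⟨_, rfl⟩
  rw [← hirr]
  have hX : ∀ j, (X j - C ((0 : Fin (n + 1) → k) j) : MvPolynomial (Fin (n + 1)) k) ∈ irr := by
    intro j
    rw [Pi.zero_apply, C_0, sub_zero, hirr]
    exact HomogeneousIdeal.mem_irrelevant_of_mem (CohB1.polyGrading n k) one_pos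
      ((MvPolynomial.mem_homogeneousSubmodule 1 (X j)).mpr (MvPolynomial.isHomogeneous_X k j))
  have hle : RingHom.ker (eval (0 : Fin (n + 1) → k)) ≤ irr :=
    Groth.Agent.Helper22.RegPt.ker_eval_le 0 irr hX
  have hmax : (RingHom.ker (eval (0 : Fin (n + 1) → k))).IsMaximal :=
    RingHom.ker_isMaximal_of_surjective _ (fun r => ⟨C r, by simp⟩)
  have hne : irr ≠ ⊤ := by rw [hirr]; exact irrelevant_ne_top _
  have heq : RingHom.ker (eval (0 : Fin (n + 1) → k)) = irr := hmax.eq_of_le hne hle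
  haveI hirrmax : irr.IsMaximal := heq ▸ hmax
  have hht : irr.height = ((n + 1 : ℕ) : ℕ∞) :=
    Groth.Agent.Helper14.SmoothDim.height_eq_of_isMaximal_mvPolynomial k (n + 1) irr
  have hunit : ∀ a ∈ CohB1.polyGrading n k 0, a ≠ 0 → IsUnit a := by
    intro a ha hne
    have ha' : a ∈ MvPolynomial.homogeneousSubmodule (Fin (n + 1)) k 0 := ha
    rw [MvPolynomial.homogeneousSubmodule_zero, Submodule.mem_one] at ha'
    obtain ⟨c, rfl⟩ := ha'
    have hc : c ≠ 0 := by
      rintro rfl
      exact hne (map_zero _)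
    exact (isUnit_iff_ne_zero.mpr hc).map _
  refine ⟨hirrmax, hht, ?_, ?_, ?_⟩
  · intro I hI hne'
    rw [hirr]
    exact le_irrelevant_of_isHomogeneous (CohB1.polyGrading n k) hunit I hI hne'
  · rw [hht, MvPolynomial.ringKrullDim_of_isNoetherianRing, ringKrullDim_eq_zero_of_field,
      zero_add]
    have hc : Nat.card (Fin (n + 1)) = n + 1 := by simp
    rw [hc]
    exact le_of_eq rfl
  · haveI : IsRegularRing k := inferInstance
    haveI : LocCoh.IsCohenMacaulayRing k :=
      Groth.Agent.Lead.Fib.isCohenMacaulayRing_of_isRegularRing k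
    haveI hCM : LocCoh.IsCohenMacaulayRing (MvPolynomial (Fin (n + 1)) k) :=
      Groth.Agent.Lead.Fib.isCohenMacaulayRing_mvPolynomial (Fin (n + 1))
    exact fun q _ => hCM.isCohenMacaulayLocalRing_localization q

/-- `dim S/p = dim V_+(p) + 1` and `ht p + dim S/p = n + 1` for relevant homogeneous primes. -/
theorem ringKrullDim_quotient_prime (k : Type u) [Field k] (n : ℕ)
    (p : Ideal (MvPolynomial (Fin (n + 1)) k)) [p.IsPrime]
    (hph : p.IsHomogeneous (CohB1.polyGrading n k))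
    (hrel : ¬ (HomogeneousIdeal.irrelevant (CohB1.polyGrading n k)).toIdeal ≤ p) :
    ringKrullDim (MvPolynomial (Fin (n + 1)) k ⧸ p) =
      topologicalKrullDim ↥(ProjectiveSpectrum.zeroLocus (CohB1.polyGrading n k)
        (p : Set (MvPolynomial (Fin (n + 1)) k))) + 1 ∧
    (p.height : WithBot ℕ∞) + ringKrullDim (MvPolynomial (Fin (n + 1)) k ⧸ p) =
      (((n + 1 : ℕ) : ℕ∞) : WithBot ℕ∞) := by
  have F := polyFacts k n
  haveI := F.hmax.isPrime
  rw [topologicalKrullDim_eq_krullDim _ _ (ProjectiveSpectrum.isClosed_zeroLocus _ _), ← F.hht]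
  exact ringKrullDim_quotient_eq (CohB1.polyGrading n k) _ rfl F.hCM F.hH2 F.hdim p hph hrel

end Groth.Agent.Helper22.ProjDim
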