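import Mathlib
import Groth.Prelude.Def_CohB1
import Groth.Agent.Lib.Helper22.ProjDim2

/-!
# Two plane curves meet in a zero-dimensional set iff their equations are coprime
-/

set_option autoImplicit false
set_option maxHeartbeats 1600000
universe u

noncomputable section

namespace Groth.Agent.Helper22.ProjDim

open Groth.Agent.Helper22.HypConn Groth.Agent.Helper22.CoHt

theorem dim_zero_iff_isRelPrime (k : Type u) [Field k] (n m : ℕ)
    (f g : MvPolynomial (Fin (2 + 1)) k) (hf : f.IsHomogeneous n) (hg : g.IsHomogeneous m)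
    (hn : 0 < n) (hm : 0 < m) (hf0 : f ≠ 0) (hg0 : g ≠ 0) :
    topologicalKrullDim ↥(ProjectiveSpectrum.zeroLocus (CohB1.polyGrading 2 k)
        ({f, g} : Set (MvPolynomial (Fin (2 + 1)) k))) = 0 ↔ IsRelPrime f g := by
  classical
  obtain ⟨irr, hirr⟩ : ∃ irr : Ideal (MvPolynomial (Fin (2 + 1)) k),
      irr = (HomogeneousIdeal.irrelevant (CohB1.polyGrading 2 k)).toIdeal := ⟨_, rfl⟩
  have F := polyFacts k 2
  rw [← hirr] at F
  haveI hirrP : irr.IsPrime := F.hmax.isPrime
  have hht3 : irr.height = ((2 + 1 : ℕ) : ℕ∞) := F.hht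
  obtain ⟨Y, hY⟩ : ∃ Y : Set (ProjectiveSpectrum (CohB1.polyGrading 2 k)),
      Y = ProjectiveSpectrum.zeroLocus (CohB1.polyGrading 2 k)
        ({f, g} : Set (MvPolynomial (Fin (2 + 1)) k)) := ⟨_, rfl⟩
  rw [← hY]
  have hYcl : IsClosed Y := by rw [hY]; exact ProjectiveSpectrum.isClosed_zeroLocus _ _
  rw [topologicalKrullDim_eq_krullDim _ Y hYcl]
  have hmemY : ∀ x : ProjectiveSpectrum (CohB1.polyGrading 2 k), x ∈ Y ↔
      f ∈ x.asHomogeneousIdeal.toIdeal ∧ g ∈ x.asHomogeneousIdeal.toIdeal := by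
    intro x
    rw [hY, ProjectiveSpectrum.mem_zeroLocus, Set.insert_subset_iff, Set.singleton_subset_iff]
    exact Iff.rfl
  have hf' : f ∈ CohB1.polyGrading 2 k n := (MvPolynomial.mem_homogeneousSubmodule n f).mpr hf
  have hg' : g ∈ CohB1.polyGrading 2 k m := (MvPolynomial.mem_homogeneousSubmodule m g).mpr hg
  have hfirr : f ∈ irr := by
    rw [hirr]; exact HomogeneousIdeal.mem_irrelevant_of_mem _ hn hf'
  have hgirr : g ∈ irr := by
    rw [hirr]; exact HomogeneousIdeal.mem_irrelevant_of_mem _ hm hg'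
  have hpt : ∀ Q : Ideal (MvPolynomial (Fin (2 + 1)) k), Q.IsPrime →
      Q.IsHomogeneous (CohB1.polyGrading 2 k) → Q ≤ irr → Q.height ≤ 2 → f ∈ Q → g ∈ Q →
      ∃ x : ProjectiveSpectrum (CohB1.polyGrading 2 k),
        x ∈ Y ∧ x.asHomogeneousIdeal.toIdeal = Q := by
    intro Q hQP hQh hQirr hQht hfQ hgQ
    have hQne : Q ≠ irr := by
      intro h
      rw [h, hht3] at hQht
      have h' : (2 + 1 : ℕ) ≤ 2 := by exact_mod_cast hQht
      omega
    have hQrel : ¬ (HomogeneousIdeal.irrelevant (CohB1.polyGrading 2 k)).toIdeal ≤ Q := by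
      rw [← hirr]; exact fun h => hQne (le_antisymm hQirr h)
    refine ⟨mkPt _ Q hQP hQh hQrel, ?_, rfl⟩
    rw [hmemY]
    exact ⟨hfQ, hgQ⟩
  constructor
  · intro h0 d hdf hdg
    by_contra hdu
    have hd0 : d ≠ 0 := ne_zero_of_dvd_ne_zero hf0 hdf
    obtain ⟨π, hπirr, hπd⟩ := WfDvdMonoid.exists_irreducible_factor hdu hd0
    have hπ : Prime π := UniqueFactorizationMonoid.irreducible_iff_prime.mp hπirr
    have hπf : π ∣ f := hπd.trans hdf
    have hπg : π ∣ g := hπd.trans hdg
    obtain ⟨P, hP⟩ : ∃ P : Ideal (MvPolynomial (Fin (2 + 1)) k), P = Ideal.span {π} :=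
      ⟨_, rfl⟩
    have hPP : P.IsPrime := by rw [hP]; exact Ideal.isPrime_span_singleton_of_prime hπ
    have hfP : f ∈ P := by rw [hP]; exact Ideal.mem_span_singleton.mpr hπf
    have hgP : g ∈ P := by rw [hP]; exact Ideal.mem_span_singleton.mpr hπg
    obtain ⟨Jf, hJf⟩ : ∃ Jf : Ideal (MvPolynomial (Fin (2 + 1)) k), Jf = Ideal.span {f} :=
      ⟨_, rfl⟩
    have hJfP : Jf ≤ P := by rw [hJf, Ideal.span_singleton_le_iff_mem]; exact hfP
    haveI := hPP
    obtain ⟨Q, hQmin, hQP⟩ := Ideal.exists_minimalPrimes_le hJfP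
    have hQprime : Q.IsPrime := hQmin.1.1
    have hfQ : f ∈ Q := hQmin.1.2 (by rw [hJf]; exact Ideal.mem_span_singleton_self f)
    have hQbot : Q ≠ ⊥ := by
      intro h
      rw [h] at hfQ
      exact hf0 (Ideal.mem_bot.mp hfQ)
    obtain ⟨π', hπ'Q, hπ'⟩ := hQprime.exists_mem_prime_of_ne_bot hQbot
    have hπ'P : π' ∈ Ideal.span {π} := by rw [← hP]; exact hQP hπ'Q
    obtain ⟨c, hc⟩ := Ideal.mem_span_singleton.mp hπ'P
    have hcu : IsUnit c := (hπ'.irreducible.isUnit_or_isUnit hc).resolve_left hπ.not_unit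
    have hπQ : π ∈ Q := by
      have h3 : π * c ∈ Q := by rw [← hc]; exact hπ'Q
      exact (Ideal.mul_unit_mem_iff_mem Q hcu).mp h3
    have hPQ : P = Q := by
      apply le_antisymm _ hQP
      rw [hP, Ideal.span_singleton_le_iff_mem]; exact hπQ
    have hPmin : P ∈ Jf.minimalPrimes := by rw [hPQ]; exact hQmin
    have hJfhom : Jf.IsHomogeneous (CohB1.polyGrading 2 k) := by
      rw [hJf]
      apply Ideal.homogeneous_span
      intro x hx
      rw [Set.mem_singleton_iff] at hx
      rw [hx]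
      exact ⟨n, hf'⟩
    have hPh : P.IsHomogeneous (CohB1.polyGrading 2 k) :=
      isHomogeneous_of_mem_minimalPrimes _ hJfhom hPmin
    haveI : Jf.IsPrincipal := ⟨⟨f, hJf⟩⟩
    have hPht : P.height ≤ 1 :=
      Ideal.height_le_one_of_isPrincipal_of_mem_minimalPrimes Jf P hPmin
    have hPirr : P ≤ irr := F.hH2 P hPh hPP.ne_top
    have hPne : P ≠ irr := by
      intro h
      rw [h, hht3] at hPht
      have h' : (2 + 1 : ℕ) ≤ 1 := by exact_mod_cast hPht
      omega
    obtain ⟨i, a, hai, hairr, haP⟩ := exists_homogeneous_not_mem _ irr hirr P hPirr hPne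
    obtain ⟨q', -, hq'P, hq'h, hq'irr, hPq', -, hq'ht⟩ :=
      exists_cover_of_elem _ irr F.hCM P hPP hPh hPirr i a hai hairr haP
    have hq'ht2 : q'.height ≤ 2 := by
      rw [hq'ht]
      calc P.height + 1 ≤ 1 + 1 := add_le_add hPht le_rfl
        _ = 2 := one_add_one_eq_two
    obtain ⟨x, hxY, hx⟩ := hpt P hPP hPh hPirr (hPht.trans one_le_two) hfP hgP
    obtain ⟨y, hyY, hy⟩ := hpt q' hq'P hq'h hq'irr hq'ht2 (hPq'.le hfP) (hPq'.le hgP)
    have hmax := Order.krullDim_nonpos_iff_forall_isMax.mp (le_of_eq h0) ⟨x, hxY⟩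
    have hxy : (⟨x, hxY⟩ : ↥Y) ≤ ⟨y, hyY⟩ := by
      rw [subtype_le_iff]
      show x.asHomogeneousIdeal.toIdeal ≤ y.asHomogeneousIdeal.toIdeal
      rw [hx, hy]
      exact hPq'.le
    have hyx := hmax hxy
    rw [subtype_le_iff] at hyx
    have hyx' : y.asHomogeneousIdeal.toIdeal ≤ x.asHomogeneousIdeal.toIdeal := hyx
    rw [hx, hy] at hyx'
    exact absurd hyx' (not_le_of_gt hPq')
  · intro hrel
    apply le_antisymm
    · rw [Order.krullDim_nonpos_iff_forall_isMax]
      rintro ⟨x, hxY⟩ ⟨y, hyY⟩ hxy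
      by_contra hyx
      have hxy' : x.asHomogeneousIdeal.toIdeal ≤ y.asHomogeneousIdeal.toIdeal :=
        (subtype_le_iff _ Y _ _).mp hxy
      have hyx' : ¬ y.asHomogeneousIdeal.toIdeal ≤ x.asHomogeneousIdeal.toIdeal :=
        fun h => hyx ((subtype_le_iff _ Y _ _).mpr h)
      have hlt : x.asHomogeneousIdeal.toIdeal < y.asHomogeneousIdeal.toIdeal :=
        lt_of_le_not_ge hxy' hyx'
      obtain ⟨hfx, hgx⟩ := (hmemY x).mp hxY
      obtain ⟨px, hpx⟩ : ∃ px : Ideal (MvPolynomial (Fin (2 + 1)) k),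
          px = x.asHomogeneousIdeal.toIdeal := ⟨_, rfl⟩
      obtain ⟨py, hpy⟩ : ∃ py : Ideal (MvPolynomial (Fin (2 + 1)) k),
          py = y.asHomogeneousIdeal.toIdeal := ⟨_, rfl⟩
      rw [← hpx] at hfx hgx hlt
      rw [← hpy] at hlt
      haveI hpxP : px.IsPrime := by rw [hpx]; exact x.isPrime
      haveI hpyP : py.IsPrime := by rw [hpy]; exact y.isPrime
      have hpyirr : py ≤ irr := by
        rw [hpy]
        exact F.hH2 _ y.asHomogeneousIdeal.isHomogeneous y.isPrime.ne_top
      have hpyne : py ≠ irr := by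
        intro h
        apply y.not_irrelevant_le
        show (HomogeneousIdeal.irrelevant (CohB1.polyGrading 2 k)).toIdeal ≤
          y.asHomogeneousIdeal.toIdeal
        rw [← hirr, ← hpy]
        exact le_of_eq h.symm
      have hlt2 : py < irr := lt_of_le_of_ne hpyirr hpyne
      have e2 : px.height < py.height := Ideal.height_strict_mono_of_isPrime hlt
      have e3 : py.height < irr.height := Ideal.height_strict_mono_of_isPrime hlt2
      have e1 : (2 : ℕ∞) ≤ px.height := by
        have h0 : px.height ≠ 0 := by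
          rw [Ne, Ideal.height_eq_zero_iff_eq_bot]
          intro h
          rw [h] at hfx
          exact hf0 (Ideal.mem_bot.mp hfx)
        have h1 : px.height ≠ 1 := by
          intro h1
          haveI : px.IsPrincipal := UniqueFactorizationMonoid.isPrincipal_of_height_eq_one h1
          obtain ⟨π, hπ⟩ := Submodule.IsPrincipal.principal px
          have hπ' : px = Ideal.span {π} := hπ
          have h2 : π ∣ f := by
            rw [hπ'] at hfx
            exact Ideal.mem_span_singleton.mp hfx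
          have h3 : π ∣ g := by
            rw [hπ'] at hgx
            exact Ideal.mem_span_singleton.mp hgx
          have hu : IsUnit π := hrel h2 h3
          exact hpxP.ne_top (by rw [hπ']; exact Ideal.span_singleton_eq_top.mpr hu)
        by_contra hlt2
        push_neg at hlt2
        rw [ENat.lt_two_iff] at hlt2
        rcases lt_or_eq_of_le hlt2 with h | h
        · exact h0 (ENat.lt_one_iff_eq_zero.mp h)
        · exact h1 h
      rw [hht3] at e3
      obtain ⟨a, ha⟩ := ENat.ne_top_iff_exists.mp (ne_top_of_lt e3)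
      obtain ⟨b, hb⟩ := ENat.ne_top_iff_exists.mp (ne_top_of_lt e2)
      rw [← ha] at e2 e3
      rw [← hb] at e1 e2
      have e1' : 2 ≤ b := by exact_mod_cast e1
      have e2' : b < a := by exact_mod_cast e2
      have e3' : a < 2 + 1 := by exact_mod_cast e3
      omega
    · rw [Order.krullDim_nonneg_iff]
      obtain ⟨J, hJ⟩ : ∃ J : Ideal (MvPolynomial (Fin (2 + 1)) k),
          J = Ideal.span ({f, g} : Set (MvPolynomial (Fin (2 + 1)) k)) := ⟨_, rfl⟩
      have hJirr : J ≤ irr := by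
        rw [hJ, Ideal.span_le]
        intro z hz
        rcases hz with hz | hz
        · rw [hz]; exact hfirr
        · rw [Set.mem_singleton_iff] at hz
          rw [hz]; exact hgirr
      obtain ⟨Q, hQmin, hQirr⟩ := Ideal.exists_minimalPrimes_le hJirr
      have hJhom : J.IsHomogeneous (CohB1.polyGrading 2 k) := by
        rw [hJ]
        apply Ideal.homogeneous_span
        intro z hz
        rcases hz with hz | hz
        · rw [hz]; exact ⟨n, hf'⟩
        · rw [Set.mem_singleton_iff] at hz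
          rw [hz]; exact ⟨m, hg'⟩
      have hQh := isHomogeneous_of_mem_minimalPrimes _ hJhom hQmin
      have hQht : Q.height ≤ 2 := by
        have hQ' : Q ∈ (Ideal.span ({f, g} : Set (MvPolynomial (Fin (2 + 1)) k))).minimalPrimes := by
          rw [← hJ]; exact hQmin
        have h1 := Ideal.height_le_card_of_mem_minimalPrimes_span (Set.toFinite _) hQ'
        have h2 : ({f, g} : Set (MvPolynomial (Fin (2 + 1)) k)).ncard ≤ 2 := by
          refine (Set.ncard_insert_le f {g}).trans ?_
          rw [Set.ncard_singleton]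
        exact h1.trans (by exact_mod_cast h2)
      have hfQ : f ∈ Q :=
        hQmin.1.2 (by rw [hJ]; exact Ideal.subset_span (Set.mem_insert _ _))
      have hgQ : g ∈ Q :=
        hQmin.1.2 (by
          rw [hJ]
          exact Ideal.subset_span (Set.mem_insert_of_mem _ (Set.mem_singleton g)))
      obtain ⟨x, hxY, -⟩ := hpt Q hQmin.1.1 hQh hQirr hQht hfQ hgQ
      exact ⟨⟨x, hxY⟩⟩

end Groth.Agent.Helper22.ProjDim
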