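import Mathlib
import Groth.Prelude.Def_CohB1
import Groth.Agent.Lib.Helper22.ProjDim2
import Groth.Agent.Lib.Lead.FE1

/-!
# Hypersurface sections of irreducible closed subsets of projective space
-/

set_option autoImplicit false
set_option maxHeartbeats 1600000
universe u

noncomputable section

namespace Groth.Agent.Helper22.ProjDim

open Groth.Agent.Helper22.HypConn Groth.Agent.Helper22.CoHt

theorem withBot_aux1 (h : ℕ∞) (hh : h ≠ ⊤) (t : WithBot ℕ∞) (ht : 0 < t) :
    (h : WithBot ℕ∞) + (t + 1) ≠ ((h + 1 : ℕ∞) : WithBot ℕ∞) := by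
  induction t using WithBot.recBotCoe with
  | bot => exact absurd ht not_lt_bot
  | coe t =>
    intro e
    have ht' : (0 : ℕ∞) < t := by exact_mod_cast ht
    rw [← WithBot.coe_one, ← WithBot.coe_add, ← WithBot.coe_add, WithBot.coe_inj] at e
    have e1 : t + 1 ≤ 1 := (ENat.add_le_add_iff_left hh).mp (le_of_eq e)
    have e2 : t + 1 ≤ 0 + 1 := by rw [zero_add]; exact e1
    have e3 : t ≤ 0 := (ENat.add_le_add_iff_right ENat.one_ne_top).mp e2
    exact absurd ht' (not_lt_of_ge e3)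

theorem withBot_aux2 (h : ℕ∞) (hh : h ≠ ⊤) (tX tC : WithBot ℕ∞)
    (e : (h : WithBot ℕ∞) + (tX + 1) = ((h + 1 : ℕ∞) : WithBot ℕ∞) + (tC + 1)) :
    tC + 1 = tX := by
  rw [WithBot.coe_add, WithBot.coe_one] at e
  have e1 : (tX + 1) + (h : WithBot ℕ∞) = ((tC + 1) + 1) + (h : WithBot ℕ∞) := by
    rw [add_comm (tX + 1) (h : WithBot ℕ∞), e, add_assoc (h : WithBot ℕ∞) 1 (tC + 1),
      add_comm 1 (tC + 1), add_comm (h : WithBot ℕ∞) ((tC + 1) + 1)]
  have e2 : tX + 1 = (tC + 1) + 1 := Groth.Agent.Lead.FE.withBot_add_right_cancel hh e1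
  have e3 : tX + ((1 : ℕ∞) : WithBot ℕ∞) = (tC + 1) + ((1 : ℕ∞) : WithBot ℕ∞) := by
    rw [WithBot.coe_one]; exact e2
  exact (Groth.Agent.Lead.FE.withBot_add_right_cancel ENat.one_ne_top e3).symm

theorem hypersurface_section (k : Type u) [Field k] (n d : ℕ)
    (P : Ideal (MvPolynomial (Fin (n + 1)) k)) (hPP : P.IsPrime)
    (hPh : P.IsHomogeneous (CohB1.polyGrading n k))
    (hPrel : ¬ (HomogeneousIdeal.irrelevant (CohB1.polyGrading n k)).toIdeal ≤ P)
    (hXd : 0 < topologicalKrullDim ↥(ProjectiveSpectrum.zeroLocus (CohB1.polyGrading n k)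
      (P : Set (MvPolynomial (Fin (n + 1)) k))))
    (f : MvPolynomial (Fin (n + 1)) k) (hf : f.IsHomogeneous d)
    (hV : (ProjectiveSpectrum.zeroLocus (CohB1.polyGrading n k)
      ({f} : Set (MvPolynomial (Fin (n + 1)) k))).Nonempty)
    (hfP : f ∉ P) :
    (ProjectiveSpectrum.zeroLocus (CohB1.polyGrading n k)
        (P : Set (MvPolynomial (Fin (n + 1)) k)) ∩
      ProjectiveSpectrum.zeroLocus (CohB1.polyGrading n k)
        ({f} : Set (MvPolynomial (Fin (n + 1)) k))).Nonempty ∧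
      ∀ C ∈ irreducibleComponents ↥(ProjectiveSpectrum.zeroLocus (CohB1.polyGrading n k)
          (P : Set (MvPolynomial (Fin (n + 1)) k)) ∩
        ProjectiveSpectrum.zeroLocus (CohB1.polyGrading n k)
          ({f} : Set (MvPolynomial (Fin (n + 1)) k))),
        topologicalKrullDim ↥C + 1 =
          topologicalKrullDim ↥(ProjectiveSpectrum.zeroLocus (CohB1.polyGrading n k)
            (P : Set (MvPolynomial (Fin (n + 1)) k))) := by
  classical
  haveI := hPP
  obtain ⟨irr, hirr⟩ : ∃ irr : Ideal (MvPolynomial (Fin (n + 1)) k),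
      irr = (HomogeneousIdeal.irrelevant (CohB1.polyGrading n k)).toIdeal := ⟨_, rfl⟩
  have F := polyFacts k n
  rw [← hirr] at F
  haveI hirrP : irr.IsPrime := F.hmax.isPrime
  have hPirr : P ≤ irr := F.hH2 P hPh hPP.ne_top
  have hf' : f ∈ CohB1.polyGrading n k d := (MvPolynomial.mem_homogeneousSubmodule d f).mpr hf
  have hfirr : f ∈ irr := by
    obtain ⟨y, hy⟩ := hV
    rw [mem_zeroLocus_singleton] at hy
    exact F.hH2 _ y.asHomogeneousIdeal.isHomogeneous y.isPrime.ne_top hy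
  obtain ⟨W, hW⟩ : ∃ W : Set (ProjectiveSpectrum (CohB1.polyGrading n k)),
      W = ProjectiveSpectrum.zeroLocus (CohB1.polyGrading n k)
          (P : Set (MvPolynomial (Fin (n + 1)) k)) ∩
        ProjectiveSpectrum.zeroLocus (CohB1.polyGrading n k)
          ({f} : Set (MvPolynomial (Fin (n + 1)) k)) := ⟨_, rfl⟩
  rw [← hW]
  have hmemW : ∀ y : ProjectiveSpectrum (CohB1.polyGrading n k), y ∈ W ↔
      P ≤ y.asHomogeneousIdeal.toIdeal ∧ f ∈ y.asHomogeneousIdeal.toIdeal := by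
    intro y
    rw [hW, Set.mem_inter_iff, mem_zeroLocus_ideal, mem_zeroLocus_singleton]
  have hWcl : IsClosed W := by
    rw [hW]
    exact (ProjectiveSpectrum.isClosed_zeroLocus _ _).inter
      (ProjectiveSpectrum.isClosed_zeroLocus _ _)
  obtain ⟨hdP1, hdP2⟩ := ringKrullDim_quotient_prime k n P hPh hPrel
  rw [hdP1] at hdP2
  have hPfin : P.height ≠ ⊤ := Ideal.height_ne_top_of_isPrime
  obtain ⟨J, hJ⟩ : ∃ J : Ideal (MvPolynomial (Fin (n + 1)) k), J = P ⊔ Ideal.span {f} :=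
    ⟨_, rfl⟩
  have hPJ : P ≤ J := by rw [hJ]; exact le_sup_left
  have hfJ : f ∈ J := by
    rw [hJ]; exact Ideal.mem_sup_right (Ideal.mem_span_singleton_self f)
  have hspanhom : (Ideal.span ({f} : Set (MvPolynomial (Fin (n + 1)) k))).IsHomogeneous
      (CohB1.polyGrading n k) := by
    apply Ideal.homogeneous_span
    intro x hx
    rw [Set.mem_singleton_iff] at hx
    rw [hx]
    exact ⟨d, hf'⟩
  have hJhom : J.IsHomogeneous (CohB1.polyGrading n k) := by rw [hJ]; exact hPh.sup hspanhom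
  have hkey : ∀ Q : Ideal (MvPolynomial (Fin (n + 1)) k), Q ∈ J.minimalPrimes →
      Q.IsHomogeneous (CohB1.polyGrading n k) → Q ≤ irr →
      ¬ (HomogeneousIdeal.irrelevant (CohB1.polyGrading n k)).toIdeal ≤ Q ∧
      topologicalKrullDim ↥(ProjectiveSpectrum.zeroLocus (CohB1.polyGrading n k)
        (Q : Set (MvPolynomial (Fin (n + 1)) k))) + 1 =
      topologicalKrullDim ↥(ProjectiveSpectrum.zeroLocus (CohB1.polyGrading n k)
        (P : Set (MvPolynomial (Fin (n + 1)) k))) := by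
    intro Q hQmin hQh hQirr
    have hQP : Q.IsPrime := hQmin.1.1
    haveI := hQP
    have hQmin' : Q ∈ (P ⊔ Ideal.span {f}).minimalPrimes := by rw [← hJ]; exact hQmin
    have hcov := covBy_of_mem_minimalPrimes P f hfP Q hQmin'
    have hht : Q.height = P.height + 1 :=
      Groth.Agent.Helper14.CMCatenary.height_eq_of_covBy _ F.hCM ⟨P, hPP⟩ ⟨Q, hQP⟩ hcov
    have hQne : Q ≠ irr := by
      intro h
      have h1 : P.height + 1 = ((n + 1 : ℕ) : ℕ∞) := by rw [← hht, h]; exact F.hht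
      rw [← h1] at hdP2
      exact withBot_aux1 P.height hPfin _ hXd hdP2
    have hQrel : ¬ (HomogeneousIdeal.irrelevant (CohB1.polyGrading n k)).toIdeal ≤ Q := by
      rw [← hirr]; exact fun h => hQne (le_antisymm hQirr h)
    refine ⟨hQrel, ?_⟩
    obtain ⟨hdQ1, hdQ2⟩ := ringKrullDim_quotient_prime k n Q hQh hQrel
    rw [hdQ1, hht] at hdQ2
    exact withBot_aux2 P.height hPfin _ _ (hdP2.trans hdQ2.symm)
  constructor
  · obtain ⟨Q, hQmin, hQP, hQh, hQirr, -, hfQ, -⟩ :=
      exists_cover_of_elem (CohB1.polyGrading n k) irr F.hCM P hPP hPh hPirr d f hf' hfirr hfP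
    have hQmin' : Q ∈ J.minimalPrimes := by rw [hJ]; exact hQmin
    obtain ⟨hQrel, -⟩ := hkey Q hQmin' hQh hQirr
    refine ⟨mkPt _ Q hQP hQh hQrel, ?_⟩
    rw [hmemW]
    exact ⟨hPJ.trans hQmin'.1.2, hfQ⟩
  · intro C hC
    have hCirr : IsIrreducible C := hC.1
    have hCcl : IsClosed C := isClosed_of_mem_irreducibleComponents C hC
    obtain ⟨z', hz'⟩ := exists_generic_subtype (CohB1.polyGrading n k) W hWcl ⟨C, hCirr, hCcl⟩
    have hz'C : ∀ y : ↥W, y ∈ C ↔ z' ≤ y := hz'
    obtain ⟨Q, hQ⟩ : ∃ Q : Ideal (MvPolynomial (Fin (n + 1)) k),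
        Q = z'.1.asHomogeneousIdeal.toIdeal := ⟨_, rfl⟩
    have hQP : Q.IsPrime := by rw [hQ]; exact z'.1.isPrime
    have hQh : Q.IsHomogeneous (CohB1.polyGrading n k) := by
      rw [hQ]; exact z'.1.asHomogeneousIdeal.isHomogeneous
    have hQirr : Q ≤ irr := F.hH2 Q hQh hQP.ne_top
    have hQrel : ¬ (HomogeneousIdeal.irrelevant (CohB1.polyGrading n k)).toIdeal ≤ Q := by
      rw [hQ]; exact fun h => z'.1.not_irrelevant_le h
    obtain ⟨hPQ, hfQ⟩ := (hmemW z'.1).mp z'.2
    rw [← hQ] at hPQ hfQ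
    have hJQ : J ≤ Q := by
      rw [hJ]
      apply sup_le hPQ
      rw [Ideal.span_singleton_le_iff_mem]
      exact hfQ
    have hleC : ∀ y : ↥W, y ∈ C ↔ Q ≤ y.1.asHomogeneousIdeal.toIdeal := by
      intro y
      rw [hz'C y, subtype_le_iff, ← hQ]
    -- minimality of Q
    haveI := hQP
    obtain ⟨Q0, hQ0min, hQ0Q⟩ := Ideal.exists_minimalPrimes_le hJQ
    have hQ0P : Q0.IsPrime := hQ0min.1.1
    have hQ0h : Q0.IsHomogeneous (CohB1.polyGrading n k) :=
      isHomogeneous_of_mem_minimalPrimes _ hJhom hQ0min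
    have hQ0rel : ¬ (HomogeneousIdeal.irrelevant (CohB1.polyGrading n k)).toIdeal ≤ Q0 :=
      fun h => hQrel (h.trans hQ0Q)
    obtain ⟨w0, hw0⟩ : ∃ w0 : ProjectiveSpectrum (CohB1.polyGrading n k),
        w0.asHomogeneousIdeal.toIdeal = Q0 := ⟨mkPt _ Q0 hQ0P hQ0h hQ0rel, rfl⟩
    have hw0W : w0 ∈ W := by
      rw [hmemW, hw0]
      exact ⟨hPJ.trans hQ0min.1.2, hQ0min.1.2 hfJ⟩
    have hTirr : IsIrreducible (closure ({⟨w0, hw0W⟩} : Set ↥W)) :=
      isIrreducible_singleton.closure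
    have hCT : C ≤ closure ({⟨w0, hw0W⟩} : Set ↥W) := by
      intro y hy
      rw [mem_closure_singleton_subtype, subtype_le_iff]
      show w0.asHomogeneousIdeal.toIdeal ≤ y.1.asHomogeneousIdeal.toIdeal
      rw [hw0]
      exact hQ0Q.trans ((hleC y).mp hy)
    have hTC := hC.2 hTirr hCT
    have hw0C : (⟨w0, hw0W⟩ : ↥W) ∈ C := hTC (subset_closure (Set.mem_singleton _))
    have hQQ0 : Q ≤ Q0 := by
      have h1 := (hleC ⟨w0, hw0W⟩).mp hw0C
      have h2 : Q ≤ w0.asHomogeneousIdeal.toIdeal := h1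
      rw [hw0] at h2
      exact h2
    have hQeq : Q = Q0 := le_antisymm hQQ0 hQ0Q
    have hQmin : Q ∈ J.minimalPrimes := by rw [hQeq]; exact hQ0min
    obtain ⟨-, hdim⟩ := hkey Q hQmin hQh hQirr
    -- the image of C
    have himg : Subtype.val '' C = ProjectiveSpectrum.zeroLocus (CohB1.polyGrading n k)
        (Q : Set (MvPolynomial (Fin (n + 1)) k)) := by
      ext y
      rw [mem_zeroLocus_ideal]
      constructor
      · rintro ⟨y', hy'C, rfl⟩
        exact (hleC y').mp hy'C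
      · intro hy
        have hyW : y ∈ W := by
          rw [hmemW]
          exact ⟨hPQ.trans hy, hy hfQ⟩
        exact ⟨⟨y, hyW⟩, (hleC ⟨y, hyW⟩).mpr hy, rfl⟩
    have e := Topology.IsEmbedding.subtypeVal.homeomorphImage C
    have h1 := IsHomeomorph.topologicalKrullDim_eq _ e.isHomeomorph
    rw [himg] at h1
    rw [h1]
    exact hdim

/-- Hypersurface sections of positive-dimensional irreducible closed subsets of projective space
are nonempty and equidimensional of codimension one. -/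
theorem master_section (k : Type u) [Field k] (n d : ℕ)
    (X : Set (ProjectiveSpectrum (CohB1.polyGrading n k))) (hXc : IsClosed X)
    (hXi : IsIrreducible X) (hXd : 0 < topologicalKrullDim ↥X)
    (f : MvPolynomial (Fin (n + 1)) k) (hf : f.IsHomogeneous d)
    (hV : (ProjectiveSpectrum.zeroLocus (CohB1.polyGrading n k)
      ({f} : Set (MvPolynomial (Fin (n + 1)) k))).Nonempty)
    (hX : ¬ X ⊆ ProjectiveSpectrum.zeroLocus (CohB1.polyGrading n k)
      ({f} : Set (MvPolynomial (Fin (n + 1)) k))) :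
    (X ∩ ProjectiveSpectrum.zeroLocus (CohB1.polyGrading n k)
        ({f} : Set (MvPolynomial (Fin (n + 1)) k))).Nonempty ∧
      ∀ C ∈ irreducibleComponents ↥(X ∩ ProjectiveSpectrum.zeroLocus (CohB1.polyGrading n k)
          ({f} : Set (MvPolynomial (Fin (n + 1)) k))),
        topologicalKrullDim ↥C + 1 = topologicalKrullDim ↥X := by
  obtain ⟨z, hz⟩ := exists_generic (CohB1.polyGrading n k) X hXi hXc
  have hXeq : X = ProjectiveSpectrum.zeroLocus (CohB1.polyGrading n k)
      (z.asHomogeneousIdeal.toIdeal : Set (MvPolynomial (Fin (n + 1)) k)) := by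
    ext y
    rw [hz y, mem_zeroLocus_ideal]
  have hfz : f ∉ z.asHomogeneousIdeal.toIdeal := by
    intro h
    apply hX
    intro y hy
    rw [mem_zeroLocus_singleton]
    exact (hz y).mp hy h
  rw [hXeq] at hXd ⊢
  exact hypersurface_section k n d z.asHomogeneousIdeal.toIdeal z.isPrime
    z.asHomogeneousIdeal.isHomogeneous (fun h => z.not_irrelevant_le h) hXd f hf hV hfz

end Groth.Agent.Helper22.ProjDim
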