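import Mathlib
import Groth.Prelude.Def_CohB1
import Groth.Agent.Lib.Helper22.ProjDim4

/-!
# Codimension of intersections with several hypersurfaces in projective space
-/

set_option autoImplicit false
set_option maxHeartbeats 1600000
universe u

noncomputable section

namespace Groth.Agent.Helper22.ProjDim

open Groth.Agent.Helper22.HypConn Groth.Agent.Helper22.CoHt

theorem withBot_aux3 (r : ℕ) (t : WithBot ℕ∞) (h1 : t + 1 ≤ ((r : ℕ∞) : WithBot ℕ∞))
    (h2 : ((r : ℕ∞) : WithBot ℕ∞) ≤ t) : False := by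
  induction t using WithBot.recBotCoe with
  | bot => exact absurd (le_bot_iff.mp h2) WithBot.coe_ne_bot
  | coe t =>
    rw [← WithBot.coe_one, ← WithBot.coe_add, WithBot.coe_le_coe] at h1
    rw [WithBot.coe_le_coe] at h2
    have htop : t ≠ ⊤ := by
      rintro rfl
      rw [top_add] at h1
      exact absurd (top_le_iff.mp h1) (ENat.coe_ne_top r)
    obtain ⟨t', ht'⟩ := ENat.ne_top_iff_exists.mp htop
    rw [← ht'] at h1 h2
    have h1' : t' + 1 ≤ r := by exact_mod_cast h1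
    have h2' : r ≤ t' := by exact_mod_cast h2
    omega

theorem withBot_aux4 (hP : ℕ∞) (hfin : hP ≠ ⊤) (hQ : ℕ∞) (r : ℕ) (tX tC : WithBot ℕ∞)
    (h : hQ ≤ hP + r)
    (e : (hP : WithBot ℕ∞) + (tX + 1) = (hQ : WithBot ℕ∞) + (tC + 1)) :
    tX ≤ tC + (r : WithBot ℕ∞) := by
  have hr' : (r : WithBot ℕ∞) = ((r : ℕ∞) : WithBot ℕ∞) := rfl
  rw [hr']
  have e1 : (hP : WithBot ℕ∞) + (tX + 1) ≤
      (hP : WithBot ℕ∞) + ((tC + ((r : ℕ∞) : WithBot ℕ∞)) + 1) := by
    rw [e]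
    calc (hQ : WithBot ℕ∞) + (tC + 1)
        ≤ ((hP + (r : ℕ∞) : ℕ∞) : WithBot ℕ∞) + (tC + 1) :=
          add_le_add (WithBot.coe_le_coe.mpr h) le_rfl
      _ = (hP : WithBot ℕ∞) + ((tC + ((r : ℕ∞) : WithBot ℕ∞)) + 1) := by
          rw [WithBot.coe_add, add_assoc, ← add_assoc (((r : ℕ∞) : WithBot ℕ∞)) tC 1,
            add_comm (((r : ℕ∞) : WithBot ℕ∞)) tC]
  have e2 : tX + 1 ≤ (tC + ((r : ℕ∞) : WithBot ℕ∞)) + 1 :=
    withBot_le_of_add_le_add_left hP hfin _ _ e1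
  have e3 : ((1 : ℕ∞) : WithBot ℕ∞) + tX ≤
      ((1 : ℕ∞) : WithBot ℕ∞) + (tC + ((r : ℕ∞) : WithBot ℕ∞)) := by
    rw [WithBot.coe_one, add_comm 1 tX, add_comm 1 (tC + ((r : ℕ∞) : WithBot ℕ∞))]
    exact e2
  exact withBot_le_of_add_le_add_left 1 ENat.one_ne_top _ _ e3

theorem withBot_aux5 (hP : ℕ∞) (hfin : hP ≠ ⊤) (r : ℕ) (N : ℕ∞) (tX : WithBot ℕ∞)
    (h : N ≤ hP + r) (e : (hP : WithBot ℕ∞) + (tX + 1) = (N : WithBot ℕ∞))
    (hr : (r : WithBot ℕ∞) ≤ tX) : False := by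
  have hr' : (r : WithBot ℕ∞) = ((r : ℕ∞) : WithBot ℕ∞) := rfl
  rw [hr'] at hr
  have e1 : (hP : WithBot ℕ∞) + (tX + 1) ≤ (hP : WithBot ℕ∞) + ((r : ℕ∞) : WithBot ℕ∞) := by
    rw [e, ← WithBot.coe_add]
    exact WithBot.coe_le_coe.mpr h
  have e2 : tX + 1 ≤ ((r : ℕ∞) : WithBot ℕ∞) := withBot_le_of_add_le_add_left hP hfin _ _ e1
  exact withBot_aux3 r tX e2 hr

/-- Generalised principal ideal theorem in a locally Cohen–Macaulay ring: a minimal prime over
`P + (s)` has height at most `ht P + |s|`. -/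
theorem height_le_of_mem_minimalPrimes_sup_span {R : Type*} [CommRing R] [IsNoetherianRing R]
    (hCM : ∀ (q : Ideal R) [q.IsPrime],
      LocCoh.IsCohenMacaulayLocalRing (Localization.AtPrime q))
    (P : Ideal R) [hP : P.IsPrime] (s : Finset R) :
    ∀ Q : Ideal R, Q ∈ (P ⊔ Ideal.span (s : Set R)).minimalPrimes →
      Q.height ≤ P.height + s.card := by
  classical
  induction s using Finset.induction_on with
  | empty =>
    intro Q hQ
    rw [Finset.coe_empty, Ideal.span_empty, sup_bot_eq] at hQ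
    have h2 : Q ≤ P := hQ.2 ⟨hP, le_rfl⟩ hQ.1.2
    have h1 : Q = P := le_antisymm h2 hQ.1.2
    rw [h1, Finset.card_empty, Nat.cast_zero, add_zero]
  | insert a s ha ih =>
    intro Q hQ
    have hQP : Q.IsPrime := hQ.1.1
    have hJQ : P ⊔ Ideal.span ((insert a s : Finset R) : Set R) ≤ Q := hQ.1.2
    have hspan : Ideal.span ((insert a s : Finset R) : Set R) =
        Ideal.span {a} ⊔ Ideal.span (s : Set R) := by
      rw [Finset.coe_insert, Ideal.span_insert]
    have hPQ : P ≤ Q := le_sup_left.trans hJQ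
    have haspan : Ideal.span ({a} : Set R) ≤ Q := by
      refine le_trans ?_ hJQ
      refine le_trans ?_ le_sup_right
      rw [hspan]
      exact le_sup_left
    have haQ : a ∈ Q := haspan (Ideal.mem_span_singleton_self a)
    have hsQ : Ideal.span (s : Set R) ≤ Q := by
      refine le_trans ?_ hJQ
      refine le_trans ?_ le_sup_right
      rw [hspan]
      exact le_sup_right
    have hJ'Q : P ⊔ Ideal.span (s : Set R) ≤ Q := sup_le hPQ hsQ
    haveI := hQP
    obtain ⟨Q', hQ'min, hQ'Q⟩ := Ideal.exists_minimalPrimes_le hJ'Q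
    have hQ'P : Q'.IsPrime := hQ'min.1.1
    haveI := hQ'P
    have hIH := ih Q' hQ'min
    have hcard : ((insert a s : Finset R).card : ℕ∞) = (s.card : ℕ∞) + 1 := by
      rw [Finset.card_insert_of_notMem ha, Nat.cast_add, Nat.cast_one]
    have hPQ' : P ≤ Q' := le_sup_left.trans hQ'min.1.2
    have hsQ' : Ideal.span (s : Set R) ≤ Q' := le_sup_right.trans hQ'min.1.2
    by_cases haQ' : a ∈ Q'
    · have haspan' : Ideal.span ({a} : Set R) ≤ Q' := by
        rw [Ideal.span_singleton_le_iff_mem]; exact haQ'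
      have h1 : P ⊔ Ideal.span ((insert a s : Finset R) : Set R) ≤ Q' := by
        rw [hspan]
        exact sup_le hPQ' (sup_le haspan' hsQ')
      have h2 : Q ≤ Q' := hQ.2 ⟨hQ'P, h1⟩ hQ'Q
      have h3 : Q = Q' := le_antisymm h2 hQ'Q
      rw [h3, hcard, ← add_assoc]
      exact hIH.trans le_self_add
    · have hmin : Q ∈ (Q' ⊔ Ideal.span {a}).minimalPrimes := by
        refine ⟨⟨hQP, sup_le hQ'Q haspan⟩, ?_⟩
        intro R' hR' hR'Q
        have hQ'R' : Q' ≤ R' := le_sup_left.trans hR'.2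
        have haR' : Ideal.span ({a} : Set R) ≤ R' := le_sup_right.trans hR'.2
        apply hQ.2 ⟨hR'.1, ?_⟩ hR'Q
        rw [hspan]
        exact sup_le (hPQ'.trans hQ'R') (sup_le haR' (hsQ'.trans hQ'R'))
      have hcov := covBy_of_mem_minimalPrimes Q' a haQ' Q hmin
      have hht : Q.height = Q'.height + 1 :=
        Groth.Agent.Helper14.CMCatenary.height_eq_of_covBy R hCM ⟨Q', hQ'P⟩ ⟨Q, hQP⟩ hcov
      rw [hht, hcard, ← add_assoc]
      exact add_le_add hIH le_rfl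

section Abstract

variable {A σ : Type*} [CommRing A] [SetLike σ A] [AddSubmonoidClass σ A]
  (𝒜 : ℕ → σ) [GradedRing 𝒜]

/-- The generic point of an irreducible component of `V_+(J)` is a minimal prime of `J`. -/
theorem component_generic (J : Ideal A) (hJhom : J.IsHomogeneous 𝒜)
    (W : Set (ProjectiveSpectrum 𝒜)) (hWcl : IsClosed W)
    (hmemW : ∀ y : ProjectiveSpectrum 𝒜, y ∈ W ↔ J ≤ y.asHomogeneousIdeal.toIdeal)
    (C : Set ↥W) (hC : C ∈ irreducibleComponents ↥W) :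
    ∃ Q : Ideal A, Q ∈ J.minimalPrimes ∧ Q.IsHomogeneous 𝒜 ∧
      ¬ (HomogeneousIdeal.irrelevant 𝒜).toIdeal ≤ Q ∧
      topologicalKrullDim ↥C =
        topologicalKrullDim ↥(ProjectiveSpectrum.zeroLocus 𝒜 (Q : Set A)) := by
  have hCirr : IsIrreducible C := hC.1
  have hCcl : IsClosed C := isClosed_of_mem_irreducibleComponents C hC
  obtain ⟨z', hz'⟩ := exists_generic_subtype 𝒜 W hWcl ⟨C, hCirr, hCcl⟩
  have hz'C : ∀ y : ↥W, y ∈ C ↔ z' ≤ y := hz'
  obtain ⟨Q, hQ⟩ : ∃ Q : Ideal A, Q = z'.1.asHomogeneousIdeal.toIdeal := ⟨_, rfl⟩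
  have hQP : Q.IsPrime := by rw [hQ]; exact z'.1.isPrime
  have hQh : Q.IsHomogeneous 𝒜 := by rw [hQ]; exact z'.1.asHomogeneousIdeal.isHomogeneous
  have hQrel : ¬ (HomogeneousIdeal.irrelevant 𝒜).toIdeal ≤ Q := by
    rw [hQ]; exact fun h => z'.1.not_irrelevant_le h
  have hJQ : J ≤ Q := by rw [hQ]; exact (hmemW z'.1).mp z'.2
  have hleC : ∀ y : ↥W, y ∈ C ↔ Q ≤ y.1.asHomogeneousIdeal.toIdeal := by
    intro y
    rw [hz'C y, subtype_le_iff, ← hQ]
  haveI := hQP
  obtain ⟨Q0, hQ0min, hQ0Q⟩ := Ideal.exists_minimalPrimes_le hJQ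
  have hQ0P : Q0.IsPrime := hQ0min.1.1
  have hQ0h : Q0.IsHomogeneous 𝒜 := isHomogeneous_of_mem_minimalPrimes 𝒜 hJhom hQ0min
  have hQ0rel : ¬ (HomogeneousIdeal.irrelevant 𝒜).toIdeal ≤ Q0 :=
    fun h => hQrel (h.trans hQ0Q)
  obtain ⟨w0, hw0⟩ : ∃ w0 : ProjectiveSpectrum 𝒜, w0.asHomogeneousIdeal.toIdeal = Q0 :=
    ⟨mkPt 𝒜 Q0 hQ0P hQ0h hQ0rel, rfl⟩
  have hw0W : w0 ∈ W := by
    rw [hmemW, hw0]
    exact hQ0min.1.2
  have hTirr : IsIrreducible (closure ({⟨w0, hw0W⟩} : Set ↥W)) :=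
    isIrreducible_singleton.closure
  have hCT : C ≤ closure ({⟨w0, hw0W⟩} : Set ↥W) := by
    intro y hy
    rw [mem_closure_singleton_subtype, subtype_le_iff]
    show w0.asHomogeneousIdeal.toIdeal ≤ y.1.asHomogeneousIdeal.toIdeal
    rw [hw0]
    exact hQ0Q.trans ((hleC y).mp hy)
  have hTC := hC.2 hTirr hCT
  have hw0C : (⟨w0, hw0W⟩ : ↥W) ∈ C := hTC (subset_closure (Set.mem_singleton _))
  have hQQ0 : Q ≤ Q0 := by
    have h1 := (hleC ⟨w0, hw0W⟩).mp hw0C
    have h2 : Q ≤ w0.asHomogeneousIdeal.toIdeal := h1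
    rw [hw0] at h2
    exact h2
  have hQeq : Q = Q0 := le_antisymm hQQ0 hQ0Q
  have hQmin : Q ∈ J.minimalPrimes := by rw [hQeq]; exact hQ0min
  have himg : Subtype.val '' C = ProjectiveSpectrum.zeroLocus 𝒜 (Q : Set A) := by
    ext y
    rw [mem_zeroLocus_ideal]
    constructor
    · rintro ⟨y', hy'C, rfl⟩
      exact (hleC y').mp hy'C
    · intro hy
      have hyW : y ∈ W := by
        rw [hmemW]
        exact hJQ.trans hy
      exact ⟨⟨y, hyW⟩, (hleC ⟨y, hyW⟩).mpr hy, rfl⟩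
  have e := Topology.IsEmbedding.subtypeVal.homeomorphImage C
  have h1 := IsHomeomorph.topologicalKrullDim_eq _ e.isHomeomorph
  rw [himg] at h1
  exact ⟨Q, hQmin, hQh, hQrel, h1⟩

end Abstract

theorem master_codim (k : Type u) [Field k] (n r : ℕ)
    (X : Set (ProjectiveSpectrum (CohB1.polyGrading n k))) (hXc : IsClosed X)
    (hXi : IsIrreducible X)
    (f : Fin r → MvPolynomial (Fin (n + 1)) k) (d : Fin r → ℕ)
    (hf : ∀ i, (f i).IsHomogeneous (d i)) (hd : ∀ i, 0 < d i) :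
    (∀ C ∈ irreducibleComponents ↥(X ∩ ProjectiveSpectrum.zeroLocus (CohB1.polyGrading n k)
        (Set.range f)),
        topologicalKrullDim ↥X ≤ topologicalKrullDim ↥C + (r : WithBot ℕ∞)) ∧
      ((r : WithBot ℕ∞) ≤ topologicalKrullDim ↥X →
        (X ∩ ProjectiveSpectrum.zeroLocus (CohB1.polyGrading n k) (Set.range f)).Nonempty) := by
  classical
  obtain ⟨z, hz⟩ := exists_generic (CohB1.polyGrading n k) X hXi hXc
  obtain ⟨P, hP⟩ : ∃ P : Ideal (MvPolynomial (Fin (n + 1)) k),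
      P = z.asHomogeneousIdeal.toIdeal := ⟨_, rfl⟩
  rw [← hP] at hz
  have hPP : P.IsPrime := by rw [hP]; exact z.isPrime
  haveI := hPP
  have hPh : P.IsHomogeneous (CohB1.polyGrading n k) := by
    rw [hP]; exact z.asHomogeneousIdeal.isHomogeneous
  have hPrel : ¬ (HomogeneousIdeal.irrelevant (CohB1.polyGrading n k)).toIdeal ≤ P := by
    rw [hP]; exact fun h => z.not_irrelevant_le h
  have hXeq : X = ProjectiveSpectrum.zeroLocus (CohB1.polyGrading n k)
      (P : Set (MvPolynomial (Fin (n + 1)) k)) := by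
    ext y
    rw [hz y, mem_zeroLocus_ideal]
  obtain ⟨irr, hirr⟩ : ∃ irr : Ideal (MvPolynomial (Fin (n + 1)) k),
      irr = (HomogeneousIdeal.irrelevant (CohB1.polyGrading n k)).toIdeal := ⟨_, rfl⟩
  have F := polyFacts k n
  rw [← hirr] at F
  haveI hirrP : irr.IsPrime := F.hmax.isPrime
  have hPirr : P ≤ irr := F.hH2 P hPh hPP.ne_top
  obtain ⟨s, hs⟩ : ∃ s : Finset (MvPolynomial (Fin (n + 1)) k), s = Finset.univ.image f :=
    ⟨_, rfl⟩
  have hscoe : (s : Set (MvPolynomial (Fin (n + 1)) k)) = Set.range f := by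
    rw [hs, Finset.coe_image, Finset.coe_univ, Set.image_univ]
  have hscard : s.card ≤ r := by
    rw [hs]
    refine Finset.card_image_le.trans ?_
    rw [Finset.card_univ, Fintype.card_fin]
  obtain ⟨J, hJ⟩ : ∃ J : Ideal (MvPolynomial (Fin (n + 1)) k),
      J = P ⊔ Ideal.span (s : Set (MvPolynomial (Fin (n + 1)) k)) := ⟨_, rfl⟩
  have hspanhom : (Ideal.span (s : Set (MvPolynomial (Fin (n + 1)) k))).IsHomogeneous
      (CohB1.polyGrading n k) := by
    apply Ideal.homogeneous_span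
    intro x hx
    rw [hscoe] at hx
    obtain ⟨i, rfl⟩ := hx
    exact ⟨d i, (MvPolynomial.mem_homogeneousSubmodule (d i) (f i)).mpr (hf i)⟩
  have hJhom : J.IsHomogeneous (CohB1.polyGrading n k) := by rw [hJ]; exact hPh.sup hspanhom
  have hfirr : ∀ i, f i ∈ irr := by
    intro i
    rw [hirr]
    exact HomogeneousIdeal.mem_irrelevant_of_mem _ (hd i)
      ((MvPolynomial.mem_homogeneousSubmodule (d i) (f i)).mpr (hf i))
  have hspanirr : Ideal.span (s : Set (MvPolynomial (Fin (n + 1)) k)) ≤ irr := by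
    rw [Ideal.span_le, hscoe]
    rintro _ ⟨i, rfl⟩
    exact hfirr i
  have hJirr : J ≤ irr := by rw [hJ]; exact sup_le hPirr hspanirr
  obtain ⟨W, hW⟩ : ∃ W : Set (ProjectiveSpectrum (CohB1.polyGrading n k)),
      W = X ∩ ProjectiveSpectrum.zeroLocus (CohB1.polyGrading n k) (Set.range f) := ⟨_, rfl⟩
  rw [← hW]
  have hmemW : ∀ y : ProjectiveSpectrum (CohB1.polyGrading n k),
      y ∈ W ↔ J ≤ y.asHomogeneousIdeal.toIdeal := by
    intro y
    rw [hW, Set.mem_inter_iff, hz y, ProjectiveSpectrum.mem_zeroLocus, hJ, sup_le_iff,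
      Ideal.span_le, hscoe]
    exact Iff.rfl
  have hWcl : IsClosed W := by
    rw [hW]
    exact hXc.inter (ProjectiveSpectrum.isClosed_zeroLocus _ _)
  obtain ⟨hdP1, hdP2⟩ := ringKrullDim_quotient_prime k n P hPh hPrel
  rw [hdP1, ← hXeq] at hdP2
  have hPfin : P.height ≠ ⊤ := Ideal.height_ne_top_of_isPrime
  have hheight : ∀ Q : Ideal (MvPolynomial (Fin (n + 1)) k), Q ∈ J.minimalPrimes →
      Q.height ≤ P.height + (r : ℕ∞) := by
    intro Q hQ
    have h1 := height_le_of_mem_minimalPrimes_sup_span F.hCM P s Q (by rw [← hJ]; exact hQ)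
    exact h1.trans (add_le_add le_rfl (by exact_mod_cast hscard))
  constructor
  · intro C hC
    obtain ⟨Q, hQmin, hQh, hQrel, hCdim⟩ :=
      component_generic (CohB1.polyGrading n k) J hJhom W hWcl hmemW C hC
    haveI : Q.IsPrime := hQmin.1.1
    obtain ⟨hdQ1, hdQ2⟩ := ringKrullDim_quotient_prime k n Q hQh hQrel
    rw [hdQ1, ← hCdim] at hdQ2
    have hQht := hheight Q hQmin
    exact withBot_aux4 P.height hPfin Q.height r _ _ hQht (hdP2.trans hdQ2.symm)
  · intro hr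
    obtain ⟨Q, hQmin, hQirr⟩ := Ideal.exists_minimalPrimes_le hJirr
    have hQP : Q.IsPrime := hQmin.1.1
    have hQh : Q.IsHomogeneous (CohB1.polyGrading n k) :=
      isHomogeneous_of_mem_minimalPrimes _ hJhom hQmin
    have hQht := hheight Q hQmin
    have hQne : Q ≠ irr := by
      intro h
      rw [h, F.hht] at hQht
      exact withBot_aux5 P.height hPfin r _ _ hQht hdP2 hr
    have hQrel : ¬ (HomogeneousIdeal.irrelevant (CohB1.polyGrading n k)).toIdeal ≤ Q := by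
      rw [← hirr]; exact fun h => hQne (le_antisymm hQirr h)
    refine ⟨mkPt _ Q hQP hQh hQrel, ?_⟩
    rw [hmemW]
    exact hQmin.1.2

end Groth.Agent.Helper22.ProjDim
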