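import Mathlib
import Groth.Prelude.Def_CohB1
import Groth.Agent.Lib.Helper22.ProjDim5

/-!
# Coordinate linear sections of dimension zero
-/

set_option autoImplicit false
set_option maxHeartbeats 1600000
universe u

noncomputable section

namespace Groth.Agent.Helper22.ProjDim

open Groth.Agent.Helper22.HypConn Groth.Agent.Helper22.CoHt

open MvPolynomial in
theorem irr_le_of_X_mem (k : Type u) [Field k] (n : ℕ)
    (Q : Ideal (MvPolynomial (Fin (n + 1)) k))
    (h : ∀ j, (X j : MvPolynomial (Fin (n + 1)) k) ∈ Q) :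
    (HomogeneousIdeal.irrelevant (CohB1.polyGrading n k)).toIdeal ≤ Q := by
  obtain ⟨irr, hirr⟩ : ∃ irr : Ideal (MvPolynomial (Fin (n + 1)) k),
      irr = (HomogeneousIdeal.irrelevant (CohB1.polyGrading n k)).toIdeal := ⟨_, rfl⟩
  rw [← hirr]
  have hX : ∀ j, (X j - C ((0 : Fin (n + 1) → k) j) : MvPolynomial (Fin (n + 1)) k) ∈ irr := by
    intro j
    rw [Pi.zero_apply, C_0, sub_zero, hirr]
    exact HomogeneousIdeal.mem_irrelevant_of_mem (CohB1.polyGrading n k) one_pos
      ((MvPolynomial.mem_homogeneousSubmodule 1 (X j)).mpr (MvPolynomial.isHomogeneous_X k j))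
  have hle : RingHom.ker (eval (0 : Fin (n + 1) → k)) ≤ irr :=
    Groth.Agent.Helper22.RegPt.ker_eval_le 0 irr hX
  have hmax : (RingHom.ker (eval (0 : Fin (n + 1) → k))).IsMaximal :=
    RingHom.ker_isMaximal_of_surjective _ (fun r => ⟨C r, by simp⟩)
  have hne : irr ≠ ⊤ := by rw [hirr]; exact irrelevant_ne_top _
  have heq : RingHom.ker (eval (0 : Fin (n + 1) → k)) = irr := hmax.eq_of_le hne hle
  rw [← heq]
  apply Groth.Agent.Helper22.RegPt.ker_eval_le 0 Q
  intro j
  rw [Pi.zero_apply, C_0, sub_zero]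
  exact h j

/-- A positive-dimensional irreducible closed subset meets every hypersurface `V_+(f)` with
`f` in the irrelevant ideal. -/
theorem section_nonempty (k : Type u) [Field k] (n d : ℕ)
    (P : Ideal (MvPolynomial (Fin (n + 1)) k)) (hPP : P.IsPrime)
    (hPh : P.IsHomogeneous (CohB1.polyGrading n k))
    (hPrel : ¬ (HomogeneousIdeal.irrelevant (CohB1.polyGrading n k)).toIdeal ≤ P)
    (hXd : 0 < topologicalKrullDim ↥(ProjectiveSpectrum.zeroLocus (CohB1.polyGrading n k)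
      (P : Set (MvPolynomial (Fin (n + 1)) k))))
    (f : MvPolynomial (Fin (n + 1)) k) (hf' : f ∈ CohB1.polyGrading n k d)
    (hfirr : f ∈ (HomogeneousIdeal.irrelevant (CohB1.polyGrading n k)).toIdeal)
    (hfP : f ∉ P) :
    ∃ Q : Ideal (MvPolynomial (Fin (n + 1)) k), Q.IsPrime ∧
      Q.IsHomogeneous (CohB1.polyGrading n k) ∧
      ¬ (HomogeneousIdeal.irrelevant (CohB1.polyGrading n k)).toIdeal ≤ Q ∧ P ≤ Q ∧ f ∈ Q := by
  haveI := hPP
  obtain ⟨irr, hirr⟩ : ∃ irr : Ideal (MvPolynomial (Fin (n + 1)) k),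
      irr = (HomogeneousIdeal.irrelevant (CohB1.polyGrading n k)).toIdeal := ⟨_, rfl⟩
  have F := polyFacts k n
  rw [← hirr] at F hfirr
  haveI hirrP : irr.IsPrime := F.hmax.isPrime
  have hPirr : P ≤ irr := F.hH2 P hPh hPP.ne_top
  obtain ⟨hdP1, hdP2⟩ := ringKrullDim_quotient_prime k n P hPh hPrel
  rw [hdP1] at hdP2
  have hPfin : P.height ≠ ⊤ := Ideal.height_ne_top_of_isPrime
  obtain ⟨Q, -, hQP, hQh, hQirr, hPQ, hfQ, hht⟩ :=
    exists_cover_of_elem (CohB1.polyGrading n k) irr F.hCM P hPP hPh hPirr d f hf' hfirr hfP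
  have hQne : Q ≠ irr := by
    intro h
    have h1 : P.height + 1 = ((n + 1 : ℕ) : ℕ∞) := by rw [← hht, h]; exact F.hht
    rw [← h1] at hdP2
    exact withBot_aux1 P.height hPfin _ hXd hdP2
  have hQrel : ¬ (HomogeneousIdeal.irrelevant (CohB1.polyGrading n k)).toIdeal ≤ Q := by
    rw [← hirr]; exact fun h => hQne (le_antisymm hQirr h)
  exact ⟨Q, hQP, hQh, hQrel, hPQ.le, hfQ⟩

open MvPolynomial in
theorem coordinate_section (k : Type u) [Field k] (n : ℕ)
    (C : Set (ProjectiveSpectrum (CohB1.polyGrading n k)))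
    (hC : IsClosed C) (hirrC : IsIrreducible C) :
    ∃ i : ℕ, i ≤ n ∧
      (C ∩ ProjectiveSpectrum.zeroLocus (CohB1.polyGrading n k)
          ((fun j : Fin (n + 1) => (MvPolynomial.X j : MvPolynomial (Fin (n + 1)) k)) ''
            {j : Fin (n + 1) | 1 ≤ j.val ∧ j.val ≤ i})).Nonempty ∧
      topologicalKrullDim ↥(C ∩ ProjectiveSpectrum.zeroLocus (CohB1.polyGrading n k)
          ((fun j : Fin (n + 1) => (MvPolynomial.X j : MvPolynomial (Fin (n + 1)) k)) ''
            {j : Fin (n + 1) | 1 ≤ j.val ∧ j.val ≤ i})) = 0 := by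
  classical
  by_contra hno
  push_neg at hno
  obtain ⟨L, hL⟩ : ∃ L : ℕ → Set (ProjectiveSpectrum (CohB1.polyGrading n k)),
      L = fun i => ProjectiveSpectrum.zeroLocus (CohB1.polyGrading n k)
          ((fun j : Fin (n + 1) => (MvPolynomial.X j : MvPolynomial (Fin (n + 1)) k)) ''
            {j : Fin (n + 1) | 1 ≤ j.val ∧ j.val ≤ i}) := ⟨_, rfl⟩
  have hno' : ∀ i, i ≤ n → (C ∩ L i).Nonempty → topologicalKrullDim ↥(C ∩ L i) ≠ 0 := by
    intro i hi
    subst hL
    exact hno i hi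
  have hmemL : ∀ (i : ℕ) (z : ProjectiveSpectrum (CohB1.polyGrading n k)), z ∈ L i ↔
      ∀ j : Fin (n + 1), 1 ≤ j.val → j.val ≤ i →
        (X j : MvPolynomial (Fin (n + 1)) k) ∈ z.asHomogeneousIdeal.toIdeal := by
    intro i z
    subst hL
    show z ∈ ProjectiveSpectrum.zeroLocus (CohB1.polyGrading n k) _ ↔ _
    rw [ProjectiveSpectrum.mem_zeroLocus]
    constructor
    · intro h j h1 h2
      exact h ⟨j, ⟨h1, h2⟩, rfl⟩
    · rintro h _ ⟨j, ⟨h1, h2⟩, rfl⟩
      exact h j h1 h2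
  have hLcl : ∀ i, IsClosed (L i) := by
    intro i
    subst hL
    exact ProjectiveSpectrum.isClosed_zeroLocus _ _
  obtain ⟨irr, hirr⟩ : ∃ irr : Ideal (MvPolynomial (Fin (n + 1)) k),
      irr = (HomogeneousIdeal.irrelevant (CohB1.polyGrading n k)).toIdeal := ⟨_, rfl⟩
  have F := polyFacts k n
  rw [← hirr] at F
  haveI hirrP : irr.IsPrime := F.hmax.isPrime
  obtain ⟨z0, hz0⟩ := exists_generic (CohB1.polyGrading n k) C hirrC hC
  have hXdeg : ∀ j : Fin (n + 1),
      (X j : MvPolynomial (Fin (n + 1)) k) ∈ CohB1.polyGrading n k 1 := fun j =>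
    (MvPolynomial.mem_homogeneousSubmodule 1 (X j)).mpr (MvPolynomial.isHomogeneous_X k j)
  have hXirr : ∀ j : Fin (n + 1),
      (X j : MvPolynomial (Fin (n + 1)) k) ∈
        (HomogeneousIdeal.irrelevant (CohB1.polyGrading n k)).toIdeal := fun j =>
    HomogeneousIdeal.mem_irrelevant_of_mem (CohB1.polyGrading n k) one_pos (hXdeg j)
  -- chains in a non-good nonempty section
  have hchain : ∀ i, i ≤ n → (C ∩ L i).Nonempty →
      ∃ y y' : ProjectiveSpectrum (CohB1.polyGrading n k), y ∈ C ∩ L i ∧ y' ∈ C ∩ L i ∧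
        y.asHomogeneousIdeal.toIdeal ≤ y'.asHomogeneousIdeal.toIdeal ∧
        ¬ y'.asHomogeneousIdeal.toIdeal ≤ y.asHomogeneousIdeal.toIdeal := by
    intro i hi hne
    have hng := hno' i hi hne
    have hcl : IsClosed (C ∩ L i) := hC.inter (hLcl i)
    rw [topologicalKrullDim_eq_krullDim _ _ hcl] at hng
    haveI : Nonempty ↥(C ∩ L i) := hne.to_subtype
    have hpos : 0 < Order.krullDim ↥(C ∩ L i) :=
      lt_of_le_of_ne Order.krullDim_nonneg (Ne.symm hng)
    obtain ⟨⟨y, hy⟩, ⟨y', hy'⟩, hlt⟩ := Order.krullDim_pos_iff.mp hpos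
    rw [lt_iff_le_not_ge, subtype_le_iff, subtype_le_iff] at hlt
    exact ⟨y, y', hy, hy', hlt.1, hlt.2⟩
  have hstep : ∀ i, i + 1 ≤ n → (C ∩ L i).Nonempty → (C ∩ L (i + 1)).Nonempty := by
    intro i hi hne
    obtain ⟨y, y', hy, hy', hle, hnle⟩ := hchain i (by omega) hne
    obtain ⟨j0, hj0⟩ : ∃ j0 : Fin (n + 1), j0.val = i + 1 := ⟨⟨i + 1, by omega⟩, rfl⟩
    have hyL := (hmemL i y).mp hy.2
    by_cases hx : (X j0 : MvPolynomial (Fin (n + 1)) k) ∈ y.asHomogeneousIdeal.toIdeal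
    · refine ⟨y, hy.1, ?_⟩
      rw [hmemL]
      intro j h1 h2
      by_cases hji : j.val ≤ i
      · exact hyL j h1 hji
      · have hjj : j = j0 := Fin.ext (by omega)
        rw [hjj]
        exact hx
    · have hpos' : 0 < topologicalKrullDim ↥(ProjectiveSpectrum.zeroLocus
          (CohB1.polyGrading n k)
          (y.asHomogeneousIdeal.toIdeal : Set (MvPolynomial (Fin (n + 1)) k))) := by
        rw [topologicalKrullDim_eq_krullDim _ _ (ProjectiveSpectrum.isClosed_zeroLocus _ _)]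
        have hm1 : y ∈ ProjectiveSpectrum.zeroLocus (CohB1.polyGrading n k)
            (y.asHomogeneousIdeal.toIdeal : Set (MvPolynomial (Fin (n + 1)) k)) := by
          rw [mem_zeroLocus_ideal]
        have hm2 : y' ∈ ProjectiveSpectrum.zeroLocus (CohB1.polyGrading n k)
            (y.asHomogeneousIdeal.toIdeal : Set (MvPolynomial (Fin (n + 1)) k)) := by
          rw [mem_zeroLocus_ideal]; exact hle
        refine Order.krullDim_pos_iff.mpr ⟨⟨y, hm1⟩, ⟨y', hm2⟩, ?_⟩
        rw [lt_iff_le_not_ge, subtype_le_iff, subtype_le_iff]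
        exact ⟨hle, hnle⟩
      obtain ⟨Q, hQP, hQh, hQrel, hyQ, hxQ⟩ :=
        section_nonempty k n 1 y.asHomogeneousIdeal.toIdeal y.isPrime
          y.asHomogeneousIdeal.isHomogeneous (fun h => y.not_irrelevant_le h) hpos'
          (X j0) (hXdeg j0) (hXirr j0) hx
      refine ⟨mkPt _ Q hQP hQh hQrel, ?_, ?_⟩
      · rw [hz0]
        show z0.asHomogeneousIdeal.toIdeal ≤ Q
        exact ((hz0 y).mp hy.1).trans hyQ
      · rw [hmemL]
        intro j h1 h2
        show (X j : MvPolynomial (Fin (n + 1)) k) ∈ Q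
        by_cases hji : j.val ≤ i
        · exact hyQ (hyL j h1 hji)
        · have hjj : j = j0 := Fin.ext (by omega)
          rw [hjj]
          exact hxQ
  have hall : ∀ i, i ≤ n → (C ∩ L i).Nonempty := by
    intro i
    induction i with
    | zero =>
      intro _
      obtain ⟨c, hc⟩ := hirrC.1
      refine ⟨c, hc, ?_⟩
      rw [hmemL]
      intro j h1 h2
      omega
    | succ i ih =>
      intro hi
      exact hstep i hi (ih (by omega))
  obtain ⟨y, y', hy, hy', hle, hnle⟩ := hchain n le_rfl (hall n le_rfl)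
  have hyL := (hmemL n y).mp hy.2
  have hx0' : (X 0 : MvPolynomial (Fin (n + 1)) k) ∉ y'.asHomogeneousIdeal.toIdeal := by
    intro h0
    apply y'.not_irrelevant_le
    show (HomogeneousIdeal.irrelevant (CohB1.polyGrading n k)).toIdeal ≤
      y'.asHomogeneousIdeal.toIdeal
    apply irr_le_of_X_mem
    intro j
    by_cases hj : j.val = 0
    · have hjj : j = 0 := Fin.ext hj
      rw [hjj]
      exact h0
    · exact hle (hyL j (by omega) (by omega))
  have hx0 : (X 0 : MvPolynomial (Fin (n + 1)) k) ∉ y.asHomogeneousIdeal.toIdeal :=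
    fun h => hx0' (hle h)
  have hyirr : y.asHomogeneousIdeal.toIdeal ≤ irr :=
    F.hH2 _ y.asHomogeneousIdeal.isHomogeneous y.isPrime.ne_top
  have hy'irr : y'.asHomogeneousIdeal.toIdeal ≤ irr :=
    F.hH2 _ y'.asHomogeneousIdeal.isHomogeneous y'.isPrime.ne_top
  have hX0irr : (X 0 : MvPolynomial (Fin (n + 1)) k) ∈ irr := by rw [hirr]; exact hXirr 0
  obtain ⟨Q, hQmin, hQP, hQh, hQirr, hyQ, hx0Q, -⟩ :=
    exists_cover_of_elem (CohB1.polyGrading n k) irr F.hCM y.asHomogeneousIdeal.toIdeal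
      y.isPrime y.asHomogeneousIdeal.isHomogeneous hyirr 1 (X 0) (hXdeg 0) hX0irr hx0
  haveI := hQP
  have hirrQ : irr ≤ Q := by
    rw [hirr]
    apply irr_le_of_X_mem
    intro j
    by_cases hj : j.val = 0
    · have hjj : j = 0 := Fin.ext hj
      rw [hjj]
      exact hx0Q
    · exact hyQ.le (hyL j (by omega) (by omega))
  have hcov := covBy_of_mem_minimalPrimes y.asHomogeneousIdeal.toIdeal (X 0) hx0 Q hQmin
  have h1 : (⟨y.asHomogeneousIdeal.toIdeal, y.isPrime⟩ :
      PrimeSpectrum (MvPolynomial (Fin (n + 1)) k)) <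
      ⟨y'.asHomogeneousIdeal.toIdeal, y'.isPrime⟩ := lt_of_le_not_ge hle hnle
  have h2 : (⟨y'.asHomogeneousIdeal.toIdeal, y'.isPrime⟩ :
      PrimeSpectrum (MvPolynomial (Fin (n + 1)) k)) < ⟨Q, hQP⟩ := by
    refine lt_of_le_not_ge (hy'irr.trans hirrQ) ?_
    intro h
    apply y'.not_irrelevant_le
    show (HomogeneousIdeal.irrelevant (CohB1.polyGrading n k)).toIdeal ≤
      y'.asHomogeneousIdeal.toIdeal
    rw [← hirr]
    exact hirrQ.trans h
  exact hcov.2 h1 h2

end Groth.Agent.Helper22.ProjDim
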