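import Mathlib
import Groth.Agent.Lib.Helper22.PtExt3
import Groth.Agent.Lib.Helper6.CartierRed

/-!
# Helper22: rational points separate elements of a commutative Hopf algebra over an algebraically
closed field of characteristic zero (no finiteness assumption)
-/

set_option autoImplicit false
universe u v

namespace Groth.Agent.Helper22.PtExt

open TensorProduct Groth.Agent.Lib.Helper6.HopfSub

variable {k : Type u} [Field k] [IsAlgClosed k] [CharZero k] {A : Type v} [CommRing A]
  [HopfAlgebra k A]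

/-- for `a ≠ 0` there is a rational point of `A` not vanishing at `a` -/
theorem exists_algHom_apply_ne_zero {a : A} (ha : a ≠ 0) : ∃ g : A →ₐ[k] k, g a ≠ 0 := by
  classical
  obtain ⟨B, haB, hBfg, hB⟩ :=
    Groth.Agent.Lib.Helper6.HopfFG.exists_fg_hopfSub (k := k) ({a} : Finset A)
  have haB' : a ∈ B := haB a (Finset.mem_singleton_self a)
  letI : HopfAlgebra k B := Groth.Agent.Lib.Helper6.HopfSubInst.hopfAlgebra hB
  haveI : Algebra.FiniteType k B := (Subalgebra.fg_iff_finiteType B).mp hBfg
  haveI : IsReduced B := Groth.Agent.Lib.Helper6.CartierRed.isReduced k B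
  have hnil : ¬ IsNilpotent (⟨a, haB'⟩ : B) := by
    intro h
    have h0 : (⟨a, haB'⟩ : B) = 0 := IsReduced.eq_zero _ h
    exact ha (congrArg Subtype.val h0)
  obtain ⟨g₀, hg₀⟩ := exists_algHom_ne_zero k B ⟨a, haB'⟩ hnil
  obtain ⟨g, hg⟩ := exists_algHom_extension hB g₀
  refine ⟨g, ?_⟩
  have := hg ⟨a, haB'⟩
  rw [show g ((⟨a, haB'⟩ : B) : A) = g a from rfl] at this
  rw [this]
  exact hg₀

theorem eq_zero_of_forall_algHom {a : A} (h : ∀ g : A →ₐ[k] k, g a = 0) : a = 0 := by
  by_contra ha
  obtain ⟨g, hg⟩ := exists_algHom_apply_ne_zero (k := k) ha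
  exact hg (h g)

end Groth.Agent.Helper22.PtExt
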