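import Mathlib
import Groth.Agent.Lib.Lead.Depth17

/-!
# Cohen–Macaulayness descends along cyclically pure local maps with `√(𝔪_R L) = 𝔪_L`
(helper22, requested by helper12 for S14655).
-/

set_option autoImplicit false
universe u
open RingTheory.Sequence LocCoh IsLocalRing Pointwise

namespace Groth.Agent.Helper22.PureCM

open Groth.Agent.Lead.Depth

theorem withBot_le_zero_of_add_natCast_eq (a : WithBot ℕ∞) (d : ℕ)
    (h : a + (d : WithBot ℕ∞) = (d : WithBot ℕ∞)) : a ≤ 0 := by
  induction a using WithBot.recBotCoe with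
  | bot => exact bot_le
  | coe x =>
    induction x using ENat.recTopCoe with
    | top =>
      exfalso
      have h0 : ((d : ℕ∞) : WithBot ℕ∞) = (d : WithBot ℕ∞) := rfl
      rw [← h0, ← WithBot.coe_add, WithBot.coe_inj, top_add] at h
      exact ENat.top_ne_coe d h
    | coe m =>
      have h1 : m + d = d := by exact_mod_cast h
      have h2 : m = 0 := by omega
      subst h2
      simp

section

variable {R L : Type u} [CommRing R] [CommRing L] [IsLocalRing R] (φ : R →+* L)

/-- a regular element coming from `𝔪_R` -/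
theorem exists_regular [IsLocalRing L] [IsNoetherianRing L]
    (hrad : ∀ P : Ideal L, P.IsPrime → (maximalIdeal R).map φ ≤ P → P = maximalIdeal L)
    (M : Type u) [AddCommGroup M] [Module L M] [Module.Finite L M]
    (htop : maximalIdeal L • (⊤ : Submodule L M) ≠ ⊤)
    (hd : (1 : ℕ∞) ≤ idealDepth (maximalIdeal L) M) :
    ∃ y ∈ maximalIdeal R, IsSMulRegular M (φ y) := by
  by_contra hcon
  push Not at hcon
  have hsub : ((maximalIdeal R : Ideal R) : Set R) ⊆
      ⋃ P ∈ associatedPrimes L M, ((Ideal.comap φ P : Ideal R) : Set R) := by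
    intro y hy
    have h1 : φ y ∈ ({r | IsSMulRegular M r}ᶜ : Set L) := hcon y hy
    rw [← biUnion_associatedPrimes_eq_compl_regular L M] at h1
    simp only [Set.mem_iUnion, SetLike.mem_coe] at h1 ⊢
    obtain ⟨P, hP, hyP⟩ := h1
    exact ⟨P, hP, hyP⟩
  obtain ⟨P, hP, hle⟩ := (Ideal.subset_union_prime_finite (associatedPrimes.finite L M)
    (f := fun P => Ideal.comap φ P) 0 0 (fun P hP _ _ => by
      haveI := hP.isPrime
      exact Ideal.comap_isPrime φ P)).1 hsub
  have hPmax : P = maximalIdeal L :=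
    hrad P hP.isPrime (Ideal.map_le_iff_le_comap.mpr hle)
  rw [hPmax] at hP
  have h0 := idealDepth_eq_zero_of_mem_associatedPrimes M (maximalIdeal L) hP htop
  rw [h0] at hd
  simp at hd

theorem exists_seq [IsLocalRing L] [IsNoetherianRing L]
    (hmL : (maximalIdeal R).map φ ≤ maximalIdeal L)
    (hrad : ∀ P : Ideal L, P.IsPrime → (maximalIdeal R).map φ ≤ P → P = maximalIdeal L) :
    ∀ (n : ℕ) (M : Type u) [AddCommGroup M] [Module L M] [Module.Finite L M],
      maximalIdeal L • (⊤ : Submodule L M) ≠ ⊤ → (n : ℕ∞) ≤ idealDepth (maximalIdeal L) M →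
      ∃ ys : List R, ys.length = n ∧ (∀ y ∈ ys, y ∈ maximalIdeal R) ∧
        IsWeaklyRegular M (ys.map φ) := by
  intro n
  induction n with
  | zero =>
    intro M _ _ _ _ _
    exact ⟨[], rfl, by simp, IsWeaklyRegular.nil L M⟩
  | succ n ih =>
    intro M _ _ _ htop hd
    have h1 : (1 : ℕ∞) ≤ idealDepth (maximalIdeal L) M := by
      refine le_trans ?_ hd
      exact_mod_cast Nat.le_add_left 1 n
    obtain ⟨y, hy, hreg⟩ := exists_regular φ hrad M htop h1
    have hx : φ y ∈ maximalIdeal L := hmL (Ideal.mem_map_of_mem φ hy)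
    have hadd := idealDepth_quotSMulTop_add_one (maximalIdeal L) M htop (φ y) hx hreg
    have htop' := smul_top_quotSMulTop_ne_top (M := M) hx htop
    have hd' : (n : ℕ∞) ≤ idealDepth (maximalIdeal L) (QuotSMulTop (φ y) M) := by
      rw [← hadd] at hd
      have h2 : ((n : ℕ∞) + 1) ≤ idealDepth (maximalIdeal L) (QuotSMulTop (φ y) M) + 1 := by
        exact_mod_cast hd
      exact (ENat.add_le_add_iff_right ENat.one_ne_top).mp h2
    obtain ⟨ys, hlen, hmem, hwr⟩ := ih (QuotSMulTop (φ y) M) htop' hd'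
    refine ⟨y :: ys, by simp [hlen], ?_, ?_⟩
    · intro z hz
      rcases List.mem_cons.mp hz with rfl | hz
      · exact hy
      · exact hmem z hz
    · rw [List.map_cons]
      exact (isWeaklyRegular_cons_iff M (φ y) _).mpr ⟨hreg, hwr⟩

theorem isWeaklyRegular_of_map (hpure : ∀ J : Ideal R, (J.map φ).comap φ = J) (ys : List R)
    (h : IsWeaklyRegular L (ys.map φ)) : IsWeaklyRegular R ys := by
  rw [isWeaklyRegular_iff] at h ⊢
  intro i hi
  have hi' : i < (ys.map φ).length := by rwa [List.length_map]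
  have h1 := h i hi'
  rw [isSMulRegular_quotient_iff_mem_of_smul_mem] at h1 ⊢
  intro a ha
  have hR : Ideal.ofList (List.take i ys) • (⊤ : Submodule R R) = Ideal.ofList (List.take i ys) := by
    rw [smul_eq_mul, Ideal.mul_top]
  have hL : Ideal.ofList (List.take i (ys.map φ)) • (⊤ : Submodule L L) =
      (Ideal.ofList (List.take i ys)).map φ := by
    rw [smul_eq_mul, Ideal.mul_top, ← List.map_take, ← Ideal.map_ofList]
  rw [hR] at ha ⊢
  rw [hL] at h1
  have h2 : (ys.map φ)[i] • φ a ∈ (Ideal.ofList (List.take i ys)).map φ := by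
    rw [List.getElem_map, smul_eq_mul, ← map_mul]
    rw [smul_eq_mul] at ha
    exact Ideal.mem_map_of_mem φ ha
  have h3 := h1 (φ a) h2
  rw [← hpure (Ideal.ofList (List.take i ys))]
  exact h3

theorem pow_mem_of_dim_zero [IsLocalRing L] (I : Ideal L) (hI : I ≠ ⊤)
    (hdim : ringKrullDim (L ⧸ I) ≤ 0) (b : L) (hb : b ∈ maximalIdeal L) :
    ∃ k : ℕ, b ^ k ∈ I := by
  haveI : Nontrivial (L ⧸ I) := Ideal.Quotient.nontrivial_iff.mpr hI
  haveI : IsLocalRing (L ⧸ I) :=
    IsLocalRing.of_surjective' (Ideal.Quotient.mk I) Ideal.Quotient.mk_surjective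
  haveI : Ring.KrullDimLE 0 (L ⧸ I) :=
    (Ring.krullDimLE_iff (n := 0)).mpr (by rw [Nat.cast_zero]; exact hdim)
  have hmem : Ideal.Quotient.mk I b ∈ maximalIdeal (L ⧸ I) := by
    rw [mem_maximalIdeal, mem_nonunits_iff]
    intro hu
    obtain ⟨u, hu⟩ := isUnit_iff_exists_inv.mp hu
    obtain ⟨c, rfl⟩ := Ideal.Quotient.mk_surjective u
    rw [← map_mul, ← map_one (Ideal.Quotient.mk I), Ideal.Quotient.eq] at hu
    have hIm : I ≤ maximalIdeal L := le_maximalIdeal hI
    have h1 : (1 : L) ∈ maximalIdeal L := by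
      have h2 : (1 : L) = b * c - (b * c - 1) := by ring
      rw [h2]
      exact Ideal.sub_mem _ (Ideal.mul_mem_right _ _ hb) (hIm hu)
    exact (Ideal.ne_top_iff_one _).mp (maximalIdeal.isMaximal L).ne_top h1
  obtain ⟨k, hk⟩ := (Ring.KrullDimLE.isNilpotent_iff_mem_maximalIdeal.mpr hmem)
  refine ⟨k, ?_⟩
  rw [← map_pow] at hk
  exact Ideal.Quotient.eq_zero_iff_mem.mp hk

end

/-- Cohen–Macaulayness descends along a cyclically pure map `φ : R → L` of local rings such that
`𝔪_L` is the only prime of `L` containing `φ(𝔪_R)`. -/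
theorem isCM_of_pure {R L : Type u} [CommRing R] [CommRing L] [IsLocalRing R] (φ : R →+* L)
    [hL : LocCoh.IsCohenMacaulayLocalRing L]
    (hpure : ∀ J : Ideal R, (J.map φ).comap φ = J)
    (hrad : ∀ P : Ideal L, P.IsPrime → (IsLocalRing.maximalIdeal R).map φ ≤ P →
      P = IsLocalRing.maximalIdeal L) :
    LocCoh.IsCohenMacaulayLocalRing R := by
  classical
  haveI hNoeth : IsNoetherianRing R := by
    rw [isNoetherianRing_iff, isNoetherian_iff']
    have hmono : StrictMono (fun J : Ideal R => J.map φ) := by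
      apply Monotone.strictMono_of_injective
      · intro J K h
        exact Ideal.map_mono h
      · intro J K h
        have h1 := congrArg (Ideal.comap φ) h
        simp only [hpure] at h1
        exact h1
    exact hmono.wellFoundedGT
  have hmne : (maximalIdeal R).map φ ≠ ⊤ := by
    intro h
    have h1 := hpure (maximalIdeal R)
    rw [h, Ideal.comap_top] at h1
    exact (maximalIdeal.isMaximal R).ne_top h1.symm
  have hmL : (maximalIdeal R).map φ ≤ maximalIdeal L := le_maximalIdeal hmne
  have htopL : maximalIdeal L • (⊤ : Submodule L L) ≠ ⊤ := by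
    rw [smul_eq_mul, Ideal.mul_top]
    exact (maximalIdeal.isMaximal L).ne_top
  obtain ⟨d, hd⟩ := ENat.ne_top_iff_exists.mp (depth_ne_top (R := L) L)
  have hdL : ringKrullDim L = (d : WithBot ℕ∞) := by
    rw [← Module.supportDim_self_eq_ringKrullDim, hL.supportDim_eq_depth, ← hd]
    rfl
  obtain ⟨ys, hlen, hmem, hwrL⟩ := exists_seq φ hmL hrad d L htopL (by rw [hd]; exact le_rfl)
  have hwrR : IsWeaklyRegular R ys := isWeaklyRegular_of_map φ hpure ys hwrL
  have hdepthR : (d : ℕ∞) ≤ LocCoh.depth R R := by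
    have h1 := le_idealDepth_of_isWeaklyRegular (maximalIdeal R) R ys hwrR hmem
    rw [hlen] at h1
    exact h1
  have hxsmem : ∀ x ∈ ys.map φ, x ∈ maximalIdeal L := by
    intro x hx
    obtain ⟨y, hy, rfl⟩ := List.mem_map.mp hx
    exact hmL (Ideal.mem_map_of_mem φ (hmem y hy))
  have hregL : IsRegular L (ys.map φ) := isRegular_of_isWeaklyRegular_of_mem htopL hwrL hxsmem
  have hdimq := ringKrullDim_add_length_eq_ringKrullDim_of_isRegular (ys.map φ) hregL
  rw [List.length_map, hlen, hdL] at hdimq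
  have hdim0 : ringKrullDim (L ⧸ Ideal.ofList (ys.map φ)) ≤ 0 :=
    withBot_le_zero_of_add_natCast_eq _ d hdimq
  have hIne : Ideal.ofList (ys.map φ) ≠ ⊤ := by
    intro h
    have h1 : Ideal.ofList (ys.map φ) ≤ maximalIdeal L := by
      rw [Ideal.ofList, Ideal.span_le]
      intro x hx
      exact hxsmem x hx
    rw [h] at h1
    exact (maximalIdeal.isMaximal L).ne_top (top_le_iff.mp h1)
  have hmin : maximalIdeal R ∈ (Ideal.span (ys.toFinset : Set R)).minimalPrimes := by
    have hspan : Ideal.span (ys.toFinset : Set R) = Ideal.ofList ys := by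
      rw [List.coe_toFinset]
    rw [hspan]
    refine ⟨⟨(maximalIdeal.isMaximal R).isPrime, ?_⟩, ?_⟩
    · rw [Ideal.ofList, Ideal.span_le]
      intro y hy
      exact hmem y hy
    · rintro q ⟨hqp, hqle⟩ _
      intro a ha
      have hb : φ a ∈ maximalIdeal L := hmL (Ideal.mem_map_of_mem φ ha)
      obtain ⟨k, hk⟩ := pow_mem_of_dim_zero (Ideal.ofList (ys.map φ)) hIne hdim0 (φ a) hb
      rw [← map_pow, ← Ideal.map_ofList] at hk
      have h2 : a ^ k ∈ Ideal.ofList ys := by
        rw [← hpure (Ideal.ofList ys)]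
        exact hk
      exact hqp.mem_of_pow_mem k (hqle h2)
  have hht : (maximalIdeal R).height ≤ (d : ℕ∞) := by
    refine (Ideal.height_le_card_of_mem_minimalPrimes_span_finset hmin).trans ?_
    have h1 := List.toFinset_card_le ys
    rw [hlen] at h1
    exact_mod_cast h1
  have hdimR : ringKrullDim R ≤ ((d : ℕ∞) : WithBot ℕ∞) := by
    rw [← maximalIdeal_height_eq_ringKrullDim]
    exact WithBot.coe_le_coe.mpr hht
  have hdepth_le := depth_self_le_ringKrullDim (R := R)
  refine { supportDim_eq_depth := ?_ }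
  rw [Module.supportDim_self_eq_ringKrullDim]
  apply le_antisymm
  · exact hdimR.trans (WithBot.coe_le_coe.mpr hdepthR)
  · exact hdepth_le

end Groth.Agent.Helper22.PureCM
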