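import Mathlib

set_option autoImplicit false

/-! Maximising a linear form over the square root of a quadratic form on the orthant:
sqrt-free optimality, first-order conditions, rationality of an optimiser. -/

namespace Groth.Agent.Helper22.QuadMax

open Matrix

variable {n : ℕ}

/-- sqrt-free optimality on the orthant. -/
structure Opt (M : Matrix (Fin n) (Fin n) ℝ) (l y : Fin n → ℝ) : Prop where
  nonneg : ∀ i, 0 ≤ y i
  pos : 0 < l ⬝ᵥ y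
  max : ∀ w : Fin n → ℝ, (∀ i, 0 ≤ w i) → 0 ≤ l ⬝ᵥ w →
    (l ⬝ᵥ w) ^ 2 * (y ⬝ᵥ M *ᵥ y) ≤ (l ⬝ᵥ y) ^ 2 * (w ⬝ᵥ M *ᵥ w)

open Classical in
/-- support of a real vector -/
noncomputable def supp (y : Fin n → ℝ) : Finset (Fin n) := Finset.univ.filter (fun i => y i ≠ 0)

theorem mem_supp {y : Fin n → ℝ} {i : Fin n} : i ∈ supp y ↔ y i ≠ 0 := by
  unfold supp
  simp

theorem q_add_smul (M : Matrix (Fin n) (Fin n) ℝ) (y z : Fin n → ℝ) (t : ℝ) :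
    (y + t • z) ⬝ᵥ M *ᵥ (y + t • z) =
      y ⬝ᵥ M *ᵥ y + t * (y ⬝ᵥ M *ᵥ z + z ⬝ᵥ M *ᵥ y) + t ^ 2 * (z ⬝ᵥ M *ᵥ z) := by
  simp only [Matrix.mulVec_add, Matrix.mulVec_smul, dotProduct_add, add_dotProduct,
    smul_dotProduct, dotProduct_smul, smul_eq_mul]
  ring

theorem l_add_smul (l y z : Fin n → ℝ) (t : ℝ) :
    l ⬝ᵥ (y + t • z) = l ⬝ᵥ y + t * (l ⬝ᵥ z) := by
  simp only [dotProduct_add, dotProduct_smul, smul_eq_mul]

theorem q_smul (M : Matrix (Fin n) (Fin n) ℝ) (y : Fin n → ℝ) (c : ℝ) :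
    (c • y) ⬝ᵥ M *ᵥ (c • y) = c ^ 2 * (y ⬝ᵥ M *ᵥ y) := by
  simp only [Matrix.mulVec_smul, smul_dotProduct, dotProduct_smul, smul_eq_mul]
  ring

theorem l_smul (l y : Fin n → ℝ) (c : ℝ) : l ⬝ᵥ (c • y) = c * (l ⬝ᵥ y) := by
  simp only [dotProduct_smul, smul_eq_mul]

theorem nonneg_of_forall_pos (A D : ℝ) (h : ∀ t : ℝ, 0 < t → 0 ≤ A + t * D) : 0 ≤ A := by
  by_contra hA
  push_neg at hA
  have he : 0 < |D| + 1 := by positivity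
  have ht : 0 < -A / (2 * (|D| + 1)) := div_pos (by linarith) (by positivity)
  have h1 := h _ ht
  have h2 : -A / (2 * (|D| + 1)) * D ≤ -A / (2 * (|D| + 1)) * (|D| + 1) :=
    mul_le_mul_of_nonneg_left (by linarith [le_abs_self D]) ht.le
  have h3 : -A / (2 * (|D| + 1)) * (|D| + 1) = -A / 2 := by
    field_simp
  linarith

theorem Opt.ne_zero {M : Matrix (Fin n) (Fin n) ℝ} {l y : Fin n → ℝ} (h : Opt M l y) : y ≠ 0 := by
  intro h0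
  have := h.pos
  rw [h0, dotProduct_zero] at this
  exact lt_irrefl _ this

theorem Opt.smul {M : Matrix (Fin n) (Fin n) ℝ} {l y : Fin n → ℝ} (h : Opt M l y) {c : ℝ}
    (hc : 0 < c) : Opt M l (c • y) := by
  refine ⟨fun i => mul_nonneg hc.le (h.nonneg i), by rw [l_smul]; exact mul_pos hc h.pos,
    fun w hw hlw => ?_⟩
  rw [l_smul, q_smul]
  have := h.max w hw hlw
  calc (l ⬝ᵥ w) ^ 2 * (c ^ 2 * (y ⬝ᵥ M *ᵥ y))
      = c ^ 2 * ((l ⬝ᵥ w) ^ 2 * (y ⬝ᵥ M *ᵥ y)) := by ring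
    _ ≤ c ^ 2 * ((l ⬝ᵥ y) ^ 2 * (w ⬝ᵥ M *ᵥ w)) := mul_le_mul_of_nonneg_left this (sq_nonneg c)
    _ = (c * (l ⬝ᵥ y)) ^ 2 * (w ⬝ᵥ M *ᵥ w) := by ring

/-- one-sided first-order condition -/
theorem Opt.foc_one {M : Matrix (Fin n) (Fin n) ℝ} {l y : Fin n → ℝ} (h : Opt M l y)
    (w : Fin n → ℝ) (hw : ∀ i, 0 ≤ w i) (hlw : 0 ≤ l ⬝ᵥ w) :
    0 ≤ (l ⬝ᵥ y) * (y ⬝ᵥ M *ᵥ w + w ⬝ᵥ M *ᵥ y) - 2 * (l ⬝ᵥ w) * (y ⬝ᵥ M *ᵥ y) := by
  have key : ∀ t : ℝ, 0 < t →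
      0 ≤ (l ⬝ᵥ y) * ((l ⬝ᵥ y) * (y ⬝ᵥ M *ᵥ w + w ⬝ᵥ M *ᵥ y)
            - 2 * (l ⬝ᵥ w) * (y ⬝ᵥ M *ᵥ y))
        + t * ((l ⬝ᵥ y) ^ 2 * (w ⬝ᵥ M *ᵥ w) - (l ⬝ᵥ w) ^ 2 * (y ⬝ᵥ M *ᵥ y)) := by
    intro t ht
    have hnn : ∀ i, 0 ≤ (y + t • w) i := fun i => by
      have h1 := mul_nonneg ht.le (hw i)
      have h2 := h.nonneg i
      show 0 ≤ y i + t * w i
      linarith
    have hl' : 0 ≤ l ⬝ᵥ (y + t • w) := by
      rw [l_add_smul]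
      exact add_nonneg h.pos.le (mul_nonneg ht.le hlw)
    have h1 := h.max (y + t • w) hnn hl'
    rw [l_add_smul, q_add_smul] at h1
    have h2 : 0 ≤ t * ((l ⬝ᵥ y) * ((l ⬝ᵥ y) * (y ⬝ᵥ M *ᵥ w + w ⬝ᵥ M *ᵥ y)
            - 2 * (l ⬝ᵥ w) * (y ⬝ᵥ M *ᵥ y))
        + t * ((l ⬝ᵥ y) ^ 2 * (w ⬝ᵥ M *ᵥ w) - (l ⬝ᵥ w) ^ 2 * (y ⬝ᵥ M *ᵥ y))) := by
      linarith [h1]
    exact (mul_nonneg_iff_of_pos_left ht).1 h2
  have h3 := nonneg_of_forall_pos _ _ key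
  exact (mul_nonneg_iff_of_pos_left h.pos).1 h3

theorem exists_dominate (y z : Fin n → ℝ) (hy : ∀ i, 0 ≤ y i) (hz : ∀ i, y i = 0 → z i = 0) :
    ∃ c : ℝ, 0 ≤ c ∧ ∀ i, |z i| ≤ c * y i := by
  classical
  have hf : ∀ j, 0 ≤ (if y j = 0 then (1 : ℝ) else y j) := fun j => by
    split_ifs
    exacts [zero_le_one, hy j]
  have hterm : ∀ j, 0 ≤ |z j| / (if y j = 0 then (1 : ℝ) else y j) :=
    fun j => div_nonneg (abs_nonneg _) (hf j)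
  refine ⟨∑ j, |z j| / (if y j = 0 then (1 : ℝ) else y j),
    Finset.sum_nonneg (fun j _ => hterm j), fun i => ?_⟩
  by_cases hi : y i = 0
  · rw [hz i hi, hi, abs_zero, mul_zero]
  · have hpos : 0 < y i := lt_of_le_of_ne (hy i) (Ne.symm hi)
    have h1 : |z i| / y i ≤ ∑ j, |z j| / (if y j = 0 then (1 : ℝ) else y j) := by
      have := Finset.single_le_sum (f := fun j => |z j| / (if y j = 0 then (1 : ℝ) else y j))
        (fun j _ => hterm j) (Finset.mem_univ i)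
      simp only [if_neg hi] at this
      exact this
    calc |z i| = |z i| / y i * y i := by field_simp
      _ ≤ (∑ j, |z j| / (if y j = 0 then (1 : ℝ) else y j)) * y i :=
        mul_le_mul_of_nonneg_right h1 hpos.le

/-- two-sided first-order condition for directions supported on the support of `y` -/
theorem Opt.foc {M : Matrix (Fin n) (Fin n) ℝ} {l y : Fin n → ℝ} (h : Opt M l y)
    (z : Fin n → ℝ) (hz : ∀ i, y i = 0 → z i = 0) :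
    (l ⬝ᵥ y) * (y ⬝ᵥ M *ᵥ z + z ⬝ᵥ M *ᵥ y) = 2 * (l ⬝ᵥ z) * (y ⬝ᵥ M *ᵥ y) := by
  obtain ⟨c₀, hc₀, hdom⟩ := exists_dominate y z h.nonneg hz
  obtain ⟨c, hc, hcc⟩ : ∃ c : ℝ, c₀ ≤ c ∧ |l ⬝ᵥ z| ≤ c * (l ⬝ᵥ y) := by
    refine ⟨c₀ + |l ⬝ᵥ z| / (l ⬝ᵥ y),
      le_add_of_nonneg_right (div_nonneg (abs_nonneg _) h.pos.le), ?_⟩
    have h1 : |l ⬝ᵥ z| / (l ⬝ᵥ y) * (l ⬝ᵥ y) = |l ⬝ᵥ z| := by
      field_simp [h.pos.ne']
    have h2 := mul_nonneg hc₀ h.pos.le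
    rw [add_mul, h1]
    linarith
  have hdom' : ∀ i, |z i| ≤ c * y i := fun i =>
    le_trans (hdom i) (mul_le_mul_of_nonneg_right hc (h.nonneg i))
  have key : ∀ s : ℝ, |s| = 1 →
      0 ≤ s * ((l ⬝ᵥ y) * (y ⬝ᵥ M *ᵥ z + z ⬝ᵥ M *ᵥ y)
        - 2 * (l ⬝ᵥ z) * (y ⬝ᵥ M *ᵥ y)) := by
    intro s hs1
    have hw : ∀ i, 0 ≤ (c • y + s • z) i := fun i => by
      show 0 ≤ c * y i + s * z i
      have h1 := hdom' i
      have h2 : |s * z i| = |z i| := by rw [abs_mul, hs1, one_mul]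
      have h3 := neg_abs_le (s * z i)
      linarith
    have hlw : 0 ≤ l ⬝ᵥ (c • y + s • z) := by
      rw [dotProduct_add, dotProduct_smul, dotProduct_smul, smul_eq_mul, smul_eq_mul]
      have h2 : |s * (l ⬝ᵥ z)| = |l ⬝ᵥ z| := by rw [abs_mul, hs1, one_mul]
      have h3 := neg_abs_le (s * (l ⬝ᵥ z))
      linarith
    have h1 := h.foc_one _ hw hlw
    have e : (l ⬝ᵥ y) * (y ⬝ᵥ M *ᵥ (c • y + s • z) + (c • y + s • z) ⬝ᵥ M *ᵥ y)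
          - 2 * (l ⬝ᵥ (c • y + s • z)) * (y ⬝ᵥ M *ᵥ y)
        = s * ((l ⬝ᵥ y) * (y ⬝ᵥ M *ᵥ z + z ⬝ᵥ M *ᵥ y)
          - 2 * (l ⬝ᵥ z) * (y ⬝ᵥ M *ᵥ y)) := by
      simp only [Matrix.mulVec_add, Matrix.mulVec_smul, dotProduct_add, add_dotProduct,
        smul_dotProduct, dotProduct_smul, smul_eq_mul]
      ring
    rw [e] at h1
    exact h1
  have k1 := key 1 (by simp)
  have k2 := key (-1) (by simp)
  linarith

/-- moving along a degenerate direction until a coordinate vanishes -/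
theorem Opt.descent {M : Matrix (Fin n) (Fin n) ℝ} {l y : Fin n → ℝ} (h : Opt M l y)
    (v : Fin n → ℝ) (hv : ∀ i, y i = 0 → v i = 0)
    (hq : v ⬝ᵥ M *ᵥ v = 0) (hβ : y ⬝ᵥ M *ᵥ v + v ⬝ᵥ M *ᵥ y = 0) (hl : l ⬝ᵥ v = 0)
    (hneg : ∃ i, v i < 0) :
    ∃ y' : Fin n → ℝ, Opt M l y' ∧ (supp y').card < (supp y).card := by
  classical
  obtain ⟨i₀, hi₀⟩ := hneg
  have hne : (Finset.univ.filter (fun i => v i < 0)).Nonempty :=
    ⟨i₀, Finset.mem_filter.2 ⟨Finset.mem_univ _, hi₀⟩⟩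
  obtain ⟨k, hk, hmin⟩ := Finset.exists_min_image _ (fun i => y i / (-v i)) hne
  have hvk : v k < 0 := (Finset.mem_filter.1 hk).2
  obtain ⟨t, ht⟩ : ∃ t : ℝ, t = y k / (-v k) := ⟨_, rfl⟩
  have ht0 : 0 ≤ t := by
    rw [ht]
    exact div_nonneg (h.nonneg k) (by linarith)
  have hqy : (y + t • v) ⬝ᵥ M *ᵥ (y + t • v) = y ⬝ᵥ M *ᵥ y := by
    rw [q_add_smul, hβ, hq]
    ring
  have hly : l ⬝ᵥ (y + t • v) = l ⬝ᵥ y := by
    rw [l_add_smul, hl]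
    ring
  have hnn : ∀ i, 0 ≤ (y + t • v) i := by
    intro i
    show 0 ≤ y i + t * v i
    by_cases hvi : v i < 0
    · have h1 : t ≤ y i / (-v i) := by
        rw [ht]
        exact hmin i (Finset.mem_filter.2 ⟨Finset.mem_univ _, hvi⟩)
      have h2 : t * (-v i) ≤ y i := (le_div_iff₀ (by linarith)).1 h1
      linarith
    · push_neg at hvi
      have h1 := mul_nonneg ht0 hvi
      have h2 := h.nonneg i
      linarith
  have hk0 : (y + t • v) k = 0 := by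
    show y k + t * v k = 0
    have hvk' : -v k ≠ 0 := by
      intro h0
      linarith
    have h1 : y k / (-v k) * v k = -y k := by
      rw [div_mul_eq_mul_div, div_eq_iff hvk']
      ring
    rw [ht, h1]
    ring
  have hyk : y k ≠ 0 := by
    intro h0
    have := hv k h0
    linarith
  refine ⟨y + t • v, ⟨hnn, by rw [hly]; exact h.pos, fun w hw hlw => by
    rw [hly, hqy]; exact h.max w hw hlw⟩, ?_⟩
  have hsub : supp (y + t • v) ⊆ supp y := by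
    intro i hi
    rw [mem_supp] at hi ⊢
    intro h0
    apply hi
    show y i + t * v i = 0
    rw [h0, hv i h0]
    ring
  exact Finset.card_lt_card ((Finset.ssubset_iff_of_subset hsub).2
    ⟨k, mem_supp.2 hyk, fun hk' => (mem_supp.1 hk') hk0⟩)

/-- one step: either the optimiser can be taken rational or its support can be shrunk -/
theorem step (B : Matrix (Fin n) (Fin n) ℚ) (ℓ : Fin n → ℚ)
    (Br : Matrix (Fin n) (Fin n) ℝ) (l : Fin n → ℝ)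
    (hB : ∀ i j, Br i j = (B i j : ℝ)) (hli : ∀ i, l i = (ℓ i : ℝ))
    (hpos : ∀ y : Fin n → ℝ, (∀ i, 0 ≤ y i) → y ≠ 0 → 0 < y ⬝ᵥ Br *ᵥ y)
    (y : Fin n → ℝ) (h : Opt Br l y) :
    (∃ x : Fin n → ℚ, Opt Br l (fun i => (x i : ℝ))) ∨
    (∃ y' : Fin n → ℝ, Opt Br l y' ∧ (supp y').card < (supp y).card) := by
  classical
  obtain ⟨N, hN⟩ : ∃ N : Matrix (Fin n) (Fin n) ℚ, N = Matrix.of (fun i j =>
      if y i = 0 then (if i = j then (1 : ℚ) else 0) else B i j + B j i) := ⟨_, rfl⟩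
  obtain ⟨r, hr⟩ : ∃ r : Fin n → ℚ, r = fun i => if y i = 0 then (0 : ℚ) else 2 * ℓ i :=
    ⟨_, rfl⟩
  obtain ⟨Nr, hNr⟩ : ∃ Nr : Matrix (Fin n) (Fin n) ℝ, Nr = (Rat.castHom ℝ).mapMatrix N :=
    ⟨_, rfl⟩
  have hdetR : Nr.det = ((N.det : ℚ) : ℝ) := by
    rw [hNr]
    exact (RingHom.map_det (Rat.castHom ℝ) N).symm
  have hNr0 : ∀ i, y i = 0 → ∀ w : Fin n → ℝ, (Nr *ᵥ w) i = w i := by
    intro i hi w
    rw [hNr, hN]
    simp only [Matrix.mulVec, dotProduct, RingHom.mapMatrix_apply, Matrix.map_apply,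
      Matrix.of_apply, if_pos hi]
    rw [Finset.sum_eq_single i]
    · simp
    · intro j _ hji
      rw [if_neg (Ne.symm hji)]
      simp
    · intro hni
      exact absurd (Finset.mem_univ i) hni
  have hNr1 : ∀ i, y i ≠ 0 → ∀ w : Fin n → ℝ,
      (Nr *ᵥ w) i = (Br *ᵥ w) i + (w ᵥ* Br) i := by
    intro i hi w
    rw [hNr, hN]
    simp only [Matrix.mulVec, Matrix.vecMul, dotProduct, RingHom.mapMatrix_apply,
      Matrix.map_apply, Matrix.of_apply, if_neg hi, hB]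
    rw [← Finset.sum_add_distrib]
    refine Finset.sum_congr rfl (fun j _ => ?_)
    rw [eq_ratCast, Rat.cast_add]
    ring
  have hy0 : y ≠ 0 := h.ne_zero
  have hqy : 0 < y ⬝ᵥ Br *ᵥ y := hpos y h.nonneg hy0
  by_cases hdet : N.det = 0
  · right
    have hdR : Nr.det = 0 := by
      rw [hdetR, hdet]
      simp
    obtain ⟨v, hv0, hv⟩ := Matrix.exists_mulVec_eq_zero_iff.2 hdR
    have hsupp : ∀ i, y i = 0 → v i = 0 := by
      intro i hi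
      have h1 := congrFun hv i
      rw [hNr0 i hi v] at h1
      exact h1
    have hrow : ∀ i, y i ≠ 0 → (Br *ᵥ v) i + (v ᵥ* Br) i = 0 := by
      intro i hi
      have h1 := congrFun hv i
      rw [hNr1 i hi v] at h1
      exact h1
    have hker : ∀ w : Fin n → ℝ, (∀ i, y i = 0 → w i = 0) →
        w ⬝ᵥ Br *ᵥ v + v ⬝ᵥ Br *ᵥ w = 0 := by
      intro w hw
      rw [Matrix.dotProduct_mulVec v Br w, dotProduct_comm (v ᵥ* Br) w, ← dotProduct_add]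
      show ∑ i, w i * (Br *ᵥ v + v ᵥ* Br) i = 0
      refine Finset.sum_eq_zero (fun i _ => ?_)
      by_cases hi : y i = 0
      · rw [hw i hi, zero_mul]
      · rw [Pi.add_apply, hrow i hi, mul_zero]
    have hqv : v ⬝ᵥ Br *ᵥ v = 0 := by
      have h1 := hker v hsupp
      linarith
    have hβ : y ⬝ᵥ Br *ᵥ v + v ⬝ᵥ Br *ᵥ y = 0 := hker y (fun i hi => hi)
    have hlv : l ⬝ᵥ v = 0 := by
      have h1 := h.foc v hsupp
      rw [hβ, mul_zero] at h1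
      have h2 : (l ⬝ᵥ v) * (y ⬝ᵥ Br *ᵥ y) = 0 := by linarith
      rcases mul_eq_zero.1 h2 with h3 | h3
      · exact h3
      · exact absurd h3 hqy.ne'
    obtain ⟨i, hi⟩ := Function.ne_iff.1 hv0
    have hi' : v i ≠ 0 := hi
    rcases lt_or_gt_of_ne hi' with hneg | hposi
    · exact h.descent v hsupp hqv hβ hlv ⟨i, hneg⟩
    · refine h.descent (-v) (fun j hj => ?_) ?_ ?_ ?_ ⟨i, ?_⟩
      · rw [Pi.neg_apply, hsupp j hj, neg_zero]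
      · rw [Matrix.mulVec_neg, neg_dotProduct, dotProduct_neg, neg_neg]
        exact hqv
      · rw [Matrix.mulVec_neg, dotProduct_neg, neg_dotProduct, ← neg_add, hβ, neg_zero]
      · rw [dotProduct_neg, hlv, neg_zero]
      · rw [Pi.neg_apply]
        linarith
  · left
    have hdR : Nr.det ≠ 0 := by
      rw [hdetR]
      exact_mod_cast hdet
    obtain ⟨x, hx⟩ : ∃ x : Fin n → ℚ, N *ᵥ x = r :=
      ⟨N⁻¹ *ᵥ r, by
        rw [Matrix.mulVec_mulVec, Matrix.mul_nonsing_inv N (isUnit_iff_ne_zero.2 hdet),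
          Matrix.one_mulVec]⟩
    obtain ⟨c, hc⟩ : ∃ c : ℝ, c = (l ⬝ᵥ y) / (y ⬝ᵥ Br *ᵥ y) := ⟨_, rfl⟩
    have hcpos : 0 < c := by
      rw [hc]
      exact div_pos h.pos hqy
    have h1 : Nr *ᵥ (fun i => (x i : ℝ)) = fun i => (r i : ℝ) := by
      funext i
      have h2 := congrArg (fun q : ℚ => (q : ℝ)) (congrFun hx i)
      rw [hNr]
      simp only [Matrix.mulVec, dotProduct, RingHom.mapMatrix_apply, Matrix.map_apply,
        eq_ratCast] at h2 ⊢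
      exact_mod_cast h2
    have h2 : Nr *ᵥ (c • y) = fun i => (r i : ℝ) := by
      funext i
      by_cases hi : y i = 0
      · rw [hNr0 i hi, hr]
        simp [hi]
      · rw [hNr1 i hi, hr]
        simp only [if_neg hi]
        have hf := h.foc (Pi.single i 1) (fun j hj => by
          rw [Pi.single_apply, if_neg]
          rintro rfl
          exact hi hj)
        rw [Matrix.dotProduct_mulVec, dotProduct_single_one, single_one_dotProduct,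
          dotProduct_single_one, hli] at hf
        rw [Matrix.mulVec_smul, Matrix.smul_vecMul]
        simp only [Pi.smul_apply, smul_eq_mul]
        have h3 : c * ((Br *ᵥ y) i + (y ᵥ* Br) i) = 2 * (ℓ i : ℝ) := by
          rw [hc, div_mul_eq_mul_div, div_eq_iff hqy.ne']
          linarith
        push_cast
        linarith
    have hxy : (fun i => (x i : ℝ)) = c • y := by
      have h3 : Nr *ᵥ ((fun i => (x i : ℝ)) - c • y) = 0 := by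
        rw [Matrix.mulVec_sub, h1, h2, sub_self]
      exact sub_eq_zero.1 (Matrix.eq_zero_of_mulVec_eq_zero hdR h3)
    refine ⟨x, ?_⟩
    rw [hxy]
    exact h.smul hcpos

/-- from any optimiser to a rational one -/
theorem core (B : Matrix (Fin n) (Fin n) ℚ) (ℓ : Fin n → ℚ)
    (Br : Matrix (Fin n) (Fin n) ℝ) (l : Fin n → ℝ)
    (hB : ∀ i j, Br i j = (B i j : ℝ)) (hli : ∀ i, l i = (ℓ i : ℝ))
    (hpos : ∀ y : Fin n → ℝ, (∀ i, 0 ≤ y i) → y ≠ 0 → 0 < y ⬝ᵥ Br *ᵥ y) :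
    ∀ (k : ℕ) (y : Fin n → ℝ), Opt Br l y → (supp y).card = k →
      ∃ x : Fin n → ℚ, Opt Br l (fun i => (x i : ℝ)) := by
  intro k
  induction k using Nat.strong_induction_on with
  | _ k ih =>
    intro y h hk
    rcases step B ℓ Br l hB hli hpos y h with hx | ⟨y', hy', hlt⟩
    · exact hx
    · exact ih (supp y').card (hk ▸ hlt) y' hy' rfl

/-- existence of an optimiser by compactness -/
theorem exists_opt (M : Matrix (Fin n) (Fin n) ℝ) (l : Fin n → ℝ)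
    (hpos : ∀ y : Fin n → ℝ, (∀ i, 0 ≤ y i) → y ≠ 0 → 0 < y ⬝ᵥ M *ᵥ y)
    (hl : ∃ y : Fin n → ℝ, (∀ i, 0 ≤ y i) ∧ 0 < l ⬝ᵥ y) : ∃ y, Opt M l y := by
  obtain ⟨y₀, hy₀, hly₀⟩ := hl
  have hnorm : ∀ w : Fin n → ℝ, (∀ i, 0 ≤ w i) → w ≠ 0 → 0 < ∑ i, w i := by
    intro w hw hw0
    obtain ⟨i, hi⟩ := Function.ne_iff.1 hw0
    have hi' : w i ≠ 0 := hi
    exact Finset.sum_pos' (fun j _ => hw j)
      ⟨i, Finset.mem_univ _, lt_of_le_of_ne (hw i) (Ne.symm hi')⟩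
  have hsimp : ∀ w : Fin n → ℝ, (∀ i, 0 ≤ w i) → w ≠ 0 →
      (∑ i, w i)⁻¹ • w ∈ stdSimplex ℝ (Fin n) := by
    intro w hw hw0
    have hs := hnorm w hw hw0
    refine ⟨fun i => mul_nonneg (inv_nonneg.2 hs.le) (hw i), ?_⟩
    simp only [Pi.smul_apply, smul_eq_mul]
    rw [← Finset.mul_sum, inv_mul_cancel₀ hs.ne']
  have hstd0 : ∀ w ∈ stdSimplex ℝ (Fin n), w ≠ 0 := by
    intro w hw h0
    have h1 := hw.2
    rw [h0] at h1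
    simp at h1
  have hLc : Continuous fun w : Fin n → ℝ => l ⬝ᵥ w := by
    unfold dotProduct
    fun_prop
  have hQc : Continuous fun w : Fin n → ℝ => w ⬝ᵥ M *ᵥ w := by
    simp only [dotProduct, Matrix.mulVec]
    fun_prop
  have hK : IsCompact (stdSimplex ℝ (Fin n) ∩ {w | 0 ≤ l ⬝ᵥ w}) :=
    (isCompact_stdSimplex ℝ (Fin n)).inter_right (isClosed_le continuous_const hLc)
  have hy0ne : y₀ ≠ 0 := by
    intro h0
    rw [h0, dotProduct_zero] at hly₀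
    exact lt_irrefl _ hly₀
  have hKne : (stdSimplex ℝ (Fin n) ∩ {w | 0 ≤ l ⬝ᵥ w}).Nonempty :=
    ⟨(∑ i, y₀ i)⁻¹ • y₀, hsimp y₀ hy₀ hy0ne, by
      show 0 ≤ l ⬝ᵥ ((∑ i, y₀ i)⁻¹ • y₀)
      rw [l_smul]
      exact mul_nonneg (inv_nonneg.2 (hnorm y₀ hy₀ hy0ne).le) hly₀.le⟩
  have hcont : ContinuousOn (fun w => (l ⬝ᵥ w) ^ 2 / (w ⬝ᵥ M *ᵥ w))
      (stdSimplex ℝ (Fin n) ∩ {w | 0 ≤ l ⬝ᵥ w}) :=
    ((hLc.pow 2).continuousOn).div hQc.continuousOn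
      (fun w hw => (hpos w hw.1.1 (hstd0 w hw.1)).ne')
  obtain ⟨y₁, hy₁K, hy₁max⟩ := hK.exists_isMaxOn hKne hcont
  have hy₁q : 0 < y₁ ⬝ᵥ M *ᵥ y₁ := hpos y₁ hy₁K.1.1 (hstd0 y₁ hy₁K.1)
  have hmax : ∀ w : Fin n → ℝ, (∀ i, 0 ≤ w i) → w ≠ 0 → 0 ≤ l ⬝ᵥ w →
      (l ⬝ᵥ w) ^ 2 * (y₁ ⬝ᵥ M *ᵥ y₁) ≤ (l ⬝ᵥ y₁) ^ 2 * (w ⬝ᵥ M *ᵥ w) := by
    intro w hw hw0 hlw
    have hs := hnorm w hw hw0
    obtain ⟨c, hc⟩ : ∃ c : ℝ, c = (∑ i, w i)⁻¹ := ⟨_, rfl⟩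
    have hcpos : 0 < c := by
      rw [hc]
      exact inv_pos.2 hs
    have hwK : c • w ∈ stdSimplex ℝ (Fin n) ∩ {w | 0 ≤ l ⬝ᵥ w} :=
      ⟨by rw [hc]; exact hsimp w hw hw0, by
        show 0 ≤ l ⬝ᵥ (c • w)
        rw [l_smul]
        exact mul_nonneg hcpos.le hlw⟩
    have h1 : (l ⬝ᵥ (c • w)) ^ 2 / ((c • w) ⬝ᵥ M *ᵥ (c • w)) ≤
        (l ⬝ᵥ y₁) ^ 2 / (y₁ ⬝ᵥ M *ᵥ y₁) := isMaxOn_iff.1 hy₁max _ hwK
    have hqw : 0 < w ⬝ᵥ M *ᵥ w := hpos w hw hw0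
    rw [l_smul, q_smul, div_le_div_iff₀ (mul_pos (pow_pos hcpos 2) hqw) hy₁q] at h1
    have hc2 : 0 < c ^ 2 := pow_pos hcpos 2
    refine le_of_mul_le_mul_left ?_ hc2
    calc c ^ 2 * ((l ⬝ᵥ w) ^ 2 * (y₁ ⬝ᵥ M *ᵥ y₁))
        = (c * (l ⬝ᵥ w)) ^ 2 * (y₁ ⬝ᵥ M *ᵥ y₁) := by ring
      _ ≤ (l ⬝ᵥ y₁) ^ 2 * (c ^ 2 * (w ⬝ᵥ M *ᵥ w)) := h1
      _ = c ^ 2 * ((l ⬝ᵥ y₁) ^ 2 * (w ⬝ᵥ M *ᵥ w)) := by ring
  have hly₁ : 0 < l ⬝ᵥ y₁ := by
    have h1 := hmax y₀ hy₀ hy0ne hly₀.le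
    have h2 : 0 < (l ⬝ᵥ y₀) ^ 2 * (y₁ ⬝ᵥ M *ᵥ y₁) := mul_pos (pow_pos hly₀ 2) hy₁q
    have h3 : 0 < (l ⬝ᵥ y₁) ^ 2 * (y₀ ⬝ᵥ M *ᵥ y₀) := lt_of_lt_of_le h2 h1
    have h4 : l ⬝ᵥ y₁ ≠ 0 := by
      intro h0
      rw [h0] at h3
      simp at h3
    exact lt_of_le_of_ne hy₁K.2 (Ne.symm h4)
  refine ⟨y₁, hy₁K.1.1, hly₁, fun w hw hlw => ?_⟩
  by_cases hw0 : w = 0
  · subst hw0
    simp
  · exact hmax w hw hw0 hlw

/-- back to the quotient by the square root -/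
theorem Opt.div_sqrt_le {M : Matrix (Fin n) (Fin n) ℝ} {l X : Fin n → ℝ} (h : Opt M l X)
    (hpos : ∀ y : Fin n → ℝ, (∀ i, 0 ≤ y i) → y ≠ 0 → 0 < y ⬝ᵥ M *ᵥ y)
    (y : Fin n → ℝ) (hy : ∀ i, 0 ≤ y i) (hy0 : y ≠ 0) :
    l ⬝ᵥ y / Real.sqrt (y ⬝ᵥ M *ᵥ y) ≤ l ⬝ᵥ X / Real.sqrt (X ⬝ᵥ M *ᵥ X) := by
  have hp : 0 < y ⬝ᵥ M *ᵥ y := hpos y hy hy0
  have hr : 0 < X ⬝ᵥ M *ᵥ X := hpos X h.nonneg h.ne_zero
  rcases le_or_gt (l ⬝ᵥ y) 0 with ha | ha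
  · exact le_trans (div_nonpos_of_nonpos_of_nonneg ha (Real.sqrt_nonneg _))
      (div_nonneg h.pos.le (Real.sqrt_nonneg _))
  · rw [div_le_div_iff₀ (Real.sqrt_pos.2 hp) (Real.sqrt_pos.2 hr)]
    have e1 : l ⬝ᵥ y * Real.sqrt (X ⬝ᵥ M *ᵥ X) =
        Real.sqrt ((l ⬝ᵥ y) ^ 2 * (X ⬝ᵥ M *ᵥ X)) := by
      rw [Real.sqrt_mul (sq_nonneg _), Real.sqrt_sq ha.le]
    have e2 : l ⬝ᵥ X * Real.sqrt (y ⬝ᵥ M *ᵥ y) =
        Real.sqrt ((l ⬝ᵥ X) ^ 2 * (y ⬝ᵥ M *ᵥ y)) := by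
      rw [Real.sqrt_mul (sq_nonneg _), Real.sqrt_sq h.pos.le]
    rw [e1, e2]
    exact Real.sqrt_le_sqrt (h.max y hy ha.le)

end Groth.Agent.Helper22.QuadMax
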