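import Mathlib

/-!
# A quotient presentation of pushouts of commutative rings

If `g : A → C` and `inl : B → P` are surjective, `inl ∘ f = inr ∘ g`, and the kernel of `inl` is
generated by `f (ker g)`, then the square is a pushout in `CommRingCat`
(this is `B ⊗_A C = B / f(ker g) B`).
-/

namespace Groth.Agent.Helper22.QuotPushout

open CategoryTheory CategoryTheory.Limits

universe u

theorem isPushout_of_surjective {A B C P : Type u} [CommRing A] [CommRing B] [CommRing C]
    [CommRing P] (f : A →+* B) (g : A →+* C) (inl : B →+* P) (inr : C →+* P)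
    (w : inl.comp f = inr.comp g) (hg : Function.Surjective g) (hinl : Function.Surjective inl)
    (hker : RingHom.ker inl ≤ Ideal.map f (RingHom.ker g)) :
    IsPushout (CommRingCat.ofHom f) (CommRingCat.ofHom g) (CommRingCat.ofHom inl)
      (CommRingCat.ofHom inr) := by
  have w' : CommRingCat.ofHom f ≫ CommRingCat.ofHom inl =
      CommRingCat.ofHom g ≫ CommRingCat.ofHom inr := by
    rw [← CommRingCat.ofHom_comp, ← CommRingCat.ofHom_comp, w]
  have hcond : ∀ (s : PushoutCocone (CommRingCat.ofHom f) (CommRingCat.ofHom g)) (a : A),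
      s.inl.hom (f a) = s.inr.hom (g a) := by
    intro s a
    have := congrArg (fun φ => φ.hom a) s.condition
    exact this
  have key : ∀ s : PushoutCocone (CommRingCat.ofHom f) (CommRingCat.ofHom g),
      RingHom.ker inl ≤ RingHom.ker s.inl.hom := by
    intro s
    refine hker.trans ?_
    rw [Ideal.map_le_iff_le_comap]
    intro a ha
    rw [Ideal.mem_comap, RingHom.mem_ker, hcond s a, RingHom.mem_ker.mp ha, map_zero]
  have hdesc : ∀ (s : PushoutCocone (CommRingCat.ofHom f) (CommRingCat.ofHom g)) (b : B),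
      RingHom.liftOfSurjective inl hinl ⟨s.inl.hom, key s⟩ (inl b) = s.inl.hom b := by
    intro s b
    exact RingHom.liftOfRightInverse_comp_apply _ _ _ ⟨s.inl.hom, key s⟩ b
  refine ⟨⟨w'⟩, ⟨PushoutCocone.IsColimit.mk w'
    (fun s => CommRingCat.ofHom (RingHom.liftOfSurjective inl hinl ⟨s.inl.hom, key s⟩)) ?_ ?_ ?_⟩⟩
  · intro s
    ext b
    exact hdesc s b
  · intro s
    ext c
    obtain ⟨a, rfl⟩ := hg c
    have h1 : inr (g a) = inl (f a) := (RingHom.congr_fun w a).symm
    show RingHom.liftOfSurjective inl hinl ⟨s.inl.hom, key s⟩ (inr (g a)) = s.inr.hom (g a)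
    rw [h1, hdesc s (f a), hcond s a]
  · intro s m hm _
    ext p
    obtain ⟨b, rfl⟩ := hinl p
    have h1 := congrArg (fun φ => φ.hom b) hm
    have h2 : m.hom (inl b) = s.inl.hom b := h1
    show m.hom (inl b) = RingHom.liftOfSurjective inl hinl ⟨s.inl.hom, key s⟩ (inl b)
    rw [h2, hdesc s b]

end Groth.Agent.Helper22.QuotPushout
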