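import Mathlib

/-!
Helper22: Rado's theorem on independent transversals (vector space version), the weighted
decomposition into bases (Edmonds / Rado–Horn), and the numerical stability criterion for point
configurations (S12552).
-/

set_option autoImplicit false

namespace Groth.Agent.Helper22.RadoHorn

open Module

universe u

section rado

variable (K : Type*) [Field K] {W : Type*} [AddCommGroup W] [Module K W]
variable {E : Type*}

/-- span of the union of the sets `A e`, `e ∈ J`. -/
def sp (A : E → Finset W) (J : Finset E) : Submodule K W :=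
  ⨆ e ∈ J, Submodule.span K ((A e : Finset W) : Set W)

theorem le_sp (A : E → Finset W) {J : Finset E} {e : E} (he : e ∈ J) :
    Submodule.span K ((A e : Finset W) : Set W) ≤ sp K A J :=
  le_iSup₂_of_le e he le_rfl

theorem sp_le (A : E → Finset W) {J : Finset E} {N : Submodule K W}
    (h : ∀ e ∈ J, Submodule.span K ((A e : Finset W) : Set W) ≤ N) : sp K A J ≤ N :=
  iSup₂_le h

theorem sp_congr {A B : E → Finset W} {J : Finset E} (h : ∀ e ∈ J, A e = B e) :
    sp K A J = sp K B J := by
  apply le_antisymm
  · exact sp_le K A (fun e he => by rw [h e he]; exact le_sp K B he)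
  · exact sp_le K B (fun e he => by rw [← h e he]; exact le_sp K A he)

theorem rado [FiniteDimensional K W] [Fintype E] [DecidableEq E] :
    ∀ (n : ℕ) (A : E → Finset W), (∑ e, (A e).card = n) →
    (∀ J : Finset E, J.card ≤ finrank K (sp K A J)) →
    ∃ a : E → W, (∀ e, a e ∈ A e) ∧ LinearIndependent K a := by
  classical
  intro n
  induction n using Nat.strong_induction_on with
  | _ n ih =>
  intro A hn h
  by_cases hbig : ∃ e₁, 1 < (A e₁).card
  · obtain ⟨e₁, he₁⟩ := hbig
    obtain ⟨y, hy, z, hz, hyz⟩ := Finset.one_lt_card.mp he₁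
    obtain ⟨Ay, hAy⟩ : ∃ Ay : E → Finset W, Ay = Function.update A e₁ ((A e₁).erase y) :=
      ⟨_, rfl⟩
    obtain ⟨Az, hAz⟩ : ∃ Az : E → Finset W, Az = Function.update A e₁ ((A e₁).erase z) :=
      ⟨_, rfl⟩
    have hAy1 : Ay e₁ = (A e₁).erase y := by rw [hAy, Function.update_self]
    have hAz1 : Az e₁ = (A e₁).erase z := by rw [hAz, Function.update_self]
    have hAy2 : ∀ e, e ≠ e₁ → Ay e = A e := fun e he => by rw [hAy, Function.update_of_ne he]
    have hAz2 : ∀ e, e ≠ e₁ → Az e = A e := fun e he => by rw [hAz, Function.update_of_ne he]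
    have hsuby : ∀ e, Ay e ⊆ A e := by
      intro e
      by_cases hee : e = e₁
      · rw [hee, hAy1]; exact Finset.erase_subset _ _
      · rw [hAy2 e hee]
    have hsubz : ∀ e, Az e ⊆ A e := by
      intro e
      by_cases hee : e = e₁
      · rw [hee, hAz1]; exact Finset.erase_subset _ _
      · rw [hAz2 e hee]
    have hstep : ∀ (B : E → Finset W), (∀ e, B e ⊆ A e) → (B e₁).card < (A e₁).card →
        (∀ J : Finset E, J.card ≤ finrank K (sp K B J)) →
        ∃ a : E → W, (∀ e, a e ∈ A e) ∧ LinearIndependent K a := by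
      intro B hsub hlt hB
      have hlt' : ∑ e, (B e).card < n := by
        rw [← hn]
        exact Finset.sum_lt_sum (fun e _ => Finset.card_le_card (hsub e))
          ⟨e₁, Finset.mem_univ _, hlt⟩
      obtain ⟨a, ha, hind⟩ := ih _ hlt' B rfl hB
      exact ⟨a, fun e => hsub e (ha e), hind⟩
    have hclaim : (∀ J : Finset E, J.card ≤ finrank K (sp K Ay J)) ∨
        (∀ J : Finset E, J.card ≤ finrank K (sp K Az J)) := by
      by_contra hcon
      rw [not_or] at hcon
      obtain ⟨hc1, hc2⟩ := hcon
      push_neg at hc1 hc2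
      obtain ⟨J, hJ⟩ := hc1
      obtain ⟨J₂, hJ₂⟩ := hc2
      have heJ : e₁ ∈ J := by
        by_contra hne
        have hEq : sp K Ay J = sp K A J :=
          sp_congr K (fun e he => hAy2 e (fun hh => hne (hh ▸ he)))
        rw [hEq] at hJ
        exact absurd (h J) (not_le.mpr hJ)
      have heJ₂ : e₁ ∈ J₂ := by
        by_contra hne
        have hEq : sp K Az J₂ = sp K A J₂ :=
          sp_congr K (fun e he => hAz2 e (fun hh => hne (hh ▸ he)))
        rw [hEq] at hJ₂
        exact absurd (h J₂) (not_le.mpr hJ₂)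
      have hXY := Submodule.finrank_sup_add_finrank_inf_eq (sp K Ay J) (sp K Az J₂)
      have h1 : sp K A (insert e₁ (J.erase e₁ ∪ J₂.erase e₁)) ≤ sp K Ay J ⊔ sp K Az J₂ := by
        apply sp_le
        intro e he
        rw [Finset.mem_insert] at he
        rcases he with he | he
        · rw [he]
          have hcover : ((A e₁ : Finset W) : Set W) ⊆
              (((A e₁).erase y : Finset W) : Set W) ∪ (((A e₁).erase z : Finset W) : Set W) := by
            intro v hv
            by_cases hvy : v = y
            · right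
              rw [Finset.mem_coe, Finset.mem_erase]
              exact ⟨fun hvz => hyz (hvy.symm.trans hvz), hv⟩
            · left
              rw [Finset.mem_coe, Finset.mem_erase]
              exact ⟨hvy, hv⟩
          calc Submodule.span K ((A e₁ : Finset W) : Set W)
              ≤ Submodule.span K ((((A e₁).erase y : Finset W) : Set W) ∪
                  (((A e₁).erase z : Finset W) : Set W)) := Submodule.span_mono hcover
            _ = Submodule.span K (((A e₁).erase y : Finset W) : Set W) ⊔
                  Submodule.span K (((A e₁).erase z : Finset W) : Set W) :=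
                Submodule.span_union _ _
            _ ≤ sp K Ay J ⊔ sp K Az J₂ :=
                sup_le_sup (by rw [← hAy1]; exact le_sp K Ay heJ)
                  (by rw [← hAz1]; exact le_sp K Az heJ₂)
        · rw [Finset.mem_union, Finset.mem_erase, Finset.mem_erase] at he
          rcases he with ⟨hne, heJ'⟩ | ⟨hne, heK⟩
          · rw [← hAy2 e hne]; exact (le_sp K Ay heJ').trans le_sup_left
          · rw [← hAz2 e hne]; exact (le_sp K Az heK).trans le_sup_right
      have h2 : sp K A (J.erase e₁ ∩ J₂.erase e₁) ≤ sp K Ay J ⊓ sp K Az J₂ := by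
        apply sp_le
        intro e he
        rw [Finset.mem_inter, Finset.mem_erase, Finset.mem_erase] at he
        obtain ⟨⟨hne, heJ'⟩, ⟨_, heK⟩⟩ := he
        refine le_inf ?_ ?_
        · rw [← hAy2 e hne]; exact le_sp K Ay heJ'
        · rw [← hAz2 e hne]; exact le_sp K Az heK
      have c1 := h (insert e₁ (J.erase e₁ ∪ J₂.erase e₁))
      have c2 := h (J.erase e₁ ∩ J₂.erase e₁)
      have d1 := Submodule.finrank_mono h1
      have d2 := Submodule.finrank_mono h2
      have k1 : (insert e₁ (J.erase e₁ ∪ J₂.erase e₁)).card =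
          (J.erase e₁ ∪ J₂.erase e₁).card + 1 :=
        Finset.card_insert_of_notMem (by simp)
      have k2 := Finset.card_union_add_card_inter (J.erase e₁) (J₂.erase e₁)
      have k3 : (J.erase e₁).card + 1 = J.card := Finset.card_erase_add_one heJ
      have k4 : (J₂.erase e₁).card + 1 = J₂.card := Finset.card_erase_add_one heJ₂
      omega
    rcases hclaim with hy' | hz'
    · exact hstep Ay hsuby (by rw [hAy1]; exact Finset.card_erase_lt_of_mem hy) hy'
    · exact hstep Az hsubz (by rw [hAz1]; exact Finset.card_erase_lt_of_mem hz) hz'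
  · push_neg at hbig
    have hne : ∀ e, (A e).Nonempty := by
      intro e
      by_contra hemp
      rw [Finset.not_nonempty_iff_eq_empty] at hemp
      have h1 := h {e}
      have h2 : sp K A {e} = ⊥ := by
        apply le_antisymm _ bot_le
        apply sp_le
        intro e' he'
        rw [Finset.mem_singleton] at he'
        rw [he', hemp]; simp
      rw [h2, finrank_bot, Finset.card_singleton] at h1
      omega
    choose a ha using hne
    refine ⟨a, ha, ?_⟩
    rw [linearIndependent_iff_card_le_finrank_span]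
    have h1 := h Finset.univ
    rw [Finset.card_univ] at h1
    refine h1.trans ?_
    unfold Set.finrank
    apply Submodule.finrank_mono
    apply sp_le
    intro e _
    rw [Submodule.span_le]
    intro v hv
    have hva : v = a e := Finset.card_le_one.mp (hbig e) v hv (a e) (ha e)
    rw [hva]
    exact Submodule.subset_span (Set.mem_range_self e)

end rado

section weighted

variable {K : Type*} [Field K] {V : Type*} [AddCommGroup V] [Module K V] [FiniteDimensional K V]
variable {ι : Type*} [Fintype ι] [DecidableEq ι]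

/-- the `c`-th coordinate embedding `V → V ^ t`. -/
def sg (K : Type*) [Field K] (V : Type*) [AddCommGroup V] [Module K V] (t : ℕ) (c : Fin t) :
    V →ₗ[K] (Fin t → V) :=
  LinearMap.single K (fun _ : Fin t => V) c

theorem sg_apply (t : ℕ) (c : Fin t) (v : V) : sg K V t c v = Pi.single c v := rfl

theorem weighted_bases (x : ι → V) (w : ι → ℕ) (t : ℕ)
    (hsum : ∑ j, w j = t * finrank K V)
    (hA : ∀ T : Finset ι,
      ∑ j ∈ T, w j ≤ t * finrank K (Submodule.span K (x '' (T : Set ι)))) :
    ∃ S : Fin t → Finset ι,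
      (∀ c, (S c).card = finrank K V ∧ LinearIndependent K (fun j : S c => x j)) ∧
      ∀ j, (Finset.univ.filter (fun c => j ∈ S c)).card = w j := by
  classical
  obtain ⟨A, hAdef⟩ : ∃ A : (Σ j : ι, Fin (w j)) → Finset (Fin t → V),
      ∀ e, A e = Finset.univ.image (fun c : Fin t => sg K V t c (x e.1)) := ⟨_, fun _ => rfl⟩
  have hrado : ∀ J : Finset (Σ j : ι, Fin (w j)), J.card ≤ finrank K (sp K A J) := by
    intro J
    obtain ⟨T, hT⟩ : ∃ T : Finset ι, T = J.image Sigma.fst := ⟨_, rfl⟩
    obtain ⟨L, hL⟩ : ∃ L : Submodule K V, L = Submodule.span K (x '' (T : Set ι)) := ⟨_, rfl⟩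
    have h1 : J.card ≤ ∑ j ∈ T, w j := by
      have hsub : J ⊆ T.sigma (fun j => (Finset.univ : Finset (Fin (w j)))) := by
        intro e he
        rw [Finset.mem_sigma, hT]
        exact ⟨Finset.mem_image_of_mem _ he, Finset.mem_univ _⟩
      calc J.card ≤ (T.sigma (fun j => (Finset.univ : Finset (Fin (w j))))).card :=
            Finset.card_le_card hsub
        _ = ∑ j ∈ T, w j := by rw [Finset.card_sigma]; simp
    have h2 : t * finrank K L ≤ finrank K (sp K A J) := by
      have hmem : ∀ (c : Fin t) (v : V), v ∈ L → sg K V t c v ∈ sp K A J := by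
        intro c v hv
        have hle : Submodule.map (sg K V t c) L ≤ sp K A J := by
          rw [hL, Submodule.map_span_le]
          rintro _ ⟨j, hj, rfl⟩
          rw [Finset.mem_coe, hT, Finset.mem_image] at hj
          obtain ⟨e, he, rfl⟩ := hj
          apply le_sp K A he
          apply Submodule.subset_span
          rw [Finset.mem_coe, hAdef, Finset.mem_image]
          exact ⟨c, Finset.mem_univ _, rfl⟩
        exact hle (Submodule.mem_map_of_mem hv)
      obtain ⟨Φ, hΦ⟩ : ∃ Φ : (Fin t → L) →ₗ[K] (Fin t → V),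
          ∀ f c, Φ f c = ((f c : L) : V) := ⟨L.subtype.compLeft (Fin t), fun _ _ => rfl⟩
      have hΦinj : Function.Injective Φ := by
        intro f g hfg
        funext c
        apply Subtype.ext
        rw [← hΦ f c, ← hΦ g c, hfg]
      have hΦrange : LinearMap.range Φ ≤ sp K A J := by
        rintro _ ⟨f, rfl⟩
        have e1 : Φ f = ∑ c, sg K V t c ((f c : L) : V) := by
          have e2 : (∑ c, sg K V t c ((f c : L) : V)) =
              ∑ c, Pi.single c (((f c : L) : V)) := rfl
          rw [e2, Finset.univ_sum_single]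
          funext c
          exact hΦ f c
        rw [e1]
        exact Submodule.sum_mem _ (fun c _ => hmem c _ (f c).2)
      calc t * finrank K L = finrank K (Fin t → L) := by
            rw [Module.finrank_pi_fintype K]; simp
        _ = finrank K (LinearMap.range Φ) := (LinearMap.finrank_range_of_inj hΦinj).symm
        _ ≤ finrank K (sp K A J) := Submodule.finrank_mono hΦrange
    have h3 := hA T
    rw [← hL] at h3
    exact h1.trans (h3.trans h2)
  obtain ⟨a, ha, hind⟩ := rado K _ A rfl hrado
  have hcol : ∀ e, ∃ c : Fin t, a e = sg K V t c (x e.1) := by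
    intro e
    have h1 := ha e
    rw [hAdef, Finset.mem_image] at h1
    obtain ⟨c, _, hc⟩ := h1
    exact ⟨c, hc.symm⟩
  choose col hcol using hcol
  have hxc : ∀ c₀ : Fin t,
      LinearIndependent K (fun e : {e : (Σ j : ι, Fin (w j)) // col e = c₀} => x e.1.1) := by
    intro c₀
    apply LinearIndependent.of_comp (sg K V t c₀)
    have h1 := hind.comp (fun e : {e : (Σ j : ι, Fin (w j)) // col e = c₀} => e.1)
      Subtype.val_injective
    have h2 : (⇑(sg K V t c₀) ∘ fun e : {e : (Σ j : ι, Fin (w j)) // col e = c₀} => x e.1.1) =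
        a ∘ (fun e : {e : (Σ j : ι, Fin (w j)) // col e = c₀} => e.1) := by
      funext e
      show sg K V t c₀ (x e.1.1) = a e.1
      rw [hcol e.1, e.2]
    rw [h2]; exact h1
  have hinjc : ∀ e e' : (Σ j : ι, Fin (w j)), col e = col e' → e.1 = e'.1 → e = e' := by
    intro e e' hc hfst
    have hi := (hxc (col e')).injective
    have h1 := @hi ⟨e, hc⟩ ⟨e', rfl⟩ (by show x e.1 = x e'.1; rw [hfst])
    exact congrArg Subtype.val h1
  obtain ⟨S, hS⟩ : ∃ S : Fin t → Finset ι, ∀ c, S c =
      (Finset.univ.filter (fun e : (Σ j : ι, Fin (w j)) => col e = c)).image Sigma.fst :=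
    ⟨_, fun _ => rfl⟩
  have hScard : ∀ c, (S c).card =
      (Finset.univ.filter (fun e : (Σ j : ι, Fin (w j)) => col e = c)).card := by
    intro c
    rw [hS]
    apply Finset.card_image_of_injOn
    intro e he e' he' hfst
    rw [Finset.mem_coe, Finset.mem_filter] at he he'
    exact hinjc e e' (he.2.trans he'.2.symm) hfst
  have hSmem : ∀ c j, j ∈ S c ↔ ∃ u : Fin (w j), col ⟨j, u⟩ = c := by
    intro c j
    rw [hS, Finset.mem_image]
    constructor
    · rintro ⟨⟨j', u⟩, he, hj⟩
      rw [Finset.mem_filter] at he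
      subst hj
      exact ⟨u, he.2⟩
    · rintro ⟨u, hu⟩
      exact ⟨⟨j, u⟩, Finset.mem_filter.mpr ⟨Finset.mem_univ _, hu⟩, rfl⟩
  have hSind : ∀ c, LinearIndependent K (fun j : S c => x j) := by
    intro c
    have hex : ∀ j : S c, ∃ u : Fin (w j.1), col ⟨j.1, u⟩ = c :=
      fun j => (hSmem c j.1).mp j.2
    choose u hu using hex
    have hψ : Function.Injective
        (fun j : S c => (⟨⟨j.1, u j⟩, hu j⟩ : {e : (Σ j : ι, Fin (w j)) // col e = c})) := by
      intro j j' hjj
      have h1 := congrArg (fun e : {e : (Σ j : ι, Fin (w j)) // col e = c} => e.1.1) hjj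
      exact Subtype.ext h1
    exact (hxc c).comp _ hψ
  have hSle : ∀ c, (S c).card ≤ finrank K V := by
    intro c
    have h1 := (hSind c).fintype_card_le_finrank
    rwa [Fintype.card_coe] at h1
  have htotal : ∑ c, (S c).card = t * finrank K V := by
    have h1 : (Finset.univ : Finset (Σ j : ι, Fin (w j))).card =
        ∑ c : Fin t, (Finset.univ.filter (fun e : (Σ j : ι, Fin (w j)) => col e = c)).card :=
      Finset.card_eq_sum_card_fiberwise (fun e _ => Finset.mem_coe.mpr (Finset.mem_univ _))
    have h2 : (Finset.univ : Finset (Σ j : ι, Fin (w j))).card = ∑ j, w j := by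
      rw [Finset.card_univ, Fintype.card_sigma]; simp
    rw [← hsum, ← h2, h1]
    exact Finset.sum_congr rfl (fun c _ => hScard c)
  have hSeq : ∀ c, (S c).card = finrank K V := by
    have h3 : ∑ c : Fin t, (S c).card = ∑ _c : Fin t, finrank K V := by
      rw [htotal]; simp
    have h4 := (Finset.sum_eq_sum_iff_of_le (fun c _ => hSle c)).mp h3
    exact fun c => h4 c (Finset.mem_univ c)
  have hmult : ∀ j, (Finset.univ.filter (fun c => j ∈ S c)).card = w j := by
    intro j
    have himg : Finset.univ.filter (fun c => j ∈ S c) =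
        (Finset.univ : Finset (Fin (w j))).image (fun u => col ⟨j, u⟩) := by
      ext c
      rw [Finset.mem_filter, Finset.mem_image, hSmem]
      constructor
      · rintro ⟨_, u, hu⟩; exact ⟨u, Finset.mem_univ _, hu⟩
      · rintro ⟨u, _, hu⟩; exact ⟨Finset.mem_univ _, u, hu⟩
    rw [himg, Finset.card_image_of_injective, Finset.card_univ, Fintype.card_fin]
    intro u u' huu
    have h1 := hinjc ⟨j, u⟩ ⟨j, u'⟩ huu rfl
    exact eq_of_heq (Sigma.mk.inj_iff.mp h1).2
  exact ⟨S, fun c => ⟨hSeq c, hSind c⟩, hmult⟩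

end weighted

section count

theorem count_sum {ι : Type*} [DecidableEq ι] (P : Multiset (Finset ι)) (T : Finset ι) :
    ∑ j ∈ T, Multiset.card (P.filter (fun S => j ∈ S)) =
      (P.map (fun S => (S ∩ T).card)).sum := by
  induction P using Multiset.induction_on with
  | empty => simp
  | cons S P ih =>
    rw [Multiset.map_cons, Multiset.sum_cons, ← ih]
    have h1 : ∀ j, Multiset.card ((S ::ₘ P).filter (fun S' => j ∈ S')) =
        (if j ∈ S then 1 else 0) + Multiset.card (P.filter (fun S' => j ∈ S')) := by
      intro j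
      rw [Multiset.filter_cons]
      split_ifs <;> simp [add_comm]
    simp only [h1, Finset.sum_add_distrib]
    congr 1
    rw [← Finset.card_filter, Finset.filter_mem_eq_inter, Finset.inter_comm]

end count

section main

theorem main (K : Type*) [Field K] (V : Type*) [AddCommGroup V] [Module K V]
    [FiniteDimensional K V] (m : ℕ) (x : Fin (m + 1) → V) (hx : ∀ i, x i ≠ 0) :
    (∀ L : Submodule K V, L ≠ ⊥ → L ≠ ⊤ →
        Set.ncard {i : Fin (m + 1) | x i ∈ L} * finrank K V < finrank K L * (m + 1)) ↔
      ∃ N N₀ : ℕ, 0 < N₀ ∧ N₀ ≤ N ∧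
        ∀ i : Fin (m + 1), ∃ P : Multiset (Finset (Fin (m + 1))), P ≠ 0 ∧
          (∀ S ∈ P, S.card = finrank K V ∧ LinearIndependent K (fun j : S => x j)) ∧
          ∀ j : Fin (m + 1),
            Multiset.card (P.filter (fun S => j ∈ S)) = if j = i then N - N₀ else N := by
  classical
  have hnpos : 0 < finrank K V := Module.finrank_pos_iff_exists_ne_zero.mpr ⟨x 0, hx 0⟩
  obtain ⟨n, hn⟩ : ∃ n, n = finrank K V := ⟨_, rfl⟩
  rw [← hn] at hnpos ⊢
  constructor
  · intro hst
    refine ⟨n * (n + 1), n, hnpos, Nat.le_mul_of_pos_right n (Nat.succ_pos n), fun i => ?_⟩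
    obtain ⟨q, hq⟩ : ∃ q, (m + 1) * (n + 1) = q + 1 :=
      ⟨(m + 1) * (n + 1) - 1, by
        have : 0 < (m + 1) * (n + 1) := Nat.mul_pos (Nat.succ_pos _) (Nat.succ_pos _)
        omega⟩
    have hq1 : 1 ≤ q := by nlinarith
    obtain ⟨w, hw⟩ : ∃ w : Fin (m + 1) → ℕ,
        ∀ j, w j = if j = i then n * (n + 1) - n else n * (n + 1) := ⟨_, fun _ => rfl⟩
    have hnle : n ≤ n * (n + 1) := Nat.le_mul_of_pos_right n (Nat.succ_pos n)
    have hwle : ∀ j, w j ≤ n * (n + 1) := by
      intro j; rw [hw]; split_ifs <;> omega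
    have hsum : ∑ j, w j = q * finrank K V := by
      have h1 : ∑ j, (w j + if j = i then n else 0) = ∑ _j : Fin (m + 1), n * (n + 1) := by
        apply Finset.sum_congr rfl
        intro j _
        rw [hw]
        split_ifs <;> omega
      rw [Finset.sum_add_distrib, Finset.sum_ite_eq', if_pos (Finset.mem_univ i),
        Finset.sum_const, Finset.card_univ, Fintype.card_fin, smul_eq_mul] at h1
      have h2 : q * n + n = (m + 1) * (n * (n + 1)) := by
        calc q * n + n = (q + 1) * n := by ring
          _ = (m + 1) * (n + 1) * n := by rw [hq]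
          _ = (m + 1) * (n * (n + 1)) := by ring
      rw [← hn]; omega
    have hAcond : ∀ T : Finset (Fin (m + 1)), ∑ j ∈ T, w j ≤
        q * finrank K (Submodule.span K (x '' (T : Set (Fin (m + 1))))) := by
      intro T
      obtain ⟨L, hL⟩ : ∃ L, L = Submodule.span K (x '' (T : Set (Fin (m + 1)))) := ⟨_, rfl⟩
      rw [← hL]
      by_cases hTe : T = ∅
      · rw [hTe]; simp
      by_cases hLtop : L = ⊤
      · rw [hLtop, finrank_top, ← hsum]
        exact Finset.sum_le_sum_of_subset (Finset.subset_univ T)
      have hLbot : L ≠ ⊥ := by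
        obtain ⟨j, hj⟩ := Finset.nonempty_iff_ne_empty.mpr hTe
        intro hb
        have h1 : x j ∈ L := by rw [hL]; exact Submodule.subset_span ⟨j, hj, rfl⟩
        rw [hb, Submodule.mem_bot] at h1
        exact hx j h1
      have hstab := hst L hLbot hLtop
      have hTc : T.card ≤ Set.ncard {i : Fin (m + 1) | x i ∈ L} := by
        rw [← Set.ncard_coe_finset T]
        apply Set.ncard_le_ncard _ (Set.toFinite _)
        intro j hj
        show x j ∈ L
        rw [hL]; exact Submodule.subset_span ⟨j, hj, rfl⟩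
      have hℓ : finrank K L ≤ n := by rw [hn]; exact Submodule.finrank_le L
      have hsumle : ∑ j ∈ T, w j ≤ T.card * (n * (n + 1)) := by
        calc ∑ j ∈ T, w j ≤ ∑ _j ∈ T, n * (n + 1) := Finset.sum_le_sum (fun j _ => hwle j)
          _ = T.card * (n * (n + 1)) := by rw [Finset.sum_const, smul_eq_mul]
      obtain ⟨c, hc⟩ : ∃ c, c = Set.ncard {i : Fin (m + 1) | x i ∈ L} := ⟨_, rfl⟩
      obtain ⟨ℓ, hℓ'⟩ : ∃ ℓ, ℓ = finrank K L := ⟨_, rfl⟩
      rw [← hc] at hstab hTc
      rw [← hℓ'] at hstab hℓ ⊢
      have h5 : c * (n * (n + 1)) + 1 ≤ q * ℓ := by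
        have h6 : (c * n + 1) * (n + 1) ≤ ℓ * (m + 1) * (n + 1) :=
          Nat.mul_le_mul_right _ hstab
        have h7 : ℓ * (m + 1) * (n + 1) = ℓ * q + ℓ := by
          calc ℓ * (m + 1) * (n + 1) = ℓ * ((m + 1) * (n + 1)) := by ring
            _ = ℓ * (q + 1) := by rw [hq]
            _ = ℓ * q + ℓ := by ring
        have h8 : (c * n + 1) * (n + 1) = c * (n * (n + 1)) + (n + 1) := by ring
        rw [h7, h8] at h6
        have h9 : q * ℓ = ℓ * q := Nat.mul_comm _ _
        omega
      calc ∑ j ∈ T, w j ≤ T.card * (n * (n + 1)) := hsumle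
        _ ≤ c * (n * (n + 1)) := Nat.mul_le_mul_right _ hTc
        _ ≤ q * ℓ := by omega
    obtain ⟨S, hS1, hS2⟩ := weighted_bases x w q hsum hAcond
    refine ⟨(Finset.univ : Finset (Fin q)).val.map S, ?_, ?_, ?_⟩
    · intro h0
      have h1 := congrArg Multiset.card h0
      rw [Multiset.card_map, Finset.card_val, Finset.card_univ, Fintype.card_fin,
        Multiset.card_zero] at h1
      omega
    · intro S' hS'
      rw [Multiset.mem_map] at hS'
      obtain ⟨c, _, rfl⟩ := hS'
      rw [hn]
      exact hS1 c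
    · intro j
      rw [Multiset.filter_map, Multiset.card_map, ← Finset.filter_val, Finset.card_val, ← hw]
      exact hS2 j
  · rintro ⟨N, N₀, hN₀, hle, hP⟩ L hLbot hLtop
    have hℓpos : 0 < finrank K L := by
      rw [Nat.pos_iff_ne_zero]; intro h0; exact hLbot (Submodule.finrank_eq_zero.mp h0)
    have hℓlt : finrank K L < n := by rw [hn]; exact Submodule.finrank_lt hLtop
    obtain ⟨IL, hIL⟩ : ∃ IL : Finset (Fin (m + 1)),
        IL = Finset.univ.filter (fun i => x i ∈ L) := ⟨_, rfl⟩
    have hnc : Set.ncard {i : Fin (m + 1) | x i ∈ L} = IL.card := by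
      rw [← Set.ncard_coe_finset IL, hIL]
      congr 1
      ext i; simp
    rw [hnc]
    have hILmem : ∀ i, i ∈ IL ↔ x i ∈ L := by
      intro i; rw [hIL, Finset.mem_filter]; simp
    have hbase : ∀ S : Finset (Fin (m + 1)), LinearIndependent K (fun j : S => x j) →
        (S ∩ IL).card ≤ finrank K L := by
      intro S hS
      have hmemL : ∀ j : ↥(S ∩ IL), x j ∈ L := by
        intro j
        exact (hILmem _).mp (Finset.mem_inter.mp j.2).2
      have hv : LinearIndependent K (fun j : ↥(S ∩ IL) => (⟨x j, hmemL j⟩ : L)) := by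
        apply LinearIndependent.of_comp L.subtype
        have h1 := hS.comp (fun j : ↥(S ∩ IL) => (⟨j.1, (Finset.mem_inter.mp j.2).1⟩ : ↥S))
          (fun j j' h => Subtype.ext (congrArg (fun z : ↥S => z.1) h))
        exact h1
      have h2 := hv.fintype_card_le_finrank
      rwa [Fintype.card_coe] at h2
    have hout : ∃ i₀, x i₀ ∉ L := by
      by_contra hall
      push_neg at hall
      obtain ⟨P, hP0, hPb, _⟩ := hP 0
      obtain ⟨S, hS⟩ := Multiset.exists_mem_of_ne_zero hP0
      obtain ⟨hcard, hind⟩ := hPb S hS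
      have h1 := hbase S hind
      have h2 : S ∩ IL = S := by
        rw [Finset.inter_eq_left]
        intro j _
        exact (hILmem j).mpr (hall j)
      rw [h2, hcard] at h1
      omega
    obtain ⟨i₀, hi₀⟩ := hout
    obtain ⟨P, hP0, hPb, hPc⟩ := hP i₀
    have hcs := count_sum P IL
    have hcu := count_sum P Finset.univ
    have hl1 : ∑ j ∈ IL, Multiset.card (P.filter (fun S => j ∈ S)) = IL.card * N := by
      have h1 : ∀ j ∈ IL, Multiset.card (P.filter (fun S => j ∈ S)) = N := by
        intro j hj
        rw [hPc j, if_neg]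
        intro hji
        have hj' := (hILmem j).mp hj
        rw [hji] at hj'
        exact hi₀ hj'
      rw [Finset.sum_congr rfl h1, Finset.sum_const, smul_eq_mul]
    have hl2 : ∑ j, Multiset.card (P.filter (fun S => j ∈ S)) + N₀ = (m + 1) * N := by
      have h1 : ∀ j : Fin (m + 1), Multiset.card (P.filter (fun S => j ∈ S)) +
          (if j = i₀ then N₀ else 0) = N := by
        intro j; rw [hPc j]; split_ifs <;> omega
      have h2 : ∑ j : Fin (m + 1), (Multiset.card (P.filter (fun S => j ∈ S)) +
          (if j = i₀ then N₀ else 0)) = ∑ _j : Fin (m + 1), N :=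
        Finset.sum_congr rfl (fun j _ => h1 j)
      rw [Finset.sum_add_distrib, Finset.sum_ite_eq', if_pos (Finset.mem_univ i₀),
        Finset.sum_const, Finset.card_univ, Fintype.card_fin, smul_eq_mul] at h2
      exact h2
    have hr1 : (P.map (fun S => (S ∩ IL).card)).sum ≤ Multiset.card P * finrank K L := by
      calc (P.map (fun S => (S ∩ IL).card)).sum ≤ (P.map (fun _ => finrank K L)).sum :=
            Multiset.sum_map_le_sum_map _ _ (fun S hS => hbase S (hPb S hS).2)
        _ = Multiset.card P * finrank K L := by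
            rw [Multiset.map_const', Multiset.sum_replicate, smul_eq_mul]
    have hr2 : (P.map (fun S => (S ∩ Finset.univ).card)).sum = Multiset.card P * n := by
      have h1 : ∀ S ∈ P, (S ∩ Finset.univ).card = n := by
        intro S hS; rw [Finset.inter_univ]; exact (hPb S hS).1
      rw [Multiset.map_congr rfl h1, Multiset.map_const', Multiset.sum_replicate, smul_eq_mul]
    rw [hcs] at hl1
    rw [hcu, hr2] at hl2
    have h3 : IL.card * N ≤ Multiset.card P * finrank K L := by rw [← hl1]; exact hr1
    obtain ⟨p, hp⟩ : ∃ p, p = Multiset.card P := ⟨_, rfl⟩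
    obtain ⟨ℓ, hℓ⟩ : ∃ ℓ, ℓ = finrank K L := ⟨_, rfl⟩
    obtain ⟨c, hc⟩ : ∃ c, c = IL.card := ⟨_, rfl⟩
    rw [← hp, ← hℓ, ← hc] at h3
    rw [← hp] at hl2
    rw [← hℓ] at hℓpos ⊢
    rw [← hc]
    have h4 : c * n * N + ℓ * N₀ ≤ ℓ * (m + 1) * N := by
      calc c * n * N + ℓ * N₀ = n * (c * N) + ℓ * N₀ := by ring
        _ ≤ n * (p * ℓ) + ℓ * N₀ := by gcongr
        _ = ℓ * (p * n + N₀) := by ring
        _ = ℓ * ((m + 1) * N) := by rw [hl2]
        _ = ℓ * (m + 1) * N := by ring
    by_contra hge
    push_neg at hge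
    have h5 := Nat.mul_le_mul_right N hge
    have h6 : 0 < ℓ * N₀ := Nat.mul_pos hℓpos hN₀
    omega

end main

end Groth.Agent.Helper22.RadoHorn
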