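import Mathlib
import Groth.Prelude.Def_W4c2filtblowupsingRees

set_option autoImplicit false

/-!
# Integral closedness of Rees algebras of valuation filtrations (helper22)

* `theta` : the coaction `A[X] → A[X][Y]`, `f(X) ↦ f(XY)`.
* `isIntegral_monomial_coeff` : if a subalgebra `R ⊆ A[X]` is homogeneous (closed under taking
  monomial components), then the monomial components of an element integral over `R` are integral.
* `exists_rel_of_isIntegral_monomial` : a monomial `a X^n` integral over the Rees algebra of `𝓕`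
  gives `a^m + ∑_{j<m} β_j a^j = 0` with `β_j ∈ F (n (m - j))`.
* `val_aux` : the valuation estimate.
* `main` : the Rees algebra of a filtration cut out by valuation inequalities is integrally closed.
-/

namespace Groth.Agent.Helper22.ReesIC

open Polynomial

attribute [local instance] Polynomial.algebra

section coaction

variable {A : Type*} [CommRing A]

/-- the coaction `f(X) ↦ f(XY)` -/
noncomputable def theta : A[X] →+* A[X][X] :=
  eval₂RingHom ((C : A[X] →+* A[X][X]).comp (C : A →+* A[X])) (C X * X)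

theorem theta_monomial (n : ℕ) (a : A) :
    theta (monomial n a) = C (monomial n a) * X ^ n := by
  show eval₂ ((C : A[X] →+* A[X][X]).comp (C : A →+* A[X])) (C X * X) (monomial n a) = _
  rw [eval₂_monomial, RingHom.comp_apply, mul_pow, ← C_pow, ← mul_assoc, ← C_mul,
    show (C a : A[X]) * X ^ n = monomial n a from C_mul_X_pow_eq_monomial]

theorem theta_coeff (f : A[X]) (n : ℕ) : (theta f).coeff n = monomial n (f.coeff n) := by
  induction f using Polynomial.induction_on' with
  | add p q hp hq => simp only [map_add, coeff_add, hp, hq]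
  | monomial k a =>
    rw [theta_monomial, coeff_C_mul_X_pow, coeff_monomial]
    by_cases h : n = k
    · subst h
      rw [if_pos rfl, if_pos rfl]
    · rw [if_neg h, if_neg (fun h' => h h'.symm), map_zero]

theorem isIntegral_monomial_coeff [Nontrivial A] (R : Subalgebra A A[X])
    (hR : ∀ f ∈ R, ∀ n, monomial n (f.coeff n) ∈ R)
    (g : A[X]) (hg : IsIntegral (↥R) g) (n : ℕ) :
    IsIntegral (↥R) (monomial n (g.coeff n)) := by
  have hθR : ∀ r : ↥R, IsIntegral (↥R)[X] (theta (r : A[X])) := by
    intro r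
    rw [Polynomial.isIntegral_iff_isIntegral_coeff]
    intro k
    rw [theta_coeff]
    exact isIntegral_algebraMap (R := ↥R) (A := A[X]) (x := ⟨_, hR (r : A[X]) r.2 k⟩)
  have key : IsIntegral (↥R)[X] (theta g) := by
    obtain ⟨P, hPm, hPg⟩ := hg
    have hdeg : P.natDegree ≠ 0 := by
      intro h0
      rw [hPm.natDegree_eq_zero] at h0
      rw [h0, eval₂_one] at hPg
      exact one_ne_zero hPg
    refine IsIntegral.of_aeval_monic_of_isIntegral_coeff
      (p := (P.map (algebraMap (↥R) A[X])).map theta) ((hPm.map _).map _) ?_ ?_ ?_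
    · rw [(hPm.map (algebraMap (↥R) A[X])).natDegree_map theta, hPm.natDegree_map]
      exact hdeg
    · rw [eval_map, eval₂_map, ← hom_eval₂, hPg, map_zero]
      exact isIntegral_zero
    · intro i
      rw [coeff_map, coeff_map]
      exact hθR (P.coeff i)
  have h := key.coeff n
  rwa [theta_coeff] at h

end coaction

section rel

variable {A : Type*} [CommRing A]

theorem exists_rel_of_isIntegral_monomial (𝓕 : FiltBl.IdealFiltration A) (n : ℕ) (a : A)
    (h : IsIntegral (↥𝓕.rees) (monomial n a)) :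
    ∃ (m : ℕ) (β : ℕ → A), (∀ j, j < m → β j ∈ 𝓕.F (n * (m - j))) ∧
      a ^ m + ∑ j ∈ Finset.range m, β j * a ^ j = 0 := by
  obtain ⟨P, hPm, hP⟩ := h
  refine ⟨P.natDegree,
    fun j => ((P.coeff j : ↥𝓕.rees) : A[X]).coeff (n * (P.natDegree - j)), ?_, ?_⟩
  · intro j _
    exact (P.coeff j).2 (n * (P.natDegree - j))
  · have h2 : (eval₂ (algebraMap (↥𝓕.rees) A[X]) (monomial n a) P).coeff (n * P.natDegree) = 0 := by
      rw [hP, coeff_zero]
    rw [eval₂_eq_sum_range, finsetSum_coeff, Finset.sum_range_succ] at h2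
    have hterm : ∀ j, j ≤ P.natDegree →
        ((algebraMap (↥𝓕.rees) A[X] (P.coeff j)) * (monomial n a) ^ j).coeff (n * P.natDegree)
          = ((P.coeff j : ↥𝓕.rees) : A[X]).coeff (n * (P.natDegree - j)) * a ^ j := by
      intro j hj
      rw [monomial_pow]
      have e : n * P.natDegree = n * (P.natDegree - j) + n * j := by
        rw [← Nat.mul_add, Nat.sub_add_cancel hj]
      rw [e, coeff_mul_monomial]
      rfl
    have hs : ∑ j ∈ Finset.range P.natDegree,
        ((algebraMap (↥𝓕.rees) A[X] (P.coeff j)) * (monomial n a) ^ j).coeff (n * P.natDegree)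
        = ∑ j ∈ Finset.range P.natDegree,
          ((P.coeff j : ↥𝓕.rees) : A[X]).coeff (n * (P.natDegree - j)) * a ^ j :=
      Finset.sum_congr rfl (fun j hj => hterm j (Finset.mem_range.mp hj).le)
    have hlead : ((P.coeff P.natDegree : ↥𝓕.rees) : A[X]).coeff
        (n * (P.natDegree - P.natDegree)) = 1 := by
      rw [Nat.sub_self, Nat.mul_zero]
      have h1 : P.coeff P.natDegree = 1 := hPm
      rw [h1]
      show (1 : A[X]).coeff 0 = 1
      exact coeff_one_zero
    rw [hs, hterm _ le_rfl, hlead, one_mul] at h2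
    rw [add_comm]
    exact h2

end rel

section val

theorem val_aux {K : Type*} [Field K] (v : AddValuation K (WithTop ℤ)) (p q n m : ℕ) (hq : 0 < q)
    (a : K) (b : ℕ → K)
    (hb : ∀ j, j < m → ((n * (m - j) * p : ℕ) : WithTop ℤ) ≤ (q : WithTop ℤ) * v (b j))
    (heq : a ^ m + ∑ j ∈ Finset.range m, b j * a ^ j = 0) :
    ((n * p : ℕ) : WithTop ℤ) ≤ (q : WithTop ℤ) * v a := by
  have e : ∀ x : ℕ, (x : WithTop ℤ) = ((x : ℤ) : WithTop ℤ) := fun x => rfl
  simp only [e] at hb ⊢
  have hq0 : ((q : ℤ) : WithTop ℤ) ≠ 0 := by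
    rw [Ne, WithTop.coe_eq_zero]
    exact_mod_cast hq.ne'
  have hqpos : (0 : ℤ) < (q : ℤ) := by exact_mod_cast hq
  by_cases hα : v a = ⊤
  · rw [hα, WithTop.mul_top hq0]
    exact le_top
  · obtain ⟨z, hz⟩ := WithTop.ne_top_iff_exists.mp hα
    rw [← hz, ← WithTop.coe_mul, WithTop.coe_le_coe]
    by_contra hlt
    rw [not_le] at hlt
    have hsum : (m • (z : WithTop ℤ)) < v (∑ j ∈ Finset.range m, b j * a ^ j) := by
      refine v.map_lt_sum ?_ ?_
      · rw [← WithTop.coe_nsmul]
        exact WithTop.coe_ne_top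
      · intro j hj
        rw [Finset.mem_range] at hj
        rw [v.map_mul, v.map_pow, ← hz]
        by_cases hβ : v (b j) = ⊤
        · rw [hβ, WithTop.top_add, ← WithTop.coe_nsmul]
          exact WithTop.coe_lt_top _
        · obtain ⟨w, hw⟩ := WithTop.ne_top_iff_exists.mp hβ
          have hbj := hb j hj
          rw [← hw, ← WithTop.coe_mul, WithTop.coe_le_coe] at hbj
          rw [← hw, ← WithTop.coe_nsmul, ← WithTop.coe_nsmul, ← WithTop.coe_add,
            WithTop.coe_lt_coe]
          obtain ⟨k, hk⟩ := Nat.exists_eq_add_of_lt hj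
          subst hk
          have hmj : j + k + 1 - j = k + 1 := by omega
          rw [hmj] at hbj
          simp only [nsmul_eq_mul]
          push_cast at hbj hlt ⊢
          have hk1 : (0 : ℤ) < (k : ℤ) + 1 := by positivity
          have h2 : (q : ℤ) * z * ((k : ℤ) + 1) < (n : ℤ) * (p : ℤ) * ((k : ℤ) + 1) :=
            mul_lt_mul_of_pos_right hlt hk1
          have h3 : (q : ℤ) * (((k : ℤ) + 1) * z) < (q : ℤ) * w := by nlinarith
          have h4 : ((k : ℤ) + 1) * z < w := lt_of_mul_lt_mul_left h3 hqpos.le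
          nlinarith
    have h1 : v (a ^ m) = v (∑ j ∈ Finset.range m, b j * a ^ j) := by
      have h5 : a ^ m = - ∑ j ∈ Finset.range m, b j * a ^ j := eq_neg_of_add_eq_zero_left heq
      rw [h5, v.map_neg]
    rw [v.map_pow, ← hz] at h1
    rw [← h1] at hsum
    exact lt_irrefl _ hsum

end val

section main

universe u

theorem main (A K : Type u) [CommRing A] [IsDomain A] [IsIntegrallyClosed A] [Field K]
    [Algebra A K] (ι : Type) (v : ι → AddValuation K (WithTop ℤ))
    (p q : ι → ℕ) (hq : ∀ i, 0 < q i) (𝓕 : FiltBl.IdealFiltration A)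
    (hF : ∀ (k : ℕ) (x : A), x ∈ 𝓕.F k ↔
      ∀ i, ((k * p i : ℕ) : WithTop ℤ) ≤ (q i : WithTop ℤ) * v i (algebraMap A K x)) :
    IsIntegrallyClosed 𝓕.rees := by
  have hR : ∀ f ∈ 𝓕.rees, ∀ n, monomial n (f.coeff n) ∈ 𝓕.rees := by
    intro f hf n
    show ∀ k, (monomial n (f.coeff n)).coeff k ∈ 𝓕.F k
    intro k
    rw [coeff_monomial]
    split_ifs with h
    · subst h
      exact hf n
    · exact Ideal.zero_mem _
  have hinj : Function.Injective (algebraMap (↥𝓕.rees) A[X]) := Subtype.val_injective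
  haveI : FaithfulSMul (↥𝓕.rees) A[X] := (faithfulSMul_iff_algebraMap_injective _ _).mpr hinj
  haveI : IsIntegrallyClosedIn (↥𝓕.rees) A[X] := by
    rw [isIntegrallyClosedIn_iff]
    refine ⟨hinj, ?_⟩
    intro g hg
    suffices hmem : g ∈ 𝓕.rees from ⟨⟨g, hmem⟩, rfl⟩
    show ∀ n, g.coeff n ∈ 𝓕.F n
    intro n
    rw [hF]
    intro i
    have h1 := isIntegral_monomial_coeff 𝓕.rees hR g hg n
    obtain ⟨m, β, hβ, heq⟩ := exists_rel_of_isIntegral_monomial 𝓕 n (g.coeff n) h1
    have heqK := congrArg (algebraMap A K) heq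
    simp only [map_add, map_pow, map_sum, map_mul, map_zero] at heqK
    exact val_aux (v i) (p i) (q i) n m (hq i) (algebraMap A K (g.coeff n))
      (fun j => algebraMap A K (β j)) (fun j hj => (hF _ _).mp (hβ j hj) i) heqK
  exact IsIntegrallyClosed.of_isIntegrallyClosed_of_isIntegrallyClosedIn (↥𝓕.rees) A[X]

end main

end Groth.Agent.Helper22.ReesIC
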