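import Mathlib
import Groth.Prelude.Def_FrobAlg
import Groth.Agent.Lib.Helper22.RelFrob

/-!
# Relative Frobenius of a polynomial algebra is free with basis the restricted monomials
-/

set_option autoImplicit false

universe u

namespace Groth.Agent.Helper22.RelFrobSm

open TensorProduct MvPolynomial

section Expand

variable {σ : Type*} [Finite σ] (R : Type*) [CommRing R] (p : ℕ)

/-- exponent vector of `e : σ → Fin p`. -/
noncomputable def expo (e : σ → Fin p) : σ →₀ ℕ :=
  Finsupp.equivFunOnFinite.symm (fun i => ((e i : Fin p) : ℕ))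

@[simp] lemma expo_apply (e : σ → Fin p) (i : σ) : expo p e i = (e i : ℕ) := rfl

/-- the division-with-remainder map on exponent vectors. -/
noncomputable def dm : (Σ _ : σ → Fin p, σ →₀ ℕ) → (σ →₀ ℕ) := fun x => p • x.2 + expo p x.1

lemma dm_bijective (hp : 0 < p) : Function.Bijective (dm (σ := σ) p) := by
  constructor
  · rintro ⟨e, q⟩ ⟨e', q'⟩ h
    have h' : ∀ i, p * q i + (e i : ℕ) = p * q' i + (e' i : ℕ) := by
      intro i
      have := DFunLike.congr_fun h i
      simpa [dm] using this
    have he : e = e' := by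
      funext i
      apply Fin.ext
      have h1 := congrArg (· % p) (h' i)
      simp only [Nat.mul_add_mod, Nat.mod_eq_of_lt (e i).2, Nat.mod_eq_of_lt (e' i).2] at h1
      exact h1
    subst he
    have hq : q = q' := by
      ext i
      have h2 : p * q i = p * q' i := Nat.add_right_cancel (h' i)
      exact Nat.eq_of_mul_eq_mul_left hp h2
    subst hq
    rfl
  · intro m
    refine ⟨⟨fun i => ⟨m i % p, Nat.mod_lt _ hp⟩,
      Finsupp.equivFunOnFinite.symm (fun i => m i / p)⟩, ?_⟩
    ext i
    simp [dm, Nat.div_add_mod]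

/-- the `R`-linear map `(g_e)_e ↦ ∑ expand p (g_e) * x^e`. -/
noncomputable def Psi : ((σ → Fin p) →₀ MvPolynomial σ R) →ₗ[R] MvPolynomial σ R :=
  Finsupp.lsum R (fun e =>
    (LinearMap.mulRight R (monomial (expo p e) (1 : R))).comp (expand p).toLinearMap)

lemma Psi_single (e : σ → Fin p) (g : MvPolynomial σ R) :
    Psi R p (Finsupp.single e g) = expand p g * monomial (expo p e) 1 := by
  simp [Psi]

lemma Psi_apply (v : (σ → Fin p) →₀ MvPolynomial σ R) :
    Psi R p v = v.sum (fun e g => expand p g * monomial (expo p e) 1) := by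
  rw [Psi, Finsupp.lsum_apply]
  rfl

lemma Psi_bijective (hp : 0 < p) : Function.Bijective (Psi (σ := σ) R p) := by
  let b₁ := Finsupp.basis (fun _ : σ → Fin p => basisMonomials σ R)
  let ε := Equiv.ofBijective _ (dm_bijective (σ := σ) p hp)
  have key : Psi R p = (b₁.equiv (basisMonomials σ R) ε).toLinearMap := by
    apply b₁.ext
    rintro ⟨e, q⟩
    rw [LinearEquiv.coe_coe, Module.Basis.equiv_apply]
    simp only [b₁, Finsupp.coe_basis, coe_basisMonomials]
    rw [Psi_single, expand_monomial, monomial_mul, one_mul]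
    rfl
  rw [key]
  exact (b₁.equiv _ ε).bijective

end Expand

section PF

variable (p : ℕ) [Fact p.Prime] (A : Type u) [CommRing A] [CharP A p] {σ : Type*} [Finite σ]

lemma twist_symm_comp_algebraMap :
    ((FrobAlg.toTwist p A).symm : FrobAlg.Twist p A →+* A).comp (algebraMap A (FrobAlg.Twist p A)) =
      frobenius A p := by
  ext a
  rfl

/-- the ring isomorphism `P ⊗[A] A^tw ≃ P` for a polynomial ring `P`. -/
noncomputable def theta :
    FrobAlg.BaseChange p A (MvPolynomial σ A) ≃+* MvPolynomial σ A :=
  ((Algebra.TensorProduct.comm A (MvPolynomial σ A) (FrobAlg.Twist p A)).toRingEquiv.trans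
    (algebraTensorAlgEquiv A (FrobAlg.Twist p A)).toRingEquiv).trans
    (MvPolynomial.mapEquiv σ (FrobAlg.toTwist p A).symm)

lemma theta_tmul (g : MvPolynomial σ A) (t : FrobAlg.Twist p A) :
    theta p A (g ⊗ₜ[A] t) = C ((FrobAlg.toTwist p A).symm t) * map (frobenius A p) g := by
  show (MvPolynomial.mapEquiv σ (FrobAlg.toTwist p A).symm)
    ((algebraTensorAlgEquiv A (FrobAlg.Twist p A))
      ((Algebra.TensorProduct.comm A (MvPolynomial σ A) (FrobAlg.Twist p A)) (g ⊗ₜ[A] t))) = _
  rw [Algebra.TensorProduct.comm_tmul, algebraTensorAlgEquiv_tmul, MvPolynomial.mapEquiv_apply,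
    MvPolynomial.smul_eq_C_mul, map_mul, map_C, MvPolynomial.map_map, twist_symm_comp_algebraMap]
  rfl

lemma expand_theta (x : FrobAlg.BaseChange p A (MvPolynomial σ A)) :
    expand p (theta p A x) = FrobAlg.relFrob p A (MvPolynomial σ A) x := by
  induction x using TensorProduct.induction_on with
  | zero => simp
  | tmul g t =>
    rw [theta_tmul, map_mul, expand_C, ← map_expand, map_frobenius_expand,
      Groth.Agent.Helper22.RelFrob.relFrob_tmul, mul_comm]
    rfl
  | add x y hx hy => rw [map_add, map_add, map_add, hx, hy]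

/-- The polynomial ring is free over its Frobenius twist, through the relative Frobenius, with
basis the monomials with all exponents `< p`. -/
theorem exists_basis :
    letI := (FrobAlg.relFrob p A (MvPolynomial σ A)).toAlgebra
    ∃ b : Module.Basis (σ → Fin p) (FrobAlg.BaseChange p A (MvPolynomial σ A)) (MvPolynomial σ A),
      ∀ e, b e = monomial (expo p e) (1 : A) := by
  letI := (FrobAlg.relFrob p A (MvPolynomial σ A)).toAlgebra
  have hp : 0 < p := (Fact.out : p.Prime).pos
  let L := Finsupp.linearCombination (FrobAlg.BaseChange p A (MvPolynomial σ A))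
    (fun e : σ → Fin p => (monomial (expo p e) (1 : A) : MvPolynomial σ A))
  have hL : ∀ v, L v = Psi A p (Finsupp.mapRange (theta p A) (map_zero _) v) := by
    intro v
    rw [Psi_apply, Finsupp.sum_mapRange_index (by intro e; simp)]
    rw [Finsupp.linearCombination_apply]
    refine Finsupp.sum_congr (fun e _ => ?_)
    rw [expand_theta]
    rfl
  have hbij : Function.Bijective L := by
    have h1 : (L : _ → _) = (Psi A p) ∘ (Finsupp.mapRange.addEquiv (theta p A).toAddEquiv) := by
      funext v
      rw [hL]
      rfl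
    rw [h1]
    exact (Psi_bijective A p hp).comp (Finsupp.mapRange.addEquiv (theta p A).toAddEquiv).bijective
  refine ⟨Module.Basis.ofRepr (LinearEquiv.ofBijective L hbij).symm, fun e => ?_⟩
  show (LinearEquiv.ofBijective L hbij) (Finsupp.single e 1) = _
  rw [LinearEquiv.ofBijective_apply]
  show Finsupp.linearCombination _ _ (Finsupp.single e 1) = _
  rw [Finsupp.linearCombination_single, one_smul]

end PF

end Groth.Agent.Helper22.RelFrobSm
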