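import Mathlib
import Groth.Prelude.Def_FrobAlg
import Groth.Agent.Lib.Helper22.RelFrob

/-!
# The relative Frobenius square of a relatively perfect map is a pushout
-/

set_option autoImplicit false

universe u

namespace Groth.Agent.Helper22.RelFrobSm

open TensorProduct CategoryTheory CommRingCat

section CL

variable (p : ℕ) [Fact p.Prime] (A : Type u) [CommRing A] [CharP A p]
  (B : Type u) [CommRing B] [Algebra A B] [CharP B p]
  (C : Type u) [CommRing C] [Algebra A C] [CharP C p] [Algebra B C] [IsScalarTower A B C]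

/-- base change of `B → C` to the Frobenius twists over `A`. -/
noncomputable def gam : FrobAlg.BaseChange p A B →ₐ[A] FrobAlg.BaseChange p A C :=
  Algebra.TensorProduct.map (IsScalarTower.toAlgHom A B C) (AlgHom.id A (FrobAlg.Twist p A))

lemma gam_tmul (b : B) (t : FrobAlg.Twist p A) :
    gam p A B C (b ⊗ₜ[A] t) = algebraMap B C b ⊗ₜ[A] t := by
  simp [gam]

/-- naturality of the relative Frobenius. -/
lemma relFrob_gam (x : FrobAlg.BaseChange p A B) :
    FrobAlg.relFrob p A C (gam p A B C x) = algebraMap B C (FrobAlg.relFrob p A B x) := by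
  induction x using TensorProduct.induction_on with
  | zero => simp
  | tmul b t =>
    rw [gam_tmul, Groth.Agent.Helper22.RelFrob.relFrob_tmul,
      Groth.Agent.Helper22.RelFrob.relFrob_tmul, map_mul, map_pow,
      ← IsScalarTower.algebraMap_apply]
  | add x y hx hy => simp only [map_add, hx, hy]

/-- the left square: `B' → C'` is the base change of `B → C`. -/
theorem isPushout_left :
    IsPushout (ofHom (Algebra.TensorProduct.includeLeftRingHom :
        B →+* FrobAlg.BaseChange p A B))
      (ofHom (algebraMap B C)) (ofHom (gam p A B C).toRingHom)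
      (ofHom (Algebra.TensorProduct.includeLeftRingHom : C →+* FrobAlg.BaseChange p A C)) := by
  have s₀ := (CommRingCat.isPushout_tensorProduct A C (FrobAlg.Twist p A)).flip
  have t₀ := (CommRingCat.isPushout_tensorProduct A B (FrobAlg.Twist p A)).flip
  have e1 : ofHom (algebraMap A B) ≫ ofHom (algebraMap B C) = ofHom (algebraMap A C) := by
    rw [← CommRingCat.ofHom_comp, ← IsScalarTower.algebraMap_eq]
  have e2 : ofHom (Algebra.TensorProduct.includeRight (R := A) (A := B)
        (B := FrobAlg.Twist p A)).toRingHom ≫ ofHom (gam p A B C).toRingHom =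
      ofHom (Algebra.TensorProduct.includeRight (R := A) (A := C)
        (B := FrobAlg.Twist p A)).toRingHom := by
    ext t
    show gam p A B C ((1 : B) ⊗ₜ[A] t) = (1 : C) ⊗ₜ[A] t
    rw [gam_tmul, map_one]
  have e3 : ofHom (Algebra.TensorProduct.includeLeftRingHom : B →+* FrobAlg.BaseChange p A B) ≫
      ofHom (gam p A B C).toRingHom = ofHom (algebraMap B C) ≫
        ofHom (Algebra.TensorProduct.includeLeftRingHom : C →+* FrobAlg.BaseChange p A C) := by
    ext b
    show gam p A B C (b ⊗ₜ[A] (1 : FrobAlg.Twist p A)) = algebraMap B C b ⊗ₜ[A] 1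
    rw [gam_tmul]
  rw [← e1, ← e2] at s₀
  exact s₀.of_top e3 t₀

/-- if `C` is relatively perfect over `B`, the Frobenius square of `B → C` is a pushout. -/
theorem isPushout_frobenius (h : Function.Bijective (FrobAlg.relFrob p B C)) :
    IsPushout (ofHom (frobenius B p)) (ofHom (algebraMap B C)) (ofHom (algebraMap B C))
      (ofHom (frobenius C p)) := by
  have s₀ := (CommRingCat.isPushout_tensorProduct B C (FrobAlg.Twist p B)).flip
  let ρ : FrobAlg.BaseChange p B C ≃+* C := RingEquiv.ofBijective (FrobAlg.relFrob p B C) h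
  refine s₀.of_iso (Iso.refl _) ((FrobAlg.toTwist p B).symm.toCommRingCatIso) (Iso.refl _)
    ρ.toCommRingCatIso ?_ ?_ ?_ ?_
  · ext b
    rfl
  · rfl
  · ext t
    show FrobAlg.relFrob p B C ((1 : C) ⊗ₜ[B] t) = algebraMap B C ((FrobAlg.toTwist p B).symm t)
    rw [Groth.Agent.Helper22.RelFrob.relFrob_tmul, one_pow, one_mul]
  · ext c
    show FrobAlg.relFrob p B C (c ⊗ₜ[B] (1 : FrobAlg.Twist p B)) = c ^ p
    rw [Groth.Agent.Helper22.RelFrob.relFrob_tmul, map_one, map_one, mul_one]

/-- **Base change of the relative Frobenius along a relatively perfect map.** -/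
theorem isPushout_relFrob (h : Function.Bijective (FrobAlg.relFrob p B C)) :
    IsPushout (ofHom (FrobAlg.relFrob p A B)) (ofHom (gam p A B C).toRingHom)
      (ofHom (algebraMap B C)) (ofHom (FrobAlg.relFrob p A C)) := by
  have s := isPushout_frobenius p B C h
  have t := isPushout_left p A B C
  have e1 : ofHom (Algebra.TensorProduct.includeLeftRingHom : B →+* FrobAlg.BaseChange p A B) ≫
      ofHom (FrobAlg.relFrob p A B) = ofHom (frobenius B p) := by
    ext b
    show FrobAlg.relFrob p A B (b ⊗ₜ[A] (1 : FrobAlg.Twist p A)) = b ^ p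
    rw [Groth.Agent.Helper22.RelFrob.relFrob_tmul, map_one, map_one, mul_one]
  have e2 : ofHom (Algebra.TensorProduct.includeLeftRingHom : C →+* FrobAlg.BaseChange p A C) ≫
      ofHom (FrobAlg.relFrob p A C) = ofHom (frobenius C p) := by
    ext c
    show FrobAlg.relFrob p A C (c ⊗ₜ[A] (1 : FrobAlg.Twist p A)) = c ^ p
    rw [Groth.Agent.Helper22.RelFrob.relFrob_tmul, map_one, map_one, mul_one]
  have e3 : ofHom (FrobAlg.relFrob p A B) ≫ ofHom (algebraMap B C) =
      ofHom (gam p A B C).toRingHom ≫ ofHom (FrobAlg.relFrob p A C) := by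
    apply CommRingCat.hom_ext
    apply RingHom.ext
    intro x
    exact (relFrob_gam p A B C x).symm
  rw [← e1, ← e2] at s
  exact s.of_left e3 t

end CL

section BC

variable {R R' S S' : Type u} [CommRing R] [CommRing R'] [CommRing S] [CommRing S']
  (f : R →+* S) (g : R →+* R') (b : S →+* S') (a : R' →+* S')

/-- a pushout square of commutative rings transports bases. -/
theorem exists_basis_of_isPushout (h : IsPushout (ofHom f) (ofHom g) (ofHom b) (ofHom a))
    {ι : Type*} (v : @Module.Basis ι R S _ _ f.toAlgebra.toModule) :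
    ∃ w : @Module.Basis ι R' S' _ _ a.toAlgebra.toModule, ∀ i, w i = b (v i) := by
  letI := f.toAlgebra
  letI := g.toAlgebra
  letI := a.toAlgebra
  letI := b.toAlgebra
  letI : Algebra R S' := (b.comp f).toAlgebra
  haveI : IsScalarTower R S S' := IsScalarTower.of_algebraMap_eq' rfl
  haveI : IsScalarTower R R' S' := IsScalarTower.of_algebraMap_eq' (by
    show b.comp f = a.comp g
    have := congrArg CommRingCat.Hom.hom h.w
    simpa using this)
  have hP : Algebra.IsPushout R R' S S' := CommRingCat.isPushout_iff_isPushout.mp h.flip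
  have hbc : IsBaseChange R' (IsScalarTower.toAlgHom R S S').toLinearMap := hP.out
  refine ⟨(Algebra.TensorProduct.basis R' v).map hbc.equiv, fun i => ?_⟩
  rw [Module.Basis.map_apply, Algebra.TensorProduct.basis_apply, hbc.equiv_tmul, one_smul]
  rfl

/-- a pushout square of commutative rings preserves ranks at stalks. -/
theorem rankAtStalk_of_isPushout (h : IsPushout (ofHom f) (ofHom g) (ofHom b) (ofHom a))
    (hfl : @Module.Flat R S _ _ f.toAlgebra.toModule)
    (hfin : @Module.Finite R S _ _ f.toAlgebra.toModule)
    (q : PrimeSpectrum R') :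
    @Module.rankAtStalk R' S' _ _ a.toAlgebra.toModule q =
      @Module.rankAtStalk R S _ _ f.toAlgebra.toModule (q.comap g) := by
  letI := f.toAlgebra
  letI := g.toAlgebra
  letI := a.toAlgebra
  letI := b.toAlgebra
  letI : Algebra R S' := (b.comp f).toAlgebra
  haveI : IsScalarTower R S S' := IsScalarTower.of_algebraMap_eq' rfl
  haveI : IsScalarTower R R' S' := IsScalarTower.of_algebraMap_eq' (by
    show b.comp f = a.comp g
    have := congrArg CommRingCat.Hom.hom h.w
    simpa using this)
  have hP : Algebra.IsPushout R R' S S' := CommRingCat.isPushout_iff_isPushout.mp h.flip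
  have hbc : IsBaseChange R' (IsScalarTower.toAlgHom R S S').toLinearMap := hP.out
  haveI := hfl
  haveI := hfin
  exact Module.rankAtStalk_isBaseChange hbc q

end BC

end Groth.Agent.Helper22.RelFrobSm
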