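import Mathlib
import Groth.Prelude.Def_FrobAlg
import Groth.Agent.Lib.Helper22.RelFrob
import Groth.Agent.Lib.Helper22.RelFrobSm1
import Groth.Agent.Lib.Helper22.RelFrobSm2
import Groth.Agent.S3176
import Groth.Agent.S3191

/-!
# The relative Frobenius of a smooth algebra is flat
-/

set_option autoImplicit false

universe u v

namespace Groth.Agent.Helper22.RelFrobSm

open TensorProduct CategoryTheory CommRingCat

section Local

variable (p : ℕ) [Fact p.Prime] (A : Type u) [CommRing A] [CharP A p]

/-- if `C` is étale over a polynomial ring over `A`, then `C` is free over its Frobenius twist. -/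
theorem nonempty_basis_of_etale_mvPolynomial (n : ℕ)
    (C : Type u) [CommRing C] [Algebra A C] [CharP C p] [Algebra (MvPolynomial (Fin n) A) C]
    [IsScalarTower A (MvPolynomial (Fin n) A) C] [Algebra.Etale (MvPolynomial (Fin n) A) C] :
    Nonempty (@Module.Basis (Fin n → Fin p) (FrobAlg.BaseChange p A C) C _ _
      (FrobAlg.relFrob p A C).toAlgebra.toModule) := by
  have hbij : Function.Bijective (FrobAlg.relFrob p (MvPolynomial (Fin n) A) C) :=
    (Groth.Agent.S3176.result p (MvPolynomial (Fin n) A) C).mp inferInstance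
  have hpo := isPushout_relFrob p A (MvPolynomial (Fin n) A) C hbij
  obtain ⟨v, -⟩ := exists_basis p A (σ := Fin n)
  obtain ⟨w, -⟩ := exists_basis_of_isPushout _ _ _ _ hpo v
  exact ⟨w⟩

variable (B : Type u) [CommRing B] [Algebra A B]

/-- elements `g` such that `B_g` is étale over a polynomial ring over `A`. -/
def goodSet : Set B :=
  {g | ∃ (n : ℕ) (_ : Algebra (MvPolynomial (Fin n) A) (Localization.Away g)),
      IsScalarTower A (MvPolynomial (Fin n) A) (Localization.Away g) ∧
      Algebra.Etale (MvPolynomial (Fin n) A) (Localization.Away g)}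

theorem exists_mem_goodSet_notMem [Algebra.Smooth A B] (m : Ideal B) [m.IsPrime] :
    ∃ g ∈ goodSet A B, g ∉ m := by
  haveI : Algebra.IsSmoothAt A m := inferInstance
  obtain ⟨g, hg, n, alg, h1, h2⟩ :=
    Algebra.IsSmoothAt.exists_isStandardEtale_mvPolynomial (R := A) (p := m)
  exact ⟨g, ⟨n, alg, h1, inferInstance⟩, hg⟩

theorem span_goodSet [Algebra.Smooth A B] : Ideal.span (goodSet A B) = ⊤ := by
  by_contra hne
  obtain ⟨m, hm, hle⟩ := Ideal.exists_le_maximal _ hne
  haveI := hm.isPrime
  obtain ⟨g, hg, hgm⟩ := exists_mem_goodSet_notMem A B m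
  exact hgm (hle (Ideal.subset_span hg))

end Local

section Flat

variable (p : ℕ) [Fact p.Prime] (A : Type u) [CommRing A] [CharP A p]
  (B : Type u) [CommRing B] [Algebra A B] [CharP B p]

theorem flat_gam (C : Type u) [CommRing C] [Algebra A C] [CharP C p] [Algebra B C]
    [IsScalarTower A B C] [Module.Flat B C] : (gam p A B C).toRingHom.Flat := by
  have hst : (RingHom.toMorphismProperty RingHom.Flat).IsStableUnderCobaseChange :=
    RingHom.isStableUnderCobaseChange_toMorphismProperty_iff.mpr
      RingHom.Flat.isStableUnderBaseChange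
  have hBC : (algebraMap B C).Flat := RingHom.flat_algebraMap_iff.mpr inferInstance
  exact hst.of_isPushout (isPushout_left p A B C) hBC

/-- The relative Frobenius of a smooth algebra is flat (one universe). -/
theorem flat_relFrob_of_smooth [Algebra.Smooth A B] : (FrobAlg.relFrob p A B).Flat := by
  have hp : p.Prime := Fact.out
  apply RingHom.Flat.ofLocalizationSpanTarget _ (goodSet A B) (span_goodSet A B)
  rintro ⟨g, n, alg, htow, het⟩
  rcases subsingleton_or_nontrivial (Localization.Away g) with hsub | hnt
  · letI := ((algebraMap B (Localization.Away g)).comp (FrobAlg.relFrob p A B)).toAlgebra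
    show Module.Flat (FrobAlg.BaseChange p A B) (Localization.Away g)
    haveI := Module.Free.of_subsingleton (FrobAlg.BaseChange p A B) (Localization.Away g)
    exact Module.Flat.of_free
  · haveI : CharP (Localization.Away g) p := by
      rw [CharP.charP_iff_prime_eq_zero hp]
      rw [← map_natCast (algebraMap B (Localization.Away g)) p, CharP.cast_eq_zero B p, map_zero]
    obtain ⟨w⟩ := nonempty_basis_of_etale_mvPolynomial p A n (Localization.Away g)
    have h1 : (FrobAlg.relFrob p A (Localization.Away g)).Flat := by
      letI := (FrobAlg.relFrob p A (Localization.Away g)).toAlgebra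
      show Module.Flat (FrobAlg.BaseChange p A (Localization.Away g)) (Localization.Away g)
      haveI := Module.Free.of_basis w
      exact Module.Flat.of_free
    haveI : Module.Flat B (Localization.Away g) :=
      IsLocalization.flat (Localization.Away g) (Submonoid.powers g)
    have h2 := flat_gam p A B (Localization.Away g)
    have h3 : (algebraMap B (Localization.Away g)).comp (FrobAlg.relFrob p A B) =
        (FrobAlg.relFrob p A (Localization.Away g)).comp
          (gam p A B (Localization.Away g)).toRingHom :=
      RingHom.ext (fun x => (relFrob_gam p A B _ x).symm)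
    rw [h3]
    exact h2.comp h1

end Flat

section Univ

variable (p : ℕ) [Fact p.Prime] (A : Type u) [CommRing A] [CharP A p]

/-- naturality of the relative Frobenius in the algebra. -/
lemma relFrob_map {B₁ : Type*} {B₂ : Type*} [CommRing B₁] [Algebra A B₁] [CharP B₁ p]
    [CommRing B₂] [Algebra A B₂] [CharP B₂ p] (φ : B₁ →ₐ[A] B₂)
    (x : FrobAlg.BaseChange p A B₁) :
    FrobAlg.relFrob p A B₂
        (Algebra.TensorProduct.map φ (AlgHom.id A (FrobAlg.Twist p A)) x) =
      φ (FrobAlg.relFrob p A B₁ x) := by
  induction x using TensorProduct.induction_on with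
  | zero => simp
  | tmul b t =>
    rw [Algebra.TensorProduct.map_tmul, Groth.Agent.Helper22.RelFrob.relFrob_tmul,
      Groth.Agent.Helper22.RelFrob.relFrob_tmul, map_mul, map_pow, AlgHom.commutes]
    rfl
  | add x y hx hy => simp only [map_add, hx, hy]

/-- flatness of the relative Frobenius is invariant under isomorphisms of algebras. -/
theorem flat_relFrob_of_equiv {B₁ : Type*} {B₂ : Type*} [CommRing B₁] [Algebra A B₁] [CharP B₁ p]
    [CommRing B₂] [Algebra A B₂] [CharP B₂ p] (e : B₁ ≃ₐ[A] B₂)
    (h : (FrobAlg.relFrob p A B₁).Flat) : (FrobAlg.relFrob p A B₂).Flat := by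
  let E : FrobAlg.BaseChange p A B₂ ≃ₐ[A] FrobAlg.BaseChange p A B₁ :=
    Algebra.TensorProduct.congr e.symm AlgEquiv.refl
  have h1 : FrobAlg.relFrob p A B₂ =
      (e.toAlgHom.toRingHom.comp (FrobAlg.relFrob p A B₁)).comp E.toAlgHom.toRingHom := by
    apply RingHom.ext
    intro x
    have h2 := relFrob_map p A e.symm.toAlgHom x
    show _ = e (FrobAlg.relFrob p A B₁ (E x))
    have h3 : E x = Algebra.TensorProduct.map e.symm.toAlgHom (AlgHom.id A (FrobAlg.Twist p A)) x :=
      rfl
    rw [h3, h2]
    exact (e.apply_symm_apply _).symm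
  rw [h1]
  exact (RingHom.Flat.of_bijective E.bijective).comp
    (h.comp (RingHom.Flat.of_bijective e.bijective))

/-- **The relative Frobenius of a smooth algebra is flat.** -/
theorem flat_relFrob_of_smooth' (B : Type v) [CommRing B] [Algebra A B] [CharP B p]
    [Algebra.Smooth A B] : (FrobAlg.relFrob p A B).Flat := by
  obtain ⟨m, φ, hφ, -⟩ := (inferInstance : Algebra.FinitePresentation A B).out
  let e : (MvPolynomial (Fin m) A ⧸ RingHom.ker φ.toRingHom) ≃ₐ[A] B :=
    Ideal.quotientKerAlgEquivOfSurjective hφ
  haveI : CharP (MvPolynomial (Fin m) A ⧸ RingHom.ker φ.toRingHom) p :=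
    charP_of_injective_ringHom (f := e.symm.toAlgHom.toRingHom) e.symm.injective p
  haveI : Algebra.Smooth A (MvPolynomial (Fin m) A ⧸ RingHom.ker φ.toRingHom) :=
    Algebra.Smooth.of_equiv e.symm
  exact flat_relFrob_of_equiv p A e (flat_relFrob_of_smooth p A _)

end Univ

end Groth.Agent.Helper22.RelFrobSm
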