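import Mathlib
import Groth.Agent.Lib.Helper22.RelFrobSm3

/-!
# The relative Frobenius of a smooth algebra of relative dimension `r` is finite locally free of
rank `p ^ r`
-/

set_option autoImplicit false

universe u

namespace Groth.Agent.Helper22.RelFrobSm

open TensorProduct CategoryTheory CommRingCat KaehlerDifferential

section Fin

variable (p : ℕ) [Fact p.Prime] (A : Type u) [CommRing A] [CharP A p]
  (B : Type u) [CommRing B] [Algebra A B] [CharP B p]

lemma relFrob_comp_includeRight :
    (FrobAlg.relFrob p A B).comp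
        (Algebra.TensorProduct.includeRight (R := A) (A := B) (B := FrobAlg.Twist p A)).toRingHom =
      (algebraMap A B).comp ((FrobAlg.toTwist p A).symm : FrobAlg.Twist p A →+* A) := by
  apply RingHom.ext
  intro t
  show FrobAlg.relFrob p A B ((1 : B) ⊗ₜ[A] t) = _
  rw [Groth.Agent.Helper22.RelFrob.relFrob_tmul, one_pow, one_mul]
  rfl

theorem finiteType_relFrob [Algebra.FiniteType A B] : (FrobAlg.relFrob p A B).FiniteType := by
  have h1 : (algebraMap A B).FiniteType := RingHom.finiteType_algebraMap.mpr inferInstance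
  have h2 : ((algebraMap A B).comp
      ((FrobAlg.toTwist p A).symm : FrobAlg.Twist p A →+* A)).FiniteType :=
    h1.comp (RingHom.FiniteType.of_surjective _ (FrobAlg.toTwist p A).symm.surjective)
  rw [← relFrob_comp_includeRight] at h2
  exact RingHom.FiniteType.of_comp_finiteType h2

theorem finite_relFrob [Algebra.FiniteType A B] : (FrobAlg.relFrob p A B).Finite :=
  RingHom.IsIntegral.to_finite (Groth.Agent.S3191.result p A B).1 (finiteType_relFrob p A B)

theorem finiteType_includeRight [Algebra.FiniteType A B] :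
    (Algebra.TensorProduct.includeRight (R := A) (A := B)
      (B := FrobAlg.Twist p A)).toRingHom.FiniteType := by
  let e : (FrobAlg.Twist p A) ⊗[A] B ≃ₐ[FrobAlg.Twist p A] FrobAlg.BaseChange p A B :=
    AlgEquiv.ofRingEquiv (f := (Algebra.TensorProduct.comm A (FrobAlg.Twist p A) B).toRingEquiv) (by
      intro t
      show (Algebra.TensorProduct.comm A (FrobAlg.Twist p A) B) (t ⊗ₜ[A] (1 : B)) = _
      rw [Algebra.TensorProduct.comm_tmul]
      rfl)
  have h : Algebra.FiniteType (FrobAlg.Twist p A) (FrobAlg.BaseChange p A B) :=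
    Algebra.FiniteType.equiv inferInstance e
  exact RingHom.finiteType_algebraMap.mpr h

theorem finitePresentation_relFrob [Algebra.FinitePresentation A B] :
    (FrobAlg.relFrob p A B).FinitePresentation := by
  have h1 : (algebraMap A B).FinitePresentation :=
    RingHom.finitePresentation_algebraMap.mpr inferInstance
  have h0 : ((FrobAlg.toTwist p A).symm : FrobAlg.Twist p A →+* A).FinitePresentation := by
    apply RingHom.FinitePresentation.of_surjective _ (FrobAlg.toTwist p A).symm.surjective
    have : RingHom.ker ((FrobAlg.toTwist p A).symm : FrobAlg.Twist p A →+* A) = ⊥ :=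
      (RingHom.injective_iff_ker_eq_bot _).mp (FrobAlg.toTwist p A).symm.injective
    rw [this]
    exact Submodule.fg_bot
  have h2 : ((algebraMap A B).comp
      ((FrobAlg.toTwist p A).symm : FrobAlg.Twist p A →+* A)).FinitePresentation := h1.comp h0
  rw [← relFrob_comp_includeRight] at h2
  exact RingHom.FinitePresentation.of_comp_finiteType _ h2 (finiteType_includeRight p A B)

theorem comap_relFrob_surjective :
    Function.Surjective (PrimeSpectrum.comap (FrobAlg.relFrob p A B)) := by
  obtain ⟨hint, hker⟩ := Groth.Agent.S3191.result p A B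
  intro P
  letI algB'B : Algebra (FrobAlg.BaseChange p A B) B := (FrobAlg.relFrob p A B).toAlgebra
  haveI : Algebra.IsIntegral (FrobAlg.BaseChange p A B) B := ⟨hint⟩
  have hle : (⊥ : Ideal B).comap (algebraMap (FrobAlg.BaseChange p A B) B) ≤ P.asIdeal := by
    intro x hx
    have hx0 : FrobAlg.relFrob p A B x = 0 := hx
    have := hker x hx0
    exact P.isPrime.mem_of_pow_mem p (this ▸ Ideal.zero_mem _)
  obtain ⟨Q, -, hQ, hQP⟩ := Ideal.exists_ideal_over_prime_of_isIntegral P.asIdeal ⊥ hle
  refine ⟨⟨Q, hQ⟩, ?_⟩
  apply PrimeSpectrum.ext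
  exact hQP

end Fin

section Rank

variable (A : Type u) [CommRing A] [Nontrivial A]

/-- the module of differentials of an étale algebra over a polynomial ring in `n` variables has
rank `n` at all primes. -/
theorem rankAtStalk_kaehler_of_etale_mvPolynomial (n : ℕ) (C : Type u) [CommRing C] [Algebra A C]
    [Algebra (MvPolynomial (Fin n) A) C] [IsScalarTower A (MvPolynomial (Fin n) A) C]
    [Algebra.Etale (MvPolynomial (Fin n) A) C] (q : PrimeSpectrum C) :
    Module.rankAtStalk (R := C) (Ω[C⁄A]) q = n := by
  haveI : Nontrivial C := ⟨0, 1, fun h => q.isPrime.ne_top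
    ((Ideal.eq_top_iff_one _).mpr (h ▸ Ideal.zero_mem _))⟩
  let e := tensorKaehlerEquivOfFormallyEtale A (MvPolynomial (Fin n) A) C
  have h1 := congrFun (Module.rankAtStalk_eq_of_equiv e) q
  rw [← h1]
  haveI : Module.Free (MvPolynomial (Fin n) A) (Ω[MvPolynomial (Fin n) A⁄A]) :=
    Module.Free.of_basis (mvPolynomialBasis A (Fin n))
  have h2 := congrFun (Module.rankAtStalk_eq_finrank_of_free (R := C)
    (M := C ⊗[MvPolynomial (Fin n) A] Ω[MvPolynomial (Fin n) A⁄A])) q
  rw [h2]
  simp only [Pi.natCast_apply, Nat.cast_id]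
  rw [Module.finrank_baseChange, Module.finrank_eq_card_basis (mvPolynomialBasis A (Fin n)),
    Fintype.card_fin]

end Rank

section Main

variable (p : ℕ) [Fact p.Prime] (A : Type u) [CommRing A] [CharP A p]
  (B : Type u) [CommRing B] [Algebra A B] [CharP B p]

theorem rankAtStalk_relFrob_of_smooth [Algebra.Smooth A B] (r : ℕ)
    (hr : ∀ q : PrimeSpectrum B, Module.rankAtStalk (R := B) (Ω[B⁄A]) q = r)
    (q : PrimeSpectrum (FrobAlg.BaseChange p A B)) :
    @Module.rankAtStalk (FrobAlg.BaseChange p A B) B _ _
      (FrobAlg.relFrob p A B).toAlgebra.toModule q = p ^ r := by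
  have hp : p.Prime := Fact.out
  haveI : Nontrivial A := CharP.nontrivial_of_char_ne_one (R := A) (v := p) hp.ne_one
  obtain ⟨𝔮, h𝔮⟩ := comap_relFrob_surjective p A B q
  obtain ⟨g, ⟨n, alg, htow, het⟩, hg⟩ := exists_mem_goodSet_notMem A B 𝔮.asIdeal
  have hdisj : Disjoint (Submonoid.powers g : Set B) (𝔮.asIdeal : Set B) :=
    (Ideal.disjoint_powers_iff_notMem_of_isPrime g).mpr hg
  let 𝔮C : PrimeSpectrum (Localization.Away g) :=
    ⟨Ideal.map (algebraMap B (Localization.Away g)) 𝔮.asIdeal,
      IsLocalization.isPrime_of_isPrime_disjoint (Submonoid.powers g) (Localization.Away g) _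
        𝔮.isPrime hdisj⟩
  have hcomap : 𝔮C.comap (algebraMap B (Localization.Away g)) = 𝔮 :=
    PrimeSpectrum.ext (IsLocalization.under_map_of_isPrime_disjoint (Submonoid.powers g)
      (Localization.Away g) 𝔮.isPrime hdisj)
  haveI : Nontrivial (Localization.Away g) := ⟨0, 1, fun h => 𝔮C.isPrime.ne_top
    ((Ideal.eq_top_iff_one _).mpr (h ▸ Ideal.zero_mem _))⟩
  haveI : CharP (Localization.Away g) p := by
    rw [CharP.charP_iff_prime_eq_zero hp]
    rw [← map_natCast (algebraMap B (Localization.Away g)) p, CharP.cast_eq_zero B p, map_zero]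
  -- `n = r`
  have hn : n = r := by
    have h1 := rankAtStalk_kaehler_of_etale_mvPolynomial A n (Localization.Away g) 𝔮C
    let e := tensorKaehlerEquivOfFormallyEtale A B (Localization.Away g)
    have h2 := congrFun (Module.rankAtStalk_eq_of_equiv e) 𝔮C
    rw [Module.rankAtStalk_baseChange, hcomap, hr] at h2
    rw [← h1, ← h2]
  subst hn
  obtain ⟨w⟩ := nonempty_basis_of_etale_mvPolynomial p A n (Localization.Away g)
  have hbij : Function.Bijective (FrobAlg.relFrob p B (Localization.Away g)) :=
    (Groth.Agent.S3176.result p B (Localization.Away g)).mp inferInstance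
  have hpo := isPushout_relFrob p A B (Localization.Away g) hbij
  let q' : PrimeSpectrum (FrobAlg.BaseChange p A (Localization.Away g)) :=
    𝔮C.comap (FrobAlg.relFrob p A (Localization.Away g))
  have h3 := rankAtStalk_of_isPushout _ _ _ _ hpo (flat_relFrob_of_smooth p A B)
    (finite_relFrob p A B) q'
  have h4 : q'.comap (gam p A B (Localization.Away g)).toRingHom = q := by
    rw [← h𝔮, ← hcomap]
    apply PrimeSpectrum.ext
    ext x
    show FrobAlg.relFrob p A (Localization.Away g) (gam p A B (Localization.Away g) x) ∈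
        𝔮C.asIdeal ↔
      algebraMap B (Localization.Away g) (FrobAlg.relFrob p A B x) ∈ 𝔮C.asIdeal
    rw [relFrob_gam]
  rw [h4] at h3
  rw [← h3]
  haveI : Nontrivial (FrobAlg.BaseChange p A (Localization.Away g)) := ⟨0, 1, fun h =>
    q'.isPrime.ne_top ((Ideal.eq_top_iff_one _).mpr (h ▸ Ideal.zero_mem _))⟩
  letI := (FrobAlg.relFrob p A (Localization.Away g)).toAlgebra
  haveI := Module.Free.of_basis w
  have h5 := congrFun (Module.rankAtStalk_eq_finrank_of_free
    (R := FrobAlg.BaseChange p A (Localization.Away g)) (M := Localization.Away g)) q'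
  rw [h5]
  simp only [Pi.natCast_apply, Nat.cast_id]
  rw [Module.finrank_eq_card_basis w]
  simp

/-- **The relative Frobenius of a smooth algebra of relative dimension `r` is finite locally free of
rank `p ^ r`.** -/
theorem relFrob_finite_projective_rank [Algebra.Smooth A B] (r : ℕ)
    (hr : ∀ q : PrimeSpectrum B, Module.rankAtStalk (R := B) (Ω[B⁄A]) q = r) :
    letI := (FrobAlg.relFrob p A B).toAlgebra
    Module.Finite (FrobAlg.BaseChange p A B) B ∧ Module.Projective (FrobAlg.BaseChange p A B) B ∧
      ∀ q : PrimeSpectrum (FrobAlg.BaseChange p A B),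
        Module.rankAtStalk (R := FrobAlg.BaseChange p A B) B q = p ^ r := by
  letI := (FrobAlg.relFrob p A B).toAlgebra
  haveI hfin : Module.Finite (FrobAlg.BaseChange p A B) B := finite_relFrob p A B
  haveI hfp : Algebra.FinitePresentation (FrobAlg.BaseChange p A B) B :=
    finitePresentation_relFrob p A B
  haveI hfl : Module.Flat (FrobAlg.BaseChange p A B) B := flat_relFrob_of_smooth p A B
  haveI : Module.FinitePresentation (FrobAlg.BaseChange p A B) B :=
    Module.FinitePresentation.of_finite_of_finitePresentation _ _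
  refine ⟨hfin, Module.Flat.projective_of_finitePresentation, fun q => ?_⟩
  exact rankAtStalk_relFrob_of_smooth p A B r hr q

end Main

end Groth.Agent.Helper22.RelFrobSm
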