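import Mathlib
import Groth.Agent.Lib.Helper22.Chev

/-!
# Totally tamely ramified extensions of a complete DVR (helper22)

`main`: for a complete DVR `A` and a Dedekind domain `B` finite torsion-free of rank `m` over `A`
with a maximal ideal `M` of ramification index `m`, `m` a unit of `A`, some uniformizer `u` of `B`
has `u ^ m ∈ A` and `minpoly A u` of degree `m`.
-/

set_option autoImplicit false
set_option linter.style.haveILetI false

namespace Groth.Agent.Helper22.TameRoot

open IsLocalRing Polynomial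

universe u

theorem precomplete_of_pow_eq {A B : Type*} [CommRing A] [IsLocalRing A]
    [IsPrecomplete (maximalIdeal A) A] [CommRing B] [Algebra A B] [Module.Finite A B]
    (M : Ideal B) (m : ℕ) (hm : 0 < m)
    (hpow : (maximalIdeal A).map (algebraMap A B) = M ^ m) : IsPrecomplete M B := by
  constructor
  intro f hf
  have hsm : ∀ n : ℕ, ((maximalIdeal A) ^ n • ⊤ : Submodule A B) =
      (M ^ (m * n)).restrictScalars A := by
    intro n
    rw [Ideal.smul_top_eq_map, Ideal.map_pow, hpow, ← pow_mul]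
  have key : ∀ n, f (m * (n + 1)) - f (m * n) ∈ ((maximalIdeal A) ^ n • ⊤ : Submodule A B) := by
    intro n
    rw [hsm n, Submodule.restrictScalars_mem]
    have h1 := hf (Nat.mul_le_mul_left m (Nat.le_succ n))
    rw [SModEq.sub_mem, smul_eq_mul, Ideal.mul_top] at h1
    have h2 : f (m * (n + 1)) - f (m * n) = -(f (m * n) - f (m * (n + 1))) := by ring
    rw [h2]
    exact neg_mem h1
  obtain ⟨y, hy⟩ := Groth.Agent.Helper22.Chev.exists_limit_of_finite (maximalIdeal A)
    (fun n => f (m * n)) key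
  refine ⟨y, fun n => ?_⟩
  rw [SModEq.sub_mem, smul_eq_mul, Ideal.mul_top]
  have h2 := hy n
  rw [hsm n, Submodule.restrictScalars_mem] at h2
  have h3 : y - f (m * n) ∈ M ^ n := Ideal.pow_le_pow_right (Nat.le_mul_of_pos_left n hm) h2
  have h4 := hf (Nat.le_mul_of_pos_left n hm)
  rw [SModEq.sub_mem, smul_eq_mul, Ideal.mul_top] at h4
  have h5 : f n - y = (f n - f (m * n)) - (y - f (m * n)) := by ring
  rw [h5]
  exact sub_mem h4 h3

theorem main (A B : Type u) [CommRing A] [IsDomain A] [IsDiscreteValuationRing A]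
    [IsAdicComplete (IsLocalRing.maximalIdeal A) A]
    [CommRing B] [IsDedekindDomain B] [Algebra A B] [Module.Finite A B] [Module.IsTorsionFree A B]
    (M : Ideal B) [M.IsMaximal] (hram : M.ramificationIdx A = Module.finrank A B)
    (hm : IsUnit ((Module.finrank A B : ℕ) : A)) :
    ∃ u : B, u ∈ M ∧ u ∉ M ^ 2 ∧ u ^ Module.finrank A B ∈ (algebraMap A B).range ∧
      (minpoly A u).natDegree = Module.finrank A B := by
  classical
  obtain ⟨m, hmdef⟩ : ∃ m, Module.finrank A B = m := ⟨_, rfl⟩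
  rw [hmdef] at hram hm ⊢
  haveI : Module.Free A B := Module.free_of_finite_type_torsion_free'
  haveI : Algebra.IsIntegral A B := inferInstance
  have hinj : Function.Injective (algebraMap A B) := FaithfulSMul.algebraMap_injective A B
  -- `M` lies over the maximal ideal
  haveI hMu : (M.under A).IsMaximal := Ideal.IsMaximal.under A M
  have hMp : M.under A = maximalIdeal A := IsLocalRing.eq_maximalIdeal hMu
  haveI : M.LiesOver (maximalIdeal A) := ⟨hMp.symm⟩
  haveI : Fintype ((maximalIdeal A).primesOver B) :=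
    (Algebra.QuasiFinite.finite_primesOver (maximalIdeal A)).fintype
  have hsum := Ideal.sum_ramification_inertia_eq_finrank (maximalIdeal A) B
  rw [hmdef] at hsum
  have hmpos : 0 < m := by rw [← hram]; exact Ideal.ramificationIdx_pos M A
  let q₀ : (maximalIdeal A).primesOver B := ⟨M, ⟨inferInstance, inferInstance⟩⟩
  have hle : M.ramificationIdx A * M.inertiaDeg A ≤ m := by
    rw [← hsum]
    exact Finset.single_le_sum
      (f := fun q : (maximalIdeal A).primesOver B => q.1.ramificationIdx A * q.1.inertiaDeg A)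
      (fun _ _ => Nat.zero_le _) (Finset.mem_univ q₀)
  have hf1 : M.inertiaDeg A = 1 := by
    have h1 : 0 < M.inertiaDeg A := Ideal.inertiaDeg_pos M A
    rw [hram] at hle
    have h2 : M.inertiaDeg A ≤ 1 := Nat.le_of_mul_le_mul_left (by simpa using hle) hmpos
    omega
  have huniq : ∀ q : (maximalIdeal A).primesOver B, q = q₀ := by
    intro q
    by_contra hne
    have h2 : ∑ x ∈ ({q₀, q} : Finset ((maximalIdeal A).primesOver B)),
        x.1.ramificationIdx A * x.1.inertiaDeg A ≤ m := by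
      rw [← hsum]
      exact Finset.sum_le_sum_of_subset (Finset.subset_univ _)
    rw [Finset.sum_pair (Ne.symm hne)] at h2
    have h3 : 0 < q.1.ramificationIdx A * q.1.inertiaDeg A := by
      haveI := q.2.1
      exact Nat.mul_pos (Ideal.ramificationIdx_pos q.1 A) (Ideal.inertiaDeg_pos q.1 A)
    have h4 : q₀.1.ramificationIdx A * q₀.1.inertiaDeg A = m := by
      show M.ramificationIdx A * M.inertiaDeg A = m
      rw [hram, hf1, mul_one]
    omega
  have hmax : ∀ Q : Ideal B, Q.IsMaximal → Q = M := by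
    intro Q hQ
    haveI := hQ
    haveI hQu : (Q.under A).IsMaximal := Ideal.IsMaximal.under A Q
    have hQp : Q.under A = maximalIdeal A := IsLocalRing.eq_maximalIdeal hQu
    have := huniq ⟨Q, ⟨hQ.isPrime, ⟨hQp.symm⟩⟩⟩
    exact congrArg Subtype.val this
  haveI : IsLocalRing B :=
    IsLocalRing.of_unique_max_ideal ⟨M, inferInstance, fun Q hQ => hmax Q hQ⟩
  have hMmax : maximalIdeal B = M := hmax _ (maximalIdeal.isMaximal B)
  have hMtop : M ≠ ⊤ := Ideal.IsMaximal.ne_top inferInstance
  -- `B` is a DVR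
  have hpne : maximalIdeal A ≠ ⊥ := IsDiscreteValuationRing.not_a_field A
  have hpB : (maximalIdeal A).map (algebraMap A B) ≠ ⊥ := Ideal.map_ne_bot_of_ne_bot hpne
  have hpBM : (maximalIdeal A).map (algebraMap A B) ≤ M :=
    Ideal.map_le_iff_le_comap.mpr (le_of_eq hMp.symm)
  have hMne : M ≠ ⊥ := fun h => hpB (le_bot_iff.mp (h ▸ hpBM))
  have hnf : ¬ IsField B := Ring.not_isField_iff_exists_prime.mpr ⟨M, hMne, (inferInstance : M.IsMaximal).isPrime⟩
  haveI : IsDiscreteValuationRing B :=
    ((IsDiscreteValuationRing.TFAE B hnf).out 0 2).mpr (inferInstance : IsDedekindDomain B)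
  obtain ⟨t, ht⟩ := IsDiscreteValuationRing.exists_irreducible B
  have hMt : M = Ideal.span {t} := by rw [← hMmax]; exact ht.maximalIdeal_eq
  obtain ⟨ϖ, hϖ⟩ := IsDiscreteValuationRing.exists_irreducible A
  have hpϖ : maximalIdeal A = Ideal.span {ϖ} := hϖ.maximalIdeal_eq
  have hx0 : algebraMap A B ϖ ≠ 0 := by
    rw [Ne, map_eq_zero_iff _ hinj]; exact hϖ.ne_zero
  obtain ⟨n, s, hs⟩ := IsDiscreteValuationRing.associated_pow_irreducible hx0 ht
  have hpBn : (maximalIdeal A).map (algebraMap A B) = M ^ n := by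
    rw [hpϖ, Ideal.map_span, Set.image_singleton, hMt, Ideal.span_singleton_pow, ← hs]
    exact (Ideal.span_singleton_mul_right_unit s.isUnit _).symm
  have hMnu : ¬ IsUnit M := by rw [Ideal.isUnit_iff]; exact hMtop
  have hM0 : M ≠ 0 := by rw [Ideal.zero_eq_bot]; exact hMne
  have hnm : n = m := by
    have h1 := Ideal.IsDedekindDomain.ramificationIdx_eq_multiplicity (maximalIdeal A) M hpB
    rw [hram, hpBn] at h1
    rw [h1]
    exact (multiplicity_pow_self hM0 hMnu n).symm
  subst hnm
  -- the residue of `s` comes from `A`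
  have hfin : Module.finrank (A ⧸ maximalIdeal A) (B ⧸ M) = 1 := by
    rw [← Ideal.inertiaDeg_eq_of_isMaximal (maximalIdeal A) M]; exact hf1
  letI : Field (A ⧸ maximalIdeal A) := Ideal.Quotient.field (maximalIdeal A)
  have hone : (1 : B ⧸ M) ≠ 0 := by
    haveI : Nontrivial (B ⧸ M) := Ideal.Quotient.nontrivial_iff.mpr hMtop
    exact one_ne_zero
  have hsurj := (finrank_eq_one_iff_of_nonzero' (1 : B ⧸ M) hone).mp hfin
  obtain ⟨cbar, hcbar⟩ := hsurj (Ideal.Quotient.mk M (s : B))
  obtain ⟨c, rfl⟩ := Ideal.Quotient.mk_surjective cbar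
  have hc : algebraMap A B c - (s : B) ∈ M := by
    rw [← Ideal.Quotient.eq, ← hcbar, Algebra.smul_def, mul_one,
      Ideal.Quotient.algebraMap_mk_of_liesOver]
  have hcu : IsUnit c := by
    by_contra hcn
    have hcp : c ∈ maximalIdeal A := (IsLocalRing.mem_maximalIdeal c).mpr hcn
    have h1 : algebraMap A B c ∈ M := hpBM (Ideal.mem_map_of_mem _ hcp)
    have h2 : (s : B) ∈ M := by
      have := sub_mem h1 hc
      simpa using this
    exact hMtop (Ideal.eq_top_of_isUnit_mem M h2 s.isUnit)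
  obtain ⟨cu, rfl⟩ := hcu
  obtain ⟨v, hv⟩ : ∃ v : B, v = (s : B) * algebraMap A B ((cu⁻¹ : Aˣ) : A) := ⟨_, rfl⟩
  have hv1 : v - 1 ∈ M := by
    have h1 : v - 1 = -((algebraMap A B (cu : A) - (s : B)) * algebraMap A B ((cu⁻¹ : Aˣ) : A)) := by
      rw [hv, sub_mul, ← map_mul, Units.mul_inv, map_one]; ring
    rw [h1]
    exact neg_mem (Ideal.mul_mem_right _ _ hc)
  have hvu : IsUnit v := by
    rw [hv]; exact s.isUnit.mul ((cu⁻¹).isUnit.map (algebraMap A B))
  -- Hensel
  haveI : IsPrecomplete M B := precomplete_of_pow_eq M n hmpos hpBn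
  haveI : IsHausdorff M B := IsHausdorff.of_isDomain M hMtop
  haveI : IsAdicComplete M B := (isAdicComplete_iff M B).mpr ⟨inferInstance, inferInstance⟩
  have hmB : IsUnit ((n : ℕ) : B) := by
    have := hm.map (algebraMap A B)
    simpa using this
  have hev : eval 1 (X ^ n - C v : B[X]) ∈ M := by
    rw [eval_sub, eval_pow, eval_X, eval_C, one_pow]
    have h1 : (1 : B) - v = -(v - 1) := by ring
    rw [h1]; exact neg_mem hv1
  have hder : eval 1 (derivative (X ^ n - C v : B[X])) = (n : B) := by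
    simp [derivative_X_pow]
  obtain ⟨w, hw, -⟩ := HenselianRing.is_henselian (R := B) (I := M) (X ^ n - C v)
    (monic_X_pow_sub_C v hmpos.ne') 1 hev (by rw [hder]; exact hmB.map _)
  have hwm : w ^ n = v := by
    have h0 : eval w (X ^ n - C v : B[X]) = 0 := hw
    rw [eval_sub, eval_pow, eval_X, eval_C] at h0
    exact sub_eq_zero.mp h0
  have hwunit : IsUnit w := (isUnit_pow_iff hmpos.ne').mp (hwm ▸ hvu)
  obtain ⟨wu, hwu⟩ := hwunit
  obtain ⟨z, hz⟩ : ∃ z : B, z = ((wu⁻¹ : Bˣ) : B) := ⟨_, rfl⟩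
  have hzw : z * w = 1 := by rw [hz, ← hwu]; exact Units.inv_mul wu
  have hzwm : z ^ n * w ^ n = 1 := by rw [← mul_pow, hzw, one_pow]
  have hcv : algebraMap A B (cu : A) * v = s := by
    rw [hv]
    calc algebraMap A B ↑cu * (↑s * algebraMap A B ↑cu⁻¹)
        = ↑s * (algebraMap A B ↑cu * algebraMap A B ↑cu⁻¹) := by ring
      _ = ↑s := by rw [← map_mul, Units.mul_inv, map_one, mul_one]
  have htM : t ∈ M := by rw [hMt]; exact Ideal.mem_span_singleton_self t
  have hum : (t * z) ^ n = algebraMap A B (ϖ * cu) := by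
    calc (t * z) ^ n = t ^ n * z ^ n := mul_pow _ _ _
      _ = algebraMap A B ϖ * ↑s * z ^ n := by rw [hs]
      _ = algebraMap A B ϖ * (algebraMap A B ↑cu * v) * z ^ n := by rw [hcv]
      _ = algebraMap A B ϖ * algebraMap A B ↑cu * (z ^ n * w ^ n) := by rw [hwm]; ring
      _ = algebraMap A B (ϖ * ↑cu) := by rw [hzwm, mul_one, map_mul]
  have hu2 : t * z ∉ M ^ 2 := by
    intro hu2
    have h1 : t ∈ M ^ 2 := by
      have h0 := Ideal.mul_mem_right w _ hu2
      rwa [mul_assoc, hzw, mul_one] at h0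
    rw [hMt, Ideal.span_singleton_pow, Ideal.mem_span_singleton] at h1
    obtain ⟨r, hr⟩ := h1
    have h2 : t * (t * r) = t * 1 := by
      rw [mul_one]
      calc t * (t * r) = t ^ 2 * r := by ring
        _ = t := hr.symm
    have h3 := mul_left_cancel₀ ht.ne_zero h2
    exact ht.not_isUnit (isUnit_iff_exists_inv.mpr ⟨r, h3⟩)
  -- the minimal polynomial
  have haeval : aeval (t * z) (X ^ n - C (ϖ * (cu : A)) : A[X]) = 0 := by
    rw [map_sub, map_pow, aeval_X, aeval_C, hum, sub_self]
  have heis : (X ^ n - C (ϖ * (cu : A)) : A[X]).IsEisensteinAt (maximalIdeal A) := by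
    refine ⟨?_, ?_, ?_⟩
    · rw [(monic_X_pow_sub_C _ hmpos.ne').leadingCoeff]
      exact fun h => (Ideal.IsPrime.ne_top inferInstance : maximalIdeal A ≠ ⊤)
        ((Ideal.eq_top_iff_one _).mpr h)
    · intro k hk
      rw [natDegree_X_pow_sub_C] at hk
      rw [coeff_sub, coeff_X_pow, coeff_C, if_neg hk.ne]
      split_ifs with h0
      · rw [zero_sub, hpϖ]
        exact neg_mem (Ideal.mul_mem_right _ _ (Ideal.mem_span_singleton_self ϖ))
      · rw [sub_zero]; exact zero_mem _
    · rw [coeff_sub, coeff_X_pow, coeff_C_zero, if_neg hmpos.ne, zero_sub, neg_mem_iff, hpϖ,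
        Ideal.span_singleton_pow, Ideal.mem_span_singleton]
      rintro ⟨r, hr⟩
      have h2 : ϖ * (cu : A) = ϖ * (ϖ * r) := by rw [hr]; ring
      have h3 : (cu : A) = ϖ * r := mul_left_cancel₀ hϖ.ne_zero h2
      exact hϖ.not_isUnit (isUnit_of_dvd_unit ⟨r, h3⟩ cu.isUnit)
  have hirr : Irreducible (X ^ n - C (ϖ * (cu : A)) : A[X]) :=
    heis.irreducible inferInstance (monic_X_pow_sub_C _ hmpos.ne').isPrimitive
      (by rw [natDegree_X_pow_sub_C]; exact hmpos)
  have hint : IsIntegral A (t * z) := Algebra.IsIntegral.isIntegral _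
  obtain ⟨q, hq⟩ := minpoly.isIntegrallyClosed_dvd hint haeval
  have hqu : IsUnit q := (hirr.isUnit_or_isUnit hq).resolve_left (minpoly.not_isUnit A (t * z))
  have hdeg : (minpoly A (t * z)).natDegree = n := by
    have h1 : (X ^ n - C (ϖ * (cu : A)) : A[X]).natDegree = n := natDegree_X_pow_sub_C
    rw [hq, natDegree_mul (minpoly.ne_zero hint) hqu.ne_zero, natDegree_eq_zero_of_isUnit hqu,
      add_zero] at h1
    exact h1
  exact ⟨t * z, Ideal.mul_mem_right _ _ htM, hu2, ⟨ϖ * cu, hum.symm⟩, hdeg⟩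

end Groth.Agent.Helper22.TameRoot
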