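import Mathlib
import Groth.Agent.Lib.Helper22.TameRoot
import Groth.Agent.Lib.Helper1.HenselFinite

/-!
# Algebraic lifts of residues in a finite extension of a complete DVR with perfect coefficient
field (helper22)

* `isLocal_adicComplete`: a Dedekind domain `B` finite torsion-free over a complete DVR `A` is local
  and `M`-adically complete for its maximal ideal `M`.
* `main`: if `K ⊆ A` is a perfect coefficient field, each `b ∈ B` is congruent mod `M` to a unique
  element of `B` algebraic over `K`.
-/

set_option autoImplicit false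
set_option linter.style.haveILetI false

namespace Groth.Agent.Helper22.ResLift

open IsLocalRing Polynomial

universe u

theorem isLocal_adicComplete (A B : Type u) [CommRing A] [IsDomain A] [IsDiscreteValuationRing A]
    [IsAdicComplete (IsLocalRing.maximalIdeal A) A]
    [CommRing B] [IsDedekindDomain B] [Algebra A B] [Module.Finite A B] [Module.IsTorsionFree A B]
    (M : Ideal B) [M.IsMaximal] :
    (∀ Q : Ideal B, Q.IsMaximal → Q = M) ∧
      (maximalIdeal A).map (algebraMap A B) ≤ M ∧ IsAdicComplete M B := by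
  classical
  haveI : HenselianLocalRing A :=
    { is_henselian := fun f hf a₀ h₁ h₂ =>
        HenselianRing.is_henselian (I := IsLocalRing.maximalIdeal A) f hf a₀ h₁
          (h₂.map (Ideal.Quotient.mk _)) }
  haveI : Algebra.IsIntegral A B := inferInstance
  have hinj : Function.Injective (algebraMap A B) := FaithfulSMul.algebraMap_injective A B
  have hmax : ∀ Q : Ideal B, Q.IsMaximal → Q = M := by
    intro Q hQ
    haveI := hQ
    by_contra hne
    obtain ⟨e, he, he1, he2⟩ :=
      Groth.Agent.Helper1.exists_isIdempotentElem_mem_notMem (R := A) Q M hne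
    rcases (IsIdempotentElem.iff_eq_zero_or_one.mp he) with h0 | h1
    · exact he2 (h0 ▸ M.zero_mem)
    · exact hQ.ne_top ((Ideal.eq_top_iff_one _).mpr (h1 ▸ he1))
  haveI hMu : (M.under A).IsMaximal := Ideal.IsMaximal.under A M
  have hMp : M.under A = maximalIdeal A := IsLocalRing.eq_maximalIdeal hMu
  haveI : IsLocalRing B :=
    IsLocalRing.of_unique_max_ideal ⟨M, inferInstance, fun Q hQ => hmax Q hQ⟩
  have hMmax : maximalIdeal B = M := hmax _ (maximalIdeal.isMaximal B)
  have hMtop : M ≠ ⊤ := Ideal.IsMaximal.ne_top inferInstance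
  have hpne : maximalIdeal A ≠ ⊥ := IsDiscreteValuationRing.not_a_field A
  have hpB : (maximalIdeal A).map (algebraMap A B) ≠ ⊥ := Ideal.map_ne_bot_of_ne_bot hpne
  have hpBM : (maximalIdeal A).map (algebraMap A B) ≤ M :=
    Ideal.map_le_iff_le_comap.mpr (le_of_eq hMp.symm)
  have hMne : M ≠ ⊥ := fun h => hpB (le_bot_iff.mp (h ▸ hpBM))
  have hnf : ¬ IsField B :=
    Ring.not_isField_iff_exists_prime.mpr ⟨M, hMne, (inferInstance : M.IsMaximal).isPrime⟩
  haveI : IsDiscreteValuationRing B :=
    ((IsDiscreteValuationRing.TFAE B hnf).out 0 2).mpr (inferInstance : IsDedekindDomain B)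
  obtain ⟨t, ht⟩ := IsDiscreteValuationRing.exists_irreducible B
  have hMt : M = Ideal.span {t} := by rw [← hMmax]; exact ht.maximalIdeal_eq
  obtain ⟨ϖ, hϖ⟩ := IsDiscreteValuationRing.exists_irreducible A
  have hpϖ : maximalIdeal A = Ideal.span {ϖ} := hϖ.maximalIdeal_eq
  have hx0 : algebraMap A B ϖ ≠ 0 := by
    rw [Ne, map_eq_zero_iff _ hinj]; exact hϖ.ne_zero
  obtain ⟨n, s, hs⟩ := IsDiscreteValuationRing.associated_pow_irreducible hx0 ht
  have hpBn : (maximalIdeal A).map (algebraMap A B) = M ^ n := by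
    rw [hpϖ, Ideal.map_span, Set.image_singleton, hMt, Ideal.span_singleton_pow, ← hs]
    exact (Ideal.span_singleton_mul_right_unit s.isUnit _).symm
  have hn : 0 < n := by
    rcases Nat.eq_zero_or_pos n with h0 | h0
    · exfalso
      rw [h0, pow_zero, Ideal.one_eq_top] at hpBn
      rw [hpBn] at hpBM
      exact hMtop (top_le_iff.mp hpBM)
    · exact h0
  haveI : IsPrecomplete M B := TameRoot.precomplete_of_pow_eq M n hn hpBn
  haveI : IsHausdorff M B := IsHausdorff.of_isDomain M hMtop
  exact ⟨hmax, hpBM, (isAdicComplete_iff M B).mpr ⟨inferInstance, inferInstance⟩⟩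

theorem main (K A B : Type u) [Field K] [PerfectField K]
    [CommRing A] [IsDomain A] [IsDiscreteValuationRing A]
    [IsAdicComplete (IsLocalRing.maximalIdeal A) A]
    [Algebra K A] (hK : Function.Bijective ((IsLocalRing.residue A).comp (algebraMap K A)))
    [CommRing B] [IsDedekindDomain B] [Algebra A B] [Module.Finite A B] [Module.IsTorsionFree A B]
    [Algebra K B] [IsScalarTower K A B]
    (M : Ideal B) [M.IsMaximal] (b : B) :
    ∃! c : B, IsAlgebraic K c ∧ b - c ∈ M := by
  classical
  obtain ⟨hmax, hpBM, hcomp⟩ := isLocal_adicComplete A B M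
  haveI := hcomp
  have hMtop : M ≠ ⊤ := Ideal.IsMaximal.ne_top inferInstance
  letI : Field (B ⧸ M) := Ideal.Quotient.field M
  let e : K ≃+* ResidueField A := RingEquiv.ofBijective _ hK
  let σ : A →+* K := (e.symm : ResidueField A →+* K).comp (residue A)
  have hσ : ∀ a : A, a - algebraMap K A (σ a) ∈ maximalIdeal A := by
    intro a
    have h1 : residue A (algebraMap K A (σ a)) = residue A a := by
      show e (e.symm (residue A a)) = residue A a
      exact e.apply_symm_apply _
    rw [← Ideal.Quotient.eq]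
    exact h1.symm
  have hfac : ∀ a : A, Ideal.Quotient.mk M (algebraMap A B a) =
      Ideal.Quotient.mk M (algebraMap K B (σ a)) := by
    intro a
    rw [Ideal.Quotient.eq, IsScalarTower.algebraMap_apply K A B, ← map_sub]
    exact hpBM (Ideal.mem_map_of_mem _ (hσ a))
  have hintK : ∀ x : B, IsIntegral K (Ideal.Quotient.mk M x) := by
    intro x
    obtain ⟨P, hPm, hP⟩ := Algebra.IsIntegral.isIntegral (R := A) x
    refine ⟨P.map σ, hPm.map σ, ?_⟩
    rw [eval₂_map]
    have h1 : (algebraMap K (B ⧸ M)).comp σ = (Ideal.Quotient.mk M).comp (algebraMap A B) := by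
      ext a
      show algebraMap K (B ⧸ M) (σ a) = Ideal.Quotient.mk M (algebraMap A B a)
      rw [hfac a, Ideal.Quotient.mk_algebraMap]
    rw [h1, ← hom_eval₂, hP, map_zero]
  obtain ⟨g, hg⟩ : ∃ g : K[X], g = minpoly K (Ideal.Quotient.mk M b) := ⟨_, rfl⟩
  have hgirr : Irreducible g := hg ▸ minpoly.irreducible (hintK b)
  have hgmonic : g.Monic := hg ▸ minpoly.monic (hintK b)
  have hgsep : g.Separable := PerfectField.separable_of_irreducible hgirr
  have hg0 : aeval (Ideal.Quotient.mk M b) g = 0 := hg ▸ minpoly.aeval K _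
  have hg' : aeval (Ideal.Quotient.mk M b) (derivative g) ≠ 0 :=
    hgsep.aeval_derivative_ne_zero hg0
  have hmk : ∀ f : K[X], Ideal.Quotient.mk M (aeval b f) = aeval (Ideal.Quotient.mk M b) f := by
    intro f
    exact (aeval_algHom_apply (Ideal.Quotient.mkₐ K M) b f).symm
  have hev : eval b (g.map (algebraMap K B)) ∈ M := by
    rw [eval_map_algebraMap, ← Ideal.Quotient.eq_zero_iff_mem, hmk, hg0]
  have hder : IsUnit (Ideal.Quotient.mk M (eval b (derivative (g.map (algebraMap K B))))) := by
    rw [derivative_map, eval_map_algebraMap, hmk]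
    exact isUnit_iff_ne_zero.mpr hg'
  obtain ⟨c, hc, hcb⟩ := HenselianRing.is_henselian (R := B) (I := M) (g.map (algebraMap K B))
    (hgmonic.map _) b hev hder
  have hcalg : IsAlgebraic K c :=
    ⟨g, hgmonic.ne_zero, by rw [← eval_map_algebraMap]; exact hc⟩
  have hzero : ∀ x : B, IsAlgebraic K x → x ∈ M → x = 0 := by
    intro x hx hxM
    by_contra hx0
    have hxi : IsIntegral K x := hx.isIntegral
    have h0 : (minpoly K x).coeff 0 ≠ 0 := minpoly.coeff_zero_ne_zero hxi hx0
    have h1 : aeval x (minpoly K x) = 0 := minpoly.aeval K x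
    rw [← divX_mul_X_add (minpoly K x), map_add, map_mul, aeval_X, aeval_C] at h1
    have h2 : algebraMap K B ((minpoly K x).coeff 0) ∈ M := by
      have h3 : algebraMap K B ((minpoly K x).coeff 0) = -(aeval x (minpoly K x).divX * x) :=
        eq_neg_of_add_eq_zero_right h1
      rw [h3]; exact neg_mem (Ideal.mul_mem_left _ _ hxM)
    exact hMtop (Ideal.eq_top_of_isUnit_mem M h2 ((isUnit_iff_ne_zero.mpr h0).map _))
  have hbc : b - c ∈ M := by
    have h1 : b - c = -(c - b) := by ring
    rw [h1]; exact neg_mem hcb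
  refine ⟨c, ⟨hcalg, hbc⟩, ?_⟩
  rintro c' ⟨hc'alg, hc'M⟩
  have h1 : c' - c = 0 := by
    apply hzero _ (hc'alg.sub hcalg)
    have h2 : c' - c = (b - c) - (b - c') := by ring
    rw [h2]; exact sub_mem hbc hc'M
  exact sub_eq_zero.mp h1

end Groth.Agent.Helper22.ResLift
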