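import Mathlib
import Groth.Agent.Lib.Helper22.HopfQuot1

/-!
# Coinvariants of a Hopf algebra under the quotient by a Hopf subalgebra (helper22)

For commutative Hopf algebras `C → A` (bialgebra map `ψ`) with `A` faithfully flat over `C` and
`J = ψ(C⁺) A`: an element `b` of `A` with `(id ⊗ π) Δ b = b ⊗ 1` in `A ⊗ A/J` lies in the image of
`ψ`.
-/

set_option autoImplicit false
universe u v

open TensorProduct

namespace Groth.Agent.Helper22.RetrEt

/-- Faithfully flat descent for elements: `1 ⊗ b = b ⊗ 1` in `A ⊗_C A` forces `b ∈ C`. -/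
theorem mem_range_of_tmul_eq (C A : Type*) [CommRing C] [CommRing A] [Algebra C A]
    [Module.FaithfullyFlat C A] (b : A) (h : (1 : A) ⊗ₜ[C] b = b ⊗ₜ[C] (1 : A)) :
    b ∈ Set.range (algebraMap C A) := by
  let P : Submodule C A := LinearMap.range (Algebra.linearMap C A)
  have hinj := Module.FaithfullyFlat.tensorProduct_mk_injective (A := C) (B := A) (A ⧸ P)
  have h1 := congrArg (LinearMap.lTensor A P.mkQ) h
  rw [LinearMap.lTensor_tmul, LinearMap.lTensor_tmul] at h1
  have h2 : P.mkQ (1 : A) = 0 := by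
    rw [Submodule.mkQ_apply, Submodule.Quotient.mk_eq_zero]
    exact ⟨1, by simp⟩
  rw [h2, TensorProduct.tmul_zero] at h1
  have h3 : P.mkQ b = 0 := by
    apply hinj
    rw [map_zero]
    exact h1
  rw [Submodule.mkQ_apply, Submodule.Quotient.mk_eq_zero] at h3
  obtain ⟨c, hc⟩ := h3
  exact ⟨c, hc⟩

section Lam

variable (k : Type u) [CommRing k] (A : Type v) (C : Type v) [CommRing A] [HopfAlgebra k A]
  [CommRing C] [HopfAlgebra k C] [Algebra C A] [IsScalarTower k C A]

/-- The projection `A ⊗[k] A → A ⊗[C] A`. -/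
noncomputable def proj : A ⊗[k] A →ₐ[k] A ⊗[C] A :=
  Algebra.TensorProduct.mapOfCompatibleSMul C k k A A

theorem proj_tmul (a b : A) : proj k A C (a ⊗ₜ[k] b) = a ⊗ₜ[C] b :=
  Algebra.TensorProduct.mapOfCompatibleSMul_tmul C k k A A a b

/-- `a ⊗ b ↦ Σ a S(b₁) ⊗_C b₂`. -/
noncomputable def Lam : A ⊗[k] A →ₐ[k] A ⊗[C] A :=
  (proj k A C).comp (HopfQuot.shearInvHom k A)

theorem Lam_comul (b : A) :
    Lam k A C (CoalgebraStruct.comul (R := k) b) = (1 : A) ⊗ₜ[C] b := by
  rw [Lam, AlgHom.comp_apply, HopfQuot.shearInvHom_comul, proj_tmul]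

theorem Lam_tmul_one (b : A) : Lam k A C (b ⊗ₜ[k] (1 : A)) = b ⊗ₜ[C] (1 : A) := by
  rw [Lam, AlgHom.comp_apply, HopfQuot.shearInvHom_tmul, map_one, mul_one, proj_tmul]

variable (ψ : C →ₐc[k] A) (hψ : ∀ c, algebraMap C A c = ψ c)

include hψ in
theorem proj_aux (w : C ⊗[k] C) :
    proj k A C (TensorProduct.map (HopfAlgebra.antipode k (A := A)) LinearMap.id
      (TensorProduct.map (ψ : C →ₗ[k] A) (ψ : C →ₗ[k] A) w)) =
      (LinearMap.mul' k A (TensorProduct.map (HopfAlgebra.antipode k (A := A)) LinearMap.id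
        (TensorProduct.map (ψ : C →ₗ[k] A) (ψ : C →ₗ[k] A) w))) ⊗ₜ[C] (1 : A) := by
  induction w using TensorProduct.induction_on with
  | zero => simp
  | tmul c c' =>
    rw [TensorProduct.map_tmul, TensorProduct.map_tmul, LinearMap.id_apply, proj_tmul,
      LinearMap.mul'_apply]
    have h1 : (ψ : C →ₗ[k] A) c' = c' • (1 : A) := by
      rw [Algebra.smul_def, mul_one, hψ]
      rfl
    rw [h1, ← TensorProduct.smul_tmul, mul_smul_comm, mul_one]
  | add w₁ w₂ h₁ h₂ => simp only [map_add, TensorProduct.add_tmul, h₁, h₂]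

include hψ in
theorem Lam_one_tmul_psi (c : C) :
    Lam k A C ((1 : A) ⊗ₜ[k] ψ c) =
      (algebraMap k A (CoalgebraStruct.counit (R := k) c)) ⊗ₜ[C] (1 : A) := by
  have h1 : HopfQuot.comulS k A (ψ c) =
      TensorProduct.map (HopfAlgebra.antipode k (A := A)) LinearMap.id
        (TensorProduct.map (ψ : C →ₗ[k] A) (ψ : C →ₗ[k] A)
          (CoalgebraStruct.comul (R := k) c)) := by
    rw [HopfQuot.comulS_apply, CoalgHomClass.map_comp_comul_apply]
  have h2 := HopfAlgebra.mul_antipode_rTensor_comul_apply (R := k) (ψ c)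
  have h3 : CoalgebraStruct.counit (R := k) (ψ c) = CoalgebraStruct.counit (R := k) c :=
    CoalgHomClass.counit_comp_apply ψ c
  rw [h3] at h2
  rw [Lam, AlgHom.comp_apply, HopfQuot.shearInvHom_tmul, ← Algebra.TensorProduct.one_def, one_mul,
    h1, proj_aux k A C ψ hψ, ← h1, HopfQuot.comulS_apply, ← h2]
  rfl

include hψ in
theorem Lam_eq_zero (J : Ideal A)
    (hJ : J = Ideal.map (ψ : C →+* A) (RingHom.ker (Bialgebra.counitAlgHom k C)))
    (w : A ⊗[k] A)
    (hw : Algebra.TensorProduct.map (AlgHom.id k A) (Ideal.Quotient.mkₐ k J) w = 0) :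
    Lam k A C w = 0 := by
  have hle : J ≤ Ideal.comap (Algebra.TensorProduct.includeRight : A →ₐ[k] A ⊗[k] A)
      (RingHom.ker (Lam k A C)) := by
    rw [hJ, Ideal.map_le_iff_le_comap]
    intro c hc
    have hc' : CoalgebraStruct.counit (R := k) c = 0 := hc
    rw [Ideal.mem_comap, Ideal.mem_comap, RingHom.mem_ker]
    show Lam k A C ((1 : A) ⊗ₜ[k] ψ c) = 0
    rw [Lam_one_tmul_psi k A C ψ hψ, hc', map_zero, TensorProduct.zero_tmul]
  have hker := Algebra.TensorProduct.lTensor_ker (A := A) (Ideal.Quotient.mkₐ k J)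
    (Ideal.Quotient.mkₐ_surjective k J)
  have hkJ : RingHom.ker (Ideal.Quotient.mkₐ k J) = J :=
    Ideal.ext fun x => by
      rw [RingHom.mem_ker]
      exact Ideal.Quotient.eq_zero_iff_mem
  have hw' : w ∈ RingHom.ker
      (Algebra.TensorProduct.map (AlgHom.id k A) (Ideal.Quotient.mkₐ k J)) := hw
  rw [hker, hkJ] at hw'
  exact (Ideal.map_le_iff_le_comap.mpr hle) hw'

include hψ in
/-- Coinvariants lie in the Hopf subalgebra when `A` is faithfully flat over it. -/
theorem mem_range_of_coinv [Module.FaithfullyFlat C A] (J : Ideal A)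
    (hJ : J = Ideal.map (ψ : C →+* A) (RingHom.ker (Bialgebra.counitAlgHom k C))) (b : A)
    (hb : Algebra.TensorProduct.map (AlgHom.id k A) (Ideal.Quotient.mkₐ k J)
      (CoalgebraStruct.comul (R := k) b) = b ⊗ₜ[k] (1 : A ⧸ J)) :
    b ∈ Set.range ψ := by
  have h0 : Lam k A C (CoalgebraStruct.comul (R := k) b - b ⊗ₜ[k] (1 : A)) = 0 := by
    apply Lam_eq_zero k A C ψ hψ J hJ
    rw [map_sub, hb, Algebra.TensorProduct.map_tmul, map_one, AlgHom.id_apply, sub_self]
  rw [map_sub, Lam_comul, Lam_tmul_one, sub_eq_zero] at h0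
  obtain ⟨c, hc⟩ := mem_range_of_tmul_eq C A b h0
  exact ⟨c, by rw [← hψ]; exact hc⟩

end Lam

end Groth.Agent.Helper22.RetrEt
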