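import Mathlib
import Groth.Agent.Lib.Helper22.RetrEt1

/-!
# Infinitesimal kernels: Frobenius powers are coinvariant; Cartier's theorem in the local case
(helper22)
-/

set_option autoImplicit false
universe u v

open TensorProduct

namespace Groth.Agent.Helper22.RetrEt

section Pow

variable (k : Type u) [Field k] (A : Type v) [CommRing A] [HopfAlgebra k A]

/-- If `A/J` is local (and `A` of finite type over the field `k`) then a fixed power of every
element of the augmentation ideal lies in `J`. -/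
theorem exists_pow_mem [Algebra.FiniteType k A] (J : Ideal A)
    (hJε : ∀ j ∈ J, CoalgebraStruct.counit (R := k) j = 0) [IsLocalRing (A ⧸ J)] :
    ∃ N : ℕ, ∀ y : A, CoalgebraStruct.counit (R := k) y = 0 → y ^ N ∈ J := by
  haveI : Algebra.FiniteType k (A ⧸ J) :=
    Algebra.FiniteType.of_surjective (Ideal.Quotient.mkₐ k J) (Ideal.Quotient.mkₐ_surjective k J)
  haveI : IsJacobsonRing (A ⧸ J) := isJacobsonRing_of_finiteType (A := k)
  haveI : IsNoetherianRing (A ⧸ J) := Algebra.FiniteType.isNoetherianRing k (A ⧸ J)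
  have hne : nilradical (A ⧸ J) ≠ ⊤ := by
    intro h
    have h1 : (1 : A ⧸ J) ∈ nilradical (A ⧸ J) := by
      rw [h]
      exact Submodule.mem_top
    obtain ⟨n, hn⟩ := mem_nilradical.mp h1
    rw [one_pow] at hn
    exact one_ne_zero hn
  have h1 : nilradical (A ⧸ J) = IsLocalRing.maximalIdeal (A ⧸ J) := by
    have h2 := IsJacobsonRing.out (inferInstance : IsJacobsonRing (A ⧸ J))
      (I := nilradical (A ⧸ J)) (Ideal.radical_isRadical _)
    rw [← h2]
    exact IsLocalRing.jacobson_eq_maximalIdeal _ hne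
  obtain ⟨N, hN⟩ := IsNoetherianRing.isNilpotent_nilradical (A ⧸ J)
  refine ⟨N, fun y hy => ?_⟩
  have hy1 : Ideal.Quotient.mk J y ∈ IsLocalRing.maximalIdeal (A ⧸ J) := by
    rw [IsLocalRing.mem_maximalIdeal, mem_nonunits_iff]
    intro hu
    obtain ⟨z, hz⟩ := hu.exists_right_inv
    obtain ⟨z', rfl⟩ := Ideal.Quotient.mk_surjective z
    rw [← map_mul, ← map_one (Ideal.Quotient.mk J), Ideal.Quotient.eq] at hz
    have h3 := hJε _ hz
    rw [map_sub, Bialgebra.counit_mul, Bialgebra.counit_one, hy, zero_mul, zero_sub,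
      neg_eq_zero] at h3
    exact one_ne_zero h3
  have hy2 : Ideal.Quotient.mk J y ^ N ∈ (IsLocalRing.maximalIdeal (A ⧸ J)) ^ N :=
    Ideal.pow_mem_pow hy1 N
  rw [← h1, hN, Ideal.zero_eq_bot, Ideal.mem_bot, ← map_pow] at hy2
  exact Ideal.Quotient.eq_zero_iff_mem.mp hy2

/-- If `p^e`-th powers of the augmentation ideal lie in `J` then `p^e`-th powers are coinvariant
modulo `J`. -/
theorem pow_coinv (p : ℕ) [ExpChar k p] (J : Ideal A) (e : ℕ)
    (hJ : ∀ y : A, CoalgebraStruct.counit (R := k) y = 0 → y ^ (p ^ e) ∈ J) (a : A) :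
    Algebra.TensorProduct.map (AlgHom.id k A) (Ideal.Quotient.mkₐ k J)
      (CoalgebraStruct.comul (R := k) (a ^ (p ^ e))) = (a ^ (p ^ e)) ⊗ₜ[k] (1 : A ⧸ J) := by
  haveI : Nontrivial (A ⊗[k] A) :=
    (Bialgebra.counitAlgHom k (A ⊗[k] A)).toRingHom.domain_nontrivial
  haveI : ExpChar (A ⊗[k] A) p :=
    expChar_of_injective_algebraMap (algebraMap k (A ⊗[k] A)).injective p
  have hp0 : p ^ e ≠ 0 := pow_ne_zero _ (expChar_pos k p).ne'
  let E : A ⊗[k] A →ₗ[k] A ⊗[k] A :=
    LinearMap.lTensor A (LinearMap.id - (Algebra.linearMap k A) ∘ₗ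
      (CoalgebraStruct.counit (R := k) (A := A)))
  have hE : ∀ x y : A, E (x ⊗ₜ y) =
      x ⊗ₜ (y - algebraMap k A (CoalgebraStruct.counit (R := k) y)) := fun x y => rfl
  have hEc : E (CoalgebraStruct.comul (R := k) a) =
      CoalgebraStruct.comul (R := k) a - a ⊗ₜ 1 := by
    simp only [E, LinearMap.lTensor_sub, LinearMap.lTensor_id, LinearMap.sub_apply,
      LinearMap.id_apply, LinearMap.lTensor_comp, LinearMap.comp_apply,
      Coalgebra.lTensor_counit_comul, LinearMap.lTensor_tmul, Algebra.linearMap_apply, map_one]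
  have hP : ∀ w : A ⊗[k] A,
      Algebra.TensorProduct.map (AlgHom.id k A) (Ideal.Quotient.mkₐ k J) ((E w) ^ (p ^ e)) =
        0 := by
    intro w
    induction w using TensorProduct.induction_on with
    | zero => rw [map_zero, zero_pow hp0, map_zero]
    | tmul x y =>
      have hy : CoalgebraStruct.counit (R := k)
          (y - algebraMap k A (CoalgebraStruct.counit (R := k) y)) = 0 := by
        rw [map_sub, Bialgebra.counit_algebraMap, sub_self]
      have hz : (Ideal.Quotient.mkₐ k J)
          ((y - algebraMap k A (CoalgebraStruct.counit (R := k) y)) ^ (p ^ e)) = 0 :=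
        Ideal.Quotient.eq_zero_iff_mem.mpr (hJ _ hy)
      rw [hE, Algebra.TensorProduct.tmul_pow, Algebra.TensorProduct.map_tmul, hz,
        TensorProduct.tmul_zero]
    | add w₁ w₂ h₁ h₂ => rw [map_add, add_pow_expChar_pow, map_add, h₁, h₂, add_zero]
  have h1 := hP (CoalgebraStruct.comul (R := k) a)
  rw [hEc, sub_pow_expChar_pow, ← Bialgebra.comul_pow, Algebra.TensorProduct.tmul_pow, one_pow,
    map_sub, sub_eq_zero, Algebra.TensorProduct.map_tmul, map_one] at h1
  exact h1

end Pow

/-- Over a perfect field, iterated Frobenius is surjective on an étale algebra. -/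
theorem exists_pow_eq_of_etale (k : Type u) [Field k] [PerfectField k] (p : ℕ) [ExpChar k p]
    (C : Type v) [CommRing C] [Algebra k C] [Algebra.Etale k C] (e : ℕ) (c : C) :
    ∃ c' : C, c' ^ (p ^ e) = c := by
  obtain ⟨I, _, Ai, _, _, eq, h⟩ := (Algebra.Etale.iff_exists_algEquiv_prod k C).mp inferInstance
  have key : ∀ i (x : Ai i), ∃ y : Ai i, y ^ (p ^ e) = x := by
    intro i x
    haveI := (h i).1
    haveI : Algebra.IsAlgebraic k (Ai i) := Algebra.IsAlgebraic.of_finite k (Ai i)
    haveI : PerfectField (Ai i) := Algebra.IsAlgebraic.perfectField k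
    haveI : ExpChar (Ai i) p := expChar_of_injective_algebraMap (algebraMap k (Ai i)).injective p
    haveI : PerfectRing (Ai i) p := PerfectField.toPerfectRing p
    obtain ⟨y, hy⟩ := (bijective_iterateFrobenius (Ai i) p e).2 x
    exact ⟨y, by rw [← iterateFrobenius_def]; exact hy⟩
  choose y hy using fun i => key i (eq c i)
  refine ⟨eq.symm y, ?_⟩
  apply eq.injective
  rw [map_pow, AlgEquiv.apply_symm_apply]
  funext i
  rw [Pi.pow_apply, hy]

section CharZero

variable (k : Type u) [Field k] (B : Type v) [CommRing B] [HopfAlgebra k B]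

/-- `x ⊗ y ↦ d(y) x`. -/
noncomputable def Fd (d : B →ₗ[k] k) : B ⊗[k] B →ₗ[k] B :=
  (TensorProduct.rid k B).toLinearMap ∘ₗ LinearMap.lTensor B d

theorem Fd_tmul (d : B →ₗ[k] k) (x y : B) : Fd k B d (x ⊗ₜ y) = d y • x := by
  simp [Fd]

theorem Fd_mul (d : B →ₗ[k] k)
    (hd : ∀ a b : B, d (a * b) =
      CoalgebraStruct.counit (R := k) a * d b + d a * CoalgebraStruct.counit (R := k) b)
    (u v : B ⊗[k] B) :
    Fd k B d (u * v) = Fd k B (CoalgebraStruct.counit (R := k)) u * Fd k B d v +
      Fd k B d u * Fd k B (CoalgebraStruct.counit (R := k)) v := by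
  induction u using TensorProduct.induction_on with
  | zero => simp
  | tmul x y =>
    induction v using TensorProduct.induction_on with
    | zero => simp
    | tmul x' y' =>
      rw [Algebra.TensorProduct.tmul_mul_tmul, Fd_tmul, Fd_tmul, Fd_tmul, Fd_tmul, Fd_tmul, hd]
      simp only [Algebra.smul_def, map_add, map_mul]
      ring
    | add v₁ v₂ h₁ h₂ =>
      rw [mul_add, map_add, h₁, h₂, map_add, map_add]
      ring
  | add u₁ u₂ h₁ h₂ =>
    rw [add_mul, map_add, h₁, h₂, map_add, map_add]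
    ring

theorem counit_Fd (d : B →ₗ[k] k) (u : B ⊗[k] B) :
    CoalgebraStruct.counit (R := k) (Fd k B d u) =
      d (TensorProduct.lid k B (LinearMap.rTensor B (CoalgebraStruct.counit (R := k)) u)) := by
  induction u using TensorProduct.induction_on with
  | zero => simp
  | tmul x y =>
    rw [Fd_tmul, map_smul, LinearMap.rTensor_tmul, TensorProduct.lid_tmul, map_smul, smul_eq_mul,
      smul_eq_mul, mul_comm]
  | add u₁ u₂ h₁ h₂ => simp only [map_add, h₁, h₂]

/-- Cartier's theorem, local case: in characteristic zero a local Noetherian commutative Hopf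
algebra whose augmentation ideal is nil is the base field. -/
theorem eq_zero_of_counit_eq_zero [CharZero k] [IsLocalRing B] [IsNoetherianRing B]
    (hnil : ∀ y : B, CoalgebraStruct.counit (R := k) y = 0 → IsNilpotent y) (y₀ : B)
    (hy₀ : CoalgebraStruct.counit (R := k) y₀ = 0) : y₀ = 0 := by
  classical
  by_contra hne
  let 𝔪 : Ideal B := RingHom.ker (Bialgebra.counitAlgHom k B)
  have hmem : ∀ z, z ∈ 𝔪 ↔ CoalgebraStruct.counit (R := k) z = 0 := fun z => by
    rw [RingHom.mem_ker, Bialgebra.counitAlgHom_apply]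
  have hjac : 𝔪 ≤ (⊥ : Ideal B).jacobson := by
    intro z hz
    rw [Ideal.mem_jacobson_bot]
    intro y
    have hzn : IsNilpotent (z * y) :=
      Commute.isNilpotent_mul_right (Commute.all _ _) (hnil z ((hmem z).mp hz))
    exact hzn.isUnit_add_one
  have hnot : ¬ 𝔪 ≤ 𝔪 • 𝔪 := by
    intro hle
    have h0 := Submodule.eq_bot_of_le_smul_of_le_jacobson_bot 𝔪 𝔪 (IsNoetherian.noetherian 𝔪) hle
      hjac
    have h1 : y₀ ∈ 𝔪 := (hmem y₀).mpr hy₀
    rw [h0] at h1
    exact hne ((Submodule.mem_bot B).mp h1)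
  obtain ⟨x, hx𝔪, hx2⟩ := SetLike.not_le_iff_exists.mp hnot
  have hx2' : x ∉ 𝔪 * 𝔪 := hx2
  let W : Submodule k B :=
    Submodule.span k {(1 : B)} ⊔ (𝔪 * 𝔪 : Ideal B).restrictScalars k
  have hWmem : ∀ z : B, z ∈ 𝔪 * 𝔪 → z ∈ W := fun z hz =>
    Submodule.mem_sup_right (show z ∈ (𝔪 * 𝔪 : Ideal B).restrictScalars k from hz)
  have hxW : x ∉ W := by
    intro h
    obtain ⟨u, hu, z, hz, hsum⟩ := Submodule.mem_sup.mp h
    obtain ⟨l, rfl⟩ := Submodule.mem_span_singleton.mp hu
    have hz' : z ∈ 𝔪 * 𝔪 := hz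
    have hz𝔪 : z ∈ 𝔪 := Ideal.mul_le_right hz'
    have h1 : CoalgebraStruct.counit (R := k) (l • (1 : B) + z) = 0 := by
      rw [hsum]
      exact (hmem x).mp hx𝔪
    rw [map_add, map_smul, Bialgebra.counit_one, (hmem z).mp hz𝔪, add_zero, smul_eq_mul,
      mul_one] at h1
    rw [h1, zero_smul, zero_add] at hsum
    rw [← hsum] at hx2'
    exact hx2' hz'
  obtain ⟨d, hdx, hdW⟩ := Submodule.exists_dual_map_eq_bot_of_notMem hxW inferInstance
  have hd0 : ∀ w ∈ W, d w = 0 := fun w hw => by
    have h1 : d w ∈ W.map d := Submodule.mem_map_of_mem hw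
    rw [hdW] at h1
    exact (Submodule.mem_bot k).mp h1
  have hd1 : d 1 = 0 := hd0 1 (Submodule.mem_sup_left (Submodule.mem_span_singleton_self 1))
  have hd : ∀ a b : B, d (a * b) =
      CoalgebraStruct.counit (R := k) a * d b + d a * CoalgebraStruct.counit (R := k) b := by
    intro a b
    have ha' : a - algebraMap k B (CoalgebraStruct.counit (R := k) a) ∈ 𝔪 := by
      rw [hmem, map_sub, Bialgebra.counit_algebraMap, sub_self]
    have hb' : b - algebraMap k B (CoalgebraStruct.counit (R := k) b) ∈ 𝔪 := by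
      rw [hmem, map_sub, Bialgebra.counit_algebraMap, sub_self]
    have hprod : (a - algebraMap k B (CoalgebraStruct.counit (R := k) a)) *
        (b - algebraMap k B (CoalgebraStruct.counit (R := k) b)) ∈ W :=
      hWmem _ (Ideal.mul_mem_mul ha' hb')
    have hdecomp : a * b = (a - algebraMap k B (CoalgebraStruct.counit (R := k) a)) *
        (b - algebraMap k B (CoalgebraStruct.counit (R := k) b)) +
        CoalgebraStruct.counit (R := k) a • b + CoalgebraStruct.counit (R := k) b • a -
        (CoalgebraStruct.counit (R := k) a * CoalgebraStruct.counit (R := k) b) • (1 : B) := by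
      simp only [Algebra.smul_def, map_mul]
      ring
    have h1 := congrArg d hdecomp
    rw [map_sub, map_add, map_add, map_smul, map_smul, map_smul, hd0 _ hprod, hd1] at h1
    rw [h1]
    simp only [smul_eq_mul]
    ring
  have hG : ∀ a : B, Fd k B (CoalgebraStruct.counit (R := k))
      (CoalgebraStruct.comul (R := k) a) = a := by
    intro a
    rw [Fd, LinearMap.comp_apply, Coalgebra.lTensor_counit_comul]
    simp
  let D : B → B := fun b => Fd k B d (CoalgebraStruct.comul (R := k) b)
  have hLeib : ∀ a b, D (a * b) = a * D b + D a * b := by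
    intro a b
    show Fd k B d (CoalgebraStruct.comul (R := k) (a * b)) = _
    rw [Bialgebra.comul_mul, Fd_mul k B d hd, hG, hG]
  have hcD : CoalgebraStruct.counit (R := k) (D x) = d x := by
    show CoalgebraStruct.counit (R := k) (Fd k B d (CoalgebraStruct.comul (R := k) x)) = d x
    rw [counit_Fd, Coalgebra.rTensor_counit_comul, TensorProduct.lid_tmul, one_smul]
  have hunit : IsUnit (D x) := by
    have hn : IsNilpotent (D x - algebraMap k B (d x)) :=
      hnil _ (by rw [map_sub, hcD, Bialgebra.counit_algebraMap, sub_self])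
    have hu : IsUnit (algebraMap k B (d x)) := (IsUnit.mk0 _ hdx).map (algebraMap k B)
    have h1 := hn.isUnit_add_left_of_commute hu (Commute.all _ _)
    rwa [add_sub_cancel] at h1
  have hpow : ∀ n : ℕ, D (x ^ (n + 1)) = ((n + 1 : ℕ) : B) * x ^ n * D x := by
    intro n
    induction n with
    | zero => simp
    | succ n ih =>
      rw [pow_succ, hLeib, ih]
      push_cast
      ring
  have hxnil : IsNilpotent x := hnil x ((hmem x).mp hx𝔪)
  have hn : x ^ (Nat.find hxnil) = 0 := Nat.find_spec hxnil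
  have hn0 : Nat.find hxnil ≠ 0 := by
    intro h
    rw [h, pow_zero] at hn
    exact one_ne_zero hn
  obtain ⟨m, hm⟩ := Nat.exists_eq_succ_of_ne_zero hn0
  have hD0 : D (x ^ (m + 1)) = 0 := by
    rw [← Nat.succ_eq_add_one, ← hm, hn]
    show Fd k B d (CoalgebraStruct.comul (R := k) 0) = 0
    rw [map_zero, map_zero]
  rw [hpow m] at hD0
  have hcast : IsUnit (((m + 1 : ℕ) : B)) := by
    have h1 : ((m + 1 : ℕ) : B) = algebraMap k B ((m + 1 : ℕ) : k) :=
      (map_natCast (algebraMap k B) (m + 1)).symm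
    rw [h1]
    exact (IsUnit.mk0 _ (Nat.cast_ne_zero.mpr (Nat.succ_ne_zero m))).map (algebraMap k B)
  have hxm : x ^ m = 0 := by
    have h1 : (((m + 1 : ℕ) : B) * D x) * x ^ m = 0 := by
      rw [← hD0]
      ring
    exact (IsUnit.mul_right_eq_zero (hcast.mul hunit)).mp h1
  exact Nat.find_min hxnil (by omega : m < Nat.find hxnil) hxm

end CharZero

end Groth.Agent.Helper22.RetrEt
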