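import Mathlib
import Groth.Agent.Lib.Helper22.RetrEt2
import Groth.Agent.S0607

/-!
# Étale quotient with infinitesimal kernel over a perfect field: the reduced subgroup is the
unique section (helper22)
-/

set_option autoImplicit false
universe u

open TensorProduct

namespace Groth.Agent.Helper22.RetrEt

theorem exists_nilpotent_sub (k : Type u) [Field k] [PerfectField k] (A C : Type u) [CommRing A]
    [HopfAlgebra k A] [Algebra.FiniteType k A] [CommRing C] [HopfAlgebra k C] [Algebra.Etale k C]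
    (ψ : C →ₐc[k] A) (hψ : Function.Injective ψ) (J : Ideal A) [J.IsHopfIdeal k]
    (hJ : J = Ideal.map (ψ : C →+* A) (RingHom.ker (Bialgebra.counitAlgHom k C)))
    [IsLocalRing (A ⧸ J)] (a : A) : ∃ c : C, IsNilpotent (a - ψ c) := by
  have hff : (ψ : C →+* A).FaithfullyFlat := Groth.Agent.S0607.result ψ hψ
  letI : Algebra C A := (ψ : C →+* A).toAlgebra
  haveI : IsScalarTower k C A :=
    IsScalarTower.of_algebraMap_eq (fun r => ((ψ : C →ₐ[k] A).commutes r).symm)
  haveI : Module.FaithfullyFlat C A := hff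
  haveI : Nontrivial A := (Bialgebra.counitAlgHom k A).toRingHom.domain_nontrivial
  have hψa : ∀ c, algebraMap C A c = ψ c := fun c => rfl
  have hJε : ∀ j ∈ J, CoalgebraStruct.counit (R := k) j = 0 := by
    intro j hj
    have hle : J ≤ RingHom.ker (Bialgebra.counitAlgHom k A) := by
      rw [hJ, Ideal.map_le_iff_le_comap]
      intro c hc
      have hc' : CoalgebraStruct.counit (R := k) c = 0 := hc
      rw [Ideal.mem_comap, RingHom.mem_ker, Bialgebra.counitAlgHom_apply]
      have h1 : CoalgebraStruct.counit (R := k) (ψ c) = CoalgebraStruct.counit (R := k) c :=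
        CoalgHomClass.counit_comp_apply ψ c
      show CoalgebraStruct.counit (R := k) (ψ c) = 0
      rw [h1, hc']
    exact hle hj
  obtain ⟨N, hN⟩ := exists_pow_mem k A J hJε
  have main : ∀ (p' : ℕ) [ExpChar k p'] (e : ℕ),
      (∀ y : A, CoalgebraStruct.counit (R := k) y = 0 → y ^ (p' ^ e) ∈ J) →
      ∃ c : C, IsNilpotent (a - ψ c) := by
    intro p' _ e hpow
    have h1 := pow_coinv k A p' J e hpow a
    obtain ⟨c, hc⟩ := mem_range_of_coinv k A C ψ hψa J hJ (a ^ (p' ^ e)) h1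
    obtain ⟨c', hc'⟩ := exists_pow_eq_of_etale k p' C e c
    refine ⟨c', ⟨p' ^ e, ?_⟩⟩
    haveI : ExpChar A p' := expChar_of_injective_algebraMap (algebraMap k A).injective p'
    rw [sub_pow_expChar_pow, ← map_pow, hc', hc, sub_self]
  obtain ⟨p, hp⟩ := CharP.exists k
  rcases CharP.char_is_prime_or_zero k p with hprime | rfl
  · haveI : ExpChar k p := ExpChar.prime hprime
    exact main p N (fun y hy =>
      Ideal.pow_mem_of_pow_mem J (hN y hy) (Nat.lt_pow_self hprime.one_lt).le)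
  · haveI : CharZero k := CharP.charP_to_charZero k
    haveI : ExpChar k 1 := ExpChar.zero
    refine main 1 0 (fun y hy => ?_)
    rw [pow_zero, pow_one]
    haveI : Algebra.FiniteType k (A ⧸ J) :=
      Algebra.FiniteType.of_surjective (Ideal.Quotient.mkₐ k J)
        (Ideal.Quotient.mkₐ_surjective k J)
    haveI : IsNoetherianRing (A ⧸ J) := Algebra.FiniteType.isNoetherianRing k (A ⧸ J)
    have hnil : ∀ z : A ⧸ J, CoalgebraStruct.counit (R := k) z = 0 → IsNilpotent z := by
      intro z hz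
      obtain ⟨z', rfl⟩ := Ideal.Quotient.mk_surjective z
      have hz' : CoalgebraStruct.counit (R := k) z' = 0 := hz
      exact ⟨N, by rw [← map_pow]; exact Ideal.Quotient.eq_zero_iff_mem.mpr (hN z' hz')⟩
    have hy' : CoalgebraStruct.counit (R := k) (Ideal.Quotient.mk J y) = 0 := hy
    have hB := eq_zero_of_counit_eq_zero k (A ⧸ J) hnil (Ideal.Quotient.mk J y) hy'
    exact Ideal.Quotient.eq_zero_iff_mem.mp hB

theorem main (k : Type u) [Field k] [PerfectField k] (A C : Type u) [CommRing A] [HopfAlgebra k A]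
    [Algebra.FiniteType k A] [CommRing C] [HopfAlgebra k C] [Algebra.Etale k C] (ψ : C →ₐc[k] A)
    (hψ : Function.Injective ψ) (J : Ideal A) [J.IsHopfIdeal k]
    (hJ : J = Ideal.map (ψ : C →+* A) (RingHom.ker (Bialgebra.counitAlgHom k C)))
    [IsLocalRing (A ⧸ J)] :
    (∃! r : A →ₐc[k] C, r.comp ψ = BialgHom.id k C) ∧
    ∀ r : A →ₐc[k] C, r.comp ψ = BialgHom.id k C →
      RingHom.ker (r : A →+* C) = nilradical A := by
  have hS := exists_nilpotent_sub k A C ψ hψ J hJ
  haveI : IsReduced C := Algebra.FormallyUnramified.isReduced_of_field k C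
  haveI : Algebra.Etale k (C ⊗[k] C) := Algebra.Etale.comp k C (C ⊗[k] C)
  haveI : IsReduced (C ⊗[k] C) := Algebra.FormallyUnramified.isReduced_of_field k (C ⊗[k] C)
  have hU : ∀ (T : Type u) [CommRing T] [Algebra k T] [IsReduced T] (φ₁ φ₂ : A →ₐ[k] T),
      (∀ c, φ₁ (ψ c) = φ₂ (ψ c)) → φ₁ = φ₂ := by
    intro T _ _ _ φ₁ φ₂ h
    ext a
    obtain ⟨c, hc⟩ := hS a
    have h1 : φ₁ a = φ₁ (ψ c) := by
      have h0 : IsNilpotent (φ₁ (a - ψ c)) := hc.map φ₁
      rw [map_sub] at h0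
      exact sub_eq_zero.mp h0.eq_zero
    have h2 : φ₂ a = φ₂ (ψ c) := by
      have h0 : IsNilpotent (φ₂ (a - ψ c)) := hc.map φ₂
      rw [map_sub] at h0
      exact sub_eq_zero.mp h0.eq_zero
    rw [h1, h2, h]
  let q : A →ₐ[k] A ⧸ nilradical A := Ideal.Quotient.mkₐ k (nilradical A)
  let ψbar : C →ₐ[k] A ⧸ nilradical A := q.comp (ψ : C →ₐ[k] A)
  have hbij : Function.Bijective ψbar := by
    constructor
    · rw [injective_iff_map_eq_zero]
      intro c hc
      have h1 : ψ c ∈ nilradical A := Ideal.Quotient.eq_zero_iff_mem.mp hc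
      obtain ⟨n, hn⟩ := mem_nilradical.mp h1
      rw [← map_pow] at hn
      have h2 : c ^ n = 0 := hψ (by rw [hn, map_zero])
      exact IsNilpotent.eq_zero ⟨n, h2⟩
    · intro ā
      obtain ⟨a, rfl⟩ := Ideal.Quotient.mk_surjective ā
      obtain ⟨c, hc⟩ := hS a
      refine ⟨c, ?_⟩
      show Ideal.Quotient.mk _ (ψ c) = Ideal.Quotient.mk _ a
      rw [eq_comm, Ideal.Quotient.eq]
      exact mem_nilradical.mpr hc
  let e : C ≃ₐ[k] A ⧸ nilradical A := AlgEquiv.ofBijective ψbar hbij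
  let r₀ : A →ₐ[k] C := (e.symm : (A ⧸ nilradical A) →ₐ[k] C).comp q
  have hr₀ψ : ∀ c, r₀ (ψ c) = c := fun c => by
    show e.symm (q (ψ c)) = c
    rw [AlgEquiv.symm_apply_eq]
    rfl
  have hr₀ker : ∀ x, r₀ x = 0 ↔ x ∈ nilradical A := fun x => by
    show e.symm (q x) = 0 ↔ _
    rw [map_eq_zero_iff _ e.symm.injective]
    exact Ideal.Quotient.eq_zero_iff_mem
  have hmapmap : ∀ w : C ⊗[k] C, Algebra.TensorProduct.map r₀ r₀
      (TensorProduct.map (ψ : C →ₗ[k] A) (ψ : C →ₗ[k] A) w) = w := by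
    intro w
    induction w using TensorProduct.induction_on with
    | zero => simp
    | tmul c c' =>
      rw [TensorProduct.map_tmul, Algebra.TensorProduct.map_tmul]
      show r₀ (ψ c) ⊗ₜ[k] r₀ (ψ c') = c ⊗ₜ[k] c'
      rw [hr₀ψ, hr₀ψ]
    | add w₁ w₂ h₁ h₂ => simp only [map_add, h₁, h₂]
  have h1 : (Bialgebra.counitAlgHom k C).comp r₀ = Bialgebra.counitAlgHom k A := by
    apply hU
    intro c
    show CoalgebraStruct.counit (R := k) (r₀ (ψ c)) = CoalgebraStruct.counit (R := k) (ψ c)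
    rw [hr₀ψ]
    exact (CoalgHomClass.counit_comp_apply ψ c).symm
  have h2 : (Algebra.TensorProduct.map r₀ r₀).comp (Bialgebra.comulAlgHom k A) =
      (Bialgebra.comulAlgHom k C).comp r₀ := by
    apply hU
    intro c
    show Algebra.TensorProduct.map r₀ r₀ (CoalgebraStruct.comul (R := k) (ψ c)) =
      CoalgebraStruct.comul (R := k) (r₀ (ψ c))
    rw [hr₀ψ, ← CoalgHomClass.map_comp_comul_apply ψ c, hmapmap]
  let r : A →ₐc[k] C := BialgHom.ofAlgHom r₀ h1 h2
  have hr : ∀ x, r x = r₀ x := fun x => rfl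
  have hrψ : r.comp ψ = BialgHom.id k C := BialgHom.ext fun c => hr₀ψ c
  have huniq : ∀ r' : A →ₐc[k] C, r'.comp ψ = BialgHom.id k C → (r' : A →ₐ[k] C) = r₀ := by
    intro r' hr'
    apply hU
    intro c
    have h3 : r' (ψ c) = c := congrArg (fun g : C →ₐc[k] C => g c) hr'
    show r' (ψ c) = r₀ (ψ c)
    rw [h3, hr₀ψ]
  refine ⟨⟨r, hrψ, ?_⟩, ?_⟩
  · intro r' hr'
    have h3 := huniq r' hr'
    exact BialgHom.ext fun x => congrArg (fun g : A →ₐ[k] C => g x) h3
  · intro r' hr'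
    have h3 := huniq r' hr'
    ext x
    rw [RingHom.mem_ker, ← hr₀ker]
    have h4 : (r' : A →+* C) x = r₀ x := congrArg (fun g : A →ₐ[k] C => g x) h3
    rw [h4]

end Groth.Agent.Helper22.RetrEt
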