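import Mathlib
import Groth.Prelude.Def_HopfRep
import Groth.Prelude.Def_Hoch
import Groth.Prelude.Def_W4c1tameactTame
import Groth.Agent.Lib.Helper19.HopfLib

/-!
# Total integrals of linearly reductive Hopf algebras and the Reynolds operator (helper22)

Uses helper19's `HopfLib` (Reynolds operator of a total integral) with `B := k` carrying the trivial
coaction.
-/

set_option autoImplicit false

namespace Groth.Agent.Helper22.Reynolds

open TensorProduct HopfRep
open Groth.Agent.Helper19

universe u v w w'

section integral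

variable (k : Type u) [Field k] (H : Type v) [CommRing H] [HopfAlgebra k H]

/-- If the regular comodule is semisimple there is a total integral: `l : H → k` with `l 1 = 1` and
`Σ l(h₁) h₂ = l(h) 1`. -/
theorem exists_integral (hss : IsSemisimpleComod k H H) :
    ∃ l : H →ₗ[k] k, l 1 = 1 ∧
      ∀ h : H, l.rTensor H (Coalgebra.comul (R := k) h) = l h ⊗ₜ[k] (1 : H) := by
  set W : Submodule k H := Submodule.span k {(1 : H)} with hW
  have h1W : (1 : H) ∈ W := Submodule.mem_span_singleton_self 1
  have hWsub : IsSubcomod (k := k) (A := H) W := by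
    intro w hw
    obtain ⟨c, rfl⟩ := Submodule.mem_span_singleton.1 hw
    refine ⟨(c • (⟨1, h1W⟩ : W)) ⊗ₜ[k] (1 : H), ?_⟩
    rw [LinearMap.rTensor_tmul, map_smul]
    change _ = Coalgebra.comul (R := k) (c • (1 : H))
    rw [map_smul, Bialgebra.comul_one, Algebra.TensorProduct.one_def, TensorProduct.smul_tmul']
    rfl
  obtain ⟨W', hW'sub, hc⟩ := hss W hWsub
  let π : H →ₗ[k] W := Submodule.linearProjOfIsCompl W W' hc
  let l : H →ₗ[k] k := Coalgebra.counit (R := k) (A := H) ∘ₗ W.subtype ∘ₗ π
  have hl1 : l 1 = 1 := by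
    have : π 1 = ⟨1, h1W⟩ := Submodule.linearProjOfIsCompl_apply_left hc ⟨1, h1W⟩
    simp only [l, LinearMap.comp_apply, this, Submodule.subtype_apply, Bialgebra.counit_one]
  have hlW' : ∀ w ∈ W', l w = 0 := by
    intro w hw
    have : π w = 0 := (Submodule.linearProjOfIsCompl_apply_eq_zero_iff hc).2 hw
    simp only [l, LinearMap.comp_apply, this, map_zero]
  refine ⟨l, hl1, ?_⟩
  intro h
  obtain ⟨w, hw, w', hw', rfl⟩ : ∃ w ∈ W, ∃ w' ∈ W', w + w' = h := by
    have hh : h ∈ W ⊔ W' := by rw [hc.sup_eq_top]; trivial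
    exact Submodule.mem_sup.1 hh
  rw [map_add, map_add, map_add, TensorProduct.add_tmul]
  congr 1
  · obtain ⟨c, rfl⟩ := Submodule.mem_span_singleton.1 hw
    rw [map_smul, Bialgebra.comul_one, map_smul, map_smul, hl1, Algebra.TensorProduct.one_def,
      LinearMap.rTensor_tmul, hl1, TensorProduct.smul_tmul']
  · rw [hlW' w' hw', TensorProduct.zero_tmul]
    obtain ⟨t, ht⟩ := hW'sub w' hw'
    change W'.subtype.rTensor H t = Coalgebra.comul (R := k) w' at ht
    rw [← ht, ← LinearMap.comp_apply, ← LinearMap.rTensor_comp]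
    have : l ∘ₗ W'.subtype = 0 := by
      ext x; exact hlW' x x.2
    rw [this, LinearMap.rTensor_zero, LinearMap.zero_apply]

end integral

section reynolds

variable (k : Type u) [CommRing k] (H : Type v) [CommRing H] [HopfAlgebra k H]
  (M : Type w) [AddCommGroup M] [Module k M] [Comod k H M]

/-- Reynolds operator of a linear form `l` on `H`: `m ↦ Σ l(S m₁) m₀`. -/
noncomputable def E (l : H →ₗ[k] k) : M →ₗ[k] M := TameAct.reynolds k H k M l

theorem E_eq (l : H →ₗ[k] k) (m : M) :
    E k H M l m = HopfLib.L k H k M l (Comod.coact (k := k) (A := H) m) := rfl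

theorem L_tmul' (l : H →ₗ[k] k) (x : M) (a : H) :
    HopfLib.L k H k M l (x ⊗ₜ[k] a) = l (HopfAlgebraStruct.antipode k a) • x := by
  simp [HopfLib.L]

theorem isCoactAlg_triv :
    letI : Comod k H k := Comod.trivial k H k
    GLin.IsCoactAlg k H k := by
  letI : Comod k H k := Comod.trivial k H k
  exact
    { coact_one := by
        change (1 : k) ⊗ₜ[k] (1 : H) = 1
        rfl
      coact_mul := by
        intro f g
        change (f * g) ⊗ₜ[k] (1 : H) = (f ⊗ₜ[k] (1 : H)) * (g ⊗ₜ[k] (1 : H))
        rw [Algebra.TensorProduct.tmul_mul_tmul, one_mul] }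

theorem isHopfMod_triv :
    letI : Comod k H k := Comod.trivial k H k
    TameAct.IsHopfMod k H k M := by
  letI : Comod k H k := Comod.trivial k H k
  exact
    { coact_smul := by
        intro b m
        rw [map_smul]
        change _ = TameAct.hmSMul k H k M (b ⊗ₜ[k] (1 : H)) _
        generalize Comod.coact (k := k) (A := H) m = t
        induction t using TensorProduct.induction_on with
        | zero => simp
        | tmul x a => rw [TameAct.hmSMul_tmul, one_mul, TensorProduct.smul_tmul']
        | add x y hx hy => rw [smul_add, map_add, hx, hy] }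

theorem isComodHom_triv (l : H →ₗ[k] k)
    (hl : ∀ h : H, l.rTensor H (Coalgebra.comul (R := k) h) = l h ⊗ₜ[k] (1 : H)) :
    letI : Comod k H k := Comod.trivial k H k
    Hoch.IsComodHom H l := by
  letI : Comod k H k := Comod.trivial k H k
  exact LinearMap.ext fun h => (hl h).symm

theorem E_mem_fixedPts (l : H →ₗ[k] k)
    (hl : ∀ h : H, l.rTensor H (Coalgebra.comul (R := k) h) = l h ⊗ₜ[k] (1 : H)) (m : M) :
    E k H M l m ∈ fixedPts k H M := by
  letI : Comod k H k := Comod.trivial k H k
  have h1 : GLin.IsCoactAlg k H k := isCoactAlg_triv k H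
  have h2 : TameAct.IsHopfMod k H k M := isHopfMod_triv k H M
  have h3 : Hoch.IsComodHom H l := isComodHom_triv k H l hl
  exact HopfLib.reynolds_mem_fixedPts k H k M h3 m

theorem E_of_mem_fixedPts (l : H →ₗ[k] k) (hl1 : l 1 = 1) (m : M) (hm : m ∈ fixedPts k H M) :
    E k H M l m = m := by
  have hm' : Comod.coact (k := k) (A := H) m = m ⊗ₜ[k] (1 : H) := hm
  rw [E_eq, hm', L_tmul', HopfAlgebra.antipode_one, hl1, one_smul]

theorem E_comm (l : H →ₗ[k] k) (N : Type w') [AddCommGroup N] [Module k N] [Comod k H N]
    (f : M →ₗ[k] N)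
    (hf : ∀ m, Comod.coact (k := k) (A := H) (f m) = f.rTensor H (Comod.coact (k := k) (A := H) m))
    (m : M) : f (E k H M l m) = E k H N l (f m) := by
  rw [E_eq, E_eq, hf]
  generalize Comod.coact (k := k) (A := H) m = t
  induction t using TensorProduct.induction_on with
  | zero => simp
  | tmul x a => rw [L_tmul', LinearMap.rTensor_tmul, L_tmul', map_smul]
  | add x y hx hy => simp only [map_add, hx, hy]

theorem E_smul (R : Type w') [CommRing R] [Module R M] [SMulCommClass k R M]
    (hlin : ∀ (a : R) (m : M), Comod.coact (k := k) (A := H) (a • m) =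
      a • Comod.coact (k := k) (A := H) m)
    (l : H →ₗ[k] k) (a : R) (m : M) : E k H M l (a • m) = a • E k H M l m := by
  rw [E_eq, E_eq, hlin]
  generalize Comod.coact (k := k) (A := H) m = t
  induction t using TensorProduct.induction_on with
  | zero => simp
  | tmul x h => rw [TensorProduct.smul_tmul', L_tmul', L_tmul', smul_comm]
  | add x y hx hy => rw [smul_add, map_add, map_add, hx, hy, smul_add]

end reynolds

end Groth.Agent.Helper22.Reynolds
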