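import Mathlib
import Groth.Prelude.Def_SymTen
import Groth.Agent.Lib.Helper22.GF01
import Groth.Agent.Lib.Helper22.SG01
import Groth.Agent.Lib.Helper22.SG02

set_option maxHeartbeats 1600000
set_option autoImplicit false

universe u

open scoped TensorProduct

namespace Groth.Agent.Helper22.SG

open Classical
open Pointwise

variable {A B : Type u} [CommRing A] [CommRing B] [Algebra A B] (𝒜 : ℕ → Submodule A B)
  [GradedAlgebra 𝒜] (d : ℕ)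

theorem tpow_mem_DD {n : ℕ} {f : B} (hf : f ∈ 𝒜 n) :
    PiTensorProduct.tprod A (fun _ : Fin d => f) ∈ DD 𝒜 d :=
  Algebra.mem_inf.mpr ⟨tprod_mem_CC 𝒜 d (fun _ => hf), (SymTen.tpow A B d f).2⟩

/-- S13391 -/
theorem main91 (hgen : Algebra.adjoin A (𝒜 1 : Set B) = ⊤)
    (k : ℕ) (hk : 0 < k) (t : ⨂[A] _ : Fin d, B) (htD : t ∈ DD 𝒜 d)
    (htk : t ∈ Submodule.span A
      {s | ∃ b : Fin d → B, (∀ i, b i ∈ 𝒜 k) ∧ s = PiTensorProduct.tprod A b}) :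
    ∃ m : ℕ, 0 < m ∧ (⟨t, htD⟩ : ↥(DD 𝒜 d)) ^ m ∈
      Ideal.span {x : ↥(DD 𝒜 d) | ∃ (n : ℕ) (f : B), 0 < n ∧ f ∈ 𝒜 n ∧
        (x : ⨂[A] _ : Fin d, B) = PiTensorProduct.tprod A (fun _ : Fin d => f)} := by
  apply pow_mem_of_forall_prime
  intro q hq hIq
  by_contra htq
  haveI := hq
  obtain ⟨Q, hQ, hqQ, c, hc, hcQ⟩ := main_core 𝒜 d hgen q k hk t htD htk htq
  haveI := hQ
  obtain ⟨n, hn, f, hf, hfN⟩ := hpa 𝒜 (fun (i : Fin d) n b => EE A c i n b ∉ QQ 𝒜 d Q)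
    (fun i n x y _ _ hx hy => N_add 𝒜 Q c i n x y hx hy)
    (fun i n m x y hx hy => N_mul 𝒜 Q c hc i n m x y hx hy)
    (Finset.univ : Finset (Fin d)).card Finset.univ rfl
    (fun i _ => ⟨c i, hc i, by rw [EE_self]; exact hcQ⟩)
  have h1 := tpow_not_mem 𝒜 Q c hc n f hf (fun i => hfN i (Finset.mem_univ i))
  apply h1
  have hg : (⟨PiTensorProduct.tprod A (fun _ : Fin d => f), tpow_mem_DD 𝒜 d hf⟩ : ↥(DD 𝒜 d)) ∈ q :=
    hIq (Ideal.subset_span ⟨n, f, hn, hf, rfl⟩)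
  exact hqQ _ hg

/-- S13392 -/
theorem main92 (hgen : Algebra.adjoin A (𝒜 1 : Set B) = ⊤)
    (hres : ∀ p : PrimeSpectrum A, (d : Cardinal) ≤ Cardinal.mk p.asIdeal.ResidueField)
    (k : ℕ) (hk : 0 < k) (t : ⨂[A] _ : Fin d, B) (htD : t ∈ DD 𝒜 d)
    (htk : t ∈ Submodule.span A
      {s | ∃ b : Fin d → B, (∀ i, b i ∈ 𝒜 k) ∧ s = PiTensorProduct.tprod A b}) :
    ∃ m : ℕ, 0 < m ∧ (⟨t, htD⟩ : ↥(DD 𝒜 d)) ^ m ∈
      Ideal.span {x : ↥(DD 𝒜 d) | ∃ f : B, f ∈ 𝒜 1 ∧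
        (x : ⨂[A] _ : Fin d, B) = PiTensorProduct.tprod A (fun _ : Fin d => f)} := by
  apply pow_mem_of_forall_prime
  intro q hq hIq
  by_contra htq
  haveI := hq
  obtain ⟨Q, hQ, hqQ, c, hc, hcQ⟩ := main_core 𝒜 d hgen q k hk t htD htk htq
  haveI := hQ
  let P : PrimeSpectrum A := ⟨Ideal.comap (algebraMap A ↥(CC 𝒜 d)) Q, inferInstance⟩
  have hcardP := hres P
  let Φ : Fin d → (↥(𝒜 1) →ₗ[A] (⨂[A] _ : Fin d, B)) := fun i =>
    ((PiTensorProduct.tprod A).toLinearMap (fun l => c l ^ 1) i).comp (𝒜 1).subtype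
  have hΦ : ∀ i (v : ↥(𝒜 1)), Φ i v = EE A c i 1 v.1 := fun i v => rfl
  have hsat : ∀ i, ∀ s : A, s ∉ P.asIdeal → ∀ v : ↥(𝒜 1),
      s • v ∈ (QQ 𝒜 d Q).comap (Φ i) → v ∈ (QQ 𝒜 d Q).comap (Φ i) := by
    intro i s hs v hsv
    have hsv' : s • Φ i v ∈ QQ 𝒜 d Q := by
      have h2 : Φ i (s • v) ∈ QQ 𝒜 d Q := hsv
      rwa [map_smul] at h2
    have hzC : Φ i v ∈ CC 𝒜 d := by
      rw [hΦ]
      exact EE_mem 𝒜 c hc i 1 v.1 v.2
    have h1 : (algebraMap A ↥(CC 𝒜 d) s) * ⟨Φ i v, hzC⟩ ∈ Q := by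
      have h2 := (mem_QQ 𝒜 d Q ((CC 𝒜 d).smul_mem hzC s)).mp hsv'
      have h3 : (⟨s • Φ i v, (CC 𝒜 d).smul_mem hzC s⟩ : ↥(CC 𝒜 d)) =
          (algebraMap A ↥(CC 𝒜 d) s) * ⟨Φ i v, hzC⟩ := by
        rw [← Algebra.smul_def]
        rfl
      rwa [h3] at h2
    rcases hQ.mem_or_mem h1 with h | h
    · exact absurd h hs
    · exact (mem_QQ 𝒜 d Q hzC).mpr h
  have hne : ∀ i, ∃ v : ↥(𝒜 1), v ∉ (QQ 𝒜 d Q).comap (Φ i) := by
    intro i
    refine ⟨⟨c i, hc i⟩, ?_⟩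
    rw [Submodule.mem_comap, hΦ]
    show EE A c i 1 (c i) ∉ QQ 𝒜 d Q
    rw [EE_self]
    exact hcQ
  obtain ⟨v, hv⟩ := exists_not_mem_of_card P.asIdeal d hcardP
    (fun i => (QQ 𝒜 d Q).comap (Φ i)) hsat hne
  have h1 := tpow_not_mem 𝒜 Q c hc 1 v.1 v.2 (fun i => by
    have h2 := hv i
    rw [Submodule.mem_comap, hΦ] at h2
    exact h2)
  apply h1
  have hg : (⟨PiTensorProduct.tprod A (fun _ : Fin d => v.1), tpow_mem_DD 𝒜 d v.2⟩ :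
      ↥(DD 𝒜 d)) ∈ q :=
    hIq (Ideal.subset_span ⟨v.1, v.2, rfl⟩)
  exact hqQ _ hg

/-- S13390 -/
theorem main90 (hgen : Algebra.adjoin A (𝒜 1 : Set B) = ⊤) (hfg : (𝒜 1).FG)
    (k : ℕ) (hk : 0 < k) (t : ⨂[A] _ : Fin d, B) (htD : t ∈ DD 𝒜 d)
    (htk : t ∈ Submodule.span A
      {s | ∃ b : Fin d → B, (∀ i, b i ∈ 𝒜 k) ∧ s = PiTensorProduct.tprod A b}) :
    ∃ m : ℕ, 0 < m ∧ (⟨t, htD⟩ : ↥(DD 𝒜 d)) ^ m ∈
      Ideal.span {x : ↥(DD 𝒜 d) | (x : ⨂[A] _ : Fin d, B) ∈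
        Submodule.span A
          {s | ∃ b : Fin d → B, (∀ i, b i ∈ 𝒜 1) ∧ s = PiTensorProduct.tprod A b}} := by
  apply pow_mem_of_forall_prime
  intro q hq hIq
  by_contra htq
  haveI := hq
  obtain ⟨Q, hQ, hqQ, c₀, hc₀, hcQ₀⟩ := main_core 𝒜 d hgen q k hk t htD htk htq
  haveI := hQ
  obtain ⟨n, x, hx⟩ := Submodule.fg_iff_exists_fin_generating_family.mp hfg
  have hx1 : ∀ j, x j ∈ 𝒜 1 := by
    intro j
    rw [← hx]
    exact Submodule.subset_span ⟨j, rfl⟩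
  -- reduce to `c = x ∘ J`
  obtain ⟨J, hJ⟩ : ∃ J : Fin d → Fin n,
      PiTensorProduct.tprod A (fun l => x (J l)) ∉ QQ 𝒜 d Q := by
    by_contra hcon
    apply hcQ₀
    apply tprod_mem_of_span (fun _ => Set.range x) (QQ 𝒜 d Q)
    · intro b' hb'
      choose J hJ using hb'
      have h2 : b' = fun l => x (J l) := by
        funext l
        exact (hJ l).symm
      rw [h2]
      by_contra h3
      exact hcon ⟨J, h3⟩
    · intro l
      show c₀ l ∈ Submodule.span A (Set.range x)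
      rw [hx]
      exact hc₀ l
  obtain ⟨c, hcdef⟩ : ∃ c : Fin d → B, c = fun l => x (J l) := ⟨_, rfl⟩
  have hc : ∀ l, c l ∈ 𝒜 1 := by
    intro l
    rw [hcdef]
    exact hx1 (J l)
  have hcQ : PiTensorProduct.tprod A c ∉ QQ 𝒜 d Q := by
    rw [hcdef]
    exact hJ
  have hE : ∀ i j, EE A c i 1 (x j) ∈ CC 𝒜 d := fun i j => EE_mem 𝒜 c hc i 1 (x j) (hx1 j)
  have hxI : ∀ I : Fin d → Fin n, PiTensorProduct.tprod A (fun l => x (I l)) ∈ CC 𝒜 d :=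
    fun I => tprod_mem_CC 𝒜 d (fun l => hx1 (I l))
  have hw := w_mem 𝒜 c hc 1
  have hh1 : ∀ I : Fin d → Fin n,
      ∏ i, Ideal.Quotient.mk Q (⟨EE A c i 1 (x (I i)), hE i (I i)⟩ : ↥(CC 𝒜 d)) =
      Ideal.Quotient.mk Q (⟨PiTensorProduct.tprod A (fun l => x (I l)), hxI I⟩ : ↥(CC 𝒜 d)) *
        Ideal.Quotient.mk Q (⟨_, hw⟩ : ↥(CC 𝒜 d)) := by
    intro I
    rw [← map_prod, ← map_mul]
    congr 1
    apply Subtype.ext
    rw [SubmonoidClass.coe_finset_prod]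
    exact prod_EE c 1 (fun l => x (I l))
  have hh2 : ∀ μ : Fin n →₀ ℕ, (∑ I : Fin d → Fin n, if GF.typ I = μ then
      Ideal.Quotient.mk Q (⟨PiTensorProduct.tprod A (fun l => x (I l)), hxI I⟩ : ↥(CC 𝒜 d))
      else 0) = 0 := by
    intro μ
    have h1 : (∑ I : Fin d → Fin n, if GF.typ I = μ then
        Ideal.Quotient.mk Q (⟨PiTensorProduct.tprod A (fun l => x (I l)), hxI I⟩ : ↥(CC 𝒜 d))
        else 0) =
        Ideal.Quotient.mk Q (∑ I : Fin d → Fin n, if GF.typ I = μ then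
          (⟨PiTensorProduct.tprod A (fun l => x (I l)), hxI I⟩ : ↥(CC 𝒜 d)) else 0) := by
      rw [map_sum]
      apply Finset.sum_congr rfl
      intro I _
      by_cases hI : GF.typ I = μ
      · rw [if_pos hI, if_pos hI]
      · rw [if_neg hI, if_neg hI, map_zero]
    rw [h1, Ideal.Quotient.eq_zero_iff_mem]
    -- the symmetrised sum
    obtain ⟨sμ, hsμ⟩ : ∃ sμ : ⨂[A] _ : Fin d, B, sμ = ∑ I : Fin d → Fin n,
        if GF.typ I = μ then PiTensorProduct.tprod A (fun l => x (I l)) else 0 := ⟨_, rfl⟩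
    have hsC : sμ ∈ CC 𝒜 d := by
      rw [hsμ]
      apply sum_mem
      intro I _
      by_cases hI : GF.typ I = μ
      · rw [if_pos hI]
        exact hxI I
      · rw [if_neg hI]
        exact zero_mem _
    have hsT : sμ ∈ SymTen.TS A B d := by
      rw [hsμ]
      exact typsum_mem_TS d x μ
    have hsD : sμ ∈ DD 𝒜 d := Algebra.mem_inf.mpr ⟨hsC, hsT⟩
    have hsspan : sμ ∈ Submodule.span A
        {s | ∃ b : Fin d → B, (∀ i, b i ∈ 𝒜 1) ∧ s = PiTensorProduct.tprod A b} := by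
      rw [hsμ]
      apply sum_mem
      intro I _
      by_cases hI : GF.typ I = μ
      · rw [if_pos hI]
        exact Submodule.subset_span ⟨fun l => x (I l), fun l => hx1 (I l), rfl⟩
      · rw [if_neg hI]
        exact zero_mem _
    have hsq : (⟨sμ, hsD⟩ : ↥(DD 𝒜 d)) ∈ q := hIq (Ideal.subset_span hsspan)
    have h2 := (mem_QQ 𝒜 d Q hsC).mp (hqQ _ hsq)
    have h3 : (⟨sμ, hsC⟩ : ↥(CC 𝒜 d)) = ∑ I : Fin d → Fin n, if GF.typ I = μ then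
        (⟨PiTensorProduct.tprod A (fun l => x (I l)), hxI I⟩ : ↥(CC 𝒜 d)) else 0 := by
      apply Subtype.ext
      show sμ = (CC 𝒜 d).val (∑ I : Fin d → Fin n, if GF.typ I = μ then
        (⟨PiTensorProduct.tprod A (fun l => x (I l)), hxI I⟩ : ↥(CC 𝒜 d)) else 0)
      rw [map_sum, hsμ]
      apply Finset.sum_congr rfl
      intro I _
      by_cases hI : GF.typ I = μ
      · rw [if_pos hI, if_pos hI]
        rfl
      · rw [if_neg hI, if_neg hI, map_zero]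
    rwa [h3] at h2
  obtain ⟨i, hi⟩ := poly_lemma
    (fun i j => Ideal.Quotient.mk Q (⟨EE A c i 1 (x j), hE i j⟩ : ↥(CC 𝒜 d)))
    (fun I => Ideal.Quotient.mk Q
      (⟨PiTensorProduct.tprod A (fun l => x (I l)), hxI I⟩ : ↥(CC 𝒜 d)))
    (Ideal.Quotient.mk Q (⟨_, hw⟩ : ↥(CC 𝒜 d))) hh1 hh2
  have h1 := hi (J i)
  rw [Ideal.Quotient.eq_zero_iff_mem] at h1
  have h2 := (mem_QQ 𝒜 d Q (hE i (J i))).mpr h1
  have h3 : x (J i) = c i := by rw [hcdef]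
  rw [h3, EE_self] at h2
  exact hcQ h2

end Groth.Agent.Helper22.SG
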