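import Mathlib

set_option autoImplicit false
universe u v

namespace Groth.Agent.Helper22

/-- Chebyshev-like sequence: `uu t 0 = 0`, `uu t 1 = 1`, `uu t (m+2) = t * uu t (m+1) - uu t m`. -/
def uu {K : Type u} [Field K] (t : K) : ℕ → K
  | 0 => 0
  | 1 => 1
  | (m + 2) => t * uu t (m + 1) - uu t m

/-- The companion matrix of `X^2 - t X + 1`. -/
def Mm {K : Type u} [Field K] (t : K) : Matrix (Fin 2) (Fin 2) K := !![0, -1; 1, t]

lemma Mm00 {K : Type u} [Field K] (t : K) : Mm t 0 0 = 0 := rfl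
lemma Mm01 {K : Type u} [Field K] (t : K) : Mm t 0 1 = -1 := rfl
lemma Mm10 {K : Type u} [Field K] (t : K) : Mm t 1 0 = 1 := rfl
lemma Mm11 {K : Type u} [Field K] (t : K) : Mm t 1 1 = t := rfl

/-- A trace-zero matrix with `Mm t * Tm a b t * Mm t = Tm a b t`. -/
def Tm {K : Type u} [Field K] (a b t : K) : Matrix (Fin 2) (Fin 2) K := !![a, b; b - a * t, -a]

lemma Tm00 {K : Type u} [Field K] (a b t : K) : Tm a b t 0 0 = a := rfl
lemma Tm01 {K : Type u} [Field K] (a b t : K) : Tm a b t 0 1 = b := rfl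
lemma Tm10 {K : Type u} [Field K] (a b t : K) : Tm a b t 1 0 = b - a * t := rfl
lemma Tm11 {K : Type u} [Field K] (a b t : K) : Tm a b t 1 1 = -a := rfl

lemma ext2 {K : Type u} [Field K] (A B : Matrix (Fin 2) (Fin 2) K) (h00 : A 0 0 = B 0 0)
    (h01 : A 0 1 = B 0 1) (h10 : A 1 0 = B 1 0) (h11 : A 1 1 = B 1 1) : A = B := by
  ext i j
  fin_cases i <;> fin_cases j <;> assumption

lemma mul_apply2 {K : Type u} [Field K] (A B : Matrix (Fin 2) (Fin 2) K) (i j : Fin 2) :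
    (A * B) i j = A i 0 * B 0 j + A i 1 * B 1 j := by
  rw [Matrix.mul_apply, Fin.sum_univ_two]

lemma one00 {K : Type u} [Field K] : (1 : Matrix (Fin 2) (Fin 2) K) 0 0 = 1 := by simp
lemma one01 {K : Type u} [Field K] : (1 : Matrix (Fin 2) (Fin 2) K) 0 1 = 0 := by simp
lemma one10 {K : Type u} [Field K] : (1 : Matrix (Fin 2) (Fin 2) K) 1 0 = 0 := by simp
lemma one11 {K : Type u} [Field K] : (1 : Matrix (Fin 2) (Fin 2) K) 1 1 = 1 := by simp

lemma CH {K : Type u} [Field K] (M : Matrix (Fin 2) (Fin 2) K) :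
    M * M = (M 0 0 + M 1 1) • M -
      (M 0 0 * M 1 1 - M 0 1 * M 1 0) • (1 : Matrix (Fin 2) (Fin 2) K) := by
  apply ext2 <;>
    simp only [mul_apply2, Matrix.sub_apply, Matrix.smul_apply, one00, one01, one10, one11,
      smul_eq_mul] <;> ring

lemma Mm_sq {K : Type u} [Field K] (t : K) : Mm t * Mm t = t • Mm t - 1 := by
  rw [CH, Mm00, Mm11, Mm01, Mm10]
  norm_num

lemma Mm_det {K : Type u} [Field K] (t : K) : (Mm t).det = 1 := by
  rw [Matrix.det_fin_two, Mm00, Mm11, Mm01, Mm10]; norm_num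

lemma Tm_det {K : Type u} [Field K] (a b t : K) :
    (Tm a b t).det = -(a * a) - b * (b - a * t) := by
  rw [Matrix.det_fin_two, Tm00, Tm11, Tm01, Tm10]; ring

lemma Tm_sq {K : Type u} [Field K] (a b t : K) (h : -(a * a) - b * (b - a * t) = 1) :
    Tm a b t * Tm a b t = -1 := by
  apply ext2 <;>
    simp only [mul_apply2, Matrix.neg_apply, one00, one01, one10, one11, Tm00, Tm01, Tm10, Tm11]
  · linear_combination (-1 : K) * h
  · ring
  · ring
  · linear_combination (-1 : K) * h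

lemma Mm_Tm_Mm {K : Type u} [Field K] (a b t : K) : Mm t * Tm a b t * Mm t = Tm a b t := by
  apply ext2 <;>
    simp only [mul_apply2, Mm00, Mm01, Mm10, Mm11, Tm00, Tm01, Tm10, Tm11] <;> ring

lemma pow_formula {K : Type u} [Field K] (t : K) (m : ℕ) :
    Mm t ^ (m + 1) = uu t (m + 1) • Mm t - uu t m • (1 : Matrix (Fin 2) (Fin 2) K) := by
  induction m with
  | zero => simp [uu]
  | succ m ih =>
    rw [pow_succ, ih, sub_mul, smul_mul_assoc, smul_mul_assoc, one_mul, Mm_sq]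
    show uu t (m + 1) • (t • Mm t - 1) - uu t m • Mm t =
      (t * uu t (m + 1) - uu t m) • Mm t - uu t (m + 1) • (1 : Matrix (Fin 2) (Fin 2) K)
    module

lemma uu_spec {K : Type u} {L : Type v} [Field K] [Field L] [Algebra K L] (t : K) (ξ : L)
    (hξ0 : ξ ≠ 0) (ht : algebraMap K L t = ξ + ξ⁻¹) (m : ℕ) :
    algebraMap K L (uu t m) * (ξ - ξ⁻¹) = ξ ^ m - ξ⁻¹ ^ m ∧
    algebraMap K L (uu t (m + 1)) * (ξ - ξ⁻¹) = ξ ^ (m + 1) - ξ⁻¹ ^ (m + 1) := by
  induction m with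
  | zero => simp [uu]
  | succ m ih =>
    refine ⟨ih.2, ?_⟩
    show algebraMap K L (t * uu t (m + 1) - uu t m) * (ξ - ξ⁻¹) = _
    rw [map_sub, map_mul, ht]
    have hx : ξ * ξ⁻¹ = 1 := mul_inv_cancel₀ hξ0
    linear_combination (ξ + ξ⁻¹) * ih.2 - ih.1 + (ξ ^ m - ξ⁻¹ ^ m) * hx

lemma sub_inv_ne_zero_of_primitive {L : Type v} [Field L] (N : ℕ) (hN : 3 ≤ N) (ξ : L)
    (hξ : IsPrimitiveRoot ξ N) : ξ - ξ⁻¹ ≠ 0 := by
  have hξ0 : ξ ≠ 0 := hξ.ne_zero (by omega)
  have hx : ξ * ξ⁻¹ = 1 := mul_inv_cancel₀ hξ0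
  intro h
  have h2 : ξ ^ 2 = 1 := by
    have : ξ = ξ⁻¹ := sub_eq_zero.mp h
    calc ξ ^ 2 = ξ * ξ := pow_two ξ
      _ = ξ * ξ⁻¹ := by rw [← this]
      _ = 1 := hx
  have := Nat.le_of_dvd (by norm_num) (hξ.dvd_of_pow_eq_one 2 h2)
  omega

/-- If `ξ` is a primitive `N`-th root of unity (`N ≥ 3`) with `ξ + ξ⁻¹ = t ∈ K`, then an element of
`SL(2, K)` with matrix `Mm t` has order `N`. -/
lemma orderOf_eq_of_primitive {K : Type u} {L : Type v} [Field K] [Field L] [Algebra K L]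
    (N : ℕ) (hN : 3 ≤ N) (ξ : L) (hξ : IsPrimitiveRoot ξ N) (t : K)
    (ht : algebraMap K L t = ξ + ξ⁻¹) (g : Matrix.SpecialLinearGroup (Fin 2) K)
    (hg : (g : Matrix (Fin 2) (Fin 2) K) = Mm t) : orderOf g = N := by
  have hn0 : N ≠ 0 := by omega
  have hξ0 : ξ ≠ 0 := hξ.ne_zero hn0
  have hx : ξ * ξ⁻¹ = 1 := mul_inv_cancel₀ hξ0
  have hs : ξ - ξ⁻¹ ≠ 0 := sub_inv_ne_zero_of_primitive N hN ξ hξ
  have hinj : Function.Injective (algebraMap K L) := (algebraMap K L).injective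
  have hspec := uu_spec t ξ hξ0 ht
  have hpow : ∀ m : ℕ, ((g ^ m : Matrix.SpecialLinearGroup (Fin 2) K) :
      Matrix (Fin 2) (Fin 2) K) = Mm t ^ m := by
    intro m; rw [Matrix.SpecialLinearGroup.coe_pow, hg]
  rw [orderOf_eq_iff (by omega)]
  constructor
  · apply Subtype.ext
    show ((g ^ N : Matrix.SpecialLinearGroup (Fin 2) K) : Matrix (Fin 2) (Fin 2) K) = 1
    rw [hpow]
    have hn1 : N = (N - 1) + 1 := by omega
    have hun : uu t N = 0 := by
      have h1 := (hspec N).1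
      rw [hξ.pow_eq_one, inv_pow, hξ.pow_eq_one, inv_one, sub_self] at h1
      have h2 := (mul_eq_zero.mp h1).resolve_right hs
      exact hinj (by rw [h2, map_zero])
    have hun1 : uu t (N - 1) = -1 := by
      have h1 := (hspec (N - 1)).1
      have e1 : ξ ^ (N - 1) = ξ⁻¹ := by
        apply eq_inv_of_mul_eq_one_left
        rw [← pow_succ, ← hn1]; exact hξ.pow_eq_one
      rw [inv_pow, e1, inv_inv] at h1
      have h2 : (algebraMap K L (uu t (N - 1)) + 1) * (ξ - ξ⁻¹) = 0 := by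
        linear_combination h1
      have h3 := (mul_eq_zero.mp h2).resolve_right hs
      apply hinj
      rw [map_neg, map_one]
      linear_combination h3
    rw [hn1, pow_formula, ← hn1, hun, hun1]
    simp
  · intro m hmn hm0 hm1
    have hM : Mm t ^ m = 1 := by
      rw [← hpow, hm1, Matrix.SpecialLinearGroup.coe_one]
    obtain ⟨m', rfl⟩ : ∃ m', m = m' + 1 := ⟨m - 1, by omega⟩
    rw [pow_formula] at hM
    have e10 := congrFun (congrFun hM 1) 0
    rw [Matrix.sub_apply, Matrix.smul_apply, Matrix.smul_apply, Mm10, one10, smul_eq_mul,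
      smul_eq_mul, mul_one, mul_zero, sub_zero] at e10
    have e00 := congrFun (congrFun hM 0) 0
    rw [Matrix.sub_apply, Matrix.smul_apply, Matrix.smul_apply, Mm00, one00, smul_eq_mul,
      smul_eq_mul, mul_zero, mul_one, zero_sub] at e00
    have hum : uu t m' = -1 := by linear_combination -e00
    have s1 := (hspec m').1
    have s2 := (hspec m').2
    rw [hum, map_neg, map_one] at s1
    rw [e10, map_zero, zero_mul, pow_succ, pow_succ] at s2
    have h4 : (ξ ^ m' - ξ⁻¹) * (ξ - ξ⁻¹) = 0 := by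
      linear_combination -s2 + ξ⁻¹ * s1
    have h5 : ξ ^ m' = ξ⁻¹ := sub_eq_zero.mp ((mul_eq_zero.mp h4).resolve_right hs)
    have h6 : ξ ^ (m' + 1) = 1 := by rw [pow_succ, h5, inv_mul_cancel₀ hξ0]
    have := Nat.le_of_dvd (by omega) (hξ.dvd_of_pow_eq_one _ h6)
    omega

/-- If `ξ` is a primitive `2n`-th root of unity (`n ≥ 2`) with `ξ + ξ⁻¹ = t ∈ K`, then
`Mm t ^ n = -1`. -/
lemma Mm_pow_half {K : Type u} {L : Type v} [Field K] [Field L] [Algebra K L]
    (n : ℕ) (hn : 2 ≤ n) (ξ : L) (hξ : IsPrimitiveRoot ξ (2 * n)) (t : K)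
    (ht : algebraMap K L t = ξ + ξ⁻¹) : Mm t ^ n = -1 := by
  have hn0 : 2 * n ≠ 0 := by omega
  have hξ0 : ξ ≠ 0 := hξ.ne_zero hn0
  have hx : ξ * ξ⁻¹ = 1 := mul_inv_cancel₀ hξ0
  have hs : ξ - ξ⁻¹ ≠ 0 := sub_inv_ne_zero_of_primitive (2 * n) (by omega) ξ hξ
  have hinj : Function.Injective (algebraMap K L) := (algebraMap K L).injective
  have hspec := uu_spec t ξ hξ0 ht
  have hξn : ξ ^ n = -1 := by
    have h1 : (ξ ^ n - 1) * (ξ ^ n + 1) = 0 := by
      have := hξ.pow_eq_one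
      rw [two_mul, pow_add] at this
      linear_combination this
    rcases mul_eq_zero.mp h1 with h | h
    · exfalso
      have := Nat.le_of_dvd (by omega) (hξ.dvd_of_pow_eq_one n (sub_eq_zero.mp h))
      omega
    · linear_combination h
  have hn1 : n = (n - 1) + 1 := by omega
  have hun : uu t n = 0 := by
    have h1 := (hspec n).1
    rw [inv_pow, hξn, inv_neg, inv_one, sub_self] at h1
    have h2 := (mul_eq_zero.mp h1).resolve_right hs
    exact hinj (by rw [h2, map_zero])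
  have hun1 : uu t (n - 1) = 1 := by
    have h1 := (hspec (n - 1)).1
    have e1 : ξ ^ (n - 1) = -ξ⁻¹ := by
      have : ξ ^ (n - 1) * ξ = -1 := by rw [← pow_succ, ← hn1]; exact hξn
      have h3 : ξ ^ (n - 1) = ξ ^ (n - 1) * ξ * ξ⁻¹ := by rw [mul_assoc, hx, mul_one]
      rw [h3, this]; ring
    rw [inv_pow, e1, inv_neg, inv_inv] at h1
    have h2 : (algebraMap K L (uu t (n - 1)) - 1) * (ξ - ξ⁻¹) = 0 := by
      linear_combination h1
    have h3 := (mul_eq_zero.mp h2).resolve_right hs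
    apply hinj
    rw [map_one]
    linear_combination h3
  rw [hn1, pow_formula, ← hn1, hun, hun1]
  simp

end Groth.Agent.Helper22
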