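import Mathlib
import Groth.Prelude.Def_PLie
import Groth.Agent.Lib.Helper22.JacobsonAssoc

namespace Groth.Agent.Helper22.SD3

open Matrix

section
variable {R : Type*} [CommRing R] {L : Type*} [LieRing L] [LieAlgebra R L]
  (bs : Module.Basis (Fin 3) R L)

/-- element with given coordinates -/
noncomputable def vec (X Y Z : R) : L := X • bs 0 + Y • bs 1 + Z • bs 2

lemma eq_vec (v : L) : v = vec bs (bs.repr v 0) (bs.repr v 1) (bs.repr v 2) := by
  conv_lhs => rw [← bs.sum_repr v]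
  rw [vec, ← Fin.sum_univ_three (fun i => bs.repr v i • bs i)]

lemma exists_vec (v : L) : ∃ X Y Z, v = vec bs X Y Z := ⟨_, _, _, eq_vec bs v⟩

lemma repr_vec (X Y Z : R) : bs.repr (vec bs X Y Z) 0 = X ∧ bs.repr (vec bs X Y Z) 1 = Y ∧
    bs.repr (vec bs X Y Z) 2 = Z := by
  simp [vec, Finsupp.single_apply]

lemma vec_inj {X Y Z X' Y' Z' : R} (h : vec bs X Y Z = vec bs X' Y' Z') :
    X = X' ∧ Y = Y' ∧ Z = Z' := by
  have h0 := repr_vec bs X Y Z
  have h1 := repr_vec bs X' Y' Z'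
  rw [h] at h0
  exact ⟨h0.1.symm.trans h1.1, h0.2.1.symm.trans h1.2.1, h0.2.2.symm.trans h1.2.2⟩

lemma vec_smul (r X Y Z : R) : r • vec bs X Y Z = vec bs (r * X) (r * Y) (r * Z) := by
  simp only [vec]; module

lemma bs0 : bs 0 = vec bs 1 0 0 := by simp [vec]
lemma bs1 : bs 1 = vec bs 0 1 0 := by simp [vec]
lemma bs2 : bs 2 = vec bs 0 0 1 := by simp [vec]

/-- structure constants of `R x ⋉ (R y ⊕ R z)` -/
structure Str (d11 d12 d21 d22 : R) : Prop where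
  hxy : ⁅bs 0, bs 1⁆ = d11 • bs 1 + d21 • bs 2
  hxz : ⁅bs 0, bs 2⁆ = d12 • bs 1 + d22 • bs 2
  hyz : ⁅bs 1, bs 2⁆ = 0

variable {bs} {d11 d12 d21 d22 : R}

lemma Str.lie_vec (S : Str bs d11 d12 d21 d22) (X Y Z X' Y' Z' : R) :
    ⁅vec bs X Y Z, vec bs X' Y' Z'⁆ = vec bs 0
      (d11 * (X * Y' - X' * Y) + d12 * (X * Z' - X' * Z))
      (d21 * (X * Y' - X' * Y) + d22 * (X * Z' - X' * Z)) := by
  have hyx : ⁅bs 1, bs 0⁆ = -⁅bs 0, bs 1⁆ := (lie_skew _ _).symm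
  have hzx : ⁅bs 2, bs 0⁆ = -⁅bs 0, bs 2⁆ := (lie_skew _ _).symm
  have hzy : ⁅bs 2, bs 1⁆ = -⁅bs 1, bs 2⁆ := (lie_skew _ _).symm
  simp only [vec, add_lie, lie_add, smul_lie, lie_smul, lie_self, hyx, hzx, hzy, S.hxy, S.hxz,
    S.hyz]
  module

/-- the matrix of an element -/
def mat (d11 d12 d21 d22 X Y Z : R) : Matrix (Fin 3) (Fin 3) R :=
  !![X * d11, X * d12, Y; X * d21, X * d22, Z; 0, 0, 0]

variable (bs d11 d12 d21 d22) in
noncomputable def emb : L →ₗ[R] Matrix (Fin 3) (Fin 3) R where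
  toFun u := mat d11 d12 d21 d22 (bs.repr u 0) (bs.repr u 1) (bs.repr u 2)
  map_add' u w := by
    ext i j; fin_cases i <;> fin_cases j <;> simp [mat] <;> ring
  map_smul' c u := by
    ext i j; fin_cases i <;> fin_cases j <;> simp [mat] <;> ring

lemma emb_vec (X Y Z : R) :
    emb bs d11 d12 d21 d22 (vec bs X Y Z) = mat d11 d12 d21 d22 X Y Z := by
  show mat _ _ _ _ _ _ _ = _
  obtain ⟨h0, h1, h2⟩ := repr_vec bs X Y Z
  rw [h0, h1, h2]

lemma emb_injective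
    (hD : ∀ X : R, X * d11 = 0 → X * d12 = 0 → X * d21 = 0 → X * d22 = 0 → X = 0) :
    Function.Injective (emb bs d11 d12 d21 d22) := by
  rw [injective_iff_map_eq_zero]
  intro u hu
  obtain ⟨X, Y, Z, rfl⟩ := exists_vec bs u
  rw [emb_vec] at hu
  have e00 := congrFun (congrFun hu 0) 0
  have e01 := congrFun (congrFun hu 0) 1
  have e02 := congrFun (congrFun hu 0) 2
  have e10 := congrFun (congrFun hu 1) 0
  have e11 := congrFun (congrFun hu 1) 1
  have e12 := congrFun (congrFun hu 1) 2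
  simp [mat] at e00 e01 e02 e10 e11 e12
  have hX : X = 0 := hD X e00 e01 e10 e11
  subst hX; subst e02; subst e12
  simp [vec]

lemma emb_lie (S : Str bs d11 d12 d21 d22) (u w : L) :
    emb bs d11 d12 d21 d22 ⁅u, w⁆ =
      emb bs d11 d12 d21 d22 u * emb bs d11 d12 d21 d22 w -
        emb bs d11 d12 d21 d22 w * emb bs d11 d12 d21 d22 u := by
  obtain ⟨X, Y, Z, rfl⟩ := exists_vec bs u
  obtain ⟨X', Y', Z', rfl⟩ := exists_vec bs w
  rw [S.lie_vec, emb_vec, emb_vec, emb_vec]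
  ext i j
  fin_cases i <;> fin_cases j <;> simp [mat, Matrix.mul_apply, Fin.sum_univ_three] <;> ring

theorem exists_pmap (S : Str bs d11 d12 d21 d22)
    (hD : ∀ X : R, X * d11 = 0 → X * d12 = 0 → X * d21 = 0 → X * d22 = 0 → X = 0)
    (p : ℕ) [Fact p.Prime] [CharP R p] (g : L → L)
    (hg : ∀ X Y Z : R, emb bs d11 d12 d21 d22 (g (vec bs X Y Z)) = (mat d11 d12 d21 d22 X Y Z) ^ p) :
    ∃ φ : PLie.PMap R p L, ∀ u, φ u = g u := by
  refine ⟨Jac.pmapOfAssoc (emb bs d11 d12 d21 d22) (emb_injective hD) (emb_lie S) g ?_,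
    fun u => rfl⟩
  intro u
  obtain ⟨X, Y, Z, rfl⟩ := exists_vec bs u
  rw [hg, emb_vec]

end

end Groth.Agent.Helper22.SD3
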