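import Mathlib

/-!
# Semilocal Prüfer domains of finite Krull dimension have finite spectrum
-/

namespace Groth.Agent.Helper22.SemilocalPrufer

universe u

/-- primes below a fixed maximal ideal of a Prüfer domain form a chain -/
theorem chain_below_maximal (R : Type u) [CommRing R] [IsDomain R]
    (hR : ∀ (p : Ideal R) [p.IsPrime], ValuationRing (Localization.AtPrime p))
    (M : Ideal R) [M.IsPrime] (p q : Ideal R) (hp : p.IsPrime) (hq : q.IsPrime)
    (hpM : p ≤ M) (hqM : q ≤ M) : p ≤ q ∨ q ≤ p := by
  haveI := hR M
  have hdisj : ∀ I : Ideal R, I ≤ M → Disjoint (M.primeCompl : Set R) I := by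
    intro I hI
    rw [Set.disjoint_left]
    intro x hx hxI
    exact hx (hI hxI)
  have e1 := IsLocalization.under_map_of_isPrime_disjoint M.primeCompl
    (Localization.AtPrime M) hp (hdisj p hpM)
  have e2 := IsLocalization.under_map_of_isPrime_disjoint M.primeCompl
    (Localization.AtPrime M) hq (hdisj q hqM)
  rcases (ValuationRing.le_total_ideal (A := Localization.AtPrime M)).total
    (Ideal.map (algebraMap R (Localization.AtPrime M)) p)
    (Ideal.map (algebraMap R (Localization.AtPrime M)) q) with h | h
  · left; rw [← e1, ← e2]; exact Ideal.comap_mono h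
  · right; rw [← e1, ← e2]; exact Ideal.comap_mono h

/-- A semilocal Prüfer domain of finite Krull dimension has finitely many primes. -/
theorem finite_primeSpectrum (R : Type u) [CommRing R] [IsDomain R]
    (hR : ∀ (p : Ideal R) [p.IsPrime], ValuationRing (Localization.AtPrime p))
    (hfin : Finite (MaximalSpectrum R)) (hdim : ringKrullDim R < ⊤) :
    Finite (PrimeSpectrum R) := by
  classical
  have hD : ∃ D : ℕ, ∀ p : PrimeSpectrum R, Order.height p ≤ (D : ℕ∞) := by
    have h1 : ∀ p : PrimeSpectrum R, (Order.height p : WithBot ℕ∞) ≤ ringKrullDim R :=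
      fun p => Order.height_le_krullDim p
    cases hk : ringKrullDim R with
    | bot =>
      refine ⟨0, fun p => ?_⟩
      have := h1 p
      rw [hk] at this
      exact absurd this (not_le_of_gt (WithBot.bot_lt_coe _))
    | coe k =>
      rw [hk, ← WithBot.coe_top, WithBot.coe_lt_coe] at hdim
      obtain ⟨D, hDk⟩ := ENat.ne_top_iff_exists.mp hdim.ne
      refine ⟨D, fun p => ?_⟩
      have := h1 p
      rw [hk, WithBot.coe_le_coe] at this
      rw [hDk]
      exact this
  have hfinM : ∀ (M : Ideal R) [M.IsMaximal],
      {p : PrimeSpectrum R | p.asIdeal ≤ M}.Finite := by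
    intro M _
    obtain ⟨D, hD⟩ := hD
    have hinj : ∀ p q : PrimeSpectrum R, p.asIdeal ≤ q.asIdeal →
        Order.height p = Order.height q → p = q := by
      intro p q h hpq
      by_contra hne
      have hlt : p < q := lt_of_le_of_ne (show p ≤ q from h) hne
      have := Order.height_strictMono hlt (lt_of_le_of_lt (hD p) (ENat.coe_lt_top D))
      exact this.ne hpq
    have hfinIic : (Set.Iic (D : ℕ∞)).Finite := by
      refine Set.Finite.subset ((Set.finite_Iic D).image (fun n : ℕ => (n : ℕ∞))) ?_
      intro x hx
      obtain ⟨n, rfl, hn⟩ := ENat.le_coe_iff.mp hx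
      exact ⟨n, hn, rfl⟩
    refine Set.Finite.of_injOn (f := fun p => Order.height p) (t := Set.Iic (D : ℕ∞))
      (fun p _ => hD p) ?_ hfinIic
    intro p hp q hq hpq
    rcases chain_below_maximal R hR M p.asIdeal q.asIdeal p.2 q.2 hp hq with h | h
    · exact hinj p q h hpq
    · exact (hinj q p h hpq.symm).symm
  have hspec : (Set.univ : Set (PrimeSpectrum R)).Finite := by
    have hsub : (Set.univ : Set (PrimeSpectrum R)) ⊆
        ⋃ M : MaximalSpectrum R, {p : PrimeSpectrum R | p.asIdeal ≤ M.asIdeal} := by
      intro p _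
      obtain ⟨M, hM, hpM⟩ := Ideal.exists_le_maximal p.asIdeal p.2.ne_top
      exact Set.mem_iUnion.mpr ⟨⟨M, hM⟩, hpM⟩
    refine Set.Finite.subset ?_ hsub
    exact Set.finite_iUnion (fun M => hfinM M.asIdeal)
  exact Set.finite_univ_iff.mp hspec

/-- A finite type algebra over a ring with finite spectrum has Noetherian spectrum. -/
theorem noetherianSpace_of_finite_primeSpectrum (R : Type u) [CommRing R]
    [Finite (PrimeSpectrum R)] (S : Type u) [CommRing S] [Algebra R S]
    [Algebra.FiniteType R S] : TopologicalSpace.NoetherianSpace (PrimeSpectrum S) := by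
  have hfib : ∀ p : PrimeSpectrum R, TopologicalSpace.NoetherianSpace
      (PrimeSpectrum.comap (algebraMap R S) ⁻¹' {p}) := by
    intro p
    haveI : IsNoetherianRing (p.asIdeal.Fiber S) :=
      Algebra.FiniteType.isNoetherianRing p.asIdeal.ResidueField _
    exact (TopologicalSpace.noetherianSpace_iff_of_homeomorph
      (PrimeSpectrum.preimageHomeomorphFiber R S p)).mpr inferInstance
  have hU := TopologicalSpace.NoetherianSpace.iUnion
    (fun p : PrimeSpectrum R => PrimeSpectrum.comap (algebraMap R S) ⁻¹' {p})
  have huniv : (⋃ p : PrimeSpectrum R, PrimeSpectrum.comap (algebraMap R S) ⁻¹' {p}) =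
      Set.univ := by
    ext x
    simp
  rw [huniv] at hU
  exact TopologicalSpace.noetherian_univ_iff.mp hU

end Groth.Agent.Helper22.SemilocalPrufer
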