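import Mathlib

namespace Groth.Agent.Helper22.SCN

open Polynomial

/-- A monic irreducible polynomial with nonzero derivative over an integrally closed domain with
separably closed fraction field is linear. -/
theorem natDegree_eq_one {B L : Type*} [CommRing B] [IsDomain B] [IsIntegrallyClosed B] [Field L]
    [Algebra B L] [IsFractionRing B L] [IsSepClosed L] {Q : B[X]} (hm : Q.Monic)
    (hirr : Irreducible Q) (hd : derivative Q ≠ 0) : Q.natDegree = 1 := by
  have h1 : Irreducible (Q.map (algebraMap B L)) :=
    (Monic.irreducible_iff_irreducible_map_fraction_map hm).mp hirr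
  have hinj : Function.Injective (algebraMap B L) := IsFractionRing.injective B L
  have h2 : derivative (Q.map (algebraMap B L)) ≠ 0 := by
    rw [derivative_map]
    intro h
    apply hd
    apply Polynomial.map_injective _ hinj
    rw [h, Polynomial.map_zero]
  have h3 : (Q.map (algebraMap B L)).Separable := (separable_iff_derivative_ne_zero h1).mpr h2
  have h4 := IsSepClosed.degree_eq_one_of_irreducible L h1 h3
  have h5 : (Q.map (algebraMap B L)).natDegree = 1 := natDegree_eq_of_degree_eq_some h4
  rwa [natDegree_map_eq_of_injective hinj] at h5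

theorem natDegree_eq_one_of_ker {B L k : Type*} [CommRing B] [IsDomain B] [IsIntegrallyClosed B]
    [Field L] [Algebra B L] [IsFractionRing B L] [IsSepClosed L] [Field k] (φ : B →+* k)
    (hφ : Function.Surjective φ) (b : B) (hb : φ b = 0) (hb0 : b ≠ 0) {q : k[X]} (hq : q.Monic)
    (hirr : Irreducible q) : q.natDegree = 1 := by
  have hl : q ∈ lifts φ := by
    rw [lifts_iff_coeff_lifts]
    intro n; exact hφ _
  obtain ⟨Q, hQ, hQd, hQm⟩ := lifts_and_natDegree_eq_and_monic hl hq
  by_contra hne
  have hpos : 0 < q.natDegree := hirr.natDegree_pos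
  by_cases hd : derivative Q = 0
  · have hdeg : (C b * X : B[X]).degree < Q.degree := by
      calc (C b * X : B[X]).degree ≤ 1 := degree_C_mul_X_le b
        _ < Q.degree := by
          rw [degree_eq_natDegree hQm.ne_zero, hQd]
          exact_mod_cast (by omega : 1 < q.natDegree)
    have hQ₂m : (Q + C b * X).Monic := hQm.add_of_left hdeg
    have hQ₂map : (Q + C b * X).map φ = q := by simp [hQ, hb]
    have hQ₂irr : Irreducible (Q + C b * X) :=
      Polynomial.Monic.irreducible_of_irreducible_map φ _ hQ₂m (by rw [hQ₂map]; exact hirr)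
    have hQ₂d : derivative (Q + C b * X) ≠ 0 := by
      rw [derivative_add, hd, zero_add, derivative_C_mul, derivative_X, mul_one]
      exact fun h => hb0 (C_eq_zero.mp h)
    have h1 := natDegree_eq_one (L := L) hQ₂m hQ₂irr hQ₂d
    have h2 : (Q + C b * X).natDegree = q.natDegree := by
      rw [← hQ₂map]; exact (hQ₂m.natDegree_map φ).symm
    omega
  · have hQirr : Irreducible Q :=
      Polynomial.Monic.irreducible_of_irreducible_map φ Q hQm (by rw [hQ]; exact hirr)
    have h1 := natDegree_eq_one (L := L) hQm hQirr hd
    omega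

theorem exists_root_aux {A L : Type*} [CommRing A] [IsDomain A] [IsLocalRing A]
    [IsIntegrallyClosed A] [Field L] [Algebra A L] [IsFractionRing A L] [IsSepClosed L] (a₀ : A) :
    ∀ n : ℕ, ∀ G : A[X], G.natDegree = n → G.Monic →
      G.eval a₀ ∈ IsLocalRing.maximalIdeal A → IsUnit (G.derivative.eval a₀) →
      ∃ a : A, G.IsRoot a ∧ a - a₀ ∈ IsLocalRing.maximalIdeal A := by
  intro n
  induction n using Nat.strong_induction_on with
  | _ n ih =>
  intro G hn hG h0 h1
  have key : ∀ f g : A[X], f.Monic → g.Monic → f * g = G → g.natDegree ≠ 0 →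
      f.eval a₀ ∈ IsLocalRing.maximalIdeal A →
      ∃ a : A, G.IsRoot a ∧ a - a₀ ∈ IsLocalRing.maximalIdeal A := by
    intro f g hf hg hfg hg0 hf1
    subst hfg
    rw [derivative_mul, eval_add, eval_mul, eval_mul] at h1
    have hdeg : (f * g).natDegree = f.natDegree + g.natDegree := hf.natDegree_mul hg
    have hu : IsUnit (eval a₀ (derivative f) * eval a₀ g) := by
      by_contra hnu
      have h2 : eval a₀ (derivative f) * eval a₀ g ∈ IsLocalRing.maximalIdeal A :=
        (IsLocalRing.mem_maximalIdeal _).mpr hnu
      have h3 : eval a₀ (derivative f) * eval a₀ g + eval a₀ f * eval a₀ (derivative g) ∈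
          IsLocalRing.maximalIdeal A := add_mem h2 (Ideal.mul_mem_right _ _ hf1)
      exact (IsLocalRing.mem_maximalIdeal _).mp h3 h1
    have hu' : IsUnit (eval a₀ (derivative f)) := isUnit_of_mul_isUnit_left hu
    obtain ⟨a, ha, ha'⟩ := ih f.natDegree (by omega) f rfl hf hf1 hu'
    exact ⟨a, by rw [IsRoot.def, eval_mul, ha.eq_zero, zero_mul], ha'⟩
  by_cases hirr : Irreducible G
  · have hd : derivative G ≠ 0 := by
      intro h
      rw [h, eval_zero] at h1
      exact not_isUnit_zero h1
    have hdeg := natDegree_eq_one (L := L) hG hirr hd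
    have hG' : G = X + C (G.coeff 0) := hG.eq_X_add_C hdeg
    have hev : G.eval a₀ = a₀ + G.coeff 0 := by
      conv_lhs => rw [hG']
      simp
    refine ⟨-G.coeff 0, ?_, ?_⟩
    · rw [IsRoot.def]
      conv_lhs => rw [hG']
      simp
    · have h2 : -G.coeff 0 - a₀ = -(G.eval a₀) := by rw [hev]; ring
      rw [h2]; exact neg_mem h0
  · rw [Monic.irreducible_iff_natDegree hG] at hirr
    push_neg at hirr
    have hG1 : G ≠ 1 := by
      rintro rfl
      rw [eval_one] at h0
      exact (IsLocalRing.maximalIdeal.isMaximal A).ne_top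
        ((Ideal.eq_top_iff_one _).mpr h0)
    obtain ⟨f, g, hf, hg, hfg, hf0, hg0⟩ := hirr hG1
    rw [← hfg, eval_mul] at h0
    rcases (IsLocalRing.maximalIdeal.isMaximal A).isPrime.mem_or_mem h0 with hf1 | hg1
    · exact key f g hf hg hfg hg0 hf1
    · exact key g f hg hf (by rw [mul_comm]; exact hfg) hf0 hg1

theorem henselian {A L : Type*} [CommRing A] [IsDomain A] [IsLocalRing A]
    [IsIntegrallyClosed A] [Field L] [Algebra A L] [IsFractionRing A L] [IsSepClosed L] :
    HenselianLocalRing A :=
  { is_henselian := fun f hf a₀ h0 h1 =>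
      exists_root_aux (L := L) a₀ f.natDegree f rfl hf h0 h1 }

theorem isSepClosed_residue {A L : Type*} [CommRing A] [IsDomain A] [IsLocalRing A]
    [IsIntegrallyClosed A] [Field L] [Algebra A L] [IsFractionRing A L] [IsSepClosed L] :
    IsSepClosed (IsLocalRing.ResidueField A) := by
  apply IsSepClosed.of_exists_root
  intro p hp hirr hsep
  have hsurj : Function.Surjective (IsLocalRing.residue A) := IsLocalRing.residue_surjective
  have hl : p ∈ lifts (IsLocalRing.residue A) := by
    rw [lifts_iff_coeff_lifts]
    intro n; exact hsurj _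
  obtain ⟨Q, hQ, hQd, hQm⟩ := lifts_and_natDegree_eq_and_monic hl hp
  have hQirr : Irreducible Q :=
    Polynomial.Monic.irreducible_of_irreducible_map (IsLocalRing.residue A) Q hQm
      (by rw [hQ]; exact hirr)
  have hQd' : derivative Q ≠ 0 := by
    intro h
    have : derivative p = 0 := by rw [← hQ, derivative_map, h, Polynomial.map_zero]
    exact (separable_iff_derivative_ne_zero hirr).mp hsep this
  have h1 := natDegree_eq_one (L := L) hQm hQirr hQd'
  have : p.degree = 1 := by rw [degree_eq_natDegree hp.ne_zero, ← hQd, h1]; rfl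
  exact exists_root_of_degree_eq_one this

theorem isAlgClosed_residueField (A : Type*) [CommRing A] [IsDomain A] [IsIntegrallyClosed A]
    [IsSepClosed (FractionRing A)] (p : Ideal A) [p.IsPrime] (hp : p ≠ ⊥) :
    IsAlgClosed p.ResidueField := by
  let K := FractionRing A
  let B := Localization.AtPrime p
  have hM : p.primeCompl ≤ nonZeroDivisors A := by
    intro x hx
    apply mem_nonZeroDivisors_of_ne_zero
    rintro rfl
    exact hx (Ideal.zero_mem p)
  let g : B →+* K := IsLocalization.map _ (T := nonZeroDivisors A) (RingHom.id A) hM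
  letI := g.toAlgebra
  haveI : IsScalarTower A B K := IsScalarTower.of_algebraMap_eq'
    (by rw [RingHom.algebraMap_toAlgebra, IsLocalization.map_comp, RingHomCompTriple.comp_eq])
  haveI := IsFractionRing.isFractionRing_of_isDomain_of_isLocalization p.primeCompl B K
  haveI : IsDomain B := IsLocalization.isDomain_of_le_nonZeroDivisors B hM
  haveI : IsIntegrallyClosed B := isIntegrallyClosed_of_isLocalization B p.primeCompl hM
  obtain ⟨a, hap, ha0⟩ := Submodule.exists_mem_ne_zero_of_ne_bot hp
  apply IsAlgClosed.of_exists_root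
  intro q hq hirr
  have h1 := natDegree_eq_one_of_ker (L := K) (IsLocalRing.residue B)
    IsLocalRing.residue_surjective (algebraMap A B a) ?_ ?_ hq hirr
  · exact exists_root_of_degree_eq_one (by rw [degree_eq_natDegree hq.ne_zero, h1]; rfl)
  · rw [IsLocalRing.residue_eq_zero_iff]
    exact (IsLocalization.AtPrime.to_map_mem_maximal_iff B p a).mpr hap
  · intro h
    exact ha0 ((IsLocalization.injective B hM) (by rw [h, map_zero]))

end Groth.Agent.Helper22.SCN
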