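import Mathlib
import Groth.Prelude.Def_W4c2movlemaddchowShuffle

/-! Shuffle decomposition bijections (helper22). -/

namespace Groth.Agent.Helper22.Shuffle

open Equiv W4c2movlemaddchow

theorem mono_inv_comp {n : ℕ} {α : Type*} [LinearOrder α] (f : Fin n → α)
    (hf : Function.Injective f) (ρ : Perm (Fin n)) (hρ : Monotone (f ∘ ρ))
    {β : Type*} [Preorder β] (g : β → Fin n) (hg : Monotone (fun b => f (g b))) :
    Monotone (fun b => ρ⁻¹ (g b)) := by
  intro i i' h
  by_contra hlt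
  have hlt' : ρ⁻¹ (g i') < ρ⁻¹ (g i) := not_le.mp hlt
  have h1 : f (g i') ≤ f (g i) := by
    have := hρ hlt'.le
    simpa using this
  have h2 : f (g i) ≤ f (g i') := hg h
  have h3 : g i = g i' := hf (le_antisymm h2 h1)
  rw [h3] at hlt'
  exact lt_irrefl _ hlt'

theorem bijOn_general {N : Type*} [LinearOrder N] {m : ℕ} {B G₁ G₂ : Type*}
    [Preorder B] [Preorder G₁] [Preorder G₂]
    (a : Fin m → N) (b : B → N) (ha : Function.Injective a)
    (hab : ∀ x, (∃ i, a i = x) ∨ (∃ j, b j = x))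
    (E : Perm (Fin m) → Perm N) (hEa : ∀ σ i, E σ (a i) = a (σ i))
    (hEb : ∀ σ j, E σ (b j) = b j) (g₁ : G₁ → Fin m) (g₂ : G₂ → Fin m) :
    Set.BijOn (fun p : Perm N × Perm (Fin m) => p.1 * E p.2)
      ({τ | Monotone (fun i => τ (a i)) ∧ Monotone (fun j => τ (b j))} ×ˢ
        {σ | Monotone (fun i => σ (g₁ i)) ∧ Monotone (fun j => σ (g₂ j))})
      {ν | Monotone (fun i => ν (a (g₁ i))) ∧ Monotone (fun j => ν (a (g₂ j))) ∧
        Monotone (fun l => ν (b l))} := by
  have hrange : ∀ (τ : Perm N) (σ : Perm (Fin m)),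
      Set.range (fun i => (τ * E σ) (a i)) = Set.range (fun i => τ (a i)) := by
    intro τ σ
    ext x
    constructor
    · rintro ⟨i, rfl⟩
      exact ⟨σ i, by simp [Perm.mul_apply, hEa]⟩
    · rintro ⟨i, rfl⟩
      exact ⟨σ⁻¹ i, by simp [Perm.mul_apply, hEa]⟩
  refine ⟨?_, ?_, ?_⟩
  · rintro ⟨τ, σ⟩ ⟨⟨hτa, hτb⟩, ⟨hσ1, hσ2⟩⟩
    refine ⟨?_, ?_, ?_⟩
    · intro i i' h
      show (τ * E σ) (a (g₁ i)) ≤ (τ * E σ) (a (g₁ i'))
      rw [Perm.mul_apply, Perm.mul_apply, hEa, hEa]
      exact hτa (hσ1 h)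
    · intro i i' h
      show (τ * E σ) (a (g₂ i)) ≤ (τ * E σ) (a (g₂ i'))
      rw [Perm.mul_apply, Perm.mul_apply, hEa, hEa]
      exact hτa (hσ2 h)
    · intro l l' h
      show (τ * E σ) (b l) ≤ (τ * E σ) (b l')
      rw [Perm.mul_apply, Perm.mul_apply, hEb, hEb]
      exact hτb h
  · rintro ⟨τ, σ⟩ ⟨⟨hτa, hτb⟩, -⟩ ⟨τ', σ'⟩ ⟨⟨hτ'a, hτ'b⟩, -⟩ h
    have h' : τ * E σ = τ' * E σ' := h
    have hsm : StrictMono (fun i => τ (a i)) :=
      hτa.strictMono_of_injective (τ.injective.comp ha)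
    have hsm' : StrictMono (fun i => τ' (a i)) :=
      hτ'a.strictMono_of_injective (τ'.injective.comp ha)
    have key : (fun i => τ (a i)) = (fun i => τ' (a i)) := by
      apply (StrictMono.range_inj hsm hsm').1
      rw [← hrange τ σ, ← hrange τ' σ', h']
    have hb : ∀ j, τ (b j) = τ' (b j) := by
      intro j
      have := congrArg (fun π : Perm N => π (b j)) h'
      simpa [Perm.mul_apply, hEb] using this
    have hτ : τ = τ' := by
      apply Equiv.ext
      intro x
      rcases hab x with ⟨i, rfl⟩ | ⟨j, rfl⟩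
      · exact congrFun key i
      · exact hb j
    subst hτ
    have hE : E σ = E σ' := mul_left_cancel h'
    have hσ : σ = σ' := by
      apply Equiv.ext
      intro i
      apply ha
      rw [← hEa, ← hEa, hE]
    rw [hσ]
  · rintro ν ⟨h1, h2, h3⟩
    let f : Fin m → N := fun i => ν (a i)
    have hf : Function.Injective f := ν.injective.comp ha
    let ρ : Perm (Fin m) := Tuple.sort f
    have hρ : Monotone (f ∘ ρ) := Tuple.monotone_sort f
    refine ⟨(ν * E ρ, ρ⁻¹), ⟨⟨?_, ?_⟩, ⟨?_, ?_⟩⟩, ?_⟩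
    · intro i i' h
      show (ν * E ρ) (a i) ≤ (ν * E ρ) (a i')
      rw [Perm.mul_apply, Perm.mul_apply, hEa, hEa]
      exact hρ h
    · intro l l' h
      show (ν * E ρ) (b l) ≤ (ν * E ρ) (b l')
      rw [Perm.mul_apply, Perm.mul_apply, hEb, hEb]
      exact h3 h
    · exact mono_inv_comp f hf ρ hρ g₁ h1
    · exact mono_inv_comp f hf ρ hρ g₂ h2
    · show ν * E ρ * E ρ⁻¹ = ν
      apply Equiv.ext
      intro x
      rcases hab x with ⟨i, rfl⟩ | ⟨j, rfl⟩
      · simp [Perm.mul_apply, hEa]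
      · simp [Perm.mul_apply, hEb]

theorem extRight_castAdd (a t : ℕ) (σ : Perm (Fin a)) (i : Fin a) :
    extRight a t σ (Fin.castAdd t i) = Fin.castAdd t (σ i) := by
  simp [extRight, Equiv.permCongr_apply]

theorem extRight_natAdd (a t : ℕ) (σ : Perm (Fin a)) (j : Fin t) :
    extRight a t σ (Fin.natAdd a j) = Fin.natAdd a j := by
  simp [extRight, Equiv.permCongr_apply]

theorem sign_extRight (a t : ℕ) (σ : Perm (Fin a)) :
    Perm.sign (extRight a t σ) = Perm.sign σ := by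
  unfold extRight
  rw [Perm.sign_permCongr]
  exact (Perm.sign_sumCongr σ (Equiv.refl (Fin t))).trans (by simp)

theorem bijOn_extRight (r s t : ℕ) :
    Set.BijOn
      (fun p : Equiv.Perm (Fin (r + s + t)) × Equiv.Perm (Fin (r + s)) =>
        p.1 * extRight (r + s) t p.2)
      ({τ | IsShuffle₂ (r + s) t τ} ×ˢ {σ | IsShuffle₂ r s σ})
      {ν | IsShuffle₃ r s t ν} := by
  have hab : ∀ x : Fin (r + s + t),
      (∃ i, Fin.castAdd t i = x) ∨ (∃ j, Fin.natAdd (r + s) j = x) := fun x =>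
    Fin.addCases (fun i => Or.inl ⟨i, rfl⟩) (fun j => Or.inr ⟨j, rfl⟩) x
  exact bijOn_general (N := Fin (r + s + t)) (m := r + s)
    (Fin.castAdd t) (Fin.natAdd (r + s)) (Fin.castAdd_injective _ _) hab
    (extRight (r + s) t) (extRight_castAdd _ _) (extRight_natAdd _ _)
    (Fin.castAdd s) (Fin.natAdd r)

/-- positions of the last `s + t` letters inside `Fin (r + s + t)`. -/
def posA (r s t : ℕ) : Fin (s + t) → Fin (r + s + t) := fun k =>
  (finCongr (Nat.add_assoc r s t)).symm (Fin.natAdd r k)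

/-- positions of the first `r` letters inside `Fin (r + s + t)`. -/
def posB (r s t : ℕ) : Fin r → Fin (r + s + t) := fun i =>
  (finCongr (Nat.add_assoc r s t)).symm (Fin.castAdd (s + t) i)

theorem extLeft_posB (r s t : ℕ) (σ : Perm (Fin (s + t))) (i : Fin r) :
    extLeft r s t σ (posB r s t i) = posB r s t i := by
  simp [extLeft, posB, Equiv.permCongr_apply]

theorem extLeft_posA (r s t : ℕ) (σ : Perm (Fin (s + t))) (k : Fin (s + t)) :
    extLeft r s t σ (posA r s t k) = posA r s t (σ k) := by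
  simp [extLeft, posA, Equiv.permCongr_apply]

theorem sign_extLeft (r s t : ℕ) (σ : Perm (Fin (s + t))) :
    Perm.sign (extLeft r s t σ) = Perm.sign σ := by
  unfold extLeft
  rw [Perm.sign_permCongr, Perm.sign_permCongr]
  exact (Perm.sign_sumCongr (Equiv.refl (Fin r)) σ).trans (by simp)

theorem posA_castAdd (r s t : ℕ) (j : Fin s) :
    posA r s t (Fin.castAdd t j) = Fin.castAdd t (Fin.natAdd r j) :=
  Fin.ext (by simp [posA])

theorem posA_natAdd (r s t : ℕ) (l : Fin t) :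
    posA r s t (Fin.natAdd s l) = Fin.natAdd (r + s) l :=
  Fin.ext (by simp [posA, Nat.add_assoc])

theorem posB_eq (r s t : ℕ) (i : Fin r) :
    posB r s t i = Fin.castAdd t (Fin.castAdd s i) :=
  Fin.ext (by simp [posB])

theorem bijOn_extLeft (r s t : ℕ) :
    Set.BijOn
      (fun p : Equiv.Perm (Fin (r + s + t)) × Equiv.Perm (Fin (s + t)) =>
        p.1 * extLeft r s t p.2)
      ({τ | IsShuffle₂ r (s + t) ((finCongr (Nat.add_assoc r s t)).permCongr τ)} ×ˢ
        {σ | IsShuffle₂ s t σ})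
      {ν | IsShuffle₃ r s t ν} := by
  have ha : Function.Injective (posA r s t) :=
    (finCongr (Nat.add_assoc r s t)).symm.injective.comp (Fin.natAdd_injective _ _)
  have hab : ∀ x, (∃ i, posA r s t i = x) ∨ (∃ j, posB r s t j = x) := by
    intro x
    obtain ⟨y, rfl⟩ := (finCongr (Nat.add_assoc r s t)).symm.surjective x
    exact Fin.addCases (fun i => Or.inr ⟨i, rfl⟩) (fun k => Or.inl ⟨k, rfl⟩) y
  have key := bijOn_general (posA r s t) (posB r s t) ha hab (extLeft r s t)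
    (fun σ k => extLeft_posA r s t σ k) (fun σ i => extLeft_posB r s t σ i)
    (Fin.castAdd t) (Fin.natAdd s)
  have hS : {τ : Perm (Fin (r + s + t)) |
      IsShuffle₂ r (s + t) ((finCongr (Nat.add_assoc r s t)).permCongr τ)} =
      {τ | Monotone (fun i => τ (posA r s t i)) ∧ Monotone (fun j => τ (posB r s t j))} := by
    ext τ
    constructor
    · rintro ⟨h1, h2⟩
      exact ⟨fun i i' hi => h2 hi, fun i i' hi => h1 hi⟩
    · rintro ⟨h1, h2⟩
      exact ⟨fun i i' hi => h2 hi, fun i i' hi => h1 hi⟩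
  have hT : {ν : Perm (Fin (r + s + t)) | IsShuffle₃ r s t ν} =
      {ν | Monotone (fun i => ν (posA r s t (Fin.castAdd t i))) ∧
        Monotone (fun j => ν (posA r s t (Fin.natAdd s j))) ∧
        Monotone (fun l => ν (posB r s t l))} := by
    ext ν
    simp only [Set.mem_setOf_eq, IsShuffle₃, posA_castAdd, posA_natAdd, posB_eq]
    tauto
  rw [hS, hT]
  exact key

end Groth.Agent.Helper22.Shuffle
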