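import Mathlib

/-!
# Symmetric Frobenius form on a skew group ring over an Artin–Schreier-type algebra (abstract part)
-/

set_option autoImplicit false
set_option linter.unusedSectionVars false
set_option linter.unusedVariables false

namespace Groth.Agent.Helper22.SkewSym

open Polynomial

section Coord

variable {R : Type*} [CommRing R] {A : Type*} [CommRing A] [Algebra R A] {n p : ℕ}
  (u : Fin n → A) (B : Module.Basis (Fin n → Fin p) R A)
  (hB : ∀ e, B e = ∏ i, u i ^ (e i : ℕ))

include hB in
theorem repr_prod_aeval (P : Fin n → R[X]) (hP : ∀ i, (P i).natDegree < p)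
    (e : Fin n → Fin p) :
    B.repr (∏ i, aeval (u i) (P i)) e = ∏ i, (P i).coeff (e i : ℕ) := by
  have h1 : ∀ i, aeval (u i) (P i) = ∑ t : Fin p, (P i).coeff (t : ℕ) • u i ^ (t : ℕ) := by
    intro i
    rw [aeval_eq_sum_range' (hP i), Finset.sum_range]
  have h2 : (∏ i, aeval (u i) (P i)) =
      ∑ e' : Fin n → Fin p, (∏ i, (P i).coeff (e' i : ℕ)) • B e' := by
    rw [Finset.prod_congr rfl (fun i _ => h1 i), Finset.prod_univ_sum, Fintype.piFinset_univ]
    refine Finset.sum_congr rfl (fun e' _ => ?_)
    rw [Finset.prod_smul, hB]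
  rw [h2, B.repr_sum_self]

end Coord

/-- the top exponent -/
def top (n : ℕ) {p : ℕ} (hp : 2 ≤ p) : Fin n → Fin p := fun _ => ⟨p - 1, by omega⟩

section Trace

variable {R : Type*} [CommRing R] {A : Type*} [CommRing A] [Algebra R A] {n p : ℕ}
  (hp : 2 ≤ p)
  (u : Fin n → A) (B : Module.Basis (Fin n → Fin p) R A)
  (hB : ∀ e, B e = ∏ i, u i ^ (e i : ℕ))

/-- the trace form: coefficient of the top monomial -/
noncomputable def tau : A →ₗ[R] R := B.coord (top n hp)

theorem coeff_shift (c : R) (m : ℕ) (hm : m < p) :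
    ((X + C c) ^ m).coeff (p - 1) = ((X : R[X]) ^ m).coeff (p - 1) := by
  rw [coeff_X_add_C_pow, coeff_X_pow]
  rcases Nat.lt_or_ge m (p - 1) with h | h
  · have hne : ¬ (p - 1 = m) := by omega
    rw [Nat.choose_eq_zero_of_lt h, if_neg hne]
    simp
  · have : m = p - 1 := by omega
    subst this
    simp

variable {G : Type*} [Group G] [MulSemiringAction G A] [SMulCommClass G R A]

include hB in
theorem tau_smul_gen (g : G) (c : Fin n → R)
    (hg : ∀ i, g • u i = u i + algebraMap R A (c i)) (a : A) :
    tau hp B (g • a) = tau hp B a := by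
  have key : (tau hp B) ∘ₗ (DistribSMul.toLinearMap R A g) = tau hp B := by
    apply B.ext
    intro e
    rw [LinearMap.comp_apply]
    have h1 : DistribSMul.toLinearMap R A g (B e) =
        ∏ i, aeval (u i) ((X + C (c i)) ^ (e i : ℕ)) := by
      rw [DistribSMul.toLinearMap_apply, hB, Finset.smul_prod']
      refine Finset.prod_congr rfl (fun i _ => ?_)
      rw [smul_pow', hg, map_pow, map_add, aeval_X, aeval_C]
    have h2 : B e = ∏ i, aeval (u i) ((X : R[X]) ^ (e i : ℕ)) := by
      rw [hB]
      refine Finset.prod_congr rfl (fun i _ => ?_)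
      rw [aeval_X_pow]
    have e1 : B.repr (∏ i, aeval (u i) ((X + C (c i)) ^ (e i : ℕ))) (top n hp) =
        ∏ i, ((X + C (c i)) ^ (e i : ℕ)).coeff (top n hp i : ℕ) := by
      refine repr_prod_aeval u B hB (fun i => (X + C (c i)) ^ (e i : ℕ)) (fun i => ?_) (top n hp)
      refine lt_of_le_of_lt ?_ (e i).2
      have h3 : (X + C (c i) : R[X]).natDegree ≤ 1 := by
        rw [natDegree_add_C]
        exact natDegree_X_le
      have := natDegree_pow_le_of_le (e i : ℕ) h3
      simpa using this
    have e2 : B.repr (∏ i, aeval (u i) ((X : R[X]) ^ (e i : ℕ))) (top n hp) =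
        ∏ i, ((X : R[X]) ^ (e i : ℕ)).coeff (top n hp i : ℕ) := by
      refine repr_prod_aeval u B hB (fun i => (X : R[X]) ^ (e i : ℕ)) (fun i => ?_) (top n hp)
      exact lt_of_le_of_lt (natDegree_X_pow_le _) (e i).2
    rw [h1]
    conv_rhs => rw [h2]
    unfold tau
    rw [Module.Basis.coord_apply, Module.Basis.coord_apply, e1, e2]
    refine Finset.prod_congr rfl (fun i _ => ?_)
    exact coeff_shift (c i) (e i) (e i).2
  exact LinearMap.congr_fun key a

include hB in
theorem tau_smul_all (g : G) (hgen : ∀ h : G, h ∈ Subgroup.zpowers g) (c : Fin n → R)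
    (hg : ∀ i, g • u i = u i + algebraMap R A (c i)) (h : G) (a : A) :
    tau hp B (h • a) = tau hp B a := by
  let S : Subgroup G :=
    { carrier := {h | ∀ a : A, tau hp B (h • a) = tau hp B a}
      one_mem' := fun a => by rw [one_smul]
      mul_mem' := fun {x y} hx hy a => by
        have hx' : ∀ a : A, tau hp B (x • a) = tau hp B a := hx
        have hy' : ∀ a : A, tau hp B (y • a) = tau hp B a := hy
        rw [mul_smul, hx', hy']
      inv_mem' := fun {x} hx a => by
        have hx' : ∀ a : A, tau hp B (x • a) = tau hp B a := hx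
        have := hx' (x⁻¹ • a)
        rw [smul_inv_smul] at this
        exact this.symm }
  have hgS : g ∈ S := fun a => tau_smul_gen hp u B hB g c hg a
  have hle : Subgroup.zpowers g ≤ S := Subgroup.zpowers_le.2 hgS
  have hh : h ∈ S := hle (hgen h)
  exact hh a

end Trace

section Dual

variable {R : Type*} [CommRing R] {A : Type*} [CommRing A] [Algebra R A] {p : ℕ}
  (hp : 2 ≤ p) (v : A) (α x : R) (hrel : v ^ p = algebraMap R A α * v + algebraMap R A x)

/-- dual polynomials -/
noncomputable def D (α : R) (p t : ℕ) : R[X] :=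
  if t = 0 then X ^ (p - 1) - C α else X ^ (p - 1 - t)

include hp hrel in
theorem dual_one (s t : ℕ) (hs : s < p) (ht : t < p) :
    ∃ Q : R[X], Q.natDegree < p ∧ aeval v Q = v ^ s * aeval v (D α p t) ∧
      Q.coeff (p - 1) = if s = t then 1 else 0 := by
  by_cases ht0 : t = 0
  · subst ht0
    have hD : D α p 0 = X ^ (p - 1) - C α := if_pos rfl
    by_cases hs0 : s = 0
    · subst hs0
      refine ⟨X ^ (p - 1) - C α, ?_, ?_, ?_⟩
      · refine lt_of_le_of_lt (natDegree_sub_le _ _) (max_lt ?_ ?_)
        · exact lt_of_le_of_lt (natDegree_X_pow_le _) (by omega)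
        · rw [natDegree_C]; omega
      · rw [hD, pow_zero, one_mul]
      · have e1 : ¬ (p - 1 = 0) := by omega
        rw [coeff_sub, coeff_X_pow, coeff_C, if_pos rfl, if_neg e1, sub_zero, if_pos rfl]
    · refine ⟨C x * X ^ (s - 1), ?_, ?_, ?_⟩
      · exact lt_of_le_of_lt (natDegree_C_mul_X_pow_le _ _) (by omega)
      · rw [hD, map_mul, aeval_C, aeval_X_pow, map_sub, aeval_X_pow, aeval_C, mul_sub]
        have h1 : v ^ s * v ^ (p - 1) = v ^ (s - 1) * v ^ p := by
          rw [← pow_add, ← pow_add]; congr 1; omega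
        rw [h1, hrel]
        have h2 : v ^ s = v ^ (s - 1) * v := by
          rw [← pow_succ]; congr 1; omega
        rw [h2]; ring
      · have e1 : ¬ (p - 1 = s - 1) := by omega
        rw [coeff_C_mul_X_pow, if_neg e1, if_neg hs0]
  · have hD : D α p t = X ^ (p - 1 - t) := if_neg ht0
    by_cases hst : s ≤ t
    · refine ⟨X ^ (s + (p - 1 - t)), ?_, ?_, ?_⟩
      · exact lt_of_le_of_lt (natDegree_X_pow_le _) (by omega)
      · rw [hD, aeval_X_pow, aeval_X_pow, pow_add]
      · rw [coeff_X_pow]
        by_cases h : s = t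
        · have e1 : p - 1 = s + (p - 1 - t) := by omega
          rw [if_pos h, if_pos e1]
        · have e1 : ¬ (p - 1 = s + (p - 1 - t)) := by omega
          rw [if_neg h, if_neg e1]
    · refine ⟨C α * X ^ (s - t) + C x * X ^ (s - t - 1), ?_, ?_, ?_⟩
      · refine lt_of_le_of_lt (natDegree_add_le _ _) (max_lt ?_ ?_)
        · exact lt_of_le_of_lt (natDegree_C_mul_X_pow_le _ _) (by omega)
        · exact lt_of_le_of_lt (natDegree_C_mul_X_pow_le _ _) (by omega)
      · rw [hD, aeval_X_pow, map_add, map_mul, map_mul, aeval_C, aeval_C, aeval_X_pow,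
          aeval_X_pow]
        have h1 : v ^ s * v ^ (p - 1 - t) = v ^ (s - t - 1) * v ^ p := by
          rw [← pow_add, ← pow_add]; congr 1; omega
        rw [h1, hrel]
        have h2 : v ^ (s - t) = v ^ (s - t - 1) * v := by
          rw [← pow_succ]; congr 1; omega
        rw [h2]; ring
      · have e1 : ¬ (p - 1 = s - t) := by omega
        have e2 : ¬ (p - 1 = s - t - 1) := by omega
        have e3 : ¬ (s = t) := by omega
        rw [coeff_add, coeff_C_mul_X_pow, coeff_C_mul_X_pow, if_neg e1, if_neg e2, if_neg e3,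
          add_zero]

end Dual

end Groth.Agent.Helper22.SkewSym
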