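import Mathlib
import Groth.Agent.Lib.Helper22.SkewSym1

/-!
# Symmetric Frobenius form on a skew group ring over an Artin–Schreier-type algebra (part 2)
-/

set_option autoImplicit false
set_option linter.unusedSectionVars false
set_option linter.unusedVariables false

namespace Groth.Agent.Helper22.SkewSym

open Polynomial

section Multi

variable {R : Type*} [CommRing R] {A : Type*} [CommRing A] [Algebra R A] {n p : ℕ}
  (hp : 2 ≤ p)
  (u : Fin n → A) (α x : Fin n → R) (B : Module.Basis (Fin n → Fin p) R A)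
  (hB : ∀ e, B e = ∏ i, u i ^ (e i : ℕ))
  (hrel : ∀ i, u i ^ p = algebraMap R A (α i) * u i + algebraMap R A (x i))

/-- the dual basis elements -/
noncomputable def Bstar (e' : Fin n → Fin p) : A := ∏ i, aeval (u i) (D (α i) p (e' i))

include hB hrel in
theorem tau_mul_Bstar (e e' : Fin n → Fin p) :
    tau hp B (B e * Bstar u α e') = if e = e' then 1 else 0 := by
  have hex : ∀ i, ∃ Q : R[X], Q.natDegree < p ∧
      aeval (u i) Q = u i ^ (e i : ℕ) * aeval (u i) (D (α i) p (e' i)) ∧
      Q.coeff (p - 1) = if (e i : ℕ) = (e' i : ℕ) then 1 else 0 :=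
    fun i => dual_one hp (u i) (α i) (x i) (hrel i) (e i) (e' i) (e i).2 (e' i).2
  choose Q hQ1 hQ2 hQ3 using hex
  have h1 : B e * Bstar u α e' = ∏ i, aeval (u i) (Q i) := by
    rw [hB, Bstar, ← Finset.prod_mul_distrib]
    exact Finset.prod_congr rfl (fun i _ => (hQ2 i).symm)
  unfold tau
  rw [h1, Module.Basis.coord_apply, repr_prod_aeval u B hB Q hQ1]
  have h2 : ∀ i, (Q i).coeff ((top n hp i : Fin p) : ℕ) = if e i = e' i then 1 else 0 := by
    intro i
    rw [show ((top n hp i : Fin p) : ℕ) = p - 1 from rfl, hQ3 i]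
    by_cases h : e i = e' i
    · rw [if_pos h, if_pos (by rw [h])]
    · rw [if_neg h, if_neg (fun h' => h (Fin.ext h'))]
  rw [Finset.prod_congr rfl (fun i _ => h2 i), Finset.prod_boole]
  by_cases h : e = e'
  · rw [if_pos h, if_pos (fun i _ => by rw [h])]
  · rw [if_neg h, if_neg]
    intro h'
    exact h (funext fun i => h' i (Finset.mem_univ i))

include hB hrel in
theorem exists_tau_mul (ψ : A →ₗ[R] R) : ∃ b : A, ∀ a : A, ψ a = tau hp B (a * b) := by
  refine ⟨∑ e', ψ (B e') • Bstar u α e', ?_⟩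
  intro a
  have key : ψ = (tau hp B) ∘ₗ (LinearMap.mulRight R (∑ e', ψ (B e') • Bstar u α e')) := by
    apply B.ext
    intro e
    rw [LinearMap.comp_apply, LinearMap.mulRight_apply, Finset.mul_sum, map_sum]
    rw [Finset.sum_eq_single e]
    · rw [mul_smul_comm, map_smul, tau_mul_Bstar hp u α x B hB hrel, if_pos rfl, smul_eq_mul,
        mul_one]
    · intro e' _ hne
      rw [mul_smul_comm, map_smul, tau_mul_Bstar hp u α x B hB hrel, if_neg (Ne.symm hne),
        smul_zero]
    · intro h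
      exact absurd (Finset.mem_univ e) h
  have h3 := LinearMap.congr_fun key a
  rw [LinearMap.comp_apply, LinearMap.mulRight_apply] at h3
  exact h3

include hB hrel in
theorem tau_mul_inj (b : A) (hb : ∀ a : A, tau hp B (a * b) = 0) : b = 0 := by
  haveI : Module.Finite R A := Module.Finite.of_basis B
  let Φ : A →ₗ[R] Module.Dual R A := (LinearMap.mul R A).compr₂ (tau hp B)
  have hΦ : ∀ b a, Φ b a = tau hp B (b * a) := fun b a => rfl
  have hsurj : Function.Surjective Φ := by
    intro ψ
    obtain ⟨b, hb⟩ := exists_tau_mul hp u α x B hB hrel ψ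
    refine ⟨b, ?_⟩
    ext a
    rw [hΦ, mul_comm, ← hb]
  let E := B.toDualEquiv
  have hsurj2 : Function.Surjective (E.symm.toLinearMap ∘ₗ Φ) := by
    rw [LinearMap.coe_comp]
    exact E.symm.surjective.comp hsurj
  have hinj := OrzechProperty.injective_of_surjective_endomorphism _ hsurj2
  have h0 : (E.symm.toLinearMap ∘ₗ Φ) b = (E.symm.toLinearMap ∘ₗ Φ) 0 := by
    rw [map_zero, LinearMap.comp_apply]
    have : Φ b = 0 := by
      ext a
      rw [hΦ, mul_comm, hb]
      rfl
    rw [this, map_zero]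
  exact hinj h0

end Multi

section Skew

variable {R : Type*} [CommRing R] {A : Type*} [CommRing A] [Algebra R A]
  {G : Type*} [Group G] [Finite G] [MulSemiringAction G A] [SMulCommClass G R A]
  (τ : A →ₗ[R] R)
  (hinv : ∀ (h : G) (a : A), τ (h • a) = τ a)
  (hsurj : ∀ ψ : A →ₗ[R] R, ∃ b : A, ∀ a, ψ a = τ (a * b))
  (hinj : ∀ b : A, (∀ a, τ (a * b) = 0) → b = 0)

/-- the symmetrising form on the skew group ring -/
noncomputable def phi : SkewMonoidAlgebra A G →ₗ[R] R :=
  τ ∘ₗ (Finsupp.lapply (1 : G)) ∘ₗ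
    (SkewMonoidAlgebra.coeffLinearEquiv (S := R) (k := A) (G := G)).toLinearMap

theorem phi_apply (f : SkewMonoidAlgebra A G) : phi (G := G) τ f = τ (f.coeff 1) := rfl

include hinv in
theorem phi_symm (x y : SkewMonoidAlgebra A G) :
    phi (G := G) τ (x * y) = phi (G := G) τ (y * x) := by
  induction y using SkewMonoidAlgebra.induction_on with
  | zero => rw [mul_zero, zero_mul]
  | single t b =>
    rw [phi_apply, phi_apply, SkewMonoidAlgebra.coeff_mul_single,
      SkewMonoidAlgebra.coeff_single_mul, one_mul, mul_one]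
    rw [← hinv t (x.coeff t⁻¹ * t⁻¹ • b), smul_mul', smul_inv_smul, mul_comm]
  | add f g hf hg => rw [mul_add, add_mul, map_add, map_add, hf, hg]

include hinj in
theorem phi_inj : Function.Injective
    (fun y : SkewMonoidAlgebra A G => fun x : SkewMonoidAlgebra A G => phi (G := G) τ (x * y)) := by
  intro y y' hyy
  have h0 : ∀ x : SkewMonoidAlgebra A G, phi (G := G) τ (x * (y - y')) = 0 := by
    intro x
    rw [mul_sub, map_sub, sub_eq_zero]
    exact congrFun hyy x
  have h1 : y - y' = 0 := by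
    ext s
    rw [show (0 : SkewMonoidAlgebra A G).coeff s = 0 from rfl]
    have h2 : s⁻¹ • (y - y').coeff s = 0 := by
      apply hinj
      intro a
      have := h0 (SkewMonoidAlgebra.single s⁻¹ a)
      rw [phi_apply, SkewMonoidAlgebra.coeff_single_mul, inv_inv, mul_one] at this
      exact this
    exact (smul_eq_zero_iff_eq s⁻¹).1 h2
  exact sub_eq_zero.1 h1

include hsurj in
theorem phi_surj (ψ : SkewMonoidAlgebra A G →ₗ[R] R) :
    ∃ y : SkewMonoidAlgebra A G, ∀ x, ψ x = phi (G := G) τ (x * y) := by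
  have hex : ∀ s : G, ∃ b : A, ∀ a, ψ (SkewMonoidAlgebra.single s a) = τ (a * b) := by
    intro s
    obtain ⟨b, hb⟩ := hsurj (ψ ∘ₗ SkewMonoidAlgebra.lsingle R s)
    exact ⟨b, fun a => hb a⟩
  choose b hb using hex
  refine ⟨SkewMonoidAlgebra.ofCoeff (Finsupp.equivFunOnFinite.symm (fun t : G => t • b t⁻¹)), ?_⟩
  intro x
  induction x using SkewMonoidAlgebra.induction_on with
  | zero => rw [zero_mul, map_zero, map_zero]
  | single s a =>
    rw [hb, phi_apply, SkewMonoidAlgebra.coeff_single_mul, mul_one]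
    have h3 : (SkewMonoidAlgebra.ofCoeff
        (Finsupp.equivFunOnFinite.symm (fun t : G => t • b t⁻¹))).coeff s⁻¹ = s⁻¹ • b s := by
      simp only [SkewMonoidAlgebra.coeff_ofCoeff, Finsupp.coe_equivFunOnFinite_symm, inv_inv]
    rw [h3, smul_inv_smul]
  | add f g hf hg => rw [add_mul, map_add, map_add, hf, hg]

end Skew

section Main

variable {R : Type*} [CommRing R] {A : Type*} [CommRing A] [Algebra R A] {n p : ℕ}
  (hp : 2 ≤ p)
  (u : Fin n → A) (α x : Fin n → R) (B : Module.Basis (Fin n → Fin p) R A)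
  (hB : ∀ e, B e = ∏ i, u i ^ (e i : ℕ))
  (hrel : ∀ i, u i ^ p = algebraMap R A (α i) * u i + algebraMap R A (x i))
  {G : Type*} [Group G] [Finite G] [MulSemiringAction G A] [SMulCommClass G R A]

include hp hB hrel in
theorem main (g : G) (hgen : ∀ h : G, h ∈ Subgroup.zpowers g) (c : Fin n → R)
    (hg : ∀ i, g • u i = u i + algebraMap R A (c i)) :
    ∃ φ : SkewMonoidAlgebra A G →ₗ[R] R,
      (∀ x y : SkewMonoidAlgebra A G, φ (x * y) = φ (y * x)) ∧
      Function.Injective
        (fun y : SkewMonoidAlgebra A G => fun x : SkewMonoidAlgebra A G => φ (x * y)) ∧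
      ∀ ψ : SkewMonoidAlgebra A G →ₗ[R] R, ∃ y : SkewMonoidAlgebra A G, ∀ x, ψ x = φ (x * y) :=
  ⟨phi (G := G) (tau hp B),
    phi_symm (tau hp B) (tau_smul_all hp u B hB g hgen c hg),
    phi_inj (tau hp B) (tau_mul_inj hp u α x B hB hrel),
    phi_surj (tau hp B) (exists_tau_mul hp u α x B hB hrel)⟩

end Main

end Groth.Agent.Helper22.SkewSym
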