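import Mathlib
import Groth.Agent.Lib.Helper22.SkewSym2
import Groth.Agent.Lib.Helper23.ASAlg

/-!
# Symmetric Frobenius form on the skew group ring of the Artin–Schreier family (glue)
-/

set_option autoImplicit false
set_option linter.unusedSectionVars false
set_option linter.unusedVariables false

universe u v

namespace Groth.Agent.Helper22.SkewSym

open Groth.Agent.Helper23.ASAlg Groth.Agent.Helper23.MonicBasis

theorem glue (p : ℕ) [Fact p.Prime] (k : Type u) [Field k] [CharP k p] (n : ℕ)
    (a : Fin n → MvPowerSeries (Fin n) k)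
    (J : Ideal (MvPolynomial (Fin n) (MvPowerSeries (Fin n) k)))
    (hJ : J = Ideal.span (Set.range (FG (Gp p k n a))))
    (G : Type v) [Group G] [Finite G]
    [MulSemiringAction G (MvPolynomial (Fin n) (MvPowerSeries (Fin n) k) ⧸ J)]
    [SMulCommClass G (MvPowerSeries (Fin n) k)
      (MvPolynomial (Fin n) (MvPowerSeries (Fin n) k) ⧸ J)]
    (g : G) (hgen : ∀ h : G, h ∈ Subgroup.zpowers g)
    (hact : ∀ i, g • (Ideal.Quotient.mk J (MvPolynomial.X i)) =
      Ideal.Quotient.mk J (MvPolynomial.X i) +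
        algebraMap (MvPowerSeries (Fin n) k)
          (MvPolynomial (Fin n) (MvPowerSeries (Fin n) k) ⧸ J) (a i)) :
    ∃ φ : SkewMonoidAlgebra (MvPolynomial (Fin n) (MvPowerSeries (Fin n) k) ⧸ J) G
        →ₗ[MvPowerSeries (Fin n) k] MvPowerSeries (Fin n) k,
      (∀ x y : SkewMonoidAlgebra (MvPolynomial (Fin n) (MvPowerSeries (Fin n) k) ⧸ J) G,
        φ (x * y) = φ (y * x)) ∧
      Function.Injective
        (fun y : SkewMonoidAlgebra (MvPolynomial (Fin n) (MvPowerSeries (Fin n) k) ⧸ J) G =>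
          fun x : SkewMonoidAlgebra (MvPolynomial (Fin n) (MvPowerSeries (Fin n) k) ⧸ J) G =>
            φ (x * y)) ∧
      ∀ ψ : SkewMonoidAlgebra (MvPolynomial (Fin n) (MvPowerSeries (Fin n) k) ⧸ J) G
          →ₗ[MvPowerSeries (Fin n) k] MvPowerSeries (Fin n) k,
        ∃ y : SkewMonoidAlgebra (MvPolynomial (Fin n) (MvPowerSeries (Fin n) k) ⧸ J) G,
          ∀ x, ψ x = φ (x * y) := by
  subst hJ
  let B := (bas p k n a).reindex
    (Equiv.piCongrRight fun i => finCongr (Gp_natDegree p k n a i))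
  have hB : ∀ e, B e = ∏ i, uu p k n a i ^ (e i : ℕ) := by
    intro e
    rw [Module.Basis.reindex_apply, bas_apply]
    unfold mon
    refine Finset.prod_congr rfl (fun i _ => ?_)
    rfl
  exact main (two_le_p p) (uu p k n a) (fun i => a i ^ (p - 1)) (fun i => MvPowerSeries.X i)
    B hB (rel p k n a) g hgen a hact

end Groth.Agent.Helper22.SkewSym
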