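import Mathlib
import Groth.Prelude.Def_ArtFun

/-!
# Freeness from injectivity on small extensions (helper22)
-/

namespace Groth.Agent.Helper22.SmallExtFree

open TensorProduct CategoryTheory

universe u

/-- The diagram chase: injectivity for `J'` and for `J/J'` gives injectivity for `J`. -/
theorem chase {R : Type*} [CommRing R] {M : Type*} [AddCommGroup M] [Module R M]
    {J' J : Ideal R} (hJ'J : J' ≤ J) {A' : Type*} [AddCommGroup A'] [Module R A']
    (I : Submodule R A') (π : R →ₗ[R] A')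
    (hI : ∀ r, π r ∈ I ↔ r ∈ J) (hsurj : ∀ y ∈ I, ∃ r, π r = y) (hker : ∀ r, π r = 0 ↔ r ∈ J')
    (h1 : Function.Injective (LinearMap.lTensor M I.subtype))
    (h2 : Function.Injective (LinearMap.lTensor M J'.subtype)) :
    Function.Injective (LinearMap.lTensor M J.subtype) := by
  let q : J →ₗ[R] I := LinearMap.codRestrict I (π ∘ₗ J.subtype) (fun c => (hI c).2 c.2)
  have hq : Function.Surjective q := by
    rintro ⟨y, hy⟩
    obtain ⟨r, rfl⟩ := hsurj y hy
    exact ⟨⟨r, (hI r).1 hy⟩, rfl⟩
  have hex : Function.Exact (Submodule.inclusion hJ'J) q := by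
    intro c
    constructor
    · intro hc
      have h0 : π c = 0 := congrArg Subtype.val hc
      exact ⟨⟨c, (hker c).1 h0⟩, rfl⟩
    · rintro ⟨c', rfl⟩
      exact Subtype.ext ((hker c').2 c'.2)
  have hcomm1 : I.subtype ∘ₗ q = π ∘ₗ J.subtype := rfl
  have hcomm2 : J.subtype ∘ₗ Submodule.inclusion hJ'J = J'.subtype := rfl
  rw [injective_iff_map_eq_zero]
  intro x hx
  have ha : LinearMap.lTensor M I.subtype (LinearMap.lTensor M q x) = 0 := by
    rw [← LinearMap.comp_apply, ← LinearMap.lTensor_comp, hcomm1, LinearMap.lTensor_comp,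
      LinearMap.comp_apply, hx, map_zero]
  have hb : LinearMap.lTensor M q x = 0 := h1 (by rw [ha, map_zero])
  obtain ⟨x', rfl⟩ := (lTensor_exact M hex hq x).1 hb
  have hd : LinearMap.lTensor M J'.subtype x' = 0 := by
    rw [← hcomm2, LinearMap.lTensor_comp, LinearMap.comp_apply]
    exact hx
  have hx'0 : x' = 0 := h2 (by rw [hd, map_zero])
  rw [hx'0, map_zero]

variable {R : Type u} [CommRing R] [IsArtinianRing R] [IsLocalRing R]
  {k : Type u} [Field k] [Algebra R k]

theorem ker_eq (hk : Function.Surjective (algebraMap R k)) :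
    RingHom.ker (algebraMap R k) = IsLocalRing.maximalIdeal R :=
  IsLocalRing.eq_maximalIdeal (RingHom.ker_isMaximal_of_surjective _ hk)

omit [IsArtinianRing R] in
theorem isLocalRing_quot (J : Ideal R) (hJ : J ≤ IsLocalRing.maximalIdeal R) :
    IsLocalRing (R ⧸ J) := by
  haveI : Nontrivial (R ⧸ J) := Ideal.Quotient.nontrivial_iff.2 (fun h =>
    (IsLocalRing.maximalIdeal.isMaximal R).ne_top (top_le_iff.1 (h ▸ hJ)))
  exact IsLocalRing.of_surjective' (Ideal.Quotient.mk J) Ideal.Quotient.mk_surjective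

/-- The augmentation `R ⧸ J → k`. -/
noncomputable def resQ (hk : Function.Surjective (algebraMap R k)) (J : Ideal R)
    (hJ : J ≤ IsLocalRing.maximalIdeal R) : (R ⧸ J) →ₐ[R] k :=
  Ideal.Quotient.liftₐ J (Algebra.ofId R k) (fun a ha => by
    have h1 : a ∈ RingHom.ker (algebraMap R k) := by rw [ker_eq hk]; exact hJ ha
    exact RingHom.mem_ker.1 h1)

/-- `R ⧸ J` as an object of `Art R k`. -/
noncomputable abbrev artQ (hk : Function.Surjective (algebraMap R k)) (J : Ideal R)
    (hJ : J ≤ IsLocalRing.maximalIdeal R) : ArtFun.Art R k where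
  carrier := R ⧸ J
  isLocalRing := isLocalRing_quot J hJ
  res := resQ hk J hJ
  res_surjective := fun c => by
    obtain ⟨r, rfl⟩ := hk c
    exact ⟨Ideal.Quotient.mk J r, rfl⟩

/-- The projection `R ⧸ J' → R ⧸ J` as a morphism of `Art R k`. -/
noncomputable def artMap (hk : Function.Surjective (algebraMap R k)) {J' J : Ideal R}
    (hJ'J : J' ≤ J) (hJ : J ≤ IsLocalRing.maximalIdeal R) :
    artQ hk J' (hJ'J.trans hJ) ⟶ artQ hk J hJ :=
  ArtFun.Art.homMk (Ideal.Quotient.factorₐ R hJ'J) (by
    refine AlgHom.ext fun y => ?_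
    obtain ⟨r, rfl⟩ := Ideal.Quotient.mk_surjective y
    rfl)

theorem artMap_mk (hk : Function.Surjective (algebraMap R k)) {J' J : Ideal R}
    (hJ'J : J' ≤ J) (hJ : J ≤ IsLocalRing.maximalIdeal R) (r : R) :
    (artMap hk hJ'J hJ).toAlgHom (Ideal.Quotient.mk J' r) = Ideal.Quotient.mk J r := rfl

theorem mem_ker_artMap (hk : Function.Surjective (algebraMap R k)) {J' J : Ideal R}
    (hJ'J : J' ≤ J) (hJ : J ≤ IsLocalRing.maximalIdeal R) (r : R) :
    Ideal.Quotient.mk J' r ∈ RingHom.ker (artMap hk hJ'J hJ).toAlgHom ↔ r ∈ J := by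
  rw [RingHom.mem_ker, artMap_mk]
  exact Ideal.Quotient.eq_zero_iff_mem

theorem artMap_isSmallExt (hk : Function.Surjective (algebraMap R k)) {J' J : Ideal R}
    (hJ'J : J' ≤ J) (hJ : J ≤ IsLocalRing.maximalIdeal R)
    (x : R) (hxJ : x ∈ J) (hxJ' : x ∉ J') (hsup : J ≤ J' ⊔ Ideal.span {x})
    (hmul : IsLocalRing.maximalIdeal R * J ≤ J') :
    ArtFun.Art.IsSmallExt (artMap hk hJ'J hJ) := by
  refine ⟨?_, ?_, ?_, ?_⟩
  · intro y
    obtain ⟨r, rfl⟩ := Ideal.Quotient.mk_surjective y
    exact ⟨Ideal.Quotient.mk J' r, rfl⟩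
  · intro hbot
    have h1 : Ideal.Quotient.mk J' x ∈ RingHom.ker (artMap hk hJ'J hJ).toAlgHom :=
      (mem_ker_artMap hk hJ'J hJ x).2 hxJ
    rw [hbot, Ideal.mem_bot] at h1
    exact hxJ' (Ideal.Quotient.eq_zero_iff_mem.1 h1)
  · refine ⟨⟨Ideal.Quotient.mk J' x, ?_⟩⟩
    apply le_antisymm
    · intro y hy
      obtain ⟨r, rfl⟩ := Ideal.Quotient.mk_surjective y
      have hr : r ∈ J := (mem_ker_artMap hk hJ'J hJ r).1 hy
      obtain ⟨j', hj', z, hz, rfl⟩ := Submodule.mem_sup.1 (hsup hr)
      obtain ⟨a, rfl⟩ := Ideal.mem_span_singleton'.1 hz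
      rw [map_add, Ideal.Quotient.eq_zero_iff_mem.2 hj', zero_add, map_mul]
      exact Ideal.mul_mem_left _ _ (Ideal.subset_span (Set.mem_singleton _))
    · rw [Submodule.span_le]
      exact Set.singleton_subset_iff.2 ((mem_ker_artMap hk hJ'J hJ x).2 hxJ)
  · rw [eq_bot_iff, Ideal.mul_le]
    intro a ha b hb
    obtain ⟨s, rfl⟩ := Ideal.Quotient.mk_surjective a
    obtain ⟨r, rfl⟩ := Ideal.Quotient.mk_surjective b
    have hr : r ∈ J := (mem_ker_artMap hk hJ'J hJ r).1 hb
    have hs : s ∈ IsLocalRing.maximalIdeal R := by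
      haveI : IsLocalRing (R ⧸ J') := isLocalRing_quot J' (hJ'J.trans hJ)
      have ha : Ideal.Quotient.mk J' s ∈ IsLocalRing.maximalIdeal (R ⧸ J') := ha
      rw [IsLocalRing.mem_maximalIdeal, mem_nonunits_iff] at ha ⊢
      exact fun hu => ha (hu.map (Ideal.Quotient.mk J'))
    rw [Ideal.mem_bot, ← map_mul]
    exact Ideal.Quotient.eq_zero_iff_mem.2 (hmul (Ideal.mul_mem_mul hs hr))

theorem lTensor_subtype_injective (hk : Function.Surjective (algebraMap R k))
    (M : Type u) [AddCommGroup M] [Module R M]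
    (h : ∀ (A' A : ArtFun.Art R k) (p : A' ⟶ A), ArtFun.Art.IsSmallExt p →
      Function.Injective
        (LinearMap.lTensor M (((RingHom.ker p.toAlgHom).restrictScalars R).subtype))) :
    ∀ J : Ideal R, J ≤ IsLocalRing.maximalIdeal R →
      Function.Injective (LinearMap.lTensor M J.subtype) := by
  intro J
  induction J using WellFoundedLT.induction with
  | ind J ih =>
  intro hJ
  by_cases hbot : J = ⊥
  · subst hbot
    have hsub : ∀ z : M ⊗[R] (⊥ : Ideal R), z = 0 := by
      intro z
      induction z using TensorProduct.induction_on with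
      | zero => rfl
      | tmul m0 y =>
        have hy : y = 0 := Subsingleton.elim _ _
        rw [hy, TensorProduct.tmul_zero]
      | add a b ha hb => rw [ha, hb, add_zero]
    intro a b _
    rw [hsub a, hsub b]
  · have hfg : (J : Submodule R R).FG := IsNoetherian.noetherian J
    have hnot : ¬ J ≤ IsLocalRing.maximalIdeal R • J := fun hle =>
      hbot (Submodule.eq_bot_of_le_smul_of_le_jacobson_bot (IsLocalRing.maximalIdeal R) J hfg hle
        (IsLocalRing.maximalIdeal_le_jacobson ⊥))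
    obtain ⟨x, hxJ, hxm⟩ := SetLike.not_le_iff_exists.1 hnot
    obtain ⟨J', ⟨hJ'1, hJ'2, hJ'3⟩, hmax⟩ :=
      set_has_maximal_iff_noetherian.2 (inferInstance : IsNoetherian R R)
        {J'' : Submodule R R | IsLocalRing.maximalIdeal R • J ≤ J'' ∧ J'' ≤ J ∧ x ∉ J''}
        ⟨IsLocalRing.maximalIdeal R • J, le_rfl, Submodule.smul_le_right, hxm⟩
    have hsup : J ≤ J' ⊔ Ideal.span {x} := by
      intro y hy
      by_cases hyJ' : y ∈ J'
      · exact Submodule.mem_sup_left hyJ'
      · have hlt : J' < J' ⊔ Ideal.span {y} := by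
          refine lt_of_le_of_ne le_sup_left fun heq => hyJ' ?_
          rw [heq]
          exact Submodule.mem_sup_right (Ideal.subset_span (Set.mem_singleton _))
        have hxin : x ∈ J' ⊔ Ideal.span {y} := by
          by_contra hx'
          exact hmax (J' ⊔ Ideal.span {y})
            ⟨hJ'1.trans le_sup_left,
              sup_le hJ'2 ((Ideal.span_singleton_le_iff_mem _).2 hy), hx'⟩ hlt
        obtain ⟨j', hj', z, hz, hsum⟩ := Submodule.mem_sup.1 hxin
        obtain ⟨a, rfl⟩ := Ideal.mem_span_singleton'.1 hz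
        by_cases ha : IsUnit a
        · obtain ⟨a', ha'⟩ := ha.exists_left_inv
          have h3 : a' * x = a' * j' + y := by
            rw [← hsum, mul_add, ← mul_assoc, ha', one_mul]
          have hy' : y = (-(a' * j')) + a' * x := by
            rw [h3]; ring
          rw [hy']
          exact Submodule.add_mem_sup (J'.neg_mem (Ideal.mul_mem_left _ _ hj'))
            (Ideal.mem_span_singleton'.2 ⟨a', rfl⟩)
        · exfalso
          have ham : a ∈ IsLocalRing.maximalIdeal R := (IsLocalRing.mem_maximalIdeal a).2 ha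
          have h4 : a * y ∈ J' := hJ'1 (Submodule.smul_mem_smul ham hy)
          exact hJ'3 (hsum ▸ J'.add_mem hj' h4)
    have hltJ : J' < J := lt_of_le_of_ne hJ'2 (fun heq => hJ'3 (heq ▸ hxJ))
    have hJ'm : J' ≤ IsLocalRing.maximalIdeal R := hJ'2.trans hJ
    have hsmall := artMap_isSmallExt hk hJ'2 hJ x hxJ hJ'3 hsup hJ'1
    have hinj := h _ _ (artMap hk hJ'2 hJ) hsmall
    refine chase hJ'2 ((RingHom.ker (artMap hk hJ'2 hJ).toAlgHom).restrictScalars R)
      (Algebra.linearMap R (R ⧸ J')) ?_ ?_ ?_ hinj (ih J' hltJ hJ'm)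
    · intro r
      exact mem_ker_artMap hk hJ'2 hJ r
    · intro y _
      obtain ⟨r, rfl⟩ := Ideal.Quotient.mk_surjective y
      exact ⟨r, rfl⟩
    · intro r
      exact Ideal.Quotient.eq_zero_iff_mem

theorem main (hk : Function.Surjective (algebraMap R k))
    (M : Type u) [AddCommGroup M] [Module R M] [Module.Finite R M]
    (h : ∀ (A' A : ArtFun.Art R k) (p : A' ⟶ A), ArtFun.Art.IsSmallExt p →
      Function.Injective
        (LinearMap.lTensor M (((RingHom.ker p.toAlgHom).restrictScalars R).subtype))) :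
    Module.Free R M := by
  haveI : Module.FinitePresentation R M := Module.finitePresentation_of_finite R M
  apply Module.free_of_maximalIdeal_rTensor_injective
  rw [← LinearMap.lTensor_inj_iff_rTensor_inj]
  exact lTensor_subtype_injective hk M h _ le_rfl

end Groth.Agent.Helper22.SmallExtFree
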