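import Mathlib
import Groth.Agent.Lib.Helper29.Azumaya

/-!
# Descent of bijectivity along ring maps that are surjective on spectra (finite projective modules)
-/

set_option autoImplicit false

namespace Groth.Agent.Helper22.SpecSurj

open TensorProduct Function

universe u v w

section

variable {R : Type u} [CommRing R] {S : Type v} [CommRing S] [Algebra R S]

/-- A finite module which dies after a base change that is surjective on spectra is zero. -/
theorem subsingleton_of_baseChange
    (hS : Surjective (PrimeSpectrum.comap (algebraMap R S)))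
    (C : Type w) [AddCommGroup C] [Module R C] [Module.Finite R C]
    [Subsingleton (S ⊗[R] C)] : Subsingleton C := by
  by_contra hC
  rw [not_subsingleton_iff_nontrivial] at hC
  have hbt : (⊥ : Submodule R C) ≠ ⊤ := bot_ne_top
  obtain ⟨N, hN, _⟩ := (eq_top_or_exists_le_coatom (⊥ : Submodule R C)).resolve_left hbt
  have hsimple : IsSimpleModule R (C ⧸ N) := isSimpleModule_iff_isCoatom.mpr hN
  obtain ⟨m, hm, ⟨e⟩⟩ := isSimpleModule_iff_quot_maximal.mp hsimple
  obtain ⟨𝔮, h𝔮⟩ := hS ⟨m, hm.isPrime⟩
  have hcomap : ∀ r : R, r ∈ m → algebraMap R S r ∈ 𝔮.asIdeal := by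
    intro r hr
    have : (PrimeSpectrum.comap (algebraMap R S) 𝔮).asIdeal = m := by rw [h𝔮]
    rw [← this] at hr
    exact hr
  let ψ' : (R ⧸ m) →ₗ[R] (S ⧸ 𝔮.asIdeal) :=
    Submodule.liftQ m (Algebra.linearMap R (S ⧸ 𝔮.asIdeal)) (by
      intro r hr
      rw [LinearMap.mem_ker, Algebra.linearMap_apply, IsScalarTower.algebraMap_apply R S,
        Ideal.Quotient.algebraMap_eq, Ideal.Quotient.eq_zero_iff_mem]
      exact hcomap r hr)
  let ψ : C →ₗ[R] (S ⧸ 𝔮.asIdeal) := ψ' ∘ₗ e.toLinearMap ∘ₗ N.mkQ
  obtain ⟨c, hc⟩ : ∃ c : C, ψ c = 1 := by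
    obtain ⟨x, hx⟩ := e.surjective (Submodule.Quotient.mk 1)
    obtain ⟨c, rfl⟩ := N.mkQ_surjective x
    refine ⟨c, ?_⟩
    show ψ' (e (N.mkQ c)) = 1
    rw [hx]
    show (Algebra.linearMap R (S ⧸ 𝔮.asIdeal)) 1 = 1
    simp
  have h1 : LinearMap.liftBaseChange S ψ ((1 : S) ⊗ₜ[R] c) = 1 := by
    rw [LinearMap.liftBaseChange_tmul, one_smul, hc]
  have h2 : ((1 : S) ⊗ₜ[R] c : S ⊗[R] C) = 0 := Subsingleton.elim _ _
  rw [h2, map_zero] at h1
  have : Nontrivial (S ⧸ 𝔮.asIdeal) := Ideal.Quotient.nontrivial_iff.mpr 𝔮.isPrime.ne_top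
  exact zero_ne_one h1

/-- surjectivity descends -/
theorem surjective_of_baseChange
    (hS : Surjective (PrimeSpectrum.comap (algebraMap R S)))
    {P : Type w} {Q : Type w} [AddCommGroup P] [Module R P] [AddCommGroup Q] [Module R Q]
    [Module.Finite R Q] (f : P →ₗ[R] Q) (h : Surjective (f.baseChange S)) : Surjective f := by
  haveI : Subsingleton (S ⊗[R] (Q ⧸ LinearMap.range f)) := by
    refine ⟨fun x y => ?_⟩
    have h0 : ∀ z : S ⊗[R] (Q ⧸ LinearMap.range f), z = 0 := by
      intro z
      obtain ⟨q, rfl⟩ := LinearMap.lTensor_surjective S (Submodule.mkQ_surjective _) z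
      obtain ⟨p, rfl⟩ := h q
      change (LinearMap.range f).mkQ.lTensor S (f.lTensor S p) = 0
      rw [← LinearMap.comp_apply, ← LinearMap.lTensor_comp]
      have : (LinearMap.range f).mkQ ∘ₗ f = 0 := by
        ext p; simp
      rw [this, LinearMap.lTensor_zero, LinearMap.zero_apply]
    rw [h0 x, h0 y]
  have hsub : Subsingleton (Q ⧸ LinearMap.range f) := subsingleton_of_baseChange hS _
  rw [← LinearMap.range_eq_top]
  exact Submodule.Quotient.subsingleton_iff.mp hsub

/-- bijectivity descends for maps from a finite module onto a finite projective module -/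
theorem bijective_of_baseChange
    (hS : Surjective (PrimeSpectrum.comap (algebraMap R S)))
    {P : Type w} {Q : Type w} [AddCommGroup P] [Module R P] [AddCommGroup Q] [Module R Q]
    [Module.Finite R P] [Module.Finite R Q] [Module.Projective R Q]
    (f : P →ₗ[R] Q) (h : Bijective (f.baseChange S)) : Bijective f := by
  have hsurj := surjective_of_baseChange hS f h.2
  refine ⟨?_, hsurj⟩
  obtain ⟨s, hs⟩ := Module.projective_lifting_property f LinearMap.id hsurj
  -- projection onto the kernel
  let π : P →ₗ[R] LinearMap.ker f :=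
    (LinearMap.id - s ∘ₗ f).codRestrict (LinearMap.ker f) (by
      intro x
      rw [LinearMap.mem_ker, LinearMap.sub_apply, map_sub, LinearMap.id_apply,
        LinearMap.comp_apply, ← LinearMap.comp_apply f s, hs, LinearMap.id_apply, sub_self])
  have hπι : π ∘ₗ (LinearMap.ker f).subtype = LinearMap.id := by
    ext x
    show (x : P) - s (f x) = x
    rw [(LinearMap.mem_ker).mp x.2, map_zero, sub_zero]
  have hπsurj : Surjective π := fun x => ⟨x, LinearMap.congr_fun hπι x⟩
  haveI : Module.Finite R (LinearMap.ker f) := Module.Finite.of_surjective π hπsurj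
  haveI : Subsingleton (S ⊗[R] (LinearMap.ker f)) := by
    refine ⟨fun x y => ?_⟩
    have h0 : ∀ z : S ⊗[R] (LinearMap.ker f), z = 0 := by
      intro z
      have h1 : (LinearMap.ker f).subtype.baseChange S z = 0 := by
        apply h.1
        rw [map_zero, ← LinearMap.comp_apply, ← LinearMap.baseChange_comp]
        have : f ∘ₗ (LinearMap.ker f).subtype = 0 := by
          ext x; exact x.2
        rw [this, LinearMap.baseChange_zero, LinearMap.zero_apply]
      have h2 := congrArg (π.baseChange S) h1
      rw [← LinearMap.comp_apply, ← LinearMap.baseChange_comp, hπι, LinearMap.baseChange_id,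
        map_zero] at h2
      exact h2
    rw [h0 x, h0 y]
  have hsub : Subsingleton (LinearMap.ker f) := subsingleton_of_baseChange hS _
  rw [← LinearMap.ker_eq_bot]
  exact Submodule.subsingleton_iff_eq_bot.mp hsub

end

end Groth.Agent.Helper22.SpecSurj
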