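import Mathlib

set_option autoImplicit false

namespace Groth.Agent.Helper22.Spread

open Algebra

universe u v

theorem exists_smooth_subalgebra {R : Type u} {K : Type v} [CommRing R] [IsNoetherianRing R]
    [Field K] [Algebra R K] (B : Subalgebra R K) [Algebra.FiniteType R B]
    (hfrac : ∀ z : K, ∃ x y : B, z = (x : K) / (y : K)) [Algebra.FormallySmooth R K] :
    ∃ A : Subalgebra R K, Algebra.FiniteType R A ∧ Algebra.Smooth R A ∧ IsFractionRing A K ∧
      ∀ z : K, ∃ x y : A, z = (x : K) / (y : K) := by
  classical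
  haveI : IsFractionRing B K := IsFractionRing.of_field B K (fun z => by
    obtain ⟨x, y, hxy⟩ := hfrac z
    exact ⟨x, y, hxy⟩)
  haveI : Algebra.FinitePresentation R B :=
    Algebra.FinitePresentation.of_finiteType.mp inferInstance
  haveI : (⊥ : Ideal B).IsPrime := Ideal.isPrime_bot
  haveI : IsLocalization (⊥ : Ideal B).primeCompl K := by
    rw [Ideal.primeCompl_bot]; infer_instance
  let e : Localization.AtPrime (⊥ : Ideal B) ≃ₐ[B] K :=
    IsLocalization.algEquiv (⊥ : Ideal B).primeCompl _ _
  haveI : Algebra.IsSmoothAt R (⊥ : Ideal B) :=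
    Algebra.FormallySmooth.of_equiv (e.restrictScalars R).symm
  obtain ⟨f, hf, hsm⟩ := Algebra.IsSmoothAt.exists_notMem_smooth R (⊥ : Ideal B)
  have hf0 : f ≠ 0 := fun h => hf (by rw [h]; exact Ideal.zero_mem _)
  have hfK : (f : K) ≠ 0 := fun h => hf0 (Subtype.ext h)
  let g : Localization.Away f →ₐ[R] K :=
    IsLocalization.liftAlgHom (M := Submonoid.powers f) (f := B.val)
      (fun y => by
        obtain ⟨n, hn⟩ := y.2
        rw [← hn]
        simp [hfK])
  have hg : Function.Injective g := by
    show Function.Injective (IsLocalization.liftAlgHom (M := Submonoid.powers f) (f := B.val) _)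
    rw [IsLocalization.coe_liftAlgHom, IsLocalization.lift_injective_iff]
    intro x y
    have h1 : Function.Injective (algebraMap B (Localization.Away f)) :=
      IsLocalization.injective _ (powers_le_nonZeroDivisors_of_noZeroDivisors hf0)
    constructor
    · intro h; rw [h1 h]
    · intro h
      have : x = y := Subtype.ext h
      rw [this]
  haveI : Algebra.FiniteType R (Localization.Away f) := inferInstance
  have hfrac' : ∀ z : K, ∃ x y : g.range, z = (x : K) / (y : K) := by
    intro z
    obtain ⟨x, y, hxy⟩ := hfrac z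
    refine ⟨⟨x, ?_⟩, ⟨y, ?_⟩, hxy⟩
    · exact ⟨algebraMap B _ x, by simp [g]⟩
    · exact ⟨algebraMap B _ y, by simp [g]⟩
  refine ⟨g.range, ?_, ?_, ?_, hfrac'⟩
  · exact Algebra.FiniteType.equiv inferInstance (AlgEquiv.ofInjective g hg)
  · exact Algebra.Smooth.of_equiv (AlgEquiv.ofInjective g hg)
  · refine IsFractionRing.of_field _ K (fun z => ?_)
    obtain ⟨x, y, hxy⟩ := hfrac' z
    exact ⟨x, y, hxy⟩

end Groth.Agent.Helper22.Spread
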