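import Mathlib
import Groth.Agent.Lib.Helper18.OrbitDim

/-!
# Quasi-finiteness at a point with finite fibre, and finiteness of points over a quasi-finite open
(helper22; commutative algebra for the openness of the locus of finite stabilizers)
-/

set_option autoImplicit false

namespace Groth.Agent.Helper22.StabOpen

open Groth.Agent.Helper29.GLinOrbit Groth.Agent.Helper18.OrbitDim

universe u

section generic

variable {k : Type u} [Field k]
variable {R C : Type u} [CommRing R] [CommRing C] [Algebra k R] [Algebra k C] [Algebra R C]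
  [IsScalarTower k R C]

/-- restriction of a point of `C` to `R` -/
noncomputable def resPt (c : C →ₐ[k] k) : R →ₐ[k] k := c.comp (IsScalarTower.toAlgHom k R C)

theorem resPt_apply (c : C →ₐ[k] k) (r : R) : resPt (R := R) c r = c (algebraMap R C r) := rfl

theorem ker_resPt (c : C →ₐ[k] k) :
    RingHom.ker (resPt (R := R) c) = Ideal.comap (algebraMap R C) (RingHom.ker c) := by
  ext x
  rw [RingHom.mem_ker, Ideal.mem_comap, RingHom.mem_ker, resPt_apply]

/-- If only finitely many points of `C` restrict to the same point of `R` as `c₀`, then `C` is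
quasi-finite over `R` at `c₀`. -/
theorem quasiFiniteAt_of_finite_fibre [IsAlgClosed k] [Algebra.FiniteType k C]
    [Algebra.FiniteType R C] (c₀ : C →ₐ[k] k)
    (hfin : {c : C →ₐ[k] k | resPt (R := R) c = resPt (R := R) c₀}.Finite) :
    (haveI := RingHom.ker_isPrime c₀; Algebra.QuasiFiniteAt R (RingHom.ker c₀)) := by
  classical
  let q : PrimeSpectrum C := ⟨RingHom.ker c₀, RingHom.ker_isPrime c₀⟩
  let z₀ : R →ₐ[k] k := resPt c₀
  let I : Ideal C := Ideal.map (algebraMap R C) (RingHom.ker z₀)
  have hpts : {c : C →ₐ[k] k | I ≤ RingHom.ker c} ⊆ {c | resPt (R := R) c = z₀} := by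
    intro c hc
    have hc' : I ≤ RingHom.ker c := hc
    have h1 : RingHom.ker z₀ ≤ RingHom.ker (resPt (R := R) c) := by
      intro x hx
      rw [RingHom.mem_ker, resPt_apply]
      exact hc' (Ideal.mem_map_of_mem _ hx)
    exact (eq_of_ker_le z₀ (resPt c) h1).symm
  have hfinI : {c : C →ₐ[k] k | I ≤ RingHom.ker c}.Finite := hfin.subset hpts
  let p : PrimeSpectrum R := q.comap (algebraMap R C)
  let F : Set (PrimeSpectrum C) := PrimeSpectrum.comap (algebraMap R C) ⁻¹' {p}
  have hpz : p.asIdeal = RingHom.ker z₀ := (ker_resPt c₀).symm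
  have hIF : ∀ Q ∈ F, I ≤ Q.asIdeal := by
    intro Q hQ
    have hQ' : PrimeSpectrum.comap (algebraMap R C) Q = p := hQ
    rw [Ideal.map_le_iff_le_comap, ← hpz, ← hQ']
    exact le_rfl
  have hFmax : ∀ Q ∈ F, Q.asIdeal.IsMaximal := fun Q hQ =>
    isMaximal_of_finite_points (k := k) I hfinI Q.asIdeal (hIF Q hQ)
  have hFfin : F.Finite := by
    refine (hfinI.image (fun c : C →ₐ[k] k =>
      (⟨RingHom.ker c, RingHom.ker_isPrime c⟩ : PrimeSpectrum C))).subset ?_
    intro Q hQ
    obtain ⟨w, hw⟩ := exists_point_ker_eq' (k := k) Q.asIdeal (hFmax Q hQ)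
    refine ⟨w, ?_, PrimeSpectrum.ext hw⟩
    show I ≤ RingHom.ker w
    rw [hw]
    exact hIF Q hQ
  have hFclosed : ∀ Q ∈ F, IsClosed ({Q} : Set (PrimeSpectrum C)) := fun Q hQ =>
    (PrimeSpectrum.isClosed_singleton_iff_isMaximal Q).2 (hFmax Q hQ)
  suffices hopen : IsOpen (X := ↥(PrimeSpectrum.comap (algebraMap R C) ⁻¹'
      {q.comap (algebraMap R C)})) {⟨q, rfl⟩} from
    Algebra.QuasiFiniteAt.of_isOpen_singleton_fiber (R := R) q hopen
  rw [← isClosed_compl_iff]
  let W : Set (PrimeSpectrum C) := ⋃ Q ∈ F \ {q}, {Q}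
  have hW : IsClosed W :=
    (hFfin.subset Set.sdiff_subset).isClosed_biUnion (fun Q hQ => hFclosed Q hQ.1)
  have hWeq : ({⟨q, rfl⟩}ᶜ : Set ↥(PrimeSpectrum.comap (algebraMap R C) ⁻¹'
      {q.comap (algebraMap R C)})) = Subtype.val ⁻¹' W := by
    ext x
    constructor
    · intro hx
      have hx' : x.1 ≠ q := fun h => hx (Subtype.ext h)
      exact Set.mem_biUnion (⟨x.2, hx'⟩ : x.1 ∈ F \ {q}) rfl
    · intro hx hxq
      obtain ⟨Q, hQ, hxQ⟩ := Set.mem_iUnion₂.1 hx
      have h1 : x.1 = Q := hxQ
      have h2 : x.1 = q := congrArg Subtype.val hxq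
      exact hQ.2 (h1.symm.trans h2)
  rw [hWeq]
  exact hW.preimage continuous_subtype_val

omit [Algebra k R] [Algebra k C] [IsScalarTower k R C] in
/-- Zariski's main theorem: around a quasi-finite point there is a quasi-finite principal open. -/
theorem exists_quasiFinite_away [Algebra.FiniteType R C] (P : Ideal C) [P.IsPrime]
    [Algebra.QuasiFiniteAt R P] :
    ∃ r : C, r ∉ P ∧ Algebra.QuasiFinite R (Localization.Away r) := by
  obtain ⟨S', hS', r, hrp, H⟩ :=
    Algebra.QuasiFiniteAt.exists_fg_and_exists_notMem_and_awayMap_bijective (R := R) P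
  have h1 : Module.Finite R S' := ⟨(Submodule.fg_top _).mpr hS'⟩
  have h2 : Algebra.QuasiFinite R (Localization.Away r) := .trans _ S' _
  have h3 : Algebra.QuasiFinite R (Localization.Away r.1) :=
    .of_surjective_algHom (Localization.awayMapₐ S'.val r) H.2
  exact ⟨r.1, hrp, h3⟩

/-- Only finitely many points of `C` over a given point of `R` lie in a quasi-finite principal
open. -/
theorem finite_points_over (r : C) [Algebra.QuasiFinite R (Localization.Away r)]
    (z : R →ₐ[k] k) : {c : C →ₐ[k] k | resPt (R := R) c = z ∧ c r ≠ 0}.Finite := by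
  classical
  let P : PrimeSpectrum R := ⟨RingHom.ker z, RingHom.ker_isPrime z⟩
  have hfin := Algebra.QuasiFinite.finite_comap_preimage_singleton (R := R)
    (S := Localization.Away r) P
  let t : Set (Ideal (Localization.Away r)) :=
    (fun Q : PrimeSpectrum (Localization.Away r) => Q.asIdeal) ''
      (PrimeSpectrum.comap (algebraMap R (Localization.Away r)) ⁻¹' {P})
  have ht : t.Finite := hfin.image _
  have hdisj : ∀ c : C →ₐ[k] k, c r ≠ 0 →
      Disjoint (Submonoid.powers r : Set C) (RingHom.ker c : Set C) := by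
    intro c hcr
    rw [Set.disjoint_left]
    rintro x ⟨n, rfl⟩ hx
    rw [SetLike.mem_coe, RingHom.mem_ker, map_pow] at hx
    exact hcr (eq_zero_of_pow_eq_zero hx)
  have hcomap : ∀ c : C →ₐ[k] k, c r ≠ 0 →
      Ideal.comap (algebraMap C (Localization.Away r))
        (Ideal.map (algebraMap C (Localization.Away r)) (RingHom.ker c)) = RingHom.ker c :=
    fun c hcr => IsLocalization.under_map_of_isPrime_disjoint (Submonoid.powers r)
      (Localization.Away r) (RingHom.ker_isPrime c) (hdisj c hcr)
  refine Set.Finite.of_injOn (f := fun c : C →ₐ[k] k =>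
    Ideal.map (algebraMap C (Localization.Away r)) (RingHom.ker c)) (t := t) ?_ ?_ ht
  · rintro c ⟨hcz, hcr⟩
    have hprime := IsLocalization.isPrime_of_isPrime_disjoint (Submonoid.powers r)
      (Localization.Away r) (RingHom.ker c) (RingHom.ker_isPrime c) (hdisj c hcr)
    refine ⟨⟨_, hprime⟩, ?_, rfl⟩
    apply PrimeSpectrum.ext
    show Ideal.comap (algebraMap R (Localization.Away r))
      (Ideal.map (algebraMap C (Localization.Away r)) (RingHom.ker c)) = RingHom.ker z
    rw [IsScalarTower.algebraMap_eq R C (Localization.Away r), ← Ideal.comap_comap,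
      hcomap c hcr, ← hcz, ker_resPt]
  · rintro c ⟨hcz, hcr⟩ c' ⟨hcz', hcr'⟩ h
    have h1 := congrArg (Ideal.comap (algebraMap C (Localization.Away r))) h
    simp only at h1
    rw [hcomap c hcr, hcomap c' hcr'] at h1
    exact eq_of_ker_le c c' (le_of_eq h1)

end generic

end Groth.Agent.Helper22.StabOpen
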