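import Groth.Agent.Lib.Helper22.StabOpen1

/-!
# The locus of points with finite stabilizer is open (helper22)

`k` algebraically closed, `A` a finitely generated commutative Hopf algebra, `R` a finitely
generated `k`-algebra with a coaction.  If the stabilizer of the point `z'` is finite, there is
`f ∈ R` with `f(z') ≠ 0` such that every point `z` with `f(z) ≠ 0` has finite stabilizer.
Proof: Zariski's main theorem on the stabilizer scheme `(R ⊗ A)/J → Spec R` at the identity section,
and homogeneity of the fibres.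
-/

set_option autoImplicit false

namespace Groth.Agent.Helper22.StabOpen

open TensorProduct Groth.Agent.Helper29.GLinOrbit Groth.Agent.Helper18.OrbitDim

universe u

section stab

variable {k : Type u} [Field k] {A : Type u} [CommRing A] [HopfAlgebra k A]
variable {R : Type u} [CommRing R] [Algebra k R] [HopfRep.Comod k A R] [GLin.IsCoactAlg k A R]

/-- the point `(z, g)` of `Spec R × G`. -/
noncomputable def pt (z : R →ₐ[k] k) (g : A →ₐ[k] k) : R ⊗[k] A →ₐ[k] k :=
  Algebra.TensorProduct.productMap z g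

theorem pt_tmul (z : R →ₐ[k] k) (g : A →ₐ[k] k) (r : R) (a : A) :
    pt z g (r ⊗ₜ[k] a) = z r * g a :=
  Algebra.TensorProduct.productMap_apply_tmul z g r a

theorem pt_coact (z : R →ₐ[k] k) (g : A →ₐ[k] k) (f : R) :
    pt z g (HopfRep.Comod.coact (k := k) (A := A) f) = GLin.actPt k g z f := by
  unfold GLin.actPt
  rw [AlgHom.comp_apply, orbitHom_apply]
  generalize HopfRep.Comod.coact (k := k) (A := A) f = t
  induction t using TensorProduct.induction_on with
  | zero => simp
  | tmul r a => rw [pt_tmul, evalL_tmul, map_smul, smul_eq_mul]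
  | add t s ht hs => rw [map_add, map_add, map_add, ht, hs]

variable (k A R) in
/-- the ideal of the stabilizer scheme in `R ⊗ A`. -/
noncomputable def stabJ : Ideal (R ⊗[k] A) :=
  Ideal.span (Set.range fun f : R =>
    HopfRep.Comod.coact (k := k) (A := A) f - f ⊗ₜ[k] (1 : A))

theorem stabJ_le_ker_pt {z : R →ₐ[k] k} {g : A →ₐ[k] k} (h : GLin.actPt k g z = z) :
    ∀ a ∈ stabJ k A R, pt z g a = 0 := by
  intro a ha
  have hle : stabJ k A R ≤ RingHom.ker (pt z g) := by
    apply Ideal.span_le.2
    rintro _ ⟨f, rfl⟩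
    rw [SetLike.mem_coe, RingHom.mem_ker, map_sub, pt_coact, pt_tmul, h, map_one, mul_one,
      sub_self]
  exact hle ha

variable (k A R) in
/-- the coordinate ring of the stabilizer scheme -/
abbrev StabC : Type u := (R ⊗[k] A) ⧸ stabJ k A R

theorem algebraMap_stabC (r : R) :
    algebraMap R (StabC k A R) r = Ideal.Quotient.mk (stabJ k A R) (r ⊗ₜ[k] (1 : A)) := rfl

/-- the point of the stabilizer scheme given by `g` in the stabilizer of `z` -/
noncomputable def cpt (z : R →ₐ[k] k) (g : A →ₐ[k] k) (h : GLin.actPt k g z = z) :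
    StabC k A R →ₐ[k] k :=
  Ideal.Quotient.liftₐ (stabJ k A R) (pt z g) (stabJ_le_ker_pt h)

theorem cpt_mk (z : R →ₐ[k] k) (g : A →ₐ[k] k) (h : GLin.actPt k g z = z) (t : R ⊗[k] A) :
    cpt z g h (Ideal.Quotient.mk (stabJ k A R) t) = pt z g t := rfl

/-- the group component of a point of the stabilizer scheme -/
noncomputable def gOf (c : StabC k A R →ₐ[k] k) : A →ₐ[k] k :=
  c.comp ((Ideal.Quotient.mkₐ k (stabJ k A R)).comp Algebra.TensorProduct.includeRight)

theorem gOf_apply (c : StabC k A R →ₐ[k] k) (a : A) :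
    gOf c a = c (Ideal.Quotient.mk (stabJ k A R) ((1 : R) ⊗ₜ[k] a)) := rfl

theorem apply_mk (c : StabC k A R →ₐ[k] k) (t : R ⊗[k] A) :
    c (Ideal.Quotient.mk (stabJ k A R) t) = pt (resPt (R := R) c) (gOf c) t := by
  induction t using TensorProduct.induction_on with
  | zero => simp
  | tmul r a =>
    rw [pt_tmul, resPt_apply, algebraMap_stabC, gOf_apply, ← map_mul, ← map_mul,
      Algebra.TensorProduct.tmul_mul_tmul, mul_one, one_mul]
  | add t s ht hs => rw [map_add, map_add, map_add, ht, hs]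

theorem gOf_mem (c : StabC k A R →ₐ[k] k) :
    GLin.actPt k (gOf c) (resPt (R := R) c) = resPt (R := R) c := by
  apply AlgHom.ext
  intro f
  rw [← pt_coact, ← apply_mk, resPt_apply, algebraMap_stabC]
  congr 1
  rw [Ideal.Quotient.eq]
  exact Ideal.subset_span ⟨f, rfl⟩

theorem gOf_injOn (z : R →ₐ[k] k) :
    Set.InjOn (gOf (k := k) (A := A) (R := R)) {c | resPt (R := R) c = z} := by
  intro c hc c' hc' h
  have hc1 : resPt (R := R) c = z := hc
  have hc2 : resPt (R := R) c' = z := hc'
  apply AlgHom.ext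
  intro x
  obtain ⟨t, rfl⟩ := Ideal.Quotient.mk_surjective x
  rw [apply_mk, apply_mk, hc1, hc2, h]

theorem gOf_cpt (z : R →ₐ[k] k) (g : A →ₐ[k] k) (h : GLin.actPt k g z = z) :
    gOf (cpt z g h) = g := by
  apply AlgHom.ext
  intro a
  rw [gOf_apply, cpt_mk, pt_tmul, map_one, one_mul]

theorem resPt_cpt (z : R →ₐ[k] k) (g : A →ₐ[k] k) (h : GLin.actPt k g z = z) :
    resPt (R := R) (cpt z g h) = z := by
  apply AlgHom.ext
  intro r
  rw [resPt_apply, algebraMap_stabC, cpt_mk, pt_tmul, map_one, mul_one]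

/-- right translate of a function by a point: `a ↦ Σ a₁ h(a₂)`. -/
noncomputable def tr (h : A →ₐ[k] k) (a : A) : A :=
  TensorProduct.rid k A ((h.toLinearMap.lTensor A) (Coalgebra.comul (R := k) a))

theorem apply_tr (g h : A →ₐ[k] k) (a : A) :
    g (tr h a) = (WithConv.toConv g * WithConv.toConv h).ofConv a := by
  have e := AlgHom.convMul_apply (WithConv.toConv g) (WithConv.toConv h) a
  change (WithConv.toConv g * WithConv.toConv h).ofConv a = _ at e
  rw [e]
  unfold tr
  generalize Coalgebra.comul (R := k) a = t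
  induction t using TensorProduct.induction_on with
  | zero => simp
  | tmul x y =>
    rw [LinearMap.lTensor_tmul, TensorProduct.rid_tmul, map_smul, smul_eq_mul,
      Algebra.TensorProduct.lift_tmul]
    simp [mul_comm]
  | add t s ht hs => rw [map_add, map_add, map_add, map_add, ht, hs]

/-- homogeneity: if only finitely many points of the stabilizer lie in a principal open
containing the identity, the stabilizer is finite. -/
theorem finite_stab_of_finite_nonvanishing [IsAlgClosed k] [Algebra.FiniteType k A]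
    (z : R →ₐ[k] k) (a : A) (ha : (1 : WithConv (A →ₐ[k] k)).ofConv a ≠ 0)
    (hF : {g : A →ₐ[k] k | GLin.actPt k g z = z ∧ g a ≠ 0}.Finite) :
    {g : A →ₐ[k] k | GLin.actPt k g z = z}.Finite := by
  classical
  let St : Set (A →ₐ[k] k) := {g | GLin.actPt k g z = z}
  let S₁ : Set A := Set.range (fun f : R => GLin.orbitHom k A z f - algebraMap k A (z f))
  let S₂ : Set A := (fun h : A →ₐ[k] k => tr h a) '' St
  have hS₁ : ∀ g : A →ₐ[k] k, Ideal.span S₁ ≤ RingHom.ker g → g ∈ St := by
    intro g hg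
    apply AlgHom.ext
    intro f
    have h1 : GLin.orbitHom k A z f - algebraMap k A (z f) ∈ RingHom.ker g :=
      hg (Ideal.subset_span ⟨f, rfl⟩)
    rw [RingHom.mem_ker, map_sub, AlgHom.commutes, sub_eq_zero] at h1
    exact h1
  have hS₁' : ∀ g ∈ St, Ideal.span S₁ ≤ RingHom.ker g := by
    intro g hg
    apply Ideal.span_le.2
    rintro _ ⟨f, rfl⟩
    have hg' : GLin.actPt k g z = z := hg
    have h1 : g (GLin.orbitHom k A z f) = z f := by
      have := congrArg (fun w : R →ₐ[k] k => w f) hg'
      exact this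
    rw [SetLike.mem_coe, RingHom.mem_ker, map_sub, AlgHom.commutes, h1]
    exact sub_self _
  have hinv : ∀ g ∈ St, ((WithConv.toConv g)⁻¹).ofConv ∈ St := by
    intro g hg
    have hg' : GLin.actPt k g z = z := hg
    have h1 := actPt_inv_actPt g z
    rw [hg'] at h1
    exact h1
  have htop : Ideal.span (S₁ ∪ S₂) = ⊤ := by
    by_contra hne
    obtain ⟨g, hg⟩ := exists_point_of_ne_top' (k := k) (Ideal.span (S₁ ∪ S₂)) hne
    have hgSt : g ∈ St :=
      hS₁ g ((Ideal.span_mono Set.subset_union_left).trans hg)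
    have h2 : tr ((WithConv.toConv g)⁻¹).ofConv a ∈ RingHom.ker g :=
      hg (Ideal.subset_span (Or.inr ⟨_, hinv g hgSt, rfl⟩))
    rw [RingHom.mem_ker, apply_tr, WithConv.toConv_ofConv, mul_inv_cancel] at h2
    exact ha h2
  have h1mem : (1 : A) ∈ Ideal.span S₁ ⊔ Ideal.span S₂ := by
    rw [← Ideal.span_union, htop]
    trivial
  obtain ⟨u, hu, v, hv, huv⟩ := Submodule.mem_sup.1 h1mem
  obtain ⟨t, htSt, c, hc⟩ := (Submodule.mem_span_image_iff_exists_fun A).1 hv
  refine (Set.Finite.image2 (fun (γ i : A →ₐ[k] k) =>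
    (WithConv.toConv γ * (WithConv.toConv i)⁻¹).ofConv) hF t.finite_toSet).subset ?_
  intro g hg
  have hgSt : GLin.actPt k g z = z := hg
  have hgu : g u = 0 := hS₁' g hg hu
  have hsum : (1 : k) = ∑ i : t, g (c i) * g (tr (i : A →ₐ[k] k) a) := by
    have h3 : g (u + v) = 1 := by rw [huv, map_one]
    rw [map_add, hgu, zero_add, ← hc, map_sum] at h3
    rw [← h3]
    exact Finset.sum_congr rfl (fun i _ => by rw [smul_eq_mul, map_mul])
  have hex : ∃ i : t, g (tr (i : A →ₐ[k] k) a) ≠ 0 := by
    by_contra hall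
    push_neg at hall
    rw [Finset.sum_eq_zero (fun i _ => by rw [hall i, mul_zero])] at hsum
    exact one_ne_zero hsum
  obtain ⟨i, hi⟩ := hex
  have hiSt : GLin.actPt k (i : A →ₐ[k] k) z = z := htSt i.2
  refine ⟨(WithConv.toConv g * WithConv.toConv (i : A →ₐ[k] k)).ofConv, ⟨?_, ?_⟩,
    (i : A →ₐ[k] k), i.2, ?_⟩
  · have h4 := actPt_mul z (WithConv.toConv g) (WithConv.toConv (i : A →ₐ[k] k))
    rw [WithConv.ofConv_toConv, WithConv.ofConv_toConv, hgSt, hiSt] at h4
    exact h4
  · rw [← apply_tr]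
    exact hi
  · show (WithConv.toConv (WithConv.toConv g * WithConv.toConv (i : A →ₐ[k] k)).ofConv *
      (WithConv.toConv (i : A →ₐ[k] k))⁻¹).ofConv = g
    rw [WithConv.toConv_ofConv, mul_inv_cancel_right, WithConv.ofConv_toConv]

end stab

end Groth.Agent.Helper22.StabOpen
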