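import Groth.Agent.Lib.Helper22.StabOpen2

/-!
# Openness of the finite-stabilizer locus (helper22)
-/

set_option autoImplicit false

namespace Groth.Agent.Helper22.StabOpen

open TensorProduct Groth.Agent.Helper29.GLinOrbit Groth.Agent.Helper18.OrbitDim

universe u

section main

variable {k : Type u} [Field k] {A : Type u} [CommRing A] [HopfAlgebra k A]
variable {R : Type u} [CommRing R] [Algebra k R] [HopfRep.Comod k A R] [GLin.IsCoactAlg k A R]

/-- the identity point of the group -/
noncomputable def e1 : A →ₐ[k] k := (1 : WithConv (A →ₐ[k] k)).ofConv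

/-- restriction to the identity section: `r ⊗ a ↦ ε(a) r`. -/
noncomputable def E₀ : R ⊗[k] A →ₐ[k] R :=
  Algebra.TensorProduct.productMap (AlgHom.id k R) ((Algebra.ofId k R).comp (e1 (k := k) (A := A)))

theorem apply_E₀ (z : R →ₐ[k] k) (t : R ⊗[k] A) :
    z (E₀ t) = pt z (e1 (k := k) (A := A)) t := by
  induction t using TensorProduct.induction_on with
  | zero => simp
  | tmul r a =>
    unfold E₀
    rw [Algebra.TensorProduct.productMap_apply_tmul, pt_tmul, map_mul, AlgHom.comp_apply,
      Algebra.ofId_apply, AlgHom.commutes]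
    rfl
  | add t s ht hs => rw [map_add, map_add, map_add, ht, hs]

/-- evaluation in the first factor: `r ⊗ a ↦ z(r) a`. -/
noncomputable def Lz (z : R →ₐ[k] k) : R ⊗[k] A →ₐ[k] A :=
  Algebra.TensorProduct.productMap ((Algebra.ofId k A).comp z) (AlgHom.id k A)

theorem apply_Lz (z : R →ₐ[k] k) (g : A →ₐ[k] k) (t : R ⊗[k] A) :
    g (Lz z t) = pt z g t := by
  induction t using TensorProduct.induction_on with
  | zero => simp
  | tmul r a =>
    unfold Lz
    rw [Algebra.TensorProduct.productMap_apply_tmul, pt_tmul, map_mul, AlgHom.comp_apply,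
      Algebra.ofId_apply, AlgHom.commutes]
    rfl
  | add t s ht hs => rw [map_add, map_add, map_add, ht, hs]

/-- **Openness of the locus of finite stabilizers.** -/
theorem exists_open_finite_stab [IsAlgClosed k] [Algebra.FiniteType k A] [Algebra.FiniteType k R]
    (z' : R →ₐ[k] k) (hfin : {g : A →ₐ[k] k | GLin.actPt k g z' = z'}.Finite) :
    ∃ f : R, z' f ≠ 0 ∧
      ∀ z : R →ₐ[k] k, z f ≠ 0 → {g : A →ₐ[k] k | GLin.actPt k g z = z}.Finite := by
  classical
  haveI hft1 : Algebra.FiniteType R (R ⊗[k] A) := inferInstance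
  haveI hft2 : Algebra.FiniteType R (StabC k A R) :=
    .of_surjective (Ideal.Quotient.mkₐ R (stabJ k A R)) (Ideal.Quotient.mkₐ_surjective R _)
  haveI hft3 : Algebra.FiniteType k (StabC k A R) :=
    Algebra.FiniteType.trans (S := R) inferInstance hft2
  have h1 : GLin.actPt k (e1 (k := k) (A := A)) z' = z' := actPt_one z'
  let c₀ : StabC k A R →ₐ[k] k := cpt z' e1 h1
  have hfib : {c : StabC k A R →ₐ[k] k | resPt (R := R) c = resPt (R := R) c₀}.Finite := by
    rw [resPt_cpt]
    refine Set.Finite.of_injOn (f := gOf) (fun c hc => ?_) (gOf_injOn z') hfin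
    have hc' : resPt (R := R) c = z' := hc
    have h2 := gOf_mem c
    rw [hc'] at h2
    exact h2
  haveI := RingHom.ker_isPrime c₀
  haveI hq : Algebra.QuasiFiniteAt R (RingHom.ker c₀) := quasiFiniteAt_of_finite_fibre c₀ hfib
  obtain ⟨r, hr, hqf⟩ := exists_quasiFinite_away (R := R) (RingHom.ker c₀)
  obtain ⟨rt, rfl⟩ := Ideal.Quotient.mk_surjective r
  refine ⟨E₀ rt, ?_, ?_⟩
  · rw [apply_E₀]
    intro h0
    apply hr
    rw [RingHom.mem_ker]
    exact h0
  · intro z hz
    rw [apply_E₀, ← apply_Lz] at hz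
    refine finite_stab_of_finite_nonvanishing z (Lz z rt) hz ?_
    have hF := finite_points_over (k := k) (R := R) (Ideal.Quotient.mk (stabJ k A R) rt) z
    refine (hF.image gOf).subset ?_
    rintro g ⟨hg, hga⟩
    refine ⟨cpt z g hg, ⟨resPt_cpt z g hg, ?_⟩, gOf_cpt z g hg⟩
    rw [cpt_mk, ← apply_Lz]
    exact hga

end main

end Groth.Agent.Helper22.StabOpen
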