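import Groth.Agent.Lib.Helper22.StabOpen3
import Groth.Agent.Lib.Helper22.ProjComod
import Groth.Agent.Lib.Helper18.InvQ

/-!
# The stable locus is cut out by invariants (helper22)
-/

set_option autoImplicit false

namespace Groth.Agent.Helper22.StabOpen

open TensorProduct Groth.Agent.Helper29.GLinOrbit Groth.Agent.Helper18.OrbitDim
open Groth.Agent.Helper29.Reynolds

universe u

section cut

variable {k : Type u} [Field k] {A : Type u} [CommRing A] [HopfAlgebra k A]
variable {R : Type u} [CommRing R] [Algebra k R] [HopfRep.Comod k A R] [GLin.IsCoactAlg k A R]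

/-- vanishing ideal of a set of points -/
def vanIdeal (Z : Set (R →ₐ[k] k)) : Ideal R where
  carrier := {f | ∀ z ∈ Z, z f = 0}
  add_mem' := by
    intro a b ha hb z hz
    rw [map_add, ha z hz, hb z hz, add_zero]
  zero_mem' := fun z _ => map_zero z
  smul_mem' := by
    intro c f hf z hz
    rw [smul_eq_mul, map_mul, hf z hz, mul_zero]

theorem mem_vanIdeal {Z : Set (R →ₐ[k] k)} {f : R} :
    f ∈ vanIdeal Z ↔ ∀ z ∈ Z, z f = 0 := Iff.rfl

theorem apply_slice (z : R →ₐ[k] k) (l : A →ₗ[k] k) (t : R ⊗[k] A) :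
    z (Groth.Agent.Helper12.slice l t) = l (evalL z A t) := by
  induction t using TensorProduct.induction_on with
  | zero => simp
  | tmul r a =>
    rw [Groth.Agent.Helper12.slice_tmul, evalL_tmul, map_smul, map_smul, smul_eq_mul,
      smul_eq_mul, mul_comm]
  | add t s ht hs => rw [map_add, map_add, map_add, map_add, ht, hs]

theorem vanIdeal_isSubcomod [IsAlgClosed k] [Algebra.FiniteType k A] [IsReduced A]
    (Z : Set (R →ₐ[k] k)) (hZ : ∀ z ∈ Z, ∀ g : A →ₐ[k] k, GLin.actPt k g z ∈ Z) :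
    HopfRep.IsSubcomod (k := k) (A := A) ((vanIdeal Z).restrictScalars k) := by
  intro f hf
  apply ProjComod.mem_range_rTensor_of_slice_mem
  intro l
  show ∀ z ∈ Z, z (Groth.Agent.Helper12.slice l (HopfRep.Comod.coact (k := k) (A := A) f)) = 0
  intro z hz
  rw [apply_slice, ← orbitHom_apply]
  have hnil : IsNilpotent (GLin.orbitHom k A z f) := by
    apply Groth.Agent.Helper18.InvQ.isNilpotent_of_forall_point (k := k)
    intro g
    have h1 : GLin.actPt k g z f = 0 := hf _ (hZ z hz g)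
    exact h1
  rw [hnil.eq_zero, map_zero]

/-- **The stable locus is cut out by invariants.** -/
theorem exists_invariants_cutting_stable [IsAlgClosed k] [Algebra.FiniteType k A]
    [Algebra.FiniteType k R] [IsReduced A] (hG : HopfRep.IsLinearlyReductive k A) :
    ∃ S : Set R, S ⊆ (HopfRep.fixedPts k A R : Set R) ∧ ∀ x : R →ₐ[k] k,
      ((∀ c : R →ₐ[k] k, GLin.InOrbitClosure k A x c → ∃ g : A →ₐ[k] k, c = GLin.actPt k g x) ∧
        {g : A →ₐ[k] k | GLin.actPt k g x = x}.Finite) ↔ ∃ f ∈ S, x f ≠ 0 := by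
  let Z : Set (R →ₐ[k] k) := {z | ¬ {g : A →ₐ[k] k | GLin.actPt k g z = z}.Finite}
  have hZstab : ∀ z ∈ Z, ∀ g : A →ₐ[k] k, GLin.actPt k g z ∈ Z := by
    intro z hz g hfin
    apply hz
    have h1 := finite_stabilizer_actPt (GLin.actPt k g z) ((WithConv.toConv g)⁻¹).ofConv hfin
    rw [actPt_inv_actPt] at h1
    exact h1
  refine ⟨{f | f ∈ HopfRep.fixedPts k A R ∧ f ∈ vanIdeal Z}, fun f hf => hf.1, fun x => ⟨?_, ?_⟩⟩
  · rintro ⟨hclosed, hfin⟩
    have hI₁ := vanIdeal_isSubcomod Z hZstab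
    have hI₂ := ker_orbitHom_isSubcomod (A := A) x
    have hsup : vanIdeal Z ⊔ RingHom.ker (GLin.orbitHom k A x) = ⊤ := by
      by_contra hne
      obtain ⟨w, hw⟩ := exists_point_of_ne_top (k := k) _ hne
      have hw1 : vanIdeal Z ≤ RingHom.ker w := le_sup_left.trans hw
      have hw2 : GLin.InOrbitClosure k A x w := le_sup_right.trans hw
      obtain ⟨g, rfl⟩ := hclosed w hw2
      have hfinw := finite_stabilizer_actPt x g hfin
      obtain ⟨f, hf1, hf2⟩ := exists_open_finite_stab _ hfinw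
      have hfZ : f ∈ vanIdeal Z := by
        intro z hz
        by_contra h0
        exact hz (hf2 z h0)
      exact hf1 (hw1 hfZ)
    obtain ⟨f, hfinv, hf1, hf2⟩ := exists_invariant_of_sup_eq_top hG _ _ hI₁ hI₂ hsup
    refine ⟨f, ⟨hfinv, hf1⟩, ?_⟩
    have h3 : x (1 - f) = 0 := ker_orbitHom_le_ker x hf2
    rw [map_sub, map_one, sub_eq_zero] at h3
    rw [← h3]
    exact one_ne_zero
  · rintro ⟨f, ⟨hfinv, hfZ⟩, hxf⟩
    rw [stable_iff_forall_fibre_finite hG x]
    intro z hz
    by_contra hinf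
    have h0 : z f = 0 := hfZ z hinf
    rw [hz f hfinv] at h0
    exact hxf h0

end cut

end Groth.Agent.Helper22.StabOpen
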