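import Groth.Agent.Lib.Helper22.StabOpen4
import Groth.Agent.Lib.Helper4.Constr

/-!
# `GLin.IsStablePt` in terms of rational points (helper22)
-/

set_option autoImplicit false

namespace Groth.Agent.Helper22.StabOpen

open TensorProduct Groth.Agent.Helper29.GLinOrbit Groth.Agent.Helper18.OrbitDim
open Groth.Agent.Helper29.Reynolds Groth.Agent.Helper18.OrbitMin

universe u

section transl

variable {k : Type u} [Field k] {A : Type u} [CommRing A] [HopfAlgebra k A]
variable {R : Type u} [CommRing R] [Algebra k R] [HopfRep.Comod k A R] [GLin.IsCoactAlg k A R]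

/-- the orbit is closed as soon as it contains all rational points of its closure -/
theorem isClosedOrbit_of_forall [IsAlgClosed k] [Algebra.FiniteType k A] [Algebra.FiniteType k R]
    (x : R →ₐ[k] k)
    (h : ∀ c : R →ₐ[k] k, GLin.InOrbitClosure k A x c → ∃ g : A →ₐ[k] k, c = GLin.actPt k g x) :
    GLin.IsClosedOrbit k A x := by
  unfold GLin.IsClosedOrbit
  haveI : IsJacobsonRing R := isJacobsonRing_of_finiteType (A := k) (B := R)
  have hC : Topology.IsConstructible
      (Set.range (PrimeSpectrum.comap (GLin.orbitHom k A x).toRingHom)) :=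
    PrimeSpectrum.isConstructible_range_comap (finitePresentation_orbitHom x)
  suffices hsub : closure (Set.range (PrimeSpectrum.comap (GLin.orbitHom k A x).toRingHom)) ⊆
      Set.range (PrimeSpectrum.comap (GLin.orbitHom k A x).toRingHom) by
    have heq : closure (Set.range (PrimeSpectrum.comap (GLin.orbitHom k A x).toRingHom)) =
        Set.range (PrimeSpectrum.comap (GLin.orbitHom k A x).toRingHom) :=
      Set.Subset.antisymm hsub subset_closure
    rw [← heq]
    exact isClosed_closure
  intro p hp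
  by_contra hpC
  have hY : IsIrreducible (closure ({p} : Set (PrimeSpectrum R))) :=
    isIrreducible_singleton.closure
  have hYsub : closure ({p} : Set (PrimeSpectrum R)) ⊆
      closure (Set.range (PrimeSpectrum.comap (GLin.orbitHom k A x).toRingHom)) :=
    closure_minimal (Set.singleton_subset_iff.2 hp) isClosed_closure
  rcases Groth.Agent.Helper4.Constr.trace_dichotomy hY hC with
    ⟨U, hU, ⟨y, hyU, hyY⟩, hsubU⟩ | ⟨U, hU, hne, hsubU⟩
  · have hpU : p ∈ U := by
      rw [mem_closure_iff] at hyY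
      obtain ⟨z, hzU, hz⟩ := hyY U hU hyU
      rw [Set.mem_singleton_iff] at hz
      rwa [hz] at hzU
    exact hpC (hsubU ⟨hpU, subset_closure rfl⟩)
  · obtain ⟨w, ⟨hwU, hwY⟩, hwcl⟩ := nonempty_inter_closedPoints hne
      (hU.isLocallyClosed.inter isClosed_closure.isLocallyClosed)
    have hwmax : w.asIdeal.IsMaximal := (PrimeSpectrum.isClosed_singleton_iff_isMaximal w).1 hwcl
    obtain ⟨w', hw'⟩ := exists_point_ker_eq' (k := k) w.asIdeal hwmax
    have hwZ : w ∈ closure (Set.range (PrimeSpectrum.comap (GLin.orbitHom k A x).toRingHom)) :=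
      hYsub hwY
    rw [PrimeSpectrum.closure_range_comap, PrimeSpectrum.mem_zeroLocus] at hwZ
    have hclw : GLin.InOrbitClosure k A x w' := by
      unfold GLin.InOrbitClosure
      rw [hw']
      exact hwZ
    obtain ⟨g, hg⟩ := h w' hclw
    apply hsubU ⟨hwU, hwY⟩
    refine ⟨⟨RingHom.ker g, RingHom.ker_isPrime g⟩, ?_⟩
    apply PrimeSpectrum.ext
    rw [PrimeSpectrum.comap_asIdeal]
    show Ideal.comap (GLin.orbitHom k A x).toRingHom (RingHom.ker g) = w.asIdeal
    rw [← hw', hg]
    ext r
    rw [Ideal.mem_comap, RingHom.mem_ker, RingHom.mem_ker]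
    rfl

theorem isClosedOrbit_iff [IsAlgClosed k] [Algebra.FiniteType k A] [Algebra.FiniteType k R]
    (x : R →ₐ[k] k) :
    GLin.IsClosedOrbit k A x ↔
      ∀ c : R →ₐ[k] k, GLin.InOrbitClosure k A x c → ∃ g : A →ₐ[k] k, c = GLin.actPt k g x :=
  ⟨fun hcl c hc => exists_actPt_eq_of_isClosedOrbit x c hcl hc, isClosedOrbit_of_forall x⟩

theorem stabIdeal_le_ker_iff (x : R →ₐ[k] k) (g : A →ₐ[k] k) :
    GLin.stabIdeal k A x ≤ RingHom.ker g ↔ GLin.actPt k g x = x := by
  unfold GLin.stabIdeal
  rw [Ideal.map_le_iff_le_comap]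
  constructor
  · intro h
    refine (eq_of_ker_le x _ ?_).symm
    intro f hf
    have h1 := h hf
    rw [Ideal.mem_comap, RingHom.mem_ker] at h1
    rw [RingHom.mem_ker]
    exact h1
  · intro h f hf
    rw [Ideal.mem_comap, RingHom.mem_ker]
    rw [RingHom.mem_ker] at hf
    have h1 : GLin.actPt k g x f = 0 := by rw [h]; exact hf
    exact h1

theorem hasFiniteStab_iff [IsAlgClosed k] [Algebra.FiniteType k A] (x : R →ₐ[k] k) :
    GLin.HasFiniteStab k A x ↔ {g : A →ₐ[k] k | GLin.actPt k g x = x}.Finite := by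
  unfold GLin.HasFiniteStab
  constructor
  · intro hfs
    haveI : Module.Finite k (A ⧸ GLin.stabIdeal k A x) := hfs
    haveI : Finite ((A ⧸ GLin.stabIdeal k A x) →ₐ[k] k) := Finite.algHom k _ k
    refine (Set.finite_range (fun ψ : (A ⧸ GLin.stabIdeal k A x) →ₐ[k] k =>
      ψ.comp (Ideal.Quotient.mkₐ k (GLin.stabIdeal k A x)))).subset ?_
    intro g hg
    have hle : GLin.stabIdeal k A x ≤ RingHom.ker g := (stabIdeal_le_ker_iff x g).2 hg
    exact ⟨Ideal.Quotient.liftₐ (GLin.stabIdeal k A x) g (fun a ha => hle ha),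
      Ideal.Quotient.liftₐ_comp _ g _⟩
  · intro hfin
    have hfin' : {h : A →ₐ[k] k | GLin.stabIdeal k A x ≤ RingHom.ker h}.Finite :=
      hfin.subset (fun h hh => (stabIdeal_le_ker_iff x h).1 hh)
    rw [Module.finite_iff_krullDimLE_zero k (A ⧸ GLin.stabIdeal k A x),
      Ring.krullDimLE_zero_iff]
    intro P hP
    haveI := hP
    have hq : (P.comap (Ideal.Quotient.mk (GLin.stabIdeal k A x))).IsPrime :=
      Ideal.comap_isPrime _ P
    have hIq : GLin.stabIdeal k A x ≤ P.comap (Ideal.Quotient.mk (GLin.stabIdeal k A x)) := by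
      intro a ha
      rw [Ideal.mem_comap, Ideal.Quotient.eq_zero_iff_mem.2 ha]
      exact P.zero_mem
    have hmax := isMaximal_of_finite_points (k := k) _ hfin' _ hIq
    have hmap := Ideal.map_comap_of_surjective (Ideal.Quotient.mk (GLin.stabIdeal k A x))
      Ideal.Quotient.mk_surjective P
    rcases Ideal.map_eq_top_or_isMaximal_of_surjective
      (Ideal.Quotient.mk (GLin.stabIdeal k A x)) Ideal.Quotient.mk_surjective hmax with h1 | h1
    · rw [hmap] at h1
      exact absurd h1 hP.ne_top
    · rwa [hmap] at h1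

/-- `GLin.IsStablePt` in terms of rational points -/
theorem isStablePt_iff [IsAlgClosed k] [Algebra.FiniteType k A] [Algebra.FiniteType k R]
    (x : R →ₐ[k] k) :
    GLin.IsStablePt k A x ↔
      ((∀ c : R →ₐ[k] k, GLin.InOrbitClosure k A x c → ∃ g : A →ₐ[k] k, c = GLin.actPt k g x) ∧
        {g : A →ₐ[k] k | GLin.actPt k g x = x}.Finite) := by
  unfold GLin.IsStablePt
  rw [isClosedOrbit_iff, hasFiniteStab_iff]

/-- the stable locus (in the sense of `GLin.IsStablePt`) is cut out by invariants -/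
theorem exists_invariants_cutting_isStablePt [IsAlgClosed k] [Algebra.FiniteType k A]
    [Algebra.FiniteType k R] [IsReduced A] (hG : HopfRep.IsLinearlyReductive k A) :
    ∃ S : Set R, S ⊆ (GLin.invariants k A R : Set R) ∧
      ∀ x : R →ₐ[k] k, GLin.IsStablePt k A x ↔ ∃ f ∈ S, x f ≠ 0 := by
  obtain ⟨S, hS, h⟩ := exists_invariants_cutting_stable (k := k) (A := A) (R := R) hG
  exact ⟨S, fun f hf => hS hf, fun x => (isStablePt_iff x).trans (h x)⟩

end transl

end Groth.Agent.Helper22.StabOpen
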