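import Groth.Agent.Lib.Helper22.StabOpen6
import Groth.Agent.Lib.Helper18.InvQ

/-!
# Strongly étale equivariant maps (helper22)
-/

set_option autoImplicit false

namespace Groth.Agent.Helper22.StrEt

open TensorProduct Groth.Agent.Helper29.GLinOrbit Groth.Agent.Helper22.StabOpen

universe u

section equiv

variable {k : Type u} [Field k] {A : Type u} [CommRing A] [HopfAlgebra k A]
variable {S : Type u} [CommRing S] [Algebra k S] [HopfRep.Comod k A S] [GLin.IsCoactAlg k A S]
variable {R : Type u} [CommRing R] [Algebra k R] [HopfRep.Comod k A R] [GLin.IsCoactAlg k A R]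

theorem evalL_map (ι : S →ₐ[k] R) (x : R →ₐ[k] k) (t : S ⊗[k] A) :
    evalL x A (Algebra.TensorProduct.map ι (AlgHom.id k A) t) = evalL (x.comp ι) A t := by
  induction t using TensorProduct.induction_on with
  | zero => simp
  | tmul s a =>
    rw [Algebra.TensorProduct.map_tmul, evalL_tmul, evalL_tmul, AlgHom.id_apply,
      AlgHom.comp_apply]
  | add t s ht hs => rw [map_add, map_add, map_add, ht, hs]

theorem orbitHom_map (ι : S →ₐ[k] R)
    (hequiv : ∀ s : S, HopfRep.Comod.coact (k := k) (A := A) (ι s) =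
      Algebra.TensorProduct.map ι (AlgHom.id k A) (HopfRep.Comod.coact (k := k) (A := A) s))
    (x : R →ₐ[k] k) (s : S) :
    GLin.orbitHom k A x (ι s) = GLin.orbitHom k A (x.comp ι) s := by
  rw [orbitHom_apply, orbitHom_apply, hequiv, evalL_map]

theorem actPt_comp (ι : S →ₐ[k] R)
    (hequiv : ∀ s : S, HopfRep.Comod.coact (k := k) (A := A) (ι s) =
      Algebra.TensorProduct.map ι (AlgHom.id k A) (HopfRep.Comod.coact (k := k) (A := A) s))
    (g : A →ₐ[k] k) (x : R →ₐ[k] k) :
    (GLin.actPt k g x).comp ι = GLin.actPt k g (x.comp ι) := by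
  apply AlgHom.ext
  intro s
  show g (GLin.orbitHom k A x (ι s)) = g (GLin.orbitHom k A (x.comp ι) s)
  rw [orbitHom_map ι hequiv]

theorem inOrbitClosure_comp (ι : S →ₐ[k] R)
    (hequiv : ∀ s : S, HopfRep.Comod.coact (k := k) (A := A) (ι s) =
      Algebra.TensorProduct.map ι (AlgHom.id k A) (HopfRep.Comod.coact (k := k) (A := A) s))
    (x w : R →ₐ[k] k) (h : GLin.InOrbitClosure k A x w) :
    GLin.InOrbitClosure k A (x.comp ι) (w.comp ι) := by
  intro s hs
  rw [RingHom.mem_ker] at hs ⊢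
  have h1 : ι s ∈ RingHom.ker (GLin.orbitHom k A x) := by
    rw [RingHom.mem_ker, orbitHom_map ι hequiv, hs]
  have h2 := h h1
  rw [RingHom.mem_ker] at h2
  exact h2

theorem actPt_apply_of_mem_invariants (g : A →ₐ[k] k) (x : R →ₐ[k] k) {f : R}
    (hf : f ∈ GLin.invariants k A R) : GLin.actPt k g x f = x f := by
  show g (GLin.orbitHom k A x f) = x f
  rw [orbitHom_of_mem_invariants x hf, AlgHom.commutes]
  rfl

end equiv

section strong

variable {k : Type u} [Field k] {A : Type u} [CommRing A] [HopfAlgebra k A]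
variable {S : Type u} [CommRing S] [Algebra k S] [HopfRep.Comod k A S] [GLin.IsCoactAlg k A S]
variable {R : Type u} [CommRing R] [Algebra k R] [HopfRep.Comod k A R] [GLin.IsCoactAlg k A R]
variable [Algebra S R] [IsScalarTower k S R]
variable {S₀ : Type u} [CommRing S₀] [Algebra k S₀] [Algebra S₀ S] [IsScalarTower k S₀ S]
variable {R₀ : Type u} [CommRing R₀] [Algebra k R₀] [Algebra R₀ R] [IsScalarTower k R₀ R]
variable [Algebra S₀ R₀] [Algebra S₀ R] [IsScalarTower S₀ S R] [IsScalarTower S₀ R₀ R]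

theorem etale_of_cart [Algebra.Etale S₀ R₀]
    (hcart : Function.Bijective (Algebra.TensorProduct.productMap
      (IsScalarTower.toAlgHom S₀ S R) (IsScalarTower.toAlgHom S₀ R₀ R))) :
    Algebra.Etale S R := by
  let φ : S ⊗[S₀] R₀ →ₐ[S] R :=
    Algebra.TensorProduct.lift (Algebra.ofId S R) (IsScalarTower.toAlgHom S₀ R₀ R)
      (fun _ _ => Commute.all _ _)
  have hφ : ∀ t, φ t = Algebra.TensorProduct.productMap
      (IsScalarTower.toAlgHom S₀ S R) (IsScalarTower.toAlgHom S₀ R₀ R) t := by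
    intro t
    induction t using TensorProduct.induction_on with
    | zero => rw [map_zero, map_zero]
    | tmul s r =>
      rw [Algebra.TensorProduct.lift_tmul, Algebra.TensorProduct.productMap_apply_tmul]
      rfl
    | add a b ha hb => rw [map_add, map_add, ha, hb]
  have hbij : Function.Bijective φ := by
    have : (φ : S ⊗[S₀] R₀ → R) = Algebra.TensorProduct.productMap
        (IsScalarTower.toAlgHom S₀ S R) (IsScalarTower.toAlgHom S₀ R₀ R) := funext hφ
    rw [this]
    exact hcart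
  exact Algebra.Etale.of_equiv (AlgEquiv.ofBijective φ hbij)

theorem eq_of_comp_eq
    (hsurj : Function.Surjective (Algebra.TensorProduct.productMap
      (IsScalarTower.toAlgHom S₀ S R) (IsScalarTower.toAlgHom S₀ R₀ R)))
    (p q : R →ₐ[k] k)
    (h1 : ∀ s : S, p (algebraMap S R s) = q (algebraMap S R s))
    (h2 : ∀ r : R₀, p (algebraMap R₀ R r) = q (algebraMap R₀ R r)) : p = q := by
  apply AlgHom.ext
  intro f
  obtain ⟨t, rfl⟩ := hsurj f
  induction t using TensorProduct.induction_on with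
  | zero => rw [map_zero, map_zero, map_zero]
  | tmul s r =>
    rw [Algebra.TensorProduct.productMap_apply_tmul, map_mul, map_mul]
    show p (algebraMap S R s) * p (algebraMap R₀ R r) =
      q (algebraMap S R s) * q (algebraMap R₀ R r)
    rw [h1, h2]
  | add a b ha hb => rw [map_add, map_add, map_add, ha, hb]

theorem actPt_eq_of_comp
    (hequiv : ∀ s : S, HopfRep.Comod.coact (k := k) (A := A) (algebraMap S R s) =
      Algebra.TensorProduct.map (IsScalarTower.toAlgHom k S R) (AlgHom.id k A)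
        (HopfRep.Comod.coact (k := k) (A := A) s))
    (hR₀ : ∀ r : R₀, algebraMap R₀ R r ∈ GLin.invariants k A R)
    (hsurj : Function.Surjective (Algebra.TensorProduct.productMap
      (IsScalarTower.toAlgHom S₀ S R) (IsScalarTower.toAlgHom S₀ R₀ R)))
    (x : R →ₐ[k] k) (g : A →ₐ[k] k)
    (h : GLin.actPt k g (x.comp (IsScalarTower.toAlgHom k S R)) =
      x.comp (IsScalarTower.toAlgHom k S R)) :
    GLin.actPt k g x = x := by
  apply eq_of_comp_eq hsurj
  · intro s
    have h1 : ((GLin.actPt k g x).comp (IsScalarTower.toAlgHom k S R)) s =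
        (x.comp (IsScalarTower.toAlgHom k S R)) s := by
      rw [actPt_comp (IsScalarTower.toAlgHom k S R) (fun s => hequiv s), h]
    exact h1
  · intro r
    exact actPt_apply_of_mem_invariants g x (hR₀ r)

theorem closed_of_closed_comp [IsAlgClosed k] [Algebra.FiniteType k A] [Algebra.FiniteType k S]
    [Algebra.FiniteType k R]
    (hequiv : ∀ s : S, HopfRep.Comod.coact (k := k) (A := A) (algebraMap S R s) =
      Algebra.TensorProduct.map (IsScalarTower.toAlgHom k S R) (AlgHom.id k A)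
        (HopfRep.Comod.coact (k := k) (A := A) s))
    (hR₀ : ∀ r : R₀, algebraMap R₀ R r ∈ GLin.invariants k A R)
    (hsurj : Function.Surjective (Algebra.TensorProduct.productMap
      (IsScalarTower.toAlgHom S₀ S R) (IsScalarTower.toAlgHom S₀ R₀ R)))
    (x : R →ₐ[k] k)
    (h : GLin.IsClosedOrbit k A (x.comp (IsScalarTower.toAlgHom k S R))) :
    GLin.IsClosedOrbit k A x := by
  rw [isClosedOrbit_iff] at h ⊢
  intro w hw
  obtain ⟨g, hg⟩ := h (w.comp (IsScalarTower.toAlgHom k S R))
    (inOrbitClosure_comp (IsScalarTower.toAlgHom k S R) (fun s => hequiv s) x w hw)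
  refine ⟨g, eq_of_comp_eq hsurj _ _ ?_ ?_⟩
  · intro s
    have h1 : (w.comp (IsScalarTower.toAlgHom k S R)) s =
        ((GLin.actPt k g x).comp (IsScalarTower.toAlgHom k S R)) s := by
      rw [hg, actPt_comp (IsScalarTower.toAlgHom k S R) (fun s => hequiv s)]
    exact h1
  · intro r
    rw [actPt_apply_of_mem_invariants g x (hR₀ r)]
    exact eq_of_inOrbitClosure x w hw (hR₀ r)

theorem exists_glue
    (hcart : Function.Bijective (Algebra.TensorProduct.productMap
      (IsScalarTower.toAlgHom S₀ S R) (IsScalarTower.toAlgHom S₀ R₀ R)))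
    (v : S →ₐ[k] k) (z : R →ₐ[k] k)
    (hvz : ∀ s₀ : S₀, v (algebraMap S₀ S s₀) = z (algebraMap S₀ R s₀)) :
    ∃ w : R →ₐ[k] k, (∀ s : S, w (algebraMap S R s) = v s) ∧
      (∀ r : R₀, w (algebraMap R₀ R r) = z (algebraMap R₀ R r)) := by
  letI algk : Algebra S₀ k := (z.toRingHom.comp (algebraMap S₀ R)).toAlgebra
  have hak : ∀ s₀ : S₀, algebraMap S₀ k s₀ = z (algebraMap S₀ R s₀) := fun s₀ => rfl
  let v' : S →ₐ[S₀] k :=
    { v.toRingHom with commutes' := fun s₀ => (hvz s₀).trans (hak s₀).symm }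
  let z' : R₀ →ₐ[S₀] k :=
    { (z.toRingHom.comp (algebraMap R₀ R)) with
      commutes' := fun s₀ => by
        show z (algebraMap R₀ R (algebraMap S₀ R₀ s₀)) = algebraMap S₀ k s₀
        rw [hak, ← IsScalarTower.algebraMap_apply S₀ R₀ R] }
  let L : S ⊗[S₀] R₀ →ₐ[S₀] k := Algebra.TensorProduct.productMap v' z'
  let e : S ⊗[S₀] R₀ ≃ₐ[S₀] R := AlgEquiv.ofBijective _ hcart
  let w₀ : R →+* k := (L : S ⊗[S₀] R₀ →+* k).comp (e.symm : R →+* S ⊗[S₀] R₀)
  have hw₀S : ∀ s : S, w₀ (algebraMap S R s) = v s := by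
    intro s
    have h1 : e (s ⊗ₜ[S₀] (1 : R₀)) = algebraMap S R s := by
      show Algebra.TensorProduct.productMap (IsScalarTower.toAlgHom S₀ S R)
        (IsScalarTower.toAlgHom S₀ R₀ R) (s ⊗ₜ[S₀] (1 : R₀)) = _
      rw [Algebra.TensorProduct.productMap_apply_tmul, map_one, mul_one]
      rfl
    show L (e.symm (algebraMap S R s)) = v s
    rw [← h1, AlgEquiv.symm_apply_apply]
    show Algebra.TensorProduct.productMap v' z' (s ⊗ₜ[S₀] (1 : R₀)) = v s
    rw [Algebra.TensorProduct.productMap_apply_tmul, map_one, mul_one]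
    rfl
  have hw₀R : ∀ r : R₀, w₀ (algebraMap R₀ R r) = z (algebraMap R₀ R r) := by
    intro r
    have h1 : e ((1 : S) ⊗ₜ[S₀] r) = algebraMap R₀ R r := by
      show Algebra.TensorProduct.productMap (IsScalarTower.toAlgHom S₀ S R)
        (IsScalarTower.toAlgHom S₀ R₀ R) ((1 : S) ⊗ₜ[S₀] r) = _
      rw [Algebra.TensorProduct.productMap_apply_tmul, map_one, one_mul]
      rfl
    have h2 : w₀ (e ((1 : S) ⊗ₜ[S₀] r)) = z (algebraMap R₀ R r) := by
      show L (e.symm (e ((1 : S) ⊗ₜ[S₀] r))) = z (algebraMap R₀ R r)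
      rw [AlgEquiv.symm_apply_apply]
      show Algebra.TensorProduct.productMap v' z' ((1 : S) ⊗ₜ[S₀] r) = z (algebraMap R₀ R r)
      rw [Algebra.TensorProduct.productMap_apply_tmul, map_one, one_mul]
      rfl
    rw [h1] at h2
    exact h2
  refine ⟨{ w₀ with commutes' := fun c => ?_ }, hw₀S, hw₀R⟩
  show w₀ (algebraMap k R c) = algebraMap k k c
  rw [IsScalarTower.algebraMap_apply k S R, hw₀S, AlgHom.commutes]

theorem exists_rep (x : R →ₐ[k] k) (t : S ⊗[S₀] R₀) :
    ∃ f' : S, ∀ p : R →ₐ[k] k,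
      (∀ r₀ : R₀, p (algebraMap R₀ R r₀) = x (algebraMap R₀ R r₀)) →
      p (Algebra.TensorProduct.productMap (IsScalarTower.toAlgHom S₀ S R)
        (IsScalarTower.toAlgHom S₀ R₀ R) t) = p (algebraMap S R f') := by
  induction t using TensorProduct.induction_on with
  | zero => exact ⟨0, fun p _ => by simp⟩
  | tmul s r =>
    refine ⟨x (algebraMap R₀ R r) • s, fun p hp => ?_⟩
    rw [Algebra.TensorProduct.productMap_apply_tmul, map_mul]
    show p (algebraMap S R s) * p (algebraMap R₀ R r) = _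
    rw [hp r, Algebra.smul_def, map_mul, map_mul, ← IsScalarTower.algebraMap_apply k S R,
      AlgHom.commutes, mul_comm]
    rfl
  | add a b ha hb =>
    obtain ⟨fa, hfa⟩ := ha
    obtain ⟨fb, hfb⟩ := hb
    exact ⟨fa + fb, fun p hp => by
      rw [map_add, map_add, map_add, map_add, hfa p hp, hfb p hp]⟩

theorem closed_comp_of_closed [IsAlgClosed k] [Algebra.FiniteType k A] [Algebra.FiniteType k S]
    [Algebra.FiniteType k R]
    (hequiv : ∀ s : S, HopfRep.Comod.coact (k := k) (A := A) (algebraMap S R s) =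
      Algebra.TensorProduct.map (IsScalarTower.toAlgHom k S R) (AlgHom.id k A)
        (HopfRep.Comod.coact (k := k) (A := A) s))
    (hS₀ : ∀ s₀ : S₀, algebraMap S₀ S s₀ ∈ GLin.invariants k A S)
    (hR₀ : ∀ r : R₀, algebraMap R₀ R r ∈ GLin.invariants k A R)
    (hcart : Function.Bijective (Algebra.TensorProduct.productMap
      (IsScalarTower.toAlgHom S₀ S R) (IsScalarTower.toAlgHom S₀ R₀ R)))
    (x : R →ₐ[k] k) (h : GLin.IsClosedOrbit k A x) :
    GLin.IsClosedOrbit k A (x.comp (IsScalarTower.toAlgHom k S R)) := by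
  rw [isClosedOrbit_iff] at h ⊢
  intro v hv
  have hvz : ∀ s₀ : S₀, v (algebraMap S₀ S s₀) = x (algebraMap S₀ R s₀) := by
    intro s₀
    rw [eq_of_inOrbitClosure (x.comp (IsScalarTower.toAlgHom k S R)) v hv (hS₀ s₀),
      IsScalarTower.algebraMap_apply S₀ S R]
    rfl
  obtain ⟨w, hwS, hwR⟩ := exists_glue hcart v x hvz
  have hw : GLin.InOrbitClosure k A x w := by
    intro f hf
    rw [RingHom.mem_ker] at hf ⊢
    obtain ⟨t, rfl⟩ := hcart.2 f
    obtain ⟨f', hf'⟩ := exists_rep x t
    have hnil : IsNilpotent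
        (GLin.orbitHom k A (x.comp (IsScalarTower.toAlgHom k S R)) f') := by
      apply Groth.Agent.Helper18.InvQ.isNilpotent_of_forall_point (k := k)
      intro g
      have h1 := hf' (GLin.actPt k g x)
        (fun r₀ => actPt_apply_of_mem_invariants g x (hR₀ r₀))
      have h2 : GLin.actPt k g x (Algebra.TensorProduct.productMap
          (IsScalarTower.toAlgHom S₀ S R) (IsScalarTower.toAlgHom S₀ R₀ R) t) = 0 := by
        show g (GLin.orbitHom k A x _) = 0
        rw [hf, map_zero]
      rw [h2] at h1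
      have h3 : g (GLin.orbitHom k A x ((IsScalarTower.toAlgHom k S R) f')) = 0 := h1.symm
      rw [orbitHom_map (IsScalarTower.toAlgHom k S R) (fun s => hequiv s)] at h3
      exact h3
    obtain ⟨n, hn⟩ := hnil
    have h4 : f' ^ n ∈
        RingHom.ker (GLin.orbitHom k A (x.comp (IsScalarTower.toAlgHom k S R))) := by
      rw [RingHom.mem_ker, map_pow, hn]
    have h5 := hv h4
    rw [RingHom.mem_ker, map_pow] at h5
    have h6 : v f' = 0 := IsReduced.eq_zero _ ⟨n, h5⟩
    rw [hf' w hwR, hwS, h6]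
  obtain ⟨g, hg⟩ := h w hw
  refine ⟨g, ?_⟩
  apply AlgHom.ext
  intro s
  rw [← hwS s, hg, ← actPt_comp (IsScalarTower.toAlgHom k S R) (fun s => hequiv s)]
  rfl

end strong

end Groth.Agent.Helper22.StrEt
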