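import Groth.Agent.Lib.Helper22.StrEt
import Groth.Agent.Lib.Helper18.DimFG
import Groth.Agent.Lib.Helper7.IntDim

/-!
# Closed orbits under finite equivariant maps (helper22)
-/

set_option autoImplicit false

namespace Groth.Agent.Helper22.StrEt

open TensorProduct Groth.Agent.Helper29.GLinOrbit Groth.Agent.Helper22.StabOpen
open Groth.Agent.Helper18.OrbitDim Groth.Agent.Helper18.OrbitMin

universe u

section dim

variable {k : Type u} [Field k] {A : Type u} [CommRing A] [HopfAlgebra k A]
variable {R : Type u} [CommRing R] [Algebra k R] [HopfRep.Comod k A R] [GLin.IsCoactAlg k A R]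

/-- a boundary orbit has strictly smaller dimension -/
theorem dim_ne_of_lt [IsAlgClosed k] [Algebra.FiniteType k A] [Algebra.FiniteType k R]
    (x w : R →ₐ[k] k)
    (hle : RingHom.ker (GLin.orbitHom k A x) ≤ RingHom.ker (GLin.orbitHom k A w))
    (hne : RingHom.ker (GLin.orbitHom k A x) ≠ RingHom.ker (GLin.orbitHom k A w))
    (hdim : ringKrullDim (R ⧸ RingHom.ker (GLin.orbitHom k A x)) =
      ringKrullDim (R ⧸ RingHom.ker (GLin.orbitHom k A w))) : False := by
  classical
  haveI : Algebra.FiniteType k (R ⧸ RingHom.ker (GLin.orbitHom k A x)) :=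
    .of_surjective (Ideal.Quotient.mkₐ k _) (Ideal.Quotient.mkₐ_surjective k _)
  haveI : Algebra.FiniteType k (R ⧸ RingHom.ker (GLin.orbitHom k A w)) :=
    .of_surjective (Ideal.Quotient.mkₐ k _) (Ideal.Quotient.mkₐ_surjective k _)
  haveI : IsNoetherianRing (R ⧸ RingHom.ker (GLin.orbitHom k A w)) :=
    Algebra.FiniteType.isNoetherianRing k _
  let φx : (R ⧸ RingHom.ker (GLin.orbitHom k A x)) →ₐ[k] A :=
    Ideal.kerLiftAlg (GLin.orbitHom k A x)
  let f : (R ⧸ RingHom.ker (GLin.orbitHom k A x)) →+* (R ⧸ RingHom.ker (GLin.orbitHom k A w)) :=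
    Ideal.Quotient.factor hle
  have hfsurj : Function.Surjective f := Ideal.Quotient.factor_surjective hle
  have hmin : ∀ Q ∈ minimalPrimes (R ⧸ RingHom.ker (GLin.orbitHom k A x)),
      ¬ RingHom.ker f ≤ Q := by
    intro Q hQ hker
    haveI hQprime : Q.IsPrime := hQ.1.1
    obtain ⟨q, hq, hqQ⟩ := Ideal.exists_comap_eq_of_mem_minimalPrimes_of_injective
      (f := φx.toRingHom) (Ideal.kerLiftAlg_injective _) Q hQ
    let QR : PrimeSpectrum R :=
      ⟨Q.comap (Ideal.Quotient.mk (RingHom.ker (GLin.orbitHom k A x))), inferInstance⟩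
    have hQR : QR ∈ Set.range (PrimeSpectrum.comap (GLin.orbitHom k A x).toRingHom) := by
      refine ⟨⟨q, hq⟩, PrimeSpectrum.ext ?_⟩
      show q.comap (GLin.orbitHom k A x).toRingHom =
        Q.comap (Ideal.Quotient.mk (RingHom.ker (GLin.orbitHom k A x)))
      rw [← hqQ]
      ext a
      simp only [Ideal.mem_comap]
      rfl
    apply not_le_of_mem_range w x hle hne QR hQR
    intro a ha
    show Ideal.Quotient.mk (RingHom.ker (GLin.orbitHom k A x)) a ∈ Q
    apply hker
    rw [RingHom.mem_ker, Ideal.Quotient.factor_mk]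
    exact Ideal.Quotient.eq_zero_iff_mem.2 ha
  haveI : Nontrivial A := (Bialgebra.counitAlgHom k A).toRingHom.domain_nontrivial
  haveI : Nontrivial (R ⧸ RingHom.ker (GLin.orbitHom k A w)) :=
    Ideal.Quotient.nontrivial_iff.2 (RingHom.ker_ne_top _)
  have hBtop : ringKrullDim (R ⧸ RingHom.ker (GLin.orbitHom k A w)) ≠ ⊤ :=
    Groth.Agent.Helper18.DimFG.ringKrullDim_ne_top (k := k) _
  haveI : FiniteRingKrullDim (R ⧸ RingHom.ker (GLin.orbitHom k A w)) := by
    rw [finiteRingKrullDim_iff_ne_bot_and_top]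
    refine ⟨?_, hBtop⟩
    intro hbot
    have := ringKrullDim_nonneg_of_nontrivial (R := R ⧸ RingHom.ker (GLin.orbitHom k A w))
    rw [hbot] at this
    exact absurd this (by simp)
  obtain ⟨n, hnmax, hnht⟩ :=
    Ideal.exists_isMaximal_height (R := R ⧸ RingHom.ker (GLin.orbitHom k A w))
  haveI hn_prime : n.IsPrime := hnmax.isPrime
  have h_ii : n.height + 1 ≤ (n.comap f).height :=
    height_add_one_le_height_comap f hfsurj hmin n
  have h_i : ((n.comap f).height : WithBot ℕ∞) ≤
      ringKrullDim (R ⧸ RingHom.ker (GLin.orbitHom k A x)) :=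
    Ideal.height_le_ringKrullDim_of_ne_top (Ideal.comap_ne_top f hn_prime.ne_top)
  have h2 : ((n.height + 1 : ℕ∞) : WithBot ℕ∞) ≤ (n.height : WithBot ℕ∞) := by
    calc ((n.height + 1 : ℕ∞) : WithBot ℕ∞) ≤ ((n.comap f).height : WithBot ℕ∞) :=
          WithBot.coe_le_coe.2 h_ii
      _ ≤ ringKrullDim (R ⧸ RingHom.ker (GLin.orbitHom k A x)) := h_i
      _ = ringKrullDim (R ⧸ RingHom.ker (GLin.orbitHom k A w)) := hdim
      _ = n.height := hnht.symm
  have h3 : n.height + 1 ≤ n.height := WithBot.coe_le_coe.1 h2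
  have hntop : n.height ≠ ⊤ := by
    intro htop
    rw [htop] at hnht
    exact hBtop hnht.symm
  exact absurd ((ENat.add_one_le_iff hntop).1 h3) (lt_irrefl _)

end dim

section fin

variable {k : Type u} [Field k] {A : Type u} [CommRing A] [HopfAlgebra k A]
variable {S : Type u} [CommRing S] [Algebra k S] [HopfRep.Comod k A S] [GLin.IsCoactAlg k A S]
variable {R : Type u} [CommRing R] [Algebra k R] [HopfRep.Comod k A R] [GLin.IsCoactAlg k A R]
variable [Algebra S R] [IsScalarTower k S R]

theorem ker_orbitHom_comp'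
    (hequiv : ∀ s : S, HopfRep.Comod.coact (k := k) (A := A) (algebraMap S R s) =
      Algebra.TensorProduct.map (IsScalarTower.toAlgHom k S R) (AlgHom.id k A)
        (HopfRep.Comod.coact (k := k) (A := A) s))
    (p : R →ₐ[k] k) :
    RingHom.ker (GLin.orbitHom k A (p.comp (IsScalarTower.toAlgHom k S R))) =
      (RingHom.ker (GLin.orbitHom k A p)).comap (algebraMap S R) := by
  ext s
  rw [Ideal.mem_comap, RingHom.mem_ker, RingHom.mem_ker,
    ← orbitHom_map (IsScalarTower.toAlgHom k S R) (fun s => hequiv s)]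
  rfl

theorem dim_quot_eq [Module.Finite S R]
    (hequiv : ∀ s : S, HopfRep.Comod.coact (k := k) (A := A) (algebraMap S R s) =
      Algebra.TensorProduct.map (IsScalarTower.toAlgHom k S R) (AlgHom.id k A)
        (HopfRep.Comod.coact (k := k) (A := A) s))
    (p : R →ₐ[k] k) :
    ringKrullDim (R ⧸ RingHom.ker (GLin.orbitHom k A p)) =
      ringKrullDim (S ⧸ RingHom.ker
        (GLin.orbitHom k A (p.comp (IsScalarTower.toAlgHom k S R)))) := by
  haveI : Algebra.IsIntegral S R := Algebra.IsIntegral.of_finite S R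
  have h1 := Groth.Agent.Helper7.IntDim.ringKrullDim_eq_of_isIntegral_of_injective
    (A := S ⧸ (RingHom.ker (GLin.orbitHom k A p)).comap (algebraMap S R))
    (B := R ⧸ RingHom.ker (GLin.orbitHom k A p)) Ideal.algebraMap_quotient_injective
  rw [h1, ker_orbitHom_comp' hequiv p]

theorem closed_of_closed_comp_finite [IsAlgClosed k] [Algebra.FiniteType k A]
    [Algebra.FiniteType k S] [Algebra.FiniteType k R] [Module.Finite S R]
    (hequiv : ∀ s : S, HopfRep.Comod.coact (k := k) (A := A) (algebraMap S R s) =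
      Algebra.TensorProduct.map (IsScalarTower.toAlgHom k S R) (AlgHom.id k A)
        (HopfRep.Comod.coact (k := k) (A := A) s))
    (x : R →ₐ[k] k)
    (h : GLin.IsClosedOrbit k A (x.comp (IsScalarTower.toAlgHom k S R))) :
    GLin.IsClosedOrbit k A x := by
  rw [isClosedOrbit_iff] at h ⊢
  intro w hw
  have hle : RingHom.ker (GLin.orbitHom k A x) ≤ RingHom.ker (GLin.orbitHom k A w) :=
    le_ker_orbitHom_of_isSubcomod _ (ker_orbitHom_isSubcomod (A := A) x) w hw
  by_cases hne : RingHom.ker (GLin.orbitHom k A x) = RingHom.ker (GLin.orbitHom k A w)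
  · exact exists_actPt_of_ker_eq x w hne
  · exfalso
    obtain ⟨g, hg⟩ := h (w.comp (IsScalarTower.toAlgHom k S R))
      (inOrbitClosure_comp (IsScalarTower.toAlgHom k S R) (fun s => hequiv s) x w hw)
    apply dim_ne_of_lt x w hle hne
    rw [dim_quot_eq hequiv x, dim_quot_eq hequiv w, hg, ker_orbitHom_actPt]

theorem closed_comp_of_closed_finite [IsAlgClosed k] [Algebra.FiniteType k A]
    [Algebra.FiniteType k S] [Algebra.FiniteType k R] [Module.Finite S R]
    (hequiv : ∀ s : S, HopfRep.Comod.coact (k := k) (A := A) (algebraMap S R s) =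
      Algebra.TensorProduct.map (IsScalarTower.toAlgHom k S R) (AlgHom.id k A)
        (HopfRep.Comod.coact (k := k) (A := A) s))
    (x : R →ₐ[k] k) (h : GLin.IsClosedOrbit k A x) :
    GLin.IsClosedOrbit k A (x.comp (IsScalarTower.toAlgHom k S R)) := by
  rw [isClosedOrbit_iff] at h ⊢
  intro v hv
  haveI : Algebra.IsIntegral S R := Algebra.IsIntegral.of_finite S R
  haveI hvmax : (RingHom.ker v).IsMaximal :=
    RingHom.ker_isMaximal_of_surjective v
      (fun c => ⟨algebraMap k S c, by rw [AlgHom.commutes]; rfl⟩)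
  have hker : RingHom.ker (algebraMap S (R ⧸ RingHom.ker (GLin.orbitHom k A x))) ≤
      RingHom.ker v := by
    intro s hs
    apply hv
    rw [ker_orbitHom_comp' hequiv x, Ideal.mem_comap]
    rw [RingHom.mem_ker] at hs
    have hs' : Ideal.Quotient.mk (RingHom.ker (GLin.orbitHom k A x)) (algebraMap S R s) = 0 := hs
    exact Ideal.Quotient.eq_zero_iff_mem.1 hs'
  obtain ⟨Q, hQmax, hQ⟩ := Ideal.exists_ideal_over_maximal_of_isIntegral
    (S := R ⧸ RingHom.ker (GLin.orbitHom k A x)) (RingHom.ker v) hker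
  haveI := hQmax
  have hQ'max : (Q.comap (Ideal.Quotient.mk (RingHom.ker (GLin.orbitHom k A x)))).IsMaximal :=
    Ideal.comap_isMaximal_of_surjective _ Ideal.Quotient.mk_surjective
  obtain ⟨w, hw⟩ := exists_point_ker_eq' (k := k) _ hQ'max
  have hKw : GLin.InOrbitClosure k A x w := by
    intro f hf
    rw [hw, Ideal.mem_comap, Ideal.Quotient.eq_zero_iff_mem.2 hf]
    exact Q.zero_mem
  have hwv : v = w.comp (IsScalarTower.toAlgHom k S R) := by
    apply eq_of_ker_le
    intro s hs
    rw [← hQ, Ideal.mem_comap] at hs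
    rw [RingHom.mem_ker]
    have h1 : algebraMap S R s ∈ RingHom.ker w := by
      rw [hw, Ideal.mem_comap]
      exact hs
    exact (RingHom.mem_ker).1 h1
  obtain ⟨g, hg⟩ := h w hKw
  refine ⟨g, ?_⟩
  rw [hwv, hg, actPt_comp (IsScalarTower.toAlgHom k S R) (fun s => hequiv s)]

end fin

end Groth.Agent.Helper22.StrEt
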