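import Groth.Agent.Lib.Helper22.StrEt
import Groth.Agent.Lib.Helper29.Reynolds
import Groth.Agent.Lib.Helper12.ComodProd

/-!
# Strongly étale maps restrict to closed invariant subschemes (helper22)

A pure commutative algebra lemma on cartesian squares modulo ideals, and the Reynolds operator
arguments identifying invariants of the quotients.
-/

set_option autoImplicit false
set_option maxHeartbeats 400000

namespace Groth.Agent.Helper22.StrEt

open TensorProduct Groth.Agent.Helper12 Groth.Agent.Helper29.GLinOrbit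
open Groth.Agent.Helper29.Reynolds

universe u

section CA

theorem exists_ringHom_of_injective {X Y Z : Type*} [CommRing X] [CommRing Y] [CommRing Z]
    (a₁ : Y →+* Z) (hinj : Function.Injective a₁) (g : X →+* Z) (h : ∀ x, ∃ y, a₁ y = g x) :
    ∃ α : X →+* Y, ∀ x, a₁ (α x) = g x := by
  choose F hF using h
  refine ⟨{ toFun := F
            map_one' := hinj (by rw [hF, map_one, map_one])
            map_mul' := fun x y => hinj (by rw [hF, map_mul, map_mul, hF, hF])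
            map_zero' := hinj (by rw [hF, map_zero, map_zero])
            map_add' := fun x y => hinj (by rw [hF, map_add, map_add, hF, hF]) },
    fun x => hF x⟩

variable {S₀ S R₀ R : Type u} [CommRing S₀] [CommRing S] [CommRing R₀] [CommRing R]
  [Algebra S R] [Algebra S₀ S] [Algebra R₀ R] [Algebra S₀ R₀] [Algebra S₀ R]
  [IsScalarTower S₀ S R] [IsScalarTower S₀ R₀ R]
variable {S' R' S₁ R₁ : Type u} [CommRing S'] [CommRing R'] [CommRing S₁] [CommRing R₁]
  [Algebra S' R'] [Algebra S₁ S'] [Algebra R₁ R'] [Algebra S₁ R₁] [Algebra S₁ R']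
  [IsScalarTower S₁ S' R'] [IsScalarTower S₁ R₁ R']

theorem cart_quot
    (hcart : Function.Bijective (Algebra.TensorProduct.productMap
      (IsScalarTower.toAlgHom S₀ S R) (IsScalarTower.toAlgHom S₀ R₀ R)))
    (q : S →+* S') (q' : R →+* R') (hq : Function.Surjective q) (hq' : Function.Surjective q')
    (hqq' : ∀ s, q' (algebraMap S R s) = algebraMap S' R' (q s))
    (hker' : RingHom.ker q' = Ideal.map (algebraMap S R) (RingHom.ker q))
    (α : S₀ →+* S₁) (β : R₀ →+* R₁) (hβ : Function.Surjective β)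
    (hα' : ∀ s₀, algebraMap S₁ S' (α s₀) = q (algebraMap S₀ S s₀))
    (hβ' : ∀ r₀, algebraMap R₁ R' (β r₀) = q' (algebraMap R₀ R r₀))
    (hαβ : ∀ s₀, algebraMap S₁ R₁ (α s₀) = β (algebraMap S₀ R₀ s₀)) :
    Function.Bijective (Algebra.TensorProduct.productMap
      (IsScalarTower.toAlgHom S₁ S' R') (IsScalarTower.toAlgHom S₁ R₁ R')) := by
  set P := Algebra.TensorProduct.productMap
    (IsScalarTower.toAlgHom S₀ S R) (IsScalarTower.toAlgHom S₀ R₀ R) with hP
  set P' := Algebra.TensorProduct.productMap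
    (IsScalarTower.toAlgHom S₁ S' R') (IsScalarTower.toAlgHom S₁ R₁ R') with hP'
  letI algC : Algebra S₀ (S' ⊗[S₁] R₁) := ((algebraMap S₁ (S' ⊗[S₁] R₁)).comp α).toAlgebra
  let f : S →ₐ[S₀] S' ⊗[S₁] R₁ :=
    { toRingHom := (Algebra.TensorProduct.includeLeftRingHom : S' →+* S' ⊗[S₁] R₁).comp q
      commutes' := fun s₀ => by
        show (q (algebraMap S₀ S s₀)) ⊗ₜ[S₁] (1 : R₁) = algebraMap S₁ (S' ⊗[S₁] R₁) (α s₀)
        rw [Algebra.TensorProduct.algebraMap_apply, hα'] }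
  let g : R₀ →ₐ[S₀] S' ⊗[S₁] R₁ :=
    { toRingHom := ((Algebra.TensorProduct.includeRight :
        R₁ →ₐ[S₁] S' ⊗[S₁] R₁).toRingHom).comp β
      commutes' := fun s₀ => by
        show (1 : S') ⊗ₜ[S₁] (β (algebraMap S₀ R₀ s₀)) = algebraMap S₁ (S' ⊗[S₁] R₁) (α s₀)
        rw [Algebra.TensorProduct.algebraMap_apply, ← hαβ,
          Algebra.algebraMap_eq_smul_one (α s₀), Algebra.algebraMap_eq_smul_one (α s₀),
          TensorProduct.smul_tmul] }
  set Ξ := Algebra.TensorProduct.productMap f g with hΞ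
  have hΞt : ∀ (s : S) (r : R₀), Ξ (s ⊗ₜ[S₀] r) = q s ⊗ₜ[S₁] β r := by
    intro s r
    rw [hΞ, Algebra.TensorProduct.productMap_apply_tmul]
    show (q s ⊗ₜ[S₁] (1 : R₁)) * ((1 : S') ⊗ₜ[S₁] β r) = _
    rw [Algebra.TensorProduct.tmul_mul_tmul, mul_one, one_mul]
  have hΞsurj : Function.Surjective Ξ := by
    intro z
    induction z using TensorProduct.induction_on with
    | zero => exact ⟨0, map_zero _⟩
    | tmul s' r₁ =>
      obtain ⟨s, rfl⟩ := hq s'
      obtain ⟨r₀, rfl⟩ := hβ r₁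
      exact ⟨s ⊗ₜ[S₀] r₀, hΞt s r₀⟩
    | add z₁ z₂ h₁ h₂ =>
      obtain ⟨w₁, rfl⟩ := h₁
      obtain ⟨w₂, rfl⟩ := h₂
      exact ⟨w₁ + w₂, map_add _ _ _⟩
  have hPt : ∀ (s : S) (r : R₀), P (s ⊗ₜ[S₀] r) = algebraMap S R s * algebraMap R₀ R r := by
    intro s r
    rw [hP, Algebra.TensorProduct.productMap_apply_tmul]
    rfl
  have hP't : ∀ (s' : S') (r₁ : R₁),
      P' (s' ⊗ₜ[S₁] r₁) = algebraMap S' R' s' * algebraMap R₁ R' r₁ := by
    intro s' r₁
    rw [hP', Algebra.TensorProduct.productMap_apply_tmul]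
    rfl
  have hcomm : ∀ w : S ⊗[S₀] R₀, P' (Ξ w) = q' (P w) := by
    intro w
    induction w using TensorProduct.induction_on with
    | zero => simp only [map_zero]
    | tmul s r => rw [hΞt, hP't, hPt, map_mul, hqq', hβ']
    | add w₁ w₂ h₁ h₂ => rw [map_add, map_add, map_add, map_add, h₁, h₂]
  have hcomp : P.toRingHom.comp
      (Algebra.TensorProduct.includeLeftRingHom : S →+* S ⊗[S₀] R₀) = algebraMap S R :=
    RingHom.ext (fun s => by
      show P (s ⊗ₜ[S₀] (1 : R₀)) = algebraMap S R s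
      rw [hPt, map_one, mul_one])
  have hkill : ∀ w : S ⊗[S₀] R₀, q' (P w) = 0 → Ξ w = 0 := by
    intro w hw
    have h1 : P w ∈ Ideal.map (algebraMap S R) (RingHom.ker q) := by
      rw [← hker']; exact RingHom.mem_ker.2 hw
    have h2 : Ideal.map P.toRingHom (Ideal.map
        (Algebra.TensorProduct.includeLeftRingHom : S →+* S ⊗[S₀] R₀) (RingHom.ker q)) =
        Ideal.map (algebraMap S R) (RingHom.ker q) := by
      rw [Ideal.map_map, hcomp]
    rw [← h2] at h1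
    obtain ⟨w', hw'J, hw'⟩ :=
      (Ideal.mem_map_iff_of_surjective P.toRingHom (fun y => hcart.2 y)).1 h1
    have hww' : w' = w := hcart.1 hw'
    rw [← hww']
    have h3 : Ideal.map (Algebra.TensorProduct.includeLeftRingHom : S →+* S ⊗[S₀] R₀)
        (RingHom.ker q) ≤ RingHom.ker Ξ.toRingHom := by
      rw [Ideal.map_le_iff_le_comap]
      intro j hj
      rw [Ideal.mem_comap, RingHom.mem_ker]
      show Ξ (j ⊗ₜ[S₀] (1 : R₀)) = 0
      rw [hΞt, RingHom.mem_ker.1 hj, TensorProduct.zero_tmul]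
    exact RingHom.mem_ker.1 (h3 hw'J)
  constructor
  · rw [injective_iff_map_eq_zero]
    intro z hz
    obtain ⟨w, rfl⟩ := hΞsurj z
    exact hkill w (by rw [← hcomm]; exact hz)
  · intro r'
    obtain ⟨r, rfl⟩ := hq' r'
    obtain ⟨w, rfl⟩ := hcart.2 r
    exact ⟨Ξ w, hcomm w⟩

omit [Algebra S R] [Algebra S₀ S] [Algebra R₀ R] [Algebra S₀ R] [IsScalarTower S₀ S R]
  [IsScalarTower S₀ R₀ R] [Algebra S' R'] [Algebra S₁ S'] [Algebra R₁ R'] [Algebra S₁ R']
  [IsScalarTower S₁ S' R'] [IsScalarTower S₁ R₁ R'] in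
theorem etale_quot [Algebra.Etale S₀ R₀]
    (α : S₀ →+* S₁) (β : R₀ →+* R₁) (hα : Function.Surjective α) (hβ : Function.Surjective β)
    (hαβ : ∀ s₀, algebraMap S₁ R₁ (α s₀) = β (algebraMap S₀ R₀ s₀))
    (hkerβ : RingHom.ker β ≤ Ideal.map (algebraMap S₀ R₀) (RingHom.ker α)) :
    Algebra.Etale S₁ R₁ := by
  letI : Algebra S₀ S₁ := α.toAlgebra
  letI : Algebra R₀ R₁ := β.toAlgebra
  letI : Algebra S₀ R₁ := ((algebraMap S₁ R₁).comp α).toAlgebra
  haveI : IsScalarTower S₀ S₁ R₁ := IsScalarTower.of_algebraMap_eq (fun _ => rfl)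
  haveI : IsScalarTower S₀ R₀ R₁ := IsScalarTower.of_algebraMap_eq (fun s₀ => hαβ s₀)
  refine etale_of_cart (S₀ := S₀) (S := S₁) (R₀ := R₀) (R := R₁) ?_
  have hPt : ∀ (s₁ : S₁) (r : R₀), Algebra.TensorProduct.productMap
      (IsScalarTower.toAlgHom S₀ S₁ R₁) (IsScalarTower.toAlgHom S₀ R₀ R₁) (s₁ ⊗ₜ[S₀] r) =
      algebraMap S₁ R₁ s₁ * β r := by
    intro s₁ r
    rw [Algebra.TensorProduct.productMap_apply_tmul]
    rfl
  constructor
  · rw [injective_iff_map_eq_zero]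
    intro z hz
    have hrep : ∀ z : S₁ ⊗[S₀] R₀, ∃ r₀ : R₀, z = (1 : S₁) ⊗ₜ[S₀] r₀ := by
      intro z
      induction z using TensorProduct.induction_on with
      | zero => exact ⟨0, (TensorProduct.tmul_zero _ _).symm⟩
      | tmul s₁ r =>
        obtain ⟨s₀, rfl⟩ := hα s₁
        refine ⟨s₀ • r, ?_⟩
        calc α s₀ ⊗ₜ[S₀] r = (s₀ • (1 : S₁)) ⊗ₜ[S₀] r := by
              rw [Algebra.smul_def, mul_one]; rfl
          _ = (1 : S₁) ⊗ₜ[S₀] (s₀ • r) := TensorProduct.smul_tmul s₀ 1 r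
      | add z₁ z₂ h₁ h₂ =>
        obtain ⟨r₁, rfl⟩ := h₁
        obtain ⟨r₂, rfl⟩ := h₂
        exact ⟨r₁ + r₂, (TensorProduct.tmul_add _ _ _).symm⟩
    obtain ⟨r₀, rfl⟩ := hrep z
    rw [hPt, map_one, one_mul] at hz
    have hr₀ : r₀ ∈ Ideal.map (algebraMap S₀ R₀) (RingHom.ker α) :=
      hkerβ (RingHom.mem_ker.2 hz)
    have hkill : ∀ r ∈ Ideal.map (algebraMap S₀ R₀) (RingHom.ker α),
        (1 : S₁) ⊗ₜ[S₀] r = 0 := by
      intro r hr
      have hr' : r ∈ Submodule.span R₀ ((algebraMap S₀ R₀) '' (RingHom.ker α : Set S₀)) := hr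
      refine Submodule.span_induction (p := fun r _ => (1 : S₁) ⊗ₜ[S₀] r = 0) ?_ ?_ ?_ ?_ hr'
      · rintro _ ⟨j, hj, rfl⟩
        have h1 : (algebraMap S₀ R₀ j) = j • (1 : R₀) := by rw [Algebra.smul_def, mul_one]
        have h2 : j • (1 : S₁) = 0 := by
          rw [Algebra.smul_def, mul_one]
          exact RingHom.mem_ker.1 hj
        rw [h1, ← TensorProduct.smul_tmul j (1 : S₁) (1 : R₀), h2, TensorProduct.zero_tmul]
      · exact TensorProduct.tmul_zero _ _
      · intro x y _ _ hx hy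
        rw [TensorProduct.tmul_add, hx, hy, add_zero]
      · intro a x _ hx
        have h3 : (1 : S₁) ⊗ₜ[S₀] (a • x) =
            ((1 : S₁) ⊗ₜ[S₀] a) * ((1 : S₁) ⊗ₜ[S₀] x) := by
          rw [Algebra.TensorProduct.tmul_mul_tmul, one_mul, smul_eq_mul]
        rw [h3, hx, mul_zero]
    exact hkill r₀ hr₀
  · intro r₁
    obtain ⟨r₀, rfl⟩ := hβ r₁
    exact ⟨(1 : S₁) ⊗ₜ[S₀] r₀, by rw [hPt, map_one, one_mul]⟩

end CA

section hopf

variable {k : Type u} [Field k] {A : Type u} [CommRing A] [HopfAlgebra k A]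
variable {S : Type u} [CommRing S] [Algebra k S] [HopfRep.Comod k A S] [GLin.IsCoactAlg k A S]
variable {R : Type u} [CommRing R] [Algebra k R] [HopfRep.Comod k A R] [GLin.IsCoactAlg k A R]

omit [HopfAlgebra k A] [HopfRep.Comod k A S] [GLin.IsCoactAlg k A S] [HopfRep.Comod k A R]
  [GLin.IsCoactAlg k A R] in
theorem map_eq_rTensor [Algebra k A] (ι : S →ₐ[k] R) (t : S ⊗[k] A) :
    Algebra.TensorProduct.map ι (AlgHom.id k A) t = ι.toLinearMap.rTensor A t := by
  induction t using TensorProduct.induction_on with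
  | zero => simp
  | tmul s a =>
    rw [Algebra.TensorProduct.map_tmul, LinearMap.rTensor_tmul]
    rfl
  | add x y hx hy => rw [map_add, map_add, hx, hy]

omit [GLin.IsCoactAlg k A S] [GLin.IsCoactAlg k A R] in
theorem isComodHom_of_equiv (ι : S →ₐ[k] R)
    (hequiv : ∀ s : S, HopfRep.Comod.coact (k := k) (A := A) (ι s) =
      Algebra.TensorProduct.map ι (AlgHom.id k A) (HopfRep.Comod.coact (k := k) (A := A) s)) :
    Hoch.IsComodHom A ι.toLinearMap := by
  apply isComodHom_of_apply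
  intro s
  rw [AlgHom.toLinearMap_apply, hequiv, map_eq_rTensor]

theorem map_mem_invariants (ι : S →ₐ[k] R)
    (hequiv : ∀ s : S, HopfRep.Comod.coact (k := k) (A := A) (ι s) =
      Algebra.TensorProduct.map ι (AlgHom.id k A) (HopfRep.Comod.coact (k := k) (A := A) s))
    {s : S} (hs : s ∈ GLin.invariants k A S) : ι s ∈ GLin.invariants k A R :=
  map_mem_fixedPts (isComodHom_of_equiv ι hequiv) hs

theorem exists_invariant_lift (hG : HopfRep.IsLinearlyReductive k A) (ι : S →ₐ[k] R)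
    (hequiv : ∀ s : S, HopfRep.Comod.coact (k := k) (A := A) (ι s) =
      Algebra.TensorProduct.map ι (AlgHom.id k A) (HopfRep.Comod.coact (k := k) (A := A) s))
    (hsurj : Function.Surjective ι) (y : R) (hy : y ∈ GLin.invariants k A R) :
    ∃ s ∈ GLin.invariants k A S, ι s = y := by
  obtain ⟨ES, hES⟩ := exists_reynolds S hG
  obtain ⟨ER, hER⟩ := exists_reynolds R hG
  have hcomm := reynolds_comm hG hES hER ι.toLinearMap (isComodHom_of_equiv ι hequiv)
  obtain ⟨w, hw⟩ := hsurj y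
  refine ⟨ES w, hES.apply_mem w, ?_⟩
  have h1 := LinearMap.congr_fun hcomm w
  rw [LinearMap.comp_apply, LinearMap.comp_apply, AlgHom.toLinearMap_apply,
    AlgHom.toLinearMap_apply, hw] at h1
  rw [← h1]
  exact (hER.2.2 y).2 hy

variable [Algebra S R] [IsScalarTower k S R]
variable {S₀ R₀ : Type u} [CommRing S₀] [CommRing R₀] [Algebra S₀ S] [Algebra R₀ R]
  [Algebra S₀ R₀] [Algebra S₀ R] [IsScalarTower S₀ S R] [IsScalarTower S₀ R₀ R]

/-- an invariant element of `J R` comes from `J₀ R₀`, `J₀ = J ∩ S₀` -/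
theorem stepC (hG : HopfRep.IsLinearlyReductive k A)
    (hequiv : ∀ s : S, HopfRep.Comod.coact (k := k) (A := A) (algebraMap S R s) =
      Algebra.TensorProduct.map (IsScalarTower.toAlgHom k S R) (AlgHom.id k A)
        (HopfRep.Comod.coact (k := k) (A := A) s))
    (hS₀ : ∀ s, s ∈ GLin.invariants k A S → ∃ s₀ : S₀, algebraMap S₀ S s₀ = s)
    (hR₀ : ∀ r₀ : R₀, algebraMap R₀ R r₀ ∈ GLin.invariants k A R)
    (hsurjP : Function.Surjective (Algebra.TensorProduct.productMap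
      (IsScalarTower.toAlgHom S₀ S R) (IsScalarTower.toAlgHom S₀ R₀ R)))
    (J : Ideal S) (hJ : HopfRep.IsSubcomod (k := k) (A := A) (J.restrictScalars k))
    (y : R) (hy : y ∈ Ideal.map (algebraMap S R) J) (hyinv : y ∈ GLin.invariants k A R) :
    ∃ r ∈ Ideal.map (algebraMap S₀ R₀) (Ideal.comap (algebraMap S₀ S) J),
      algebraMap R₀ R r = y := by
  obtain ⟨ES, hES⟩ := exists_reynolds S hG
  obtain ⟨ER, hER⟩ := exists_reynolds R hG
  have hι : Hoch.IsComodHom A (IsScalarTower.toAlgHom k S R).toLinearMap :=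
    isComodHom_of_equiv _ (fun s => hequiv s)
  have hcomm := reynolds_comm hG hES hER _ hι
  set T : Ideal R₀ := Ideal.map (algebraMap S₀ R₀) (Ideal.comap (algebraMap S₀ S) J) with hT
  have ha : ∀ (j : S) (_ : j ∈ J) (r₀ : R₀), ∃ r ∈ T,
      algebraMap R₀ R r = ER (algebraMap S R j * algebraMap R₀ R r₀) := by
    intro j hj r₀
    have h1 : ER (algebraMap S R j * algebraMap R₀ R r₀) =
        ER (algebraMap S R j) * algebraMap R₀ R r₀ := reynolds_mul hG hER _ _ (hR₀ r₀)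
    have h2 : ER (algebraMap S R j) = algebraMap S R (ES j) := LinearMap.congr_fun hcomm j
    have h3 : ES j ∈ J := reynolds_mem hG hES (J.restrictScalars k) hJ j hj
    obtain ⟨s₀, hs₀⟩ := hS₀ (ES j) (hES.apply_mem j)
    have hs₀J : s₀ ∈ Ideal.comap (algebraMap S₀ S) J := by
      rw [Ideal.mem_comap, hs₀]; exact h3
    refine ⟨algebraMap S₀ R₀ s₀ * r₀, T.mul_mem_right _ (Ideal.mem_map_of_mem _ hs₀J), ?_⟩
    rw [h1, h2, ← hs₀, map_mul, ← IsScalarTower.algebraMap_apply S₀ R₀ R,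
      ← IsScalarTower.algebraMap_apply S₀ S R]
  have hb : ∀ w : S ⊗[S₀] R₀, ∀ j ∈ J, ∃ r ∈ T, algebraMap R₀ R r =
      ER (algebraMap S R j * Algebra.TensorProduct.productMap
        (IsScalarTower.toAlgHom S₀ S R) (IsScalarTower.toAlgHom S₀ R₀ R) w) := by
    intro w
    induction w using TensorProduct.induction_on with
    | zero =>
      intro j _
      exact ⟨0, T.zero_mem, by rw [map_zero, map_zero, mul_zero, map_zero]⟩
    | tmul s r₀ =>
      intro j hj
      obtain ⟨r, hrT, hr⟩ := ha (j * s) (J.mul_mem_right s hj) r₀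
      refine ⟨r, hrT, ?_⟩
      have h5 : algebraMap S R (j * s) * algebraMap R₀ R r₀ =
          algebraMap S R j * ((IsScalarTower.toAlgHom S₀ S R) s *
            (IsScalarTower.toAlgHom S₀ R₀ R) r₀) := by
        rw [map_mul, mul_assoc]
        rfl
      rw [hr, Algebra.TensorProduct.productMap_apply_tmul, h5]
    | add w₁ w₂ h₁ h₂ =>
      intro j hj
      obtain ⟨r₁, hr₁T, hr₁⟩ := h₁ j hj
      obtain ⟨r₂, hr₂T, hr₂⟩ := h₂ j hj
      exact ⟨r₁ + r₂, T.add_mem hr₁T hr₂T, by rw [map_add, map_add, mul_add, map_add, hr₁, hr₂]⟩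
  have hy' : y ∈ Submodule.span R ((algebraMap S R) '' (J : Set S)) := hy
  have hc : ∀ r' : R, ∃ r ∈ T, algebraMap R₀ R r = ER (r' * y) := by
    refine Submodule.span_induction
      (p := fun y _ => ∀ r' : R, ∃ r ∈ T, algebraMap R₀ R r = ER (r' * y)) ?_ ?_ ?_ ?_ hy'
    · rintro _ ⟨j, hj, rfl⟩ r'
      obtain ⟨w, rfl⟩ := hsurjP r'
      obtain ⟨r, hrT, hr⟩ := hb w j hj
      exact ⟨r, hrT, by rw [hr, mul_comm]⟩
    · intro r'
      exact ⟨0, T.zero_mem, by rw [mul_zero, map_zero, map_zero]⟩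
    · intro y₁ y₂ _ _ h₁ h₂ r'
      obtain ⟨r₁, hr₁T, hr₁⟩ := h₁ r'
      obtain ⟨r₂, hr₂T, hr₂⟩ := h₂ r'
      exact ⟨r₁ + r₂, T.add_mem hr₁T hr₂T, by rw [map_add, mul_add, map_add, hr₁, hr₂]⟩
    · intro a y₁ _ h₁ r'
      obtain ⟨r, hrT, hr⟩ := h₁ (r' * a)
      exact ⟨r, hrT, by rw [hr, smul_eq_mul, mul_assoc]⟩
  obtain ⟨r, hrT, hr⟩ := hc 1
  refine ⟨r, hrT, ?_⟩
  rw [hr, one_mul]
  exact (hER.2.2 y).2 hyinv

end hopf

end Groth.Agent.Helper22.StrEt
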