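import Mathlib
import Groth.Prelude.Def_SGA1
import Groth.Agent.Lib.Helper4.ComplFin2

/-!
# Universally submersive morphisms from finite jointly surjective universally closed families
(helper22)
-/

set_option autoImplicit false
universe u
open AlgebraicGeometry CategoryTheory CategoryTheory.Limits TopologicalSpace

namespace Groth.Agent.Helper22.SubmFam

/-- If a finite family of morphisms `h i : T i ⟶ S'` has universally closed composites with
`g : S' ⟶ S` and the composites are jointly surjective, then `g` is universally submersive. -/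
theorem univSubmersive_of_family {S' S : Scheme.{u}} (g : S' ⟶ S) {ι : Type*} [Finite ι]
    (T : ι → Scheme.{u}) (h : ∀ i, T i ⟶ S') (hcl : ∀ i, UniversallyClosed (h i ≫ g))
    (hsurj : ∀ s : S, ∃ i, ∃ τ : T i, g (h i τ) = s) : SGA1.UnivSubmersive g := by
  intro X' Y' i₁ i₂ g' hpb
  change Topology.IsQuotientMap g'
  -- the big squares
  have hbig : ∀ i, IsPullback (pullback.snd (h i) i₁ ≫ g') (pullback.fst (h i) i₁) i₂ (h i ≫ g) :=
    fun i => (IsPullback.of_hasPullback (h i) i₁).flip.paste_horiz hpb
  have hclq : ∀ i, IsClosedMap (pullback.snd (h i) i₁ ≫ g') := by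
    intro i
    haveI : UniversallyClosed (pullback.snd (h i) i₁ ≫ g') :=
      MorphismProperty.of_isPullback (P := @UniversallyClosed) (hbig i).flip (hcl i)
    exact (pullback.snd (h i) i₁ ≫ g').isClosedMap
  -- lifting points
  have hlift : ∀ y' : Y', ∃ i, ∃ p : ↑(pullback (h i) i₁), (pullback.snd (h i) i₁ ≫ g') p = y' := by
    intro y'
    obtain ⟨i, τ, hτ⟩ := hsurj (i₂ y')
    obtain ⟨z, hz1, hz2⟩ := Scheme.Pullback.exists_preimage_pullback (f := i₂) (g := g) y' (h i τ)
      hτ.symm
    set x' : X' := hpb.isoPullback.inv z with hx'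
    have e1 : g' x' = y' := by
      rw [hx', ← Scheme.Hom.comp_apply, hpb.isoPullback_inv_fst, hz1]
    have e2 : i₁ x' = h i τ := by
      rw [hx', ← Scheme.Hom.comp_apply, hpb.isoPullback_inv_snd, hz2]
    obtain ⟨p, hp1, hp2⟩ := Scheme.Pullback.exists_preimage_pullback (f := h i) (g := i₁) τ x'
      e2.symm
    exact ⟨i, p, by rw [Scheme.Hom.comp_apply, hp2, e1]⟩
  rw [Topology.isQuotientMap_iff_isClosed]
  refine ⟨fun y' => ?_, fun C => ⟨fun hC => hC.preimage g'.continuous, fun hC => ?_⟩⟩
  · obtain ⟨i, p, hp⟩ := hlift y'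
    exact ⟨pullback.snd (h i) i₁ p, by rw [← Scheme.Hom.comp_apply, hp]⟩
  · have hCeq : C = ⋃ i, (pullback.snd (h i) i₁ ≫ g') '' ((pullback.snd (h i) i₁ ≫ g') ⁻¹' C) := by
      ext y'
      simp only [Set.mem_iUnion, Set.mem_image, Set.mem_preimage]
      constructor
      · intro hy
        obtain ⟨i, p, hp⟩ := hlift y'
        exact ⟨i, p, by rw [hp]; exact hy, hp⟩
      · rintro ⟨i, p, hp, rfl⟩
        exact hp
    rw [hCeq]
    refine isClosed_iUnion_of_finite fun i => hclq i _ ?_
    have : (pullback.snd (h i) i₁ ≫ g') ⁻¹' C = (pullback.snd (h i) i₁) ⁻¹' (g' ⁻¹' C) := by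
      ext p
      simp only [Set.mem_preimage, Scheme.Hom.comp_apply]
    rw [this]
    exact hC.preimage (pullback.snd (h i) i₁).continuous

/-- A point of a morphism locally of finite type whose fibre is finite is a point of
quasi-finiteness. -/
theorem quasiFiniteAt_of_finite_fiber {X Y : Scheme.{u}} (f : X ⟶ Y) [LocallyOfFiniteType f]
    (x : X) (hfin : (f ⁻¹' {f x}).Finite) : f.QuasiFiniteAt x := by
  rw [Scheme.Hom.quasiFiniteAt_iff_isOpen_singleton_asFiber]
  haveI : Finite ↑(f ⁻¹' {f x}) := hfin.to_subtype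
  haveI : Finite ↑(f.fiber (f x)) := Finite.of_equiv _ (f.fiberHomeo (f x)).symm.toEquiv
  haveI : LocallyOfFiniteType (f.fiberToSpecResidueField (f x)) := by
    delta Scheme.Hom.fiberToSpecResidueField
    exact MorphismProperty.pullback_snd (P := @LocallyOfFiniteType) _ _ inferInstance
  haveI : LocallyQuasiFinite (f.fiberToSpecResidueField (f x)) :=
    LocallyQuasiFinite.of_finite_preimage_singleton _ (fun _ => Set.toFinite _)
  haveI : IsLocallyArtinian (f.fiber (f x)) :=
    IsLocallyArtinian.of_locallyQuasiFinite (f.fiberToSpecResidueField (f x))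
  exact isOpen_discrete _

/-- Over a complete Noetherian local ring, the local ring of a point over the closed point at
which the morphism is quasi-finite is finite over the base: `Spec 𝒪_{X,x} ⟶ X ⟶ Spec A` is a
finite morphism.  (The non-separated part of helper4's `ComplFin.main`.) -/
theorem isFinite_fromSpecStalk_comp (A : Type u) [CommRing A] [IsLocalRing A] [IsNoetherianRing A]
    [IsAdicComplete (IsLocalRing.maximalIdeal A) A] (X : Scheme.{u})
    (f : X ⟶ Spec (CommRingCat.of A)) [LocallyOfFiniteType f]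
    (x : X) (hx : f x = IsLocalRing.closedPoint A) (hq : f.QuasiFiniteAt x) :
    IsFinite (X.fromSpecStalk x ≫ f) := by
  have hfac := Groth.Agent.Helper4.ComplFin.fromSpecStalk_toSpec (CommRingCat.of A) f x
  set φ := (Scheme.ΓSpecIso (CommRingCat.of A)).inv ≫ f.appTop ≫
    X.presheaf.germ ⊤ x trivial with hφ
  haveI : IsLocallyNoetherian X := LocallyOfFiniteType.isLocallyNoetherian f
  have hqf : φ.hom.QuasiFinite := by
    rw [Scheme.Hom.quasiFiniteAt_iff, hfac,
      HasRingHomProperty.Spec_iff (P := @LocallyQuasiFinite)] at hq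
    exact hq
  have hloc : IsLocalHom φ.hom := by
    apply ((IsLocalRing.local_hom_TFAE φ.hom).out 0 4).mpr
    have h1 : (Spec.map φ) (IsLocalRing.closedPoint (X.presheaf.stalk x)) =
        IsLocalRing.closedPoint A := by
      rw [← hfac, Scheme.Hom.comp_apply, Scheme.fromSpecStalk_closedPoint, hx]
    exact congrArg PrimeSpectrum.asIdeal h1
  have hfin : φ.hom.Finite := by
    letI := φ.hom.toAlgebra
    haveI : IsLocalHom (algebraMap A (X.presheaf.stalk x)) := hloc
    haveI : Algebra.QuasiFinite A (X.presheaf.stalk x) := hqf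
    exact Groth.Agent.Helper4.ComplFin.finite_of_quasiFinite_of_complete A (X.presheaf.stalk x)
  rw [hfac]
  exact (HasAffineProperty.SpecMap_iff_of_affineAnd (P := @IsFinite) (Q := RingHom.Finite)
    inferInstance RingHom.finite_respectsIso _).mpr hfin

end Groth.Agent.Helper22.SubmFam
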