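import Mathlib
import Groth.Agent.Lib.Helper22.SubtrAn1

/-!
# A non-local finitary obstruction to lifting a pair of primes (helper22)

For a domain `V` with a prime `𝔭`, an `A`-algebra structure on `V` and an `A`-algebra `C`, the pair
`(⊥, 𝔭)` of primes of `V` lifts to a pair of primes `q₁ ≤ q₂` of `V ⊗[A] C`, unless an
equation `b * (s - m) = 0` (`b ≠ 0`, `s ∉ 𝔭`, `m ∈ 𝔭 (V ⊗ C)`) holds; such an equation already
holds over a finitely generated `A`-subalgebra of `V`.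
-/

set_option autoImplicit false
universe u
open TensorProduct

namespace Groth.Agent.Helper22.SubtrLim

/-- If no equation `b * (s - m) = 0` with `b ≠ 0`, `s ∉ 𝔭`, `m ∈ 𝔭 R` holds in the `V`-algebra `R`,
then `(⊥, 𝔭)` lifts to a pair of primes of `R`. -/
theorem exists_primes' (V R : Type*) [CommRing V] [IsDomain V] [CommRing R] [Algebra V R]
    (𝔭 : Ideal V) [h𝔭 : 𝔭.IsPrime]
    (h : ∀ b : V, b ≠ 0 → ∀ s : V, s ∉ 𝔭 → ∀ m ∈ Ideal.map (algebraMap V R) 𝔭,
      algebraMap V R b * (algebraMap V R s - m) ≠ 0) :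
    ∃ q₁ q₂ : Ideal R, q₁.IsPrime ∧ q₂.IsPrime ∧ q₁ ≤ q₂ ∧ q₁.comap (algebraMap V R) = ⊥ ∧
      q₂.comap (algebraMap V R) = 𝔭 := by
  classical
  have h1𝔭 : (1 : V) ∉ 𝔭 := (Ideal.ne_top_iff_one 𝔭).mp h𝔭.ne_top
  let S₁ : Submonoid R :=
    { carrier := {x | ∃ b s : V, ∃ m : R, b ≠ 0 ∧ s ∉ 𝔭 ∧ m ∈ Ideal.map (algebraMap V R) 𝔭 ∧
        x = algebraMap V R b * (algebraMap V R s - m)}
      one_mem' := ⟨1, 1, 0, one_ne_zero, h1𝔭, Ideal.zero_mem _, by simp⟩
      mul_mem' := by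
        rintro x y ⟨b, s, m, hb, hs, hm, rfl⟩ ⟨b', s', m', hb', hs', hm', rfl⟩
        refine ⟨b * b', s * s', algebraMap V R s * m' + algebraMap V R s' * m - m * m',
          mul_ne_zero hb hb', ?_, ?_, ?_⟩
        · intro hmem
          rcases h𝔭.mem_or_mem hmem with h1 | h1
          · exact hs h1
          · exact hs' h1
        · exact Ideal.sub_mem _ (Ideal.add_mem _ (Ideal.mul_mem_left _ _ hm')
            (Ideal.mul_mem_left _ _ hm)) (Ideal.mul_mem_left _ _ hm')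
        · rw [map_mul, map_mul]; ring }
  have hS₁ : ∀ x, x ∈ S₁ ↔ ∃ b s : V, ∃ m : R, b ≠ 0 ∧ s ∉ 𝔭 ∧
      m ∈ Ideal.map (algebraMap V R) 𝔭 ∧ x = algebraMap V R b * (algebraMap V R s - m) :=
    fun x => Iff.rfl
  have hdisj : Disjoint ((⊥ : Ideal R) : Set R) (S₁ : Set R) := by
    rw [Set.disjoint_left]
    intro x hx hxS
    obtain ⟨b, s, m, hb, hs, hm, rfl⟩ := (hS₁ x).mp hxS
    exact h b hb s hs m hm ((Ideal.mem_bot).mp hx)
  obtain ⟨q₁, hq₁, -, hq₁S⟩ := Ideal.exists_le_prime_disjoint ⊥ S₁ hdisj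
  have hq₁bot : q₁.comap (algebraMap V R) = ⊥ := by
    rw [eq_bot_iff]
    intro b hb
    rw [Ideal.mem_bot]
    by_contra hb0
    have hmem : algebraMap V R b ∈ S₁ :=
      (hS₁ _).mpr ⟨b, 1, 0, hb0, h1𝔭, Ideal.zero_mem _, by simp⟩
    exact Set.disjoint_left.mp hq₁S (Ideal.mem_comap.mp hb) hmem
  let S₂ : Submonoid R := Submonoid.map ((algebraMap V R : V →+* R) : V →* R) 𝔭.primeCompl
  have hdisj₂ : Disjoint ((q₁ ⊔ Ideal.map (algebraMap V R) 𝔭 : Ideal R) : Set R) (S₂ : Set R) := by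
    rw [Set.disjoint_left]
    rintro x hx ⟨s, hs, rfl⟩
    obtain ⟨a, ha, m, hm, hsum⟩ := Submodule.mem_sup.mp hx
    have hsum' : a + m = algebraMap V R s := hsum
    have ha' : a ∈ S₁ := (hS₁ a).mpr ⟨1, s, m, one_ne_zero, hs, hm, by
      rw [map_one, one_mul]; exact eq_sub_of_add_eq hsum'⟩
    exact Set.disjoint_left.mp hq₁S ha ha'
  obtain ⟨q₂, hq₂, hle₂, hq₂S⟩ := Ideal.exists_le_prime_disjoint _ S₂ hdisj₂
  refine ⟨q₁, q₂, hq₁, hq₂, le_sup_left.trans hle₂, hq₁bot, ?_⟩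
  apply le_antisymm
  · intro v hv
    by_contra hv𝔭
    exact Set.disjoint_left.mp hq₂S (Ideal.mem_comap.mp hv) ⟨v, hv𝔭, rfl⟩
  · intro v hv
    exact Ideal.mem_comap.mpr (hle₂ (Ideal.mem_sup_right (Ideal.mem_map_of_mem _ hv)))

/-- The non-local finitary obstruction: if `(⊥, 𝔭)` does not lift to `V ⊗[A] C`, there is a finitely
generated subalgebra `B` of `V` such that no compatible pair of test maps `B → W'`, `C → W'`
to a domain with an ideal `P` exists with `B → W'` injective and `P` pulling back to `𝔭 ∩ B`. -/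
theorem exists_fg_obstruction' (A V C : Type u) [CommRing A] [CommRing V] [IsDomain V]
    [CommRing C] [Algebra A V] [Algebra A C] (𝔭 : Ideal V) [h𝔭 : 𝔭.IsPrime]
    (hno : ¬ ∃ q₁ q₂ : Ideal (V ⊗[A] C), q₁.IsPrime ∧ q₂.IsPrime ∧ q₁ ≤ q₂ ∧
        q₁.comap (algebraMap V (V ⊗[A] C)) = ⊥ ∧
        q₂.comap (algebraMap V (V ⊗[A] C)) = 𝔭) :
    ∃ B : Subalgebra A V, B.FG ∧
      ∀ (W' : Type u) [CommRing W'] [IsDomain W'] (P : Ideal W') (ν : B →+* W') (γ : C →+* W'),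
        ν.comp (algebraMap A B) = γ.comp (algebraMap A C) → Function.Injective ν →
        (∀ v : B, (v : V) ∈ 𝔭 → ν v ∈ P) → (∀ v : B, (v : V) ∉ 𝔭 → ν v ∉ P) → False := by
  classical
  obtain ⟨b, hb, s, hs, m, hm, hbm⟩ : ∃ b : V, b ≠ 0 ∧ ∃ s : V, s ∉ 𝔭 ∧
      ∃ m ∈ Ideal.map (algebraMap V (V ⊗[A] C)) 𝔭,
        algebraMap V (V ⊗[A] C) b * (algebraMap V (V ⊗[A] C) s - m) = 0 := by
    by_contra hcon
    push Not at hcon
    exact hno (exists_primes' V (V ⊗[A] C) 𝔭 hcon)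
  obtain ⟨ι, _, π, c, hπ, rfl⟩ := SubtrAn.exists_repr A V C 𝔭 m hm
  have hb' : algebraMap V (V ⊗[A] C) b = b ⊗ₜ[A] (1 : C) := by
    rw [Algebra.TensorProduct.algebraMap_apply]; rfl
  have hs' : algebraMap V (V ⊗[A] C) s = s ⊗ₜ[A] (1 : C) := by
    rw [Algebra.TensorProduct.algebraMap_apply]; rfl
  have key : (b * s) ⊗ₜ[A] (1 : C) - ∑ i, (b * π i) ⊗ₜ[A] c i = (0 : V ⊗[A] C) := by
    rw [← hbm, hb', hs', mul_sub, Finset.mul_sum, Algebra.TensorProduct.tmul_mul_tmul, mul_one]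
    congr 1
    refine Finset.sum_congr rfl (fun i _ => ?_)
    rw [Algebra.TensorProduct.tmul_mul_tmul, one_mul]
  -- first subalgebra
  set B₁ : Subalgebra A V := Algebra.adjoin A (({b, s} : Set V) ∪ Set.range π) with hB₁
  have hB₁fg : B₁.FG :=
    Subalgebra.fg_def.mpr
      ⟨_, ((Set.finite_singleton s).insert b).union (Set.finite_range π), rfl⟩
  let b₁ : B₁ := ⟨b, Algebra.subset_adjoin (Or.inl (Set.mem_insert _ _))⟩
  let s₁ : B₁ := ⟨s, Algebra.subset_adjoin (Or.inl (Set.mem_insert_of_mem _ rfl))⟩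
  let π₁ : ι → B₁ := fun i => ⟨π i, Algebra.subset_adjoin (Or.inr ⟨i, rfl⟩)⟩
  let t : B₁ ⊗[A] C := (b₁ * s₁) ⊗ₜ[A] (1 : C) - ∑ i, (b₁ * π₁ i) ⊗ₜ[A] c i
  have ht : LinearMap.rTensor C B₁.val.toLinearMap t =
      LinearMap.rTensor C B₁.val.toLinearMap (0 : B₁ ⊗[A] C) := by
    rw [map_zero]
    simp only [t, map_sub, map_sum, LinearMap.rTensor_tmul, AlgHom.toLinearMap_apply]
    exact key
  obtain ⟨B, hAB, hBfg, hB⟩ := TensorProduct.Algebra.eq_of_fg_of_subtype_eq hB₁fg ht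
  rw [map_zero] at hB
  refine ⟨B, hBfg, ?_⟩
  intro W' _ _ P ν γ hcompat hinj hin hout
  let b₂ : B := Subalgebra.inclusion hAB b₁
  let s₂ : B := Subalgebra.inclusion hAB s₁
  let π₂ : ι → B := fun i => Subalgebra.inclusion hAB (π₁ i)
  have heq : (b₂ * s₂) ⊗ₜ[A] (1 : C) - ∑ i, (b₂ * π₂ i) ⊗ₜ[A] c i = (0 : B ⊗[A] C) := by
    rw [← hB]
    simp only [t, map_sub, map_sum, LinearMap.rTensor_tmul, AlgHom.toLinearMap_apply, map_mul]
    rfl
  letI : Algebra A W' := (ν.comp (algebraMap A B)).toAlgebra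
  let ν' : B →ₐ[A] W' := { ν with commutes' := fun a => rfl }
  let γ' : C →ₐ[A] W' :=
    { γ with
      commutes' := fun a => by
        change γ (algebraMap A C a) = ν (algebraMap A B a)
        rw [← RingHom.comp_apply, ← hcompat]
        rfl }
  have h1 := congrArg (Algebra.TensorProduct.productMap ν' γ') heq
  rw [map_sub, map_sum, map_zero, Algebra.TensorProduct.productMap_apply_tmul] at h1
  simp only [Algebra.TensorProduct.productMap_apply_tmul, map_one, mul_one] at h1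
  have h2 : ν b₂ * (ν s₂ - ∑ i, ν (π₂ i) * γ (c i)) = 0 := by
    rw [mul_sub, Finset.mul_sum, ← h1]
    congr 1
    · exact (map_mul ν b₂ s₂).symm
    · refine Finset.sum_congr rfl (fun i _ => ?_)
      change ν b₂ * (ν (π₂ i) * γ (c i)) = ν (b₂ * π₂ i) * γ (c i)
      rw [map_mul, mul_assoc]
  have hb₂ : ν b₂ ≠ 0 := by
    intro h0
    have : b₂ = 0 := hinj (by rw [h0, map_zero])
    apply hb
    have h3 : ((b₂ : B) : V) = b := rfl
    rw [← h3, this]
    rfl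
  have h3 : ν s₂ = ∑ i, ν (π₂ i) * γ (c i) :=
    sub_eq_zero.mp ((mul_eq_zero.mp h2).resolve_left hb₂)
  have h4 : ν s₂ ∈ P := by
    rw [h3]
    exact Ideal.sum_mem _ (fun i _ => Ideal.mul_mem_right _ _ (hin _ (hπ i)))
  exact hout s₂ hs h4

/-- A ring map defined on a ring `E'` mapping onto (a superset of) a subalgebra `B ≤ V` descends to
`B`, provided it kills the kernel of `E' → V`. -/
theorem exists_ringHom_of_le_range {A V E' W' : Type*} [CommRing A] [CommRing V] [CommRing E']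
    [CommRing W'] [Algebra A V] [Algebra A E'] (B : Subalgebra A V) (σ : E' →ₐ[A] V)
    (hB : B ≤ σ.range) (ν₀ : E' →+* W') (hker : ∀ e, σ e = 0 → ν₀ e = 0) :
    ∃ ν : B →+* W', ∀ (v : B) (e : E'), σ e = (v : V) → ν v = ν₀ e := by
  classical
  have hex : ∀ v : B, ∃ e : E', σ e = (v : V) := fun v => (AlgHom.mem_range σ).mp (hB v.2)
  choose g hg using hex
  have hwd : ∀ (v : B) (e : E'), σ e = (v : V) → ν₀ (g v) = ν₀ e := by
    intro v e he
    have h0 : σ (g v - e) = 0 := by rw [map_sub, hg, he, sub_self]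
    have h1 := hker _ h0
    rwa [map_sub, sub_eq_zero] at h1
  refine ⟨{ toFun := fun v => ν₀ (g v)
            map_one' := by
              show ν₀ (g 1) = 1
              rw [hwd 1 1 (by rw [map_one]; rfl), map_one]
            map_mul' := fun v w => by
              show ν₀ (g (v * w)) = ν₀ (g v) * ν₀ (g w)
              rw [hwd (v * w) (g v * g w) (by rw [map_mul, hg, hg]; rfl), map_mul]
            map_zero' := by
              show ν₀ (g 0) = 0
              rw [hwd 0 0 (by rw [map_zero]; rfl), map_zero]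
            map_add' := fun v w => by
              show ν₀ (g (v + w)) = ν₀ (g v) + ν₀ (g w)
              rw [hwd (v + w) (g v + g w) (by rw [map_add, hg, hg]; rfl), map_add] }, ?_⟩
  intro v e he
  exact hwd v e he

end Groth.Agent.Helper22.SubtrLim
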