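import Mathlib
import Groth.Agent.Lib.Helper22.SubtrLim1
import Groth.Agent.Lib.Helper22.SubtrAn2
import Groth.Agent.S14768

/-!
# S-subtrusiveness passes to directed unions of rings (helper22)

`isSSubtrusive_of_directed`: if `E` is a directed union of the images of rings `E j` and the base
change of a quasi-compact `f` to every `Spec (E j)` is S-subtrusive, so is its base change to
`Spec E`.
-/

set_option autoImplicit false
universe u
open AlgebraicGeometry CategoryTheory CategoryTheory.Limits TensorProduct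

namespace Groth.Agent.Helper22.SubtrLim

/-- Transfer of a lifted pair along a factorization `r = k ≫ T` of the base-change map. -/
theorem exists_pair_of_comp {X Y Y' Z : Scheme.{u}} (f : X ⟶ Y) (k : Z ⟶ Y') (T : Y' ⟶ Y)
    (r : Z ⟶ Y) (hr : r = k ≫ T) {z z' : Z}
    (h : ∃ x x' : ↑(pullback f r), x' ⤳ x ∧ pullback.snd f r x = z ∧ pullback.snd f r x' = z') :
    ∃ w w' : ↑(pullback f T), w' ⤳ w ∧ pullback.snd f T w = k z ∧
      pullback.snd f T w' = k z' := by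
  subst hr
  obtain ⟨x, x', hxx, hx, hx'⟩ := h
  let θ : pullback f (k ≫ T) ⟶ pullback f T :=
    pullback.lift (pullback.fst _ _) (pullback.snd _ _ ≫ k)
      (by rw [pullback.condition, Category.assoc])
  have hθ : θ ≫ pullback.snd f T = pullback.snd f (k ≫ T) ≫ k := pullback.lift_snd _ _ _
  refine ⟨θ x, θ x', hxx.map θ.continuous, ?_, ?_⟩
  · rw [← Scheme.Hom.comp_apply, hθ, Scheme.Hom.comp_apply, hx]
  · rw [← Scheme.Hom.comp_apply, hθ, Scheme.Hom.comp_apply, hx']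

/-- A pair of primes of a test ring `R` over `(⊥, 𝔭)` gives a pair of points of the base change
to `Spec V`. -/
theorem exists_lift_pair' {X Y : Scheme.{u}} (f : X ⟶ Y) {U : Y.Opens} (hU : IsAffineOpen U)
    {Ω : X.Opens} (hΩ : IsAffineOpen Ω) (e : Ω ≤ f ⁻¹ᵁ U)
    (V : Type u) [CommRing V] [IsDomain V] (𝔭 : Ideal V) [h𝔭 : 𝔭.IsPrime]
    (φ : Γ(Y, U) ⟶ CommRingCat.of V)
    (R : Type u) [CommRing R] (iV : V →+* R) (iC : Γ(X, Ω) →+* R)
    (hcomp : iV.comp φ.hom = iC.comp (f.appLE U Ω e).hom)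
    (q₁ q₂ : Ideal R) (hq₁ : q₁.IsPrime) (hq₂ : q₂.IsPrime) (hle : q₁ ≤ q₂)
    (h1 : q₁.comap iV = ⊥) (h2 : q₂.comap iV = 𝔭) :
    ∃ x x' : ↑(pullback f (Spec.map φ ≫ hU.fromSpec)), x' ⤳ x ∧
      (pullback.snd f (Spec.map φ ≫ hU.fromSpec)) x = (⟨𝔭, h𝔭⟩ : PrimeSpectrum V) ∧
      (pullback.snd f (Spec.map φ ≫ hU.fromSpec)) x' =
        (⟨⊥, Ideal.isPrime_bot⟩ : PrimeSpectrum V) := by
  have e1 : f.appLE U Ω e ≫ CommRingCat.ofHom iC = φ ≫ CommRingCat.ofHom iV := by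
    ext a
    exact (RingHom.congr_fun hcomp a).symm
  let t : Spec (CommRingCat.of R) ⟶ pullback f (Spec.map φ ≫ hU.fromSpec) :=
    pullback.lift (Spec.map (CommRingCat.ofHom iC) ≫ hΩ.fromSpec)
      (Spec.map (CommRingCat.ofHom iV)) (by
        rw [Category.assoc, ← IsAffineOpen.SpecMap_appLE_fromSpec f hU hΩ e,
          ← Category.assoc, ← Category.assoc, ← Spec.map_comp, ← Spec.map_comp, e1])
  have ht : t ≫ pullback.snd f (Spec.map φ ≫ hU.fromSpec) = Spec.map (CommRingCat.ofHom iV) :=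
    pullback.lift_snd _ _ _
  refine ⟨t ⟨q₂, hq₂⟩, t ⟨q₁, hq₁⟩, ?_, ?_, ?_⟩
  · exact ((PrimeSpectrum.le_iff_specializes (⟨q₁, hq₁⟩ : PrimeSpectrum R) ⟨q₂, hq₂⟩).1 hle).map
      t.continuous
  · rw [← Scheme.Hom.comp_apply, ht]
    exact PrimeSpectrum.ext h2
  · rw [← Scheme.Hom.comp_apply, ht]
    exact PrimeSpectrum.ext h1

/-- If the base change of `f` to `Spec B` is S-subtrusive, a pair of primes `p' ≤ p` of `B` is
dominated by a valuation ring mapping compatibly to `X`. -/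
theorem exists_test_ring' {X Y : Scheme.{u}} (f : X ⟶ Y)
    {U : Y.Opens} (hU : IsAffineOpen U) (𝒲 : Set X.affineOpens)
    (hcov : ((f ⁻¹ᵁ U : X.Opens) : Set X) = ⋃ i ∈ 𝒲, ((i : X.Opens) : Set X))
    (B : Type u) [CommRing B] (β : Γ(Y, U) ⟶ CommRingCat.of B)
    (HL : Subtr.IsSSubtrusive (pullback.snd f (Spec.map β ≫ hU.fromSpec)))
    (p' p : Ideal B) [hp' : p'.IsPrime] [hp : p.IsPrime] (hle : p' ≤ p) :
    ∃ (Ω : X.affineOpens) (_ : Ω ∈ 𝒲) (e : Ω.1 ≤ f ⁻¹ᵁ U) (W' : Type u) (_ : CommRing W')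
      (_ : IsDomain W') (_ : ValuationRing W') (ν : B →+* W') (γ : Γ(X, Ω.1) →+* W'),
      ν.comp β.hom = γ.comp (f.appLE U Ω.1 e).hom ∧ Ideal.comap ν ⊥ = p' ∧
      Ideal.comap ν (IsLocalRing.maximalIdeal W') = p := by
  classical
  have hsp : (⟨p', hp'⟩ : PrimeSpectrum B) ⤳ ⟨p, hp⟩ :=
    (PrimeSpectrum.le_iff_specializes _ _).1 hle
  obtain ⟨x, x', hxx, hx, hx'⟩ := HL hsp
  obtain ⟨W', _, _, _, t, ht1, ht2⟩ := Groth.Agent.S14768.exists_valuationRing_of_specializes hxx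
  -- the map from `B`
  let νc : CommRingCat.of B ⟶ CommRingCat.of W' :=
    Spec.preimage (t ≫ pullback.snd f (Spec.map β ≫ hU.fromSpec))
  have hνc : Spec.map νc = t ≫ pullback.snd f (Spec.map β ≫ hU.fromSpec) := Spec.map_preimage _
  have hν1 : Ideal.comap νc.hom ⊥ = p' := by
    have : (Spec.map νc) (⟨⊥, Ideal.isPrime_bot⟩ : PrimeSpectrum W') =
        (⟨p', hp'⟩ : PrimeSpectrum B) := by
      rw [hνc, Scheme.Hom.comp_apply, ht2, hx']
    exact congrArg PrimeSpectrum.asIdeal this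
  have hν2 : Ideal.comap νc.hom (IsLocalRing.maximalIdeal W') = p := by
    have : (Spec.map νc) (IsLocalRing.closedPoint W') = (⟨p, hp⟩ : PrimeSpectrum B) := by
      rw [hνc, Scheme.Hom.comp_apply, ht1, hx]
    exact congrArg PrimeSpectrum.asIdeal this
  -- the member of the cover
  have hfx : f (pullback.fst f (Spec.map β ≫ hU.fromSpec) x) ∈ (U : Set Y) := by
    rw [← Scheme.Hom.comp_apply, pullback.condition, Scheme.Hom.comp_apply, hx,
      Scheme.Hom.comp_apply, ← hU.range_fromSpec]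
    exact Set.mem_range_self _
  have hmem : pullback.fst f (Spec.map β ≫ hU.fromSpec) x ∈ ((f ⁻¹ᵁ U : X.Opens) : Set X) := hfx
  rw [hcov] at hmem
  obtain ⟨Ω, hΩ, hxΩ⟩ := Set.mem_iUnion₂.mp hmem
  have e : Ω.1 ≤ f ⁻¹ᵁ U := by
    intro z hz
    have h1 : z ∈ ⋃ i ∈ 𝒲, ((i : X.Opens) : Set X) := Set.mem_biUnion hΩ hz
    rw [← hcov] at h1
    exact h1
  have hrange : Set.range (t ≫ pullback.fst f (Spec.map β ≫ hU.fromSpec)) ⊆
      Set.range Ω.2.fromSpec := by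
    rw [Ω.2.range_fromSpec]
    apply SubtrAn.range_subset_of_closedPoint_mem W' _ Ω.1
    rw [Scheme.Hom.comp_apply, ht1]
    exact hxΩ
  let t₀ := IsOpenImmersion.lift Ω.2.fromSpec
    (t ≫ pullback.fst f (Spec.map β ≫ hU.fromSpec)) hrange
  have ht₀ : t₀ ≫ Ω.2.fromSpec = t ≫ pullback.fst f (Spec.map β ≫ hU.fromSpec) :=
    IsOpenImmersion.lift_fac _ _ _
  let γc : Γ(X, Ω.1) ⟶ CommRingCat.of W' := Spec.preimage t₀
  have hγc : Spec.map γc = t₀ := Spec.map_preimage _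
  refine ⟨Ω, hΩ, e, W', inferInstance, inferInstance, inferInstance, νc.hom, γc.hom, ?_, hν1, hν2⟩
  have h1 : Spec.map (β ≫ νc) ≫ hU.fromSpec =
      Spec.map (f.appLE U Ω.1 e ≫ γc) ≫ hU.fromSpec := by
    calc Spec.map (β ≫ νc) ≫ hU.fromSpec
        = Spec.map νc ≫ (Spec.map β ≫ hU.fromSpec) := by
          rw [Spec.map_comp, Category.assoc]
      _ = t ≫ (pullback.snd f (Spec.map β ≫ hU.fromSpec) ≫ (Spec.map β ≫ hU.fromSpec)) := by
          rw [hνc, Category.assoc]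
      _ = t ≫ (pullback.fst f (Spec.map β ≫ hU.fromSpec) ≫ f) := by
          rw [pullback.condition]
      _ = (t₀ ≫ Ω.2.fromSpec) ≫ f := by rw [ht₀, Category.assoc]
      _ = t₀ ≫ (Spec.map (f.appLE U Ω.1 e) ≫ hU.fromSpec) := by
          rw [Category.assoc, IsAffineOpen.SpecMap_appLE_fromSpec f hU Ω.2 e]
      _ = Spec.map (f.appLE U Ω.1 e ≫ γc) ≫ hU.fromSpec := by
          rw [Spec.map_comp, Category.assoc, hγc]
  have h2 : β ≫ νc = f.appLE U Ω.1 e ≫ γc :=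
    Spec.map_injective ((cancel_mono hU.fromSpec).mp h1)
  have h3 := congrArg (fun ψ => ψ.hom) h2
  simpa using h3

/-- The pair-lifting statement behind `isSSubtrusive_of_directed`. -/
theorem exists_pair_of_directed {X Y : Scheme.{u}} (f : X ⟶ Y) [QuasiCompact f]
    {U : Y.Opens} (hU : IsAffineOpen U)
    (E : Type u) [CommRing E] (β : Γ(Y, U) ⟶ CommRingCat.of E)
    {ι : Type*} (Ej : ι → Type u) [∀ j, CommRing (Ej j)]
    (βj : ∀ j, Γ(Y, U) ⟶ CommRingCat.of (Ej j))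
    (ρ : ∀ j, Ej j →+* E) (hρ : ∀ j, (ρ j).comp (βj j).hom = β.hom)
    (hdir : ∀ s : Finset E, ∃ j, ∀ e ∈ s, e ∈ Set.range (ρ j))
    (H : ∀ j, Subtr.IsSSubtrusive (pullback.snd f (Spec.map (βj j) ≫ hU.fromSpec)))
    (p' p : Ideal E) [hp' : p'.IsPrime] [hp : p.IsPrime] (hle : p' ≤ p) :
    ∃ x x' : ↑(pullback f (Spec.map β ≫ hU.fromSpec)), x' ⤳ x ∧
      (pullback.snd f (Spec.map β ≫ hU.fromSpec)) x = (⟨p, hp⟩ : PrimeSpectrum E) ∧
      (pullback.snd f (Spec.map β ≫ hU.fromSpec)) x' = (⟨p', hp'⟩ : PrimeSpectrum E) := by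
  classical
  by_contra hno
  letI : Algebra Γ(Y, U) E := β.hom.toAlgebra
  have hmk : Function.Surjective (Ideal.Quotient.mk p') := Ideal.Quotient.mk_surjective
  haveI h𝔭 : (Ideal.map (Ideal.Quotient.mk p') p).IsPrime :=
    Ideal.map_isPrime_of_surjective hmk (by rw [Ideal.mk_ker]; exact hle)
  have hmem𝔭 : ∀ x : E, Ideal.Quotient.mk p' x ∈ Ideal.map (Ideal.Quotient.mk p') p ↔ x ∈ p := by
    intro x
    constructor
    · intro hx
      obtain ⟨y, hy, hyx⟩ := (Ideal.mem_map_iff_of_surjective (Ideal.Quotient.mk p') hmk).mp hx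
      have h1 : y - x ∈ p' := Ideal.Quotient.eq.mp hyx
      have h2 : x = y - (y - x) := by ring
      rw [h2]
      exact Ideal.sub_mem _ hy (hle h1)
    · exact fun hx => Ideal.mem_map_of_mem _ hx
  let φ : Γ(Y, U) ⟶ CommRingCat.of (E ⧸ p') := β ≫ CommRingCat.ofHom (Ideal.Quotient.mk p')
  have hφ : Spec.map φ ≫ hU.fromSpec =
      Spec.map (CommRingCat.ofHom (Ideal.Quotient.mk p')) ≫ (Spec.map β ≫ hU.fromSpec) := by
    rw [Spec.map_comp, Category.assoc]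
  -- a finite affine cover of `f⁻¹ U`
  have hcomp : IsCompact ((f ⁻¹ᵁ U : X.Opens) : Set X) :=
    QuasiCompact.isCompact_preimage (f := f) (U : Set Y) U.2 hU.isCompact
  obtain ⟨𝒲, h𝒲fin, hcov⟩ :=
    isCompact_and_isOpen_iff_finite_and_eq_biUnion_affineOpens.mp ⟨hcomp, (f ⁻¹ᵁ U).2⟩
  have hle𝒲 : ∀ Ω ∈ 𝒲, (Ω : X.Opens) ≤ f ⁻¹ᵁ U := by
    intro Ω hΩ z hz
    have h1 : z ∈ ⋃ i ∈ 𝒲, ((i : X.Opens) : Set X) := Set.mem_biUnion hΩ hz
    rw [← hcov] at h1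
    exact h1
  have key : ∀ Ω ∈ 𝒲, ∃ B : Subalgebra Γ(Y, U) (E ⧸ p'), B.FG ∧
      ∀ (e : Ω.1 ≤ f ⁻¹ᵁ U) (W' : Type u) [CommRing W'] [IsDomain W'] (P : Ideal W')
        (ν : B →+* W') (γ : Γ(X, Ω.1) →+* W'),
        ν.comp (algebraMap Γ(Y, U) B) = γ.comp (f.appLE U Ω.1 e).hom → Function.Injective ν →
        (∀ v : B, (v : E ⧸ p') ∈ Ideal.map (Ideal.Quotient.mk p') p → ν v ∈ P) →
        (∀ v : B, (v : E ⧸ p') ∉ Ideal.map (Ideal.Quotient.mk p') p → ν v ∉ P) → False := by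
    intro Ω hΩ
    have e := hle𝒲 Ω hΩ
    letI : Algebra Γ(Y, U) Γ(X, Ω.1) := (f.appLE U Ω.1 e).hom.toAlgebra
    have hnoq : ¬ ∃ q₁ q₂ : Ideal ((E ⧸ p') ⊗[Γ(Y, U)] Γ(X, Ω.1)), q₁.IsPrime ∧ q₂.IsPrime ∧
        q₁ ≤ q₂ ∧
        q₁.comap (algebraMap (E ⧸ p') ((E ⧸ p') ⊗[Γ(Y, U)] Γ(X, Ω.1))) = ⊥ ∧
        q₂.comap (algebraMap (E ⧸ p') ((E ⧸ p') ⊗[Γ(Y, U)] Γ(X, Ω.1))) =
          Ideal.map (Ideal.Quotient.mk p') p := by
      rintro ⟨q₁, q₂, hq₁, hq₂, hle', h1, h2⟩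
      apply hno
      have hpair := exists_lift_pair' f hU Ω.2 e (E ⧸ p') (Ideal.map (Ideal.Quotient.mk p') p) φ
        ((E ⧸ p') ⊗[Γ(Y, U)] Γ(X, Ω.1))
        (algebraMap (E ⧸ p') ((E ⧸ p') ⊗[Γ(Y, U)] Γ(X, Ω.1)))
        (Algebra.TensorProduct.includeRight :
          Γ(X, Ω.1) →ₐ[Γ(Y, U)] (E ⧸ p') ⊗[Γ(Y, U)] Γ(X, Ω.1)).toRingHom
        (by
          ext a
          have h1 : φ.hom a = algebraMap Γ(Y, U) (E ⧸ p') a :=
            Ideal.Quotient.mk_algebraMap Γ(Y, U) p' a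
          change algebraMap (E ⧸ p') ((E ⧸ p') ⊗[Γ(Y, U)] Γ(X, Ω.1)) (φ.hom a) =
            (1 : E ⧸ p') ⊗ₜ[Γ(Y, U)] (algebraMap Γ(Y, U) Γ(X, Ω.1) a)
          rw [h1, Algebra.TensorProduct.algebraMap_apply, Algebra.algebraMap_self_apply,
            Algebra.algebraMap_eq_smul_one, Algebra.algebraMap_eq_smul_one (A := Γ(X, Ω.1)),
            TensorProduct.smul_tmul])
        q₁ q₂ hq₁ hq₂ hle' h1 h2
      obtain ⟨w, w', hww, hw, hw'⟩ := exists_pair_of_comp f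
        (Spec.map (CommRingCat.ofHom (Ideal.Quotient.mk p'))) (Spec.map β ≫ hU.fromSpec)
        (Spec.map φ ≫ hU.fromSpec) hφ hpair
      refine ⟨w, w', hww, ?_, ?_⟩
      · rw [hw]
        exact PrimeSpectrum.ext (Ideal.ext fun x => hmem𝔭 x)
      · rw [hw']
        apply PrimeSpectrum.ext
        change Ideal.comap (Ideal.Quotient.mk p') ⊥ = p'
        rw [← RingHom.ker_eq_comap_bot, Ideal.mk_ker]
    obtain ⟨B, hBfg, hB⟩ :=
      exists_fg_obstruction' Γ(Y, U) (E ⧸ p') Γ(X, Ω.1) (Ideal.map (Ideal.Quotient.mk p') p) hnoq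
    exact ⟨B, hBfg, fun e' W' _ _ P ν γ h1 h2 h3 h4 => hB W' P ν γ h1 h2 h3 h4⟩
  choose! Bf hBfg hBobs using key
  have hgen : ∀ Ω ∈ 𝒲, ∃ s : Set (E ⧸ p'), s.Finite ∧ Algebra.adjoin Γ(Y, U) s = Bf Ω :=
    fun Ω hΩ => Subalgebra.fg_def.mp (hBfg Ω hΩ)
  choose! s hsfin hs using hgen
  have hSfin : (⋃ Ω ∈ 𝒲, s Ω).Finite := h𝒲fin.biUnion (fun Ω hΩ => hsfin Ω hΩ)
  -- lift the generators to `E`, then to a stage `j`
  choose lift hlift using hmk
  obtain ⟨j, hj⟩ := hdir (hSfin.toFinset.image lift)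
  have hjmem : ∀ v ∈ ⋃ Ω ∈ 𝒲, s Ω, ∃ x : Ej j, Ideal.Quotient.mk p' (ρ j x) = v := by
    intro v hv
    have h1 : lift v ∈ hSfin.toFinset.image lift :=
      Finset.mem_image_of_mem _ (hSfin.mem_toFinset.mpr hv)
    obtain ⟨x, hx⟩ := hj _ h1
    exact ⟨x, by rw [hx, hlift]⟩
  letI : Algebra Γ(Y, U) (Ej j) := (βj j).hom.toAlgebra
  let σ : Ej j →ₐ[Γ(Y, U)] (E ⧸ p') :=
    { toRingHom := (Ideal.Quotient.mk p').comp (ρ j)
      commutes' := fun a => by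
        change Ideal.Quotient.mk p' (ρ j ((βj j).hom a)) = algebraMap Γ(Y, U) (E ⧸ p') a
        have h1 : ρ j ((βj j).hom a) = β.hom a := RingHom.congr_fun (hρ j) a
        rw [h1]
        exact Ideal.Quotient.mk_algebraMap Γ(Y, U) p' a }
  have hσ : ∀ x, σ x = Ideal.Quotient.mk p' (ρ j x) := fun x => rfl
  have hBle : ∀ Ω ∈ 𝒲, Bf Ω ≤ σ.range := by
    intro Ω hΩ
    rw [← hs Ω hΩ]
    apply Algebra.adjoin_le
    intro v hv
    obtain ⟨x, hx⟩ := hjmem v (Set.mem_biUnion hΩ hv)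
    exact (AlgHom.mem_range σ).mpr ⟨x, hx⟩
  -- the stage `j`
  obtain ⟨Ω, hΩ, e, W', _, _, _, ν₀, γ, hc, hν1, hν2⟩ :=
    exists_test_ring' f hU 𝒲 hcov (Ej j) (βj j) (H j) (p'.comap (ρ j)) (p.comap (ρ j))
      (Ideal.comap_mono hle)
  have hzero : ∀ x, σ x = 0 ↔ ν₀ x = 0 := by
    intro x
    rw [hσ, Ideal.Quotient.eq_zero_iff_mem]
    have h1 : x ∈ Ideal.comap ν₀ ⊥ ↔ x ∈ p'.comap (ρ j) := by rw [hν1]
    rw [Ideal.mem_comap, Ideal.mem_bot, Ideal.mem_comap] at h1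
    exact h1.symm
  have hmax : ∀ x, σ x ∈ Ideal.map (Ideal.Quotient.mk p') p ↔
      ν₀ x ∈ IsLocalRing.maximalIdeal W' := by
    intro x
    rw [hσ, hmem𝔭]
    have h1 : x ∈ Ideal.comap ν₀ (IsLocalRing.maximalIdeal W') ↔ x ∈ p.comap (ρ j) := by rw [hν2]
    rw [Ideal.mem_comap, Ideal.mem_comap] at h1
    exact h1.symm
  obtain ⟨ν, hν⟩ := exists_ringHom_of_le_range (Bf Ω) σ (hBle Ω hΩ) ν₀
    (fun x hx => (hzero x).mp hx)
  refine hBobs Ω hΩ e W' (IsLocalRing.maximalIdeal W') ν γ ?_ ?_ ?_ ?_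
  · ext a
    have h1 : σ (algebraMap Γ(Y, U) (Ej j) a) =
        ((algebraMap Γ(Y, U) (Bf Ω) a : Bf Ω) : E ⧸ p') := σ.commutes a
    rw [RingHom.comp_apply, hν _ _ h1]
    exact RingHom.congr_fun hc a
  · rw [injective_iff_map_eq_zero]
    intro v hv
    obtain ⟨x, hx⟩ := (AlgHom.mem_range σ).mp (hBle Ω hΩ v.2)
    rw [hν v x hx] at hv
    have h2 : σ x = 0 := (hzero x).mpr hv
    exact Subtype.ext (by rw [← hx, h2]; rfl)
  · intro v hv
    obtain ⟨x, hx⟩ := (AlgHom.mem_range σ).mp (hBle Ω hΩ v.2)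
    rw [hν v x hx]
    rw [← hx] at hv
    exact (hmax x).mp hv
  · intro v hv
    obtain ⟨x, hx⟩ := (AlgHom.mem_range σ).mp (hBle Ω hΩ v.2)
    rw [hν v x hx]
    rw [← hx] at hv
    exact fun h => hv ((hmax x).mpr h)

/-- **S-subtrusiveness passes to directed unions of rings.** -/
theorem isSSubtrusive_of_directed {X Y : Scheme.{u}} (f : X ⟶ Y) [QuasiCompact f]
    {U : Y.Opens} (hU : IsAffineOpen U)
    (E : Type u) [CommRing E] (β : Γ(Y, U) ⟶ CommRingCat.of E)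
    {ι : Type*} (Ej : ι → Type u) [∀ j, CommRing (Ej j)]
    (βj : ∀ j, Γ(Y, U) ⟶ CommRingCat.of (Ej j))
    (ρ : ∀ j, Ej j →+* E) (hρ : ∀ j, (ρ j).comp (βj j).hom = β.hom)
    (hdir : ∀ s : Finset E, ∃ j, ∀ e ∈ s, e ∈ Set.range (ρ j))
    (H : ∀ j, Subtr.IsSSubtrusive (pullback.snd f (Spec.map (βj j) ≫ hU.fromSpec))) :
    Subtr.IsSSubtrusive (pullback.snd f (Spec.map β ≫ hU.fromSpec)) := by
  intro z z' hzz
  have hle : z'.asIdeal ≤ z.asIdeal := (PrimeSpectrum.le_iff_specializes z' z).2 hzz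
  haveI := z.2
  haveI := z'.2
  exact exists_pair_of_directed f hU E β Ej βj ρ hρ hdir H z'.asIdeal z.asIdeal hle

end Groth.Agent.Helper22.SubtrLim
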