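import Mathlib
import Groth.Agent.Lib.Helper22.SubtrLim2

/-!
# S-subtrusiveness passes to cofiltered limits with affine transition maps (helper22)
-/

set_option autoImplicit false
universe u
open AlgebraicGeometry CategoryTheory CategoryTheory.Limits

namespace Groth.Agent.Helper22.SubtrLim

lemma appLE_top_comp {A B Y : Scheme.{u}} [IsAffine A] [IsAffine B] (h₁ : A ⟶ B) (h₂ : B ⟶ Y)
    (h₃ : A ⟶ Y) (h : h₁ ≫ h₂ = h₃) {U : Y.Opens} (hU : IsAffineOpen U)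
    (e₂ : ⊤ ≤ h₂ ⁻¹ᵁ U) (e₃ : ⊤ ≤ h₃ ⁻¹ᵁ U) :
    h₂.appLE U ⊤ e₂ ≫ h₁.appTop = h₃.appLE U ⊤ e₃ := by
  apply Spec.map_injective
  rw [← cancel_mono hU.fromSpec, Spec.map_comp, Category.assoc,
    IsAffineOpen.SpecMap_appLE_fromSpec h₂ hU (isAffineOpen_top B) e₂,
    IsAffineOpen.SpecMap_appLE_fromSpec h₃ hU (isAffineOpen_top A) e₃,
    IsAffineOpen.fromSpec_top, IsAffineOpen.fromSpec_top, ← Category.assoc,
    Scheme.isoSpec_inv_naturality, Category.assoc, h]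

set_option maxHeartbeats 1600000 in
/-- **S-subtrusiveness passes to cofiltered limits.**  Let `Y = lim Y_j` be a cofiltered limit of
schemes with affine transition maps, all mapping compatibly to `Y₀`, and `f₀ : X₀ ⟶ Y₀`
quasi-compact.  If the base change of `f₀` to every `Y_j` is S-subtrusive, so is its base change
to `Y`. -/
theorem isSSubtrusive_of_isLimit {J : Type u} [SmallCategory J] [IsCofiltered J]
    (F : J ⥤ Scheme.{u}) (c : Cone F) (hc : IsLimit c)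
    [∀ {i j : J} (a : i ⟶ j), IsAffineHom (F.map a)]
    {X₀ Y₀ : Scheme.{u}} (f₀ : X₀ ⟶ Y₀) [QuasiCompact f₀]
    (t : F ⟶ (Functor.const J).obj Y₀)
    (H : ∀ j, Subtr.IsSSubtrusive (pullback.snd f₀ (t.app j))) (j₀ : J) :
    Subtr.IsSSubtrusive (pullback.snd f₀ (c.π.app j₀ ≫ t.app j₀)) := by
  classical
  intro y y' hyy
  -- affine opens
  obtain ⟨_, ⟨U₀, hU₀, rfl⟩, hyU₀, -⟩ := Y₀.isBasis_affineOpens.exists_subset_of_mem_open
    (Set.mem_univ ((c.π.app j₀ ≫ t.app j₀) y)) isOpen_univ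
  have hy1 : c.π.app j₀ y ∈ ((t.app j₀ ⁻¹ᵁ U₀ : (F.obj j₀).Opens) : Set (F.obj j₀)) := by
    change t.app j₀ (c.π.app j₀ y) ∈ U₀
    rw [← Scheme.Hom.comp_apply]
    exact hyU₀
  obtain ⟨_, ⟨U₁, hU₁, rfl⟩, hyU₁, hU₁le⟩ :=
    (F.obj j₀).isBasis_affineOpens.exists_subset_of_mem_open hy1 (t.app j₀ ⁻¹ᵁ U₀).2
  have hc' : IsLimit (opensCone F c j₀ U₁) := isLimitOpensCone F c hc j₀ U₁
  haveI hAffj : ∀ j' : Over j₀, IsAffine ((opensDiagram F j₀ U₁).obj j') :=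
    fun j' => hU₁.preimage (F.map j'.hom)
  haveI := isAffineHom_π_app F c hc j₀
  haveI hAff : IsAffine (opensCone F c j₀ U₁).pt := hU₁.preimage (c.π.app j₀)
  -- the maps to `Y₀`
  have htnat : ∀ j' : Over j₀, t.app j'.left = F.map j'.hom ≫ t.app j₀ := by
    intro j'
    have h1 := t.naturality j'.hom
    simp only [Functor.const_obj_obj, Functor.const_obj_map, Category.comp_id] at h1
    exact h1.symm
  let ιj : ∀ j' : Over j₀, ((opensDiagram F j₀ U₁).obj j' ⟶ F.obj j'.left) :=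
    fun j' => (F.map j'.hom ⁻¹ᵁ U₁).ι
  haveI hιj : ∀ j' : Over j₀, IsOpenImmersion (ιj j') := fun j' =>
    (inferInstance : IsOpenImmersion (F.map j'.hom ⁻¹ᵁ U₁).ι)
  let ιo : (opensCone F c j₀ U₁).pt ⟶ c.pt := (c.π.app j₀ ⁻¹ᵁ U₁).ι
  haveI hιo : IsOpenImmersion ιo :=
    (inferInstance : IsOpenImmersion (c.π.app j₀ ⁻¹ᵁ U₁).ι)
  let tj : ∀ j' : Over j₀, ((opensDiagram F j₀ U₁).obj j' ⟶ Y₀) :=
    fun j' => ιj j' ≫ t.app j'.left
  have hrange : ∀ j' : Over j₀, (⊤ : ((opensDiagram F j₀ U₁).obj j').Opens) ≤ tj j' ⁻¹ᵁ U₀ := by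
    intro j' z _
    have hz : (F.map j'.hom ⁻¹ᵁ U₁).ι z ∈ ((F.map j'.hom ⁻¹ᵁ U₁ : (F.obj j'.left).Opens) :
        Set (F.obj j'.left)) := by
      rw [← Scheme.Opens.range_ι]
      exact Set.mem_range_self z
    have h2 : F.map j'.hom ((F.map j'.hom ⁻¹ᵁ U₁).ι z) ∈ (U₁ : Set (F.obj j₀)) := hz
    have h3 : t.app j₀ (F.map j'.hom ((F.map j'.hom ⁻¹ᵁ U₁).ι z)) ∈ U₀ := hU₁le h2
    change ((F.map j'.hom ⁻¹ᵁ U₁).ι ≫ t.app j'.left) z ∈ U₀
    rw [htnat j', Scheme.Hom.comp_apply, Scheme.Hom.comp_apply]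
    exact h3
  let T' : (opensCone F c j₀ U₁).pt ⟶ Y₀ := ιo ≫ c.π.app j₀ ≫ t.app j₀
  have hT' : ∀ j' : Over j₀, (opensCone F c j₀ U₁).π.app j' ≫ tj j' = T' := by
    intro j'
    change (c.π.app j'.left).resLE _ _ _ ≫ ((F.map j'.hom ⁻¹ᵁ U₁).ι ≫ t.app j'.left) =
      (c.π.app j₀ ⁻¹ᵁ U₁).ι ≫ c.π.app j₀ ≫ t.app j₀
    rw [Scheme.Hom.resLE_comp_ι_assoc, htnat j', Cone.w_assoc]
  have hT'range : (⊤ : ((opensCone F c j₀ U₁).pt).Opens) ≤ T' ⁻¹ᵁ U₀ := by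
    intro z _
    change T' z ∈ U₀
    rw [← hT' (Over.mk (𝟙 j₀)), Scheme.Hom.comp_apply]
    exact hrange (Over.mk (𝟙 j₀)) (by trivial)
  -- the rings
  have hρ : ∀ j' : Over j₀, (((opensCone F c j₀ U₁).π.app j').appTop.hom).comp
      ((tj j').appLE U₀ ⊤ (hrange j')).hom = (T'.appLE U₀ ⊤ hT'range).hom := by
    intro j'
    have h1 := appLE_top_comp (A := (opensCone F c j₀ U₁).pt)
      (B := (opensDiagram F j₀ U₁).obj j') ((opensCone F c j₀ U₁).π.app j') (tj j') T' (hT' j') hU₀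
      (hrange j') hT'range
    rw [← h1]
    rfl
  have hmono : ∀ {j₁ j₂ : Over j₀} (a : j₁ ⟶ j₂),
      Set.range ((opensCone F c j₀ U₁).π.app j₂).appTop.hom ⊆
        Set.range ((opensCone F c j₀ U₁).π.app j₁).appTop.hom := by
    rintro j₁ j₂ a _ ⟨x, rfl⟩
    refine ⟨((opensDiagram F j₀ U₁).map a).appTop.hom x, ?_⟩
    have h1 := (opensCone F c j₀ U₁).w a
    rw [← h1, Scheme.Hom.comp_appTop]
    rfl
  have hdir : ∀ s : Finset Γ((opensCone F c j₀ U₁).pt, ⊤), ∃ j' : Over j₀, ∀ e ∈ s,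
      e ∈ Set.range ((opensCone F c j₀ U₁).π.app j').appTop.hom := by
    intro s
    induction s using Finset.induction_on with
    | empty => exact ⟨Over.mk (𝟙 j₀), fun e he => absurd he (Finset.notMem_empty e)⟩
    | insert a s ha ih =>
      obtain ⟨j₁, hj₁⟩ := ih
      obtain ⟨j₂, x, hx⟩ := exists_appTop_π_eq_of_isAffine_of_isLimit _ _ hc' a
      refine ⟨IsCofiltered.min j₁ j₂, fun e he => ?_⟩
      rcases Finset.mem_insert.mp he with rfl | he'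
      · exact hmono (IsCofiltered.minToRight j₁ j₂) ⟨x, hx⟩
      · exact hmono (IsCofiltered.minToLeft j₁ j₂) (hj₁ e he')
  have H' : ∀ j' : Over j₀, Subtr.IsSSubtrusive
      (pullback.snd f₀ (Spec.map ((tj j').appLE U₀ ⊤ (hrange j')) ≫ hU₀.fromSpec)) := by
    intro j'
    have hk := SubtrAn.isSSubtrusive_of_isPreimmersion f₀ (t.app j'.left)
      ((isAffineOpen_top ((opensDiagram F j₀ U₁).obj j')).fromSpec ≫ ιj j')
      (H j'.left)
    have heq : ((isAffineOpen_top ((opensDiagram F j₀ U₁).obj j')).fromSpec ≫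
        ιj j') ≫ t.app j'.left =
        Spec.map ((tj j').appLE U₀ ⊤ (hrange j')) ≫ hU₀.fromSpec := by
      rw [Category.assoc]
      exact (IsAffineOpen.SpecMap_appLE_fromSpec (tj j') hU₀ (isAffineOpen_top _)
        (hrange j')).symm
    rw [heq] at hk
    exact hk
  have R := isSSubtrusive_of_directed f₀ hU₀ Γ((opensCone F c j₀ U₁).pt, ⊤)
    (T'.appLE U₀ ⊤ hT'range) (fun j' : Over j₀ => Γ((opensDiagram F j₀ U₁).obj j', ⊤))
    (fun j' => (tj j').appLE U₀ ⊤ (hrange j'))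
    (fun j' => ((opensCone F c j₀ U₁).π.app j').appTop.hom) hρ hdir H'
  -- the points
  have hyU : y ∈ (c.π.app j₀ ⁻¹ᵁ U₁ : c.pt.Opens) := hyU₁
  have hy'U : y' ∈ (c.π.app j₀ ⁻¹ᵁ U₁ : c.pt.Opens) :=
    hyy.mem_open (c.π.app j₀ ⁻¹ᵁ U₁).2 hyU
  let k' : Spec Γ((opensCone F c j₀ U₁).pt, ⊤) ⟶ c.pt :=
    (isAffineOpen_top (opensCone F c j₀ U₁).pt).fromSpec ≫ ιo
  haveI hk'oi : IsOpenImmersion k' := by
    dsimp only [k']; infer_instance
  have hsurj : ∀ w : c.pt, w ∈ (c.π.app j₀ ⁻¹ᵁ U₁ : c.pt.Opens) → ∃ z, k' z = w := by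
    intro w hw
    have h1 : w ∈ Set.range (c.π.app j₀ ⁻¹ᵁ U₁).ι := by
      rw [Scheme.Opens.range_ι]; exact hw
    obtain ⟨u, hu⟩ := h1
    have h2 : u ∈ Set.range (isAffineOpen_top (opensCone F c j₀ U₁).pt).fromSpec := by
      rw [IsAffineOpen.range_fromSpec]; trivial
    obtain ⟨z, hz⟩ := h2
    refine ⟨z, ?_⟩
    rw [Scheme.Hom.comp_apply, hz]
    exact hu
  obtain ⟨z, hz⟩ := hsurj y hyU
  obtain ⟨z', hz'⟩ := hsurj y' hy'U
  have hzz : z' ⤳ z := by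
    rw [← k'.isOpenEmbedding.isInducing.specializes_iff, hz, hz']
    exact hyy
  have heq' : Spec.map (T'.appLE U₀ ⊤ hT'range) ≫ hU₀.fromSpec =
      k' ≫ (c.π.app j₀ ≫ t.app j₀) := by
    rw [IsAffineOpen.SpecMap_appLE_fromSpec T' hU₀ (isAffineOpen_top _) hT'range, Category.assoc]
  obtain ⟨w, w', hww, hw, hw'⟩ := exists_pair_of_comp f₀ k' (c.π.app j₀ ≫ t.app j₀)
    (Spec.map (T'.appLE U₀ ⊤ hT'range) ≫ hU₀.fromSpec) heq' (R hzz)
  exact ⟨w, w', hww, hw.trans hz, hw'.trans hz'⟩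

end Groth.Agent.Helper22.SubtrLim
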