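import Mathlib
import Groth.Agent.Lib.Helper22.GF01

/-!
# Trace of the symmetric tensor power in coordinates

For a free module `V` with basis `b` and an endomorphism `u`, the trace of the endomorphism induced
by `u` on the module of symmetric tensors `TS^n V` is the universal expression `TT n U` in the
matrix `U` of `u`.
-/

set_option maxHeartbeats 1600000
set_option autoImplicit false

open scoped TensorProduct
open Classical

namespace Groth.Agent.Helper22.SymTr

/-- symmetric tensors -/
noncomputable def TS (A : Type*) [CommRing A] (V : Type*) [AddCommGroup V] [Module A V] (n : ℕ) :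
    Submodule A (⨂[A] _ : Fin n, V) :=
  ⨅ σ : Equiv.Perm (Fin n),
    LinearMap.eqLocus ((PiTensorProduct.reindex A (fun _ : Fin n => V) σ).toLinearMap) LinearMap.id

theorem mem_TS {A : Type*} [CommRing A] {V : Type*} [AddCommGroup V] [Module A V] {n : ℕ}
    (t : ⨂[A] _ : Fin n, V) :
    t ∈ TS A V n ↔
      ∀ σ : Equiv.Perm (Fin n), PiTensorProduct.reindex A (fun _ : Fin n => V) σ t = t := by
  unfold TS
  rw [Submodule.mem_iInf]
  apply forall_congr'
  intro σ
  rw [LinearMap.mem_eqLocus]
  rfl

/-- canonical representatives of sequences up to permutation -/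
abbrev J (n : ℕ) (ι : Type*) := {f : Fin n → ι // GF.rep f = f}

/-- the canonical representative of a sequence -/
noncomputable def toJ {n : ℕ} {ι : Type*} (g : Fin n → ι) : J n ι := ⟨GF.rep g, GF.rep_rep g⟩

theorem toJ_eq_iff {n : ℕ} {ι : Type*} (g : Fin n → ι) (f : J n ι) :
    toJ g = f ↔ GF.rep g = f.1 := by
  constructor
  · intro h
    rw [← h]
    rfl
  · intro h
    exact Subtype.ext h

/-- the universal expression of the trace of the symmetric power -/
noncomputable def TT {R : Type*} [CommRing R] {ι : Type*} [Fintype ι] (n : ℕ)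
    (U : Matrix ι ι R) : R :=
  ∑ f : J n ι, ∑ g : Fin n → ι, if GF.rep g = f.1 then ∏ k, U (f.1 k) (g k) else 0

theorem TT_map {R S : Type*} [CommRing R] [CommRing S] {ι : Type*} [Fintype ι] (ψ : R →+* S)
    (n : ℕ) (U : Matrix ι ι R) : TT n (U.map ψ) = ψ (TT n U) := by
  unfold TT
  rw [map_sum]
  apply Finset.sum_congr rfl
  intro f _
  rw [map_sum]
  apply Finset.sum_congr rfl
  intro g _
  by_cases h : GF.rep g = f.1
  · rw [if_pos h, if_pos h, map_prod]
    rfl
  · rw [if_neg h, if_neg h, map_zero]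

section Gam
variable {A : Type*} [CommRing A] {V : Type*} [AddCommGroup V] [Module A V] (n : ℕ)

theorem map_mem_TS (u : V →ₗ[A] V) {x : ⨂[A] _ : Fin n, V} (hx : x ∈ TS A V n) :
    PiTensorProduct.map (fun _ : Fin n => u) x ∈ TS A V n := by
  rw [mem_TS] at hx ⊢
  intro σ
  have h : PiTensorProduct.map (fun _ : Fin n => u)
      (PiTensorProduct.reindex A (fun _ : Fin n => V) σ x) =
      PiTensorProduct.reindex A (fun _ : Fin n => V) σ
        (PiTensorProduct.map (fun _ : Fin n => u) x) :=
    PiTensorProduct.map_reindex (fun _ : Fin n => u) σ x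
  rw [← h, hx σ]

/-- the endomorphism of `TS^n V` induced by `u` -/
noncomputable def gam (u : V →ₗ[A] V) : ↥(TS A V n) →ₗ[A] ↥(TS A V n) :=
  (PiTensorProduct.map (fun _ : Fin n => u)).restrict (fun _ hx => map_mem_TS n u hx)

theorem gam_coe (u : V →ₗ[A] V) (x : ↥(TS A V n)) :
    ((gam n u x : ↥(TS A V n)) : ⨂[A] _ : Fin n, V) =
      PiTensorProduct.map (fun _ : Fin n => u) (x : ⨂[A] _ : Fin n, V) := rfl

end Gam

section Coord
variable {A : Type*} [CommRing A] {V : Type*} [AddCommGroup V] [Module A V] {ι : Type*}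
  [Fintype ι] (b : Module.Basis ι A V) (n : ℕ)

/-- the product basis of the tensor power -/
noncomputable def eT : Module.Basis (Fin n → ι) A (⨂[A] _ : Fin n, V) :=
  Basis.piTensorProduct (fun _ : Fin n => b)

theorem eT_apply (f : Fin n → ι) :
    eT b n f = PiTensorProduct.tprod A (fun j => b (f j)) :=
  Basis.piTensorProduct_apply _ f

theorem reindex_eT (σ : Equiv.Perm (Fin n)) (f : Fin n → ι) :
    PiTensorProduct.reindex A (fun _ : Fin n => V) σ (eT b n f) = eT b n (f ∘ σ.symm) := by
  rw [eT_apply, eT_apply, PiTensorProduct.reindex_tprod]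
  rfl

theorem coord_reindex (σ : Equiv.Perm (Fin n)) (g : Fin n → ι) :
    (eT b n).coord (g ∘ σ) =
      (eT b n).coord g ∘ₗ (PiTensorProduct.reindex A (fun _ : Fin n => V) σ).toLinearMap := by
  apply (eT b n).ext
  intro f
  have hiff : f = g ∘ σ ↔ f ∘ σ.symm = g := by
    constructor
    · intro h
      subst h
      funext j
      show g (σ (σ.symm j)) = g j
      rw [Equiv.apply_symm_apply]
    · intro h
      subst h
      funext j
      show f j = f (σ.symm (σ j))
      rw [Equiv.symm_apply_apply]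
  have h1 : ((eT b n).coord g ∘ₗ
      (PiTensorProduct.reindex A (fun _ : Fin n => V) σ).toLinearMap) (eT b n f) =
      (eT b n).coord g (eT b n (f ∘ σ.symm)) := by
    rw [← reindex_eT]
    rfl
  rw [h1, Module.Basis.coord_apply, Module.Basis.coord_apply, Module.Basis.repr_self,
    Module.Basis.repr_self, Finsupp.single_apply, Finsupp.single_apply]
  by_cases h : f = g ∘ σ
  · rw [if_pos h, if_pos (hiff.mp h)]
  · rw [if_neg h, if_neg (fun h' => h (hiff.mpr h'))]

theorem repr_reindex (σ : Equiv.Perm (Fin n)) (x : ⨂[A] _ : Fin n, V) (g : Fin n → ι) :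
    (eT b n).repr (PiTensorProduct.reindex A (fun _ : Fin n => V) σ x) g =
      (eT b n).repr x (g ∘ σ) :=
  (LinearMap.congr_fun (coord_reindex b n σ g) x).symm

theorem repr_sym {x : ⨂[A] _ : Fin n, V} (hx : x ∈ TS A V n) (σ : Equiv.Perm (Fin n))
    (g : Fin n → ι) : (eT b n).repr x (g ∘ σ) = (eT b n).repr x g := by
  rw [← repr_reindex, (mem_TS x).mp hx σ]

theorem repr_rep {x : ⨂[A] _ : Fin n, V} (hx : x ∈ TS A V n) (g : Fin n → ι) :
    (eT b n).repr x (GF.rep g) = (eT b n).repr x g := by
  obtain ⟨σ, hσ⟩ := GF.rep_spec g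
  rw [hσ, repr_sym b n hx]

/-- precomposition with a permutation, as a permutation of sequences -/
def precomp (σ : Equiv.Perm (Fin n)) : (Fin n → ι) ≃ (Fin n → ι) where
  toFun g := g ∘ σ.symm
  invFun g := g ∘ σ
  left_inv g := by
    funext j
    show g (σ.symm (σ j)) = g j
    rw [Equiv.symm_apply_apply]
  right_inv g := by
    funext j
    show g (σ (σ.symm j)) = g j
    rw [Equiv.apply_symm_apply]

/-- the symmetric tensor with prescribed coordinates on canonical representatives -/
noncomputable def symSum (c : J n ι → A) : ⨂[A] _ : Fin n, V :=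
  ∑ g : Fin n → ι, c (toJ g) • eT b n g

theorem symSum_mem (c : J n ι → A) : symSum b n c ∈ TS A V n := by
  rw [mem_TS]
  intro σ
  unfold symSum
  rw [map_sum]
  have h1 : ∀ g : Fin n → ι,
      PiTensorProduct.reindex A (fun _ : Fin n => V) σ (c (toJ g) • eT b n g) =
      c (toJ (g ∘ σ.symm)) • eT b n (g ∘ σ.symm) := by
    intro g
    rw [map_smul, reindex_eT,
      show toJ (g ∘ σ.symm) = toJ g from Subtype.ext (GF.rep_comp g σ.symm)]
  rw [Finset.sum_congr rfl (fun g _ => h1 g)]
  exact Equiv.sum_comp (precomp (ι := ι) n σ) (fun g => c (toJ g) • eT b n g)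

/-- coordinates on canonical representatives identify `TS^n V` with a free module -/
noncomputable def EJ : ↥(TS A V n) ≃ₗ[A] (J n ι → A) where
  toFun x := fun f => (eT b n).repr x.1 f.1
  map_add' x y := by
    funext f
    simp only [Submodule.coe_add, map_add, Finsupp.coe_add, Pi.add_apply]
  map_smul' a x := by
    funext f
    simp only [Submodule.coe_smul, map_smul, Finsupp.coe_smul, Pi.smul_apply, RingHom.id_apply]
  invFun c := ⟨symSum b n c, symSum_mem b n c⟩
  left_inv x := by
    apply Subtype.ext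
    have h1 : ∀ g : Fin n → ι, (eT b n).repr x.1 (toJ g).1 = (eT b n).repr x.1 g :=
      fun g => repr_rep b n x.2 g
    have h2 : (∑ g : Fin n → ι, (eT b n).repr x.1 (toJ g).1 • eT b n g) = x.1 := by
      rw [Finset.sum_congr rfl (fun g _ => by rw [h1 g])]
      exact (eT b n).sum_repr x.1
    exact h2
  right_inv c := by
    funext f
    have h := Module.Basis.repr_sum_self (eT b n) (fun g => c (toJ g))
    have h' := congrFun h f.1
    have h3 : toJ f.1 = f := (toJ_eq_iff f.1 f).mpr f.2
    have h4 : c (toJ f.1) = c f := by rw [h3]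
    exact h'.trans h4

/-- the basis of `TS^n V` given by orbit sums -/
noncomputable def BJ : Module.Basis (J n ι) A ↥(TS A V n) := Module.Basis.ofEquivFun (EJ b n)

theorem BJ_repr (x : ↥(TS A V n)) (f : J n ι) :
    (BJ b n).repr x f = (eT b n).repr x.1 f.1 :=
  Module.Basis.ofEquivFun_repr_apply (EJ b n) x f

theorem BJ_coe (f : J n ι) : ((BJ b n f : ↥(TS A V n)) : ⨂[A] _ : Fin n, V) =
    ∑ g : Fin n → ι, if GF.rep g = f.1 then eT b n g else 0 := by
  unfold BJ
  rw [Module.Basis.coe_ofEquivFun]
  show symSum b n (Pi.single f 1) = _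
  unfold symSum
  apply Finset.sum_congr rfl
  intro g _
  rw [Pi.single_apply]
  by_cases h : GF.rep g = f.1
  · rw [if_pos h, if_pos ((toJ_eq_iff g f).mpr h), one_smul]
  · rw [if_neg h, if_neg (fun h' => h ((toJ_eq_iff g f).mp h')), zero_smul]

theorem repr_map_eT [DecidableEq ι] (u : V →ₗ[A] V) (f g : Fin n → ι) :
    (eT b n).repr (PiTensorProduct.map (fun _ : Fin n => u) (eT b n g)) f =
      ∏ k, (LinearMap.toMatrix b b u) (f k) (g k) := by
  rw [eT_apply, PiTensorProduct.map_tprod]
  unfold eT
  rw [Basis.piTensorProduct_repr_tprod_apply]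
  apply Finset.prod_congr rfl
  intro k _
  rw [LinearMap.toMatrix_apply]

/-- the trace formula -/
theorem trace_eq_TT [DecidableEq ι] (u : V →ₗ[A] V) (γ : ↥(TS A V n) →ₗ[A] ↥(TS A V n))
    (hγ : ∀ x : ↥(TS A V n), ((γ x : ↥(TS A V n)) : ⨂[A] _ : Fin n, V) =
      PiTensorProduct.map (fun _ : Fin n => u) (x : ⨂[A] _ : Fin n, V)) :
    LinearMap.trace A ↥(TS A V n) γ = TT n (LinearMap.toMatrix b b u) := by
  rw [LinearMap.trace_eq_matrix_trace A (BJ b n) γ]
  unfold TT Matrix.trace
  refine Finset.sum_congr (Finset.ext (fun x => by simp only [Finset.mem_univ])) ?_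
  intro f _
  rw [Matrix.diag_apply, LinearMap.toMatrix_apply, BJ_repr, hγ, BJ_coe, map_sum, map_sum,
    Finsupp.finsetSum_apply]
  apply Finset.sum_congr rfl
  intro g _
  by_cases h : GF.rep g = f.1
  · rw [if_pos h, if_pos h, repr_map_eT]
  · rw [if_neg h, if_neg h, map_zero, map_zero, Finsupp.zero_apply]

end Coord

end Groth.Agent.Helper22.SymTr
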