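import Mathlib
import Groth.Agent.Lib.Helper22.SymTr1

/-!
# The symmetric power trace series for a triangular matrix
-/

set_option maxHeartbeats 1600000
set_option autoImplicit false

open scoped TensorProduct
open Classical

namespace Groth.Agent.Helper22.SymTr

section Tri
variable {R : Type*} [CommRing R] {ι : Type*} [Fintype ι]

theorem prod_comp_typ (n : ℕ) (c : ι → R) (f : Fin n → ι) :
    ∏ j, c (f j) = ∏ i, c i ^ (GF.typ f i) := by
  rw [← Finset.prod_fiberwise Finset.univ f (fun j => c (f j))]
  apply Finset.prod_congr rfl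
  intro i _
  rw [GF.typ_apply, ← Finset.prod_const]
  apply Finset.prod_congr rfl
  intro j hj
  rw [(Finset.mem_filter.mp hj).2]

theorem sum_typ (n : ℕ) (f : Fin n → ι) : ∑ i, GF.typ f i = n := by
  have h := GF.degree_typ f
  rw [Finsupp.degree_eq_sum] at h
  exact h

/-- complete homogeneous symmetric expression -/
noncomputable def hh (n : ℕ) (c : ι → R) : R :=
  ∑ l ∈ Finset.finsuppAntidiag (Finset.univ : Finset ι) n, ∏ i, c i ^ (l i)

theorem TT_tri (n : ℕ) (ρ : ι → ℕ) (hρ : Function.Injective ρ) (U : Matrix ι ι R)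
    (hU : ∀ i j, ρ i < ρ j → U i j = 0) : TT n U = hh n (fun i => U i i) := by
  unfold TT
  have h1 : ∀ f : J n ι,
      (∑ g : Fin n → ι, if GF.rep g = f.1 then ∏ k, U (f.1 k) (g k) else 0) =
      ∏ i, (U i i) ^ (GF.typ f.1 i) := by
    intro f
    rw [Finset.sum_eq_single f.1]
    · rw [if_pos f.2]
      exact prod_comp_typ n (fun i => U i i) f.1
    · intro g _ hne
      by_cases h : GF.rep g = f.1
      · rw [if_pos h]
        obtain ⟨σ, hσ⟩ := GF.rep_spec g
        have hfg : ∀ k, f.1 k = g (σ k) := by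
          intro k
          rw [← h, hσ]
          rfl
        have hex : ∃ k, ρ (f.1 k) < ρ (g k) := by
          by_contra hcon
          have hcon' : ∀ k, ρ (g k) ≤ ρ (f.1 k) := by
            intro k
            by_contra hk
            exact hcon ⟨k, not_le.mp hk⟩
          have hsum : ∑ k, ρ (g k) = ∑ k, ρ (f.1 k) := by
            have e1 : ∑ k, ρ (f.1 k) = ∑ k, ρ (g (σ k)) :=
              Finset.sum_congr rfl (fun k _ => by rw [hfg k])
            rw [e1]
            exact (Equiv.sum_comp σ (fun k => ρ (g k))).symm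
          have hall := (Finset.sum_eq_sum_iff_of_le (fun k _ => hcon' k)).mp hsum
          apply hne
          funext k
          exact hρ (hall k (Finset.mem_univ k))
        obtain ⟨k, hk⟩ := hex
        exact Finset.prod_eq_zero (Finset.mem_univ k) (hU _ _ hk)
      · rw [if_neg h]
    · intro hf
      exact absurd (Finset.mem_univ _) hf
  rw [Finset.sum_congr rfl (fun f _ => h1 f)]
  unfold hh
  refine Finset.sum_bij (fun f _ => GF.typ f.1) ?_ ?_ ?_ ?_
  · intro f _
    rw [Finset.mem_finsuppAntidiag]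
    exact ⟨sum_typ n f.1, Finset.subset_univ _⟩
  · intro f _ f' _ hff
    apply Subtype.ext
    have h2 := (GF.typ_eq_iff_rep_eq f.1 f'.1).mp hff
    rw [f.2, f'.2] at h2
    exact h2
  · intro l hl
    rw [Finset.mem_finsuppAntidiag] at hl
    have hdeg : Finsupp.degree l = n := by
      rw [Finsupp.degree_eq_sum]
      exact hl.1
    obtain ⟨f₀, hf₀⟩ := GF.exists_typ_eq n l hdeg
    refine ⟨toJ f₀, Finset.mem_univ _, ?_⟩
    show GF.typ (GF.rep f₀) = l
    rw [GF.typ_rep, hf₀]
  · intro f _
    rfl

theorem geo (a : R) :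
    (1 - PowerSeries.C a * PowerSeries.X) * PowerSeries.mk (fun k => a ^ k) = 1 := by
  ext k
  rw [sub_mul, one_mul, map_sub, mul_assoc, PowerSeries.coeff_C_mul, PowerSeries.coeff_mk]
  cases k with
  | zero =>
    rw [PowerSeries.coeff_zero_X_mul, mul_zero, sub_zero, pow_zero, PowerSeries.coeff_zero_one]
  | succ k =>
    rw [PowerSeries.coeff_succ_X_mul, PowerSeries.coeff_mk, PowerSeries.coeff_one,
      if_neg (Nat.succ_ne_zero k), pow_succ', sub_self]

theorem gen_hh (c : ι → R) :
    (∏ i, (1 - PowerSeries.C (c i) * PowerSeries.X)) * PowerSeries.mk (fun n => hh n c) = 1 := by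
  have h1 : PowerSeries.mk (fun n => hh n c) = ∏ i, PowerSeries.mk (fun k => c i ^ k) := by
    ext n
    rw [PowerSeries.coeff_mk, PowerSeries.coeff_prod]
    unfold hh
    apply Finset.sum_congr rfl
    intro l _
    apply Finset.prod_congr rfl
    intro i _
    rw [PowerSeries.coeff_mk]
  rw [h1, ← Finset.prod_mul_distrib]
  apply Finset.prod_eq_one
  intro i _
  exact geo (c i)

theorem charpolyRev_tri [DecidableEq ι] (ρ : ι → ℕ) (hρ : Function.Injective ρ)
    (U : Matrix ι ι R) (hU : ∀ i j, ρ i < ρ j → U i j = 0) :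
    U.charpolyRev = ∏ i, (1 - Polynomial.X * Polynomial.C (U i i)) := by
  letI : LinearOrder ι := LinearOrder.lift' ρ hρ
  unfold Matrix.charpolyRev
  rw [Matrix.det_of_isLowerTriangular]
  · apply Finset.prod_congr rfl
    intro i _
    rw [Matrix.sub_apply, Matrix.one_apply_eq, Matrix.smul_apply, Matrix.map_apply, smul_eq_mul]
  · intro i j hij
    have hij' : ρ i < ρ j := OrderDual.toDual_lt_toDual.mp hij
    have hne : i ≠ j := by
      rintro rfl
      exact lt_irrefl _ hij'
    rw [Matrix.sub_apply, Matrix.one_apply_ne hne, Matrix.smul_apply, Matrix.map_apply,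
      hU i j hij', map_zero, smul_zero, sub_zero]

/-- the identity `det(1 - tU) · Σ TT_n(U) t^n = 1` for a triangular matrix -/
theorem tri_identity [DecidableEq ι] (ρ : ι → ℕ) (hρ : Function.Injective ρ) (U : Matrix ι ι R)
    (hU : ∀ i j, ρ i < ρ j → U i j = 0) :
    ((U.charpolyRev : Polynomial R) : PowerSeries R) * PowerSeries.mk (fun n => TT n U) = 1 := by
  have h1 : ((U.charpolyRev : Polynomial R) : PowerSeries R) =
      ∏ i, (1 - PowerSeries.C (U i i) * PowerSeries.X) := by
    rw [charpolyRev_tri ρ hρ U hU, ← Polynomial.coeToPowerSeries.ringHom_apply, map_prod]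
    apply Finset.prod_congr rfl
    intro i _
    rw [Polynomial.coeToPowerSeries.ringHom_apply, Polynomial.coe_sub, Polynomial.coe_one,
      Polynomial.coe_mul, Polynomial.coe_X, Polynomial.coe_C, mul_comm]
  rw [h1, funext (fun n => TT_tri n ρ hρ U hU)]
  exact gen_hh (fun i => U i i)

end Tri

end Groth.Agent.Helper22.SymTr
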