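import Mathlib
import Groth.Agent.Lib.Helper22.SymTr2
import Groth.Agent.Lib.Helper5.DetP2

/-!
# `det(1 - tU) · Σ_n Tr(TS^n U) t^n = 1`

Triangularisation over an algebraically closed field and the reduction of the universal identity
to that case.
-/

set_option maxHeartbeats 1600000
set_option autoImplicit false

universe u

open scoped TensorProduct
open Classical

namespace Groth.Agent.Helper22.SymTr

/-- over an algebraically closed field every endomorphism has a triangular basis -/
theorem exists_tri_basis {K : Type*} [Field K] [IsAlgClosed K] :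
    ∀ (r : ℕ) (V : Type u) [AddCommGroup V] [Module K V] [FiniteDimensional K V]
      (u : V →ₗ[K] V), Module.finrank K V = r →
      ∃ b : Module.Basis (Fin r) K V, ∀ i j : Fin r, i < j → b.repr (u (b j)) i = 0 := by
  intro r
  induction r with
  | zero =>
    intro V _ _ _ u hr
    exact ⟨Module.finBasisOfFinrankEq K V hr, fun i => i.elim0⟩
  | succ r ih =>
    intro V _ _ _ u hr
    haveI : Nontrivial (Module.Dual K V) := by
      apply Module.nontrivial_of_finrank_pos (R := K)
      rw [Subspace.dual_finrank_eq, hr]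
      exact Nat.succ_pos r
    obtain ⟨μ, hμ⟩ := Module.End.exists_eigenvalue (Module.Dual.transpose (R := K) u)
    obtain ⟨φ, hφ⟩ := hμ.exists_hasEigenvector
    have hφ0 : φ ≠ 0 := hφ.2
    have hφu : ∀ x, φ (u x) = μ * φ x := by
      intro x
      have h := hφ.apply_eq_smul
      have h2 := LinearMap.congr_fun h x
      rw [Module.Dual.transpose_apply, LinearMap.comp_apply, LinearMap.smul_apply,
        smul_eq_mul] at h2
      exact h2
    obtain ⟨H, hHdef⟩ : ∃ H : Submodule K V, H = LinearMap.ker φ := ⟨_, rfl⟩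
    have hH : ∀ x ∈ H, u x ∈ H := by
      intro x hx
      rw [hHdef, LinearMap.mem_ker] at hx ⊢
      rw [hφu, hx, mul_zero]
    have hrank : Module.finrank K ↥H = r := by
      have h := Module.Dual.finrank_ker_add_one_of_ne_zero hφ0
      rw [hr, ← hHdef] at h
      exact Nat.succ_injective h
    obtain ⟨b', hb'⟩ := ih ↥H (u.restrict hH) hrank
    obtain ⟨v, hv⟩ : ∃ v, φ v ≠ 0 := by
      by_contra hcon
      apply hφ0
      apply LinearMap.ext
      intro v
      by_contra hv
      exact hcon ⟨v, hv⟩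
    have hli : ∀ (c : K), ∀ x ∈ H, c • v + x = 0 → c = 0 := by
      intro c x hx hcx
      rw [hHdef, LinearMap.mem_ker] at hx
      have h := congrArg φ hcx
      rw [map_add, map_smul, hx, add_zero, map_zero, smul_eq_mul] at h
      exact (mul_eq_zero.mp h).resolve_right hv
    have hsp : ∀ z : V, ∃ c : K, z + c • v ∈ H := by
      intro z
      refine ⟨-(φ z / φ v), ?_⟩
      rw [hHdef, LinearMap.mem_ker, map_add, map_smul, smul_eq_mul, neg_mul,
        div_mul_cancel₀ _ hv, add_neg_cancel]
    obtain ⟨B, hBdef⟩ : ∃ B : Module.Basis (Fin (r + 1)) K V,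
        B = Module.Basis.mkFinCons v b' hli hsp := ⟨_, rfl⟩
    have hBs : ∀ j : Fin r, B j.succ = (b' j : V) := by
      intro j
      rw [hBdef, Module.Basis.coe_mkFinCons, Fin.cons_succ]
      rfl
    have hrepr : ∀ h : ↥H, (B.repr (h : V) 0 = 0) ∧
        ∀ i : Fin r, B.repr (h : V) i.succ = b'.repr h i := by
      intro h
      have hsum : ∑ i : Fin (r + 1),
          (Fin.cons 0 (fun i => b'.repr h i) : Fin (r + 1) → K) i • B i = (h : V) := by
        rw [Fin.sum_univ_succ, Fin.cons_zero, zero_smul, zero_add]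
        have e1 : ((∑ i, b'.repr h i • b' i : ↥H) : V) = (h : V) := by rw [b'.sum_repr h]
        rw [← e1, Submodule.coe_sum]
        apply Finset.sum_congr rfl
        intro i _
        rw [Fin.cons_succ, hBs, Submodule.coe_smul]
      have h2 := Module.Basis.repr_sum_self B
        (Fin.cons 0 (fun i => b'.repr h i) : Fin (r + 1) → K)
      rw [hsum] at h2
      constructor
      · rw [h2, Fin.cons_zero]
      · intro i
        rw [h2, Fin.cons_succ]
    refine ⟨B, ?_⟩
    intro i j hij
    have hj0 : j ≠ 0 := by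
      rintro rfl
      exact absurd hij (Fin.not_lt_zero i)
    obtain ⟨j', rfl⟩ := Fin.exists_succ_eq.mpr hj0
    have huB : u (B j'.succ) = ((u.restrict hH (b' j') : ↥H) : V) := by
      rw [hBs]
      rfl
    rw [huB]
    rcases Fin.eq_zero_or_eq_succ i with rfl | ⟨i', rfl⟩
    · exact (hrepr _).1
    · rw [(hrepr _).2 i']
      exact hb' i' j' (Fin.succ_lt_succ_iff.mp hij)

/-- the identity over an algebraically closed field -/
theorem field_case {K : Type u} [Field K] [IsAlgClosed K] {ι : Type u} [Fintype ι]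
    [DecidableEq ι] (U : Matrix ι ι K) :
    ((U.charpolyRev : Polynomial K) : PowerSeries K) * PowerSeries.mk (fun n => TT n U) = 1 := by
  obtain ⟨b₀, hb₀⟩ : ∃ b₀ : Module.Basis ι K (ι → K), b₀ = Pi.basisFun K ι := ⟨_, rfl⟩
  obtain ⟨u, hu⟩ : ∃ u : (ι → K) →ₗ[K] (ι → K), u = Matrix.toLin b₀ b₀ U := ⟨_, rfl⟩
  have hU0 : LinearMap.toMatrix b₀ b₀ u = U := by rw [hu, LinearMap.toMatrix_toLin]
  obtain ⟨b₁, hb₁⟩ := exists_tri_basis (K := K) (Module.finrank K (ι → K)) (ι → K) u rfl
  obtain ⟨U₁, hU₁⟩ : ∃ U₁ : Matrix (Fin (Module.finrank K (ι → K)))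
      (Fin (Module.finrank K (ι → K))) K, U₁ = LinearMap.toMatrix b₁ b₁ u := ⟨_, rfl⟩
  have hTT : ∀ n, TT n U = TT n U₁ := by
    intro n
    rw [← hU0, hU₁, ← trace_eq_TT b₀ n u (gam n u) (gam_coe n u),
      ← trace_eq_TT b₁ n u (gam n u) (gam_coe n u)]
  have hdet : U.charpolyRev = U₁.charpolyRev := by
    have e0 := Groth.Agent.Helper5.DetP.detOneSub_eq_charpolyRev (ModuleCat.of K (ι → K))
      (ModuleCat.ofHom u) b₀
    have e1 := Groth.Agent.Helper5.DetP.detOneSub_eq_charpolyRev (ModuleCat.of K (ι → K))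
      (ModuleCat.ofHom u) b₁
    rw [ModuleCat.hom_ofHom] at e0 e1
    rw [← hU0, hU₁, ← e0, ← e1]
  have htri : ∀ i j : Fin (Module.finrank K (ι → K)), (i : ℕ) < (j : ℕ) → U₁ i j = 0 := by
    intro i j hij
    rw [hU₁, LinearMap.toMatrix_apply]
    exact hb₁ i j hij
  rw [hdet, funext hTT]
  exact tri_identity (fun i : Fin (Module.finrank K (ι → K)) => (i : ℕ)) Fin.val_injective U₁ htri

theorem exists_algClosed (Z : Type u) [CommRing Z] [IsDomain Z] :
    ∃ (K : Type u) (_ : Field K) (_ : IsAlgClosed K) (j : Z →+* K), Function.Injective j := by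
  refine ⟨AlgebraicClosure (FractionRing Z), inferInstance, inferInstance,
    (algebraMap (FractionRing Z) (AlgebraicClosure (FractionRing Z))).comp
      (algebraMap Z (FractionRing Z)), ?_⟩
  rw [RingHom.coe_comp]
  exact (RingHom.injective _).comp (IsFractionRing.injective Z (FractionRing Z))

theorem charpolyRev_map {R S : Type*} [CommRing R] [CommRing S] {ι : Type*} [Fintype ι]
    [DecidableEq ι] (ψ : R →+* S) (U : Matrix ι ι R) :
    (U.map ψ).charpolyRev = U.charpolyRev.map ψ := by
  unfold Matrix.charpolyRev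
  rw [← Polynomial.coe_mapRingHom, RingHom.map_det]
  congr 1
  ext i j
  rw [RingHom.mapMatrix_apply, Matrix.map_apply, Matrix.sub_apply, Matrix.sub_apply,
    Matrix.smul_apply, Matrix.smul_apply, Matrix.map_apply, Matrix.map_apply, Matrix.map_apply,
    map_sub, smul_eq_mul, smul_eq_mul, map_mul, Polynomial.coe_mapRingHom, Polynomial.map_X,
    Polynomial.map_C]
  congr 1
  by_cases h : i = j
  · subst h
    rw [Matrix.one_apply_eq, Matrix.one_apply_eq, Polynomial.map_one]
  · rw [Matrix.one_apply_ne h, Matrix.one_apply_ne h, Polynomial.map_zero]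

theorem LHS_map {R S : Type*} [CommRing R] [CommRing S] {ι : Type*} [Fintype ι]
    [DecidableEq ι] (ψ : R →+* S) (U : Matrix ι ι R) :
    PowerSeries.map ψ
      (((U.charpolyRev : Polynomial R) : PowerSeries R) * PowerSeries.mk (fun n => TT n U)) =
      (((U.map ψ).charpolyRev : Polynomial S) : PowerSeries S) *
        PowerSeries.mk (fun n => TT n (U.map ψ)) := by
  rw [map_mul, ← Polynomial.polynomial_map_coe, charpolyRev_map]
  congr 1
  ext n
  rw [PowerSeries.coeff_map, PowerSeries.coeff_mk, PowerSeries.coeff_mk, TT_map]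

/-- the universal identity -/
theorem general {A : Type u} [CommRing A] {ι : Type u} [Fintype ι] [DecidableEq ι]
    (U : Matrix ι ι A) :
    ((U.charpolyRev : Polynomial A) : PowerSeries A) * PowerSeries.mk (fun n => TT n U) = 1 := by
  obtain ⟨K, _, _, j, hj⟩ := exists_algClosed (MvPolynomial (ι × ι) ℤ)
  obtain ⟨U₀, hU₀⟩ : ∃ U₀ : Matrix ι ι (MvPolynomial (ι × ι) ℤ),
      ∀ i k, U₀ i k = MvPolynomial.X (i, k) := ⟨fun i k => MvPolynomial.X (i, k), fun _ _ => rfl⟩
  obtain ⟨φ, hφ⟩ : ∃ φ : MvPolynomial (ι × ι) ℤ →+* A,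
      ∀ p, φ (MvPolynomial.X p) = U p.1 p.2 :=
    ⟨MvPolynomial.eval₂Hom (Int.castRingHom A) (fun p => U p.1 p.2),
      fun p => MvPolynomial.eval₂Hom_X' _ _ p⟩
  have hUφ : U₀.map φ = U := by
    ext i k
    rw [Matrix.map_apply, hU₀, hφ]
  have h0 : ((U₀.charpolyRev : Polynomial (MvPolynomial (ι × ι) ℤ)) :
      PowerSeries (MvPolynomial (ι × ι) ℤ)) * PowerSeries.mk (fun n => TT n U₀) = 1 := by
    have hinj : Function.Injective (PowerSeries.map j) := by
      intro p q hpq
      apply PowerSeries.ext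
      intro n
      apply hj
      rw [← PowerSeries.coeff_map, ← PowerSeries.coeff_map, hpq]
    apply hinj
    rw [LHS_map, map_one]
    exact field_case (U₀.map j)
  rw [← hUφ, ← LHS_map, h0, map_one]

end Groth.Agent.Helper22.SymTr
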