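import Mathlib
import Groth.Prelude.Def_RegImm

/-!
# Syntomic + faithfully flat from a basis of reduced monomials `∏ x_i ^ e_i`, `e_i < p`,
with `x_i ^ p` in the base (helper22)
-/

set_option autoImplicit false
universe u

namespace Groth.Agent.Helper22.SyntBasis

open MvPolynomial TensorProduct

/-- abstract: a basis of reduced monomials gives a global complete intersection presentation. -/
theorem globalCI_of_basis {κ F : Type u} [Field κ] [CommRing F] [Algebra κ F] (m p : ℕ)
    (hp : 0 < p) (x : Fin m → F) (t : Fin m → κ) (hx : ∀ i, x i ^ p = algebraMap κ F (t i))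
    (b : Module.Basis (Fin m → Fin p) κ F) (hb : ∀ e, b e = ∏ i, x i ^ (e i : ℕ)) :
    Synt.IsGlobalCI κ F := by
  classical
  right
  set mono : (Fin m → Fin p) → MvPolynomial (Fin m) κ := fun e => ∏ i, X i ^ (e i : ℕ) with hmono
  have hamono : ∀ e, aeval x (mono e) = b e := by
    intro e
    rw [hb, hmono]
    simp only [map_prod, map_pow, aeval_X]
  set J : Ideal (MvPolynomial (Fin m) κ) :=
    Ideal.span (Set.range fun i : Fin m => (X i ^ p - C (t i) : MvPolynomial (Fin m) κ)) with hJ
  have hJle : J ≤ RingHom.ker (aeval x : MvPolynomial (Fin m) κ →ₐ[κ] F).toRingHom := by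
    rw [hJ, Ideal.span_le]
    rintro _ ⟨i, rfl⟩
    show (aeval x : MvPolynomial (Fin m) κ →ₐ[κ] F) (X i ^ p - C (t i)) = 0
    rw [map_sub, map_pow, aeval_X, aeval_C, hx, sub_self]
  -- spanning modulo J
  have hspan : ∀ f : MvPolynomial (Fin m) κ, ∃ c : (Fin m → Fin p) → κ,
      f - ∑ e, C (c e) * mono e ∈ J := by
    let π : MvPolynomial (Fin m) κ →ₐ[κ] (MvPolynomial (Fin m) κ ⧸ J) := Ideal.Quotient.mkₐ κ J
    have hπX : ∀ i, π (X i) ^ p = t i • (1 : MvPolynomial (Fin m) κ ⧸ J) := by
      intro i
      have h1 : π (X i ^ p - C (t i)) = 0 :=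
        Ideal.Quotient.eq_zero_iff_mem.2 (Ideal.subset_span ⟨i, rfl⟩)
      rw [map_sub, map_pow, sub_eq_zero] at h1
      rw [h1, ← algebraMap_eq, AlgHom.commutes, Algebra.algebraMap_eq_smul_one]
    set W : Submodule κ (MvPolynomial (Fin m) κ ⧸ J) :=
      Submodule.span κ (Set.range fun e => π (mono e)) with hW
    have hW1 : (1 : MvPolynomial (Fin m) κ ⧸ J) ∈ W := by
      have h1 : mono (fun _ => ⟨0, hp⟩) = 1 := by
        rw [hmono]; simp
      have h2 : π (mono (fun _ => ⟨0, hp⟩)) ∈ W := Submodule.subset_span ⟨_, rfl⟩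
      rwa [h1, map_one] at h2
    have hWX : ∀ i, ∀ w ∈ W, w * π (X i) ∈ W := by
      intro i w hw
      induction hw using Submodule.span_induction with
      | mem w hw =>
        obtain ⟨e, rfl⟩ := hw
        have hsplit : ∀ e' : Fin m → Fin p, mono e' =
            X i ^ (e' i : ℕ) * ∏ j ∈ Finset.univ.erase i, X j ^ (e' j : ℕ) := by
          intro e'
          rw [hmono]
          exact (Finset.mul_prod_erase Finset.univ (fun j => (X j : MvPolynomial (Fin m) κ) ^ (e' j : ℕ))
            (Finset.mem_univ i)).symm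
        have herase : ∀ (v : Fin p), ∏ j ∈ Finset.univ.erase i,
            (X j : MvPolynomial (Fin m) κ) ^ ((Function.update e i v j : Fin p) : ℕ) =
            ∏ j ∈ Finset.univ.erase i, (X j : MvPolynomial (Fin m) κ) ^ (e j : ℕ) := by
          intro v
          refine Finset.prod_congr rfl fun j hj => ?_
          rw [Function.update_of_ne (Finset.ne_of_mem_erase hj)]
        by_cases h : (e i : ℕ) + 1 < p
        · have h1 : mono e * X i = mono (Function.update e i ⟨(e i : ℕ) + 1, h⟩) := by
            rw [hsplit e, hsplit (Function.update e i ⟨(e i : ℕ) + 1, h⟩), herase,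
              Function.update_self, pow_succ]
            ring
          rw [← map_mul, h1]
          exact Submodule.subset_span ⟨_, rfl⟩
        · have hei : (e i : ℕ) + 1 = p := by have := (e i).2; omega
          have h1 : mono e * X i = mono (Function.update e i ⟨0, hp⟩) * X i ^ p := by
            have hpw : (X i : MvPolynomial (Fin m) κ) ^ p = X i ^ (e i : ℕ) * X i := by
              rw [← pow_succ]; exact congrArg _ hei.symm
            rw [hsplit e, hsplit (Function.update e i ⟨0, hp⟩), herase,
              Function.update_self, hpw]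
            simp only [pow_zero, one_mul]
            ring
          rw [← map_mul, h1, map_mul, map_pow, hπX, mul_smul_comm, mul_one]
          exact Submodule.smul_mem _ _ (Submodule.subset_span ⟨_, rfl⟩)
      | zero => rw [zero_mul]; exact Submodule.zero_mem _
      | add a b _ _ ha hb => rw [add_mul]; exact Submodule.add_mem _ ha hb
      | smul c a _ ha => rw [smul_mul_assoc]; exact Submodule.smul_mem _ _ ha
    have hall : ∀ f : MvPolynomial (Fin m) κ, π f ∈ W := by
      intro f
      induction f using MvPolynomial.induction_on with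
      | C a =>
        rw [← algebraMap_eq, AlgHom.commutes, Algebra.algebraMap_eq_smul_one]
        exact Submodule.smul_mem _ _ hW1
      | add f g hf hg => rw [map_add]; exact Submodule.add_mem _ hf hg
      | mul_X f i hf => rw [map_mul]; exact hWX i _ hf
    intro f
    obtain ⟨c, hc⟩ := (Submodule.mem_span_range_iff_exists_fun κ).1 (hall f)
    refine ⟨c, ?_⟩
    have h1 : π (f - ∑ e, C (c e) * mono e) = 0 := by
      rw [map_sub, map_sum, ← hc, sub_eq_zero]
      refine Finset.sum_congr rfl fun e _ => ?_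
      rw [C_mul', map_smul]
    exact Ideal.Quotient.eq_zero_iff_mem.1 h1
  refine ⟨m, m, le_rfl, aeval x, fun i => X i ^ p - C (t i), ?_, ?_, ?_⟩
  · intro y
    refine ⟨∑ e, C (b.repr y e) * mono e, ?_⟩
    rw [map_sum]
    conv_rhs => rw [← b.sum_repr y]
    refine Finset.sum_congr rfl fun e _ => ?_
    rw [map_mul, aeval_C, hamono, Algebra.smul_def]
  · refine le_antisymm ?_ hJle
    intro f hf
    obtain ⟨c, hc⟩ := hspan f
    have h1 : (aeval x : MvPolynomial (Fin m) κ →ₐ[κ] F) (f - ∑ e, C (c e) * mono e) = 0 := hJle hc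
    have h2 : (aeval x : MvPolynomial (Fin m) κ →ₐ[κ] F) f = 0 := hf
    rw [map_sub, h2, zero_sub, neg_eq_zero, map_sum] at h1
    have h3 : ∑ e, c e • b e = 0 := by
      rw [← h1]
      refine Finset.sum_congr rfl fun e _ => ?_
      rw [map_mul, aeval_C, hamono, Algebra.smul_def]
    have h4 := Fintype.linearIndependent_iff.1 b.linearIndependent c h3
    have h5 : ∑ e, C (c e) * mono e = 0 :=
      Finset.sum_eq_zero fun e _ => by rw [h4 e, map_zero, zero_mul]
    rw [h5, sub_zero] at hc
    exact hc
  · haveI : Module.Finite κ F := Module.Finite.of_basis b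
    haveI : IsArtinianRing F := IsArtinianRing.of_finite κ F
    haveI : Nontrivial F := ⟨⟨b (fun _ => ⟨0, hp⟩), 0, b.ne_zero _⟩⟩
    have h0 : Ring.KrullDimLE 0 F := inferInstance
    rw [Nat.sub_self, Nat.cast_zero]
    exact ringKrullDimZero_iff_ringKrullDim_eq_zero.1 h0

theorem syntomic_of_basis' {R S : Type u} [CommRing R] [CommRing S] [Algebra R S]
    (hfp : Algebra.FinitePresentation R S) (m p : ℕ) (hp : 0 < p) (x : Fin m → S) (t : Fin m → R)
    (hx : ∀ i, x i ^ p = algebraMap R S (t i))
    (b : Module.Basis (Fin m → Fin p) R S) (hb : ∀ e, b e = ∏ i, x i ^ (e i : ℕ)) :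
    Synt.IsSyntomic R S ∧ Module.FaithfullyFlat R S := by
  haveI : Module.Free R S := Module.Free.of_basis b
  haveI : Module.Finite R S := Module.Finite.of_basis b
  have hflat : Module.Flat R S := inferInstance
  refine ⟨⟨hflat, hfp, fun 𝔭 => ⟨inferInstance, fun q => ?_⟩⟩, ?_⟩
  · refine ⟨1, fun h => q.2.ne_top ((Ideal.eq_top_iff_one _).2 h), ?_⟩
    let e : (𝔭.asIdeal.Fiber S) ≃ₐ[𝔭.asIdeal.Fiber S] Localization.Away (1 : 𝔭.asIdeal.Fiber S) :=
      IsLocalization.atOne _ _
    let eκ : (𝔭.asIdeal.Fiber S) ≃ₗ[𝔭.asIdeal.ResidueField]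
        Localization.Away (1 : 𝔭.asIdeal.Fiber S) :=
      (e.toLinearEquiv).restrictScalars 𝔭.asIdeal.ResidueField
    have he : ∀ z, eκ z = algebraMap (𝔭.asIdeal.Fiber S)
        (Localization.Away (1 : 𝔭.asIdeal.Fiber S)) z := fun z => e.commutes z
    let ψ : S →+* Localization.Away (1 : 𝔭.asIdeal.Fiber S) :=
      (algebraMap (𝔭.asIdeal.Fiber S) (Localization.Away (1 : 𝔭.asIdeal.Fiber S))).comp
        (Algebra.TensorProduct.includeRight :
          S →ₐ[R] 𝔭.asIdeal.ResidueField ⊗[R] S).toRingHom
    have hψ : ∀ s, ψ s = algebraMap (𝔭.asIdeal.Fiber S)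
        (Localization.Away (1 : 𝔭.asIdeal.Fiber S)) ((1 : 𝔭.asIdeal.ResidueField) ⊗ₜ[R] s) :=
      fun s => rfl
    refine globalCI_of_basis m p hp (fun i => ψ (x i))
      (fun i => algebraMap R 𝔭.asIdeal.ResidueField (t i)) ?_
      ((b.baseChange 𝔭.asIdeal.ResidueField).map eκ) ?_
    · intro i
      rw [← map_pow, hx, hψ,
        IsScalarTower.algebraMap_apply 𝔭.asIdeal.ResidueField (𝔭.asIdeal.Fiber S)
          (Localization.Away (1 : 𝔭.asIdeal.Fiber S)),
        Algebra.TensorProduct.algebraMap_apply, Algebra.algebraMap_eq_smul_one (t i),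
        Algebra.algebraMap_eq_smul_one (t i)]
      congr 1
      rw [TensorProduct.tmul_smul, TensorProduct.smul_tmul']
      rfl
    · intro e'
      rw [Module.Basis.map_apply, Module.Basis.baseChange_apply, he, hb, ← hψ, map_prod]
      simp only [map_pow]
  · rcases subsingleton_or_nontrivial R with hR | hR
    · exact { toFlat := hflat
              submodule_ne_top := fun m hm => absurd (Subsingleton.elim m ⊤) hm.ne_top }
    · haveI : Nontrivial S := ⟨⟨b (fun _ => ⟨0, hp⟩), 0, b.ne_zero _⟩⟩
      infer_instance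


end Groth.Agent.Helper22.SyntBasis
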