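import Mathlib

/-!
# TF1: generic algebra for Ext¹ length computations (helper22)

* `length_ext_one`: for a surjection `π : F → M` with `F` projective,
  `length Ext¹(M, N) = length (Hom(ker π, N) / image of Hom(F, N))`.
* `ext_length_congr`: the length of `Ext¹` is invariant under linear equivalences.
* `length_eq_finrank'`: over a `k`-algebra all of whose residue fields are `k`, the length of a
  `k`-finite-dimensional module is its `k`-dimension.
* `coker2`, `pi_quot_length`, `enat_cancel`: bookkeeping lemmas.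
-/

open Classical CategoryTheory

universe u v

namespace Groth.Agent.Helper22.TF

section ExtLen

variable {R : Type u} [CommRing R] {F M : Type u}
  [AddCommGroup F] [Module R F] [AddCommGroup M] [Module R M]

/-- The connecting map `Hom(ker π, N) → Ext¹(M, N)`. -/
noncomputable def delta (π : F →ₗ[R] M) (hπ : Function.Surjective π)
    (N : Type u) [AddCommGroup N] [Module R N] :
    (↥(LinearMap.ker π) →ₗ[R] N) →ₗ[R]
      Abelian.Ext.{u} (ModuleCat.of R M) (ModuleCat.of R N) 1 where
  toFun ψ := (LinearMap.shortExact_shortComplexKer hπ).extClass.comp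
    (Abelian.Ext.mk₀ (ModuleCat.ofHom ψ)) (rfl : 1 + 0 = 1)
  map_add' ψ₁ ψ₂ := by
    rw [ModuleCat.ofHom_add, Abelian.Ext.mk₀_add, Abelian.Ext.comp_add]
  map_smul' r ψ := by
    have h : ModuleCat.ofHom (r • ψ) = r • ModuleCat.ofHom ψ := rfl
    rw [h, Abelian.Ext.mk₀_smul, Abelian.Ext.comp_smul]
    rfl

variable {N : Type u} [AddCommGroup N] [Module R N]

theorem delta_apply (π : F →ₗ[R] M) (hπ : Function.Surjective π) (ψ : ↥(LinearMap.ker π) →ₗ[R] N) :
    delta π hπ N ψ = (LinearMap.shortExact_shortComplexKer hπ).extClass.comp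
      (Abelian.Ext.mk₀ (ModuleCat.ofHom ψ)) (rfl : 1 + 0 = 1) := rfl

theorem delta_surjective (π : F →ₗ[R] M) (hπ : Function.Surjective π) [Module.Projective R F] :
    Function.Surjective (delta π hπ N) := by
  intro x
  have hS := LinearMap.shortExact_shortComplexKer hπ
  haveI : Projective (π.shortComplexKer).X₂ :=
    (IsProjective.iff_projective (R := R) F).mp inferInstance
  obtain ⟨y, hy⟩ := Abelian.Ext.contravariant_sequence_exact₃ hS (ModuleCat.of R N) x
    (Abelian.Ext.eq_zero_of_projective _) (rfl : 1 + 0 = 1)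
  obtain ⟨g, rfl⟩ := (Abelian.Ext.mk₀_bijective _ _).2 y
  refine ⟨g.hom, ?_⟩
  rw [delta_apply, ModuleCat.ofHom_hom]
  exact hy

theorem delta_ker (π : F →ₗ[R] M) (hπ : Function.Surjective π) :
    LinearMap.ker (delta π hπ N) =
      LinearMap.range (LinearMap.lcomp R N (LinearMap.ker π).subtype) := by
  have hS := LinearMap.shortExact_shortComplexKer hπ
  ext ψ
  rw [LinearMap.mem_ker, LinearMap.mem_range, delta_apply]
  constructor
  · intro h
    obtain ⟨x₂, hx₂⟩ := Abelian.Ext.contravariant_sequence_exact₁ hS (ModuleCat.of R N)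
      (Abelian.Ext.mk₀ (ModuleCat.ofHom ψ)) (rfl : 1 + 0 = 1) h
    obtain ⟨g, rfl⟩ := (Abelian.Ext.mk₀_bijective _ _).2 x₂
    rw [Abelian.Ext.mk₀_comp_mk₀] at hx₂
    have h3 := (Abelian.Ext.mk₀_bijective _ _).1 hx₂
    refine ⟨g.hom, ?_⟩
    have h4 := congrArg ModuleCat.Hom.hom h3
    rw [ModuleCat.hom_ofHom] at h4
    rw [← h4, LinearMap.lcomp_apply']
    rfl
  · rintro ⟨g, rfl⟩
    have h5 : ModuleCat.ofHom (LinearMap.lcomp R N (LinearMap.ker π).subtype g) =
        (π.shortComplexKer).f ≫ ModuleCat.ofHom g := rfl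
    rw [h5, ← Abelian.Ext.mk₀_comp_mk₀]
    exact (LinearMap.shortExact_shortComplexKer hπ).extClass_comp_assoc _

/-- `length Ext¹(M, N) = length (Hom(ker π, N) / Hom(F, N))` for a projective presentation. -/
theorem length_ext_one (π : F →ₗ[R] M) (hπ : Function.Surjective π) [Module.Projective R F] :
    Module.length R (Abelian.Ext.{u} (ModuleCat.of R M) (ModuleCat.of R N) 1) =
      Module.length R ((↥(LinearMap.ker π) →ₗ[R] N) ⧸
        LinearMap.range (LinearMap.lcomp R N (LinearMap.ker π).subtype)) := by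
  have e1 := LinearMap.quotKerEquivOfSurjective (delta π hπ N) (delta_surjective π hπ)
  have e2 := Submodule.quotEquivOfEq _ _ (delta_ker (N := N) π hπ)
  exact (e2.symm.trans e1).length_eq.symm

/-- Invariance of `length Ext¹` under linear equivalences in both variables. -/
theorem ext_length_congr {M' N' : Type u} [AddCommGroup M'] [Module R M']
    [AddCommGroup N'] [Module R N'] (e : M ≃ₗ[R] M') (f : N ≃ₗ[R] N') :
    Module.length R (Abelian.Ext.{u} (ModuleCat.of R M) (ModuleCat.of R N) 1) =
      Module.length R (Abelian.Ext.{u} (ModuleCat.of R M') (ModuleCat.of R N') 1) := by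
  let a : ModuleCat.of R M' ⟶ ModuleCat.of R M := ModuleCat.ofHom e.symm.toLinearMap
  let a' : ModuleCat.of R M ⟶ ModuleCat.of R M' := ModuleCat.ofHom e.toLinearMap
  let b : ModuleCat.of R N ⟶ ModuleCat.of R N' := ModuleCat.ofHom f.toLinearMap
  let b' : ModuleCat.of R N' ⟶ ModuleCat.of R N := ModuleCat.ofHom f.symm.toLinearMap
  have haa' : a ≫ a' = 𝟙 _ := by ext x; simp [a, a']
  have ha'a : a' ≫ a = 𝟙 _ := by ext x; simp [a, a']
  have hbb' : b ≫ b' = 𝟙 _ := by ext x; simp [b, b']
  have hb'b : b' ≫ b = 𝟙 _ := by ext x; simp [b, b']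
  let Φ : Abelian.Ext.{u} (ModuleCat.of R M) (ModuleCat.of R N) 1 →ₗ[R]
      Abelian.Ext.{u} (ModuleCat.of R M') (ModuleCat.of R N') 1 :=
    ((Abelian.Ext.mk₀ a).precompOfLinear R (ModuleCat.of R N') (zero_add 1)).comp
      ((Abelian.Ext.mk₀ b).postcompOfLinear R (ModuleCat.of R M) (add_zero 1))
  let Ψ : Abelian.Ext.{u} (ModuleCat.of R M') (ModuleCat.of R N') 1 →ₗ[R]
      Abelian.Ext.{u} (ModuleCat.of R M) (ModuleCat.of R N) 1 :=
    ((Abelian.Ext.mk₀ a').precompOfLinear R (ModuleCat.of R N) (zero_add 1)).comp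
      ((Abelian.Ext.mk₀ b').postcompOfLinear R (ModuleCat.of R M') (add_zero 1))
  have h1 : ∀ x, Ψ (Φ x) = x := by
    intro x
    show (Abelian.Ext.mk₀ a').comp (((Abelian.Ext.mk₀ a).comp
      (x.comp (Abelian.Ext.mk₀ b) (add_zero 1)) (zero_add 1)).comp
        (Abelian.Ext.mk₀ b') (add_zero 1)) (zero_add 1) = x
    rw [Abelian.Ext.comp_assoc_of_third_deg_zero, Abelian.Ext.comp_assoc_of_third_deg_zero,
      Abelian.Ext.mk₀_comp_mk₀, hbb', Abelian.Ext.comp_mk₀_id, Abelian.Ext.mk₀_comp_mk₀_assoc,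
      ha'a, Abelian.Ext.mk₀_id_comp]
  have h2 : ∀ y, Φ (Ψ y) = y := by
    intro y
    show (Abelian.Ext.mk₀ a).comp (((Abelian.Ext.mk₀ a').comp
      (y.comp (Abelian.Ext.mk₀ b') (add_zero 1)) (zero_add 1)).comp
        (Abelian.Ext.mk₀ b) (add_zero 1)) (zero_add 1) = y
    rw [Abelian.Ext.comp_assoc_of_third_deg_zero, Abelian.Ext.comp_assoc_of_third_deg_zero,
      Abelian.Ext.mk₀_comp_mk₀, hb'b, Abelian.Ext.comp_mk₀_id, Abelian.Ext.mk₀_comp_mk₀_assoc,
      haa', Abelian.Ext.mk₀_id_comp]
  exact (LinearEquiv.ofBijective Φ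
    ⟨Function.LeftInverse.injective h1, Function.RightInverse.surjective h2⟩).length_eq

end ExtLen

section LenFinrank

theorem length_eq_finrank_aux {k : Type*} {A : Type*} [Field k] [CommRing A] [Algebra k A]
    (hres : ∀ I : Ideal A, I.IsMaximal → ∀ a : A, ∃ c : k, a - algebraMap k A c ∈ I) :
    ∀ (d : ℕ) (Q : Type v) [AddCommGroup Q] [Module A Q] [Module k Q] [IsScalarTower k A Q]
      [Module.Finite k Q], Module.finrank k Q = d → Module.length A Q = (d : ℕ∞) := by
  intro d
  induction d with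
  | zero =>
    intro Q _ _ _ _ _ h
    haveI : Subsingleton Q := Module.finrank_zero_iff.mp h
    rw [Module.length_eq_zero]; rfl
  | succ d ih =>
    intro Q _ _ _ _ _ h
    haveI : Nontrivial Q := Module.nontrivial_of_finrank_pos (R := k) (by omega)
    haveI : Module.Finite A Q := Module.Finite.of_restrictScalars_finite k A Q
    obtain ⟨P, hP⟩ : ∃ P : Submodule A Q, IsCoatom P := by
      obtain ⟨P, hP, -⟩ :=
        (eq_top_or_exists_le_coatom (⊥ : Submodule A Q)).resolve_left bot_ne_top
      exact ⟨P, hP⟩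
    haveI hsimple : IsSimpleModule A (Q ⧸ P) := isSimpleModule_iff_isCoatom.mpr hP
    haveI : Nontrivial (Q ⧸ P) := IsSimpleModule.nontrivial A (Q ⧸ P)
    obtain ⟨q₀, hq₀⟩ := exists_ne (0 : Q ⧸ P)
    have hmax := IsSimpleModule.ker_toSpanSingleton_isMaximal A hq₀
    have hsurj := IsSimpleModule.toSpanSingleton_surjective A hq₀
    have hspan : ∀ w : Q ⧸ P, ∃ c : k, c • q₀ = w := by
      intro w
      obtain ⟨a, ha⟩ := hsurj w
      obtain ⟨c, hc⟩ := hres _ hmax a
      refine ⟨c, ?_⟩
      rw [LinearMap.mem_ker, LinearMap.toSpanSingleton_apply, sub_smul, sub_eq_zero] at hc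
      rw [LinearMap.toSpanSingleton_apply] at ha
      rw [← ha, hc, algebraMap_smul]
    have hfr1 : Module.finrank k (Q ⧸ P) = 1 := finrank_eq_one q₀ hq₀ hspan
    haveI : Module.Finite k ↥P :=
      Module.Finite.of_injective (P.subtype.restrictScalars k) P.injective_subtype
    haveI : Module.Finite k (Q ⧸ P) :=
      Module.Finite.of_surjective (P.mkQ.restrictScalars k) P.mkQ_surjective
    have hk : Module.length k Q = Module.length k ↥P + Module.length k (Q ⧸ P) :=
      Module.length_eq_add_of_exact (P.subtype.restrictScalars k) (P.mkQ.restrictScalars k)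
        P.injective_subtype P.mkQ_surjective (LinearMap.exact_subtype_mkQ P)
    rw [Module.length_eq_finrank, Module.length_eq_finrank, Module.length_eq_finrank, h, hfr1]
      at hk
    have hfrP : Module.finrank k ↥P = d := by
      have : d + 1 = Module.finrank k ↥P + 1 := by exact_mod_cast hk
      omega
    have hA : Module.length A Q = Module.length A ↥P + Module.length A (Q ⧸ P) :=
      Module.length_eq_add_of_exact P.subtype P.mkQ P.injective_subtype P.mkQ_surjective
        (LinearMap.exact_subtype_mkQ P)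
    rw [hA, ih ↥P hfrP, Module.length_eq_one_iff.mpr hsimple]
    push_cast
    rfl

/-- Over a `k`-algebra `A` all of whose residue fields are `k`, length equals `k`-dimension. -/
theorem length_eq_finrank' {k : Type*} {A : Type*} [Field k] [CommRing A] [Algebra k A]
    (hres : ∀ I : Ideal A, I.IsMaximal → ∀ a : A, ∃ c : k, a - algebraMap k A c ∈ I)
    (Q : Type v) [AddCommGroup Q] [Module A Q] [Module k Q] [IsScalarTower k A Q]
    [Module.Finite k Q] : Module.length A Q = (Module.finrank k Q : ℕ∞) :=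
  length_eq_finrank_aux hres _ Q rfl

end LenFinrank

section Bookkeeping

theorem coker2 {R : Type*} [Ring R] {T P₁ P₀ : Type*} [AddCommGroup T] [Module R T]
    [AddCommGroup P₁] [Module R P₁] [AddCommGroup P₀] [Module R P₀]
    (ρ₁ : P₁ →ₗ[R] T) (ρ₀ : P₀ →ₗ[R] T) :
    Module.length R (T ⧸ LinearMap.range ρ₁) =
      Module.length R (P₀ ⧸ (LinearMap.range ρ₁).comap ρ₀) +
        Module.length R (T ⧸ (LinearMap.range ρ₁ ⊔ LinearMap.range ρ₀)) := by
  obtain ⟨S, hS⟩ : ∃ S, S = LinearMap.range ρ₁ := ⟨_, rfl⟩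
  rw [← hS]
  let f : P₀ →ₗ[R] T ⧸ S := S.mkQ.comp ρ₀
  have hker : LinearMap.ker f = S.comap ρ₀ := by
    rw [LinearMap.ker_comp, Submodule.ker_mkQ]
  have hrange : LinearMap.range f = (S ⊔ LinearMap.range ρ₀).map S.mkQ := by
    rw [LinearMap.range_comp, Submodule.map_sup, Submodule.mkQ_map_self, bot_sup_eq]
  have h1 : Module.length R (T ⧸ S) = Module.length R ↥(LinearMap.range f) +
      Module.length R ((T ⧸ S) ⧸ LinearMap.range f) :=
    Module.length_eq_add_of_exact (LinearMap.range f).subtype (LinearMap.range f).mkQ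
      (Submodule.injective_subtype _) (Submodule.mkQ_surjective _)
      (LinearMap.exact_subtype_mkQ _)
  have h2 : Module.length R ↥(LinearMap.range f) = Module.length R (P₀ ⧸ S.comap ρ₀) :=
    ((Submodule.quotEquivOfEq _ _ hker.symm).trans f.quotKerEquivRange).length_eq.symm
  have h3 : Module.length R ((T ⧸ S) ⧸ LinearMap.range f) =
      Module.length R (T ⧸ (S ⊔ LinearMap.range ρ₀)) :=
    ((Submodule.quotEquivOfEq _ _ hrange).trans
      (Submodule.quotientQuotientEquivQuotient S (S ⊔ LinearMap.range ρ₀) le_sup_left)).length_eq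
  rw [h1, h2, h3]

theorem pi_quot_length {R : Type*} [Ring R] {M₂ M₃ : Type*} [AddCommGroup M₂] [Module R M₂]
    [AddCommGroup M₃] [Module R M₃] (f : M₂ →ₗ[R] M₃) (I : Type*) :
    Module.length R ((I → M₃) ⧸ LinearMap.range (f.compLeft I)) =
      ENat.card I * Module.length R (M₃ ⧸ LinearMap.range f) := by
  let g : (I → M₃) →ₗ[R] (I → M₃ ⧸ LinearMap.range f) := (LinearMap.range f).mkQ.compLeft I
  have hg : Function.Surjective g := by
    intro h
    refine ⟨fun i => (Submodule.mkQ_surjective _ (h i)).choose, ?_⟩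
    funext i
    exact (Submodule.mkQ_surjective _ (h i)).choose_spec
  have hker : LinearMap.ker g = LinearMap.range (f.compLeft I) := by
    ext y
    rw [LinearMap.mem_ker, LinearMap.mem_range]
    constructor
    · intro hy
      have hy' : ∀ i, y i ∈ LinearMap.range f := by
        intro i
        have := congrFun hy i
        rw [← Submodule.Quotient.mk_eq_zero]
        exact this
      refine ⟨fun i => (hy' i).choose, ?_⟩
      funext i
      exact (hy' i).choose_spec
    · rintro ⟨z, rfl⟩
      funext i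
      show Submodule.Quotient.mk (f (z i)) = 0
      rw [Submodule.Quotient.mk_eq_zero]
      exact LinearMap.mem_range_self f (z i)
  rw [← Module.length_pi]
  exact ((Submodule.quotEquivOfEq _ _ hker.symm).trans
    (g.quotKerEquivOfSurjective hg)).length_eq

theorem enat_cancel {x : ℕ∞} {a b c : ℕ} (h : x + (b : ℕ∞) = (c : ℕ∞)) (hc : c = a + b) :
    x = (a : ℕ∞) := by
  subst hc
  have hx : x ≠ ⊤ := by
    rintro rfl
    rw [top_add] at h
    exact ENat.top_ne_coe _ h
  lift x to ℕ using hx
  norm_cast at h ⊢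
  omega

end Bookkeeping

end Groth.Agent.Helper22.TF
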