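import Groth.Agent.Lib.Helper22.TF1

/-!
# TF2: the monomial ring of the cubical semigroup `⟨n, …, 2n-1⟩` (helper22)

`cubA k n` is the subalgebra `k + X^n k[[X]]`; `RA k n` is a type synonym for it carrying its
commutative ring structure (the synonym, together with the scoped instance `acmPS`, avoids
unifier problems with quotients of submodule subtypes over a subalgebra).
-/

open Classical

universe u

namespace Groth.Agent.Helper22.TF

section Cub

variable (k : Type u) [Field k] (n : ℕ)

/-- The monomial ring `k + X^n k[[X]]`. -/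
def cubA : Subalgebra k (PowerSeries k) where
  carrier := {f | ∀ m, PowerSeries.coeff m f ≠ 0 → (m = 0 ∨ n ≤ m)}
  mul_mem' := by
    intro f g hf hg m hm
    rw [PowerSeries.coeff_mul] at hm
    obtain ⟨⟨a, b⟩, hab, hne⟩ := Finset.exists_ne_zero_of_sum_ne_zero hm
    have hab' : a + b = m := Finset.HasAntidiagonal.mem_antidiagonal.mp hab
    have ha : a = 0 ∨ n ≤ a := hf a (left_ne_zero_of_mul hne)
    have hb : b = 0 ∨ n ≤ b := hg b (right_ne_zero_of_mul hne)
    omega
  one_mem' := by
    intro m hm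
    rw [PowerSeries.coeff_one] at hm
    by_cases h : m = 0
    · left; exact h
    · rw [if_neg h] at hm; exact absurd rfl hm
  add_mem' := by
    intro f g hf hg m hm
    rw [map_add] at hm
    by_cases h : PowerSeries.coeff m f = 0
    · rw [h, zero_add] at hm; exact hg m hm
    · exact hf m h
  zero_mem' := by
    intro m hm
    exact absurd (map_zero _) hm
  algebraMap_mem' := by
    intro c m hm
    left
    by_contra h
    apply hm
    rw [PowerSeries.algebraMap_apply, PowerSeries.coeff_C, if_neg h]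

theorem mem_cubA {f : PowerSeries k} :
    f ∈ cubA k n ↔ ∀ m, PowerSeries.coeff m f ≠ 0 → (m = 0 ∨ n ≤ m) := Iff.rfl

theorem C_mem (c : k) : PowerSeries.C c ∈ cubA k n := by
  intro m hm
  left
  by_contra h
  exact hm (by rw [PowerSeries.coeff_C, if_neg h])

theorem X_pow_mul_mem (g : PowerSeries k) {m : ℕ} (hm : n ≤ m) :
    (PowerSeries.X : PowerSeries k) ^ m * g ∈ cubA k n := by
  intro l hl
  rw [PowerSeries.coeff_X_pow_mul'] at hl
  split_ifs at hl with h
  · right; omega
  · exact absurd rfl hl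

variable {k}

/-- shift down by `n`. -/
noncomputable def sh (f : PowerSeries k) : PowerSeries k :=
  PowerSeries.mk (fun l => PowerSeries.coeff (l + n) f)

theorem coeff_sh (f : PowerSeries k) (l : ℕ) :
    PowerSeries.coeff l (sh n f) = PowerSeries.coeff (l + n) f := PowerSeries.coeff_mk _ _

theorem sh_X_pow_mul (g : PowerSeries k) : sh n (PowerSeries.X ^ n * g) = g := by
  apply PowerSeries.ext
  intro l
  rw [coeff_sh, PowerSeries.coeff_X_pow_mul]

theorem X_pow_mul_sh {f : PowerSeries k} (hf : ∀ m, m < n → PowerSeries.coeff m f = 0) :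
    PowerSeries.X ^ n * sh n f = f := by
  apply PowerSeries.ext
  intro l
  rw [PowerSeries.coeff_X_pow_mul']
  split_ifs with h
  · rw [coeff_sh, Nat.sub_add_cancel h]
  · exact (hf l (by omega)).symm

theorem sh_add (f g : PowerSeries k) : sh n (f + g) = sh n f + sh n g := by
  apply PowerSeries.ext
  intro l
  rw [map_add, coeff_sh, coeff_sh, coeff_sh, map_add]

theorem sh_zero : sh n (0 : PowerSeries k) = 0 := by
  apply PowerSeries.ext
  intro l
  rw [coeff_sh, map_zero, map_zero]

theorem sh_mul_of_low {a x : PowerSeries k} (hx : ∀ m, m < n → PowerSeries.coeff m x = 0) :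
    sh n (a * x) = a * sh n x := by
  have h := X_pow_mul_sh n hx
  rw [show a * x = PowerSeries.X ^ n * (a * sh n x) by rw [mul_left_comm, h], sh_X_pow_mul]

variable (k)

theorem inv_mem {u : PowerSeries k} (hu : u ∈ cubA k n)
    (h0 : PowerSeries.constantCoeff u ≠ 0) : u⁻¹ ∈ cubA k n := by
  have h1 : u * u⁻¹ = 1 := PowerSeries.mul_inv_cancel u h0
  obtain ⟨c, hc⟩ : ∃ c, c = PowerSeries.constantCoeff u := ⟨_, rfl⟩
  rw [← hc] at h0
  have hlow : ∀ m, m < n → PowerSeries.coeff m (u - PowerSeries.C c) = 0 := by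
    intro m hm
    rw [map_sub, PowerSeries.coeff_C]
    by_cases h : m = 0
    · subst h
      rw [if_pos rfl, PowerSeries.coeff_zero_eq_constantCoeff_apply, hc, sub_self]
    · rw [if_neg h, sub_zero]
      by_contra h2
      rcases hu m h2 with h3 | h3
      · exact h h3
      · omega
  have h2 : PowerSeries.X ^ n * sh n (u - PowerSeries.C c) = u - PowerSeries.C c :=
    X_pow_mul_sh n hlow
  obtain ⟨g, hg⟩ : ∃ g, g = sh n (u - PowerSeries.C c) := ⟨_, rfl⟩
  rw [← hg] at h2
  have hCC : PowerSeries.C c⁻¹ * PowerSeries.C c = (1 : PowerSeries k) := by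
    rw [← map_mul, inv_mul_cancel₀ h0, map_one]
  have h3 : u⁻¹ = PowerSeries.C c⁻¹ -
      PowerSeries.X ^ n * (PowerSeries.C c⁻¹ * g * u⁻¹) := by
    calc u⁻¹ = (PowerSeries.C c⁻¹ * PowerSeries.C c) * u⁻¹ := by rw [hCC, one_mul]
      _ = PowerSeries.C c⁻¹ * (u * u⁻¹) -
            PowerSeries.X ^ n * (PowerSeries.C c⁻¹ * g * u⁻¹) := by
          have : PowerSeries.C c = u - PowerSeries.X ^ n * g := by rw [h2]; ring
          rw [this]; ring
      _ = _ := by rw [h1, mul_one]
  rw [h3]
  exact Subalgebra.sub_mem _ (C_mem k n _) (X_pow_mul_mem k n _ le_rfl)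

/-- Type synonym for the cubical ring. -/
def RA : Type u := ↥(cubA k n)

noncomputable instance instCommRingRA : CommRing (RA k n) :=
  inferInstanceAs (CommRing ↥(cubA k n))

noncomputable instance instAlgebraRA : Algebra k (RA k n) :=
  inferInstanceAs (Algebra k ↥(cubA k n))

/-- route `AddCommMonoid k[[X]]` through `AddCommGroup` (helps the unifier with quotients). -/
noncomputable scoped instance (priority := high) acmPS : AddCommMonoid (PowerSeries k) :=
  AddCommGroup.toAddCommMonoid

noncomputable instance instModuleRA : Module (RA k n) (PowerSeries k) :=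
  inferInstanceAs (Module ↥(cubA k n) (PowerSeries k))

instance instTowerRA : IsScalarTower k (RA k n) (PowerSeries k) :=
  inferInstanceAs (IsScalarTower k ↥(cubA k n) (PowerSeries k))

theorem val_mul (a b : RA k n) : (a * b).1 = a.1 * b.1 := rfl
theorem val_add (a b : RA k n) : (a + b).1 = a.1 + b.1 := rfl
theorem val_sub (a b : RA k n) : (a - b).1 = a.1 - b.1 := rfl
theorem val_neg (a : RA k n) : (-a).1 = -a.1 := rfl
theorem val_zero : (0 : RA k n).1 = 0 := rfl
theorem val_one : (1 : RA k n).1 = 1 := rfl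
theorem smul_def' (a : RA k n) (x : PowerSeries k) : a • x = a.1 * x := rfl

theorem val_algebraMap (c : k) : (algebraMap k (RA k n) c).1 = PowerSeries.C c := by
  show ((algebraMap k ↥(cubA k n) c : ↥(cubA k n)) : PowerSeries k) = _
  rw [Subalgebra.coe_algebraMap, PowerSeries.algebraMap_apply]
  rfl

/-- `X^m * g` as an element of the ring, `m ≥ n`. -/
noncomputable def xnA (m : ℕ) (hm : n ≤ m) (g : PowerSeries k) : RA k n :=
  Subtype.mk (PowerSeries.X ^ m * g) (X_pow_mul_mem k n g hm)

theorem val_xnA (m : ℕ) (hm : n ≤ m) (g : PowerSeries k) :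
    (xnA k n m hm g).1 = PowerSeries.X ^ m * g := rfl

theorem low_of_const {a : RA k n} (h0 : PowerSeries.coeff 0 a.1 = 0) :
    ∀ m, m < n → PowerSeries.coeff m a.1 = 0 := by
  intro m hm
  by_contra h
  rcases a.2 m h with h1 | h1
  · subst h1; exact h h0
  · omega

theorem lowA (a : RA k n) (m : ℕ) (h1 : 0 < m) (h2 : m < n) :
    PowerSeries.coeff m a.1 = 0 := by
  by_contra h
  rcases a.2 m h with h3 | h3 <;> omega

/-- every residue field of the cubical ring is `k`. -/
theorem hres (I : Ideal (RA k n)) (hI : I.IsMaximal) (a : RA k n) :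
    ∃ c : k, a - algebraMap k (RA k n) c ∈ I := by
  refine ⟨PowerSeries.constantCoeff a.1, ?_⟩
  obtain ⟨b, hb⟩ : ∃ b, b = a - algebraMap k (RA k n) (PowerSeries.constantCoeff a.1) :=
    ⟨_, rfl⟩
  rw [← hb]
  have hb0 : PowerSeries.constantCoeff b.1 = 0 := by
    rw [hb, val_sub, val_algebraMap, map_sub, PowerSeries.constantCoeff_C, sub_self]
  by_contra hbI
  obtain ⟨y, i, hi, hyi⟩ := hI.exists_inv hbI
  have h : y.1 * b.1 + i.1 = 1 := by
    have := congrArg Subtype.val hyi
    rwa [val_add, val_mul, val_one] at this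
  have hi0 : PowerSeries.constantCoeff i.1 = 1 := by
    have := congrArg PowerSeries.constantCoeff h
    rw [map_add, map_mul, hb0, mul_zero, zero_add, map_one] at this
    exact this
  have hinv := inv_mem k n i.2 (by rw [hi0]; exact one_ne_zero)
  obtain ⟨j, hj⟩ : ∃ j : RA k n, j.1 = i.1⁻¹ := ⟨Subtype.mk _ hinv, rfl⟩
  have h1 : j * i = 1 := by
    apply Subtype.ext
    rw [val_mul, val_one, hj]
    exact PowerSeries.inv_mul_cancel _ (by rw [hi0]; exact one_ne_zero)
  have : (1 : RA k n) ∈ I := by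
    rw [← h1]
    exact I.mul_mem_left _ hi
  exact hI.ne_top ((Ideal.eq_top_iff_one I).mpr this)

/-- `P` is the monomial submodule with exponent set `Γ`. -/
def IsMono (P : Submodule (RA k n) (PowerSeries k)) (Γ : Set ℕ) : Prop :=
  ∀ f : PowerSeries k, f ∈ P ↔ ∀ l, PowerSeries.coeff l f ≠ 0 → l ∈ Γ

/-- length of a quotient of monomial modules = number of missing exponents. -/
theorem monoLen {P Q : Submodule (RA k n) (PowerSeries k)} {Γ₁ Γ₂ : Set ℕ}
    (hP : IsMono k n P Γ₁) (hQ : IsMono k n Q Γ₂)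
    (D : Finset ℕ) (hD : ∀ l, l ∈ D ↔ l ∈ Γ₁ ∧ l ∉ Γ₂) :
    Module.length (RA k n) (↥P ⧸ Q.submoduleOf P) = (D.card : ℕ∞) := by
  let c : ↥P →ₗ[k] (↥D → k) :=
    { toFun := fun f d => PowerSeries.coeff (d : ℕ) (f : PowerSeries k)
      map_add' := fun f g => by
        funext d
        show PowerSeries.coeff (d : ℕ) ((f : PowerSeries k) + (g : PowerSeries k)) = _
        rw [map_add]
        rfl
      map_smul' := fun r f => by
        funext d
        show PowerSeries.coeff (d : ℕ) (r • (f : PowerSeries k)) = _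
        rw [map_smul]
        rfl }
  have hc : Function.Surjective c := by
    intro g
    let f : PowerSeries k := PowerSeries.mk (fun l => if h : l ∈ D then g ⟨l, h⟩ else 0)
    have hf : f ∈ P := by
      rw [hP]
      intro l hl
      rw [PowerSeries.coeff_mk] at hl
      by_cases h : l ∈ D
      · exact ((hD l).mp h).1
      · rw [dif_neg h] at hl; exact absurd rfl hl
    refine ⟨⟨f, hf⟩, ?_⟩
    funext d
    show PowerSeries.coeff (d : ℕ) f = g d
    rw [PowerSeries.coeff_mk, dif_pos d.2]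
  have hker : LinearMap.ker c = (Q.submoduleOf P).restrictScalars k := by
    ext f
    rw [LinearMap.mem_ker, Submodule.restrictScalars_mem]
    show c f = 0 ↔ (f : PowerSeries k) ∈ Q
    constructor
    · intro h
      rw [hQ]
      intro l hl
      by_contra hl2
      have hlD : l ∈ D := (hD l).mpr ⟨(hP f).mp f.2 l hl, hl2⟩
      exact hl (congrFun h ⟨l, hlD⟩)
    · intro hf
      funext d
      by_contra h
      exact ((hD d).mp d.2).2 ((hQ f).mp hf d h)
  have e : (↥P ⧸ Q.submoduleOf P) ≃ₗ[k] (↥D → k) :=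
    ((Submodule.Quotient.restrictScalarsEquiv k (Q.submoduleOf P)).symm.trans
      (Submodule.quotEquivOfEq _ _ hker.symm)).trans (c.quotKerEquivOfSurjective hc)
  haveI : Module.Finite k (↥P ⧸ Q.submoduleOf P) := Module.Finite.equiv e.symm
  rw [length_eq_finrank' (hres k n) (↥P ⧸ Q.submoduleOf P), e.finrank_eq,
    Module.finrank_fintype_fun_eq_card, Fintype.card_coe]

/-- the largest `k[[X]]`-submodule inside `N`. -/
def cond (N : Submodule (RA k n) (PowerSeries k)) :
    Submodule (RA k n) (PowerSeries k) where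
  carrier := {y | ∀ f : PowerSeries k, f * y ∈ N}
  add_mem' := by
    intro y z hy hz f
    rw [mul_add]
    exact N.add_mem (hy f) (hz f)
  zero_mem' := by
    intro f
    rw [mul_zero]
    exact N.zero_mem
  smul_mem' := by
    intro a y hy f
    rw [smul_def', ← mul_assoc]
    exact hy (f * a.1)

theorem mem_cond {N : Submodule (RA k n) (PowerSeries k)} {y : PowerSeries k} :
    y ∈ cond k n N ↔ ∀ f : PowerSeries k, f * y ∈ N := Iff.rfl

/-- `X^n N`. -/
def xn (N : Submodule (RA k n) (PowerSeries k)) :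
    Submodule (RA k n) (PowerSeries k) where
  carrier := {y | ∃ z ∈ N, y = PowerSeries.X ^ n * z}
  add_mem' := by
    rintro _ _ ⟨z, hz, rfl⟩ ⟨w, hw, rfl⟩
    exact ⟨z + w, N.add_mem hz hw, (mul_add _ _ _).symm⟩
  zero_mem' := ⟨0, N.zero_mem, (mul_zero _).symm⟩
  smul_mem' := by
    rintro a _ ⟨z, hz, rfl⟩
    refine ⟨a • z, N.smul_mem a hz, ?_⟩
    rw [smul_def', smul_def']
    ring

theorem mem_xn {N : Submodule (RA k n) (PowerSeries k)} {y : PowerSeries k} :
    y ∈ xn k n N ↔ ∃ z ∈ N, y = PowerSeries.X ^ n * z := Iff.rfl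

/-- `{z ∈ N | X^e z ∈ N for e ∈ S'}`. -/
def Npp (S' : Finset ℕ) (N : Submodule (RA k n) (PowerSeries k)) :
    Submodule (RA k n) (PowerSeries k) where
  carrier := {z | z ∈ N ∧ ∀ e ∈ S', PowerSeries.X ^ e * z ∈ N}
  add_mem' := by
    rintro y z ⟨hy, hy'⟩ ⟨hz, hz'⟩
    refine ⟨N.add_mem hy hz, fun e he => ?_⟩
    rw [mul_add]
    exact N.add_mem (hy' e he) (hz' e he)
  zero_mem' := ⟨N.zero_mem, fun e _ => by rw [mul_zero]; exact N.zero_mem⟩
  smul_mem' := by
    rintro a z ⟨hz, h⟩
    refine ⟨N.smul_mem a hz, fun e he => ?_⟩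
    have h1 := N.smul_mem a (h e he)
    have h2 : a • (PowerSeries.X ^ e * z) = PowerSeries.X ^ e * (a • z) := by
      rw [smul_def', smul_def']
      ring
    rwa [h2] at h1

theorem mem_Npp {S' : Finset ℕ} {N : Submodule (RA k n) (PowerSeries k)} {z : PowerSeries k} :
    z ∈ Npp k n S' N ↔ z ∈ N ∧ ∀ e ∈ S', PowerSeries.X ^ e * z ∈ N := Iff.rfl

variable {k n}

theorem isMono_cond {N : Submodule (RA k n) (PowerSeries k)} {Γ : Set ℕ}
    (hN : IsMono k n N Γ) : IsMono k n (cond k n N) {l | ∀ l', l ≤ l' → l' ∈ Γ} := by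
  intro y
  rw [mem_cond]
  constructor
  · intro hy l hl l' hll'
    refine (hN _).mp (hy (PowerSeries.X ^ (l' - l))) l' ?_
    rw [PowerSeries.coeff_X_pow_mul', if_pos (Nat.sub_le _ _)]
    have : l' - (l' - l) = l := by omega
    rw [this]
    exact hl
  · intro hy f
    rw [hN]
    intro l hl
    rw [PowerSeries.coeff_mul] at hl
    obtain ⟨⟨a, b⟩, hab, hne⟩ := Finset.exists_ne_zero_of_sum_ne_zero hl
    have hab' : a + b = l := Finset.HasAntidiagonal.mem_antidiagonal.mp hab
    exact hy b (right_ne_zero_of_mul hne) l (by omega)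

theorem isMono_xn {N : Submodule (RA k n) (PowerSeries k)} {Γ : Set ℕ}
    (hN : IsMono k n N Γ) : IsMono k n (xn k n N) {l | n ≤ l ∧ l - n ∈ Γ} := by
  intro y
  rw [mem_xn]
  constructor
  · rintro ⟨z, hz, rfl⟩ l hl
    rw [PowerSeries.coeff_X_pow_mul'] at hl
    split_ifs at hl with h
    · exact ⟨h, (hN z).mp hz _ hl⟩
    · exact absurd rfl hl
  · intro hy
    have hlow : ∀ m, m < n → PowerSeries.coeff m y = 0 := by
      intro m hm
      by_contra h
      have := (hy m h).1
      omega
    refine ⟨sh n y, ?_, (X_pow_mul_sh n hlow).symm⟩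
    rw [hN]
    intro l hl
    rw [coeff_sh] at hl
    have := (hy _ hl).2
    rwa [Nat.add_sub_cancel] at this

theorem isMono_Npp {N : Submodule (RA k n) (PowerSeries k)} {Γ : Set ℕ} (S' : Finset ℕ)
    (hN : IsMono k n N Γ) :
    IsMono k n (Npp k n S' N) {l | l ∈ Γ ∧ ∀ e ∈ S', l + e ∈ Γ} := by
  intro z
  rw [mem_Npp]
  constructor
  · rintro ⟨hz, h⟩ l hl
    refine ⟨(hN z).mp hz l hl, fun e he => (hN _).mp (h e he) (l + e) ?_⟩
    rw [PowerSeries.coeff_X_pow_mul]
    exact hl
  · intro hz
    refine ⟨(hN z).mpr (fun l hl => (hz l hl).1), fun e he => (hN _).mpr ?_⟩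
    intro l hl
    rw [PowerSeries.coeff_X_pow_mul'] at hl
    split_ifs at hl with h
    · have := (hz _ hl).2 e he
      rwa [Nat.sub_add_cancel h] at this
    · exact absurd rfl hl

theorem isMono_top : IsMono k n ⊤ Set.univ :=
  fun _ => ⟨fun _ l _ => Set.mem_univ l, fun _ => Submodule.mem_top⟩

end Cub

end Groth.Agent.Helper22.TF
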