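import Groth.Agent.Lib.Helper22.TF2

/-!
# TF3: the Ext¹ length formula over the cubical ring (helper22)

For `M = ⟨1, X^e (e ∈ S')⟩` with `S' ⊂ (0, n)` and an arbitrary submodule `N ⊂ k[[X]]`:
`length Ext¹(M, N) + length (N / N'') = #S' · length (cond N / X^n N)`.
-/

open Classical

universe u

namespace Groth.Agent.Helper22.TF

section Gen

variable (k : Type u) [Field k] (n : ℕ) (S' : Finset ℕ)

/-- generators `1, X^e`. -/
noncomputable def v₀ : Option ↥S' → PowerSeries k
  | none => 1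
  | some e => PowerSeries.X ^ (e : ℕ)

/-- the presentation `A^{1+#S'} → k[[X]]`. -/
noncomputable def π₀ : (Option ↥S' → RA k n) →ₗ[RA k n] PowerSeries k :=
  Fintype.linearCombination (RA k n) (v₀ k S')

theorem π₀_apply (b : Option ↥S' → RA k n) :
    π₀ k n S' b = (b none).1 + ∑ e : ↥S', (b (some e)).1 * PowerSeries.X ^ (e : ℕ) := by
  rw [π₀, Fintype.linearCombination_apply, Fintype.sum_option]
  have h1 : b none • v₀ k S' none = (b none).1 := by
    rw [smul_def']
    show (b none).1 * 1 = _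
    rw [mul_one]
  have h2 : ∀ e : ↥S', b (some e) • v₀ k S' (some e) =
      (b (some e)).1 * PowerSeries.X ^ (e : ℕ) := fun e => smul_def' k n _ _
  rw [h1]
  simp only [h2]

/-- coordinate functionals with values in `k[[X]]`. -/
noncomputable def cj (j : Option ↥S') : (Option ↥S' → RA k n) →ₗ[RA k n] PowerSeries k where
  toFun b := (b j).1
  map_add' b b' := val_add k n (b j) (b' j)
  map_smul' a b := by
    show (a * b j).1 = a • (b j).1
    rw [val_mul, smul_def']

theorem cj_apply (j : Option ↥S') (b : Option ↥S' → RA k n) : cj k n S' j b = (b j).1 := rfl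

/-- the basic relations. -/
noncomputable def kap (e : ↥S') (f : PowerSeries k) : Option ↥S' → RA k n :=
  Pi.single (some e) (xnA k n n le_rfl f) -
    Pi.single none (xnA k n (n + e) (Nat.le_add_right _ _) f)

theorem kap_some (e e' : ↥S') (f : PowerSeries k) :
    (kap k n S' e f (some e')).1 = if e = e' then PowerSeries.X ^ n * f else 0 := by
  unfold kap
  rw [Pi.sub_apply, Pi.single_eq_of_ne (by simp : (some e' : Option ↥S') ≠ none), sub_zero]
  by_cases h : e = e'
  · subst h
    rw [Pi.single_eq_same, if_pos rfl]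
    rfl
  · rw [Pi.single_eq_of_ne (fun h' => h (Option.some.inj h').symm), if_neg h]
    rfl

theorem kap_none (e : ↥S') (f : PowerSeries k) :
    (kap k n S' e f none).1 = -(PowerSeries.X ^ (n + (e : ℕ)) * f) := by
  unfold kap
  rw [Pi.sub_apply, Pi.single_eq_of_ne (by simp : (none : Option ↥S') ≠ some e),
    Pi.single_eq_same, zero_sub, val_neg]
  rfl

theorem π₀_kap (e : ↥S') (f : PowerSeries k) : π₀ k n S' (kap k n S' e f) = 0 := by
  rw [kap, map_sub, π₀, Fintype.linearCombination_apply_single,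
    Fintype.linearCombination_apply_single, smul_def', smul_def']
  show (PowerSeries.X ^ n * f) * PowerSeries.X ^ (e : ℕ) -
    (PowerSeries.X ^ (n + (e : ℕ)) * f) * 1 = 0
  ring

theorem sum_kap (e : ↥S') (f : PowerSeries k) (g : ↥S' → PowerSeries k) :
    ∑ e' : ↥S', sh n (kap k n S' e f (some e')).1 * g e' = f * g e := by
  rw [Finset.sum_eq_single e]
  · rw [kap_some, if_pos rfl, sh_X_pow_mul]
  · intro e' _ hne
    rw [kap_some, if_neg (Ne.symm hne), sh_zero, zero_mul]
  · intro h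
    exact absurd (Finset.mem_univ e) h

variable (hS' : ∀ e ∈ S', 0 < e ∧ e < n)
include hS'

theorem K_const {b : Option ↥S' → RA k n} (hb : π₀ k n S' b = 0) (j : Option ↥S') :
    PowerSeries.coeff 0 (b j).1 = 0 := by
  rw [π₀_apply] at hb
  cases j with
  | none =>
    have h0 := congrArg (PowerSeries.coeff 0) hb
    rw [map_add, map_sum, map_zero] at h0
    rw [Finset.sum_eq_zero] at h0
    · rwa [add_zero] at h0
    · intro e _
      rw [PowerSeries.coeff_mul_X_pow', if_neg]
      have := (hS' e e.2).1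
      omega
  | some e =>
    have h0 := congrArg (PowerSeries.coeff (e : ℕ)) hb
    rw [map_add, map_sum, map_zero, lowA k n _ _ (hS' e e.2).1 (hS' e e.2).2, zero_add] at h0
    rw [Finset.sum_eq_single e] at h0
    · rwa [PowerSeries.coeff_mul_X_pow', if_pos le_rfl, Nat.sub_self] at h0
    · intro e' _ hne
      rw [PowerSeries.coeff_mul_X_pow']
      split_ifs with h
      · apply lowA
        · have : (e' : ℕ) ≠ e := fun h' => hne (Subtype.ext h')
          omega
        · have := (hS' e e.2).2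
          omega
      · rfl
    · intro h
      exact absurd (Finset.mem_univ e) h

theorem K_low {b : Option ↥S' → RA k n} (hb : π₀ k n S' b = 0) (j : Option ↥S') :
    ∀ m, m < n → PowerSeries.coeff m (b j).1 = 0 :=
  low_of_const k n (K_const k n S' hS' hb j)

theorem xn_smul_eq {b : Option ↥S' → RA k n} (hb : π₀ k n S' b = 0) :
    xnA k n n le_rfl 1 • b = ∑ e : ↥S', b (some e) • kap k n S' e 1 := by
  have key : ∀ j, cj k n S' j (xnA k n n le_rfl 1 • b) =
      cj k n S' j (∑ e : ↥S', b (some e) • kap k n S' e 1) := by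
    intro j
    rw [map_sum, map_smul]
    simp only [map_smul, cj_apply, smul_def', val_xnA, mul_one]
    cases j with
    | none =>
      have hb' : (b none).1 = -∑ e : ↥S', (b (some e)).1 * PowerSeries.X ^ (e : ℕ) := by
        apply eq_neg_of_add_eq_zero_left
        rw [← π₀_apply]
        exact hb
      rw [hb', mul_neg, Finset.mul_sum, ← Finset.sum_neg_distrib]
      refine Finset.sum_congr rfl (fun e _ => ?_)
      rw [kap_none, pow_add]
      ring
    | some e' =>
      rw [Finset.sum_eq_single e']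
      · rw [kap_some, if_pos rfl, mul_one, mul_comm]
      · intro e _ hne
        rw [kap_some, if_neg hne, mul_zero]
      · intro h
        exact absurd (Finset.mem_univ e') h
  funext j
  exact Subtype.ext (key j)

variable (N : Submodule (RA k n) (PowerSeries k))

/-- relations as elements of the kernel. -/
noncomputable def kapK (e : ↥S') (f : PowerSeries k) : ↥(LinearMap.ker (π₀ k n S')) :=
  ⟨kap k n S' e f, LinearMap.mem_ker.mpr (π₀_kap k n S' e f)⟩

omit hS' in
theorem kapK_val (e : ↥S') (f : PowerSeries k) : (kapK k n S' e f).1 = kap k n S' e f := rfl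

theorem psi_formula (ψ : ↥(LinearMap.ker (π₀ k n S')) →ₗ[RA k n] ↥N)
    (b : ↥(LinearMap.ker (π₀ k n S'))) :
    ((ψ b : ↥N) : PowerSeries k) = ∑ e : ↥S', sh n (b.1 (some e)).1 *
      ((ψ (kapK k n S' e 1) : ↥N) : PowerSeries k) := by
  have hb : π₀ k n S' b.1 = 0 := LinearMap.mem_ker.mp b.2
  let ψ' : ↥(LinearMap.ker (π₀ k n S')) →ₗ[RA k n] PowerSeries k := N.subtype.comp ψ
  have hK : xnA k n n le_rfl 1 • b = ∑ e : ↥S', b.1 (some e) • kapK k n S' e 1 := by
    apply Subtype.ext
    have h : ((∑ e : ↥S', b.1 (some e) • kapK k n S' e 1 :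
        ↥(LinearMap.ker (π₀ k n S'))) : Option ↥S' → RA k n) =
        ∑ e : ↥S', b.1 (some e) • kap k n S' e 1 := by
      rw [Submodule.coe_sum]
      rfl
    rw [h]
    exact xn_smul_eq k n S' hS' hb
  have h1 := congrArg ψ' hK
  rw [map_smul, map_sum] at h1
  simp only [map_smul] at h1
  apply mul_left_cancel₀ (pow_ne_zero n (PowerSeries.X_ne_zero (R := k)))
  rw [Finset.mul_sum]
  have h2 : ∀ e : ↥S', PowerSeries.X ^ n * (sh n (b.1 (some e)).1 *
      ((ψ (kapK k n S' e 1) : ↥N) : PowerSeries k)) =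
      b.1 (some e) • ψ' (kapK k n S' e 1) := by
    intro e
    rw [smul_def', ← mul_assoc, X_pow_mul_sh n (K_low k n S' hS' hb (some e))]
    rfl
  simp only [h2]
  rw [← h1, smul_def', val_xnA, mul_one]
  rfl

theorem theta_mem (ψ : ↥(LinearMap.ker (π₀ k n S')) →ₗ[RA k n] ↥N) (e : ↥S') :
    ((ψ (kapK k n S' e 1) : ↥N) : PowerSeries k) ∈ cond k n N := by
  rw [mem_cond]
  intro f
  have h : ((ψ (kapK k n S' e f) : ↥N) : PowerSeries k) =
      ∑ e' : ↥S', sh n (kap k n S' e f (some e')).1 *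
        ((ψ (kapK k n S' e' 1) : ↥N) : PowerSeries k) :=
    psi_formula k n S' hS' N ψ (kapK k n S' e f)
  rw [sum_kap] at h
  rw [← h]
  exact (ψ (kapK k n S' e f)).2

/-- `ψ ↦ (ψ κ_e)_e`. -/
noncomputable def Theta : (↥(LinearMap.ker (π₀ k n S')) →ₗ[RA k n] ↥N) →ₗ[RA k n]
    (↥S' → ↥(cond k n N)) where
  toFun ψ e := ⟨((ψ (kapK k n S' e 1) : ↥N) : PowerSeries k), theta_mem k n S' hS' N ψ e⟩
  map_add' ψ₁ ψ₂ := by
    funext e
    apply Subtype.ext
    rfl
  map_smul' a ψ := by
    funext e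
    apply Subtype.ext
    rfl

theorem Theta_val (ψ : ↥(LinearMap.ker (π₀ k n S')) →ₗ[RA k n] ↥N) (e : ↥S') :
    ((Theta k n S' hS' N ψ e : ↥(cond k n N)) : PowerSeries k) =
      ((ψ (kapK k n S' e 1) : ↥N) : PowerSeries k) := rfl

theorem Theta_injective : Function.Injective (Theta k n S' hS' N) := by
  intro ψ₁ ψ₂ h
  apply LinearMap.ext
  intro b
  apply Subtype.ext
  rw [psi_formula k n S' hS' N ψ₁ b, psi_formula k n S' hS' N ψ₂ b]
  refine Finset.sum_congr rfl (fun e _ => ?_)
  have h' : ((ψ₁ (kapK k n S' e 1) : ↥N) : PowerSeries k) =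
      ((ψ₂ (kapK k n S' e 1) : ↥N) : PowerSeries k) := by
    rw [← Theta_val k n S' hS' N ψ₁ e, ← Theta_val k n S' hS' N ψ₂ e, h]
  rw [h']

/-- the inverse of `Theta`. -/
noncomputable def psi (y : ↥S' → ↥(cond k n N)) :
    ↥(LinearMap.ker (π₀ k n S')) →ₗ[RA k n] ↥N where
  toFun b := ⟨∑ e : ↥S', sh n (b.1 (some e)).1 * ((y e : ↥(cond k n N)) : PowerSeries k),
    N.sum_mem (fun e _ => (mem_cond k n).mp (y e).2 _)⟩
  map_add' b b' := by
    apply Subtype.ext
    show ∑ e : ↥S', sh n ((b + b').1 (some e)).1 * ((y e : ↥(cond k n N)) : PowerSeries k) =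
      (∑ e : ↥S', sh n (b.1 (some e)).1 * ((y e : ↥(cond k n N)) : PowerSeries k)) +
        ∑ e : ↥S', sh n (b'.1 (some e)).1 * ((y e : ↥(cond k n N)) : PowerSeries k)
    rw [← Finset.sum_add_distrib]
    refine Finset.sum_congr rfl (fun e _ => ?_)
    rw [← add_mul, ← sh_add]
    rfl
  map_smul' a b := by
    apply Subtype.ext
    have hb : π₀ k n S' b.1 = 0 := LinearMap.mem_ker.mp b.2
    show ∑ e : ↥S', sh n ((a • b).1 (some e)).1 * ((y e : ↥(cond k n N)) : PowerSeries k) =
      a • ∑ e : ↥S', sh n (b.1 (some e)).1 * ((y e : ↥(cond k n N)) : PowerSeries k)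
    rw [smul_def', Finset.mul_sum]
    refine Finset.sum_congr rfl (fun e _ => ?_)
    have h1 : ((a • b).1 (some e)).1 = a.1 * (b.1 (some e)).1 := val_mul k n _ _
    rw [h1, sh_mul_of_low n (K_low k n S' hS' hb (some e)), mul_assoc]

theorem Theta_psi (y : ↥S' → ↥(cond k n N)) :
    Theta k n S' hS' N (psi k n S' hS' N y) = y := by
  funext e
  apply Subtype.ext
  show ∑ e' : ↥S', sh n (kap k n S' e 1 (some e')).1 *
    ((y e' : ↥(cond k n N)) : PowerSeries k) = _
  rw [sum_kap, one_mul]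

theorem Theta_surjective : Function.Surjective (Theta k n S' hS' N) :=
  fun y => ⟨psi k n S' hS' N y, Theta_psi k n S' hS' N y⟩

omit hS' in
theorem mu_mem (m : ℕ) (hm : n ≤ m) (z : ↥N) :
    PowerSeries.X ^ m * (z : PowerSeries k) ∈ cond k n N := by
  rw [mem_cond]
  intro f
  have := N.smul_mem (xnA k n m hm f) z.2
  rw [smul_def', val_xnA] at this
  have h2 : PowerSeries.X ^ m * f * (z : PowerSeries k) =
      f * (PowerSeries.X ^ m * (z : PowerSeries k)) := by ring
  rwa [h2] at this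

/-- multiplication by `X^m`, `m ≥ n`, from `N` to `cond N`. -/
noncomputable def mu (m : ℕ) (hm : n ≤ m) : ↥N →ₗ[RA k n] ↥(cond k n N) where
  toFun z := ⟨PowerSeries.X ^ m * (z : PowerSeries k), mu_mem k n N m hm z⟩
  map_add' z w := Subtype.ext (mul_add _ _ _)
  map_smul' a z := Subtype.ext (by
    show PowerSeries.X ^ m * (a • (z : PowerSeries k)) =
      a • (PowerSeries.X ^ m * (z : PowerSeries k))
    rw [smul_def', smul_def']
    ring)

omit hS' in
theorem mu_val (m : ℕ) (hm : n ≤ m) (z : ↥N) :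
    ((mu k n N m hm z : ↥(cond k n N)) : PowerSeries k) =
      PowerSeries.X ^ m * (z : PowerSeries k) := rfl

/-- `(z_e) ↦ (X^n z_e)`. -/
noncomputable def rho1 : (↥S' → ↥N) →ₗ[RA k n] (↥S' → ↥(cond k n N)) :=
  (mu k n N n le_rfl).compLeft ↥S'

/-- `z ↦ (X^{n+e} z)_e`. -/
noncomputable def rho0 : ↥N →ₗ[RA k n] (↥S' → ↥(cond k n N)) :=
  LinearMap.pi (fun e : ↥S' => mu k n N (n + e) (Nat.le_add_right n e))

theorem Theta_res (g : (Option ↥S' → RA k n) →ₗ[RA k n] ↥N) (e : ↥S') :
    ((Theta k n S' hS' N (g.comp (LinearMap.ker (π₀ k n S')).subtype) e :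
      ↥(cond k n N)) : PowerSeries k) =
      PowerSeries.X ^ n * ((g (Pi.single (some e) 1) : ↥N) : PowerSeries k) -
        PowerSeries.X ^ (n + (e : ℕ)) * ((g (Pi.single none 1) : ↥N) : PowerSeries k) := by
  show ((g (kap k n S' e 1) : ↥N) : PowerSeries k) = _
  have h1 : kap k n S' e 1 = xnA k n n le_rfl 1 • Pi.single (some e) (1 : RA k n) -
      xnA k n (n + e) (Nat.le_add_right _ _) 1 • Pi.single none (1 : RA k n) := by
    unfold kap
    rw [← Pi.single_smul, ← Pi.single_smul, smul_eq_mul, smul_eq_mul, mul_one, mul_one]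
  rw [h1, map_sub, map_smul, map_smul, Submodule.coe_sub, Submodule.coe_smul,
    Submodule.coe_smul, smul_def', smul_def', val_xnA, val_xnA, mul_one, mul_one]

theorem Theta_mem_iff (ψ : ↥(LinearMap.ker (π₀ k n S')) →ₗ[RA k n] ↥N) :
    Theta k n S' hS' N ψ ∈
      LinearMap.range (rho1 k n S' N) ⊔ LinearMap.range (rho0 k n S' N) ↔
    ψ ∈ LinearMap.range
      (LinearMap.lcomp (RA k n) ↥N (LinearMap.ker (π₀ k n S')).subtype) := by
  constructor
  · intro h
    obtain ⟨y₁, ⟨z₁, rfl⟩, y₀, ⟨z₀, rfl⟩, hsum⟩ := Submodule.mem_sup.mp h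
    obtain ⟨w, hw0, hw1⟩ : ∃ w : Option ↥S' → ↥N, w none = -z₀ ∧ ∀ e, w (some e) = z₁ e :=
      ⟨fun j => j.elim (-z₀) z₁, rfl, fun _ => rfl⟩
    refine ⟨Fintype.linearCombination (RA k n) w, ?_⟩
    rw [LinearMap.lcomp_apply']
    apply Theta_injective k n S' hS' N
    funext e
    apply Subtype.ext
    rw [Theta_res, ← hsum, Fintype.linearCombination_apply_single,
      Fintype.linearCombination_apply_single, one_smul, one_smul, hw0, hw1]
    show PowerSeries.X ^ n * ((z₁ e : ↥N) : PowerSeries k) -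
        PowerSeries.X ^ (n + (e : ℕ)) * (-((z₀ : ↥N) : PowerSeries k)) =
      PowerSeries.X ^ n * ((z₁ e : ↥N) : PowerSeries k) +
        PowerSeries.X ^ (n + (e : ℕ)) * ((z₀ : ↥N) : PowerSeries k)
    ring
  · rintro ⟨g, rfl⟩
    rw [LinearMap.lcomp_apply']
    refine Submodule.mem_sup.mpr ⟨rho1 k n S' N (fun e => g (Pi.single (some e) 1)),
      LinearMap.mem_range_self _ _, rho0 k n S' N (-(g (Pi.single none 1))),
      LinearMap.mem_range_self _ _, ?_⟩
    funext e
    apply Subtype.ext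
    rw [Theta_res]
    show PowerSeries.X ^ n * ((g (Pi.single (some e) 1) : ↥N) : PowerSeries k) +
        PowerSeries.X ^ (n + (e : ℕ)) * (-((g (Pi.single none 1) : ↥N) : PowerSeries k)) =
      PowerSeries.X ^ n * ((g (Pi.single (some e) 1) : ↥N) : PowerSeries k) -
        PowerSeries.X ^ (n + (e : ℕ)) * ((g (Pi.single none 1) : ↥N) : PowerSeries k)
    ring

omit hS' in
theorem comap_rho (N : Submodule (RA k n) (PowerSeries k)) :
    (LinearMap.range (rho1 k n S' N)).comap (rho0 k n S' N) = (Npp k n S' N).submoduleOf N := by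
  ext z
  rw [Submodule.mem_comap, LinearMap.mem_range]
  show _ ↔ (z : PowerSeries k) ∈ Npp k n S' N
  rw [mem_Npp]
  constructor
  · rintro ⟨z₁, hz₁⟩
    refine ⟨z.2, fun e he => ?_⟩
    have h := congrArg (fun y : ↥S' → ↥(cond k n N) =>
      ((y ⟨e, he⟩ : ↥(cond k n N)) : PowerSeries k)) hz₁
    have h' : PowerSeries.X ^ n * ((z₁ ⟨e, he⟩ : ↥N) : PowerSeries k) =
        PowerSeries.X ^ (n + e) * (z : PowerSeries k) := h
    rw [pow_add, mul_assoc] at h'
    have h'' := mul_left_cancel₀ (pow_ne_zero n (PowerSeries.X_ne_zero (R := k))) h'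
    rw [← h'']
    exact (z₁ ⟨e, he⟩).2
  · rintro ⟨_, h⟩
    refine ⟨fun e => ⟨PowerSeries.X ^ (e : ℕ) * (z : PowerSeries k), h e e.2⟩, ?_⟩
    funext e
    apply Subtype.ext
    show PowerSeries.X ^ n * (PowerSeries.X ^ (e : ℕ) * (z : PowerSeries k)) =
      PowerSeries.X ^ (n + (e : ℕ)) * (z : PowerSeries k)
    rw [pow_add, mul_assoc]

omit hS' in
theorem range_mu (N : Submodule (RA k n) (PowerSeries k)) :
    LinearMap.range (mu k n N n le_rfl) = (xn k n N).submoduleOf (cond k n N) := by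
  ext y
  rw [LinearMap.mem_range]
  show _ ↔ (y : PowerSeries k) ∈ xn k n N
  rw [mem_xn]
  constructor
  · rintro ⟨z, hz⟩
    exact ⟨z.1, z.2, (congrArg Subtype.val hz).symm⟩
  · rintro ⟨z, hzN, hy⟩
    exact ⟨⟨z, hzN⟩, Subtype.ext hy.symm⟩

/-- **The Ext¹ length formula.** -/
theorem ext_formula :
    Module.length (RA k n) (CategoryTheory.Abelian.Ext.{u}
        (ModuleCat.of (RA k n) ↥(LinearMap.range (π₀ k n S'))) (ModuleCat.of (RA k n) ↥N) 1)
      + Module.length (RA k n) (↥N ⧸ (Npp k n S' N).submoduleOf N)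
    = (S'.card : ℕ∞) *
      Module.length (RA k n) (↥(cond k n N) ⧸ (xn k n N).submoduleOf (cond k n N)) := by
  have h1 := length_ext_one (N := ↥N) (π₀ k n S').rangeRestrict
    (LinearMap.surjective_rangeRestrict _)
  rw [LinearMap.ker_rangeRestrict] at h1
  obtain ⟨Φ, hΦdef⟩ : ∃ Φ : (↥(LinearMap.ker (π₀ k n S')) →ₗ[RA k n] ↥N) →ₗ[RA k n]
      ((↥S' → ↥(cond k n N)) ⧸
        (LinearMap.range (rho1 k n S' N) ⊔ LinearMap.range (rho0 k n S' N))),
      Φ = (LinearMap.range (rho1 k n S' N) ⊔ LinearMap.range (rho0 k n S' N)).mkQ.comp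
        (Theta k n S' hS' N) := ⟨_, rfl⟩
  have hΦ : Function.Surjective Φ := by
    rw [hΦdef]
    exact (Submodule.mkQ_surjective _).comp (Theta_surjective k n S' hS' N)
  have hker : LinearMap.ker Φ =
      LinearMap.range
        (LinearMap.lcomp (RA k n) ↥N (LinearMap.ker (π₀ k n S')).subtype) := by
    ext ψ
    rw [hΦdef, LinearMap.mem_ker, LinearMap.comp_apply, Submodule.mkQ_apply,
      Submodule.Quotient.mk_eq_zero]
    exact Theta_mem_iff k n S' hS' N ψ
  have e2 := Φ.quotKerEquivOfSurjective hΦ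
  have h2 := ((Submodule.quotEquivOfEq _ _ hker.symm).trans e2).length_eq
  have h3 := coker2 (rho1 k n S' N) (rho0 k n S' N)
  have h4 := (Submodule.quotEquivOfEq _ _ (comap_rho k n S' N)).length_eq
  have h5 := pi_quot_length (mu k n N n le_rfl) ↥S'
  have h6 := (Submodule.quotEquivOfEq _ _ (range_mu k n N)).length_eq
  have h7 : ENat.card ↥S' = (S'.card : ℕ∞) := by
    rw [ENat.card_eq_coe_fintype_card, Fintype.card_coe]
  rw [h1, h2, ← h7, ← h6, ← h5, ← h4]
  rw [add_comm]
  exact h3.symm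

end Gen

end Groth.Agent.Helper22.TF
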