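import Groth.Agent.Lib.Helper22.TF3

/-!
# TF4: monomial description of `⟨1, X^e⟩`, endomorphisms of `k[[X]]`, and the three
cubical computations in `RA`-form (helper22)
-/

open Classical

universe u

namespace Groth.Agent.Helper22.TF

section Fin

variable (k : Type u) [Field k] (n : ℕ)

/-- constructor for elements of `RA`. -/
noncomputable def mkRA (f : PowerSeries k) (hf : f ∈ cubA k n) : RA k n := Subtype.mk f hf

theorem val_mkRA (f : PowerSeries k) (hf : f ∈ cubA k n) : (mkRA k n f hf).1 = f := rfl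

theorem isMono_range (S' : Finset ℕ) (hS' : ∀ e ∈ S', 0 < e ∧ e < n) (hn : 0 < n) :
    IsMono k n (LinearMap.range (π₀ k n S')) {l | l = 0 ∨ l ∈ S' ∨ n ≤ l} := by
  intro f
  constructor
  · rintro ⟨b, rfl⟩ l hl
    rw [π₀_apply, map_add, map_sum] at hl
    by_cases h0 : PowerSeries.coeff l (b none).1 = 0
    · rw [h0, zero_add] at hl
      obtain ⟨e, -, he⟩ := Finset.exists_ne_zero_of_sum_ne_zero hl
      rw [PowerSeries.coeff_mul_X_pow'] at he
      split_ifs at he with h
      · rcases (b (some e)).2 _ he with h1 | h1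
        · right; left
          have : l = (e : ℕ) := by omega
          rw [this]
          exact e.2
        · right; right; omega
      · exact absurd rfl he
    · rcases (b none).2 l h0 with h1 | h1
      · left; exact h1
      · right; right; exact h1
  · intro hf
    obtain ⟨b, hb0, hb1⟩ : ∃ b : Option ↥S' → RA k n,
        (b none).1 = PowerSeries.C (PowerSeries.coeff 0 f) + PowerSeries.X ^ n * sh n f ∧
        ∀ e : ↥S', (b (some e)).1 = PowerSeries.C (PowerSeries.coeff (e : ℕ) f) :=
      ⟨fun j => j.elim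
        (mkRA k n (PowerSeries.C (PowerSeries.coeff 0 f) + PowerSeries.X ^ n * sh n f)
          ((cubA k n).add_mem (C_mem k n _) (X_pow_mul_mem k n _ le_rfl)))
        (fun e => mkRA k n (PowerSeries.C (PowerSeries.coeff (e : ℕ) f)) (C_mem k n _)),
        rfl, fun _ => rfl⟩
    refine ⟨b, ?_⟩
    rw [π₀_apply, hb0]
    simp only [hb1]
    apply PowerSeries.ext
    intro l
    rw [map_add, map_add, map_sum, PowerSeries.coeff_C, PowerSeries.coeff_X_pow_mul']
    simp only [PowerSeries.coeff_C_mul_X_pow]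
    by_cases hl : l ∈ S'
    · have h1 := hS' l hl
      rw [if_neg (by omega), if_neg (by omega), Finset.sum_eq_single (⟨l, hl⟩ : ↥S')]
      · rw [if_pos rfl, zero_add, zero_add]
      · intro e _ hne
        rw [if_neg]
        intro h
        exact hne (Subtype.ext h.symm)
      · intro h
        exact absurd (Finset.mem_univ _) h
    · rw [Finset.sum_eq_zero (fun e _ => if_neg (fun h => hl (by rw [h]; exact e.2))), add_zero]
      by_cases h0 : l = 0
      · subst h0
        rw [if_pos rfl, if_neg (by omega), add_zero]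
      · rw [if_neg h0, zero_add]
        by_cases hln : n ≤ l
        · rw [if_pos hln, coeff_sh, Nat.sub_add_cancel hln]
        · rw [if_neg hln]
          by_contra hne
          rcases hf l (fun h => hne h.symm) with h | h | h
          · exact h0 h
          · exact hl h
          · exact hln h

theorem span_eq_range (S' : Finset ℕ) (S : Set ℕ) (hS : ∀ a, a ∈ S ↔ a = 0 ∨ a ∈ S') :
    Submodule.span (RA k n) ((fun a : ℕ => (PowerSeries.X : PowerSeries k) ^ a) '' S) =
      LinearMap.range (π₀ k n S') := by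
  rw [π₀, Fintype.range_linearCombination]
  congr 1
  ext x
  constructor
  · rintro ⟨a, ha, rfl⟩
    rcases (hS a).mp ha with h | h
    · subst h
      exact ⟨none, (pow_zero _).symm⟩
    · exact ⟨some ⟨a, h⟩, rfl⟩
  · rintro ⟨j, rfl⟩
    cases j with
    | none => exact ⟨0, (hS 0).mpr (Or.inl rfl), pow_zero _⟩
    | some e => exact ⟨e, (hS e).mpr (Or.inr e.2), rfl⟩

theorem end_eq_mul (φ : PowerSeries k →ₗ[RA k n] PowerSeries k) (f : PowerSeries k) :
    φ f = f * φ 1 := by
  apply mul_left_cancel₀ (pow_ne_zero n (PowerSeries.X_ne_zero (R := k)))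
  have h1 : φ (xnA k n n le_rfl 1 • f) = xnA k n n le_rfl 1 • φ f := map_smul φ _ _
  have h2 : φ (xnA k n n le_rfl f • (1 : PowerSeries k)) = xnA k n n le_rfl f • φ 1 :=
    map_smul φ _ _
  have h3 : xnA k n n le_rfl 1 • f = xnA k n n le_rfl f • (1 : PowerSeries k) := by
    rw [smul_def', smul_def', val_xnA, val_xnA]
    ring
  rw [h3, h2, smul_def', smul_def', val_xnA, val_xnA, mul_one] at h1
  rw [← h1]
  ring

/-- the ring as a submodule of `k[[X]]`. -/
def Asub : Submodule (RA k n) (PowerSeries k) where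
  carrier := {f | f ∈ cubA k n}
  add_mem' := fun ha hb => (cubA k n).add_mem ha hb
  zero_mem' := (cubA k n).zero_mem
  smul_mem' := fun a f hf => by
    show a • f ∈ cubA k n
    rw [smul_def']
    exact (cubA k n).mul_mem a.2 hf

theorem isMono_Asub : IsMono k n (Asub k n) {l | l = 0 ∨ n ≤ l} := fun _ => Iff.rfl

theorem length_end :
    Module.length (RA k n) ((PowerSeries k →ₗ[RA k n] PowerSeries k) ⧸
      LinearMap.range (Algebra.lsmul (RA k n) (RA k n) (PowerSeries k) :
        RA k n →ₐ[RA k n] Module.End (RA k n) (PowerSeries k)).toLinearMap) =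
      ((n - 1 : ℕ) : ℕ∞) := by
  let ev : (PowerSeries k →ₗ[RA k n] PowerSeries k) →ₗ[RA k n]
      ↥(⊤ : Submodule (RA k n) (PowerSeries k)) :=
    { toFun := fun φ => ⟨φ 1, Submodule.mem_top⟩
      map_add' := fun _ _ => rfl
      map_smul' := fun _ _ => rfl }
  obtain ⟨Φ, hΦdef⟩ : ∃ Φ : (PowerSeries k →ₗ[RA k n] PowerSeries k) →ₗ[RA k n]
      (↥(⊤ : Submodule (RA k n) (PowerSeries k)) ⧸ (Asub k n).submoduleOf ⊤),
      Φ = ((Asub k n).submoduleOf ⊤).mkQ.comp ev := ⟨_, rfl⟩
  have hΦ : Function.Surjective Φ := by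
    intro q
    obtain ⟨⟨g, hg⟩, rfl⟩ := Submodule.mkQ_surjective _ q
    let mg : PowerSeries k →ₗ[RA k n] PowerSeries k :=
      { toFun := fun f => f * g
        map_add' := fun a b => add_mul a b g
        map_smul' := fun a f => by
          show (a • f) * g = a • (f * g)
          rw [smul_def', smul_def', mul_assoc] }
    refine ⟨mg, ?_⟩
    rw [hΦdef]
    show Submodule.Quotient.mk (⟨1 * g, Submodule.mem_top⟩ :
        ↥(⊤ : Submodule (RA k n) (PowerSeries k))) = Submodule.Quotient.mk ⟨g, hg⟩
    congr 1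
    exact Subtype.ext (one_mul g)
  have hker : LinearMap.ker Φ =
      LinearMap.range (Algebra.lsmul (RA k n) (RA k n) (PowerSeries k) :
        RA k n →ₐ[RA k n] Module.End (RA k n) (PowerSeries k)).toLinearMap := by
    ext φ
    rw [hΦdef, LinearMap.mem_ker, LinearMap.comp_apply, Submodule.mkQ_apply,
      Submodule.Quotient.mk_eq_zero, LinearMap.mem_range]
    show φ 1 ∈ cubA k n ↔ _
    constructor
    · intro h
      refine ⟨mkRA k n (φ 1) h, ?_⟩
      apply LinearMap.ext
      intro f
      show (mkRA k n (φ 1) h) • f = φ f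
      rw [smul_def', end_eq_mul k n φ f, mul_comm]
      rfl
    · rintro ⟨a, rfl⟩
      show a • (1 : PowerSeries k) ∈ cubA k n
      rw [smul_def', mul_one]
      exact a.2
  have e := (Submodule.quotEquivOfEq _ _ hker.symm).trans (Φ.quotKerEquivOfSurjective hΦ)
  rw [e.length_eq, monoLen k n isMono_top (isMono_Asub k n) (Finset.Icc 1 (n - 1)) (by
    intro l
    simp only [Set.mem_setOf_eq, Finset.mem_Icc, Set.mem_univ, true_and]
    omega), Nat.card_Icc]
  rfl

/-- S15031 in `RA`-form. -/
theorem key31 (i : ℕ) (hi : i + 2 ≤ n) :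
    Module.length (RA k n) (CategoryTheory.Abelian.Ext.{u}
      (ModuleCat.of (RA k n) ↥(Submodule.span (RA k n)
        ((fun a : ℕ => (PowerSeries.X : PowerSeries k) ^ a) '' Set.Iic i)))
      (ModuleCat.of (RA k n) ↥(Submodule.span (RA k n)
        ((fun a : ℕ => (PowerSeries.X : PowerSeries k) ^ a) '' Set.Iic i))) 1) =
      ((i * (n - 2 - i) : ℕ) : ℕ∞) := by
  have hS' : ∀ e ∈ Finset.Icc 1 i, 0 < e ∧ e < n := by
    intro e he
    rw [Finset.mem_Icc] at he
    omega
  have hspan := span_eq_range k n (Finset.Icc 1 i) (Set.Iic i) (by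
    intro a
    rw [Set.mem_Iic, Finset.mem_Icc]
    omega)
  rw [hspan]
  have hN := isMono_range k n (Finset.Icc 1 i) hS' (by omega)
  have hform := ext_formula k n (Finset.Icc 1 i) hS' (LinearMap.range (π₀ k n (Finset.Icc 1 i)))
  have h2 := monoLen k n hN (isMono_Npp (Finset.Icc 1 i) hN) (Finset.Icc 1 i) (by
    intro l
    simp only [Set.mem_setOf_eq, Finset.mem_Icc]
    constructor
    · intro hl
      refine ⟨Or.inr (Or.inl hl), fun h => ?_⟩
      have := h.2 (i + 1 - l) (by omega)
      omega
    · rintro ⟨hl, hnot⟩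
      by_contra hcon
      apply hnot
      refine ⟨hl, fun e he => ?_⟩
      omega)
  have h1 := monoLen k n (isMono_cond hN) (isMono_xn hN) (Finset.Icc (n + i + 1) (2 * n - 1)) (by
    intro l
    simp only [Set.mem_setOf_eq, Finset.mem_Icc]
    constructor
    · intro hl
      refine ⟨fun l' hl' => Or.inr (Or.inr (by omega)), fun h => ?_⟩
      omega
    · rintro ⟨h1, h2⟩
      have hnl : n ≤ l := by
        by_contra hcon
        by_cases hli : l ≤ i + 1
        · have := h1 (i + 1) hli
          omega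
        · have := h1 l le_rfl
          omega
      by_contra hcon
      apply h2
      refine ⟨hnl, ?_⟩
      omega)
  have e1 : (Finset.Icc 1 i).card = i := by
    rw [Nat.card_Icc]
    omega
  have e2 : (Finset.Icc (n + i + 1) (2 * n - 1)).card = n - 1 - i := by
    rw [Nat.card_Icc]
    omega
  rw [h2, h1, e1, e2] at hform
  refine enat_cancel (b := i) (c := i * (n - 1 - i)) ?_ ?_
  · rw [hform, Nat.cast_mul]
  · have : n - 1 - i = (n - 2 - i) + 1 := by omega
    rw [this]
    ring

/-- S15033 in `RA`-form. -/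
theorem key33 (i : ℕ) (hi : i + 2 ≤ n) :
    Module.length (RA k n) (CategoryTheory.Abelian.Ext.{u}
      (ModuleCat.of (RA k n) ↥(Submodule.span (RA k n)
        ((fun a : ℕ => (PowerSeries.X : PowerSeries k) ^ a) '' ({0} ∪ Set.Icc (n - i) (n - 1)))))
      (ModuleCat.of (RA k n) ↥(Submodule.span (RA k n)
        ((fun a : ℕ => (PowerSeries.X : PowerSeries k) ^ a) '' ({0} ∪ Set.Icc (n - i) (n - 1)))))
      1) = ((i * (n - 1) : ℕ) : ℕ∞) := by
  have hS' : ∀ e ∈ Finset.Icc (n - i) (n - 1), 0 < e ∧ e < n := by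
    intro e he
    rw [Finset.mem_Icc] at he
    omega
  have hspan := span_eq_range k n (Finset.Icc (n - i) (n - 1)) ({0} ∪ Set.Icc (n - i) (n - 1)) (by
    intro a
    rw [Set.mem_union, Set.mem_singleton_iff, Set.mem_Icc, Finset.mem_Icc])
  rw [hspan]
  have hN := isMono_range k n (Finset.Icc (n - i) (n - 1)) hS' (by omega)
  have hform := ext_formula k n (Finset.Icc (n - i) (n - 1)) hS'
    (LinearMap.range (π₀ k n (Finset.Icc (n - i) (n - 1))))
  have h2 := monoLen k n hN (isMono_Npp (Finset.Icc (n - i) (n - 1)) hN) ∅ (by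
    intro l
    constructor
    · intro h
      simp at h
    · rintro ⟨hl, hnot⟩
      exfalso
      apply hnot
      simp only [Set.mem_setOf_eq, Finset.mem_Icc] at hl ⊢
      refine ⟨hl, fun e he => ?_⟩
      omega)
  have h1 := monoLen k n (isMono_cond hN) (isMono_xn hN)
    ((Finset.Icc (n - i) (2 * n - i - 1)).erase n) (by
    intro l
    simp only [Set.mem_setOf_eq, Finset.mem_Icc, Finset.mem_erase]
    constructor
    · rintro ⟨hne, hl⟩
      refine ⟨fun l' hl' => ?_, fun h => ?_⟩
      · omega
      · omega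
    · rintro ⟨h1, h2⟩
      have hl1 : n - i ≤ l := by
        by_contra hcon
        by_cases hl0 : l = 0
        · have := h1 1 (by omega)
          omega
        · have := h1 l le_rfl
          omega
      refine ⟨fun hln => h2 ⟨by omega, by omega⟩, hl1, ?_⟩
      by_contra hcon
      apply h2
      refine ⟨by omega, ?_⟩
      omega)
  have e1 : (Finset.Icc (n - i) (n - 1)).card = i := by
    rw [Nat.card_Icc]
    omega
  have e2 : ((Finset.Icc (n - i) (2 * n - i - 1)).erase n).card = n - 1 := by
    rw [Finset.card_erase_of_mem (by rw [Finset.mem_Icc]; omega), Nat.card_Icc]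
    omega
  rw [h2, h1, e1, e2, Finset.card_empty] at hform
  refine enat_cancel (b := 0) (c := i * (n - 1)) ?_ ?_
  · rw [hform, Nat.cast_mul]
  · rfl

/-- S15032 in `RA`-form. -/
theorem key32 (hn : 2 ≤ n) :
    Module.length (RA k n) (CategoryTheory.Abelian.Ext.{u}
      (ModuleCat.of (RA k n) (PowerSeries k)) (ModuleCat.of (RA k n) (PowerSeries k)) 1) =
      (((n - 1) ^ 2 : ℕ) : ℕ∞) +
        Module.length (RA k n) ((PowerSeries k →ₗ[RA k n] PowerSeries k) ⧸
          LinearMap.range (Algebra.lsmul (RA k n) (RA k n) (PowerSeries k) :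
            RA k n →ₐ[RA k n] Module.End (RA k n) (PowerSeries k)).toLinearMap) := by
  have hS' : ∀ e ∈ Finset.Icc 1 (n - 1), 0 < e ∧ e < n := by
    intro e he
    rw [Finset.mem_Icc] at he
    omega
  have hN := isMono_range k n (Finset.Icc 1 (n - 1)) hS' (by omega)
  have htop : LinearMap.range (π₀ k n (Finset.Icc 1 (n - 1))) = ⊤ :=
    Submodule.eq_top_iff'.mpr (fun f => (hN f).mpr (fun l _ => by
      simp only [Set.mem_setOf_eq, Finset.mem_Icc]
      omega))
  have hform := ext_formula k n (Finset.Icc 1 (n - 1)) hS'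
    (LinearMap.range (π₀ k n (Finset.Icc 1 (n - 1))))
  have h2 := monoLen k n hN (isMono_Npp (Finset.Icc 1 (n - 1)) hN) ∅ (by
    intro l
    constructor
    · intro h
      simp at h
    · rintro ⟨hl, hnot⟩
      exfalso
      apply hnot
      simp only [Set.mem_setOf_eq, Finset.mem_Icc] at hl ⊢
      refine ⟨hl, fun e he => ?_⟩
      omega)
  have h1 := monoLen k n (isMono_cond hN) (isMono_xn hN) (Finset.range n) (by
    intro l
    simp only [Set.mem_setOf_eq, Finset.mem_Icc, Finset.mem_range]
    constructor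
    · intro hl
      exact ⟨fun l' _ => by omega, fun h => by omega⟩
    · rintro ⟨_, h2⟩
      by_contra hcon
      apply h2
      exact ⟨by omega, by omega⟩)
  have e1 : (Finset.Icc 1 (n - 1)).card = n - 1 := by
    rw [Nat.card_Icc]
    omega
  rw [h2, h1, e1, Finset.card_range, Finset.card_empty] at hform
  have hE : Module.length (RA k n) (CategoryTheory.Abelian.Ext.{u}
      (ModuleCat.of (RA k n) ↥(LinearMap.range (π₀ k n (Finset.Icc 1 (n - 1)))))
      (ModuleCat.of (RA k n) ↥(LinearMap.range (π₀ k n (Finset.Icc 1 (n - 1))))) 1) =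
      (((n - 1) * n : ℕ) : ℕ∞) := by
    refine enat_cancel (b := 0) (c := (n - 1) * n) ?_ rfl
    rw [hform, Nat.cast_mul]
  rw [← ext_length_congr (LinearEquiv.ofTop _ htop) (LinearEquiv.ofTop _ htop), hE, length_end]
  obtain ⟨m, rfl⟩ : ∃ m, n = m + 1 := ⟨n - 1, by omega⟩
  rw [Nat.add_sub_cancel]
  push_cast
  ring

end Fin

end Groth.Agent.Helper22.TF
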