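import Groth.Agent.Lib.Helper22.TF4

/-!
# TF5: the cubical Ext¹ computations in subalgebra form (helper22)
-/

universe u

open CategoryTheory

namespace Groth.Agent.Helper22.TFfin

theorem s15031 (k : Type u) [Field k] (n : ℕ) (A : Subalgebra k (PowerSeries k))
    (hmono : ∀ f : PowerSeries k, f ∈ A ↔
      ∀ m : ℕ, PowerSeries.coeff m f ≠ 0 → (m = 0 ∨ n ≤ m)) (i : ℕ) (hi : i + 2 ≤ n) :
    Module.length ↥A (Abelian.Ext (ModuleCat.of ↥A ↥(Submodule.span ↥A
      ((fun a : ℕ => (PowerSeries.X : PowerSeries k) ^ a) '' Set.Iic i)))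
      (ModuleCat.of ↥A ↥(Submodule.span ↥A
        ((fun a : ℕ => (PowerSeries.X : PowerSeries k) ^ a) '' Set.Iic i))) 1) =
      ((i * (n - 2 - i) : ℕ) : ℕ∞) := by
  have hA : A = TF.cubA k n := SetLike.ext fun f => (hmono f).trans (TF.mem_cubA k n).symm
  subst hA
  exact TF.key31 k n i hi

theorem s15033 (k : Type u) [Field k] (n : ℕ) (A : Subalgebra k (PowerSeries k))
    (hmono : ∀ f : PowerSeries k, f ∈ A ↔
      ∀ m : ℕ, PowerSeries.coeff m f ≠ 0 → (m = 0 ∨ n ≤ m)) (i : ℕ) (hi : i + 2 ≤ n) :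
    Module.length ↥A (Abelian.Ext (ModuleCat.of ↥A ↥(Submodule.span ↥A
      ((fun a : ℕ => (PowerSeries.X : PowerSeries k) ^ a) '' ({0} ∪ Set.Icc (n - i) (n - 1)))))
      (ModuleCat.of ↥A ↥(Submodule.span ↥A
        ((fun a : ℕ => (PowerSeries.X : PowerSeries k) ^ a) '' ({0} ∪ Set.Icc (n - i) (n - 1)))))
      1) = ((i * (n - 1) : ℕ) : ℕ∞) := by
  have hA : A = TF.cubA k n := SetLike.ext fun f => (hmono f).trans (TF.mem_cubA k n).symm
  subst hA
  exact TF.key33 k n i hi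

theorem s15032 (k : Type u) [Field k] (n : ℕ) (hn : 2 ≤ n) (A : Subalgebra k (PowerSeries k))
    (hmono : ∀ f : PowerSeries k, f ∈ A ↔
      ∀ m : ℕ, PowerSeries.coeff m f ≠ 0 → (m = 0 ∨ n ≤ m)) :
    Module.length ↥A (Abelian.Ext (ModuleCat.of ↥A (PowerSeries k))
      (ModuleCat.of ↥A (PowerSeries k)) 1) =
      (((n - 1) ^ 2 : ℕ) : ℕ∞) + Module.length ↥A ((PowerSeries k →ₗ[↥A] PowerSeries k) ⧸
        LinearMap.range (Algebra.lsmul ↥A ↥A (PowerSeries k) :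
          ↥A →ₐ[↥A] Module.End ↥A (PowerSeries k)).toLinearMap) := by
  have hA : A = TF.cubA k n := SetLike.ext fun f => (hmono f).trans (TF.mem_cubA k n).symm
  subst hA
  exact TF.key32 k n hn

end Groth.Agent.Helper22.TFfin
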