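import Groth.Agent.Lib.Helper22.TF4

/-!
# TG1: monomial rings of numerical semigroups (helper22)

`sgA k Γ` is the subalgebra of power series with exponents in the additive submonoid `Γ ⊆ ℕ`;
`RG k Γ` is a type synonym carrying its ring structure. Given a conductor bound, all residue
fields are `k`, so lengths of monomial quotients are counted by exponents (`monoLenG`).
-/

open Classical

universe u

namespace Groth.Agent.Helper22.TF

section SG

variable (k : Type u) [Field k] (Γ : AddSubmonoid ℕ)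

/-- The monomial ring `k[[Γ]]`. -/
def sgA : Subalgebra k (PowerSeries k) where
  carrier := {f | ∀ m, PowerSeries.coeff m f ≠ 0 → m ∈ Γ}
  mul_mem' := by
    intro f g hf hg m hm
    rw [PowerSeries.coeff_mul] at hm
    obtain ⟨⟨a, b⟩, hab, hne⟩ := Finset.exists_ne_zero_of_sum_ne_zero hm
    have hab' : a + b = m := Finset.HasAntidiagonal.mem_antidiagonal.mp hab
    have ha : a ∈ Γ := hf a (left_ne_zero_of_mul hne)
    have hb : b ∈ Γ := hg b (right_ne_zero_of_mul hne)
    rw [← hab']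
    exact Γ.add_mem ha hb
  one_mem' := by
    intro m hm
    rw [PowerSeries.coeff_one] at hm
    by_cases h : m = 0
    · rw [h]; exact Γ.zero_mem
    · rw [if_neg h] at hm; exact absurd rfl hm
  add_mem' := by
    intro f g hf hg m hm
    rw [map_add] at hm
    by_cases h : PowerSeries.coeff m f = 0
    · rw [h, zero_add] at hm; exact hg m hm
    · exact hf m h
  zero_mem' := by
    intro m hm
    exact absurd (map_zero _) hm
  algebraMap_mem' := by
    intro c m hm
    by_cases h : m = 0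
    · rw [h]; exact Γ.zero_mem
    · exfalso
      apply hm
      rw [PowerSeries.algebraMap_apply, PowerSeries.coeff_C, if_neg h]

theorem mem_sgA {f : PowerSeries k} :
    f ∈ sgA k Γ ↔ ∀ m, PowerSeries.coeff m f ≠ 0 → m ∈ Γ := Iff.rfl

theorem C_memG (c : k) : PowerSeries.C c ∈ sgA k Γ := by
  intro m hm
  by_cases h : m = 0
  · rw [h]; exact Γ.zero_mem
  · exact absurd (by rw [PowerSeries.coeff_C, if_neg h]) hm

theorem X_pow_memG {γ : ℕ} (hγ : γ ∈ Γ) : (PowerSeries.X : PowerSeries k) ^ γ ∈ sgA k Γ := by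
  intro m hm
  rw [PowerSeries.coeff_X_pow] at hm
  by_cases h : m = γ
  · rw [h]; exact hγ
  · rw [if_neg h] at hm; exact absurd rfl hm

theorem cub_le (c : ℕ) (hc : ∀ m, c ≤ m → m ∈ Γ) : cubA k c ≤ sgA k Γ := by
  intro f hf m hm
  rcases hf m hm with h | h
  · rw [h]; exact Γ.zero_mem
  · exact hc m h

theorem X_pow_mul_memG (c : ℕ) (hc : ∀ m, c ≤ m → m ∈ Γ) (g : PowerSeries k) {m : ℕ}
    (hm : c ≤ m) : (PowerSeries.X : PowerSeries k) ^ m * g ∈ sgA k Γ :=
  cub_le k Γ c hc (X_pow_mul_mem k c g hm)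

theorem unit_of_const_zero (c : ℕ) (hc : ∀ m, c ≤ m → m ∈ Γ) {w : PowerSeries k}
    (hw : w ∈ sgA k Γ) (hw0 : PowerSeries.constantCoeff w = 0) :
    ∃ v ∈ sgA k Γ, (1 - w) * v = 1 := by
  obtain ⟨w', hw'⟩ : PowerSeries.X ∣ w := PowerSeries.X_dvd_iff.mpr hw0
  have hpow : w ^ (c + 1) = PowerSeries.X ^ (c + 1) * w' ^ (c + 1) := by
    rw [hw', mul_pow]
  have hu : 1 - w ^ (c + 1) ∈ cubA k (c + 1) := by
    rw [hpow]
    exact Subalgebra.sub_mem _ (Subalgebra.one_mem _) (X_pow_mul_mem k (c + 1) _ le_rfl)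
  have hu0 : PowerSeries.constantCoeff (1 - w ^ (c + 1)) ≠ 0 := by
    rw [map_sub, map_one, map_pow, hw0, zero_pow (Nat.succ_ne_zero c), sub_zero]
    exact one_ne_zero
  have hinv := inv_mem k (c + 1) hu hu0
  refine ⟨(∑ i ∈ Finset.range (c + 1), w ^ i) * (1 - w ^ (c + 1))⁻¹, ?_, ?_⟩
  · refine Subalgebra.mul_mem _ (Subalgebra.sum_mem _ (fun i _ => Subalgebra.pow_mem _ hw i)) ?_
    exact cub_le k Γ (c + 1) (fun m hm => hc m (by omega)) hinv
  · rw [← mul_assoc, mul_neg_geom_sum]
    exact PowerSeries.mul_inv_cancel _ hu0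

/-- Type synonym for the semigroup ring. -/
def RG : Type u := ↥(sgA k Γ)

noncomputable instance instCommRingRG : CommRing (RG k Γ) :=
  inferInstanceAs (CommRing ↥(sgA k Γ))

noncomputable instance instAlgebraRG : Algebra k (RG k Γ) :=
  inferInstanceAs (Algebra k ↥(sgA k Γ))

noncomputable instance instModuleRG : Module (RG k Γ) (PowerSeries k) :=
  inferInstanceAs (Module ↥(sgA k Γ) (PowerSeries k))

instance instTowerRG : IsScalarTower k (RG k Γ) (PowerSeries k) :=
  inferInstanceAs (IsScalarTower k ↥(sgA k Γ) (PowerSeries k))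

theorem valG_mul (a b : RG k Γ) : (a * b).1 = a.1 * b.1 := rfl
theorem valG_add (a b : RG k Γ) : (a + b).1 = a.1 + b.1 := rfl
theorem valG_sub (a b : RG k Γ) : (a - b).1 = a.1 - b.1 := rfl
theorem valG_neg (a : RG k Γ) : (-a).1 = -a.1 := rfl
theorem valG_zero : (0 : RG k Γ).1 = 0 := rfl
theorem valG_one : (1 : RG k Γ).1 = 1 := rfl
theorem smul_defG (a : RG k Γ) (x : PowerSeries k) : a • x = a.1 * x := rfl

theorem valG_algebraMap (c : k) : (algebraMap k (RG k Γ) c).1 = PowerSeries.C c := by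
  show ((algebraMap k ↥(sgA k Γ) c : ↥(sgA k Γ)) : PowerSeries k) = _
  rw [Subalgebra.coe_algebraMap, PowerSeries.algebraMap_apply]
  rfl

/-- constructor for elements of `RG`. -/
noncomputable def mkRG (f : PowerSeries k) (hf : f ∈ sgA k Γ) : RG k Γ := Subtype.mk f hf

theorem val_mkRG (f : PowerSeries k) (hf : f ∈ sgA k Γ) : (mkRG k Γ f hf).1 = f := rfl

/-- every residue field of the semigroup ring is `k` (given a conductor bound). -/
theorem hresG (c : ℕ) (hc : ∀ m, c ≤ m → m ∈ Γ) (I : Ideal (RG k Γ)) (hI : I.IsMaximal)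
    (a : RG k Γ) : ∃ c' : k, a - algebraMap k (RG k Γ) c' ∈ I := by
  refine ⟨PowerSeries.constantCoeff a.1, ?_⟩
  obtain ⟨b, hb⟩ : ∃ b, b = a - algebraMap k (RG k Γ) (PowerSeries.constantCoeff a.1) :=
    ⟨_, rfl⟩
  rw [← hb]
  have hb0 : PowerSeries.constantCoeff b.1 = 0 := by
    rw [hb, valG_sub, valG_algebraMap, map_sub, PowerSeries.constantCoeff_C, sub_self]
  by_contra hbI
  obtain ⟨y, i, hi, hyi⟩ := hI.exists_inv hbI
  have h : i.1 = 1 - (y * b).1 := by
    have := congrArg Subtype.val hyi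
    rw [valG_add, valG_one] at this
    rw [← this]
    ring
  have hw0 : PowerSeries.constantCoeff (y * b).1 = 0 := by
    rw [valG_mul, map_mul, hb0, mul_zero]
  obtain ⟨v, hv, hv1⟩ := unit_of_const_zero k Γ c hc (y * b).2 hw0
  have h1 : i * mkRG k Γ v hv = 1 := by
    apply Subtype.ext
    rw [valG_mul, valG_one, val_mkRG, h]
    exact hv1
  have : (1 : RG k Γ) ∈ I := by
    rw [← h1]
    exact I.mul_mem_right _ hi
  exact hI.ne_top ((Ideal.eq_top_iff_one I).mpr this)

/-- `P` is the monomial submodule with exponent set `Γ'`. -/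
def IsMonoG (P : Submodule (RG k Γ) (PowerSeries k)) (Γ' : Set ℕ) : Prop :=
  ∀ f : PowerSeries k, f ∈ P ↔ ∀ l, PowerSeries.coeff l f ≠ 0 → l ∈ Γ'

/-- length of a quotient of monomial modules = number of missing exponents. -/
theorem monoLenG (c : ℕ) (hc : ∀ m, c ≤ m → m ∈ Γ)
    {P Q : Submodule (RG k Γ) (PowerSeries k)} {Γ₁ Γ₂ : Set ℕ}
    (hP : IsMonoG k Γ P Γ₁) (hQ : IsMonoG k Γ Q Γ₂)
    (D : Finset ℕ) (hD : ∀ l, l ∈ D ↔ l ∈ Γ₁ ∧ l ∉ Γ₂) :
    Module.length (RG k Γ) (↥P ⧸ Q.submoduleOf P) = (D.card : ℕ∞) := by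
  let cc : ↥P →ₗ[k] (↥D → k) :=
    { toFun := fun f d => PowerSeries.coeff (d : ℕ) (f : PowerSeries k)
      map_add' := fun f g => by
        funext d
        show PowerSeries.coeff (d : ℕ) ((f : PowerSeries k) + (g : PowerSeries k)) = _
        rw [map_add]
        rfl
      map_smul' := fun r f => by
        funext d
        show PowerSeries.coeff (d : ℕ) (r • (f : PowerSeries k)) = _
        rw [map_smul]
        rfl }
  have hcs : Function.Surjective cc := by
    intro g
    let f : PowerSeries k := PowerSeries.mk (fun l => if h : l ∈ D then g ⟨l, h⟩ else 0)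
    have hf : f ∈ P := by
      rw [hP]
      intro l hl
      rw [PowerSeries.coeff_mk] at hl
      by_cases h : l ∈ D
      · exact ((hD l).mp h).1
      · rw [dif_neg h] at hl; exact absurd rfl hl
    refine ⟨⟨f, hf⟩, ?_⟩
    funext d
    show PowerSeries.coeff (d : ℕ) f = g d
    rw [PowerSeries.coeff_mk, dif_pos d.2]
  have hker : LinearMap.ker cc = (Q.submoduleOf P).restrictScalars k := by
    ext f
    rw [LinearMap.mem_ker, Submodule.restrictScalars_mem]
    show cc f = 0 ↔ (f : PowerSeries k) ∈ Q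
    constructor
    · intro h
      rw [hQ]
      intro l hl
      by_contra hl2
      have hlD : l ∈ D := (hD l).mpr ⟨(hP f).mp f.2 l hl, hl2⟩
      exact hl (congrFun h ⟨l, hlD⟩)
    · intro hf
      funext d
      by_contra h
      exact ((hD d).mp d.2).2 ((hQ f).mp hf d h)
  have e : (↥P ⧸ Q.submoduleOf P) ≃ₗ[k] (↥D → k) :=
    ((Submodule.Quotient.restrictScalarsEquiv k (Q.submoduleOf P)).symm.trans
      (Submodule.quotEquivOfEq _ _ hker.symm)).trans (cc.quotKerEquivOfSurjective hcs)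
  haveI : Module.Finite k (↥P ⧸ Q.submoduleOf P) := Module.Finite.equiv e.symm
  rw [length_eq_finrank' (hresG k Γ c hc) (↥P ⧸ Q.submoduleOf P), e.finrank_eq,
    Module.finrank_fintype_fun_eq_card, Fintype.card_coe]

theorem isMonoG_top : IsMonoG k Γ ⊤ Set.univ :=
  fun _ => ⟨fun _ l _ => Set.mem_univ l, fun _ => Submodule.mem_top⟩

end SG

end Groth.Agent.Helper22.TF
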