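import Groth.Agent.Lib.Helper22.TG1

/-!
# TG2: Ext¹ of a two-generated monomial module over a semigroup ring (helper22)

For `M = ⟨1, X^e⟩ ⊂ k[[X]]` over `A = k[[Γ]]`, `N ⊂ k[[X]]` any submodule and `c₀` with
`c₀, c₀ + e ∈ Γ`:  `length Ext¹(M, N) = length (T / P₂)` where
`T = {y | y·I ⊆ X^c₀ N}` (`I = {b ∈ A | b X^e ∈ A}`) and `P₂ = X^c₀ (N + X^e N)`.
-/

open Classical

universe u

namespace Groth.Agent.Helper22.TF

section TwoGen

variable (k : Type u) [Field k] (Γ : AddSubmonoid ℕ) (e c₀ : ℕ)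

/-- the presentation `A² → k[[X]]`, `(a, b) ↦ a + b X^e`. -/
noncomputable def π₂ : (RG k Γ × RG k Γ) →ₗ[RG k Γ] PowerSeries k :=
  (LinearMap.toSpanSingleton (RG k Γ) (PowerSeries k) 1).coprod
    (LinearMap.toSpanSingleton (RG k Γ) (PowerSeries k) (PowerSeries.X ^ e))

theorem π₂_apply (v : RG k Γ × RG k Γ) :
    π₂ k Γ e v = v.1.1 + v.2.1 * PowerSeries.X ^ e := by
  rw [π₂, LinearMap.coprod_apply, LinearMap.toSpanSingleton_apply,
    LinearMap.toSpanSingleton_apply, smul_defG, smul_defG, mul_one]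

theorem range_π₂ : LinearMap.range (π₂ k Γ e) =
    Submodule.span (RG k Γ) ({1, PowerSeries.X ^ e} : Set (PowerSeries k)) := by
  ext z
  rw [LinearMap.mem_range, Submodule.mem_span_pair]
  constructor
  · rintro ⟨v, hv⟩
    refine ⟨v.1, v.2, ?_⟩
    rw [← hv, π₂, LinearMap.coprod_apply, LinearMap.toSpanSingleton_apply,
      LinearMap.toSpanSingleton_apply]
  · rintro ⟨a, b, hab⟩
    refine ⟨(a, b), ?_⟩
    rw [← hab, π₂, LinearMap.coprod_apply, LinearMap.toSpanSingleton_apply,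
      LinearMap.toSpanSingleton_apply]

/-- the syzygy attached to `b ∈ I`. -/
noncomputable def kb (b : PowerSeries k) (hb : b ∈ sgA k Γ)
    (hbe : b * PowerSeries.X ^ e ∈ sgA k Γ) : RG k Γ × RG k Γ :=
  (mkRG k Γ (-(b * PowerSeries.X ^ e)) ((sgA k Γ).neg_mem hbe), mkRG k Γ b hb)

theorem π₂_kb (b : PowerSeries k) (hb : b ∈ sgA k Γ) (hbe : b * PowerSeries.X ^ e ∈ sgA k Γ) :
    π₂ k Γ e (kb k Γ e b hb hbe) = 0 := by
  rw [π₂_apply]
  show -(b * PowerSeries.X ^ e) + b * PowerSeries.X ^ e = 0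
  ring

/-- `b X^e ∈ A` for the second coordinate of a syzygy. -/
theorem snd_mem {v : RG k Γ × RG k Γ} (hv : π₂ k Γ e v = 0) :
    v.2.1 * PowerSeries.X ^ e ∈ sgA k Γ := by
  rw [π₂_apply] at hv
  have : v.2.1 * PowerSeries.X ^ e = -v.1.1 := eq_neg_of_add_eq_zero_right hv
  rw [this]
  exact (sgA k Γ).neg_mem v.1.2

variable (hc₀ : c₀ ∈ Γ) (hc₀e : c₀ + e ∈ Γ)
include hc₀ hc₀e

omit hc₀ in
theorem x0e_mem : (PowerSeries.X : PowerSeries k) ^ c₀ * PowerSeries.X ^ e ∈ sgA k Γ := by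
  rw [← pow_add]
  exact X_pow_memG k Γ hc₀e

/-- the basic syzygy `(-X^{c₀+e}, X^{c₀})`. -/
noncomputable def kap0 : RG k Γ × RG k Γ :=
  kb k Γ e (PowerSeries.X ^ c₀) (X_pow_memG k Γ hc₀) (x0e_mem k Γ e c₀ hc₀e)

theorem smul_eq_kap0 {v : RG k Γ × RG k Γ} (hv : π₂ k Γ e v = 0) :
    mkRG k Γ (PowerSeries.X ^ c₀) (X_pow_memG k Γ hc₀) • v = v.2 • kap0 k Γ e c₀ hc₀ hc₀e := by
  rw [π₂_apply] at hv
  have h1 : v.1.1 = -(v.2.1 * PowerSeries.X ^ e) := eq_neg_of_add_eq_zero_left hv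
  apply Prod.ext
  · apply Subtype.ext
    show PowerSeries.X ^ c₀ * v.1.1 = v.2.1 * (-(PowerSeries.X ^ c₀ * PowerSeries.X ^ e))
    rw [h1]
    ring
  · apply Subtype.ext
    show PowerSeries.X ^ c₀ * v.2.1 = v.2.1 * PowerSeries.X ^ c₀
    ring

variable (N : Submodule (RG k Γ) (PowerSeries k))

/-- `kap0` in the kernel. -/
noncomputable def kap0K : ↥(LinearMap.ker (π₂ k Γ e)) :=
  ⟨kap0 k Γ e c₀ hc₀ hc₀e, LinearMap.mem_ker.mpr (π₂_kb k Γ e _ _ _)⟩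

theorem psi_formula₂ (ψ : ↥(LinearMap.ker (π₂ k Γ e)) →ₗ[RG k Γ] ↥N)
    (v : ↥(LinearMap.ker (π₂ k Γ e))) :
    PowerSeries.X ^ c₀ * ((ψ v : ↥N) : PowerSeries k) =
      v.1.2.1 * ((ψ (kap0K k Γ e c₀ hc₀ hc₀e) : ↥N) : PowerSeries k) := by
  have hv : π₂ k Γ e v.1 = 0 := LinearMap.mem_ker.mp v.2
  have hK : mkRG k Γ (PowerSeries.X ^ c₀) (X_pow_memG k Γ hc₀) • v =
      v.1.2 • kap0K k Γ e c₀ hc₀ hc₀e :=
    Subtype.ext (smul_eq_kap0 k Γ e c₀ hc₀ hc₀e hv)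
  have h1 := congrArg (fun w => ((ψ w : ↥N) : PowerSeries k)) hK
  simp only [map_smul, Submodule.coe_smul, smul_defG, val_mkRG] at h1
  exact h1

/-- `T = {y | y · I ⊆ X^c₀ N}`. -/
def TT : Submodule (RG k Γ) (PowerSeries k) where
  carrier := {y | ∀ b : PowerSeries k, b ∈ sgA k Γ → b * PowerSeries.X ^ e ∈ sgA k Γ →
    ∃ z ∈ N, y * b = PowerSeries.X ^ c₀ * z}
  add_mem' := by
    intro y y' hy hy' b hb hbe
    obtain ⟨z, hz, h1⟩ := hy b hb hbe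
    obtain ⟨z', hz', h2⟩ := hy' b hb hbe
    exact ⟨z + z', N.add_mem hz hz', by rw [add_mul, h1, h2, mul_add]⟩
  zero_mem' := fun b _ _ => ⟨0, N.zero_mem, by rw [zero_mul, mul_zero]⟩
  smul_mem' := by
    intro a y hy b hb hbe
    obtain ⟨z, hz, h1⟩ := hy b hb hbe
    refine ⟨a • z, N.smul_mem a hz, ?_⟩
    rw [smul_defG, smul_defG, mul_assoc, h1]
    ring

omit hc₀ hc₀e in
theorem mem_TT {y : PowerSeries k} : y ∈ TT k Γ e c₀ N ↔
    ∀ b : PowerSeries k, b ∈ sgA k Γ → b * PowerSeries.X ^ e ∈ sgA k Γ →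
      ∃ z ∈ N, y * b = PowerSeries.X ^ c₀ * z := Iff.rfl

theorem theta_mem₂ (ψ : ↥(LinearMap.ker (π₂ k Γ e)) →ₗ[RG k Γ] ↥N) :
    ((ψ (kap0K k Γ e c₀ hc₀ hc₀e) : ↥N) : PowerSeries k) ∈ TT k Γ e c₀ N := by
  rw [mem_TT]
  intro b hb hbe
  refine ⟨_, (ψ ⟨kb k Γ e b hb hbe, LinearMap.mem_ker.mpr (π₂_kb k Γ e b hb hbe)⟩).2, ?_⟩
  rw [psi_formula₂ k Γ e c₀ hc₀ hc₀e N ψ, mul_comm]
  rfl

/-- `ψ ↦ ψ(κ₀)`. -/
noncomputable def Theta₂ : (↥(LinearMap.ker (π₂ k Γ e)) →ₗ[RG k Γ] ↥N) →ₗ[RG k Γ]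
    ↥(TT k Γ e c₀ N) where
  toFun ψ := ⟨((ψ (kap0K k Γ e c₀ hc₀ hc₀e) : ↥N) : PowerSeries k),
    theta_mem₂ k Γ e c₀ hc₀ hc₀e N ψ⟩
  map_add' ψ₁ ψ₂ := by
    apply Subtype.ext
    rfl
  map_smul' a ψ := by
    apply Subtype.ext
    rfl

theorem Theta₂_val (ψ : ↥(LinearMap.ker (π₂ k Γ e)) →ₗ[RG k Γ] ↥N) :
    ((Theta₂ k Γ e c₀ hc₀ hc₀e N ψ : ↥(TT k Γ e c₀ N)) : PowerSeries k) =
      ((ψ (kap0K k Γ e c₀ hc₀ hc₀e) : ↥N) : PowerSeries k) := rfl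

theorem Theta₂_injective : Function.Injective (Theta₂ k Γ e c₀ hc₀ hc₀e N) := by
  intro ψ₁ ψ₂ h
  apply LinearMap.ext
  intro v
  apply Subtype.ext
  apply mul_left_cancel₀ (pow_ne_zero c₀ (PowerSeries.X_ne_zero (R := k)))
  rw [psi_formula₂ k Γ e c₀ hc₀ hc₀e N ψ₁ v, psi_formula₂ k Γ e c₀ hc₀ hc₀e N ψ₂ v,
    ← Theta₂_val k Γ e c₀ hc₀ hc₀e N ψ₁, ← Theta₂_val k Γ e c₀ hc₀ hc₀e N ψ₂, h]

omit hc₀ hc₀e in
theorem TT_low {y : PowerSeries k} (hy : y ∈ TT k Γ e c₀ N) {b : PowerSeries k}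
    (hb : b ∈ sgA k Γ) (hbe : b * PowerSeries.X ^ e ∈ sgA k Γ) :
    (∀ m, m < c₀ → PowerSeries.coeff m (y * b) = 0) ∧ sh c₀ (y * b) ∈ N := by
  obtain ⟨z, hz, h⟩ := hy b hb hbe
  constructor
  · intro m hm
    rw [h, PowerSeries.coeff_X_pow_mul', if_neg (by omega)]
  · rw [h, sh_X_pow_mul]
    exact hz

/-- the inverse of `Theta₂`. -/
noncomputable def psi₂ (y : ↥(TT k Γ e c₀ N)) :
    ↥(LinearMap.ker (π₂ k Γ e)) →ₗ[RG k Γ] ↥N where
  toFun v := ⟨sh c₀ (y.1 * v.1.2.1),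
    (TT_low k Γ e c₀ N y.2 v.1.2.2 (snd_mem k Γ e (LinearMap.mem_ker.mp v.2))).2⟩
  map_add' v v' := by
    apply Subtype.ext
    show sh c₀ (y.1 * (v + v').1.2.1) = sh c₀ (y.1 * v.1.2.1) + sh c₀ (y.1 * v'.1.2.1)
    rw [← sh_add, ← mul_add]
    rfl
  map_smul' a v := by
    apply Subtype.ext
    show sh c₀ (y.1 * (a • v).1.2.1) = a • sh c₀ (y.1 * v.1.2.1)
    have h1 : (a • v).1.2.1 = a.1 * v.1.2.1 := valG_mul k Γ _ _
    rw [h1, smul_defG, mul_left_comm,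
      sh_mul_of_low c₀ (TT_low k Γ e c₀ N y.2 v.1.2.2
        (snd_mem k Γ e (LinearMap.mem_ker.mp v.2))).1]

theorem Theta₂_psi₂ (y : ↥(TT k Γ e c₀ N)) :
    Theta₂ k Γ e c₀ hc₀ hc₀e N (psi₂ k Γ e c₀ N y) = y := by
  apply Subtype.ext
  show sh c₀ (y.1 * PowerSeries.X ^ c₀) = y.1
  rw [mul_comm, sh_X_pow_mul]

theorem Theta₂_surjective : Function.Surjective (Theta₂ k Γ e c₀ hc₀ hc₀e N) :=
  fun y => ⟨psi₂ k Γ e c₀ N y, Theta₂_psi₂ k Γ e c₀ hc₀ hc₀e N y⟩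

omit hc₀ hc₀e in
theorem rho₂_mem (z₁ z₂ : ↥N) :
    PowerSeries.X ^ c₀ * (z₂ : PowerSeries k) - PowerSeries.X ^ (c₀ + e) * (z₁ : PowerSeries k) ∈
      TT k Γ e c₀ N := by
  rw [mem_TT]
  intro b hb hbe
  refine ⟨mkRG k Γ b hb • (z₂ : PowerSeries k) -
    mkRG k Γ (b * PowerSeries.X ^ e) hbe • (z₁ : PowerSeries k),
    N.sub_mem (N.smul_mem _ z₂.2) (N.smul_mem _ z₁.2), ?_⟩
  rw [smul_defG, smul_defG, val_mkRG, val_mkRG, pow_add]
  ring

/-- `(z₁, z₂) ↦ X^c₀ z₂ - X^{c₀+e} z₁`. -/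
noncomputable def rho₂ : (↥N × ↥N) →ₗ[RG k Γ] ↥(TT k Γ e c₀ N) where
  toFun z := ⟨PowerSeries.X ^ c₀ * (z.2 : PowerSeries k) -
    PowerSeries.X ^ (c₀ + e) * (z.1 : PowerSeries k), rho₂_mem k Γ e c₀ N z.1 z.2⟩
  map_add' z z' := by
    apply Subtype.ext
    show PowerSeries.X ^ c₀ * ((z.2 : PowerSeries k) + (z'.2 : PowerSeries k)) -
      PowerSeries.X ^ (c₀ + e) * ((z.1 : PowerSeries k) + (z'.1 : PowerSeries k)) =
      (PowerSeries.X ^ c₀ * (z.2 : PowerSeries k) -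
        PowerSeries.X ^ (c₀ + e) * (z.1 : PowerSeries k)) +
      (PowerSeries.X ^ c₀ * (z'.2 : PowerSeries k) -
        PowerSeries.X ^ (c₀ + e) * (z'.1 : PowerSeries k))
    ring
  map_smul' a z := by
    apply Subtype.ext
    show PowerSeries.X ^ c₀ * (a • (z.2 : PowerSeries k)) -
      PowerSeries.X ^ (c₀ + e) * (a • (z.1 : PowerSeries k)) =
      a • (PowerSeries.X ^ c₀ * (z.2 : PowerSeries k) -
        PowerSeries.X ^ (c₀ + e) * (z.1 : PowerSeries k))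
    rw [smul_defG, smul_defG, smul_defG]
    ring

omit hc₀ hc₀e in
theorem rho₂_val (z : ↥N × ↥N) : ((rho₂ k Γ e c₀ N z : ↥(TT k Γ e c₀ N)) : PowerSeries k) =
    PowerSeries.X ^ c₀ * (z.2 : PowerSeries k) -
      PowerSeries.X ^ (c₀ + e) * (z.1 : PowerSeries k) := rfl

theorem Theta₂_res (g : (RG k Γ × RG k Γ) →ₗ[RG k Γ] ↥N) :
    Theta₂ k Γ e c₀ hc₀ hc₀e N (g.comp (LinearMap.ker (π₂ k Γ e)).subtype) =
      rho₂ k Γ e c₀ N (g (1, 0), g (0, 1)) := by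
  apply Subtype.ext
  rw [rho₂_val]
  show ((g (kap0 k Γ e c₀ hc₀ hc₀e) : ↥N) : PowerSeries k) = _
  have h1 : kap0 k Γ e c₀ hc₀ hc₀e =
      mkRG k Γ (-(PowerSeries.X ^ c₀ * PowerSeries.X ^ e))
        ((sgA k Γ).neg_mem (x0e_mem k Γ e c₀ hc₀e)) • ((1, 0) : RG k Γ × RG k Γ) +
      mkRG k Γ (PowerSeries.X ^ c₀) (X_pow_memG k Γ hc₀) • ((0, 1) : RG k Γ × RG k Γ) := by
    apply Prod.ext
    · show _ = _ * (1 : RG k Γ) + _ * (0 : RG k Γ)
      rw [mul_one, mul_zero, add_zero]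
      rfl
    · show _ = _ * (0 : RG k Γ) + _ * (1 : RG k Γ)
      rw [mul_one, mul_zero, zero_add]
      rfl
  rw [h1, map_add, map_smul, map_smul, Submodule.coe_add, Submodule.coe_smul,
    Submodule.coe_smul, smul_defG, smul_defG, val_mkRG, val_mkRG, pow_add]
  ring

theorem Theta₂_mem_iff (ψ : ↥(LinearMap.ker (π₂ k Γ e)) →ₗ[RG k Γ] ↥N) :
    Theta₂ k Γ e c₀ hc₀ hc₀e N ψ ∈ LinearMap.range (rho₂ k Γ e c₀ N) ↔
    ψ ∈ LinearMap.range
      (LinearMap.lcomp (RG k Γ) ↥N (LinearMap.ker (π₂ k Γ e)).subtype) := by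
  constructor
  · rintro ⟨z, hz⟩
    refine ⟨(LinearMap.toSpanSingleton (RG k Γ) ↥N z.1).coprod
      (LinearMap.toSpanSingleton (RG k Γ) ↥N z.2), ?_⟩
    rw [LinearMap.lcomp_apply']
    apply Theta₂_injective k Γ e c₀ hc₀ hc₀e N
    rw [Theta₂_res, ← hz]
    congr 1
    apply Prod.ext
    · show (LinearMap.toSpanSingleton (RG k Γ) ↥N z.1).coprod
        (LinearMap.toSpanSingleton (RG k Γ) ↥N z.2) (1, 0) = z.1
      rw [LinearMap.coprod_apply, LinearMap.toSpanSingleton_apply,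
        LinearMap.toSpanSingleton_apply, one_smul, zero_smul, add_zero]
    · show (LinearMap.toSpanSingleton (RG k Γ) ↥N z.1).coprod
        (LinearMap.toSpanSingleton (RG k Γ) ↥N z.2) (0, 1) = z.2
      rw [LinearMap.coprod_apply, LinearMap.toSpanSingleton_apply,
        LinearMap.toSpanSingleton_apply, one_smul, zero_smul, zero_add]
  · rintro ⟨g, rfl⟩
    rw [LinearMap.lcomp_apply', Theta₂_res]
    exact LinearMap.mem_range_self _ _

/-- `P₂ = X^c₀ (N + X^e N)`. -/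
def PP : Submodule (RG k Γ) (PowerSeries k) where
  carrier := {y | ∃ z₁ ∈ N, ∃ z₂ ∈ N, y = PowerSeries.X ^ c₀ * z₂ - PowerSeries.X ^ (c₀ + e) * z₁}
  add_mem' := by
    rintro _ _ ⟨z₁, hz₁, z₂, hz₂, rfl⟩ ⟨w₁, hw₁, w₂, hw₂, rfl⟩
    exact ⟨z₁ + w₁, N.add_mem hz₁ hw₁, z₂ + w₂, N.add_mem hz₂ hw₂, by ring⟩
  zero_mem' := ⟨0, N.zero_mem, 0, N.zero_mem, by ring⟩
  smul_mem' := by
    rintro a _ ⟨z₁, hz₁, z₂, hz₂, rfl⟩
    refine ⟨a • z₁, N.smul_mem a hz₁, a • z₂, N.smul_mem a hz₂, ?_⟩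
    rw [smul_defG, smul_defG, smul_defG]
    ring

omit hc₀ hc₀e in
theorem mem_PP {y : PowerSeries k} : y ∈ PP k Γ e c₀ N ↔
    ∃ z₁ ∈ N, ∃ z₂ ∈ N, y = PowerSeries.X ^ c₀ * z₂ - PowerSeries.X ^ (c₀ + e) * z₁ := Iff.rfl

omit hc₀ hc₀e in
theorem range_rho₂ : LinearMap.range (rho₂ k Γ e c₀ N) =
    (PP k Γ e c₀ N).submoduleOf (TT k Γ e c₀ N) := by
  ext y
  rw [LinearMap.mem_range]
  show _ ↔ (y : PowerSeries k) ∈ PP k Γ e c₀ N
  rw [mem_PP]
  constructor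
  · rintro ⟨z, hz⟩
    exact ⟨z.1.1, z.1.2, z.2.1, z.2.2, (congrArg Subtype.val hz).symm⟩
  · rintro ⟨z₁, hz₁, z₂, hz₂, hy⟩
    exact ⟨(⟨z₁, hz₁⟩, ⟨z₂, hz₂⟩), Subtype.ext hy.symm⟩

/-- **The two-generator Ext¹ length formula.** -/
theorem two_gen :
    Module.length (RG k Γ) (CategoryTheory.Abelian.Ext.{u}
        (ModuleCat.of (RG k Γ) ↥(LinearMap.range (π₂ k Γ e))) (ModuleCat.of (RG k Γ) ↥N) 1) =
      Module.length (RG k Γ) (↥(TT k Γ e c₀ N) ⧸ (PP k Γ e c₀ N).submoduleOf (TT k Γ e c₀ N)) := by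
  have h1 := length_ext_one (N := ↥N) (π₂ k Γ e).rangeRestrict
    (LinearMap.surjective_rangeRestrict _)
  rw [LinearMap.ker_rangeRestrict] at h1
  obtain ⟨Φ, hΦdef⟩ : ∃ Φ : (↥(LinearMap.ker (π₂ k Γ e)) →ₗ[RG k Γ] ↥N) →ₗ[RG k Γ]
      (↥(TT k Γ e c₀ N) ⧸ LinearMap.range (rho₂ k Γ e c₀ N)),
      Φ = (LinearMap.range (rho₂ k Γ e c₀ N)).mkQ.comp (Theta₂ k Γ e c₀ hc₀ hc₀e N) :=
    ⟨_, rfl⟩
  have hΦ : Function.Surjective Φ := by
    rw [hΦdef]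
    exact (Submodule.mkQ_surjective _).comp (Theta₂_surjective k Γ e c₀ hc₀ hc₀e N)
  have hker : LinearMap.ker Φ = LinearMap.range
      (LinearMap.lcomp (RG k Γ) ↥N (LinearMap.ker (π₂ k Γ e)).subtype) := by
    ext ψ
    rw [hΦdef, LinearMap.mem_ker, LinearMap.comp_apply, Submodule.mkQ_apply,
      Submodule.Quotient.mk_eq_zero]
    exact Theta₂_mem_iff k Γ e c₀ hc₀ hc₀e N ψ
  have e2 := Φ.quotKerEquivOfSurjective hΦ
  have h2 := ((Submodule.quotEquivOfEq _ _ hker.symm).trans e2).length_eq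
  have h3 := (Submodule.quotEquivOfEq _ _ (range_rho₂ k Γ e c₀ N)).length_eq
  rw [h1, h2, h3]

omit hc₀ hc₀e in
theorem isMono_TT {Γ_N : Set ℕ} (hN : IsMonoG k Γ N Γ_N) :
    IsMonoG k Γ (TT k Γ e c₀ N)
      {l | ∀ γ, γ ∈ Γ → γ + e ∈ Γ → c₀ ≤ l + γ ∧ l + γ - c₀ ∈ Γ_N} := by
  intro y
  rw [mem_TT]
  constructor
  · intro hy l hl γ hγ hγe
    obtain ⟨z, hz, h⟩ := hy (PowerSeries.X ^ γ) (X_pow_memG k Γ hγ)
      (by rw [← pow_add]; exact X_pow_memG k Γ hγe)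
    have h1 : PowerSeries.coeff (l + γ) (y * PowerSeries.X ^ γ) ≠ 0 := by
      rw [PowerSeries.coeff_mul_X_pow]
      exact hl
    rw [h, PowerSeries.coeff_X_pow_mul'] at h1
    split_ifs at h1 with h2
    · exact ⟨h2, (hN z).mp hz _ h1⟩
    · exact absurd rfl h1
  · intro hy b hb hbe
    have key : ∀ m, PowerSeries.coeff m (y * b) ≠ 0 → c₀ ≤ m ∧ m - c₀ ∈ Γ_N := by
      intro m hm
      rw [PowerSeries.coeff_mul] at hm
      obtain ⟨⟨l, γ⟩, hlγ, hne⟩ := Finset.exists_ne_zero_of_sum_ne_zero hm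
      have hlγ' : l + γ = m := Finset.HasAntidiagonal.mem_antidiagonal.mp hlγ
      have hl : PowerSeries.coeff l y ≠ 0 := left_ne_zero_of_mul hne
      have hγ : PowerSeries.coeff γ b ≠ 0 := right_ne_zero_of_mul hne
      have hγe : PowerSeries.coeff (γ + e) (b * PowerSeries.X ^ e) ≠ 0 := by
        rw [PowerSeries.coeff_mul_X_pow]
        exact hγ
      have := hy l hl γ (hb γ hγ) (hbe _ hγe)
      rw [hlγ'] at this
      exact this
    have hlow : ∀ m, m < c₀ → PowerSeries.coeff m (y * b) = 0 := by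
      intro m hm
      by_contra h
      have := (key m h).1
      omega
    refine ⟨sh c₀ (y * b), ?_, (X_pow_mul_sh c₀ hlow).symm⟩
    rw [hN]
    intro l hl
    rw [coeff_sh] at hl
    have := (key _ hl).2
    rwa [Nat.add_sub_cancel] at this

omit hc₀ hc₀e in
theorem isMono_PP {Γ_N : Set ℕ} (hN : IsMonoG k Γ N Γ_N) :
    IsMonoG k Γ (PP k Γ e c₀ N)
      {l | c₀ ≤ l ∧ (l - c₀ ∈ Γ_N ∨ (e ≤ l - c₀ ∧ l - c₀ - e ∈ Γ_N))} := by
  intro y
  rw [mem_PP]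
  constructor
  · rintro ⟨z₁, hz₁, z₂, hz₂, rfl⟩ l hl
    rw [map_sub] at hl
    by_cases h2 : PowerSeries.coeff l (PowerSeries.X ^ c₀ * z₂) = 0
    · rw [h2, zero_sub, neg_ne_zero, PowerSeries.coeff_X_pow_mul'] at hl
      split_ifs at hl with h
      · have := (hN z₁).mp hz₁ _ hl
        refine ⟨by omega, Or.inr ⟨by omega, ?_⟩⟩
        rwa [Nat.sub_sub]
      · exact absurd rfl hl
    · rw [PowerSeries.coeff_X_pow_mul'] at h2
      split_ifs at h2 with h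
      · exact ⟨h, Or.inl ((hN z₂).mp hz₂ _ h2)⟩
      · exact absurd rfl h2
  · intro hy
    let z₂ : PowerSeries k :=
      PowerSeries.mk (fun l' => if l' ∈ Γ_N then PowerSeries.coeff (l' + c₀) y else 0)
    let z₁ : PowerSeries k :=
      PowerSeries.mk (fun l' => if l' + e ∈ Γ_N then 0 else -PowerSeries.coeff (l' + e + c₀) y)
    have hz₂ : z₂ ∈ N := by
      rw [hN]
      intro l hl
      rw [PowerSeries.coeff_mk] at hl
      by_contra h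
      rw [if_neg h] at hl
      exact hl rfl
    have hz₁ : z₁ ∈ N := by
      rw [hN]
      intro l hl
      rw [PowerSeries.coeff_mk] at hl
      by_cases h : l + e ∈ Γ_N
      · rw [if_pos h] at hl; exact absurd rfl hl
      · rw [if_neg h, neg_ne_zero] at hl
        obtain ⟨_, h3 | ⟨_, h3⟩⟩ := hy _ hl
        · rw [Nat.add_sub_cancel] at h3; exact absurd h3 h
        · rw [Nat.add_sub_cancel, Nat.add_sub_cancel] at h3; exact h3
    refine ⟨z₁, hz₁, z₂, hz₂, ?_⟩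
    apply PowerSeries.ext
    intro l
    rw [map_sub, PowerSeries.coeff_X_pow_mul', PowerSeries.coeff_X_pow_mul']
    by_cases hl : c₀ ≤ l
    · rw [if_pos hl, PowerSeries.coeff_mk]
      by_cases hl' : l - c₀ ∈ Γ_N
      · rw [if_pos hl', Nat.sub_add_cancel hl]
        by_cases hle : c₀ + e ≤ l
        · rw [if_pos hle, PowerSeries.coeff_mk, if_pos, sub_zero]
          have : l - (c₀ + e) + e = l - c₀ := by omega
          rw [this]; exact hl'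
        · rw [if_neg hle, sub_zero]
      · rw [if_neg hl']
        by_cases hle : c₀ + e ≤ l
        · rw [if_pos hle, PowerSeries.coeff_mk, if_neg, zero_sub, neg_neg]
          · have : l - (c₀ + e) + e + c₀ = l := by omega
            rw [this]
          · have : l - (c₀ + e) + e = l - c₀ := by omega
            rw [this]; exact hl'
        · rw [if_neg hle, sub_zero]
          by_contra hne
          obtain ⟨_, h3 | ⟨h3, _⟩⟩ := hy l hne
          · exact hl' h3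
          · omega
    · rw [if_neg hl, if_neg (by omega), sub_zero]
      by_contra hne
      have := (hy l hne).1
      omega

omit hc₀ hc₀e in
theorem isMono_span2 : IsMonoG k Γ (LinearMap.range (π₂ k Γ e))
    {l | l ∈ Γ ∨ (e ≤ l ∧ l - e ∈ Γ)} := by
  intro f
  constructor
  · rintro ⟨v, rfl⟩ l hl
    rw [π₂_apply, map_add] at hl
    by_cases h1 : PowerSeries.coeff l v.1.1 = 0
    · rw [h1, zero_add, PowerSeries.coeff_mul_X_pow'] at hl
      split_ifs at hl with h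
      · exact Or.inr ⟨h, v.2.2 _ hl⟩
      · exact absurd rfl hl
    · exact Or.inl (v.1.2 l h1)
  · intro hf
    let a : PowerSeries k :=
      PowerSeries.mk (fun l => if l ∈ Γ then PowerSeries.coeff l f else 0)
    let b : PowerSeries k :=
      PowerSeries.mk (fun l => if l + e ∈ Γ then 0 else PowerSeries.coeff (l + e) f)
    have ha : a ∈ sgA k Γ := by
      intro l hl
      rw [PowerSeries.coeff_mk] at hl
      by_contra h
      rw [if_neg h] at hl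
      exact hl rfl
    have hb : b ∈ sgA k Γ := by
      intro l hl
      rw [PowerSeries.coeff_mk] at hl
      by_cases h : l + e ∈ Γ
      · rw [if_pos h] at hl; exact absurd rfl hl
      · rw [if_neg h] at hl
        rcases hf _ hl with h3 | ⟨_, h3⟩
        · exact absurd h3 h
        · rwa [Nat.add_sub_cancel] at h3
    refine ⟨(mkRG k Γ a ha, mkRG k Γ b hb), ?_⟩
    rw [π₂_apply]
    show a + b * PowerSeries.X ^ e = f
    apply PowerSeries.ext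
    intro l
    rw [map_add, PowerSeries.coeff_mul_X_pow', PowerSeries.coeff_mk]
    by_cases hl : l ∈ Γ
    · rw [if_pos hl]
      by_cases hle : e ≤ l
      · rw [if_pos hle, PowerSeries.coeff_mk, if_pos, add_zero]
        rw [Nat.sub_add_cancel hle]; exact hl
      · rw [if_neg hle, add_zero]
    · rw [if_neg hl, zero_add]
      by_cases hle : e ≤ l
      · rw [if_pos hle, PowerSeries.coeff_mk, if_neg, Nat.sub_add_cancel hle]
        rw [Nat.sub_add_cancel hle]; exact hl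
      · rw [if_neg hle]
        by_contra hne
        rcases hf l (fun h => hne h.symm) with h3 | ⟨h3, _⟩
        · exact hl h3
        · exact hle h3

end TwoGen

end Groth.Agent.Helper22.TF
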