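import Groth.Agent.Lib.Helper22.TG2

/-!
# TG3: Ext¹ between rank-one modules over `k[[t², t^{2δ+1}]]` (helper22)
-/

open Classical

universe u

namespace Groth.Agent.Helper22.TF

section A2d

theorem mem_closure_2_odd (δ m : ℕ) :
    m ∈ AddSubmonoid.closure ({2, 2 * δ + 1} : Set ℕ) ↔ (m % 2 = 0 ∨ 2 * δ + 1 ≤ m) := by
  rw [AddSubmonoid.mem_closure_pair]
  constructor
  · rintro ⟨a, b, h⟩
    rw [smul_eq_mul, smul_eq_mul] at h
    rcases Nat.eq_zero_or_pos b with hb | hb
    · subst hb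
      left
      omega
    · right
      have := Nat.le_mul_of_pos_left (2 * δ + 1) hb
      omega
  · intro h
    by_cases hm : m % 2 = 0
    · refine ⟨m / 2, 0, ?_⟩
      rw [smul_eq_mul, zero_smul]
      omega
    · have h2 : 2 * δ + 1 ≤ m := by omega
      refine ⟨(m - (2 * δ + 1)) / 2, 1, ?_⟩
      rw [smul_eq_mul, one_smul]
      omega

variable (k : Type u) [Field k]

/-- S15030 in `RG`-form. -/
theorem key30 (δ : ℕ) (i j : ℕ) (hi : i ≤ δ) (hj : j ≤ δ) :
    Module.length (RG k (AddSubmonoid.closure ({2, 2 * δ + 1} : Set ℕ)))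
      (CategoryTheory.Abelian.Ext.{u}
        (ModuleCat.of (RG k (AddSubmonoid.closure ({2, 2 * δ + 1} : Set ℕ)))
          ↥(Submodule.span (RG k (AddSubmonoid.closure ({2, 2 * δ + 1} : Set ℕ)))
            ({1, (PowerSeries.X : PowerSeries k) ^ (2 * δ + 1 - 2 * i)} : Set (PowerSeries k))))
        (ModuleCat.of (RG k (AddSubmonoid.closure ({2, 2 * δ + 1} : Set ℕ)))
          ↥(Submodule.span (RG k (AddSubmonoid.closure ({2, 2 * δ + 1} : Set ℕ)))
            ({1, (PowerSeries.X : PowerSeries k) ^ (2 * δ + 1 - 2 * j)} : Set (PowerSeries k))))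
        1) = ((2 * min i j : ℕ) : ℕ∞) := by
  obtain ⟨Γ, hΓdef⟩ : ∃ Γ : AddSubmonoid ℕ, Γ = AddSubmonoid.closure ({2, 2 * δ + 1} : Set ℕ) :=
    ⟨_, rfl⟩
  rw [← hΓdef]
  have hΓ : ∀ m, m ∈ Γ ↔ (m % 2 = 0 ∨ 2 * δ + 1 ≤ m) := by
    intro m
    rw [hΓdef]
    exact mem_closure_2_odd δ m
  have hc : ∀ m, 2 * δ + 1 ≤ m → m ∈ Γ := fun m hm => (hΓ m).mpr (Or.inr hm)
  have hc₀ : 2 * i ∈ Γ := (hΓ _).mpr (Or.inl (by omega))
  have hc₀e : 2 * i + (2 * δ + 1 - 2 * i) ∈ Γ := (hΓ _).mpr (Or.inr (by omega))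
  rw [← range_π₂, ← range_π₂]
  have hN := isMono_span2 k Γ (2 * δ + 1 - 2 * j)
  obtain ⟨m, hm⟩ : ∃ m, m = min i j := ⟨_, rfl⟩
  have hm1 : m ≤ i := by omega
  have hm2 : m ≤ j := by omega
  have hm3 : m = i ∨ m = j := by omega
  rw [two_gen k Γ (2 * δ + 1 - 2 * i) (2 * i) hc₀ hc₀e,
    monoLenG k Γ (2 * δ + 1) hc
      (isMono_TT k Γ (2 * δ + 1 - 2 * i) (2 * i) _ hN)
      (isMono_PP k Γ (2 * δ + 1 - 2 * i) (2 * i) _ hN)
      (Finset.image (fun t => 2 * (i - m) + 2 * t) (Finset.range m) ∪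
        Finset.image (fun t => (2 * δ + 1 - 2 * j) + 2 * t) (Finset.range m)) ?_]
  · rw [Finset.card_union_of_disjoint, Finset.card_image_of_injective,
      Finset.card_image_of_injective, Finset.card_range, ← hm, two_mul]
    · intro a b hab
      simp only at hab
      omega
    · intro a b hab
      simp only at hab
      omega
    · rw [Finset.disjoint_left]
      intro l h1 h2
      simp only [Finset.mem_image, Finset.mem_range] at h1 h2
      obtain ⟨t, _, ht⟩ := h1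
      obtain ⟨t', _, ht'⟩ := h2
      omega
  · intro l
    simp only [Finset.mem_union, Finset.mem_image, Finset.mem_range, Set.mem_setOf_eq, hΓ]
    constructor
    · rintro (⟨t, ht, rfl⟩ | ⟨t, ht, rfl⟩)
      · refine ⟨fun γ h1 h2 => ?_, fun h => ?_⟩
        · omega
        · omega
      · refine ⟨fun γ h1 h2 => ?_, fun h => ?_⟩
        · omega
        · omega
    · rintro ⟨h1, h2⟩
      have hA := h1 (2 * i) (Or.inl (by omega)) (Or.inr (by omega))
      have hB := h1 (2 * δ + 1) (Or.inr le_rfl) (Or.inl (by omega))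
      by_cases hpar : l % 2 = 0
      · left
        refine ⟨(l - 2 * (i - m)) / 2, ?_, ?_⟩
        · omega
        · omega
      · right
        refine ⟨(l - (2 * δ + 1 - 2 * j)) / 2, ?_, ?_⟩
        · omega
        · omega

end A2d

end Groth.Agent.Helper22.TF
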