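import Groth.Agent.Lib.Helper22.TG3

/-!
# TG3f: S15030 in subalgebra form (helper22)
-/

universe u

open CategoryTheory

namespace Groth.Agent.Helper22.TFfin

theorem s15030 (k : Type u) [Field k] (δ : ℕ) (A : Subalgebra k (PowerSeries k))
    (hmono : ∀ f : PowerSeries k, f ∈ A ↔ ∀ n : ℕ, PowerSeries.coeff n f ≠ 0 →
      n ∈ AddSubmonoid.closure ({2, 2 * δ + 1} : Set ℕ)) (i j : ℕ) (hi : i ≤ δ) (hj : j ≤ δ) :
    Module.length ↥A (Abelian.Ext (ModuleCat.of ↥A ↥(Submodule.span ↥A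
      ({1, (PowerSeries.X : PowerSeries k) ^ (2 * δ + 1 - 2 * i)} : Set (PowerSeries k))))
      (ModuleCat.of ↥A ↥(Submodule.span ↥A
        ({1, (PowerSeries.X : PowerSeries k) ^ (2 * δ + 1 - 2 * j)} : Set (PowerSeries k)))) 1) =
      ((2 * min i j : ℕ) : ℕ∞) := by
  have hA : A = TF.sgA k (AddSubmonoid.closure ({2, 2 * δ + 1} : Set ℕ)) :=
    SetLike.ext fun f => (hmono f).trans (TF.mem_sgA k _).symm
  subst hA
  exact TF.key30 k δ i j hi hj

end Groth.Agent.Helper22.TFfin
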