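import Groth.Agent.Lib.Helper22.TG2

/-!
# TG4: Ext¹ of the two-generated rank-one modules over `k[[t³, t⁴]]` (E₆) (helper22)
-/

open Classical

universe u

namespace Groth.Agent.Helper22.TF

section E6

theorem mem_closure_3_4 (m : ℕ) :
    m ∈ AddSubmonoid.closure ({3, 4} : Set ℕ) ↔ (m = 0 ∨ m = 3 ∨ m = 4 ∨ 6 ≤ m) := by
  rw [AddSubmonoid.mem_closure_pair]
  constructor
  · rintro ⟨a, b, h⟩
    rw [smul_eq_mul, smul_eq_mul] at h
    rcases a with _ | _ | a <;> rcases b with _ | _ | b <;> omega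
  · intro h
    have h3 : m % 3 = 0 ∨ m % 3 = 1 ∨ m % 3 = 2 := by omega
    rcases h3 with h3 | h3 | h3
    · refine ⟨m / 3, 0, ?_⟩
      rw [smul_eq_mul, smul_eq_mul]
      omega
    · refine ⟨(m - 4) / 3, 1, ?_⟩
      rw [smul_eq_mul, smul_eq_mul]
      omega
    · refine ⟨(m - 8) / 3, 2, ?_⟩
      rw [smul_eq_mul, smul_eq_mul]
      omega

variable (k : Type u) [Field k]

/-- `Ext¹(⟨1, X⁵⟩, ⟨1, X⁵⟩)` has length 2. -/
theorem key41a :
    Module.length (RG k (AddSubmonoid.closure ({3, 4} : Set ℕ)))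
      (CategoryTheory.Abelian.Ext.{u}
        (ModuleCat.of (RG k (AddSubmonoid.closure ({3, 4} : Set ℕ)))
          ↥(Submodule.span (RG k (AddSubmonoid.closure ({3, 4} : Set ℕ)))
            ({1, (PowerSeries.X : PowerSeries k) ^ 5} : Set (PowerSeries k))))
        (ModuleCat.of (RG k (AddSubmonoid.closure ({3, 4} : Set ℕ)))
          ↥(Submodule.span (RG k (AddSubmonoid.closure ({3, 4} : Set ℕ)))
            ({1, (PowerSeries.X : PowerSeries k) ^ 5} : Set (PowerSeries k))))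
        1) = 2 := by
  obtain ⟨Γ, hΓdef⟩ : ∃ Γ : AddSubmonoid ℕ, Γ = AddSubmonoid.closure ({3, 4} : Set ℕ) :=
    ⟨_, rfl⟩
  rw [← hΓdef]
  have hΓ : ∀ m, m ∈ Γ ↔ (m = 0 ∨ m = 3 ∨ m = 4 ∨ 6 ≤ m) := by
    intro m
    rw [hΓdef]
    exact mem_closure_3_4 m
  have hc : ∀ m, 6 ≤ m → m ∈ Γ := fun m hm => (hΓ m).mpr (by omega)
  have hc₀ : 3 ∈ Γ := (hΓ _).mpr (by omega)
  have hc₀e : 3 + 5 ∈ Γ := (hΓ _).mpr (by omega)
  rw [← range_π₂]
  have hN := isMono_span2 k Γ 5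
  rw [two_gen k Γ 5 3 hc₀ hc₀e,
    monoLenG k Γ 6 hc (isMono_TT k Γ 5 3 _ hN) (isMono_PP k Γ 5 3 _ hN) ({4, 5} : Finset ℕ) ?_]
  · rfl
  · intro l
    simp only [Finset.mem_insert, Finset.mem_singleton, Set.mem_setOf_eq, hΓ]
    constructor
    · rintro (rfl | rfl)
      · refine ⟨fun γ h1 h2 => ?_, fun h => ?_⟩
        · omega
        · omega
      · refine ⟨fun γ h1 h2 => ?_, fun h => ?_⟩
        · omega
        · omega
    · rintro ⟨h1, h2⟩
      have hA := h1 3 (by omega) (by omega)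
      have hB := h1 4 (by omega) (by omega)
      omega

/-- `Ext¹(⟨1, X⟩, ⟨1, X⟩)` has length 2. -/
theorem key41b :
    Module.length (RG k (AddSubmonoid.closure ({3, 4} : Set ℕ)))
      (CategoryTheory.Abelian.Ext.{u}
        (ModuleCat.of (RG k (AddSubmonoid.closure ({3, 4} : Set ℕ)))
          ↥(Submodule.span (RG k (AddSubmonoid.closure ({3, 4} : Set ℕ)))
            ({1, (PowerSeries.X : PowerSeries k)} : Set (PowerSeries k))))
        (ModuleCat.of (RG k (AddSubmonoid.closure ({3, 4} : Set ℕ)))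
          ↥(Submodule.span (RG k (AddSubmonoid.closure ({3, 4} : Set ℕ)))
            ({1, (PowerSeries.X : PowerSeries k)} : Set (PowerSeries k))))
        1) = 2 := by
  obtain ⟨Γ, hΓdef⟩ : ∃ Γ : AddSubmonoid ℕ, Γ = AddSubmonoid.closure ({3, 4} : Set ℕ) :=
    ⟨_, rfl⟩
  rw [← hΓdef]
  have hΓ : ∀ m, m ∈ Γ ↔ (m = 0 ∨ m = 3 ∨ m = 4 ∨ 6 ≤ m) := by
    intro m
    rw [hΓdef]
    exact mem_closure_3_4 m
  have hc : ∀ m, 6 ≤ m → m ∈ Γ := fun m hm => (hΓ m).mpr (by omega)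
  have hc₀ : 3 ∈ Γ := (hΓ _).mpr (by omega)
  have hc₀e : 3 + 1 ∈ Γ := (hΓ _).mpr (by omega)
  have hX : ({1, (PowerSeries.X : PowerSeries k)} : Set (PowerSeries k)) =
      {1, (PowerSeries.X : PowerSeries k) ^ 1} := by rw [pow_one]
  rw [hX, ← range_π₂]
  have hN := isMono_span2 k Γ 1
  rw [two_gen k Γ 1 3 hc₀ hc₀e,
    monoLenG k Γ 6 hc (isMono_TT k Γ 1 3 _ hN) (isMono_PP k Γ 1 3 _ hN) ({0, 1} : Finset ℕ) ?_]
  · rfl
  · intro l
    simp only [Finset.mem_insert, Finset.mem_singleton, Set.mem_setOf_eq, hΓ]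
    constructor
    · rintro (rfl | rfl)
      · refine ⟨fun γ h1 h2 => ?_, fun h => ?_⟩
        · omega
        · omega
      · refine ⟨fun γ h1 h2 => ?_, fun h => ?_⟩
        · omega
        · omega
    · rintro ⟨h1, h2⟩
      have hA := h1 3 (by omega) (by omega)
      omega

/-- `Ext¹(⟨1, X²⟩, ⟨1, X²⟩)` has length 4. -/
theorem key41c :
    Module.length (RG k (AddSubmonoid.closure ({3, 4} : Set ℕ)))
      (CategoryTheory.Abelian.Ext.{u}
        (ModuleCat.of (RG k (AddSubmonoid.closure ({3, 4} : Set ℕ)))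
          ↥(Submodule.span (RG k (AddSubmonoid.closure ({3, 4} : Set ℕ)))
            ({1, (PowerSeries.X : PowerSeries k) ^ 2} : Set (PowerSeries k))))
        (ModuleCat.of (RG k (AddSubmonoid.closure ({3, 4} : Set ℕ)))
          ↥(Submodule.span (RG k (AddSubmonoid.closure ({3, 4} : Set ℕ)))
            ({1, (PowerSeries.X : PowerSeries k) ^ 2} : Set (PowerSeries k))))
        1) = 4 := by
  obtain ⟨Γ, hΓdef⟩ : ∃ Γ : AddSubmonoid ℕ, Γ = AddSubmonoid.closure ({3, 4} : Set ℕ) :=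
    ⟨_, rfl⟩
  rw [← hΓdef]
  have hΓ : ∀ m, m ∈ Γ ↔ (m = 0 ∨ m = 3 ∨ m = 4 ∨ 6 ≤ m) := by
    intro m
    rw [hΓdef]
    exact mem_closure_3_4 m
  have hc : ∀ m, 6 ≤ m → m ∈ Γ := fun m hm => (hΓ m).mpr (by omega)
  have hc₀ : 4 ∈ Γ := (hΓ _).mpr (by omega)
  have hc₀e : 4 + 2 ∈ Γ := (hΓ _).mpr (by omega)
  rw [← range_π₂]
  have hN := isMono_span2 k Γ 2
  rw [two_gen k Γ 2 4 hc₀ hc₀e,
    monoLenG k Γ 6 hc (isMono_TT k Γ 2 4 _ hN) (isMono_PP k Γ 2 4 _ hN)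
      ({0, 2, 3, 5} : Finset ℕ) ?_]
  · rfl
  · intro l
    simp only [Finset.mem_insert, Finset.mem_singleton, Set.mem_setOf_eq, hΓ]
    constructor
    · rintro (rfl | rfl | rfl | rfl)
      · refine ⟨fun γ h1 h2 => ?_, fun h => ?_⟩
        · omega
        · omega
      · refine ⟨fun γ h1 h2 => ?_, fun h => ?_⟩
        · omega
        · omega
      · refine ⟨fun γ h1 h2 => ?_, fun h => ?_⟩
        · omega
        · omega
      · refine ⟨fun γ h1 h2 => ?_, fun h => ?_⟩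
        · omega
        · omega
    · rintro ⟨h1, h2⟩
      have hA := h1 4 (by omega) (by omega)
      omega

end E6

end Groth.Agent.Helper22.TF
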