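import Groth.Agent.Lib.Helper22.TG4

/-!
# TG5: `Ext¹(k[[t]], k[[t]])` over `k[[t³, t⁴]]` has length 6 (helper22)

Presentation `A³ → k[[t]]`, `(a, b, c) ↦ a + b t + c t²`; `Hom(K, k[[t]]) ≅ k[[t]]²` via the two
basic syzygies `(-t⁴, t³, 0)`, `(0, -t⁴, t³)`; the image of `Hom(A³, k[[t]])` is `(t³ k[[t]])²`.
-/

open Classical

universe u

namespace Groth.Agent.Helper22.TF

section E6d

variable (k : Type u) [Field k] (Γ : AddSubmonoid ℕ)

/-- the presentation `A³ → k[[X]]`, `(a, b, c) ↦ a + b X + c X²`. -/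
noncomputable def π₃ : (RG k Γ × RG k Γ × RG k Γ) →ₗ[RG k Γ] PowerSeries k :=
  (LinearMap.toSpanSingleton (RG k Γ) (PowerSeries k) 1).coprod
    ((LinearMap.toSpanSingleton (RG k Γ) (PowerSeries k) (PowerSeries.X ^ 1)).coprod
      (LinearMap.toSpanSingleton (RG k Γ) (PowerSeries k) (PowerSeries.X ^ 2)))

theorem π₃_apply (v : RG k Γ × RG k Γ × RG k Γ) :
    π₃ k Γ v = v.1.1 + (v.2.1.1 * PowerSeries.X ^ 1 + v.2.2.1 * PowerSeries.X ^ 2) := by
  rw [π₃, LinearMap.coprod_apply, LinearMap.coprod_apply, LinearMap.toSpanSingleton_apply,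
    LinearMap.toSpanSingleton_apply, LinearMap.toSpanSingleton_apply, smul_defG, smul_defG,
    smul_defG, mul_one]

/-- `α(a, b, c) = b + c X`. -/
noncomputable def alpL : (RG k Γ × RG k Γ × RG k Γ) →ₗ[RG k Γ] PowerSeries k where
  toFun v := v.2.1.1 + v.2.2.1 * PowerSeries.X ^ 1
  map_add' v w := by
    show (v.2.1 + w.2.1).1 + (v.2.2 + w.2.2).1 * PowerSeries.X ^ 1 =
      (v.2.1.1 + v.2.2.1 * PowerSeries.X ^ 1) + (w.2.1.1 + w.2.2.1 * PowerSeries.X ^ 1)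
    rw [valG_add, valG_add]
    ring
  map_smul' a v := by
    show (a * v.2.1).1 + (a * v.2.2).1 * PowerSeries.X ^ 1 =
      a • (v.2.1.1 + v.2.2.1 * PowerSeries.X ^ 1)
    rw [valG_mul, valG_mul, smul_defG]
    ring

theorem alpL_apply (v : RG k Γ × RG k Γ × RG k Γ) :
    alpL k Γ v = v.2.1.1 + v.2.2.1 * PowerSeries.X ^ 1 := rfl

/-- `β(a, b, c) = c`. -/
noncomputable def betL : (RG k Γ × RG k Γ × RG k Γ) →ₗ[RG k Γ] PowerSeries k where
  toFun v := v.2.2.1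
  map_add' v w := valG_add k Γ v.2.2 w.2.2
  map_smul' a v := by
    show (a * v.2.2).1 = a • v.2.2.1
    rw [valG_mul, smul_defG]

theorem betL_apply (v : RG k Γ × RG k Γ × RG k Γ) : betL k Γ v = v.2.2.1 := rfl

/-- `(z₀, z₁, z₂) ↦ (X³ z₁ - X⁴ z₀, X³ z₂ - X⁴ z₁)`. -/
noncomputable def rho₃ : (PowerSeries k × PowerSeries k × PowerSeries k) →ₗ[RG k Γ]
    (PowerSeries k × PowerSeries k) where
  toFun z := (PowerSeries.X ^ 3 * z.2.1 - PowerSeries.X ^ 4 * z.1,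
    PowerSeries.X ^ 3 * z.2.2 - PowerSeries.X ^ 4 * z.2.1)
  map_add' z w := by
    apply Prod.ext
    · show PowerSeries.X ^ 3 * (z.2.1 + w.2.1) - PowerSeries.X ^ 4 * (z.1 + w.1) =
        (PowerSeries.X ^ 3 * z.2.1 - PowerSeries.X ^ 4 * z.1) +
          (PowerSeries.X ^ 3 * w.2.1 - PowerSeries.X ^ 4 * w.1)
      ring
    · show PowerSeries.X ^ 3 * (z.2.2 + w.2.2) - PowerSeries.X ^ 4 * (z.2.1 + w.2.1) =
        (PowerSeries.X ^ 3 * z.2.2 - PowerSeries.X ^ 4 * z.2.1) +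
          (PowerSeries.X ^ 3 * w.2.2 - PowerSeries.X ^ 4 * w.2.1)
      ring
  map_smul' a z := by
    apply Prod.ext
    · show PowerSeries.X ^ 3 * (a • z.2.1) - PowerSeries.X ^ 4 * (a • z.1) =
        a • (PowerSeries.X ^ 3 * z.2.1 - PowerSeries.X ^ 4 * z.1)
      rw [smul_defG, smul_defG, smul_defG]
      ring
    · show PowerSeries.X ^ 3 * (a • z.2.2) - PowerSeries.X ^ 4 * (a • z.2.1) =
        a • (PowerSeries.X ^ 3 * z.2.2 - PowerSeries.X ^ 4 * z.2.1)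
      rw [smul_defG, smul_defG, smul_defG]
      ring

theorem rho₃_apply (z : PowerSeries k × PowerSeries k × PowerSeries k) :
    rho₃ k Γ z = (PowerSeries.X ^ 3 * z.2.1 - PowerSeries.X ^ 4 * z.1,
      PowerSeries.X ^ 3 * z.2.2 - PowerSeries.X ^ 4 * z.2.1) := rfl

theorem mem_range_rho₃ (y : PowerSeries k × PowerSeries k) :
    y ∈ LinearMap.range (rho₃ k Γ) ↔
      ∀ m, m < 3 → PowerSeries.coeff m y.1 = 0 ∧ PowerSeries.coeff m y.2 = 0 := by
  constructor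
  · rintro ⟨z, rfl⟩ m hm
    constructor
    · show PowerSeries.coeff m (PowerSeries.X ^ 3 * z.2.1 - PowerSeries.X ^ 4 * z.1) = 0
      rw [map_sub, PowerSeries.coeff_X_pow_mul', PowerSeries.coeff_X_pow_mul',
        if_neg (by omega), if_neg (by omega), sub_zero]
    · show PowerSeries.coeff m (PowerSeries.X ^ 3 * z.2.2 - PowerSeries.X ^ 4 * z.2.1) = 0
      rw [map_sub, PowerSeries.coeff_X_pow_mul', PowerSeries.coeff_X_pow_mul',
        if_neg (by omega), if_neg (by omega), sub_zero]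
  · intro h
    have h1 : PowerSeries.X ^ 3 * sh 3 y.1 = y.1 := X_pow_mul_sh 3 (fun m hm => (h m hm).1)
    have h2 : PowerSeries.X ^ 3 * sh 3 y.2 = y.2 := X_pow_mul_sh 3 (fun m hm => (h m hm).2)
    refine ⟨(0, sh 3 y.1, sh 3 y.2 + PowerSeries.X * sh 3 y.1), ?_⟩
    apply Prod.ext
    · show PowerSeries.X ^ 3 * sh 3 y.1 - PowerSeries.X ^ 4 * 0 = y.1
      linear_combination h1
    · show PowerSeries.X ^ 3 * (sh 3 y.2 + PowerSeries.X * sh 3 y.1) -
        PowerSeries.X ^ 4 * sh 3 y.1 = y.2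
      linear_combination h2

variable (hΓ : ∀ m, m ∈ Γ ↔ (m = 0 ∨ m = 3 ∨ m = 4 ∨ 6 ≤ m))
include hΓ

omit [Field k] in
theorem hc6 (m : ℕ) (hm : 6 ≤ m) : m ∈ Γ := (hΓ m).mpr (by omega)

theorem lowG (a : RG k Γ) (m : ℕ) (hm : m = 1 ∨ m = 2 ∨ m = 5) :
    PowerSeries.coeff m a.1 = 0 := by
  by_contra h
  have := (hΓ m).mp (a.2 m h)
  omega

theorem K_low₃ {v : RG k Γ × RG k Γ × RG k Γ} (hv : π₃ k Γ v = 0) :
    ∀ m, m < 3 → PowerSeries.coeff m v.2.1.1 = 0 ∧ PowerSeries.coeff m v.2.2.1 = 0 := by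
  rw [π₃_apply] at hv
  have h1 : PowerSeries.coeff 1 v.1.1 + PowerSeries.coeff 0 v.2.1.1 = 0 := by
    have := congrArg (PowerSeries.coeff 1) hv
    rw [map_add, map_add, map_zero, PowerSeries.coeff_mul_X_pow', PowerSeries.coeff_mul_X_pow',
      if_pos (le_refl 1), if_neg (by omega : ¬ 2 ≤ 1), add_zero] at this
    exact this
  have h2 : PowerSeries.coeff 2 v.1.1 +
      (PowerSeries.coeff 1 v.2.1.1 + PowerSeries.coeff 0 v.2.2.1) = 0 := by
    have := congrArg (PowerSeries.coeff 2) hv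
    rw [map_add, map_add, map_zero, PowerSeries.coeff_mul_X_pow', PowerSeries.coeff_mul_X_pow',
      if_pos (by omega : 1 ≤ 2), if_pos (le_refl 2)] at this
    exact this
  rw [lowG k Γ hΓ v.1 1 (by omega), zero_add] at h1
  rw [lowG k Γ hΓ v.1 2 (by omega), lowG k Γ hΓ v.2.1 1 (by omega), zero_add, zero_add] at h2
  intro m hm
  have hm' : m = 0 ∨ m = 1 ∨ m = 2 := by omega
  rcases hm' with rfl | rfl | rfl
  · exact ⟨h1, h2⟩
  · exact ⟨lowG k Γ hΓ _ 1 (by omega), lowG k Γ hΓ _ 1 (by omega)⟩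
  · exact ⟨lowG k Γ hΓ _ 2 (by omega), lowG k Γ hΓ _ 2 (by omega)⟩

theorem alp_low {v : RG k Γ × RG k Γ × RG k Γ} (hv : π₃ k Γ v = 0) :
    ∀ m, m < 3 → PowerSeries.coeff m (alpL k Γ v) = 0 := by
  intro m hm
  rw [alpL_apply, map_add, PowerSeries.coeff_mul_X_pow', (K_low₃ k Γ hΓ hv m hm).1, zero_add]
  split_ifs with h
  · exact (K_low₃ k Γ hΓ hv (m - 1) (by omega)).2
  · rfl

theorem bet_low {v : RG k Γ × RG k Γ × RG k Γ} (hv : π₃ k Γ v = 0) :
    ∀ m, m < 3 → PowerSeries.coeff m (betL k Γ v) = 0 :=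
  fun m hm => (K_low₃ k Γ hΓ hv m hm).2

/-- the syzygy `(-X⁴, X³, 0)`. -/
noncomputable def kp1 : RG k Γ × RG k Γ × RG k Γ :=
  (mkRG k Γ (-(PowerSeries.X ^ 4))
      ((sgA k Γ).neg_mem (X_pow_memG k Γ ((hΓ 4).mpr (by omega)))),
    mkRG k Γ (PowerSeries.X ^ 3) (X_pow_memG k Γ ((hΓ 3).mpr (by omega))), 0)

/-- the syzygy `(0, -X⁴, X³)`. -/
noncomputable def kp2 : RG k Γ × RG k Γ × RG k Γ :=
  (0, mkRG k Γ (-(PowerSeries.X ^ 4))
      ((sgA k Γ).neg_mem (X_pow_memG k Γ ((hΓ 4).mpr (by omega)))),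
    mkRG k Γ (PowerSeries.X ^ 3) (X_pow_memG k Γ ((hΓ 3).mpr (by omega))))

theorem π₃_kp1 : π₃ k Γ (kp1 k Γ hΓ) = 0 := by
  rw [π₃_apply]
  show -(PowerSeries.X ^ 4) + (PowerSeries.X ^ 3 * PowerSeries.X ^ 1 +
    (0 : PowerSeries k) * PowerSeries.X ^ 2) = 0
  ring

theorem π₃_kp2 : π₃ k Γ (kp2 k Γ hΓ) = 0 := by
  rw [π₃_apply]
  show (0 : PowerSeries k) + (-(PowerSeries.X ^ 4) * PowerSeries.X ^ 1 +
    PowerSeries.X ^ 3 * PowerSeries.X ^ 2) = 0
  ring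

theorem alp_kp1 : alpL k Γ (kp1 k Γ hΓ) = PowerSeries.X ^ 3 * 1 := by
  show PowerSeries.X ^ 3 + (0 : PowerSeries k) * PowerSeries.X ^ 1 = _
  ring

theorem bet_kp1 : betL k Γ (kp1 k Γ hΓ) = 0 := rfl

theorem alp_kp2 : alpL k Γ (kp2 k Γ hΓ) = 0 := by
  show -(PowerSeries.X ^ 4) + PowerSeries.X ^ 3 * PowerSeries.X ^ 1 = (0 : PowerSeries k)
  ring

theorem bet_kp2 : betL k Γ (kp2 k Γ hΓ) = PowerSeries.X ^ 3 * 1 := by
  show (PowerSeries.X : PowerSeries k) ^ 3 = _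
  ring

theorem smul_eq_kp {v : RG k Γ × RG k Γ × RG k Γ} (hv : π₃ k Γ v = 0) :
    mkRG k Γ (PowerSeries.X ^ 9) (X_pow_memG k Γ (hc6 Γ hΓ 9 (by omega))) • v =
      mkRG k Γ (PowerSeries.X ^ 6 * alpL k Γ v)
          (X_pow_mul_memG k Γ 6 (hc6 Γ hΓ) _ le_rfl) • kp1 k Γ hΓ +
        mkRG k Γ (PowerSeries.X ^ 6 * betL k Γ v)
          (X_pow_mul_memG k Γ 6 (hc6 Γ hΓ) _ le_rfl) • kp2 k Γ hΓ := by
  rw [π₃_apply] at hv
  have h1 : v.1.1 = -(v.2.1.1 * PowerSeries.X ^ 1 + v.2.2.1 * PowerSeries.X ^ 2) :=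
    eq_neg_of_add_eq_zero_left hv
  apply Prod.ext
  · apply Subtype.ext
    show PowerSeries.X ^ 9 * v.1.1 =
      PowerSeries.X ^ 6 * (v.2.1.1 + v.2.2.1 * PowerSeries.X ^ 1) * (-(PowerSeries.X ^ 4)) +
        PowerSeries.X ^ 6 * v.2.2.1 * 0
    rw [h1]
    ring
  · apply Prod.ext
    · apply Subtype.ext
      show PowerSeries.X ^ 9 * v.2.1.1 =
        PowerSeries.X ^ 6 * (v.2.1.1 + v.2.2.1 * PowerSeries.X ^ 1) * PowerSeries.X ^ 3 +
          PowerSeries.X ^ 6 * v.2.2.1 * (-(PowerSeries.X ^ 4))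
      ring
    · apply Subtype.ext
      show PowerSeries.X ^ 9 * v.2.2.1 =
        PowerSeries.X ^ 6 * (v.2.1.1 + v.2.2.1 * PowerSeries.X ^ 1) * 0 +
          PowerSeries.X ^ 6 * v.2.2.1 * PowerSeries.X ^ 3
      ring

/-- `kp1` in the kernel. -/
noncomputable def kp1K : ↥(LinearMap.ker (π₃ k Γ)) :=
  ⟨kp1 k Γ hΓ, LinearMap.mem_ker.mpr (π₃_kp1 k Γ hΓ)⟩

/-- `kp2` in the kernel. -/
noncomputable def kp2K : ↥(LinearMap.ker (π₃ k Γ)) :=
  ⟨kp2 k Γ hΓ, LinearMap.mem_ker.mpr (π₃_kp2 k Γ hΓ)⟩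

theorem psi_formula₃ (ψ : ↥(LinearMap.ker (π₃ k Γ)) →ₗ[RG k Γ] PowerSeries k)
    (v : ↥(LinearMap.ker (π₃ k Γ))) :
    PowerSeries.X ^ 3 * ψ v =
      alpL k Γ v.1 * ψ (kp1K k Γ hΓ) + betL k Γ v.1 * ψ (kp2K k Γ hΓ) := by
  have hv : π₃ k Γ v.1 = 0 := LinearMap.mem_ker.mp v.2
  have hK : mkRG k Γ (PowerSeries.X ^ 9) (X_pow_memG k Γ (hc6 Γ hΓ 9 (by omega))) • v =
      mkRG k Γ (PowerSeries.X ^ 6 * alpL k Γ v.1)
          (X_pow_mul_memG k Γ 6 (hc6 Γ hΓ) _ le_rfl) • kp1K k Γ hΓ +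
        mkRG k Γ (PowerSeries.X ^ 6 * betL k Γ v.1)
          (X_pow_mul_memG k Γ 6 (hc6 Γ hΓ) _ le_rfl) • kp2K k Γ hΓ :=
    Subtype.ext (smul_eq_kp k Γ hΓ hv)
  have h1 := congrArg ψ hK
  simp only [map_add, map_smul, smul_defG, val_mkRG] at h1
  apply mul_left_cancel₀ (pow_ne_zero 6 (PowerSeries.X_ne_zero (R := k)))
  linear_combination h1

/-- `ψ ↦ (ψ κ₁, ψ κ₂)`. -/
noncomputable def Theta₃ : (↥(LinearMap.ker (π₃ k Γ)) →ₗ[RG k Γ] PowerSeries k) →ₗ[RG k Γ]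
    (PowerSeries k × PowerSeries k) where
  toFun ψ := (ψ (kp1K k Γ hΓ), ψ (kp2K k Γ hΓ))
  map_add' ψ₁ ψ₂ := rfl
  map_smul' a ψ := rfl

theorem Theta₃_apply (ψ : ↥(LinearMap.ker (π₃ k Γ)) →ₗ[RG k Γ] PowerSeries k) :
    Theta₃ k Γ hΓ ψ = (ψ (kp1K k Γ hΓ), ψ (kp2K k Γ hΓ)) := rfl

theorem Theta₃_injective : Function.Injective (Theta₃ k Γ hΓ) := by
  intro ψ₁ ψ₂ h
  have h1 : ψ₁ (kp1K k Γ hΓ) = ψ₂ (kp1K k Γ hΓ) := congrArg Prod.fst h
  have h2 : ψ₁ (kp2K k Γ hΓ) = ψ₂ (kp2K k Γ hΓ) := congrArg Prod.snd h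
  apply LinearMap.ext
  intro v
  apply mul_left_cancel₀ (pow_ne_zero 3 (PowerSeries.X_ne_zero (R := k)))
  rw [psi_formula₃ k Γ hΓ ψ₁ v, psi_formula₃ k Γ hΓ ψ₂ v, h1, h2]

/-- the inverse of `Theta₃`. -/
noncomputable def psi₃ (y : PowerSeries k × PowerSeries k) :
    ↥(LinearMap.ker (π₃ k Γ)) →ₗ[RG k Γ] PowerSeries k where
  toFun v := sh 3 (alpL k Γ v.1) * y.1 + sh 3 (betL k Γ v.1) * y.2
  map_add' v w := by
    show sh 3 (alpL k Γ (v.1 + w.1)) * y.1 + sh 3 (betL k Γ (v.1 + w.1)) * y.2 =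
      (sh 3 (alpL k Γ v.1) * y.1 + sh 3 (betL k Γ v.1) * y.2) +
        (sh 3 (alpL k Γ w.1) * y.1 + sh 3 (betL k Γ w.1) * y.2)
    rw [map_add, map_add, sh_add, sh_add]
    ring
  map_smul' a v := by
    have hv : π₃ k Γ v.1 = 0 := LinearMap.mem_ker.mp v.2
    show sh 3 (alpL k Γ (a • v.1)) * y.1 + sh 3 (betL k Γ (a • v.1)) * y.2 =
      a • (sh 3 (alpL k Γ v.1) * y.1 + sh 3 (betL k Γ v.1) * y.2)
    rw [map_smul, map_smul, smul_defG, smul_defG, smul_defG,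
      sh_mul_of_low 3 (alp_low k Γ hΓ hv), sh_mul_of_low 3 (bet_low k Γ hΓ hv)]
    ring

theorem Theta₃_psi₃ (y : PowerSeries k × PowerSeries k) :
    Theta₃ k Γ hΓ (psi₃ k Γ hΓ y) = y := by
  apply Prod.ext
  · show sh 3 (alpL k Γ (kp1 k Γ hΓ)) * y.1 + sh 3 (betL k Γ (kp1 k Γ hΓ)) * y.2 = y.1
    rw [alp_kp1, bet_kp1, sh_X_pow_mul, sh_zero, one_mul, zero_mul, add_zero]
  · show sh 3 (alpL k Γ (kp2 k Γ hΓ)) * y.1 + sh 3 (betL k Γ (kp2 k Γ hΓ)) * y.2 = y.2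
    rw [alp_kp2, bet_kp2, sh_X_pow_mul, sh_zero, zero_mul, one_mul, zero_add]

theorem Theta₃_surjective : Function.Surjective (Theta₃ k Γ hΓ) :=
  fun y => ⟨psi₃ k Γ hΓ y, Theta₃_psi₃ k Γ hΓ y⟩

theorem Theta₃_res (g : (RG k Γ × RG k Γ × RG k Γ) →ₗ[RG k Γ] PowerSeries k) :
    Theta₃ k Γ hΓ (g.comp (LinearMap.ker (π₃ k Γ)).subtype) =
      rho₃ k Γ (g (1, 0, 0), g (0, 1, 0), g (0, 0, 1)) := by
  have hk1 : kp1 k Γ hΓ =
      mkRG k Γ (-(PowerSeries.X ^ 4))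
        ((sgA k Γ).neg_mem (X_pow_memG k Γ ((hΓ 4).mpr (by omega)))) •
          ((1, 0, 0) : RG k Γ × RG k Γ × RG k Γ) +
      mkRG k Γ (PowerSeries.X ^ 3) (X_pow_memG k Γ ((hΓ 3).mpr (by omega))) •
          ((0, 1, 0) : RG k Γ × RG k Γ × RG k Γ) := by
    apply Prod.ext
    · show _ = _ * (1 : RG k Γ) + _ * (0 : RG k Γ)
      rw [mul_one, mul_zero, add_zero]
      rfl
    · apply Prod.ext
      · show _ = _ * (0 : RG k Γ) + _ * (1 : RG k Γ)
        rw [mul_one, mul_zero, zero_add]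
        rfl
      · show (0 : RG k Γ) = _ * (0 : RG k Γ) + _ * (0 : RG k Γ)
        rw [mul_zero, mul_zero, add_zero]
  have hk2 : kp2 k Γ hΓ =
      mkRG k Γ (-(PowerSeries.X ^ 4))
        ((sgA k Γ).neg_mem (X_pow_memG k Γ ((hΓ 4).mpr (by omega)))) •
          ((0, 1, 0) : RG k Γ × RG k Γ × RG k Γ) +
      mkRG k Γ (PowerSeries.X ^ 3) (X_pow_memG k Γ ((hΓ 3).mpr (by omega))) •
          ((0, 0, 1) : RG k Γ × RG k Γ × RG k Γ) := by
    apply Prod.ext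
    · show (0 : RG k Γ) = _ * (0 : RG k Γ) + _ * (0 : RG k Γ)
      rw [mul_zero, mul_zero, add_zero]
    · apply Prod.ext
      · show _ = _ * (1 : RG k Γ) + _ * (0 : RG k Γ)
        rw [mul_one, mul_zero, add_zero]
        rfl
      · show _ = _ * (0 : RG k Γ) + _ * (1 : RG k Γ)
        rw [mul_one, mul_zero, zero_add]
        rfl
  rw [rho₃_apply]
  apply Prod.ext
  · show g (kp1 k Γ hΓ) = PowerSeries.X ^ 3 * g (0, 1, 0) - PowerSeries.X ^ 4 * g (1, 0, 0)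
    rw [hk1, map_add, map_smul, map_smul, smul_defG, smul_defG, val_mkRG, val_mkRG]
    ring
  · show g (kp2 k Γ hΓ) = PowerSeries.X ^ 3 * g (0, 0, 1) - PowerSeries.X ^ 4 * g (0, 1, 0)
    rw [hk2, map_add, map_smul, map_smul, smul_defG, smul_defG, val_mkRG, val_mkRG]
    ring

theorem Theta₃_mem_iff (ψ : ↥(LinearMap.ker (π₃ k Γ)) →ₗ[RG k Γ] PowerSeries k) :
    Theta₃ k Γ hΓ ψ ∈ LinearMap.range (rho₃ k Γ) ↔
    ψ ∈ LinearMap.range
      (LinearMap.lcomp (RG k Γ) (PowerSeries k) (LinearMap.ker (π₃ k Γ)).subtype) := by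
  constructor
  · rintro ⟨z, hz⟩
    refine ⟨(LinearMap.toSpanSingleton (RG k Γ) (PowerSeries k) z.1).coprod
      ((LinearMap.toSpanSingleton (RG k Γ) (PowerSeries k) z.2.1).coprod
        (LinearMap.toSpanSingleton (RG k Γ) (PowerSeries k) z.2.2)), ?_⟩
    rw [LinearMap.lcomp_apply']
    apply Theta₃_injective k Γ hΓ
    rw [Theta₃_res, ← hz]
    congr 1
    apply Prod.ext
    · simp only [LinearMap.coprod_apply, LinearMap.toSpanSingleton_apply, one_smul, zero_smul,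
        add_zero, zero_add]
    · apply Prod.ext
      · simp only [LinearMap.coprod_apply, LinearMap.toSpanSingleton_apply, one_smul, zero_smul,
          add_zero, zero_add]
      · simp only [LinearMap.coprod_apply, LinearMap.toSpanSingleton_apply, one_smul, zero_smul,
          add_zero, zero_add]
  · rintro ⟨g, rfl⟩
    rw [LinearMap.lcomp_apply', Theta₃_res]
    exact LinearMap.mem_range_self _ _

theorem length_rho₃ : Module.length (RG k Γ)
    ((PowerSeries k × PowerSeries k) ⧸ LinearMap.range (rho₃ k Γ)) = 6 := by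
  let cc : (PowerSeries k × PowerSeries k) →ₗ[k] ((Fin 3 → k) × (Fin 3 → k)) :=
    { toFun := fun y => (fun i => PowerSeries.coeff (i : ℕ) y.1,
        fun i => PowerSeries.coeff (i : ℕ) y.2)
      map_add' := fun y z => by
        apply Prod.ext
        · funext i
          show PowerSeries.coeff (i : ℕ) (y.1 + z.1) = _
          rw [map_add]
          rfl
        · funext i
          show PowerSeries.coeff (i : ℕ) (y.2 + z.2) = _
          rw [map_add]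
          rfl
      map_smul' := fun r y => by
        apply Prod.ext
        · funext i
          show PowerSeries.coeff (i : ℕ) (r • y.1) = _
          rw [map_smul]
          rfl
        · funext i
          show PowerSeries.coeff (i : ℕ) (r • y.2) = _
          rw [map_smul]
          rfl }
  have hcs : Function.Surjective cc := by
    intro g
    refine ⟨(PowerSeries.mk (fun l => if h : l < 3 then g.1 ⟨l, h⟩ else 0),
      PowerSeries.mk (fun l => if h : l < 3 then g.2 ⟨l, h⟩ else 0)), ?_⟩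
    apply Prod.ext
    · funext i
      show PowerSeries.coeff (i : ℕ)
        (PowerSeries.mk (fun l => if h : l < 3 then g.1 ⟨l, h⟩ else 0)) = g.1 i
      rw [PowerSeries.coeff_mk, dif_pos i.2]
    · funext i
      show PowerSeries.coeff (i : ℕ)
        (PowerSeries.mk (fun l => if h : l < 3 then g.2 ⟨l, h⟩ else 0)) = g.2 i
      rw [PowerSeries.coeff_mk, dif_pos i.2]
  have hker : LinearMap.ker cc = (LinearMap.range (rho₃ k Γ)).restrictScalars k := by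
    ext y
    rw [LinearMap.mem_ker, Submodule.restrictScalars_mem, mem_range_rho₃]
    constructor
    · intro h m hm
      have h1 := congrFun (congrArg Prod.fst h) ⟨m, hm⟩
      have h2 := congrFun (congrArg Prod.snd h) ⟨m, hm⟩
      exact ⟨h1, h2⟩
    · intro h
      apply Prod.ext
      · funext i
        exact (h i i.2).1
      · funext i
        exact (h i i.2).2
  have e : ((PowerSeries k × PowerSeries k) ⧸ LinearMap.range (rho₃ k Γ)) ≃ₗ[k]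
      ((Fin 3 → k) × (Fin 3 → k)) :=
    ((Submodule.Quotient.restrictScalarsEquiv k (LinearMap.range (rho₃ k Γ))).symm.trans
      (Submodule.quotEquivOfEq _ _ hker.symm)).trans (cc.quotKerEquivOfSurjective hcs)
  haveI : Module.Finite k ((PowerSeries k × PowerSeries k) ⧸ LinearMap.range (rho₃ k Γ)) :=
    Module.Finite.equiv e.symm
  rw [length_eq_finrank' (hresG k Γ 6 (hc6 Γ hΓ))
    ((PowerSeries k × PowerSeries k) ⧸ LinearMap.range (rho₃ k Γ)), e.finrank_eq,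
    Module.finrank_prod, Module.finrank_fin_fun]
  rfl

theorem decomp₃ (f : PowerSeries k) : ∃ a b c : RG k Γ,
    f = a.1 + (b.1 * PowerSeries.X ^ 1 + c.1 * PowerSeries.X ^ 2) := by
  obtain ⟨f1, hf1⟩ : ∃ f1, f1 = PowerSeries.coeff 1 f := ⟨_, rfl⟩
  obtain ⟨f2, hf2⟩ : ∃ f2, f2 = PowerSeries.coeff 2 f := ⟨_, rfl⟩
  obtain ⟨f5, hf5⟩ : ∃ f5, f5 = PowerSeries.coeff 5 f := ⟨_, rfl⟩
  have hb : PowerSeries.C f1 + PowerSeries.C f5 * PowerSeries.X ^ 4 ∈ sgA k Γ :=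
    Subalgebra.add_mem _ (C_memG k Γ f1)
      (Subalgebra.mul_mem _ (C_memG k Γ f5) (X_pow_memG k Γ ((hΓ 4).mpr (by omega))))
  have hc : PowerSeries.C f2 ∈ sgA k Γ := C_memG k Γ f2
  have ha : f - (PowerSeries.C f1 * PowerSeries.X ^ 1 + PowerSeries.C f2 * PowerSeries.X ^ 2 +
      PowerSeries.C f5 * PowerSeries.X ^ 5) ∈ sgA k Γ := by
    intro m hm
    rw [hΓ]
    by_contra hne
    have hm' : m = 1 ∨ m = 2 ∨ m = 5 := by omega
    apply hm
    rw [map_sub, map_add, map_add, PowerSeries.coeff_C_mul_X_pow,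
      PowerSeries.coeff_C_mul_X_pow, PowerSeries.coeff_C_mul_X_pow]
    rcases hm' with rfl | rfl | rfl
    · rw [if_pos rfl, if_neg (by omega), if_neg (by omega), add_zero, add_zero, ← hf1, sub_self]
    · rw [if_neg (by omega), if_pos rfl, if_neg (by omega), zero_add, add_zero, ← hf2, sub_self]
    · rw [if_neg (by omega), if_neg (by omega), if_pos rfl, zero_add, zero_add, ← hf5, sub_self]
  refine ⟨mkRG k Γ _ ha, mkRG k Γ _ hb, mkRG k Γ _ hc, ?_⟩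
  rw [val_mkRG, val_mkRG, val_mkRG]
  ring

theorem π₃_surjective : Function.Surjective (π₃ k Γ) := by
  intro f
  obtain ⟨a, b, c, h⟩ := decomp₃ k Γ hΓ f
  refine ⟨(a, b, c), ?_⟩
  rw [π₃_apply]
  exact h.symm

theorem span_top₃ : Submodule.span (RG k Γ)
    ({1, (PowerSeries.X : PowerSeries k), (PowerSeries.X : PowerSeries k) ^ 2} :
      Set (PowerSeries k)) = ⊤ := by
  rw [eq_top_iff]
  intro f _
  obtain ⟨a, b, c, h⟩ := decomp₃ k Γ hΓ f
  rw [h, pow_one]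
  refine Submodule.add_mem _ ?_ (Submodule.add_mem _ ?_ ?_)
  · have h1 : a.1 = a • (1 : PowerSeries k) := by rw [smul_defG, mul_one]
    rw [h1]
    exact Submodule.smul_mem _ _ (Submodule.subset_span (Set.mem_insert _ _))
  · have h1 : b.1 * PowerSeries.X = b • (PowerSeries.X : PowerSeries k) :=
      (smul_defG k Γ _ _).symm
    rw [h1]
    exact Submodule.smul_mem _ _
      (Submodule.subset_span (Set.mem_insert_of_mem _ (Set.mem_insert _ _)))
  · have h1 : c.1 * PowerSeries.X ^ 2 = c • ((PowerSeries.X : PowerSeries k) ^ 2) :=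
      (smul_defG k Γ _ _).symm
    rw [h1]
    exact Submodule.smul_mem _ _ (Submodule.subset_span
      (Set.mem_insert_of_mem _ (Set.mem_insert_of_mem _ (Set.mem_singleton _))))

/-- `Ext¹(k[[X]], k[[X]])` has length 6 over `k[[X³, X⁴]]`. -/
theorem ext_top₃ :
    Module.length (RG k Γ) (CategoryTheory.Abelian.Ext.{u}
      (ModuleCat.of (RG k Γ) (PowerSeries k)) (ModuleCat.of (RG k Γ) (PowerSeries k)) 1) = 6 := by
  have h1 := length_ext_one (N := PowerSeries k) (π₃ k Γ) (π₃_surjective k Γ hΓ)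
  obtain ⟨Φ, hΦdef⟩ : ∃ Φ : (↥(LinearMap.ker (π₃ k Γ)) →ₗ[RG k Γ] PowerSeries k) →ₗ[RG k Γ]
      ((PowerSeries k × PowerSeries k) ⧸ LinearMap.range (rho₃ k Γ)),
      Φ = (LinearMap.range (rho₃ k Γ)).mkQ.comp (Theta₃ k Γ hΓ) := ⟨_, rfl⟩
  have hΦ : Function.Surjective Φ := by
    rw [hΦdef]
    exact (Submodule.mkQ_surjective _).comp (Theta₃_surjective k Γ hΓ)
  have hker : LinearMap.ker Φ = LinearMap.range
      (LinearMap.lcomp (RG k Γ) (PowerSeries k) (LinearMap.ker (π₃ k Γ)).subtype) := by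
    ext ψ
    rw [hΦdef, LinearMap.mem_ker, LinearMap.comp_apply, Submodule.mkQ_apply,
      Submodule.Quotient.mk_eq_zero]
    exact Theta₃_mem_iff k Γ hΓ ψ
  have e2 := Φ.quotKerEquivOfSurjective hΦ
  have h2 := ((Submodule.quotEquivOfEq _ _ hker.symm).trans e2).length_eq
  rw [h1, h2]
  exact length_rho₃ k Γ hΓ

end E6d

/-- `Ext¹(⟨1, X, X²⟩, ⟨1, X, X²⟩)` has length 6. -/
theorem key41d (k : Type u) [Field k] :
    Module.length (RG k (AddSubmonoid.closure ({3, 4} : Set ℕ)))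
      (CategoryTheory.Abelian.Ext.{u}
        (ModuleCat.of (RG k (AddSubmonoid.closure ({3, 4} : Set ℕ)))
          ↥(Submodule.span (RG k (AddSubmonoid.closure ({3, 4} : Set ℕ)))
            ({1, (PowerSeries.X : PowerSeries k), (PowerSeries.X : PowerSeries k) ^ 2} :
              Set (PowerSeries k))))
        (ModuleCat.of (RG k (AddSubmonoid.closure ({3, 4} : Set ℕ)))
          ↥(Submodule.span (RG k (AddSubmonoid.closure ({3, 4} : Set ℕ)))
            ({1, (PowerSeries.X : PowerSeries k), (PowerSeries.X : PowerSeries k) ^ 2} :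
              Set (PowerSeries k))))
        1) = 6 := by
  obtain ⟨Γ, hΓdef⟩ : ∃ Γ : AddSubmonoid ℕ, Γ = AddSubmonoid.closure ({3, 4} : Set ℕ) :=
    ⟨_, rfl⟩
  rw [← hΓdef]
  have hΓ : ∀ m, m ∈ Γ ↔ (m = 0 ∨ m = 3 ∨ m = 4 ∨ 6 ≤ m) := by
    intro m
    rw [hΓdef]
    exact mem_closure_3_4 m
  have htop := span_top₃ k Γ hΓ
  exact (ext_length_congr (LinearEquiv.ofTop _ htop) (LinearEquiv.ofTop _ htop)).trans
    (ext_top₃ k Γ hΓ)

end Groth.Agent.Helper22.TF
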