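import Mathlib

/-!
# The degree-zero cohomology functor of a t-structure is homological (helper library for S11522)

* `chaseA`: for a distinguished triangle `A → B → C'` with `C' ≥ 0` and `W ≤ 0`, the map
  `Hom(W, τ≥0 A) → Hom(W, τ≥0 B)` is injective.
* `mono_map`: if `F ⋙ ι ≅ τ≥0 ⋙ τ≤0`, then `F` sends the first map of such a triangle to a mono.
* `exists_T2`: for a distinguished triangle `A' → B → C` with `A' ≤ 0` there is a distinguished
  triangle `A' → τ≤0 B → Q → A'[1]` with `Q ≅ τ≤0 C` compatibly with `τ≤0 B → τ≤0 C`.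
* `exact_of_isLE`: if `F ⋙ ι ≅ τ≤0 ⋙ τ≥0`, then `F A' → F B → F C` is exact.
* `isHomological`: the main result.
-/

set_option autoImplicit false
set_option backward.defeqAttrib.useBackward true
set_option backward.isDefEq.respectTransparency false

universe v u v' u'

open CategoryTheory CategoryTheory.Limits CategoryTheory.Pretriangulated CategoryTheory.Triangulated

namespace Groth.Agent.Helper22.THomol

/-- cokernel criterion for exactness -/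
theorem exact_of_existsUnique {A : Type u'} [Category.{v'} A] [Abelian A] (S : ShortComplex A)
    (h : ∀ (W : A) (y : S.X₂ ⟶ W), S.f ≫ y = 0 → ∃ z : S.X₃ ⟶ W, S.g ≫ z = y)
    (hu : ∀ (W : A) (z : S.X₃ ⟶ W), S.g ≫ z = 0 → z = 0) : S.Exact := by
  haveI : Epi S.g := Preadditive.epi_of_cancel_zero _ (fun z hz => hu _ z hz)
  apply S.exact_of_g_is_cokernel
  exact CokernelCofork.IsColimit.ofπ _ _ (fun y hy => (h _ y hy).choose)
    (fun y hy => (h _ y hy).choose_spec)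
    (fun y hy m hm => by rw [← cancel_epi S.g, hm, (h _ y hy).choose_spec])

variable {C : Type u} [Category.{v} C] [Preadditive C] [HasZeroObject C] [HasShift C ℤ]
  [∀ n : ℤ, (shiftFunctor C n).Additive] [Pretriangulated C] [IsTriangulated C] (t : TStructure C)

theorem chaseA (T : Triangle C) (hT : T ∈ distTriang C) (h₃ : t.IsGE T.obj₃ 0)
    {W : C} (hW : t.IsLE W 0) (φ : W ⟶ (t.truncGE 0).obj T.obj₁)
    (hφ : φ ≫ (t.truncGE 0).map T.mor₁ = 0) : φ = 0 := by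
  haveI := h₃
  haveI := hW
  haveI hα : IsIso ((t.truncLT 0).map T.mor₁) := t.isIso₁_truncLT_map_of_isGE T hT 0 h₃
  have nδ : (t.truncGE 0).map T.mor₁ ≫ (t.truncGEδLT 0).app T.obj₂ =
      (t.truncGEδLT 0).app T.obj₁ ≫ ((t.truncLT 0).map T.mor₁)⟦(1 : ℤ)⟧' :=
    (t.truncGEδLT 0).naturality T.mor₁
  have h1 : φ ≫ (t.truncGEδLT 0).app T.obj₁ = 0 := by
    rw [← cancel_mono (((t.truncLT 0).map T.mor₁)⟦(1 : ℤ)⟧'), zero_comp, Category.assoc, ← nδ,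
      ← Category.assoc, hφ, zero_comp]
  obtain ⟨ψ, hψ'⟩ : ∃ ψ : W ⟶ T.obj₁, φ = ψ ≫ (t.truncGEπ 0).app T.obj₁ :=
    Triangle.coyoneda_exact₃ _ (t.triangleLTGE_distinguished 0 T.obj₁) φ h1
  have h3 : (ψ ≫ T.mor₁) ≫ (t.truncGEπ 0).app T.obj₂ = 0 := by
    rw [Category.assoc, ← t.truncGEπ_naturality, ← Category.assoc, ← hψ', hφ]
  obtain ⟨χ, hχ'⟩ : ∃ χ : W ⟶ (t.truncLT 0).obj T.obj₂,
      ψ ≫ T.mor₁ = χ ≫ (t.truncLTι 0).app T.obj₂ :=
    Triangle.coyoneda_exact₂ _ (t.triangleLTGE_distinguished 0 T.obj₂) (ψ ≫ T.mor₁) h3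
  have nι : (t.truncLTι 0).app T.obj₁ ≫ T.mor₁ =
      (t.truncLT 0).map T.mor₁ ≫ (t.truncLTι 0).app T.obj₂ :=
    ((t.truncLTι 0).naturality T.mor₁).symm
  have hρ : ∃ ρ : W ⟶ T.obj₁,
      ρ = χ ≫ inv ((t.truncLT 0).map T.mor₁) ≫ (t.truncLTι 0).app T.obj₁ := ⟨_, rfl⟩
  obtain ⟨ρ, hρ⟩ := hρ
  have h4 : (ψ - ρ) ≫ T.mor₁ = 0 := by
    rw [Preadditive.sub_comp, hρ, Category.assoc, Category.assoc, nι, IsIso.inv_hom_id_assoc, hχ',
      sub_self]
  have h4' : (ψ - ρ) ≫ (t.truncGEπ 0).app T.obj₁ = φ := by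
    rw [Preadditive.sub_comp, hρ, Category.assoc, Category.assoc, t.truncLTι_comp_truncGEπ_app,
      comp_zero, comp_zero, sub_zero, ← hψ']
  obtain ⟨θ, hθ⟩ : ∃ θ : W ⟶ T.obj₃⟦(-1 : ℤ)⟧, (ψ - ρ) = θ ≫ T.invRotate.mor₁ :=
    Triangle.coyoneda_exact₂ _ (inv_rot_of_distTriang _ hT) _ h4
  have hθ0 : θ = 0 := t.zero_of_isLE_of_isGE θ 0 1 (by omega) hW
    (t.isGE_shift T.obj₃ 0 (-1) 1 (by omega))
  rw [hθ0, zero_comp] at hθ
  rw [← h4', hθ, zero_comp]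

section Heart

variable {H : Type u'} [Category.{v'} H] [Abelian H] [t.Heart H]

theorem mono_map (F : C ⥤ H) (e : F ⋙ t.ιHeart ≅ t.truncGE 0 ⋙ t.truncLE 0)
    (T : Triangle C) (hT : T ∈ distTriang C) (h₃ : t.IsGE T.obj₃ 0) : Mono (F.map T.mor₁) := by
  apply Preadditive.mono_of_cancel_zero
  intro W k hk
  apply t.ιHeart.map_injective
  rw [Functor.map_zero]
  have n1 : (t.truncLE 0).map ((t.truncGE 0).map T.mor₁) ≫
      (t.truncLEι 0).app ((t.truncGE 0).obj T.obj₂) =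
      (t.truncLEι 0).app ((t.truncGE 0).obj T.obj₁) ≫ (t.truncGE 0).map T.mor₁ :=
    (t.truncLEι 0).naturality ((t.truncGE 0).map T.mor₁)
  have n2 : t.ιHeart.map (F.map T.mor₁) ≫ e.hom.app T.obj₂ =
      e.hom.app T.obj₁ ≫ (t.truncLE 0).map ((t.truncGE 0).map T.mor₁) :=
    e.hom.naturality T.mor₁
  have h1 : ((t.ιHeart.map k ≫ e.hom.app T.obj₁) ≫
      (t.truncLEι 0).app ((t.truncGE 0).obj T.obj₁)) = 0 := by
    apply chaseA t T hT h₃ (inferInstance : t.IsLE (t.ιHeart.obj W) 0)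
    calc ((t.ιHeart.map k ≫ e.hom.app T.obj₁) ≫
          (t.truncLEι 0).app ((t.truncGE 0).obj T.obj₁)) ≫ (t.truncGE 0).map T.mor₁
        = t.ιHeart.map k ≫ e.hom.app T.obj₁ ≫
          ((t.truncLEι 0).app ((t.truncGE 0).obj T.obj₁) ≫ (t.truncGE 0).map T.mor₁) := by
          simp only [Category.assoc]
      _ = t.ιHeart.map k ≫ (e.hom.app T.obj₁ ≫ (t.truncLE 0).map ((t.truncGE 0).map T.mor₁)) ≫
          (t.truncLEι 0).app ((t.truncGE 0).obj T.obj₂) := by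
          rw [← n1]; simp only [Category.assoc]
      _ = t.ιHeart.map (k ≫ F.map T.mor₁) ≫ e.hom.app T.obj₂ ≫
          (t.truncLEι 0).app ((t.truncGE 0).obj T.obj₂) := by
          rw [← n2]; simp only [Functor.map_comp, Category.assoc]
      _ = 0 := by rw [hk, Functor.map_zero, zero_comp]
  have h2 : (t.ιHeart.map k ≫ e.hom.app T.obj₁ :
      t.ιHeart.obj W ⟶ (t.truncLE 0).obj ((t.truncGE 0).obj T.obj₁)) = 0 :=
    t.to_truncLE_obj_ext (by rw [zero_comp]; exact h1)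
  exact (cancel_mono (e.hom.app T.obj₁)).1 (h2.trans zero_comp.symm)

theorem exists_T2 (T : Triangle C) (hT : T ∈ distTriang C) [t.IsLE T.obj₁ 0] :
    ∃ (Q : C) (ū : T.obj₁ ⟶ (t.truncLE 0).obj T.obj₂) (q : (t.truncLE 0).obj T.obj₂ ⟶ Q)
      (r : Q ⟶ T.obj₁⟦(1 : ℤ)⟧)
      (E₁ : Q ⟶ (t.truncLE 0).obj T.obj₃) (E₂ : (t.truncLE 0).obj T.obj₃ ⟶ Q),
      ū ≫ (t.truncLEι 0).app T.obj₂ = T.mor₁ ∧ Triangle.mk ū q r ∈ distTriang C ∧
      E₁ ≫ E₂ = 𝟙 Q ∧ E₂ ≫ E₁ = 𝟙 _ ∧ q ≫ E₁ = (t.truncLE 0).map T.mor₂ := by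
  have hū : t.liftTruncLE T.mor₁ 0 ≫ (t.truncLEι 0).app T.obj₂ = T.mor₁ := t.liftTruncLE_ι _ _
  obtain ⟨Q, q, r, mem⟩ := distinguished_cocone_triangle (t.liftTruncLE T.mor₁ 0)
  have Hh := someOctahedron hū mem (t.triangleLEGT_distinguished 0 T.obj₂) hT
  haveI hA1 : t.IsLE (T.obj₁⟦(1 : ℤ)⟧) 0 := by
    haveI : t.IsLE (T.obj₁⟦(1 : ℤ)⟧) (-1) := t.isLE_shift T.obj₁ 0 1 (-1) (by omega)
    exact t.isLE_of_le _ (-1) 0 (by omega)
  haveI hQ : t.IsLE Q 0 := t.isLE₂ _ (rot_of_distTriang _ mem) 0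
    (by dsimp; infer_instance) (by dsimp; exact hA1)
  obtain ⟨E, hE⟩ := t.triangle_iso_exists Hh.mem (t.triangleLEGT_distinguished 0 T.obj₃)
    (Iso.refl _) 0 1
    (by dsimp; exact hQ) (by dsimp; exact t.isGE_truncGT_obj _ 0 1 (by omega))
    (by dsimp; infer_instance) (by dsimp; exact t.isGE_truncGT_obj _ 0 1 (by omega)) (by omega)
  refine ⟨Q, t.liftTruncLE T.mor₁ 0, q, r, E.hom.hom₁, E.inv.hom₁, hū, mem, ?_, ?_, ?_⟩
  · have := congrArg TriangleMorphism.hom₁ E.hom_inv_id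
    simpa using this
  · have := congrArg TriangleMorphism.hom₁ E.inv_hom_id
    simpa using this
  · have c1 : Hh.m₁ = E.hom.hom₁ ≫ (t.truncLEι 0).app T.obj₃ := by
      have c := E.hom.comm₁
      rw [hE] at c
      simpa using c
    have c2 : q ≫ Hh.m₁ = (t.truncLEι 0).app T.obj₂ ≫ T.mor₂ := Hh.comm₁
    have n : (t.truncLE 0).map T.mor₂ ≫ (t.truncLEι 0).app T.obj₃ =
        (t.truncLEι 0).app T.obj₂ ≫ T.mor₂ := (t.truncLEι 0).naturality T.mor₂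
    apply t.to_truncLE_obj_ext
    rw [Category.assoc, ← c1, c2, n]

theorem exact_of_isLE (F : C ⥤ H) [F.PreservesZeroMorphisms]
    (e' : F ⋙ t.ιHeart ≅ t.truncLE 0 ⋙ t.truncGE 0)
    (T : Triangle C) (hT : T ∈ distTriang C) [t.IsLE T.obj₁ 0] :
    ((shortComplexOfDistTriangle T hT).map F).Exact := by
  obtain ⟨Q, ū, q, r, E₁, E₂, hū, mem, h12, h21, hq⟩ := exists_T2 t T hT
  have Φinj : ∀ (X : C) (W : H) (y₁ y₂ : F.obj X ⟶ W),
      (t.truncGEπ 0).app ((t.truncLE 0).obj X) ≫ e'.inv.app X ≫ t.ιHeart.map y₁ =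
      (t.truncGEπ 0).app ((t.truncLE 0).obj X) ≫ e'.inv.app X ≫ t.ιHeart.map y₂ → y₁ = y₂ := by
    intro X W y₁ y₂ h
    apply t.ιHeart.map_injective
    have h' : e'.inv.app X ≫ t.ιHeart.map y₁ = e'.inv.app X ≫ t.ιHeart.map y₂ :=
      t.from_truncGE_obj_ext h
    exact (cancel_epi (e'.inv.app X)).1 h'
  have Φnat : ∀ {X X' : C} (s : X ⟶ X') (W : H) (y : F.obj X' ⟶ W),
      (t.truncGEπ 0).app ((t.truncLE 0).obj X) ≫ e'.inv.app X ≫ t.ιHeart.map (F.map s ≫ y) =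
      (t.truncLE 0).map s ≫ (t.truncGEπ 0).app ((t.truncLE 0).obj X') ≫ e'.inv.app X' ≫
        t.ιHeart.map y := by
    intro X X' s W y
    have n1 : (t.truncGE 0).map ((t.truncLE 0).map s) ≫ e'.inv.app X' =
        e'.inv.app X ≫ t.ιHeart.map (F.map s) := e'.inv.naturality s
    have n2 : (t.truncGEπ 0).app ((t.truncLE 0).obj X) ≫
        (t.truncGE 0).map ((t.truncLE 0).map s) =
        (t.truncLE 0).map s ≫ (t.truncGEπ 0).app ((t.truncLE 0).obj X') :=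
      t.truncGEπ_naturality 0 ((t.truncLE 0).map s)
    calc (t.truncGEπ 0).app ((t.truncLE 0).obj X) ≫ e'.inv.app X ≫ t.ιHeart.map (F.map s ≫ y)
        = (t.truncGEπ 0).app ((t.truncLE 0).obj X) ≫
          (e'.inv.app X ≫ t.ιHeart.map (F.map s)) ≫ t.ιHeart.map y := by
          simp only [Functor.map_comp, Category.assoc]
      _ = ((t.truncGEπ 0).app ((t.truncLE 0).obj X) ≫
          (t.truncGE 0).map ((t.truncLE 0).map s)) ≫ e'.inv.app X' ≫ t.ιHeart.map y := by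
          rw [← n1]; simp only [Category.assoc]
      _ = (t.truncLE 0).map s ≫ (t.truncGEπ 0).app ((t.truncLE 0).obj X') ≫ e'.inv.app X' ≫
          t.ιHeart.map y := by
          rw [n2]; simp only [Category.assoc]
  haveI hA1 : t.IsLE (T.obj₁⟦(1 : ℤ)⟧) (-1) := t.isLE_shift T.obj₁ 0 1 (-1) (by omega)
  have hex : ∀ (W : H) (y : F.obj T.obj₂ ⟶ W), F.map T.mor₁ ≫ y = 0 →
      ∃ z : F.obj T.obj₃ ⟶ W, F.map T.mor₂ ≫ z = y := by
    intro W y hy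
    have h0 : (t.truncLE 0).map T.mor₁ ≫ ((t.truncGEπ 0).app ((t.truncLE 0).obj T.obj₂) ≫
        e'.inv.app T.obj₂ ≫ t.ιHeart.map y) = 0 := by
      rw [← Φnat T.mor₁ W y, hy, Functor.map_zero, comp_zero, comp_zero]
    have h1 : (t.truncLEι 0).app T.obj₁ ≫ ū = (t.truncLE 0).map T.mor₁ :=
      t.to_truncLE_obj_ext (by
        rw [Category.assoc, hū]
        exact ((t.truncLEι 0).naturality T.mor₁).symm)
    have h2 : ū ≫ ((t.truncGEπ 0).app ((t.truncLE 0).obj T.obj₂) ≫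
        e'.inv.app T.obj₂ ≫ t.ιHeart.map y) = 0 := by
      have h3 : (t.truncLEι 0).app T.obj₁ ≫ ū ≫ ((t.truncGEπ 0).app ((t.truncLE 0).obj T.obj₂) ≫
          e'.inv.app T.obj₂ ≫ t.ιHeart.map y) = 0 := by
        rw [← Category.assoc, h1, h0]
      exact (cancel_epi ((t.truncLEι 0).app T.obj₁)).1 (h3.trans comp_zero.symm)
    obtain ⟨ψ₀, hψ₀⟩ := Triangle.yoneda_exact₂ _ mem _ h2
    have hψ₀' : (t.truncGEπ 0).app ((t.truncLE 0).obj T.obj₂) ≫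
        e'.inv.app T.obj₂ ≫ t.ιHeart.map y = q ≫ ψ₀ := hψ₀
    refine ⟨t.ιHeart.preimage (X := F.obj T.obj₃) (Y := W)
      (e'.hom.app T.obj₃ ≫ t.descTruncGE (E₂ ≫ ψ₀) 0), ?_⟩
    apply Φinj T.obj₂ W
    rw [Φnat T.mor₂ W, Functor.map_preimage, hψ₀']
    have k1 : e'.inv.app T.obj₃ ≫ e'.hom.app T.obj₃ ≫ t.descTruncGE (E₂ ≫ ψ₀) 0 =
        t.descTruncGE (E₂ ≫ ψ₀) 0 := by
      rw [← Category.assoc, Iso.inv_hom_id_app, Category.id_comp]
    rw [k1, t.π_descTruncGE, ← hq, Category.assoc, ← Category.assoc E₁, h12, Category.id_comp]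
  have hun : ∀ (W : H) (z : F.obj T.obj₃ ⟶ W), F.map T.mor₂ ≫ z = 0 → z = 0 := by
    intro W z hz
    have h0 : (t.truncLE 0).map T.mor₂ ≫ ((t.truncGEπ 0).app ((t.truncLE 0).obj T.obj₃) ≫
        e'.inv.app T.obj₃ ≫ t.ιHeart.map z) = 0 := by
      rw [← Φnat T.mor₂ W z, hz, Functor.map_zero, comp_zero, comp_zero]
    have h1 : q ≫ (E₁ ≫ ((t.truncGEπ 0).app ((t.truncLE 0).obj T.obj₃) ≫
        e'.inv.app T.obj₃ ≫ t.ιHeart.map z)) = 0 := by
      rw [← Category.assoc, hq, h0]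
    obtain ⟨χ₀, hχ₀⟩ := Triangle.yoneda_exact₃ _ mem _ h1
    have hχ0 : χ₀ = 0 := t.zero_of_isLE_of_isGE χ₀ (-1) 0 (by omega) hA1 inferInstance
    rw [hχ0, comp_zero] at hχ₀
    have h2 : (t.truncGEπ 0).app ((t.truncLE 0).obj T.obj₃) ≫
        e'.inv.app T.obj₃ ≫ t.ιHeart.map z = 0 := by
      have h3 := congrArg (fun m => E₂ ≫ m) hχ₀
      simp only [comp_zero] at h3
      rw [← Category.assoc, h21, Category.id_comp] at h3
      exact h3
    apply Φinj T.obj₃ W z 0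
    rw [h2, Functor.map_zero, comp_zero, comp_zero]
  exact exact_of_existsUnique _ hex hun

theorem isHomological (H0 : C ⥤ H) (e : H0 ⋙ t.ιHeart ≅ t.truncGE 0 ⋙ t.truncLE 0) :
    H0.IsHomological := by
  haveI : H0.PreservesZeroMorphisms := ⟨fun X Y => by
    apply t.ιHeart.map_injective
    have n : t.ιHeart.map (H0.map (0 : X ⟶ Y)) ≫ e.hom.app Y =
        e.hom.app X ≫ (t.truncLE 0).map ((t.truncGE 0).map (0 : X ⟶ Y)) :=
      e.hom.naturality (0 : X ⟶ Y)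
    rw [Functor.map_zero (t.truncGE 0), Functor.map_zero (t.truncLE 0), comp_zero] at n
    have n' : t.ιHeart.map (H0.map (0 : X ⟶ Y)) = 0 :=
      (cancel_mono (e.hom.app Y)).1 (n.trans zero_comp.symm)
    rw [n', Functor.map_zero]⟩
  let e' : H0 ⋙ t.ιHeart ≅ t.truncLE 0 ⋙ t.truncGE 0 := e ≪≫ (t.truncGELEIsoLEGE 0 0).symm
  refine ⟨fun T hT => ?_⟩
  obtain ⟨U, b, c, mem⟩ := distinguished_cocone_triangle ((t.truncLEι 0).app T.obj₁ ≫ T.mor₁)
  have Hh := someOctahedron (rfl : (t.truncLEι 0).app T.obj₁ ≫ T.mor₁ = _)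
    (t.triangleLEGT_distinguished 0 T.obj₁) hT mem
  haveI hge : t.IsGE (((t.truncGT 0).obj T.obj₁)⟦(1 : ℤ)⟧) 0 := by
    haveI : t.IsGE ((t.truncGT 0).obj T.obj₁) 1 := t.isGE_truncGT_obj _ 0 1 (by omega)
    exact t.isGE_shift _ 1 1 0 (by omega)
  have hmono : Mono (H0.map Hh.m₃) :=
    mono_map t H0 e _ (rot_of_distTriang _ Hh.mem) (by dsimp; exact hge)
  haveI : t.IsLE (Triangle.mk ((t.truncLEι 0).app T.obj₁ ≫ T.mor₁) b c).obj₁ 0 := by
    dsimp; infer_instance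
  have hS'' := exact_of_isLE t H0 e' _ mem
  haveI : t.IsLE ((t.triangleLEGT 0).obj T.obj₁).obj₁ 0 := by dsimp; infer_instance
  have hS₁ := exact_of_isLE t H0 e' _ (t.triangleLEGT_distinguished 0 T.obj₁)
  have hz : IsZero (H0.obj ((t.truncGT 0).obj T.obj₁)) := by
    haveI : t.IsGE ((t.truncGT 0).obj T.obj₁) 1 := t.isGE_truncGT_obj _ 0 1 (by omega)
    have hz1 : IsZero ((t.truncLE 0).obj ((t.truncGE 0).obj ((t.truncGT 0).obj T.obj₁))) :=
      t.isZero_truncLE_obj_of_isGE 0 1 (by omega) _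
    have hz2 : IsZero (t.ιHeart.obj (H0.obj ((t.truncGT 0).obj T.obj₁))) :=
      hz1.of_iso (e.app _)
    rw [IsZero.iff_id_eq_zero]
    apply t.ιHeart.map_injective
    rw [CategoryTheory.Functor.map_id, Functor.map_zero]
    exact hz2.eq_of_src _ _
  have hepi : Epi (H0.map ((t.truncLEι 0).app T.obj₁)) := hS₁.epi_f (hz.eq_of_tgt _ _)
  have c₁₂ : H0.map ((t.truncLEι 0).app T.obj₁) ≫ H0.map T.mor₁ =
      H0.map ((t.truncLEι 0).app T.obj₁ ≫ T.mor₁) ≫ 𝟙 _ := by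
    rw [Category.comp_id, Functor.map_comp]
  have c₂₃ : 𝟙 _ ≫ H0.map T.mor₂ = H0.map b ≫ H0.map Hh.m₃ := by
    rw [Category.id_comp, ← Functor.map_comp, Hh.comm₃]
  let φ : (shortComplexOfDistTriangle _ mem).map H0 ⟶ (shortComplexOfDistTriangle T hT).map H0 :=
    ShortComplex.homMk (H0.map ((t.truncLEι 0).app T.obj₁)) (𝟙 _) (H0.map Hh.m₃) c₁₂ c₂₃
  haveI : Epi φ.τ₁ := hepi
  haveI : IsIso φ.τ₂ := (inferInstance : IsIso (𝟙 (H0.obj T.obj₂)))
  haveI : Mono φ.τ₃ := hmono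
  exact (ShortComplex.exact_iff_of_epi_of_isIso_of_mono φ).1 hS''

end Heart

end Groth.Agent.Helper22.THomol
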