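import Mathlib
import Groth.Prelude.Def_EtRam
import Groth.Agent.Lib.Helper22.TameKum

/-!
# Converse: unramified after adjoining a root of the uniformizer implies tamely ramified (S9328)
-/

set_option autoImplicit false
universe u

open TensorProduct IsLocalRing

namespace Groth.Agent.Helper22.TameKum2

open Groth.Agent.Helper22.SolTower Groth.Agent.Helper22.WUGen Groth.Agent.Helper22.CompCtx
  Groth.Agent.Helper22.WUSep Groth.Agent.Helper22.KummerCT Groth.Agent.Helper22.Abh
  Groth.Agent.Helper22.TameBC Groth.Agent.Helper22.GalClos Groth.Agent.Helper22.TotRam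
  Groth.Agent.Helper22.TameKum

/-! ### the ring `A[X]/(X^e - π)` -/

theorem root_pow (A : Type u) [CommRing A] (π : A) (e : ℕ) (f : Polynomial A)
    (hf : f = Polynomial.X ^ e - Polynomial.C π) :
    (AdjoinRoot.root f) ^ e = AdjoinRoot.of f π := by
  subst hf
  have h := AdjoinRoot.eval₂_root (Polynomial.X ^ e - Polynomial.C π : Polynomial A)
  rw [Polynomial.eval₂_sub, Polynomial.eval₂_pow, Polynomial.eval₂_X, Polynomial.eval₂_C] at h
  exact sub_eq_zero.mp h

theorem exists_chi (A : Type u) [CommRing A] [IsLocalRing A] (π : A)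
    (hπm : π ∈ maximalIdeal A) (e : ℕ) (he : 0 < e) (f : Polynomial A)
    (hf : f = Polynomial.X ^ e - Polynomial.C π) :
    ∃ χ : AdjoinRoot f →+* ResidueField A,
      (∀ a, χ (AdjoinRoot.of f a) = residue A a) ∧ χ (AdjoinRoot.root f) = 0 := by
  subst hf
  have hχ0 : (Polynomial.X ^ e - Polynomial.C π : Polynomial A).eval₂ (residue A) 0 = 0 := by
    rw [Polynomial.eval₂_sub, Polynomial.eval₂_pow, Polynomial.eval₂_X, Polynomial.eval₂_C,
      zero_pow he.ne', zero_sub, neg_eq_zero]
    exact (residue_eq_zero_iff _).mpr hπm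
  exact ⟨AdjoinRoot.lift (residue A) 0 hχ0, fun a => AdjoinRoot.lift_of hχ0,
    AdjoinRoot.lift_root hχ0⟩

theorem decomp (A : Type u) [CommRing A] (f : Polynomial A) (x : AdjoinRoot f) :
    ∃ (a : A) (b : AdjoinRoot f), x = b * AdjoinRoot.root f + AdjoinRoot.of f a := by
  obtain ⟨p, rfl⟩ := AdjoinRoot.mk_surjective x
  refine ⟨p.coeff 0, AdjoinRoot.mk f p.divX, ?_⟩
  have h := Polynomial.divX_mul_X_add p
  conv_lhs => rw [← h]
  rw [map_add, map_mul, AdjoinRoot.mk_X, AdjoinRoot.mk_C]

theorem adjoinRoot_max (A : Type u) [CommRing A] [IsLocalRing A] (π : A)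
    (hπm : π ∈ maximalIdeal A) (e : ℕ) (he : 0 < e) (f : Polynomial A)
    (hf : f = Polynomial.X ^ e - Polynomial.C π) (χ : AdjoinRoot f →+* ResidueField A)
    (hχof : ∀ a, χ (AdjoinRoot.of f a) = residue A a) (hχroot : χ (AdjoinRoot.root f) = 0)
    (𝔫 : Ideal (AdjoinRoot f)) (h𝔫 : 𝔫.IsMaximal) : 𝔫 = RingHom.ker χ := by
  have hmonic : f.Monic := by rw [hf]; exact Polynomial.monic_X_pow_sub_C π he.ne'
  haveI : Module.Finite A (AdjoinRoot f) := hmonic.finite_adjoinRoot
  haveI : Algebra.IsIntegral A (AdjoinRoot f) := Algebra.IsIntegral.of_finite A _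
  haveI := h𝔫
  have hcm : (𝔫.comap (algebraMap A (AdjoinRoot f))).IsMaximal :=
    Ideal.isMaximal_comap_of_isIntegral_of_isMaximal 𝔫
  have hcomap : 𝔫.comap (algebraMap A (AdjoinRoot f)) = maximalIdeal A :=
    IsLocalRing.eq_maximalIdeal hcm
  have hofmem : ∀ a ∈ maximalIdeal A, AdjoinRoot.of f a ∈ 𝔫 := by
    intro a ha
    have h3 : a ∈ 𝔫.comap (algebraMap A (AdjoinRoot f)) := by rw [hcomap]; exact ha
    rw [Ideal.mem_comap, AdjoinRoot.algebraMap_eq] at h3
    exact h3
  have hroot𝔫 : AdjoinRoot.root f ∈ 𝔫 := by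
    have h1 : (AdjoinRoot.root f) ^ e ∈ 𝔫 := by
      rw [root_pow A π e f hf]
      exact hofmem π hπm
    exact h𝔫.isPrime.mem_of_pow_mem e h1
  have hsurjχ : Function.Surjective χ := by
    intro y
    obtain ⟨a, rfl⟩ := residue_surjective y
    exact ⟨AdjoinRoot.of f a, hχof a⟩
  have hkermax : (RingHom.ker χ).IsMaximal := RingHom.ker_isMaximal_of_surjective χ hsurjχ
  have hle : RingHom.ker χ ≤ 𝔫 := by
    intro x hx
    obtain ⟨a, b, rfl⟩ := decomp A f x
    rw [RingHom.mem_ker, map_add, map_mul, hχroot, mul_zero, zero_add, hχof] at hx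
    have ha : a ∈ maximalIdeal A := (residue_eq_zero_iff a).mp hx
    exact 𝔫.add_mem (𝔫.mul_mem_left b hroot𝔫) (hofmem a ha)
  exact (hkermax.eq_of_le h𝔫.ne_top hle).symm

theorem isLocalRing_adjoinRoot (A : Type u) [CommRing A] [IsLocalRing A] (π : A)
    (hπm : π ∈ maximalIdeal A) (e : ℕ) (he : 0 < e) (f : Polynomial A)
    (hf : f = Polynomial.X ^ e - Polynomial.C π) : IsLocalRing (AdjoinRoot f) := by
  obtain ⟨χ, hχof, hχroot⟩ := exists_chi A π hπm e he f hf
  have hsurjχ : Function.Surjective χ := by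
    intro y
    obtain ⟨a, rfl⟩ := residue_surjective y
    exact ⟨AdjoinRoot.of f a, hχof a⟩
  have hkermax : (RingHom.ker χ).IsMaximal := RingHom.ker_isMaximal_of_surjective χ hsurjχ
  exact IsLocalRing.of_unique_max_ideal ⟨RingHom.ker χ, hkermax, fun 𝔫 h𝔫 =>
    adjoinRoot_max A π hπm e he f hf χ hχof hχroot 𝔫 h𝔫⟩

/-! ### the converse -/

theorem tame_of_kummer (A K L : Type u) [CommRing A] [IsDomain A] [IsDiscreteValuationRing A]
    [Field K] [Algebra A K] [IsFractionRing A K] [Field L] [Algebra K L] [FiniteDimensional K L]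
    (π : A) (hπ : maximalIdeal A = Ideal.span {π}) (e : ℕ) (he : 0 < e)
    (heκ : ((e : ℕ) : ResidueField A) ≠ 0) (f : Polynomial A)
    (hf : f = Polynomial.X ^ e - Polynomial.C π) (L' : Type u) [Field L'] [Algebra K L']
    [Algebra (AdjoinRoot f) L'] (φ : L →ₐ[K] L') [FiniteDimensional K L']
    (hcompat : (algebraMap (AdjoinRoot f) L').comp (AdjoinRoot.of f) =
      (algebraMap K L').comp (algebraMap A K))
    (hunr : ∀ (_ : IsLocalRing (AdjoinRoot f)),
      EtRam.IsUnramifiedExt (AdjoinRoot f) (algebraMap (AdjoinRoot f) L')) :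
    EtRam.IsTamelyRamified A ((algebraMap K L).comp (algebraMap A K)) := by
  classical
  have hπirr : Irreducible π := (IsDiscreteValuationRing.irreducible_iff_uniformizer π).mpr hπ
  have hπAmem : π ∈ maximalIdeal A := (mem_maximalIdeal _).mpr hπirr.not_isUnit
  obtain ⟨χ, hχof, hχroot⟩ := exists_chi A π hπAmem e he f hf
  haveI locA' : IsLocalRing (AdjoinRoot f) := isLocalRing_adjoinRoot A π hπAmem e he f hf
  have hmaxA' : maximalIdeal (AdjoinRoot f) = RingHom.ker χ :=
    adjoinRoot_max A π hπAmem e he f hf χ hχof hχroot _ (maximalIdeal.isMaximal _)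
  have hunr' := hunr locA'
  intro V hV
  intro instLoc
  letI algAV : Algebra A V :=
    (RingHom.codRestrict ((algebraMap K L).comp (algebraMap A K)) V hV.1).toAlgebra
  haveI : IsLocalHom (algebraMap A V) := instLoc
  show Algebra.IsSeparable (ResidueField A) (ResidueField V) ∧
    ∀ p : ℕ, p.Prime → CharP (ResidueField A) p →
      ¬ p ∣ Ideal.ramificationIdx' (maximalIdeal A) (maximalIdeal V)
  -- a valuation ring of `L'` dominating `V`
  obtain ⟨W, hWV⟩ := exists_dominating (((φ : L →+* L')).comp (V.subtype))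
  obtain ⟨θV, hθV⟩ : ∃ θV : V →+* W,
      θV = RingHom.codRestrict (((φ : L →+* L')).comp V.subtype) W hWV.1 := ⟨_, rfl⟩
  haveI locθV : IsLocalHom θV := by rw [hθV]; exact isLocalHom_of_dominates _ _ hWV
  have hθVv : ∀ v : V, ((θV v : W) : L') = φ (v : L) := by
    intro v; rw [hθV]; rfl
  have hφg : ∀ a : A, φ (algebraMap K L (algebraMap A K a)) =
      algebraMap K L' (algebraMap A K a) := fun a => φ.commutes _
  have hAVv : ∀ a : A, ((algebraMap A V a : V) : L) = algebraMap K L (algebraMap A K a) :=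
    fun a => rfl
  have hWA : EtRam.Dominates A ((algebraMap K L').comp (algebraMap A K)) W := by
    refine ⟨fun a => ?_, fun a ha => ?_⟩
    · have h3 := hWV.1 (algebraMap A V a)
      have h4 : (((φ : L →+* L')).comp V.subtype) (algebraMap A V a) =
          algebraMap K L' (algebraMap A K a) := hφg a
      rw [h4] at h3
      exact h3
    · have h3 := hWV.2 (algebraMap A V a) (map_nonunit (algebraMap A V) a ha)
      have h4 : (((φ : L →+* L')).comp V.subtype) (algebraMap A V a) =
          algebraMap K L' (algebraMap A K a) := hφg a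
      rw [h4] at h3
      exact h3
  obtain ⟨θA, hθA⟩ : ∃ θA : A →+* W,
      θA = RingHom.codRestrict ((algebraMap K L').comp (algebraMap A K)) W hWA.1 := ⟨_, rfl⟩
  have hθAv : ∀ a, ((θA a : W) : L') = algebraMap K L' (algebraMap A K a) := by
    intro a; rw [hθA]; rfl
  have hθVA : ∀ a, θV (algebraMap A V a) = θA a := by
    intro a
    apply Subtype.ext
    rw [hθVv, hθAv, hAVv, hφg]
  haveI locθA : IsLocalHom θA := by rw [hθA]; exact isLocalHom_of_dominates _ _ hWA
  have hθAinj : Function.Injective θA := by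
    intro x y hxy
    have h1 : algebraMap K L' (algebraMap A K x) = algebraMap K L' (algebraMap A K y) := by
      rw [← hθAv, ← hθAv, hxy]
    exact IsFractionRing.injective A K ((algebraMap K L').injective h1)
  -- the root in `W`
  obtain ⟨zL, hzL⟩ : ∃ zL : L', zL = algebraMap (AdjoinRoot f) L' (AdjoinRoot.root f) :=
    ⟨_, rfl⟩
  have hofL : ∀ a : A, algebraMap (AdjoinRoot f) L' (AdjoinRoot.of f a) =
      algebraMap K L' (algebraMap A K a) := by
    intro a
    exact congrArg (fun ψ : A →+* L' => ψ a) hcompat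
  have hzLe : zL ^ e = algebraMap K L' (algebraMap A K π) := by
    rw [hzL, ← map_pow, root_pow A π e f hf, hofL]
  have hθAπm : θA π ∈ maximalIdeal W := map_nonunit θA π hπAmem
  have hθAπ0 : θA π ≠ 0 := fun h0 => hπirr.ne_zero (hθAinj (by rw [h0, map_zero]))
  have hzL0 : zL ≠ 0 := by
    intro h0
    rw [h0, zero_pow he.ne'] at hzLe
    apply hθAπ0
    apply Subtype.ext
    rw [hθAv, ← hzLe]
    rfl
  have hzLW : zL ∈ W := by
    rcases W.mem_or_inv_mem zL with h | h
    · exact h
    · exfalso
      have h3 : (1 : W) = (⟨zL⁻¹, h⟩ : W) ^ e * θA π := by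
        apply Subtype.ext
        show (1 : L') = (zL⁻¹) ^ e * ((θA π : W) : L')
        rw [hθAv, ← hzLe, inv_pow, inv_mul_cancel₀ (pow_ne_zero _ hzL0)]
      have h4 : (1 : W) ∈ maximalIdeal W := by
        rw [h3]
        exact Ideal.mul_mem_left _ _ hθAπm
      exact (mem_maximalIdeal _).mp h4 isUnit_one
  obtain ⟨zW, hzWdef⟩ : ∃ zW : W, zW = ⟨zL, hzLW⟩ := ⟨_, rfl⟩
  have hzWv : (zW : L') = zL := by rw [hzWdef]
  have hzWe : zW ^ e = θA π := by
    apply Subtype.ext
    show (zW : L') ^ e = ((θA π : W) : L')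
    rw [hzWv, hθAv, hzLe]
  have hzWm : zW ∈ maximalIdeal W := by
    rw [mem_maximalIdeal, mem_nonunits_iff]
    intro hu
    have h3 : IsUnit (zW ^ e) := hu.pow e
    rw [hzWe] at h3
    exact (mem_maximalIdeal _).mp hθAπm h3
  -- `W` dominates `A[X]/(X^e - π)`
  have hA'W : ∀ a' : AdjoinRoot f, algebraMap (AdjoinRoot f) L' a' ∈ W := by
    intro a'
    obtain ⟨p, rfl⟩ := AdjoinRoot.mk_surjective a'
    induction p using Polynomial.induction_on' with
    | add p₁ p₂ h₁ h₂ =>
      rw [map_add, map_add]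
      exact add_mem h₁ h₂
    | monomial n a =>
      have h3 : AdjoinRoot.mk f (Polynomial.monomial n a) =
          AdjoinRoot.of f a * (AdjoinRoot.root f) ^ n := by
        rw [← Polynomial.C_mul_X_pow_eq_monomial, map_mul, map_pow, AdjoinRoot.mk_C,
          AdjoinRoot.mk_X]
      rw [h3, map_mul, map_pow, hofL, ← hzL]
      exact mul_mem (hWA.1 a) (pow_mem hzLW n)
  have hdomA' : EtRam.Dominates (AdjoinRoot f) (algebraMap (AdjoinRoot f) L') W := by
    refine ⟨hA'W, fun a' ha' => ?_⟩
    rw [hmaxA', RingHom.mem_ker] at ha'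
    obtain ⟨a, b, rfl⟩ := decomp A f a'
    rw [map_add, map_mul, hχroot, mul_zero, zero_add, hχof] at ha'
    have ha : a ∈ maximalIdeal A := (residue_eq_zero_iff a).mp ha'
    have h3 : (⟨algebraMap (AdjoinRoot f) L' (b * AdjoinRoot.root f + AdjoinRoot.of f a),
        hA'W _⟩ : W) = ⟨algebraMap (AdjoinRoot f) L' b, hA'W b⟩ * zW + θA a := by
      apply Subtype.ext
      show algebraMap (AdjoinRoot f) L' (b * AdjoinRoot.root f + AdjoinRoot.of f a) =
        algebraMap (AdjoinRoot f) L' b * (zW : L') + ((θA a : W) : L')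
      rw [map_add, map_mul, hofL, hzWv, hzL, hθAv]
    have h4 : (⟨algebraMap (AdjoinRoot f) L' (b * AdjoinRoot.root f + AdjoinRoot.of f a),
        hA'W _⟩ : W) ∈ maximalIdeal W := by
      rw [h3]
      exact Ideal.add_mem _ (Ideal.mul_mem_left _ _ hzWm) (map_nonunit θA a ha)
    exact (ValuationSubring.valuation_lt_one_iff W _).mp h4
  letI algA'W : Algebra (AdjoinRoot f) W :=
    (RingHom.codRestrict (algebraMap (AdjoinRoot f) L') W hdomA'.1).toAlgebra
  haveI locA'W : IsLocalHom (algebraMap (AdjoinRoot f) W) := isLocalHom_of_dominates _ _ hdomA'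
  obtain ⟨hWU', hsep'⟩ := @hunr' W hdomA' locA'W
  haveI : Algebra.IsSeparable (ResidueField (AdjoinRoot f)) (ResidueField W) := hsep'
  have hA'Wv : ∀ a' : AdjoinRoot f, ((algebraMap (AdjoinRoot f) W a' : W) : L') =
      algebraMap (AdjoinRoot f) L' a' := fun a' => rfl
  have hA'Wof : ∀ a : A, algebraMap (AdjoinRoot f) W (AdjoinRoot.of f a) = θA a := by
    intro a
    apply Subtype.ext
    rw [hA'Wv, hofL, hθAv]
  have hA'Wroot : algebraMap (AdjoinRoot f) W (AdjoinRoot.root f) = zW := by
    apply Subtype.ext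
    rw [hA'Wv, hzWv, hzL]
  -- residue fields
  haveI locof : IsLocalHom (AdjoinRoot.of f) := by
    constructor
    intro a hu
    have h3 : IsUnit (χ (AdjoinRoot.of f a)) := hu.map χ
    rw [hχof] at h3
    by_contra hnu
    have h5 : a ∈ maximalIdeal A := (mem_maximalIdeal _).mpr hnu
    rw [(residue_eq_zero_iff a).mpr h5] at h3
    exact not_isUnit_zero h3
  have hr0 : residue (AdjoinRoot f) (AdjoinRoot.root f) = 0 := by
    rw [residue_eq_zero_iff, hmaxA', RingHom.mem_ker, hχroot]
  have hρsurj : Function.Surjective (ResidueField.map (AdjoinRoot.of f)) := by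
    intro y
    obtain ⟨a', rfl⟩ := residue_surjective y
    obtain ⟨a, b, rfl⟩ := decomp A f a'
    refine ⟨residue A a, ?_⟩
    rw [ResidueField.map_residue, map_add, map_mul, hr0, mul_zero, zero_add]
  have hcompρ : (algebraMap (ResidueField (AdjoinRoot f)) (ResidueField W)).comp
      (ResidueField.map (AdjoinRoot.of f)) =
      (ResidueField.map θV).comp (algebraMap (ResidueField A) (ResidueField V)) := by
    refine RingHom.ext (fun y => ?_)
    obtain ⟨a, rfl⟩ := residue_surjective y
    show algebraMap (ResidueField (AdjoinRoot f)) (ResidueField W)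
      (ResidueField.map (AdjoinRoot.of f) (residue A a)) =
      ResidueField.map θV (algebraMap (ResidueField A) (ResidueField V) (residue A a))
    rw [ResidueField.map_residue]
    have e1 : algebraMap (ResidueField (AdjoinRoot f)) (ResidueField W)
        (residue (AdjoinRoot f) (AdjoinRoot.of f a)) =
        residue W (algebraMap (AdjoinRoot f) W (AdjoinRoot.of f a)) := rfl
    have e2 : algebraMap (ResidueField A) (ResidueField V) (residue A a) =
        residue V (algebraMap A V a) := rfl
    rw [e1, e2, ResidueField.map_residue, hA'Wof, hθVA]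
  refine ⟨?_, ?_⟩
  · rw [Algebra.isSeparable_def]
    intro y
    have hy : IsSeparable (ResidueField (AdjoinRoot f)) (ResidueField.map θV y) :=
      Algebra.IsSeparable.isSeparable _ _
    obtain ⟨f₀, hf₀⟩ := Polynomial.map_surjective _ hρsurj
      (minpoly (ResidueField (AdjoinRoot f)) (ResidueField.map θV y))
    have hf₀sep : f₀.Separable := by
      rw [← Polynomial.separable_map (ResidueField.map (AdjoinRoot.of f)), hf₀]
      exact hy
    have hroot : Polynomial.aeval y f₀ = 0 := by
      have h3 : Polynomial.eval₂ ((ResidueField.map θV).comp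
          (algebraMap (ResidueField A) (ResidueField V))) (ResidueField.map θV y) f₀ = 0 := by
        rw [← hcompρ, ← Polynomial.eval₂_map, hf₀, ← Polynomial.aeval_def, minpoly.aeval]
      rw [← Polynomial.hom_eval₂] at h3
      rw [Polynomial.aeval_def]
      exact (map_eq_zero_iff _ (ResidueField.map θV).injective).mp h3
    exact hf₀sep.of_dvd (minpoly.dvd (ResidueField A) y hroot)
  · intro p hp hcp
    haveI dvrV : IsDiscreteValuationRing V := isDVR_of_dominates A K L V hV
    haveI dvrW : IsDiscreteValuationRing W := isDVR_of_dominates A K L' W hWA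
    have hinjAV : Function.Injective (algebraMap A V) := injective_codRestrict A K L V hV
    obtain ⟨ϖV, hϖV⟩ := IsDiscreteValuationRing.exists_irreducible V
    have hneV : algebraMap A V π ≠ 0 := fun h0 =>
      hπirr.ne_zero ((map_eq_zero_iff _ hinjAV).mp h0)
    obtain ⟨eV, uV, hVrel⟩ := IsDiscreteValuationRing.associated_pow_irreducible hneV hϖV
    have hramV : Ideal.ramificationIdx' (maximalIdeal A) (maximalIdeal V) = eV :=
      ramIdx_eq π hπirr ϖV hϖV eV uV hVrel
    rw [hramV]
    have hmW : maximalIdeal W = Ideal.span {zW} := by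
      apply le_antisymm
      · have h3 : (maximalIdeal (AdjoinRoot f)).map (algebraMap (AdjoinRoot f) W) =
            maximalIdeal W := hWU'
        rw [← h3]
        refine Ideal.map_le_iff_le_comap.mpr (fun a' ha' => ?_)
        rw [hmaxA', RingHom.mem_ker] at ha'
        obtain ⟨a, b, rfl⟩ := decomp A f a'
        rw [map_add, map_mul, hχroot, mul_zero, zero_add, hχof] at ha'
        have ha : a ∈ maximalIdeal A := (residue_eq_zero_iff a).mp ha'
        rw [hπ, Ideal.mem_span_singleton'] at ha
        obtain ⟨a₁, rfl⟩ := ha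
        rw [Ideal.mem_comap, map_add, map_mul, hA'Wroot, hA'Wof, map_mul, ← hzWe]
        exact Ideal.add_mem _ (Ideal.mul_mem_left _ _ (Ideal.mem_span_singleton_self zW))
          (Ideal.mul_mem_left _ _
            (Ideal.pow_mem_of_mem _ (Ideal.mem_span_singleton_self zW) e he))
      · rw [Ideal.span_singleton_le_iff_mem]
        exact hzWm
    have hzWirr : Irreducible zW :=
      (IsDiscreteValuationRing.irreducible_iff_uniformizer zW).mpr hmW
    have hθVinj : Function.Injective θV := by
      intro x y hxy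
      have h1 : φ (x : L) = φ (y : L) := by rw [← hθVv, ← hθVv, hxy]
      exact Subtype.ext (φ.toRingHom.injective h1)
    have hne2 : θV ϖV ≠ 0 := fun h0 => hϖV.ne_zero (hθVinj (by rw [h0, map_zero]))
    obtain ⟨k, w, hkw⟩ := IsDiscreteValuationRing.associated_pow_irreducible hne2 hzWirr
    have hrel2 : θA π * (θV (uV : V) * (w : W) ^ eV) = zW ^ (k * eV) := by
      calc θA π * (θV (uV : V) * (w : W) ^ eV)
          = (θV (algebraMap A V π) * θV (uV : V)) * (w : W) ^ eV := by
            rw [hθVA]; ring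
        _ = (θV ϖV) ^ eV * (w : W) ^ eV := by rw [← map_mul, hVrel, map_pow]
        _ = (θV ϖV * (w : W)) ^ eV := by rw [mul_pow]
        _ = zW ^ (k * eV) := by rw [hkw, pow_mul]
    obtain ⟨U, hU⟩ : ∃ U : Wˣ, (U : W) = θV (uV : V) * (w : W) ^ eV :=
      ⟨(uV.isUnit.map θV).unit * w ^ eV, by
        rw [Units.val_mul, Units.val_pow_eq_pow_val, IsUnit.unit_spec]⟩
    letI algAW : Algebra A W := θA.toAlgebra
    have hr1 : Ideal.ramificationIdx' (maximalIdeal A) (maximalIdeal W) = e :=
      ramIdx_eq π hπirr zW hzWirr e 1 (by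
        show θA π * ((1 : Wˣ) : W) = zW ^ e
        rw [Units.val_one, mul_one, hzWe])
    have hr2 : Ideal.ramificationIdx' (maximalIdeal A) (maximalIdeal W) = k * eV :=
      ramIdx_eq π hπirr zW hzWirr (k * eV) U (by
        show θA π * (U : W) = zW ^ (k * eV)
        rw [hU]
        exact hrel2)
    have hek : e = k * eV := by rw [← hr1, hr2]
    intro hdvd
    apply heκ
    haveI := hcp
    rw [CharP.cast_eq_zero_iff (ResidueField A) p e, hek]
    exact Dvd.dvd.mul_left hdvd k

end Groth.Agent.Helper22.TameKum2
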