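import Groth.Agent.Lib.Helper22.UnipAct
import Groth.Prelude.Def_GLin
import Mathlib

/-!
# Comodules over the group algebra `k[Λ]` of a torus: weight decomposition
-/

set_option autoImplicit false
namespace Groth.Agent.Helper22.TorusGr
open TensorProduct Groth.Agent.Helper12
open scoped Classical
universe u v w

section Basic
variable {k : Type u} [Field k] {Λ : Type v} [AddCommGroup Λ]

/-- coefficient functional on `k[Λ]` -/
noncomputable def ev (w : Λ) : AddMonoidAlgebra k Λ →ₗ[k] k := (AddMonoidAlgebra.basis Λ k).coord w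

theorem ev_apply (w : Λ) (a : AddMonoidAlgebra k Λ) : ev w a = a.coeff w := rfl

theorem ev_single (w u : Λ) (c : k) :
    ev w (AddMonoidAlgebra.single u c) = if u = w then c else 0 := by
  rw [ev_apply, AddMonoidAlgebra.coeff_single, Finsupp.single_apply]

theorem rtrans_ev (w : Λ) (a : AddMonoidAlgebra k Λ) :
    rtrans (ev w) a = ev w a • AddMonoidAlgebra.single w (1 : k) := by
  have h : rtrans (ev (k := k) w) = (ev w).smulRight (AddMonoidAlgebra.single w (1 : k)) := by
    apply AddMonoidAlgebra.lhom_ext'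
    intro u
    apply LinearMap.ext_ring
    simp only [LinearMap.comp_apply, AddMonoidAlgebra.lsingle_apply, LinearMap.smulRight_apply,
      rtrans, LinearEquiv.coe_coe, AddMonoidAlgebra.comul_single, CommSemiring.comul_apply,
      TensorProduct.map_tmul, LinearMap.lTensor_tmul, TensorProduct.rid_tmul, ev_single]
    split_ifs with h
    · subst h; simp
    · simp
  rw [h, LinearMap.smulRight_apply]

variable {V : Type w} [AddCommGroup V] [Module k V]

theorem lTensor_rtrans_ev (w : Λ) (z : V ⊗[k] AddMonoidAlgebra k Λ) :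
    (rtrans (ev w)).lTensor V z = slice (ev w) z ⊗ₜ[k] AddMonoidAlgebra.single w (1 : k) := by
  induction z using TensorProduct.induction_on with
  | zero => simp
  | tmul r a =>
    rw [LinearMap.lTensor_tmul, rtrans_ev, slice_tmul, TensorProduct.tmul_smul,
      TensorProduct.smul_tmul']
  | add a b ha hb => rw [map_add, map_add, ha, hb, TensorProduct.add_tmul]

variable [HopfRep.Comod k (AddMonoidAlgebra k Λ) V]

variable (k) in
/-- the projection onto the weight-`w` component -/
noncomputable def pr (w : Λ) : V →ₗ[k] V :=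
  slice (ev w) ∘ₗ HopfRep.Comod.coact (k := k) (A := AddMonoidAlgebra k Λ)

theorem pr_apply (w : Λ) (v : V) :
    pr k w v = slice (ev w) (HopfRep.Comod.coact (k := k) (A := AddMonoidAlgebra k Λ) v) := rfl

theorem coact_pr (w : Λ) (v : V) :
    HopfRep.Comod.coact (k := k) (A := AddMonoidAlgebra k Λ) (pr k w v) =
      pr k w v ⊗ₜ[k] AddMonoidAlgebra.single w (1 : k) := by
  rw [pr_apply, coact_slice_coact, lTensor_rtrans_ev]

theorem pr_mem (w : Λ) (v : V) :
    pr k w v ∈ HopfRep.eigenspace k (AddMonoidAlgebra k Λ) V (AddMonoidAlgebra.single w 1) :=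
  coact_pr w v

theorem pr_of_mem {u : Λ} {v : V}
    (hv : v ∈ HopfRep.eigenspace k (AddMonoidAlgebra k Λ) V (AddMonoidAlgebra.single u 1))
    (w : Λ) : pr k w v = if u = w then v else 0 := by
  have hv' : HopfRep.Comod.coact (k := k) (A := AddMonoidAlgebra k Λ) v =
      v ⊗ₜ[k] AddMonoidAlgebra.single u (1 : k) := hv
  rw [pr_apply, hv', slice_tmul, ev_single]
  split_ifs <;> simp

theorem pr_of_mem_fixedPts {v : V}
    (hv : HopfRep.Comod.coact (k := k) (A := AddMonoidAlgebra k Λ) v = v ⊗ₜ[k] 1) :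
    pr k (0 : Λ) v = v := by
  have : v ∈ HopfRep.eigenspace k (AddMonoidAlgebra k Λ) V (AddMonoidAlgebra.single 0 1) := by
    show HopfRep.Comod.coact (k := k) (A := AddMonoidAlgebra k Λ) v = _
    rw [hv, AddMonoidAlgebra.one_def]
  rw [pr_of_mem this, if_pos rfl]

variable (k Λ) in
/-- the finitely supported family of weight components -/
noncomputable def comps (v : V) : Λ →₀ V :=
  TensorProduct.equivFinsuppOfBasisRight (AddMonoidAlgebra.basis Λ k)
    (HopfRep.Comod.coact (k := k) (A := AddMonoidAlgebra k Λ) v)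

theorem comps_apply (v : V) (w : Λ) : comps k Λ v w = pr k w v := by
  unfold comps
  rw [TensorProduct.equivFinsuppOfBasisRight_apply]
  rfl

omit [HopfRep.Comod k (AddMonoidAlgebra k Λ) V] in
theorem slice_counit_eq (z : V ⊗[k] AddMonoidAlgebra k Λ) :
    slice (Coalgebra.counit (R := k) (A := AddMonoidAlgebra k Λ)) z =
      (TensorProduct.equivFinsuppOfBasisRight (AddMonoidAlgebra.basis Λ k) z).sum
        (fun _ r => r) := by
  set D := TensorProduct.equivFinsuppOfBasisRight (AddMonoidAlgebra.basis Λ k) z with hD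
  have hz : z = D.sum fun i m => m ⊗ₜ[k] (AddMonoidAlgebra.basis Λ k) i := by
    rw [← TensorProduct.equivFinsuppOfBasisRight_symm_apply, hD, LinearEquiv.symm_apply_apply]
  conv_lhs => rw [hz]
  rw [map_finsuppSum]
  refine Finsupp.sum_congr fun i _ => ?_
  rw [slice_tmul, AddMonoidAlgebra.basis_apply, AddMonoidAlgebra.counit_single,
    CommSemiring.counit_apply, one_smul]

theorem sum_comps (v : V) : (comps k Λ v).sum (fun _ r => r) = v := by
  unfold comps
  rw [← slice_counit_eq, slice_counit_coact]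

end Basic

section Alg
variable {k : Type u} [Field k] {Λ : Type v} [AddCommGroup Λ]
variable {R : Type w} [CommRing R] [Algebra k R]

theorem slice_mul_tmul (u w : Λ) (g : R) (z : R ⊗[k] AddMonoidAlgebra k Λ) :
    slice (ev u) (z * (g ⊗ₜ[k] AddMonoidAlgebra.single w (1 : k))) =
      slice (ev (u - w)) z * g := by
  induction z using TensorProduct.induction_on with
  | zero => simp
  | tmul r a =>
    rw [Algebra.TensorProduct.tmul_mul_tmul, slice_tmul, slice_tmul, ev_apply, ev_apply,
      AddMonoidAlgebra.coeff_mul_single_apply, mul_one, smul_mul_assoc, sub_eq_add_neg]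
  | add a b ha hb => rw [add_mul, map_add, map_add, ha, hb, add_mul]

variable [HopfRep.Comod k (AddMonoidAlgebra k Λ) R] [GLin.IsCoactAlg k (AddMonoidAlgebra k Λ) R]

theorem pr_mul_of_mem {w : Λ} {g : R}
    (hg : g ∈ HopfRep.eigenspace k (AddMonoidAlgebra k Λ) R (AddMonoidAlgebra.single w 1))
    (u : Λ) (a : R) : pr k u (a * g) = pr k (u - w) a * g := by
  have hg' : HopfRep.Comod.coact (k := k) (A := AddMonoidAlgebra k Λ) g =
      g ⊗ₜ[k] AddMonoidAlgebra.single w (1 : k) := hg
  rw [pr_apply, GLin.IsCoactAlg.coact_mul, hg', slice_mul_tmul, pr_apply]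

variable (k Λ R) in
/-- the ideal generated by the semi-invariants of non-zero weight -/
def nzIdeal : Ideal R :=
  Ideal.span {f : R | ∃ w : Λ, w ≠ 0 ∧
    f ∈ HopfRep.eigenspace k (AddMonoidAlgebra k Λ) R (AddMonoidAlgebra.single w 1)}

theorem sub_pr_zero_mem (f : R) : f - pr k (0 : Λ) f ∈ nzIdeal k Λ R := by
  classical
  have hmem : ∀ w : Λ, w ≠ 0 → pr k w f ∈ nzIdeal k Λ R := fun w hw =>
    Ideal.subset_span ⟨w, hw, pr_mem w f⟩
  have hs := sum_comps (k := k) (Λ := Λ) f
  rw [Finsupp.sum] at hs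
  have h2 : f - pr k (0 : Λ) f =
      ∑ w ∈ (comps k Λ f).support.erase 0, comps k Λ f w := by
    by_cases h0 : (0 : Λ) ∈ (comps k Λ f).support
    · rw [← Finset.add_sum_erase _ _ h0, comps_apply] at hs
      exact sub_eq_of_eq_add' hs.symm
    · rw [Finset.erase_eq_of_notMem h0, hs]
      rw [Finsupp.notMem_support_iff, comps_apply] at h0
      rw [h0, sub_zero]
  rw [h2]
  refine Ideal.sum_mem _ fun w hw => ?_
  rw [comps_apply]
  exact hmem w (Finset.ne_of_mem_erase hw)

theorem pr_zero_mul_eq_zero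
    (hpos : ∀ w : Λ, HopfRep.eigenspace k (AddMonoidAlgebra k Λ) R (AddMonoidAlgebra.single w 1) ≠ ⊥ →
      HopfRep.eigenspace k (AddMonoidAlgebra k Λ) R (AddMonoidAlgebra.single (-w) 1) ≠ ⊥ → w = 0)
    {x : R} (hx : x ∈ nzIdeal k Λ R) (a : R) : pr k (0 : Λ) (a * x) = 0 := by
  revert a
  refine Submodule.span_induction ?_ ?_ ?_ ?_ hx
  · rintro g ⟨w, hw, hg⟩ a
    rw [pr_mul_of_mem hg, zero_sub]
    by_contra hne
    have hg0 : g ≠ 0 := fun h => hne (by rw [h, mul_zero])
    have ha0 : pr k (-w) a ≠ 0 := fun h => hne (by rw [h, zero_mul])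
    have h1 : HopfRep.eigenspace k (AddMonoidAlgebra k Λ) R (AddMonoidAlgebra.single w 1) ≠ ⊥ :=
      fun h => hg0 (by rw [h] at hg; exact (Submodule.mem_bot k).1 hg)
    have h2 : HopfRep.eigenspace k (AddMonoidAlgebra k Λ) R (AddMonoidAlgebra.single (-w) 1) ≠ ⊥ :=
      fun h => ha0 (by have := pr_mem (k := k) (-w) a; rw [h] at this; exact (Submodule.mem_bot k).1 this)
    exact hw (hpos w h1 h2)
  · intro a; rw [mul_zero, map_zero]
  · intro x y _ _ hx hy a; rw [mul_add, map_add, hx, hy, add_zero]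
  · intro r x _ hx a; rw [smul_eq_mul, ← mul_assoc]; exact hx (a * r)

theorem pr_zero_eq_zero
    (hpos : ∀ w : Λ, HopfRep.eigenspace k (AddMonoidAlgebra k Λ) R (AddMonoidAlgebra.single w 1) ≠ ⊥ →
      HopfRep.eigenspace k (AddMonoidAlgebra k Λ) R (AddMonoidAlgebra.single (-w) 1) ≠ ⊥ → w = 0)
    {x : R} (hx : x ∈ nzIdeal k Λ R) : pr k (0 : Λ) x = 0 := by
  have := pr_zero_mul_eq_zero hpos hx 1
  rwa [one_mul] at this

theorem pr_zero_mem_invariants (f : R) :
    pr k (0 : Λ) f ∈ GLin.invariants k (AddMonoidAlgebra k Λ) R := by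
  rw [GLin.mem_invariants_iff, coact_pr, AddMonoidAlgebra.one_def]

theorem pr_zero_mul
    (hpos : ∀ w : Λ, HopfRep.eigenspace k (AddMonoidAlgebra k Λ) R (AddMonoidAlgebra.single w 1) ≠ ⊥ →
      HopfRep.eigenspace k (AddMonoidAlgebra k Λ) R (AddMonoidAlgebra.single (-w) 1) ≠ ⊥ → w = 0)
    (f g : R) : pr k (0 : Λ) (f * g) = pr k (0 : Λ) f * pr k (0 : Λ) g := by
  have h1 : f * g - pr k (0 : Λ) f * pr k (0 : Λ) g ∈ nzIdeal k Λ R := by
    have : f * g - pr k (0 : Λ) f * pr k (0 : Λ) g =
        (f - pr k (0 : Λ) f) * g + pr k (0 : Λ) f * (g - pr k (0 : Λ) g) := by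
      ring
    rw [this]
    exact Ideal.add_mem _ (Ideal.mul_mem_right _ _ (sub_pr_zero_mem f))
      (Ideal.mul_mem_left _ _ (sub_pr_zero_mem g))
  have h2 := pr_zero_eq_zero hpos h1
  rw [map_sub, sub_eq_zero] at h2
  rw [h2]
  exact pr_of_mem_fixedPts ((GLin.invariants k (AddMonoidAlgebra k Λ) R).mul_mem
    (pr_zero_mem_invariants f) (pr_zero_mem_invariants g))

end Alg

end Groth.Agent.Helper22.TorusGr
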