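import Mathlib

/-!
# Integrality of traces over a normal ring

* `isIntegral_trace_matrix`: a matrix over a field killed by a monic polynomial over `R` has
  trace integral over `R`.
* `isIntegral_map_trace`: for a finite free `K`-algebra `L`, `x : L` integral over `A` and a ring
  map `ψ : K → F` to a field over `A`, the image `ψ (trace x)` is integral over `A`.
* `exists_smul_mem_range`: local membership of an element of the total ring of fractions.
-/

namespace Groth.Agent.Helper22.TraceInt

open Polynomial

theorem isIntegral_trace_matrix {R F : Type*} [CommRing R] [Field F] [Algebra R F]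
    {n : Type*} [Fintype n] [DecidableEq n] (N : Matrix n n F) (p : R[X]) (hp : p.Monic)
    (hN : Polynomial.aeval N p = 0) : IsIntegral R N.trace := by
  let Fb := AlgebraicClosure F
  let φ : Matrix n n F →ₐ[R] Matrix n n Fb := (IsScalarTower.toAlgHom R F Fb).mapMatrix
  let Nb : Matrix n n Fb := φ N
  have hNb : Polynomial.aeval Nb p = 0 := by
    change Polynomial.aeval (φ N) p = 0
    rw [Polynomial.aeval_algHom_apply, hN, map_zero]
  let q : Fb[X] := p.map (algebraMap R Fb)
  have hq : Polynomial.aeval Nb q = 0 := by
    rw [Polynomial.aeval_map_algebraMap, hNb]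
  let f : Module.End Fb (n → Fb) := Matrix.toLin' Nb
  have hf : Polynomial.aeval f q = 0 := by
    have h1 : f = Matrix.toLinAlgEquiv' Nb := rfl
    rw [h1, Polynomial.aeval_algHom_apply, hq, map_zero]
  have htr : algebraMap F Fb N.trace = Nb.trace := by
    change _ = (φ N).trace
    simp [φ, Matrix.trace, AlgHom.mapMatrix_apply]
  rw [← isIntegral_algebraMap_iff (algebraMap F Fb).injective, htr,
    Matrix.trace_eq_sum_roots_charpoly]
  refine IsIntegral.multiset_sum fun μ hμ => ?_
  have hroot : Nb.charpoly.IsRoot μ := (Polynomial.mem_roots'.1 hμ).2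
  rw [← Matrix.charpoly_toLin', ← Module.End.hasEigenvalue_iff_isRoot_charpoly] at hroot
  obtain ⟨v, hv⟩ := hroot.exists_hasEigenvector
  have h2 := Module.End.aeval_apply_of_hasEigenvector (p := q) hv
  change Polynomial.aeval f q v = _ at h2
  rw [hf, LinearMap.zero_apply] at h2
  have h3 : q.eval μ = 0 := (smul_eq_zero.1 h2.symm).resolve_right hv.2
  refine ⟨p, hp, ?_⟩
  rw [← Polynomial.eval_map]
  exact h3

theorem isIntegral_map_trace {A K L F : Type*} [CommRing A] [CommRing K] [CommRing L] [Field F]
    [Algebra A K] [Algebra K L] [Algebra A L] [IsScalarTower A K L] [Algebra A F]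
    (ψ : K →+* F) (hψ : ∀ a, ψ (algebraMap A K a) = algebraMap A F a)
    {ι : Type*} [Fintype ι] [DecidableEq ι] (e : Module.Basis ι K L) (x : L)
    (hx : IsIntegral A x) : IsIntegral A (ψ (Algebra.trace K L x)) := by
  obtain ⟨p, hp, hpx⟩ := hx
  let Φ : L →+* Matrix ι ι F := ψ.mapMatrix.comp (Algebra.leftMulMatrix e).toRingHom
  have hΦ : Φ.comp (algebraMap A L) = algebraMap A (Matrix ι ι F) := by
    ext a i j
    change ψ (Algebra.leftMulMatrix e (algebraMap A L a) i j) = _
    rw [IsScalarTower.algebraMap_apply A K L, AlgHom.commutes, Matrix.algebraMap_matrix_apply,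
      Matrix.algebraMap_matrix_apply]
    split_ifs
    · exact hψ a
    · exact map_zero ψ
  have haeval : Polynomial.aeval (Φ x) p = 0 := by
    rw [Polynomial.aeval_def, ← hΦ, ← Polynomial.hom_eval₂, hpx, map_zero]
  have htr : (Φ x).trace = ψ (Algebra.trace K L x) := by
    rw [Algebra.trace_eq_matrix_trace e x]
    change (ψ.mapMatrix (Algebra.leftMulMatrix e x)).trace = _
    simp [Matrix.trace, RingHom.mapMatrix_apply]
  rw [← htr]
  exact isIntegral_trace_matrix (Φ x) p hp haeval

/-- If `A_p` is an integrally closed domain, `K` is the total ring of fractions of `A` and the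
image of `t : K` in `Frac A_p` is integral over `A`, then some `w ∉ p` multiplies `t` into `A`. -/
theorem exists_smul_mem_range {A K : Type*} [CommRing A] [CommRing K] [Algebra A K]
    [IsFractionRing A K] (p : Ideal A) [p.IsPrime]
    [IsDomain (Localization.AtPrime p)] [IsIntegrallyClosed (Localization.AtPrime p)]
    (t : K)
    (ht : ∀ ψ : K →+* FractionRing (Localization.AtPrime p),
      (∀ a, ψ (algebraMap A K a) =
        algebraMap (Localization.AtPrime p) (FractionRing (Localization.AtPrime p))
          (algebraMap A (Localization.AtPrime p) a)) →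
      IsIntegral (Localization.AtPrime p) (ψ t)) :
    ∃ w : A, w ∉ p ∧ algebraMap A K w * t ∈ (algebraMap A K).range := by
  let Ap := Localization.AtPrime p
  let F := FractionRing Ap
  let g : A →+* F := (algebraMap Ap F).comp (algebraMap A Ap)
  have hinj : Function.Injective (algebraMap Ap F) := IsFractionRing.injective Ap F
  have hg : ∀ s : nonZeroDivisors A, IsUnit (g s) := by
    intro s
    rw [isUnit_iff_ne_zero]
    intro h0
    have h1 : algebraMap A Ap (s : A) = 0 := hinj (by rw [map_zero]; exact h0)
    obtain ⟨u, hu⟩ := (IsLocalization.map_eq_zero_iff p.primeCompl Ap (s : A)).1 h1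
    have h2 : (u : A) = 0 := by
      have := s.2
      rw [mem_nonZeroDivisors_iff] at this
      exact this.2 _ hu
    exact u.2 (h2 ▸ p.zero_mem)
  let ψ : K →+* F := IsLocalization.lift (M := nonZeroDivisors A) hg
  have hψ : ∀ a, ψ (algebraMap A K a) = g a := fun a => IsLocalization.lift_eq hg a
  have hint := ht ψ hψ
  obtain ⟨y, hy⟩ := IsIntegrallyClosed.isIntegral_iff.1 hint
  obtain ⟨⟨a, s⟩, hts⟩ := IsLocalization.surj (nonZeroDivisors A) t
  obtain ⟨⟨a', u⟩, hyu⟩ := IsLocalization.surj p.primeCompl y
  dsimp only at hts hyu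
  -- `t * s = a` in `K`, `y * u = a'` in `A_p`
  have h1 : y * algebraMap A Ap (s : A) = algebraMap A Ap a := by
    apply hinj
    rw [map_mul, hy]
    have := congrArg ψ hts
    rw [map_mul, hψ, hψ] at this
    exact this
  have h2 : algebraMap A Ap (a' * (s : A)) = algebraMap A Ap (a * (u : A)) := by
    rw [map_mul, map_mul, ← hyu, ← h1]
    ring
  obtain ⟨w, hw⟩ := (IsLocalization.eq_iff_exists p.primeCompl Ap).1 h2
  refine ⟨(w : A) * (u : A), (w * u).2, (w : A) * a', ?_⟩
  have hsu : IsUnit (algebraMap A K (s : A)) := IsLocalization.map_units K s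
  apply hsu.mul_right_cancel
  rw [mul_assoc, hts, ← map_mul, ← map_mul]
  congr 1
  rw [mul_assoc, hw]
  ring

end Groth.Agent.Helper22.TraceInt
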