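import Mathlib

/-!
# Equivariant endomorphisms / linearizations of the trivial bundle `X ⊗ G`
(general cartesian monoidal category; Yoneda-style computations)
-/

open CategoryTheory MonoidalCategory CartesianMonoidalCategory MonObj GrpObj

namespace Groth.Agent.Helper22.TrivBun

universe v u
variable {C : Type u} [Category.{v} C] [CartesianMonoidalCategory C]
variable {G X : C} [GrpObj G]

theorem comp_lift_id_one {T : C} (x : T ⟶ X) {Y : C} (k : X ⊗ G ⟶ Y) :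
    x ≫ lift (𝟙 X) (1 : X ⟶ G) ≫ k = lift x 1 ≫ k := by
  rw [comp_lift_assoc, Category.comp_id, MonObj.comp_one]

/-- An endomorphism of `X ⊗ G` over `X`, equivariant for right multiplication, is left
multiplication by `φ = (𝟙, 1) ≫ Φ ≫ snd`. -/
theorem hom_eq_mul (Φ : X ⊗ G ⟶ X ⊗ G) (h₁ : Φ ≫ fst X G = fst X G)
    (h₂ : ∀ (T : C) (x : T ⟶ X) (g h : T ⟶ G),
      lift x (g * h) ≫ Φ ≫ snd X G = (lift x g ≫ Φ ≫ snd X G) * h)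
    (T : C) (x : T ⟶ X) (g : T ⟶ G) :
    lift x g ≫ Φ = lift x ((x ≫ (lift (𝟙 X) 1 ≫ Φ ≫ snd X G)) * g) := by
  apply CartesianMonoidalCategory.hom_ext
  · rw [Category.assoc, h₁, lift_fst, lift_fst]
  · rw [Category.assoc, lift_snd]
    have := h₂ T x 1 g
    rw [_root_.one_mul] at this
    rw [this, comp_lift_id_one]

theorem exists_hom_eq_mul (Φ : X ⊗ G ⟶ X ⊗ G) (h₁ : Φ ≫ fst X G = fst X G)
    (h₂ : ∀ (T : C) (x : T ⟶ X) (g h : T ⟶ G),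
      lift x (g * h) ≫ Φ ≫ snd X G = (lift x g ≫ Φ ≫ snd X G) * h) :
    ∃ φ : X ⟶ G, ∀ (T : C) (x : T ⟶ X) (g : T ⟶ G),
      lift x g ≫ Φ = lift x ((x ≫ φ) * g) :=
  ⟨_, hom_eq_mul Φ h₁ h₂⟩

section Lin

variable {Γ : Type*} [Group Γ] (ρ : Γ → (X ⟶ X))

theorem lam_eq (φ : Γ → (X ⟶ G)) (lam : Γ → (X ⊗ G ⟶ X ⊗ G))
    (hlam : ∀ (σ : Γ) (T : C) (x : T ⟶ X) (g : T ⟶ G),
      lift x g ≫ lam σ = lift (x ≫ ρ σ) ((x ≫ φ σ)⁻¹ * g)) (σ : Γ) :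
    lam σ = lift (fst X G ≫ ρ σ) ((fst X G ≫ φ σ)⁻¹ * snd X G) := by
  have := hlam σ (X ⊗ G) (fst X G) (snd X G)
  rw [lift_fst_snd, Category.id_comp] at this
  exact this

theorem linearization_of_cocycle (hρ₁ : ρ 1 = 𝟙 X) (hρ : ∀ σ τ : Γ, ρ (σ * τ) = ρ σ ≫ ρ τ)
    (φ : Γ → (X ⟶ G)) (hφ : ∀ σ τ : Γ, φ (σ * τ) = φ σ * (ρ σ ≫ φ τ))
    (lam : Γ → (X ⊗ G ⟶ X ⊗ G))
    (hlam : ∀ (σ : Γ) (T : C) (x : T ⟶ X) (g : T ⟶ G),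
      lift x g ≫ lam σ = lift (x ≫ ρ σ) ((x ≫ φ σ)⁻¹ * g)) :
    lam 1 = 𝟙 (X ⊗ G) ∧ (∀ σ τ : Γ, lam (σ * τ) = lam σ ≫ lam τ) ∧
      (∀ σ : Γ, lam σ ≫ fst X G = fst X G ≫ ρ σ) ∧
      ∀ (σ : Γ) (T : C) (x : T ⟶ X) (g h : T ⟶ G),
        lift x (g * h) ≫ lam σ ≫ snd X G = (lift x g ≫ lam σ ≫ snd X G) * h := by
  have hle := lam_eq ρ φ lam hlam
  have hφ1 : φ 1 = 1 := by
    have := hφ 1 1
    rw [_root_.mul_one, hρ₁, Category.id_comp] at this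
    have h : φ 1 * φ 1 = φ 1 * 1 := by rw [_root_.mul_one]; exact this.symm
    exact _root_.mul_left_cancel h
  refine ⟨?_, ?_, ?_, ?_⟩
  · rw [hle 1, hρ₁, hφ1, Category.comp_id, MonObj.comp_one, _root_.inv_one, _root_.one_mul, lift_fst_snd]
  · intro σ τ
    calc lam (σ * τ) = lift (fst X G ≫ ρ (σ * τ)) ((fst X G ≫ φ (σ * τ))⁻¹ * snd X G) := hle _
      _ = lift ((fst X G ≫ ρ σ) ≫ ρ τ)
            (((fst X G ≫ ρ σ) ≫ φ τ)⁻¹ * ((fst X G ≫ φ σ)⁻¹ * snd X G)) := by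
          rw [hρ, hφ, MonObj.comp_mul, _root_.mul_inv_rev, _root_.mul_assoc]
          simp only [Category.assoc]
      _ = lift (fst X G ≫ ρ σ) ((fst X G ≫ φ σ)⁻¹ * snd X G) ≫ lam τ := (hlam τ _ _ _).symm
      _ = lam σ ≫ lam τ := by rw [← hle σ]
  · intro σ
    rw [hle σ, lift_fst]
  · intro σ T x g h
    rw [← Category.assoc, hlam σ T x (g * h), lift_snd, ← Category.assoc, hlam σ T x g, lift_snd,
      _root_.mul_assoc]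

theorem existsUnique_cocycle
    (lam : Γ → (X ⊗ G ⟶ X ⊗ G)) (hlam : ∀ σ τ : Γ, lam (σ * τ) = lam σ ≫ lam τ)
    (hfst : ∀ σ : Γ, lam σ ≫ fst X G = fst X G ≫ ρ σ)
    (hG : ∀ (σ : Γ) (T : C) (x : T ⟶ X) (g h : T ⟶ G),
      lift x (g * h) ≫ lam σ ≫ snd X G = (lift x g ≫ lam σ ≫ snd X G) * h) :
    ∃! φ : Γ → (X ⟶ G), (∀ σ τ : Γ, φ (σ * τ) = φ σ * (ρ σ ≫ φ τ)) ∧
      ∀ (σ : Γ) (T : C) (x : T ⟶ X) (g : T ⟶ G),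
        lift x g ≫ lam σ = lift (x ≫ ρ σ) ((x ≫ φ σ)⁻¹ * g) := by
  -- ψ σ = (𝟙, 1) ≫ lam σ ≫ snd
  have hP : ∀ (σ : Γ) (T : C) (x : T ⟶ X) (g : T ⟶ G),
      lift x g ≫ lam σ = lift (x ≫ ρ σ) ((x ≫ (lift (𝟙 X) 1 ≫ lam σ ≫ snd X G)) * g) := by
    intro σ T x g
    apply CartesianMonoidalCategory.hom_ext
    · rw [Category.assoc, hfst, lift_fst_assoc, lift_fst]
    · rw [Category.assoc, lift_snd]
      have := hG σ T x 1 g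
      rw [_root_.one_mul] at this
      rw [this, comp_lift_id_one]
  have hψ : ∀ σ τ : Γ, (lift (𝟙 X) 1 ≫ lam (σ * τ) ≫ snd X G : X ⟶ G) =
      (ρ σ ≫ (lift (𝟙 X) 1 ≫ lam τ ≫ snd X G)) * (lift (𝟙 X) 1 ≫ lam σ ≫ snd X G) := by
    intro σ τ
    have h1 : lift (𝟙 X) (1 : X ⟶ G) ≫ lam σ =
        lift (ρ σ) (lift (𝟙 X) 1 ≫ lam σ ≫ snd X G) := by
      have := hP σ X (𝟙 X) 1
      rw [Category.id_comp, Category.id_comp, _root_.mul_one] at this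
      exact this
    rw [hlam σ τ, Category.assoc, ← Category.assoc, h1, ← Category.assoc, hP τ, lift_snd]
  refine ⟨fun σ => (lift (𝟙 X) 1 ≫ lam σ ≫ snd X G)⁻¹, ⟨?_, ?_⟩, ?_⟩
  · intro σ τ
    show (lift (𝟙 X) 1 ≫ lam (σ * τ) ≫ snd X G)⁻¹ =
      (lift (𝟙 X) 1 ≫ lam σ ≫ snd X G)⁻¹ * (ρ σ ≫ (lift (𝟙 X) 1 ≫ lam τ ≫ snd X G)⁻¹)
    rw [hψ σ τ, _root_.mul_inv_rev, GrpObj.comp_inv]
  · intro σ T x g
    show lift x g ≫ lam σ =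
      lift (x ≫ ρ σ) ((x ≫ (lift (𝟙 X) 1 ≫ lam σ ≫ snd X G)⁻¹)⁻¹ * g)
    rw [GrpObj.comp_inv, _root_.inv_inv]
    exact hP σ T x g
  · rintro φ' ⟨-, h2⟩
    funext σ
    have := h2 σ X (𝟙 X) 1
    rw [Category.id_comp, Category.id_comp, _root_.mul_one] at this
    have h3 : lift (𝟙 X) 1 ≫ lam σ ≫ snd X G = (φ' σ)⁻¹ := by
      rw [← Category.assoc, this, lift_snd]
    show φ' σ = (lift (𝟙 X) 1 ≫ lam σ ≫ snd X G)⁻¹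
    rw [h3, _root_.inv_inv]

theorem iso_iff_cohomologous
    (φ φ' : Γ → (X ⟶ G))
    (lam lam' : Γ → (X ⊗ G ⟶ X ⊗ G))
    (hlam : ∀ (σ : Γ) (T : C) (x : T ⟶ X) (g : T ⟶ G),
      lift x g ≫ lam σ = lift (x ≫ ρ σ) ((x ≫ φ σ)⁻¹ * g))
    (hlam' : ∀ (σ : Γ) (T : C) (x : T ⟶ X) (g : T ⟶ G),
      lift x g ≫ lam' σ = lift (x ≫ ρ σ) ((x ≫ φ' σ)⁻¹ * g)) :
    (∃ Φ : X ⊗ G ⟶ X ⊗ G, IsIso Φ ∧ Φ ≫ fst X G = fst X G ∧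
      (∀ (T : C) (x : T ⟶ X) (g h : T ⟶ G),
        lift x (g * h) ≫ Φ ≫ snd X G = (lift x g ≫ Φ ≫ snd X G) * h) ∧
      ∀ σ : Γ, lam σ ≫ Φ = Φ ≫ lam' σ) ↔
    ∃ ψ : X ⟶ G, ∀ σ : Γ, φ σ = ψ⁻¹ * φ' σ * (ρ σ ≫ ψ) := by
  constructor
  · rintro ⟨Φ, -, h₁, h₂, hc⟩
    have hP := hom_eq_mul Φ h₁ h₂
    refine ⟨lift (𝟙 X) 1 ≫ Φ ≫ snd X G, fun σ => ?_⟩
    generalize hψ : (lift (𝟙 X) 1 ≫ Φ ≫ snd X G : X ⟶ G) = ψ at hP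
    have e1 : lift (𝟙 X) (1 : X ⟶ G) ≫ lam σ ≫ Φ = lift (ρ σ) ((ρ σ ≫ ψ) * (φ σ)⁻¹) := by
      rw [← Category.assoc, hlam σ X (𝟙 X) 1, hP]
      simp only [Category.id_comp, _root_.mul_one]
    have e2 : lift (𝟙 X) (1 : X ⟶ G) ≫ Φ ≫ lam' σ = lift (ρ σ) ((φ' σ)⁻¹ * ψ) := by
      rw [← Category.assoc, hP, hlam' σ]
      simp only [Category.id_comp, _root_.mul_one]
    have e : (ρ σ ≫ ψ) * (φ σ)⁻¹ = (φ' σ)⁻¹ * ψ := by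
      have h3 := congrArg (· ≫ snd X G) (e1.symm.trans ((congrArg (lift (𝟙 X) 1 ≫ ·) (hc σ)).trans e2))
      simpa only [lift_snd] using h3
    calc φ σ = ((ρ σ ≫ ψ) * (φ σ)⁻¹)⁻¹ * (ρ σ ≫ ψ) := by group
      _ = ((φ' σ)⁻¹ * ψ)⁻¹ * (ρ σ ≫ ψ) := by rw [e]
      _ = ψ⁻¹ * φ' σ * (ρ σ ≫ ψ) := by group
  · rintro ⟨ψ, hψ⟩
    have hΦ : ∀ (T : C) (x : T ⟶ X) (g : T ⟶ G),
        lift x g ≫ lift (fst X G) ((fst X G ≫ ψ) * snd X G) = lift x ((x ≫ ψ) * g) := by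
      intro T x g
      rw [comp_lift, lift_fst, MonObj.comp_mul, lift_fst_assoc, lift_snd]
    have hΨ : ∀ (T : C) (x : T ⟶ X) (g : T ⟶ G),
        lift x g ≫ lift (fst X G) ((fst X G ≫ ψ)⁻¹ * snd X G) = lift x ((x ≫ ψ)⁻¹ * g) := by
      intro T x g
      rw [comp_lift, lift_fst, MonObj.comp_mul, GrpObj.comp_inv, lift_fst_assoc, lift_snd]
    refine ⟨lift (fst X G) ((fst X G ≫ ψ) * snd X G), ?_, ?_, ?_, ?_⟩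
    · refine ⟨⟨lift (fst X G) ((fst X G ≫ ψ)⁻¹ * snd X G), ?_, ?_⟩⟩
      · rw [hΨ, _root_.inv_mul_cancel_left, lift_fst_snd]
      · rw [hΦ, _root_.mul_inv_cancel_left, lift_fst_snd]
    · rw [lift_fst]
    · intro T x g h
      rw [← Category.assoc, hΦ, lift_snd, ← Category.assoc, hΦ, lift_snd, _root_.mul_assoc]
    · intro σ
      rw [lam_eq ρ φ lam hlam σ, hΦ, hlam' σ]
      have hφσ : fst X G ≫ φ σ =
          (fst X G ≫ ψ)⁻¹ * (fst X G ≫ φ' σ) * (fst X G ≫ ρ σ ≫ ψ) := by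
        rw [hψ σ, MonObj.comp_mul, MonObj.comp_mul, GrpObj.comp_inv]
      rw [hφσ]
      simp only [Category.assoc]
      congr 1
      group

end Lin

end Groth.Agent.Helper22.TrivBun
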