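import Mathlib
import Groth.Agent.Lib.Helper22.NormDecomp
import Groth.Agent.S14864

/-!
# Finite projective modules over a ring complete for a filtration, via truncations (helper22)

`A` a commutative ring with a decreasing sequence of ideals `J n`, separated and complete for the
`J`-filtration, with `J 1` nilpotent modulo each `J n`.  An `A`-module `P` which is separated for the
filtration `J n P` and such that each `P / J n P` is finitely generated projective over `A / J n` is
finitely generated projective.  Applied to `A = W(R)`, `J n = ker (W(R) → W_n(R))`, `p` nilpotent in `R`.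
-/

set_option autoImplicit false
universe u v

namespace Groth.Agent.Helper22.TruncProj

open Groth.Agent.Helper22.NormDecomp (map_mem_smul_top map_mem_smul_of_range_le)

section Abstract

variable {A : Type u} [CommRing A]

theorem mem_smul_top_pi_iff {r : ℕ} (J : Ideal A) (y : Fin r → A) :
    y ∈ J • (⊤ : Submodule A (Fin r → A)) ↔ ∀ i, y i ∈ J := by
  constructor
  · intro h i
    have h1 := map_mem_smul_top J (LinearMap.proj i : (Fin r → A) →ₗ[A] A) h
    rw [smul_eq_mul, Ideal.mul_top] at h1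
    exact h1
  · intro h
    have e := pi_eq_sum_univ y
    rw [e]
    refine Submodule.sum_mem _ fun i _ => ?_
    exact Submodule.smul_mem_smul (h i) Submodule.mem_top

theorem lift_of_proj (J : Ideal A) {P : Type v} [AddCommGroup P] [Module A P]
    [Module.Projective (A ⧸ J) (P ⧸ (J • (⊤ : Submodule A P)))]
    {X Y : Type*} [AddCommGroup X] [Module A X] [AddCommGroup Y] [Module A Y]
    (hX : ∀ a ∈ J, ∀ x : X, a • x = 0) (hY : ∀ a ∈ J, ∀ y : Y, a • y = 0)
    (f : X →ₗ[A] Y) (hf : Function.Surjective f) (g : P →ₗ[A] Y) :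
    ∃ h : P →ₗ[A] X, f ∘ₗ h = g := by
  have hX' : Module.IsTorsionBySet A X (J : Set A) := fun x a => hX a.1 a.2 x
  have hY' : Module.IsTorsionBySet A Y (J : Set A) := fun y a => hY a.1 a.2 y
  letI := hX'.module
  letI := hY'.module
  haveI : IsScalarTower A (A ⧸ J) X := hX'.isScalarTower
  haveI : IsScalarTower A (A ⧸ J) Y := hY'.isScalarTower
  have hsurj : Function.Surjective (algebraMap A (A ⧸ J)) := Ideal.Quotient.mk_surjective
  have hker : J • (⊤ : Submodule A P) ≤ LinearMap.ker g := by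
    rw [Submodule.smul_le]
    intro a ha x _
    rw [LinearMap.mem_ker, map_smul]
    exact hY a ha _
  let gbar : (P ⧸ (J • (⊤ : Submodule A P))) →ₗ[A] Y := Submodule.liftQ _ g hker
  obtain ⟨h', hh'⟩ := Module.projective_lifting_property (f.extendScalarsOfSurjective hsurj)
    (gbar.extendScalarsOfSurjective hsurj) hf
  refine ⟨(h'.restrictScalars A).comp (Submodule.mkQ _), ?_⟩
  ext x
  have h1 := LinearMap.congr_fun hh' (Submodule.Quotient.mk x)
  exact h1

theorem nakayama_nil (J₁ Jn : Ideal A) (k : ℕ) (hk : J₁ ^ k ≤ Jn) {P : Type v}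
    [AddCommGroup P] [Module A P] (M : Submodule A P)
    (hM : Jn • (⊤ : Submodule A P) ≤ M) (h : M ⊔ J₁ • (⊤ : Submodule A P) = ⊤) : M = ⊤ := by
  have key : ∀ j : ℕ, M ⊔ J₁ ^ j • (⊤ : Submodule A P) = ⊤ := by
    intro j
    induction j with
    | zero => rw [pow_zero, Ideal.one_eq_top, Submodule.top_smul, sup_top_eq]
    | succ j ih =>
      rw [eq_top_iff]
      calc (⊤ : Submodule A P) = M ⊔ J₁ ^ j • (⊤ : Submodule A P) := ih.symm
        _ = M ⊔ J₁ ^ j • (M ⊔ J₁ • (⊤ : Submodule A P)) := by rw [h]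
        _ = M ⊔ (J₁ ^ j • M ⊔ J₁ ^ j • J₁ • (⊤ : Submodule A P)) := by
          rw [Submodule.smul_sup]
        _ ≤ M ⊔ J₁ ^ (j + 1) • (⊤ : Submodule A P) := by
          refine sup_le le_sup_left (sup_le (le_sup_of_le_left Submodule.smul_le_right) ?_)
          rw [← Submodule.mul_smul, ← pow_succ]
          exact le_sup_right
  have h1 := key k
  rw [eq_top_iff, ← h1]
  exact sup_le le_rfl ((Submodule.smul_mono hk le_rfl).trans hM)

theorem exists_seq {S : ℕ → Type*} (Rel : ∀ n, S n → S (n + 1) → Prop) (h0 : Nonempty (S 0))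
    (hstep : ∀ n (a : S n), ∃ b : S (n + 1), Rel n a b) :
    ∃ σ : ∀ n, S n, ∀ n, Rel n (σ n) (σ (n + 1)) := by
  classical
  let σ : ∀ n, S n := fun n =>
    Nat.rec (motive := S) (Classical.choice h0) (fun n a => Classical.choose (hstep n a)) n
  exact ⟨σ, fun n => Classical.choose_spec (hstep n (σ n))⟩

section Core

variable (J : ℕ → Ideal A) {P : Type v} [AddCommGroup P] [Module A P] {r : ℕ}
  (π : (Fin r → A) →ₗ[A] P)

/-- `F / J_n F`, `F = A^r`. -/
abbrev Fq (r : ℕ) (n : ℕ) : Type u := (Fin r → A) ⧸ (J n • (⊤ : Submodule A (Fin r → A)))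

/-- `P / J_n P`. -/
abbrev Pq (P : Type v) [AddCommGroup P] [Module A P] (n : ℕ) : Type v :=
  P ⧸ (J n • (⊤ : Submodule A P))

theorem smul_top_le_comap (n : ℕ) :
    J n • (⊤ : Submodule A (Fin r → A)) ≤ (J n • (⊤ : Submodule A P)).comap π :=
  fun _ hy => map_mem_smul_top (J n) π hy

/-- The induced map `F / J_n F → P / J_n P`. -/
noncomputable def piq (n : ℕ) : Fq J r n →ₗ[A] Pq J P n :=
  Submodule.mapQ _ _ π (smul_top_le_comap J π n)

theorem piq_mk (n : ℕ) (y : Fin r → A) :
    piq J π n (Submodule.Quotient.mk y) = Submodule.Quotient.mk (π y) := rfl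

theorem kills_Fq (n : ℕ) (a : A) (ha : a ∈ J n) (x : Fq J r n) : a • x = 0 := by
  obtain ⟨y, rfl⟩ := Submodule.Quotient.mk_surjective _ x
  rw [← Submodule.Quotient.mk_smul, Submodule.Quotient.mk_eq_zero]
  exact Submodule.smul_mem_smul ha Submodule.mem_top

theorem kills_Pq (n : ℕ) (a : A) (ha : a ∈ J n) (x : Pq J P n) : a • x = 0 := by
  obtain ⟨y, rfl⟩ := Submodule.Quotient.mk_surjective _ x
  rw [← Submodule.Quotient.mk_smul, Submodule.Quotient.mk_eq_zero]
  exact Submodule.smul_mem_smul ha Submodule.mem_top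

/-- transition maps `F / J_{n+1} F → F / J_n F`. -/
noncomputable def qF (hJ : Antitone J) (n : ℕ) : Fq J r (n + 1) →ₗ[A] Fq J r n :=
  Submodule.mapQ _ _ LinearMap.id (by
    rw [Submodule.comap_id]
    exact Submodule.smul_mono (hJ (Nat.le_succ n)) le_rfl)

/-- transition maps `P / J_{n+1} P → P / J_n P`. -/
noncomputable def qP (hJ : Antitone J) (n : ℕ) : Pq J P (n + 1) →ₗ[A] Pq J P n :=
  Submodule.mapQ _ _ LinearMap.id (by
    rw [Submodule.comap_id]
    exact Submodule.smul_mono (hJ (Nat.le_succ n)) le_rfl)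

theorem piq_qF (hJ : Antitone J) (n : ℕ) (z : Fq J r (n + 1)) :
    piq J π n (qF J hJ n z) = qP J hJ n (piq J π (n + 1) z) := by
  obtain ⟨y, rfl⟩ := Submodule.Quotient.mk_surjective _ z
  rfl

theorem piq_surjective (n : ℕ) (h : LinearMap.range π ⊔ J n • (⊤ : Submodule A P) = ⊤) :
    Function.Surjective (piq J π n) := by
  intro z
  obtain ⟨x, rfl⟩ := Submodule.Quotient.mk_surjective _ z
  have hx : x ∈ LinearMap.range π ⊔ J n • (⊤ : Submodule A P) := by
    rw [h]; exact Submodule.mem_top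
  obtain ⟨_, ⟨y, rfl⟩, t, ht, rfl⟩ := Submodule.mem_sup.1 hx
  refine ⟨Submodule.Quotient.mk y, ?_⟩
  rw [piq_mk, Submodule.Quotient.eq]
  have e : π y - (π y + t) = -t := by abel
  rw [e]
  exact neg_mem ht

theorem ker_lift (hJ : Antitone J) (n : ℕ)
    (h : LinearMap.range π ⊔ J (n + 1) • (⊤ : Submodule A P) = ⊤)
    (k : Fq J r n) (hk : piq J π n k = 0) :
    ∃ k' : Fq J r (n + 1), piq J π (n + 1) k' = 0 ∧ qF J hJ n k' = k := by
  obtain ⟨y, rfl⟩ := Submodule.Quotient.mk_surjective _ k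
  rw [piq_mk, Submodule.Quotient.mk_eq_zero] at hk
  have h1 : J n • (⊤ : Submodule A P) ≤
      (J n • (⊤ : Submodule A (Fin r → A))).map π ⊔ J (n + 1) • (⊤ : Submodule A P) := by
    calc J n • (⊤ : Submodule A P)
        = J n • (LinearMap.range π ⊔ J (n + 1) • (⊤ : Submodule A P)) := by rw [h]
      _ = J n • LinearMap.range π ⊔ J n • J (n + 1) • (⊤ : Submodule A P) :=
          Submodule.smul_sup _ _ _
      _ ≤ _ := by
        refine sup_le_sup ?_ Submodule.smul_le_right
        rw [Submodule.map_smul'', Submodule.map_top]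
  obtain ⟨_, ⟨z, hz, rfl⟩, u, hu, hzu⟩ := Submodule.mem_sup.1 (h1 hk)
  refine ⟨Submodule.Quotient.mk (y - z), ?_, ?_⟩
  · rw [piq_mk, Submodule.Quotient.mk_eq_zero, map_sub, ← hzu]
    have e : π z + u - π z = u := by abel
    rw [e]; exact hu
  · show (Submodule.Quotient.mk (y - z) : Fq J r n) = Submodule.Quotient.mk y
    rw [Submodule.Quotient.eq]
    have e : y - z - y = -z := by abel
    rw [e]; exact neg_mem hz

theorem section_step (hJ : Antitone J)
    (hproj : ∀ n, Module.Projective (A ⧸ J n) (Pq J P n))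
    (hsurj : ∀ n, LinearMap.range π ⊔ J n • (⊤ : Submodule A P) = ⊤) (n : ℕ)
    (σ : P →ₗ[A] Fq J r n) (hσ : (piq J π n) ∘ₗ σ = Submodule.mkQ _) :
    ∃ σ' : P →ₗ[A] Fq J r (n + 1), (piq J π (n + 1)) ∘ₗ σ' = Submodule.mkQ _ ∧
      (qF J hJ n) ∘ₗ σ' = σ := by
  haveI := hproj (n + 1)
  obtain ⟨τ, hτ⟩ := lift_of_proj (J (n + 1)) (kills_Fq J (n + 1)) (kills_Pq J (n + 1))
    (piq J π (n + 1)) (piq_surjective J π (n + 1) (hsurj (n + 1))) (Submodule.mkQ _)
  let δ : P →ₗ[A] Fq J r n := σ - (qF J hJ n) ∘ₗ τ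
  have hδ : ∀ x, δ x ∈ LinearMap.ker (piq J π n) := by
    intro x
    rw [LinearMap.mem_ker]
    show piq J π n (σ x - qF J hJ n (τ x)) = 0
    rw [map_sub, sub_eq_zero]
    have h1 : piq J π n (σ x) = Submodule.Quotient.mk x := LinearMap.congr_fun hσ x
    have h2 : piq J π (n + 1) (τ x) = Submodule.Quotient.mk x := LinearMap.congr_fun hτ x
    rw [h1, piq_qF J π hJ n (τ x), h2]
    rfl
  let δ' : P →ₗ[A] LinearMap.ker (piq J π n) := δ.codRestrict _ hδ
  let κ : LinearMap.ker (piq J π (n + 1)) →ₗ[A] LinearMap.ker (piq J π n) :=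
    ((qF J hJ n).comp (LinearMap.ker (piq J π (n + 1))).subtype).codRestrict _ (fun k => by
      rw [LinearMap.mem_ker]
      show piq J π n (qF J hJ n k.1) = 0
      rw [piq_qF, LinearMap.mem_ker.1 k.2, map_zero])
  have hκ : Function.Surjective κ := by
    intro k
    obtain ⟨k', hk'0, hk'⟩ := ker_lift J π hJ n (hsurj (n + 1)) k.1 (LinearMap.mem_ker.1 k.2)
    exact ⟨⟨k', LinearMap.mem_ker.2 hk'0⟩, Subtype.ext hk'⟩
  obtain ⟨δ'', hδ''⟩ := lift_of_proj (J (n + 1))
    (fun a ha k => Subtype.ext (kills_Fq J (n + 1) a ha k.1))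
    (fun a ha k => Subtype.ext (kills_Fq J n a (hJ (Nat.le_succ n) ha) k.1)) κ hκ δ'
  refine ⟨τ + (LinearMap.ker (piq J π (n + 1))).subtype ∘ₗ δ'', ?_, ?_⟩
  · ext x
    show piq J π (n + 1) (τ x + (δ'' x).1) = Submodule.Quotient.mk x
    rw [map_add, LinearMap.mem_ker.1 (δ'' x).2, add_zero]
    exact LinearMap.congr_fun hτ x
  · ext x
    show qF J hJ n (τ x + (δ'' x).1) = σ x
    rw [map_add]
    have h3 : qF J hJ n (δ'' x).1 = δ x := by
      have h4 := LinearMap.congr_fun hδ'' x
      exact congrArg Subtype.val h4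
    rw [h3]
    show qF J hJ n (τ x) + (σ x - qF J hJ n (τ x)) = σ x
    abel

theorem exists_section (hJ : Antitone J)
    (hsepA : ∀ a : A, (∀ n, a ∈ J n) → a = 0)
    (hcplA : ∀ w : ℕ → A, (∀ n, w (n + 1) - w n ∈ J n) → ∃ a, ∀ n, a - w n ∈ J n)
    (hsep : ⨅ n, J n • (⊤ : Submodule A P) = ⊥)
    (σ : ∀ n, P →ₗ[A] Fq J r n) (hσ : ∀ n, (piq J π n) ∘ₗ σ n = Submodule.mkQ _)
    (hcompat : ∀ n, (qF J hJ n) ∘ₗ σ (n + 1) = σ n) :
    ∃ s : P →ₗ[A] (Fin r → A), π ∘ₗ s = LinearMap.id := by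
  have hex : ∀ x : P, ∃ z : Fin r → A,
      ∀ n, (Submodule.Quotient.mk z : Fq J r n) = σ n x := by
    intro x
    have hy : ∀ n, ∃ y : Fin r → A, (Submodule.Quotient.mk y : Fq J r n) = σ n x :=
      fun n => Submodule.Quotient.mk_surjective _ (σ n x)
    choose y hy using hy
    have hdiff : ∀ n, y (n + 1) - y n ∈ J n • (⊤ : Submodule A (Fin r → A)) := by
      intro n
      rw [← Submodule.Quotient.eq, hy n, ← hcompat n]
      show _ = qF J hJ n (σ (n + 1) x)
      rw [← hy (n + 1)]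
      rfl
    have hcoord : ∀ i : Fin r, ∃ a : A, ∀ n, a - y n i ∈ J n := fun i =>
      hcplA (fun n => y n i) (fun n => (mem_smul_top_pi_iff (J n) _).1 (hdiff n) i)
    choose z hz using hcoord
    refine ⟨z, fun n => ?_⟩
    rw [← hy n, Submodule.Quotient.eq]
    exact (mem_smul_top_pi_iff (J n) _).2 (fun i => hz i n)
  choose s hs using hex
  have huniq : ∀ z z' : Fin r → A,
      (∀ n, (Submodule.Quotient.mk z : Fq J r n) = Submodule.Quotient.mk z') → z = z' := by
    intro z z' h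
    funext i
    rw [← sub_eq_zero]
    refine hsepA _ fun n => ?_
    have h1 := (Submodule.Quotient.eq _).1 (h n)
    exact (mem_smul_top_pi_iff (J n) _).1 h1 i
  let sl : P →ₗ[A] (Fin r → A) :=
    { toFun := s
      map_add' := fun x x' => huniq _ _ fun n => by
        rw [Submodule.Quotient.mk_add, hs, hs, hs, map_add]
      map_smul' := fun a x => huniq _ _ fun n => by
        rw [RingHom.id_apply, Submodule.Quotient.mk_smul, hs, hs, map_smul] }
  refine ⟨sl, ?_⟩
  ext x
  show π (s x) = x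
  rw [← sub_eq_zero]
  have hmem : π (s x) - x ∈ ⨅ n, J n • (⊤ : Submodule A P) := by
    rw [Submodule.mem_iInf]
    intro n
    rw [← Submodule.Quotient.eq]
    have h1 : piq J π n (Submodule.Quotient.mk (s x)) = Submodule.Quotient.mk (π (s x)) := rfl
    rw [← h1, hs x n]
    exact LinearMap.congr_fun (hσ n) x
  rw [hsep] at hmem
  exact (Submodule.mem_bot A).1 hmem

end Core

theorem finite_projective_of_truncations (J : ℕ → Ideal A) {P : Type v} [AddCommGroup P]
    [Module A P] (hJ : Antitone J) (hnil : ∀ n, ∃ k, J 1 ^ k ≤ J n)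
    (hsepA : ∀ a : A, (∀ n, a ∈ J n) → a = 0)
    (hcplA : ∀ w : ℕ → A, (∀ n, w (n + 1) - w n ∈ J n) → ∃ a, ∀ n, a - w n ∈ J n)
    (hsep : ⨅ n, J n • (⊤ : Submodule A P) = ⊥)
    (hfin : Module.Finite (A ⧸ J 1) (Pq J P 1))
    (hproj : ∀ n, Module.Projective (A ⧸ J n) (Pq J P n)) :
    Module.Finite A P ∧ Module.Projective A P := by
  haveI : Module.Finite A (Pq J P 1) := Module.Finite.trans (A ⧸ J 1) _
  obtain ⟨r, f₁, hf₁⟩ := Module.Finite.exists_fin' A (Pq J P 1)
  obtain ⟨π, hπ⟩ := Module.projective_lifting_property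
    (Submodule.mkQ (J 1 • (⊤ : Submodule A P))) f₁ (Submodule.mkQ_surjective _)
  have h1 : LinearMap.range π ⊔ J 1 • (⊤ : Submodule A P) = ⊤ := by
    rw [eq_top_iff]
    intro x _
    obtain ⟨y, hy⟩ := hf₁ (Submodule.Quotient.mk x)
    have h2 : (Submodule.Quotient.mk (π y) : Pq J P 1) = Submodule.Quotient.mk x := by
      rw [← hy]; exact LinearMap.congr_fun hπ y
    have h3 := (Submodule.Quotient.eq _).1 h2
    have e : x = π y + -(π y - x) := by abel
    rw [e]
    exact Submodule.add_mem_sup (LinearMap.mem_range_self π y) (neg_mem h3)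
  have hsurj : ∀ n, LinearMap.range π ⊔ J n • (⊤ : Submodule A P) = ⊤ := by
    intro n
    obtain ⟨k, hk⟩ := hnil n
    refine nakayama_nil (J 1) (J n) k hk _ le_sup_right ?_
    exact eq_top_iff.2 (h1.symm.le.trans (sup_le (le_sup_of_le_left le_sup_left) le_sup_right))
  have h0 : Nonempty {σ : P →ₗ[A] Fq J r 0 // (piq J π 0) ∘ₗ σ = Submodule.mkQ _} := by
    haveI := hproj 0
    obtain ⟨τ, hτ⟩ := lift_of_proj (J 0) (kills_Fq J 0) (kills_Pq J 0)
      (piq J π 0) (piq_surjective J π 0 (hsurj 0)) (Submodule.mkQ _)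
    exact ⟨⟨τ, hτ⟩⟩
  obtain ⟨σ, hσc⟩ := exists_seq
    (S := fun n => {σ : P →ₗ[A] Fq J r n // (piq J π n) ∘ₗ σ = Submodule.mkQ _})
    (fun n a b => (qF J hJ n) ∘ₗ b.1 = a.1) h0 (fun n a => by
      obtain ⟨σ', h1', h2'⟩ := section_step J π hJ hproj hsurj n a.1 a.2
      exact ⟨⟨σ', h1'⟩, h2'⟩)
  obtain ⟨s, hs⟩ := exists_section J π hJ hsepA hcplA hsep (fun n => (σ n).1)
    (fun n => (σ n).2) hσc
  refine ⟨?_, Module.Projective.of_split s π hs⟩
  exact Module.Finite.of_surjective π (fun x => ⟨s x, LinearMap.congr_fun hs x⟩)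

theorem iInf_smul_top_eq_bot (J : ℕ → Ideal A) {P : Type v} [AddCommGroup P] [Module A P]
    [Module.Finite A P] [Module.Projective A P]
    (hsepA : ∀ a : A, (∀ n, a ∈ J n) → a = 0) :
    ⨅ n, J n • (⊤ : Submodule A P) = ⊥ := by
  rw [eq_bot_iff]
  intro x hx
  rw [Submodule.mem_iInf] at hx
  obtain ⟨r, f, hf⟩ := Module.Finite.exists_fin' A P
  obtain ⟨s, hs⟩ := Module.projective_lifting_property f LinearMap.id hf
  have h0 : s x = 0 := by
    funext i
    show s x i = 0
    refine hsepA _ fun n => ?_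
    exact (mem_smul_top_pi_iff (J n) _).1 (map_mem_smul_top (J n) s (hx n)) i
  have h2 : f (s x) = x := LinearMap.congr_fun hs x
  rw [Submodule.mem_bot, ← h2, h0, map_zero]

theorem projective_quot (J : Ideal A) {P : Type v} [AddCommGroup P] [Module A P]
    [Module.Projective A P] :
    Module.Projective (A ⧸ J) (P ⧸ (J • (⊤ : Submodule A P))) := by
  have hs : Function.Surjective (algebraMap A (A ⧸ J)) := Ideal.Quotient.mk_surjective
  exact Module.Projective.of_equiv'
    ((TensorProduct.quotTensorEquivQuotSMul P J).extendScalarsOfSurjective hs)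

theorem finite_quot (J : Ideal A) {P : Type v} [AddCommGroup P] [Module A P]
    [Module.Finite A P] :
    Module.Finite (A ⧸ J) (P ⧸ (J • (⊤ : Submodule A P))) :=
  Module.Finite.of_restrictScalars_finite A (A ⧸ J) _

end Abstract

section Witt

open WittVector

variable (p : ℕ) [hp : Fact p.Prime] (R : Type u) [CommRing R]

/-- kernel of the `n`-th truncation. -/
noncomputable abbrev Jw (n : ℕ) : Ideal (WittVector p R) :=
  RingHom.ker (WittVector.truncate (p := p) (R := R) n)

theorem Jw_antitone : Antitone (Jw p R) := by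
  intro m n hmn w hw
  rw [WittVector.mem_ker_truncate] at hw ⊢
  exact fun i hi => hw i (lt_of_lt_of_le hi hmn)

theorem sub_mem_Jw_iff (n : ℕ) (x y : WittVector p R) :
    x - y ∈ Jw p R n ↔ ∀ i < n, x.coeff i = y.coeff i := by
  rw [RingHom.sub_mem_ker_iff, TruncatedWittVector.ext_iff]
  simp only [WittVector.coeff_truncate]
  exact Fin.forall_iff

theorem Jw_sep (a : WittVector p R) (h : ∀ n, a ∈ Jw p R n) : a = 0 := by
  refine WittVector.ext fun i => ?_
  rw [WittVector.zero_coeff]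
  exact (WittVector.mem_ker_truncate (i + 1) a).1 (h (i + 1)) i (Nat.lt_succ_self i)

theorem Jw_cpl (w : ℕ → WittVector p R) (hw : ∀ n, w (n + 1) - w n ∈ Jw p R n) :
    ∃ a, ∀ n, a - w n ∈ Jw p R n := by
  have hconst : ∀ i m, i + 1 ≤ m → (w m).coeff i = (w (i + 1)).coeff i := by
    intro i m hm
    induction m, hm using Nat.le_induction with
    | base => rfl
    | succ m hm ih =>
      rw [← ih]
      exact (sub_mem_Jw_iff p R m _ _).1 (hw m) i hm
  refine ⟨WittVector.mk p (fun i => (w (i + 1)).coeff i), fun n => ?_⟩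
  rw [sub_mem_Jw_iff]
  intro i hi
  rw [WittVector.coeff_mk]
  exact (hconst i n hi).symm

theorem Jw_one : Jw p R 1 = RingHom.ker (constantCoeff : WittVector p R →+* R) := by
  ext w
  rw [WittVector.mem_ker_truncate, RingHom.mem_ker]
  constructor
  · intro h; exact h 0 Nat.one_pos
  · intro h i hi
    have h0 : i = 0 := by omega
    subst h0; exact h

theorem Jw_nil (hpn : IsNilpotent (p : R)) (n : ℕ) : ∃ k, Jw p R 1 ^ k ≤ Jw p R n := by
  obtain ⟨h1, -, h3⟩ := Groth.Agent.S14864.result p R hpn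
  obtain ⟨m', hm'⟩ := h3 n
  obtain ⟨m, hm⟩ := h1 m'
  exact ⟨m, by rw [Jw_one]; exact hm.trans hm'⟩

theorem main (hpn : IsNilpotent (p : R))
    (P : Type v) [AddCommGroup P] [Module (WittVector p R) P] :
    (Module.Finite (WittVector p R) P ∧ Module.Projective (WittVector p R) P) ↔
      ((⨅ n : ℕ, (RingHom.ker (WittVector.truncate (p := p) (R := R) n) •
          (⊤ : Submodule (WittVector p R) P))) = ⊥ ∧
        ∀ n : ℕ, Module.Finite
              (WittVector p R ⧸ RingHom.ker (WittVector.truncate (p := p) (R := R) n))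
              (P ⧸ (RingHom.ker (WittVector.truncate (p := p) (R := R) n) •
                (⊤ : Submodule (WittVector p R) P))) ∧
            Module.Projective
              (WittVector p R ⧸ RingHom.ker (WittVector.truncate (p := p) (R := R) n))
              (P ⧸ (RingHom.ker (WittVector.truncate (p := p) (R := R) n) •
                (⊤ : Submodule (WittVector p R) P)))) := by
  constructor
  · rintro ⟨hfin, hproj⟩
    exact ⟨iInf_smul_top_eq_bot (Jw p R) (Jw_sep p R),
      fun n => ⟨finite_quot (Jw p R n), projective_quot (Jw p R n)⟩⟩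
  · rintro ⟨hsep, h⟩
    exact finite_projective_of_truncations (Jw p R) (Jw_antitone p R) (Jw_nil p R hpn)
      (Jw_sep p R) (Jw_cpl p R) hsep (h 1).1 (fun n => (h n).2)

end Witt

end Groth.Agent.Helper22.TruncProj
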