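import Mathlib

/-!
# Twisted translates `x_i ↦ x_i + g_i t^N` of a hypersurface are finite over the base

For `f ∈ k[x][t]` and `N > deg_t f`, the polynomial `f(x + g t^N, t)` has top `t`-coefficient
`h(g)` for an explicit nonzero form `h` depending only on `f`.
-/

set_option maxHeartbeats 1600000
set_option autoImplicit false

universe v

open Classical

namespace Groth.Agent.Helper22.TwTr

section Top
variable {k : Type*} [Field k] {K : Type*} [Field K] [Algebra k K] {r : ℕ} (g : Fin r → K)
  (N : ℕ)

/-- the twisted translation `x_i ↦ x_i + g_i t^N` -/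
noncomputable def Phi : MvPolynomial (Fin r) k →ₐ[k] Polynomial (MvPolynomial (Fin r) K) :=
  MvPolynomial.aeval (fun i : Fin r => Polynomial.C (MvPolynomial.X i) +
    Polynomial.C (MvPolynomial.C (g i)) * Polynomial.X ^ N)

/-- degree bound and top coefficient -/
def Top (b : MvPolynomial (Fin r) k) (d : ℕ) : Prop :=
  (Phi g N b).natDegree ≤ N * d ∧
    (Phi g N b).coeff (N * d) = MvPolynomial.C (MvPolynomial.aeval g b)

theorem Top_C (c : k) : Top g N (MvPolynomial.C c) 0 := by
  have h1 : Phi g N (MvPolynomial.C c) = Polynomial.C (MvPolynomial.C (algebraMap k K c)) := by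
    unfold Phi
    rw [MvPolynomial.aeval_C, Polynomial.algebraMap_apply, MvPolynomial.algebraMap_apply]
  constructor
  · rw [h1, Polynomial.natDegree_C, mul_zero]
  · rw [h1, mul_zero, Polynomial.coeff_C_zero, MvPolynomial.aeval_C]

theorem Top_X (hN : N ≠ 0) (i : Fin r) :
    Top g N (MvPolynomial.X i : MvPolynomial (Fin r) k) 1 := by
  have h1 : Phi g N (MvPolynomial.X i : MvPolynomial (Fin r) k) =
      Polynomial.C (MvPolynomial.X i : MvPolynomial (Fin r) K) +
      Polynomial.C (MvPolynomial.C (g i)) * Polynomial.X ^ N := by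
    unfold Phi
    rw [MvPolynomial.aeval_X]
  constructor
  · rw [h1, mul_one]
    apply Polynomial.natDegree_add_le_of_degree_le
    · rw [Polynomial.natDegree_C]
      exact Nat.zero_le N
    · exact Polynomial.natDegree_C_mul_X_pow_le _ N
  · rw [h1, mul_one, Polynomial.coeff_add, Polynomial.coeff_C, if_neg hN, zero_add,
      Polynomial.coeff_C_mul_X_pow, if_pos rfl, MvPolynomial.aeval_X]

theorem Top_one : Top g N (1 : MvPolynomial (Fin r) k) 0 := by
  have h := Top_C g N (1 : k)
  rw [MvPolynomial.C_1] at h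
  exact h

theorem Top_mul {b b' : MvPolynomial (Fin r) k} {d d' : ℕ} (h : Top g N b d)
    (h' : Top g N b' d') : Top g N (b * b') (d + d') := by
  constructor
  · rw [map_mul, mul_add]
    exact (Polynomial.natDegree_mul_le).trans (add_le_add h.1 h'.1)
  · rw [map_mul, mul_add, Polynomial.coeff_mul_add_eq_of_natDegree_le h.1 h'.1, h.2, h'.2,
      map_mul, map_mul]

theorem Top_pow {b : MvPolynomial (Fin r) k} {d : ℕ} (h : Top g N b d) (e : ℕ) :
    Top g N (b ^ e) (e * d) := by
  induction e with
  | zero =>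
    rw [pow_zero, zero_mul]
    exact Top_one g N
  | succ e ih =>
    rw [pow_succ, add_mul, one_mul]
    exact Top_mul g N ih h

theorem Top_monomial (hN : N ≠ 0) (μ : Fin r →₀ ℕ) (c : k) :
    Top g N (MvPolynomial.monomial μ c) (Finsupp.degree μ) := by
  induction μ using Finsupp.induction with
  | zero =>
    rw [map_zero]
    exact Top_C g N c
  | single_add i e μ' hi he ih =>
    rw [MvPolynomial.monomial_single_add, map_add, Finsupp.degree_single]
    have h1 := Top_pow g N (Top_X (k := k) g N hN i) e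
    rw [mul_one] at h1
    exact Top_mul g N h1 ih

theorem top_of_totalDegree_le (hN : N ≠ 0) (a : MvPolynomial (Fin r) k) (δ : ℕ)
    (ha : a.totalDegree ≤ δ) :
    (Phi g N a).natDegree ≤ N * δ ∧
      (Phi g N a).coeff (N * δ) =
        MvPolynomial.C (MvPolynomial.aeval g (MvPolynomial.homogeneousComponent δ a)) := by
  have hdeg : ∀ μ ∈ a.support, Finsupp.degree μ ≤ δ := by
    intro μ hμ
    have h := MvPolynomial.le_totalDegree hμ
    rw [Finsupp.degree_apply]
    exact le_trans h ha
  have hsum : Phi g N a = ∑ μ ∈ a.support, Phi g N (MvPolynomial.monomial μ (a.coeff μ)) := by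
    conv_lhs => rw [a.as_sum]
    rw [map_sum]
  constructor
  · rw [hsum]
    apply Polynomial.natDegree_sum_le_of_forall_le
    intro μ hμ
    exact le_trans (Top_monomial g N hN μ _).1 (Nat.mul_le_mul_left N (hdeg μ hμ))
  · rw [hsum, Polynomial.finsetSum_coeff, MvPolynomial.homogeneousComponent_apply, map_sum,
      map_sum, Finset.sum_filter]
    apply Finset.sum_congr rfl
    intro μ hμ
    by_cases h : Finsupp.degree μ = δ
    · rw [if_pos h, ← h]
      exact (Top_monomial g N hN μ _).2
    · rw [if_neg h]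
      apply Polynomial.coeff_eq_zero_of_natDegree_lt
      have hlt : Finsupp.degree μ < δ := lt_of_le_of_ne (hdeg μ hμ) h
      exact lt_of_le_of_lt (Top_monomial g N hN μ _).1
        (mul_lt_mul_of_pos_left hlt (Nat.pos_of_ne_zero hN))

end Top

theorem exists_lexmax (S : Finset ℕ) (hS : S.Nonempty) (D₀ : ℕ) (hD : ∀ j ∈ S, j ≤ D₀)
    (δ : ℕ → ℕ) :
    ∃ j₀ ∈ S, ∀ N : ℕ, D₀ < N → ∀ j ∈ S, j ≠ j₀ → N * δ j + j < N * δ j₀ + j₀ := by
  obtain ⟨j₀, hj₀, hmax⟩ := Finset.exists_max_image S (fun j => (D₀ + 1) * δ j + j) hS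
  refine ⟨j₀, hj₀, ?_⟩
  intro N hN j hj hne
  have hm : (D₀ + 1) * δ j + j ≤ (D₀ + 1) * δ j₀ + j₀ := hmax j hj
  have h1 := hD j hj
  have h2 := hD j₀ hj₀
  rcases lt_trichotomy (δ j) (δ j₀) with hlt | heq | hgt
  · have h3 : N * (δ j + 1) ≤ N * δ j₀ := Nat.mul_le_mul_left N hlt
    rw [mul_add, mul_one] at h3
    omega
  · rw [heq] at hm ⊢
    omega
  · exfalso
    have h3 : (D₀ + 1) * (δ j₀ + 1) ≤ (D₀ + 1) * δ j := Nat.mul_le_mul_left _ hgt
    rw [mul_add, mul_one] at h3
    omega

section Main
variable {k : Type*} [Field k] {r : ℕ}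

theorem main_deg (f : Polynomial (MvPolynomial (Fin r) k)) (hf : f ≠ 0) :
    ∃ h : MvPolynomial (Fin r) k, h ≠ 0 ∧ ∀ N : ℕ, f.natDegree < N →
      ∀ (K : Type v) [Field K] [Algebra k K] (g : Fin r → K),
        ∃ D : ℕ, f.natDegree ≤ D ∧
          (Polynomial.eval₂ (Phi g N).toRingHom Polynomial.X f).natDegree ≤ D ∧
          (Polynomial.eval₂ (Phi g N).toRingHom Polynomial.X f).coeff D =
            MvPolynomial.C (MvPolynomial.aeval g h) := by
  have hS : f.support.Nonempty := Polynomial.nonempty_support_iff.mpr hf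
  obtain ⟨j₀, hj₀, hlex⟩ := exists_lexmax f.support hS f.natDegree
    (fun j hj => Polynomial.le_natDegree_of_mem_supp j hj) (fun j => (f.coeff j).totalDegree)
  have ha₀ : f.coeff j₀ ≠ 0 := Polynomial.mem_support_iff.mp hj₀
  refine ⟨MvPolynomial.homogeneousComponent (f.coeff j₀).totalDegree (f.coeff j₀), ?_, ?_⟩
  · have hne : (f.coeff j₀).support.Nonempty := by
      rw [Finset.nonempty_iff_ne_empty]
      intro he
      exact ha₀ (MvPolynomial.support_eq_empty.mp he)
    obtain ⟨μ, hμ, hμsup⟩ := Finset.exists_mem_eq_sup (f.coeff j₀).support hne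
      (fun s => s.sum fun _ e => e)
    intro hzero
    have hc := MvPolynomial.coeff_homogeneousComponent (f.coeff j₀).totalDegree
      (f.coeff j₀) μ
    have hdeg : Finsupp.degree μ = (f.coeff j₀).totalDegree := by
      rw [Finsupp.degree_apply]
      exact hμsup.symm
    rw [hzero, MvPolynomial.coeff_zero, if_pos hdeg] at hc
    exact (MvPolynomial.mem_support_iff.mp hμ) hc.symm
  · intro N hN K _ _ g
    have hN0 : N ≠ 0 := by omega
    refine ⟨N * (f.coeff j₀).totalDegree + j₀, ?_, ?_, ?_⟩
    · by_cases hnd : f.natDegree = j₀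
      · omega
      · have h1 := hlex N hN f.natDegree (Polynomial.natDegree_mem_support_of_nonzero hf) hnd
        omega
    · rw [Polynomial.eval₂_eq_sum, Polynomial.sum_def]
      apply Polynomial.natDegree_sum_le_of_forall_le
      intro j hj
      have h1 : ((Phi g N).toRingHom (f.coeff j) * Polynomial.X ^ j).natDegree ≤
          N * (f.coeff j).totalDegree + j :=
        (Polynomial.natDegree_mul_le).trans (add_le_add
          (top_of_totalDegree_le g N hN0 (f.coeff j) _ le_rfl).1
          (Polynomial.natDegree_X_pow_le j))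
      by_cases hjj : j = j₀
      · rw [hjj] at h1
        rw [hjj]
        exact h1
      · exact le_trans h1 (le_of_lt (hlex N hN j hj hjj))
    · rw [Polynomial.eval₂_eq_sum, Polynomial.sum_def, Polynomial.finsetSum_coeff,
        Finset.sum_eq_single_of_mem j₀ hj₀]
      · rw [Polynomial.coeff_mul_X_pow]
        exact (top_of_totalDegree_le g N hN0 (f.coeff j₀) _ le_rfl).2
      · intro j hj hjj
        apply Polynomial.coeff_eq_zero_of_natDegree_lt
        refine lt_of_le_of_lt ?_ (hlex N hN j hj hjj)
        exact (Polynomial.natDegree_mul_le).trans (add_le_add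
          (top_of_totalDegree_le g N hN0 (f.coeff j) _ le_rfl).1
          (Polynomial.natDegree_X_pow_le j))

end Main

theorem finite_injective {R : Type*} [CommRing R] [IsDomain R] (F : Polynomial R) (D : ℕ)
    (hD : 1 ≤ D) (hdeg : F.natDegree ≤ D) (u : R) (hu : IsUnit u) (hc : F.coeff D = u) :
    Module.Finite R (Polynomial R ⧸ Ideal.span {F}) ∧
      Function.Injective ((Ideal.Quotient.mk (Ideal.span {F})).comp
        (algebraMap R (Polynomial R))) := by
  have hu0 : u ≠ 0 := hu.ne_zero
  have hnat : F.natDegree = D := by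
    apply le_antisymm hdeg
    apply Polynomial.le_natDegree_of_ne_zero
    rw [hc]
    exact hu0
  have hlead : F.leadingCoeff = u := by
    rw [Polynomial.leadingCoeff, hnat, hc]
  have hF0 : F ≠ 0 := by
    rintro rfl
    rw [Polynomial.coeff_zero] at hc
    exact hu0 hc.symm
  constructor
  · obtain ⟨w, hw⟩ := hu.exists_left_inv
    have hmonic : (Polynomial.C w * F).Monic :=
      Polynomial.monic_C_mul_of_mul_leadingCoeff_eq_one (by rw [hlead]; exact hw)
    have hspan : Ideal.span {Polynomial.C w * F} = Ideal.span {F} := by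
      apply Ideal.span_singleton_mul_left_unit
      exact (IsUnit.of_mul_eq_one u hw).map Polynomial.C
    rw [← hspan]
    exact hmonic.finite_adjoinRoot
  · have hdeg0 : F.degree ≠ 0 := by
      rw [Polynomial.degree_eq_natDegree hF0, hnat]
      have hD0 : D ≠ 0 := by omega
      exact_mod_cast hD0
    exact AdjoinRoot.of.injective_of_degree_ne_zero hdeg0

end Groth.Agent.Helper22.TwTr
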