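import Groth.Agent.Lib.Helper22.SubComod

/-!
# Points of a unipotent group act unipotently; torsion prime to the characteristic is trivial
-/

set_option autoImplicit false
namespace Groth.Agent.Helper22.SubComod
open TensorProduct Groth.Agent.Helper12 WithConv
universe u v w

section Act

variable {k : Type u} [Field k] {C : Type v} [AddCommGroup C] [Module k C] [Coalgebra k C]
variable (V : Type w) [AddCommGroup V] [Module k V] [HopfRep.Comod k C V]

/-- the operator `v ↦ (id ⊗ l)(ρ v)` -/
noncomputable def opT (l : C →ₗ[k] k) : V →ₗ[k] V :=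
  slice l ∘ₗ HopfRep.Comod.coact (k := k) (A := C)

theorem opT_apply (l : C →ₗ[k] k) (v : V) :
    opT V l v = slice l (HopfRep.Comod.coact (k := k) (A := C) v) := rfl

theorem opT_counit : opT V (Coalgebra.counit (R := k) (A := C)) = LinearMap.id := by
  ext v
  exact slice_counit_coact v

theorem opT_mul (x y : WithConv (C →ₗ[k] k)) :
    opT V (x * y).ofConv = opT V x.ofConv ∘ₗ opT V y.ofConv := by
  ext v
  rw [LinearMap.comp_apply, opT_apply, opT_apply, opT_apply, coact_slice_coact]
  generalize HopfRep.Comod.coact (k := k) (A := C) v = z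
  rw [LinearMap.convMul_def]
  induction z using TensorProduct.induction_on with
  | zero => simp
  | tmul w c =>
    simp only [LinearMap.lTensor_tmul, slice_tmul, ofConv_toConv, LinearMap.comp_apply]
    congr 1
    unfold rtrans
    simp only [LinearMap.comp_apply, LinearEquiv.coe_coe]
    generalize Coalgebra.comul (R := k) c = d
    induction d using TensorProduct.induction_on with
    | zero => simp
    | tmul c₁ c₂ => simp [mul_comm]
    | add a b ha hb => simp only [map_add, ha, hb]
  | add a b ha hb => simp only [map_add, ha, hb]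

/-- `opT` as a monoid hom from the convolution monoid -/
noncomputable def opTHom : WithConv (C →ₗ[k] k) →* Module.End k V where
  toFun x := opT V x.ofConv
  map_one' := by
    rw [LinearMap.convOne_def, ofConv_toConv]
    have : Algebra.linearMap k k ∘ₗ Coalgebra.counit (R := k) (A := C) = Coalgebra.counit := by
      ext c; simp
    rw [this, opT_counit]
    rfl
  map_mul' x y := opT_mul V x y

end Act

section Unip

variable {K : Type u} [Field K] {A : Type v} [CommRing A] [HopfAlgebra K A]

/-- with a trivial flag, a point `ℓ` with `ℓ 1 = 1` acts unipotently -/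
theorem opT_sub_one_nilpotent (V : Type w) [AddCommGroup V] [Module K V] [HopfRep.Comod K A V]
    (hflag : HasTrivFlag K A V) (ℓ : A →ₗ[K] K) (hℓ : ℓ 1 = 1) :
    IsNilpotent (opT V ℓ - 1) := by
  obtain ⟨m, F, hmono, h0, hm, hsub, htriv⟩ := hflag
  have key : ∀ i, ∀ v ∈ F i, ((opT V ℓ - 1) ^ i) v = 0 := by
    intro i
    induction i with
    | zero =>
      intro v hv
      rw [h0, Submodule.mem_bot] at hv
      rw [hv, map_zero]
    | succ i ih =>
      intro v hv
      have h1 : (opT V ℓ - 1) v ∈ F i := by
        have h2 := slice_mem_of_mem_range (F i) ℓ _ (htriv i v hv)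
        rw [map_sub, slice_tmul, hℓ, one_smul] at h2
        exact h2
      rw [pow_succ, Module.End.mul_apply]
      exact ih _ h1
  refine ⟨m, ?_⟩
  ext v
  exact key m v (by rw [hm]; trivial)

theorem eq_one_of_isOfFinOrder (hU : HopfRep.IsUnipotent K A)
    (g : WithConv (A →ₐ[K] K)) (hg : IsOfFinOrder g) (hcop : ((orderOf g : ℕ) : K) ≠ 0) :
    g = 1 := by
  set n := orderOf g with hn
  have hgn : g ^ n = 1 := pow_orderOf_eq_one g
  set ℓ : A →ₗ[K] K := g.ofConv.toLinearMap with hℓdef
  have hℓ1 : ℓ 1 = 1 := map_one g.ofConv
  have hℓn : (toConv ℓ) ^ n = 1 := by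
    rw [hℓdef, ← AlgHom.toLinearMap_convPow, hgn, AlgHom.toLinearMap_convOne]
  -- on every finite-dimensional comodule with a flag, ℓ acts trivially
  have hfd : ∀ (V : Type v) [AddCommGroup V] [Module K V] [HopfRep.Comod K A V]
      [Module.Finite K V], opT V ℓ = 1 := by
    intro V _ _ _ _
    have hflag := hasTrivFlag_of_isUnipotent K A hU _ V rfl
    have hnil := opT_sub_one_nilpotent V hflag ℓ hℓ1
    have hpow : (opT V ℓ) ^ n = 1 := by
      have := map_pow (opTHom (k := K) (C := A) V) (toConv ℓ) n
      rw [hℓn, map_one] at this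
      exact this.symm
    have hsq : Squarefree (Polynomial.X ^ n - Polynomial.C (1 : K)) :=
      (Polynomial.separable_X_pow_sub_C (1 : K) hcop one_ne_zero).squarefree
    have hss : Module.End.IsSemisimple (opT V ℓ) := by
      apply Module.End.isSemisimple_of_squarefree_aeval_eq_zero hsq
      rw [map_sub, map_pow, Polynomial.aeval_X, Polynomial.aeval_C, hpow, map_one, sub_self]
    have hss' : Module.End.IsSemisimple (opT V ℓ - algebraMap K (Module.End K V) 1) :=
      Module.End.isSemisimple_sub_algebraMap_iff.mpr hss
    rw [map_one] at hss'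
    exact sub_eq_zero.mp (Module.End.eq_zero_of_isNilpotent_isSemisimple hnil hss')
  -- apply to the subcomodule generated by `a`
  have hall : ∀ a : A, opT A ℓ a = a := by
    intro a
    let W := gen (k := K) (C := A) (V := A) a
    have hW : HopfRep.IsSubcomod (k := K) (A := A) W := gen_isSubcomod a
    haveI : Module.Finite K W := gen_finite a
    letI := subComod W hW
    have h1 := hfd W
    have h2 := LinearMap.congr_fun h1 ⟨a, mem_gen a⟩
    have h3 := congrArg (W.subtype) h2
    rw [opT_apply, ← slice_rTensor, subComod_coact] at h3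
    exact h3
  -- conclude
  apply WithConv.ofConv_injective
  apply AlgHom.ext
  intro a
  have h1 : Coalgebra.counit (R := K) (opT A ℓ a) = ℓ a := by
    rw [opT_apply]
    have h2 := LinearMap.congr_fun (Coalgebra.rTensor_counit_comp_comul (R := K) (A := A)) a
    simp only [LinearMap.comp_apply, TensorProduct.mk_apply] at h2
    have key : ∀ z : A ⊗[K] A, Coalgebra.counit (R := K) (slice ℓ z) =
        ℓ (TensorProduct.lid K A ((Coalgebra.counit (R := K) (A := A)).rTensor A z)) := by
      intro z
      induction z using TensorProduct.induction_on with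
      | zero => simp
      | tmul x y => simp [mul_comm]
      | add x y hx hy => simp only [map_add, hx, hy]
    rw [show HopfRep.Comod.coact (k := K) (A := A) a = Coalgebra.comul (R := K) a from rfl, key, h2]
    simp
  rw [hall a] at h1
  show g.ofConv a = (1 : WithConv (A →ₐ[K] K)).ofConv a
  rw [AlgHom.convOne_apply]
  simp only [Algebra.algebraMap_self_apply]
  exact h1.symm

end Unip

end Groth.Agent.Helper22.SubComod
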