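import Mathlib
import Groth.Prelude.Def_W4stkdualitygroupp2Univ

set_option autoImplicit false

namespace Groth.Agent.Helper22.UnivAlgEt

open MvPolynomial Synt

section abstract

/-- If a presubmersive presentation with as many relations as generators has jacobian not in
a prime `q`, then the algebra is étale and quasi-finite at `q`. -/
theorem etale_quasiFinite_at {R S ι σ : Type*} [CommRing R] [CommRing S] [Algebra R S]
    [Finite ι] [Finite σ]
    (P0 : Algebra.PreSubmersivePresentation R S ι σ) (hcard : Nat.card ι = Nat.card σ)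
    (q : Ideal S) [q.IsPrime] (hq : P0.jacobian ∉ q) :
    Algebra.QuasiFiniteAt R q ∧ Algebra.IsEtaleAt R q := by
  classical
  have hFP : Algebra.FinitePresentation R S := P0.toPresentation.finitePresentation_of_isFinite
  let Q0 : Algebra.SubmersivePresentation S (Localization.Away P0.jacobian) Unit Unit :=
    Algebra.SubmersivePresentation.localizationAway (Localization.Away P0.jacobian) P0.jacobian
  have hunit : IsUnit (Q0.toPreSubmersivePresentation.comp P0).jacobian := by
    rw [Algebra.PreSubmersivePresentation.comp_jacobian_eq_jacobian_smul_jacobian,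
      Algebra.smul_def]
    exact (IsLocalization.Away.algebraMap_isUnit P0.jacobian).mul Q0.jacobian_isUnit
  let C : Algebra.SubmersivePresentation R (Localization.Away P0.jacobian)
      (Unit ⊕ ι) (Unit ⊕ σ) :=
    { toPreSubmersivePresentation := Q0.toPreSubmersivePresentation.comp P0
      jacobian_isUnit := hunit }
  have hdim : C.dimension = 0 := by
    show (Q0.toPreSubmersivePresentation.comp P0).dimension = 0
    rw [Algebra.PreSubmersivePresentation.dimension_comp_eq_dimension_add_dimension]
    have h1 : Q0.dimension = 0 := by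
      show Nat.card Unit - Nat.card Unit = 0
      simp
    have h2 : P0.dimension = 0 := by
      show Nat.card ι - Nat.card σ = 0
      rw [hcard, Nat.sub_self]
    rw [h1, h2]
  have hss : Algebra.IsStandardSmoothOfRelativeDimension 0 R (Localization.Away P0.jacobian) :=
    C.isStandardSmoothOfRelativeDimension hdim
  have hE : Algebra.Etale R (Localization.Away P0.jacobian) := inferInstance
  have hFE : Algebra.FormallyEtale R (Localization.Away P0.jacobian) := hE.formallyEtale
  have hsub := (Algebra.basicOpen_subset_etaleLocus_iff (R := R) (A := S)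
    (f := P0.jacobian)).2 hFE
  have hmem : (⟨q, inferInstance⟩ : PrimeSpectrum S) ∈ PrimeSpectrum.basicOpen P0.jacobian :=
    (PrimeSpectrum.mem_basicOpen _ _).2 hq
  have hqE : Algebra.IsEtaleAt R q := hsub hmem
  refine ⟨?_, hqE⟩
  have hFT : Algebra.FiniteType R S := inferInstance
  haveI : Algebra.FormallyEtale R (Localization.AtPrime q) := hqE
  have hU : Algebra.FormallyUnramified R (Localization.AtPrime q) := inferInstance
  have hEss : Algebra.EssFiniteType R (Localization.AtPrime q) := inferInstance
  exact inferInstance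

end abstract

variable (n d : ℕ)

/-- unit vector index -/
def e (hd : 1 ≤ d) (i : Fin n) : UnivIdx n d :=
  ⟨fun j => ⟨if j = i then 1 else 0, by split_ifs <;> omega⟩, by
    show ∑ j : Fin n, (if j = i then 1 else 0) ≤ d
    rw [Finset.sum_ite_eq' Finset.univ i (fun _ => 1)]
    simpa using hd⟩

theorem e_exponent (hd : 1 ≤ d) (i : Fin n) :
    (e n d hd i).exponent = Finsupp.single i 1 := by
  apply Finsupp.ext
  intro j
  show (if j = i then 1 else 0) = (Finsupp.single i 1 : Fin n →₀ ℕ) j
  rw [Finsupp.single_apply]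
  by_cases h : j = i
  · rw [if_pos h, if_pos h.symm]
  · rw [if_neg h, if_neg (fun h' => h h'.symm)]

noncomputable def χ₀ (hd : 1 ≤ d) : UnivBase n d →+* ℤ :=
  eval₂Hom (Int.castRingHom ℤ) (fun w => if w.2 = e n d hd w.1 then 1 else 0)

noncomputable def χ' (hd : 1 ≤ d) : MvPolynomial (Fin n) (UnivBase n d) →+* ℤ :=
  eval₂Hom (χ₀ n d hd) (fun _ => 0)

theorem χ₀_X (hd : 1 ≤ d) (i : Fin n) (E : UnivIdx n d) :
    χ₀ n d hd (X (i, E)) = if E = e n d hd i then 1 else 0 := by
  unfold χ₀
  rw [eval₂Hom_X']

theorem χ'_monomial (hd : 1 ≤ d) (s : Fin n →₀ ℕ) (a : UnivBase n d) :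
    χ' n d hd (monomial s a) = χ₀ n d hd a * s.prod (fun _ k => (0 : ℤ) ^ k) := by
  unfold χ'
  rw [eval₂Hom_monomial]

theorem χ'_univPoly (hd : 1 ≤ d) (i : Fin n) : χ' n d hd (univPoly n d i) = 0 := by
  unfold univPoly
  rw [map_sum]
  apply Finset.sum_eq_zero
  intro E _
  rw [χ'_monomial, χ₀_X]
  by_cases h : E = e n d hd i
  · rw [h, e_exponent, Finsupp.prod_single_index (h := fun _ k => (0 : ℤ) ^ k) (pow_zero _), pow_one, mul_zero]
  · rw [if_neg h, zero_mul]

theorem χ'_pderiv (hd : 1 ≤ d) (i j : Fin n) :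
    χ' n d hd (pderiv i (univPoly n d j)) = if i = j then 1 else 0 := by
  unfold univPoly
  rw [map_sum, map_sum]
  rw [Finset.sum_eq_single (e n d hd j)]
  · rw [pderiv_monomial, χ'_monomial, map_mul, χ₀_X, if_pos rfl, one_mul, e_exponent,
      map_natCast, Finsupp.single_apply]
    by_cases h : i = j
    · subst h
      rw [if_pos rfl, if_pos rfl, tsub_self, Finsupp.prod_zero_index, mul_one, Nat.cast_one]
    · rw [if_neg h, if_neg (fun h' => h h'.symm), Nat.cast_zero, zero_mul]
  · intro E _ hE
    rw [pderiv_monomial, χ'_monomial, map_mul, χ₀_X, if_neg hE, zero_mul, zero_mul]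
  · intro h
    exact absurd (Finset.mem_univ _) h

theorem χ'_det (hd : 1 ≤ d) :
    χ' n d hd (Matrix.det (Matrix.of fun i j : Fin n => pderiv i (univPoly n d j))) = 1 := by
  rw [RingHom.map_det]
  have h : (χ' n d hd).mapMatrix (Matrix.of fun i j : Fin n => pderiv i (univPoly n d j)) = 1 := by
    ext i j
    rw [RingHom.mapMatrix_apply, Matrix.map_apply, Matrix.of_apply, χ'_pderiv, Matrix.one_apply]
  rw [h, Matrix.det_one]

theorem χ'_mem (hd : 1 ≤ d) (a : MvPolynomial (Fin n) (UnivBase n d)) (ha : a ∈ univIdeal n d) :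
    χ' n d hd a = 0 := by
  have h : univIdeal n d ≤ RingHom.ker (χ' n d hd) := by
    apply Ideal.span_le.2
    rintro _ ⟨i, rfl⟩
    show univPoly n d i ∈ RingHom.ker (χ' n d hd)
    rw [RingHom.mem_ker]
    exact χ'_univPoly n d hd i
  exact (RingHom.mem_ker).1 (h ha)

end Groth.Agent.Helper22.UnivAlgEt
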