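import Mathlib
import Groth.Prelude.Def_W4stkdualitygroupp2Univ
import Groth.Agent.Lib.Helper22.UnivAlgEt

set_option autoImplicit false
set_option maxHeartbeats 400000

namespace Groth.Agent.Helper22.UnivAlgEt

open MvPolynomial Synt

variable (n d : ℕ)

noncomputable def P0 :
    Algebra.PreSubmersivePresentation (UnivBase n d) (Synt.UnivAlg n d) (Fin n) (Fin n) :=
  Algebra.PreSubmersivePresentation.naive (v := univPoly n d) id Function.injective_id

theorem P0_jacobian : (P0 n d).jacobian =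
    algebraMap (MvPolynomial (Fin n) (UnivBase n d)) (Synt.UnivAlg n d)
      (Matrix.det (Matrix.of fun i j : Fin n => pderiv i (univPoly n d j))) := by
  rw [Algebra.PreSubmersivePresentation.jacobian_eq_jacobiMatrix_det]
  have hM : (P0 n d).jacobiMatrix = Matrix.of fun i j : Fin n => pderiv i (univPoly n d j) := by
    ext i j
    rw [Algebra.PreSubmersivePresentation.jacobiMatrix_apply]
    rfl
  rw [hM]
  rfl

noncomputable def χU (hd : 1 ≤ d) : Synt.UnivAlg n d →+* ℤ :=
  Ideal.Quotient.lift (univIdeal n d) (χ' n d hd) (χ'_mem n d hd)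

theorem χU_alg (hd : 1 ≤ d) (a : MvPolynomial (Fin n) (UnivBase n d)) :
    χU n d hd (algebraMap (MvPolynomial (Fin n) (UnivBase n d)) (Synt.UnivAlg n d) a) =
      χ' n d hd a :=
  Ideal.Quotient.lift_mk (univIdeal n d) (χ' n d hd) (χ'_mem n d hd)

theorem main (hd : 1 ≤ d) : ∃ q : PrimeSpectrum (Synt.UnivAlg n d),
    Algebra.QuasiFiniteAt (UnivBase n d) q.asIdeal ∧
      Algebra.IsEtaleAt (UnivBase n d) q.asIdeal := by
  have hprime : (RingHom.ker (χU n d hd)).IsPrime := RingHom.ker_isPrime _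
  refine ⟨⟨RingHom.ker (χU n d hd), hprime⟩, ?_⟩
  have hq : (P0 n d).jacobian ∉ RingHom.ker (χU n d hd) := by
    rw [RingHom.mem_ker, P0_jacobian, χU_alg, χ'_det]
    exact one_ne_zero
  exact etale_quasiFinite_at (P0 n d) rfl _ hq

end Groth.Agent.Helper22.UnivAlgEt
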