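import Mathlib
import Groth.Prelude.Def_W4stkdualitygroupp2Univ

set_option autoImplicit false

namespace Groth.Agent.Helper22.UnivAlgReg

open MvPolynomial Synt

variable (n d : ℕ)

/-- the zero exponent index -/
def E0 : UnivIdx n d := ⟨fun _ => 0, by simp⟩

theorem E0_exponent : (E0 n d).exponent = 0 := by
  apply Finsupp.ext
  intro i
  rfl

abbrev Idx : Type := Fin n ⊕ {w : Fin n × UnivIdx n d // w.2 ≠ E0 n d}

abbrev T : Type := MvPolynomial (Idx n d) ℤ

noncomputable def mon (E : UnivIdx n d) : T n d :=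
  E.exponent.prod fun j e => (X (Sum.inl j) : T n d) ^ e

open Classical in
noncomputable def v (i : Fin n) (E : UnivIdx n d) : T n d :=
  if h : E = E0 n d then 0 else X (Sum.inr ⟨(i, E), h⟩)

noncomputable def g (i : Fin n) : T n d := ∑ E : UnivIdx n d, v n d i E * mon n d E

open Classical in
noncomputable def a' (w : Fin n × UnivIdx n d) : T n d :=
  v n d w.1 w.2 - (if w.2 = E0 n d then g n d w.1 else 0)

noncomputable def φ₀ : UnivBase n d →+* T n d := eval₂Hom (Int.castRingHom (T n d)) (a' n d)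

noncomputable def φ : MvPolynomial (Fin n) (UnivBase n d) →+* T n d :=
  eval₂Hom (φ₀ n d) (fun j => (X (Sum.inl j) : T n d))

theorem mon_E0 : mon n d (E0 n d) = 1 := by
  unfold mon
  rw [E0_exponent]
  exact Finsupp.prod_zero_index

theorem φ_univPoly (i : Fin n) : φ n d (univPoly n d i) = 0 := by
  classical
  unfold univPoly
  rw [map_sum]
  have h1 : ∀ E : UnivIdx n d, φ n d (monomial E.exponent (X (i, E))) =
      v n d i E * mon n d E - (if E = E0 n d then g n d i else 0) * mon n d E := by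
    intro E
    unfold φ
    rw [eval₂Hom_monomial]
    show φ₀ n d (X (i, E)) * mon n d E = _
    unfold φ₀
    rw [eval₂Hom_X']
    show a' n d (i, E) * mon n d E = _
    unfold a'
    rw [sub_mul]
  rw [Finset.sum_congr rfl (fun E _ => h1 E), Finset.sum_sub_distrib]
  have h2 : ∑ E : UnivIdx n d, (if E = E0 n d then g n d i else 0) * mon n d E = g n d i := by
    rw [Finset.sum_eq_single (E0 n d)]
    · rw [if_pos rfl, mon_E0, mul_one]
    · intro E _ hE
      rw [if_neg hE, zero_mul]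
    · intro h
      exact absurd (Finset.mem_univ _) h
  rw [h2]
  exact sub_self (g n d i)

theorem φ_mem (a : MvPolynomial (Fin n) (UnivBase n d)) (ha : a ∈ univIdeal n d) :
    φ n d a = 0 := by
  have h : univIdeal n d ≤ RingHom.ker (φ n d) := by
    apply Ideal.span_le.2
    rintro _ ⟨i, rfl⟩
    show univPoly n d i ∈ RingHom.ker (φ n d)
    rw [RingHom.mem_ker]
    exact φ_univPoly n d i
  exact (RingHom.mem_ker).1 (h ha)

section abstract

variable {Q : Type*} [CommRing Q] (q : MvPolynomial (Fin n) (UnivBase n d) →+* Q)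

noncomputable def ψ : T n d →+* Q :=
  eval₂Hom (Int.castRingHom Q)
    (Sum.elim (fun j => q (X j)) (fun w => q (C (X w.1))))

theorem ψ_inl (j : Fin n) : ψ n d q (X (Sum.inl j)) = q (X j) := by
  unfold ψ
  rw [eval₂Hom_X']
  rfl

theorem ψ_inr (w : {w : Fin n × UnivIdx n d // w.2 ≠ E0 n d}) :
    ψ n d q (X (Sum.inr w)) = q (C (X w.1)) := by
  unfold ψ
  rw [eval₂Hom_X']
  rfl

theorem ψ_mon (E : UnivIdx n d) :
    ψ n d q (mon n d E) = q (monomial E.exponent 1) := by
  unfold mon
  rw [monomial_eq, C_1, one_mul, map_finsuppProd, map_finsuppProd]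
  refine Finsupp.prod_congr fun j _ => ?_
  rw [map_pow, map_pow, ψ_inl]

open Classical in
theorem ψ_v_mon (i : Fin n) (E : UnivIdx n d) :
    ψ n d q (v n d i E * mon n d E) =
      q (monomial E.exponent (X (i, E))) -
        (if E = E0 n d then q (C (X (i, E0 n d))) else 0) := by
  by_cases h : E = E0 n d
  · subst h
    have hv : v n d i (E0 n d) = 0 := by
      unfold v
      rw [dif_pos rfl]
    rw [hv, zero_mul, map_zero, if_pos rfl, E0_exponent, C_apply, sub_self]
  · have hv : v n d i E = X (Sum.inr ⟨(i, E), h⟩) := by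
      unfold v
      rw [dif_neg h]
    rw [hv, if_neg h, sub_zero, map_mul, ψ_inr, ψ_mon, ← map_mul, C_mul_monomial, mul_one]

theorem ψ_g (hq : ∀ i, q (univPoly n d i) = 0) (i : Fin n) :
    ψ n d q (g n d i) = - q (C (X (i, E0 n d))) := by
  classical
  unfold g
  rw [map_sum, Finset.sum_congr rfl (fun E _ => ψ_v_mon n d q i E), Finset.sum_sub_distrib,
    ← map_sum]
  have h1 : q (∑ E : UnivIdx n d, monomial E.exponent (X (i, E))) = 0 := hq i
  have h2 : ∑ E : UnivIdx n d, (if E = E0 n d then q (C (X (i, E0 n d))) else 0) =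
      q (C (X (i, E0 n d))) := by
    rw [Finset.sum_eq_single (E0 n d)]
    · rw [if_pos rfl]
    · intro E _ hE
      rw [if_neg hE]
    · intro h
      exact absurd (Finset.mem_univ _) h
  rw [h1, h2, zero_sub]

theorem ψ_φ₀ (hq : ∀ i, q (univPoly n d i) = 0) :
    (ψ n d q).comp (φ₀ n d) = q.comp C := by
  classical
  refine ringHom_ext' (RingHom.ext_int _ _) ?_
  rintro ⟨i, E⟩
  show ψ n d q (φ₀ n d (X (i, E))) = q (C (X (i, E)))
  unfold φ₀
  rw [eval₂Hom_X']
  show ψ n d q (v n d i E - (if E = E0 n d then g n d i else 0)) = _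
  by_cases h : E = E0 n d
  · subst h
    have hv : v n d i (E0 n d) = 0 := by
      unfold v
      rw [dif_pos rfl]
    rw [hv, if_pos rfl, zero_sub, map_neg, ψ_g n d q hq, neg_neg]
  · have hv : v n d i E = X (Sum.inr ⟨(i, E), h⟩) := by
      unfold v
      rw [dif_neg h]
    rw [hv, if_neg h, sub_zero, ψ_inr]

theorem ψ_φ (hq : ∀ i, q (univPoly n d i) = 0) :
    (ψ n d q).comp (φ n d) = q := by
  refine ringHom_ext' ?_ ?_
  · rw [← ψ_φ₀ n d q hq]
    refine RingHom.ext fun r => ?_
    show ψ n d q (φ n d (C r)) = ψ n d q (φ₀ n d r)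
    unfold φ
    rw [eval₂Hom_C]
  · intro j
    show ψ n d q (φ n d (X j)) = q (X j)
    unfold φ
    rw [eval₂Hom_X', ψ_inl]


theorem comp1_abs (φQ : Q →+* T n d) (hφ : ∀ a, φQ (q a) = φ n d a) :
    φQ.comp (ψ n d q) = RingHom.id (T n d) := by
  classical
  refine ringHom_ext' (RingHom.ext_int _ _) ?_
  rintro (j | ⟨⟨i, E⟩, h⟩)
  · show φQ (ψ n d q (X (Sum.inl j))) = X (Sum.inl j)
    rw [ψ_inl, hφ]
    unfold φ
    rw [eval₂Hom_X']
  · show φQ (ψ n d q (X (Sum.inr ⟨(i, E), h⟩))) = X (Sum.inr ⟨(i, E), h⟩)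
    rw [ψ_inr, hφ]
    unfold φ
    rw [eval₂Hom_C]
    unfold φ₀
    rw [eval₂Hom_X']
    show v n d i E - (if E = E0 n d then g n d i else 0) = _
    have hv : v n d i E = X (Sum.inr ⟨(i, E), h⟩) := by
      unfold v
      rw [dif_neg h]
    rw [hv, if_neg h, sub_zero]

theorem comp2_abs (hq : ∀ i, q (univPoly n d i) = 0) (φQ : Q →+* T n d)
    (hφ : ∀ a, φQ (q a) = φ n d a) (hs : Function.Surjective q) :
    (ψ n d q).comp φQ = RingHom.id Q := by
  refine RingHom.ext fun x => ?_
  obtain ⟨a, rfl⟩ := hs x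
  show ψ n d q (φQ (q a)) = q a
  rw [hφ]
  exact RingHom.congr_fun (ψ_φ n d q hq) a

noncomputable def equivAbs (hq : ∀ i, q (univPoly n d i) = 0) (φQ : Q →+* T n d)
    (hφ : ∀ a, φQ (q a) = φ n d a) (hs : Function.Surjective q) : Q ≃+* T n d :=
  RingEquiv.ofRingHom φQ (ψ n d q) (comp1_abs n d q φQ hφ) (comp2_abs n d q hq φQ hφ hs)

theorem main_abs (hq : ∀ i, q (univPoly n d i) = 0) (φQ : Q →+* T n d)
    (hφ : ∀ a, φQ (q a) = φ n d a) (hs : Function.Surjective q) :
    IsDomain Q ∧ ∀ p : PrimeSpectrum Q, IsRegularLocalRing (Localization.AtPrime p.asIdeal) := by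
  have hreg : IsRegularRing Q :=
    IsRegularRing.of_ringEquiv (equivAbs n d q hq φQ hφ hs).symm
  refine ⟨(equivAbs n d q hq φQ hφ hs).toMulEquiv.isDomain (T n d), ?_⟩
  intro p
  exact IsRegularRing.isRegularLocalRing_localization p.asIdeal

end abstract

end Groth.Agent.Helper22.UnivAlgReg
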