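import Mathlib
import Groth.Prelude.Def_W4stkdualitygroupp2Univ
import Groth.Agent.Lib.Helper22.UnivAlgReg

set_option autoImplicit false
set_option maxHeartbeats 400000

namespace Groth.Agent.Helper22.UnivAlgReg

open MvPolynomial Synt

variable (n d : ℕ)

noncomputable def qU : MvPolynomial (Fin n) (UnivBase n d) →+* Synt.UnivAlg n d :=
  algebraMap (MvPolynomial (Fin n) (UnivBase n d)) (Synt.UnivAlg n d)

theorem qU_surj : Function.Surjective (qU n d) :=
  Ideal.Quotient.mk_surjective (I := univIdeal n d)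

theorem qU_univPoly (i : Fin n) : qU n d (univPoly n d i) = 0 :=
  (Ideal.Quotient.eq_zero_iff_mem (I := univIdeal n d)).2 (Ideal.subset_span ⟨i, rfl⟩)

noncomputable def φU : Synt.UnivAlg n d →+* T n d :=
  Ideal.Quotient.lift (univIdeal n d) (φ n d) (φ_mem n d)

theorem φU_q (a : MvPolynomial (Fin n) (UnivBase n d)) : φU n d (qU n d a) = φ n d a :=
  Ideal.Quotient.lift_mk (univIdeal n d) (φ n d) (φ_mem n d)

theorem main : IsDomain (Synt.UnivAlg n d) ∧
    ∀ q : PrimeSpectrum (Synt.UnivAlg n d),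
      IsRegularLocalRing (Localization.AtPrime q.asIdeal) :=
  main_abs n d (qU n d) (qU_univPoly n d) (φU n d) (φU_q n d) (qU_surj n d)

end Groth.Agent.Helper22.UnivAlgReg
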