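import Mathlib
import Groth.Prelude.Def_EtRam
import Groth.Agent.Lib.Helper22.CompCtx

/-!
# Base change of an unramified extension along an extension of DVRs (S9306)
-/

set_option autoImplicit false
universe u

open TensorProduct IsLocalRing

namespace Groth.Agent.Helper22.UnramBC

open Groth.Agent.Helper22.CompCtx

theorem main (A B K L K' : Type u) [CommRing A] [IsDomain A]
    [IsDiscreteValuationRing A] [CommRing B] [IsDomain B] [IsDiscreteValuationRing B] [Algebra A B]
    [IsLocalHom (algebraMap A B)]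
    [Field K] [Field L] [Field K'] [Algebra A K] [Algebra B L] [IsFractionRing B L]
    [Algebra K L] [Algebra A L] [IsScalarTower A K L] [IsScalarTower A B L]
    [Algebra K K'] [FiniteDimensional K K']
    (h : EtRam.IsUnramifiedExt A ((algebraMap K K').comp (algebraMap A K)))
    (F : Type u) [Field F] [Algebra (K' ⊗[K] L) F]
    (hF : Function.Surjective (algebraMap (K' ⊗[K] L) F)) :
    EtRam.IsUnramifiedExt B ((algebraMap (K' ⊗[K] L) F).comp
      ((Algebra.TensorProduct.includeRight : L →ₐ[K] K' ⊗[K] L).toRingHom.comp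
        (algebraMap B L))) := by
  intro V hV
  letI algLF : Algebra L F := ((algebraMap (K' ⊗[K] L) F).comp
    (Algebra.TensorProduct.includeRight : L →ₐ[K] K' ⊗[K] L).toRingHom).toAlgebra
  letI algK'F : Algebra K' F := ((algebraMap (K' ⊗[K] L) F).comp
    (Algebra.TensorProduct.includeLeftRingHom : K' →+* K' ⊗[K] L)).toAlgebra
  letI algKF : Algebra K F := ((algebraMap L F).comp (algebraMap K L)).toAlgebra
  haveI : IsScalarTower K L F := IsScalarTower.of_algebraMap_eq (fun _ => rfl)
  haveI : IsScalarTower K K' F := IsScalarTower.of_algebraMap_eq (fun k => by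
    show algebraMap (K' ⊗[K] L) F ((1 : K') ⊗ₜ[K] algebraMap K L k) =
      algebraMap (K' ⊗[K] L) F ((algebraMap K K' k) ⊗ₜ[K] (1 : L))
    have e : (1 : K') ⊗ₜ[K] algebraMap K L k = (algebraMap K K' k) ⊗ₜ[K] (1 : L) := by
      rw [Algebra.algebraMap_eq_smul_one, Algebra.algebraMap_eq_smul_one, TensorProduct.smul_tmul]
    rw [e])
  have hLF : ∀ l : L, algebraMap L F l = algebraMap (K' ⊗[K] L) F ((1 : K') ⊗ₜ[K] l) :=
    fun l => rfl
  have hK'F : ∀ k : K', algebraMap K' F k = algebraMap (K' ⊗[K] L) F (k ⊗ₜ[K] (1 : L)) :=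
    fun k => rfl
  have hadj : Algebra.adjoin L (Set.range (algebraMap K' F)) = ⊤ := by
    have key : ∀ t : K' ⊗[K] L, algebraMap (K' ⊗[K] L) F t ∈
        Algebra.adjoin L (Set.range (algebraMap K' F)) := by
      intro t
      induction t using TensorProduct.induction_on with
      | zero => rw [map_zero]; exact Subalgebra.zero_mem _
      | tmul k l =>
        have h1 : k ⊗ₜ[K] l = (k ⊗ₜ[K] (1 : L)) * ((1 : K') ⊗ₜ[K] l) := by
          rw [Algebra.TensorProduct.tmul_mul_tmul, mul_one, one_mul]
        rw [h1, map_mul, ← hLF, ← hK'F]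
        exact Subalgebra.mul_mem _ (Algebra.subset_adjoin ⟨k, rfl⟩) (Subalgebra.algebraMap_mem _ l)
      | add x y hx hy => rw [map_add]; exact Subalgebra.add_mem _ hx hy
    apply eq_top_iff.mpr
    intro x _
    obtain ⟨t, rfl⟩ := hF x
    exact key t
  intro inst
  exact unram_core A B K L K' F h hadj V hV inst

end Groth.Agent.Helper22.UnramBC
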