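import Mathlib

/-!
# Valuation rings of a function field of a curve (helper library for S11085)

* `exists_mul_eq_mul`: in a Dedekind domain `B` with nonzero prime `P`, any two elements are
  comparable for divisibility up to an element outside `P` (the localization is a valuation ring).
* `div_mem_of_center`: two valuation subrings containing a Dedekind domain `B` with the same nonzero
  centre on `B` contain the same fractions of `B`.
* `le_of_insep`: a valuation subring of a purely inseparable extension is determined by its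
  restriction.
* `finite_valuationSubrings_over`: for a Dedekind domain `R` with fraction field `K`, a finite
  extension `F / K` and a nonzero maximal ideal `p`, only finitely many valuation subrings of `F`
  contain `R` and have `p` inside their maximal ideal.
* `finite_of_normalization`: the statement of S11085 given a Noether normalization.
-/

set_option autoImplicit false
set_option linter.unusedVariables false
set_option linter.style.haveILetI false

open Polynomial

namespace Groth.Agent.Helper22.ValCurve

theorem mem_of_isIntegralElem {R F : Type*} [CommRing R] [Field F] (f : R →+* F)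
    (O : ValuationSubring F) (hf : ∀ r, f r ∈ O) {z : F} (hz : f.IsIntegralElem z) : z ∈ O := by
  obtain ⟨p, hpm, hpz⟩ := hz
  let g : R →+* O := RingHom.codRestrict f O hf
  have hcomp : (algebraMap O F).comp g = f := RingHom.ext fun a => rfl
  have hint : IsIntegral O z := by
    refine ⟨p.map g, hpm.map g, ?_⟩
    rw [Polynomial.eval₂_map, hcomp]
    exact hpz
  obtain ⟨w, hw⟩ := IsIntegrallyClosed.isIntegral_iff.mp hint
  rw [← hw]
  exact w.2

theorem mem_of_pow_mem {F : Type*} [Field F] (O : ValuationSubring F) {m : ℕ} (hm : m ≠ 0) (x : F)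
    (hx : x ^ m ∈ O) : x ∈ O := by
  have hint : IsIntegral O x := by
    refine ⟨X ^ m - C (⟨x ^ m, hx⟩ : O), monic_X_pow_sub_C _ hm, ?_⟩
    rw [eval₂_sub, eval₂_pow, eval₂_X, eval₂_C]
    exact sub_self _
  obtain ⟨y, hy⟩ := IsIntegrallyClosed.isIntegral_iff.mp hint
  rw [← hy]
  exact y.2

theorem exists_mul_eq_mul {B : Type*} [CommRing B] [IsDedekindDomain B] (P : Ideal B) [P.IsPrime]
    (hP : P ≠ ⊥) (a b : B) : ∃ c s : B, s ∉ P ∧ (a * c = b * s ∨ b * c = a * s) := by
  haveI : IsDiscreteValuationRing (Localization.AtPrime P) :=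
    IsLocalization.AtPrime.isDiscreteValuationRing_of_dedekind_domain B hP (Localization.AtPrime P)
  obtain ⟨c, hc⟩ := ValuationRing.cond (algebraMap B (Localization.AtPrime P) a)
    (algebraMap B (Localization.AtPrime P) b)
  obtain ⟨⟨c₁, s⟩, hcs⟩ := IsLocalization.surj P.primeCompl c
  dsimp only at hcs
  have hinj : Function.Injective (algebraMap B (Localization.AtPrime P)) :=
    IsLocalization.injective (Localization.AtPrime P) P.primeCompl_le_nonZeroDivisors
  refine ⟨c₁, s, s.2, ?_⟩
  rcases hc with h | h
  · left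
    apply hinj
    rw [map_mul, map_mul, ← hcs, ← mul_assoc, h]
  · right
    apply hinj
    rw [map_mul, map_mul, ← hcs, ← mul_assoc, h]

theorem div_mem_of_center {B F : Type*} [CommRing B] [IsDedekindDomain B] [Field F] (α : B →+* F)
    (hα : Function.Injective α) (O O' : ValuationSubring F) (hO : ∀ b, α b ∈ O)
    (hO' : ∀ b, α b ∈ O') (P : Ideal B) [P.IsPrime] (hP : P ≠ ⊥)
    (hc : ∀ b, O.valuation (α b) < 1 ↔ b ∈ P) (hc' : ∀ b, O'.valuation (α b) < 1 ↔ b ∈ P)
    (a b : B) (hb : b ≠ 0) (h : α a / α b ∈ O) : α a / α b ∈ O' := by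
  obtain ⟨c, s, hs, hcs⟩ := exists_mul_eq_mul P hP a b
  have hαb : α b ≠ 0 := (map_ne_zero_iff α hα).mpr hb
  have one_of_not : ∀ (W : ValuationSubring F), (∀ b, α b ∈ W) →
      (∀ b, W.valuation (α b) < 1 ↔ b ∈ P) → ∀ x : B, x ∉ P → W.valuation (α x) = 1 := by
    intro W hW hcW x hx
    exact le_antisymm ((W.valuation_le_one_iff _).mpr (hW x))
      (not_lt.mp fun hlt => hx ((hcW x).mp hlt))
  rw [← ValuationSubring.valuation_le_one_iff] at h ⊢
  rcases hcs with h1 | h1
  · have e : α a / α b * α c = α s := by
      rw [div_mul_eq_mul_div, ← map_mul, h1, map_mul, mul_div_cancel_left₀ _ hαb]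
    have hvc : O.valuation (α c) = 1 := by
      have hle : O.valuation (α c) ≤ 1 := (O.valuation_le_one_iff _).mpr (hO c)
      by_contra hne
      have hlt : O.valuation (α c) < 1 := lt_of_le_of_ne hle hne
      have h2 : O.valuation (α s) < 1 := by
        rw [← e, map_mul]
        calc O.valuation (α a / α b) * O.valuation (α c) ≤ 1 * O.valuation (α c) :=
              mul_le_mul' h le_rfl
          _ = O.valuation (α c) := one_mul _
          _ < 1 := hlt
      rw [one_of_not O hO hc s hs] at h2
      exact lt_irrefl _ h2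
    have hcP : c ∉ P := fun hcP => by
      have h3 := (hc c).mpr hcP
      rw [hvc] at h3
      exact lt_irrefl _ h3
    have hv'c := one_of_not O' hO' hc' c hcP
    have hv's := one_of_not O' hO' hc' s hs
    have h3 := congrArg O'.valuation e
    rw [map_mul, hv'c, hv's, mul_one] at h3
    exact h3.le
  · have e : α a / α b * α s = α c := by
      rw [div_mul_eq_mul_div, ← map_mul, ← h1, map_mul, mul_div_cancel_left₀ _ hαb]
    have hv's := one_of_not O' hO' hc' s hs
    have h3 := congrArg O'.valuation e
    rw [map_mul, hv's, mul_one] at h3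
    rw [h3]
    exact (O'.valuation_le_one_iff _).mpr (hO' c)

theorem le_of_insep {E F : Type*} [Field E] [Field F] [Algebra E F] [IsPurelyInseparable E F]
    (O O' : ValuationSubring F)
    (h : ∀ z : E, algebraMap E F z ∈ O → algebraMap E F z ∈ O') : O ≤ O' := by
  intro z hz
  obtain ⟨n, w, hw⟩ := IsPurelyInseparable.pow_mem E (ringExpChar E) z
  have h1 : z ^ (ringExpChar E) ^ n ∈ O := pow_mem hz _
  rw [← hw] at h1
  have h2 := h w h1
  rw [hw] at h2
  exact mem_of_pow_mem O' (pow_ne_zero n (expChar_pos E (ringExpChar E)).ne') z h2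

theorem finite_aux {R K E F : Type*} [CommRing R] [IsDedekindDomain R] [Field K] [Algebra R K]
    [IsFractionRing R K] [Field E] [Algebra K E] [Algebra R E] [IsScalarTower R K E]
    [FiniteDimensional K E] [Algebra.IsSeparable K E] [Field F] [Algebra E F] [Algebra R F]
    [IsScalarTower R E F] [IsPurelyInseparable E F] (p : Ideal R) [p.IsMaximal] (hp : p ≠ ⊥) :
    {O : ValuationSubring F | (∀ r : R, algebraMap R F r ∈ O) ∧
        ∀ r ∈ p, O.valuation (algebraMap R F r) < 1}.Finite := by
  classical
  haveI : IsDedekindDomain (integralClosure R E) := integralClosure.isDedekindDomain R K E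
  haveI : Module.Finite R (integralClosure R E) :=
    IsIntegralClosure.finite R K E (integralClosure R E)
  haveI : IsFractionRing (integralClosure R E) E :=
    integralClosure.isFractionRing_of_finite_extension K E
  let α : integralClosure R E →+* F := (algebraMap E F).comp (algebraMap (integralClosure R E) E)
  have hα : Function.Injective α := (algebraMap E F).injective.comp Subtype.val_injective
  have hαR : ∀ r : R, α (algebraMap R (integralClosure R E) r) = algebraMap R F r := fun r => by
    show algebraMap E F (algebraMap R E r) = _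
    exact (IsScalarTower.algebraMap_apply R E F r).symm
  have hRF : ∀ r : R, r ≠ 0 → algebraMap R F r ≠ 0 := by
    intro r hr
    rw [IsScalarTower.algebraMap_apply R E F, IsScalarTower.algebraMap_apply R K E]
    exact (_root_.map_ne_zero _).mpr ((_root_.map_ne_zero _).mpr
      ((map_ne_zero_iff _ (IsFractionRing.injective R K)).mpr hr))
  have hB : ∀ O : ValuationSubring F, (∀ r : R, algebraMap R F r ∈ O) →
      ∀ b : integralClosure R E, α b ∈ O := by
    intro O hO b
    have h1 : IsIntegral R (b : E) := b.2
    have hint : IsIntegral R (α b) := h1.map (IsScalarTower.toAlgHom R E F)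
    exact mem_of_isIntegralElem (algebraMap R F) O hO hint
  have key : ∀ O : ValuationSubring F, (∀ r : R, algebraMap R F r ∈ O) →
      (∀ r ∈ p, O.valuation (algebraMap R F r) < 1) →
      ∃ P : Ideal (integralClosure R E), P.IsPrime ∧ P.LiesOver p ∧
        ∀ b, b ∈ P ↔ O.valuation (α b) < 1 := by
    intro O hO hOp
    let g : integralClosure R E →+* O := RingHom.codRestrict α O (hB O hO)
    have hmem : ∀ b, b ∈ Ideal.comap g (IsLocalRing.maximalIdeal O) ↔
        O.valuation (α b) < 1 := by
      intro b
      rw [Ideal.mem_comap, ValuationSubring.valuation_lt_one_iff]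
      rfl
    refine ⟨Ideal.comap g (IsLocalRing.maximalIdeal O), inferInstance, ⟨?_⟩, hmem⟩
    refine Ideal.IsMaximal.eq_of_le inferInstance ?_ ?_
    · exact Ideal.IsPrime.ne_top inferInstance
    · intro r hr
      rw [Ideal.under_def, Ideal.mem_comap, hmem, hαR]
      exact hOp r hr
  let cen : ValuationSubring F → Set (integralClosure R E) :=
    fun O => {b | O.valuation (α b) < 1}
  have hfin : (Ideal.primesOver p (integralClosure R E)).Finite :=
    Algebra.QuasiFinite.finite_primesOver p
  refine Set.Finite.of_injOn (f := cen)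
    (t := (fun P : Ideal (integralClosure R E) => (P : Set (integralClosure R E))) ''
      Ideal.primesOver p (integralClosure R E)) ?_ ?_ (hfin.image _)
  · rintro O ⟨hO, hOp⟩
    obtain ⟨P, hPprime, hPover, hmem⟩ := key O hO hOp
    exact ⟨P, ⟨hPprime, hPover⟩, Set.ext fun b => hmem b⟩
  · rintro O ⟨hO, hOp⟩ O' ⟨hO', hOp'⟩ hcen
    obtain ⟨P, hPprime, hPover, hmem⟩ := key O hO hOp
    haveI := hPprime
    have hmem' : ∀ b, b ∈ P ↔ O'.valuation (α b) < 1 := fun b => by
      rw [hmem b]
      exact Set.ext_iff.mp hcen b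
    have hPbot : P ≠ ⊥ := by
      obtain ⟨r, hrp, hr0⟩ := Submodule.exists_mem_ne_zero_of_ne_bot hp
      intro hbot
      have h1 : algebraMap R (integralClosure R E) r ∈ P :=
        (hmem _).mpr (by rw [hαR]; exact hOp r hrp)
      rw [hbot, Ideal.mem_bot] at h1
      have h2 : algebraMap R F r = 0 := by rw [← hαR, h1, map_zero]
      exact hRF r hr0 h2
    have step : ∀ (W W' : ValuationSubring F), (∀ b, α b ∈ W) → (∀ b, α b ∈ W') →
        (∀ b, W.valuation (α b) < 1 ↔ b ∈ P) → (∀ b, W'.valuation (α b) < 1 ↔ b ∈ P) →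
        W ≤ W' := by
      intro W W' hW hW' hc hc'
      refine le_of_insep (E := E) W W' fun z hz => ?_
      obtain ⟨a, b, hb, rfl⟩ := IsFractionRing.div_surjective (integralClosure R E) z
      have hb0 : b ≠ 0 := nonZeroDivisors.ne_zero hb
      rw [map_div₀] at hz ⊢
      exact div_mem_of_center α hα W W' hW hW' P hPbot hc hc' a b hb0 hz
    exact le_antisymm
      (step O O' (hB O hO) (hB O' hO') (fun b => (hmem b).symm) (fun b => (hmem' b).symm))
      (step O' O (hB O' hO') (hB O hO) (fun b => (hmem' b).symm) (fun b => (hmem b).symm))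

theorem finite_valuationSubrings_over {R K F : Type*} [CommRing R] [IsDedekindDomain R] [Field K]
    [Algebra R K] [IsFractionRing R K] [Field F] [Algebra K F] [Algebra R F] [IsScalarTower R K F]
    [FiniteDimensional K F] (p : Ideal R) [p.IsMaximal] (hp : p ≠ ⊥) :
    {O : ValuationSubring F | (∀ r : R, algebraMap R F r ∈ O) ∧
        ∀ r ∈ p, O.valuation (algebraMap R F r) < 1}.Finite := by
  haveI : IsScalarTower R K ↥(separableClosure K F) :=
    IsScalarTower.of_algebraMap_eq fun r => Subtype.ext (IsScalarTower.algebraMap_apply R K F r)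
  haveI : IsScalarTower R ↥(separableClosure K F) F :=
    IsScalarTower.of_algebraMap_eq fun r => rfl
  exact finite_aux (R := R) (K := K) (E := separableClosure K F) (F := F) p hp

theorem finite_of_inv {k A F : Type*} [Field k] [CommRing A] [IsDomain A] [Algebra k A] [Field F]
    [Algebra A F] [IsFractionRing A F] [Algebra k F] [IsScalarTower k A F]
    (φ : MvPolynomial (Fin 1) k →ₐ[k] A) (hφ : φ.toRingHom.Finite) (hinj : Function.Injective φ)
    [Algebra k[X] F] (K : Type*) [Field K] [Algebra k[X] K] [Algebra K F] [IsScalarTower k[X] K F]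
    (hX : algebraMap k[X] F X * algebraMap A F (φ (MvPolynomial.X 0)) = 1)
    (hC : ∀ c : k, algebraMap k[X] F (C c) = algebraMap k F c) :
    Module.Finite K F := by
  classical
  have hιinj : Function.Injective (algebraMap A F) := IsFractionRing.injective A F
  let ψ : MvPolynomial (Fin 1) k →+* F := (algebraMap A F).comp φ.toRingHom
  have h1 : ∀ g : MvPolynomial (Fin 1) k, ∃ κ : K, algebraMap K F κ = ψ g := by
    intro g
    induction g using MvPolynomial.induction_on with
    | C c =>
      have e : ψ (MvPolynomial.C c) = algebraMap k F c := by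
        show algebraMap A F (φ (MvPolynomial.C c)) = _
        rw [← MvPolynomial.algebraMap_eq, AlgHom.commutes, ← IsScalarTower.algebraMap_apply]
      exact ⟨algebraMap k[X] K (C c), by
        rw [← IsScalarTower.algebraMap_apply k[X] K F, hC, e]⟩
    | add p q hp hq =>
      obtain ⟨κ₁, h₁⟩ := hp
      obtain ⟨κ₂, h₂⟩ := hq
      exact ⟨κ₁ + κ₂, by rw [map_add, map_add, h₁, h₂]⟩
    | mul_X p i hp =>
      obtain ⟨κ₁, h₁⟩ := hp
      refine ⟨κ₁ * (algebraMap k[X] K X)⁻¹, ?_⟩
      rw [map_mul, map_mul, h₁, map_inv₀, ← IsScalarTower.algebraMap_apply k[X] K F]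
      congr 1
      rw [Subsingleton.elim i 0]
      exact inv_eq_of_mul_eq_one_right hX
  algebraize [φ.toRingHom]
  haveI : Algebra.IsIntegral (MvPolynomial (Fin 1) k) A := Algebra.IsIntegral.of_finite _ _
  obtain ⟨S, hS⟩ := (Module.Finite.fg_top : (⊤ : Submodule (MvPolynomial (Fin 1) k) A).FG)
  have h2 : ∀ a : A, algebraMap A F a ∈
      Submodule.span K ((algebraMap A F) '' (S : Set A)) := by
    intro a
    have ha : a ∈ Submodule.span (MvPolynomial (Fin 1) k) (S : Set A) := hS ▸ Submodule.mem_top
    induction ha using Submodule.span_induction with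
    | mem x hx => exact Submodule.subset_span ⟨x, hx, rfl⟩
    | zero => rw [map_zero]; exact Submodule.zero_mem _
    | add x y _ _ hx hy => rw [map_add]; exact Submodule.add_mem _ hx hy
    | smul g x _ hx =>
      obtain ⟨κ, hκ⟩ := h1 g
      have e1 : g • x = φ g * x := Algebra.smul_def g x
      have e2 : κ • algebraMap A F x = algebraMap K F κ * algebraMap A F x :=
        Algebra.smul_def κ _
      have e3 : algebraMap A F (g • x) = κ • algebraMap A F x := by
        rw [e1, map_mul, e2, hκ]
        rfl
      rw [e3]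
      exact Submodule.smul_mem _ κ hx
  refine ⟨⟨S.image (algebraMap A F), ?_⟩⟩
  rw [Finset.coe_image]
  refine eq_top_iff.mpr fun f _ => ?_
  obtain ⟨a, b, hb, rfl⟩ := IsFractionRing.div_surjective A f
  have hb0 : b ≠ 0 := nonZeroDivisors.ne_zero hb
  obtain ⟨d, hd0, c, hc⟩ := IsAlgebraic.exists_nonzero_dvd (R := MvPolynomial (Fin 1) k)
    (Algebra.IsIntegral.isIntegral b).isAlgebraic hb
  obtain ⟨κ, hκ⟩ := h1 d
  have hc' : φ d = b * c := hc
  have hψd : ψ d ≠ 0 := by
    show algebraMap A F (φ d) ≠ 0
    exact (map_ne_zero_iff _ hιinj).mpr ((map_ne_zero_iff _ hinj).mpr hd0)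
  have hιb : algebraMap A F b ≠ 0 := (map_ne_zero_iff _ hιinj).mpr hb0
  have e : algebraMap A F a / algebraMap A F b = κ⁻¹ • algebraMap A F (a * c) := by
    have e4 : ψ d = algebraMap A F b * algebraMap A F c := by
      show algebraMap A F (φ d) = _
      rw [hc', map_mul]
    have hιc : algebraMap A F c ≠ 0 := fun h0 => hψd (by rw [e4, h0, mul_zero])
    rw [Algebra.smul_def, map_inv₀, hκ, e4, map_mul]
    field_simp
  rw [e]
  exact Submodule.smul_mem _ _ (h2 _)

theorem finite_of_normalization (k A F : Type*) [Field k] [CommRing A] [IsDomain A] [Algebra k A]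
    [Field F] [Algebra A F] [IsFractionRing A F] [Algebra k F] [IsScalarTower k A F]
    (φ : MvPolynomial (Fin 1) k →ₐ[k] A) (hφ : φ.toRingHom.Finite)
    (hinj : Function.Injective φ) :
    {O : ValuationSubring F | (algebraMap k F).range ≤ O.toSubring ∧
        ¬ (algebraMap A F).range ≤ O.toSubring}.Finite := by
  classical
  have hιinj : Function.Injective (algebraMap A F) := IsFractionRing.injective A F
  obtain ⟨t, ht⟩ : ∃ t : F, t = algebraMap A F (φ (MvPolynomial.X 0)) := ⟨_, rfl⟩
  let Ψ : MvPolynomial (Fin 1) k →ₐ[k] F := (IsScalarTower.toAlgHom k A F).comp φ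
  have hΨinj : Function.Injective Ψ := hιinj.comp hinj
  have hΨX : Ψ (MvPolynomial.X 0) = t := ht.symm
  have htr : Transcendental k t := fun h =>
    (MvPolynomial.algebraicIndependent_X (Fin 1) k).transcendental 0
      ((isAlgebraic_algHom_iff Ψ hΨinj).mp (hΨX ▸ h))
  have ht0 : t ≠ 0 := fun h0 => htr (h0 ▸ isAlgebraic_zero)
  have hy : Transcendental k t⁻¹ := fun h => htr (by simpa using h.inv)
  letI : Algebra k[X] F := (Polynomial.aeval (R := k) t⁻¹).toRingHom.toAlgebra
  have halg : ∀ r : k[X], algebraMap k[X] F r = Polynomial.aeval t⁻¹ r := fun r => rfl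
  have hinjX : Function.Injective (algebraMap k[X] F) := fun a b hab =>
    transcendental_iff_injective.mp hy hab
  haveI : FaithfulSMul k[X] F := (faithfulSMul_iff_algebraMap_injective _ _).mpr hinjX
  letI : Algebra (FractionRing k[X]) F := FractionRing.liftAlgebra k[X] F
  haveI : IsScalarTower k[X] (FractionRing k[X]) F :=
    FractionRing.isScalarTower_liftAlgebra k[X] F
  haveI : FiniteDimensional (FractionRing k[X]) F :=
    finite_of_inv φ hφ hinj (FractionRing k[X])
      (by rw [halg, Polynomial.aeval_X, ← ht]; exact inv_mul_cancel₀ ht0)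
      (fun c => by rw [halg, Polynomial.aeval_C])
  haveI : (Ideal.span {(X : k[X])}).IsMaximal :=
    PrincipalIdealRing.isMaximal_of_irreducible Polynomial.irreducible_X
  have hfin := finite_valuationSubrings_over (R := k[X]) (K := FractionRing k[X]) (F := F)
    (Ideal.span {(X : k[X])})
    (by rw [Ne, Ideal.span_singleton_eq_bot]; exact Polynomial.X_ne_zero)
  refine hfin.subset ?_
  rintro O ⟨hkO, hAO⟩
  have hk : ∀ c : k, algebraMap k F c ∈ O := fun c => hkO ⟨c, rfl⟩
  have htO : t ∉ O := by
    intro htO
    apply hAO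
    rintro _ ⟨a, rfl⟩
    show algebraMap A F a ∈ O
    have hψ : ∀ g : MvPolynomial (Fin 1) k, ((algebraMap A F).comp φ.toRingHom) g ∈ O := by
      intro g
      induction g using MvPolynomial.induction_on with
      | C c =>
        have e : ((algebraMap A F).comp φ.toRingHom) (MvPolynomial.C c) = algebraMap k F c := by
          show algebraMap A F (φ (MvPolynomial.C c)) = _
          rw [← MvPolynomial.algebraMap_eq, AlgHom.commutes, ← IsScalarTower.algebraMap_apply]
        rw [e]
        exact hk c
      | add p q hp hq =>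
        rw [map_add]
        exact add_mem hp hq
      | mul_X p i hp =>
        rw [map_mul]
        refine mul_mem hp ?_
        rw [Subsingleton.elim i 0]
        show algebraMap A F (φ (MvPolynomial.X 0)) ∈ O
        rw [← ht]
        exact htO
    have hint : ((algebraMap A F).comp φ.toRingHom).IsIntegralElem (algebraMap A F a) := by
      obtain ⟨p, hpm, hpa⟩ := hφ.to_isIntegral a
      refine ⟨p, hpm, ?_⟩
      rw [← Polynomial.hom_eval₂, hpa, map_zero]
    exact mem_of_isIntegralElem _ O hψ hint
  have hvt : O.valuation t⁻¹ < 1 := by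
    by_contra hnot
    have h1 : (1 : O.ValueGroup) ≤ O.valuation t⁻¹ := not_lt.mp hnot
    apply htO
    refine (O.valuation_le_one_iff t).mp ?_
    calc O.valuation t = O.valuation t * 1 := (mul_one _).symm
      _ ≤ O.valuation t * O.valuation t⁻¹ := mul_le_mul' le_rfl h1
      _ = 1 := by rw [← map_mul, mul_inv_cancel₀ ht0, map_one]
  have hyO : t⁻¹ ∈ O := (O.valuation_le_one_iff _).mp hvt.le
  have hpoly : ∀ r : k[X], algebraMap k[X] F r ∈ O := by
    intro r
    rw [halg]
    induction r using Polynomial.induction_on with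
    | C c =>
      rw [Polynomial.aeval_C]
      exact hk c
    | add p q hp hq =>
      rw [map_add]
      exact add_mem hp hq
    | monomial n c h =>
      rw [pow_succ, ← mul_assoc, map_mul, Polynomial.aeval_X]
      exact mul_mem h hyO
  refine ⟨hpoly, fun r hr => ?_⟩
  obtain ⟨a, rfl⟩ := Ideal.mem_span_singleton'.mp hr
  rw [map_mul, map_mul, halg X, Polynomial.aeval_X]
  calc O.valuation (algebraMap k[X] F a) * O.valuation t⁻¹ ≤ 1 * O.valuation t⁻¹ :=
        mul_le_mul' ((O.valuation_le_one_iff _).mpr (hpoly a)) le_rfl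
    _ = O.valuation t⁻¹ := one_mul _
    _ < 1 := hvt

end Groth.Agent.Helper22.ValCurve
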