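import Mathlib
import Groth.Agent.Lib.Helper29.Verlinde

set_option autoImplicit false

namespace Groth.Agent.Helper22.Verl

open Finset
open Groth.Agent.Helper29.Verlinde

section Basic

variable {r : ℕ}

theorem A_symm (ζ : ℂ) (a w : Fin r → ℤ) : A ζ a w = A ζ w a := by
  unfold A
  rw [← Matrix.det_transpose]
  congr 1
  ext i j
  simp only [Matrix.transpose_apply, Matrix.of_apply, mul_comm]

theorem A_neg_symm (ζ : ℂ) (a w : Fin r → ℤ) :
    A ζ (fun i => -a i) w = A ζ (fun j => -w j) a := by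
  unfold A
  rw [← Matrix.det_transpose]
  congr 1
  ext i j
  simp only [Matrix.transpose_apply, Matrix.of_apply]
  congr 1
  ring

theorem A_comp_perm (ζ : ℂ) (a w : Fin r → ℤ) (τ : Equiv.Perm (Fin r)) :
    A ζ a (fun j => w (τ j)) = ((Equiv.Perm.sign τ : ℤ) : ℂ) * A ζ a w := by
  unfold A
  have h : (Matrix.of fun i j : Fin r => ζ ^ (a i * w (τ j))) =
      (Matrix.of fun i j : Fin r => ζ ^ (a i * w j)).submatrix id τ := by
    ext i j
    simp
  rw [h, Matrix.det_permute']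

theorem prodA_eq_sum (ζ : ℂ) (a a' w : Fin r → ℤ) :
    A ζ a w * A ζ a' w = ∑ τ : Equiv.Perm (Fin r),
      A ζ a (fun j => w (τ j)) * ∏ l, ζ ^ (a' l * w (τ l)) := by
  rw [A_expand_row ζ a' w, Finset.mul_sum]
  refine Finset.sum_congr rfl fun τ _ => ?_
  rw [A_comp_perm]
  ring

/-- descending sorting permutation, general length -/
noncomputable def sd {n : ℕ} (u : Fin r → Fin n) : Equiv.Perm (Fin r) :=
  Tuple.sort u * Fin.revPerm

theorem sd_antitone {n : ℕ} (u : Fin r → Fin n) : Antitone (u ∘ sd u) := by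
  have h := Tuple.monotone_sort u
  intro x y hxy
  have h2 : Fin.rev y ≤ Fin.rev x := Fin.rev_le_rev.mpr hxy
  exact h h2

theorem sort_sum' {n : ℕ} (G : (Fin r → Fin n) → ℂ) :
    ∑ a ∈ Finset.univ.filter (fun a : Fin r → Fin n => StrictAnti a),
        ∑ τ : Equiv.Perm (Fin r), G (a ∘ τ) =
      ∑ u ∈ Finset.univ.filter (fun u : Fin r → Fin n => Function.Injective u), G u := by
  classical
  rw [← Finset.sum_product' (Finset.univ.filter (fun a : Fin r → Fin n => StrictAnti a))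
    (Finset.univ : Finset (Equiv.Perm (Fin r))) (fun a (τ : Equiv.Perm (Fin r)) => G (a ∘ τ))]
  refine Finset.sum_nbij' (fun p => p.1 ∘ p.2) (fun u => (u ∘ sd u, (sd u)⁻¹)) ?_ ?_ ?_ ?_ ?_
  · rintro ⟨a, τ⟩ hp
    obtain ⟨ha, -⟩ := Finset.mem_product.mp hp
    obtain ⟨-, hanti⟩ := Finset.mem_filter.mp ha
    simp only [Finset.mem_filter, Finset.mem_univ, true_and]
    exact hanti.injective.comp τ.injective
  · intro u hu
    simp only [Finset.mem_filter, Finset.mem_univ, true_and] at hu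
    refine Finset.mem_product.mpr ⟨?_, Finset.mem_univ _⟩
    refine Finset.mem_filter.mpr ⟨Finset.mem_univ _, ?_⟩
    exact (sd_antitone u).strictAnti_of_injective (hu.comp (sd u).injective)
  · rintro ⟨a, τ⟩ hp
    obtain ⟨ha, -⟩ := Finset.mem_product.mp hp
    obtain ⟨-, hanti⟩ := Finset.mem_filter.mp ha
    have hinj : Function.Injective (a ∘ τ) := hanti.injective.comp τ.injective
    have haτ : (a ∘ τ) ∘ (τ⁻¹ : Equiv.Perm (Fin r)) = a := by
      funext x; simp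
    have h1 : (a ∘ τ) ∘ sd (a ∘ τ) = (a ∘ τ) ∘ (τ⁻¹ : Equiv.Perm (Fin r)) := by
      apply Tuple.unique_antitone (sd_antitone (a ∘ τ))
      rw [haτ]
      exact hanti.antitone
    have h2 : sd (a ∘ τ) = τ⁻¹ := by
      apply Equiv.ext
      intro x
      exact hinj (congrFun h1 x)
    show ((a ∘ τ) ∘ sd (a ∘ τ), (sd (a ∘ τ))⁻¹) = (a, τ)
    rw [h2, inv_inv, haτ]
  · intro u hu
    have h2 : (u ∘ sd u) ∘ ((sd u)⁻¹ : Equiv.Perm (Fin r)) = u := by
      funext x; simp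
    exact h2
  · rintro ⟨a, τ⟩ _
    rfl

theorem strictAnti_gap {n : ℕ} (a : Fin r → Fin n) (ha : StrictAnti a) (i j : Fin r)
    (hij : i ≤ j) : (a j : ℕ) + ((j : ℕ) - (i : ℕ)) ≤ (a i : ℕ) := by
  obtain ⟨d, hd⟩ : ∃ d, (j : ℕ) = (i : ℕ) + d := Nat.exists_eq_add_of_le (Fin.le_def.mp hij)
  induction d generalizing j with
  | zero =>
    have : j = i := Fin.ext (by simpa using hd)
    subst this; simp
  | succ d ih =>
    have hj' : (i : ℕ) + d < r := by have := j.isLt; omega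
    have h1 : (a ⟨(i:ℕ) + d, hj'⟩ : ℕ) + ((i:ℕ) + d - (i:ℕ)) ≤ (a i : ℕ) :=
      ih ⟨(i:ℕ) + d, hj'⟩ (Fin.le_def.mpr (by simp)) rfl
    have h2 : a j < a ⟨(i:ℕ) + d, hj'⟩ := ha (Fin.lt_def.mpr (by simp; omega))
    have h3 := Fin.lt_def.mp h2
    omega

theorem sa_bounds {k' n : ℕ} (hn : k' + r = n + 1) (a : Fin r → Fin n) (ha : StrictAnti a)
    (i : Fin r) :
    r - 1 - (i : ℕ) ≤ (a i : ℕ) ∧ (a i : ℕ) - (r - 1 - (i : ℕ)) < k' := by
  have hi := i.isLt
  have hr1 : r - 1 < r := by omega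
  have hr0 : 0 < r := by omega
  have h1 : (a ⟨r - 1, hr1⟩ : ℕ) + (r - 1 - (i : ℕ)) ≤ (a i : ℕ) :=
    strictAnti_gap a ha i ⟨r - 1, hr1⟩ (Fin.le_def.mpr (by simp; omega))
  have h2 : (a i : ℕ) + ((i : ℕ) - 0) ≤ (a ⟨0, hr0⟩ : ℕ) :=
    strictAnti_gap a ha ⟨0, hr0⟩ i (Fin.le_def.mpr (by simp))
  have h3 := (a ⟨0, hr0⟩).isLt
  constructor <;> omega

theorem reindex {k' n : ℕ} (hk' : 0 < k') (hn : k' + r = n + 1) (f : (Fin r → ℕ) → ℂ) :
    ∑ μ ∈ Finset.univ.filter (fun μ : Fin r → Fin k' => Antitone μ),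
        f (fun i => (μ i : ℕ) + (r - 1 - (i : ℕ))) =
      ∑ a ∈ Finset.univ.filter (fun a : Fin r → Fin n => StrictAnti a),
        f (fun i => (a i : ℕ)) := by
  classical
  refine Finset.sum_nbij'
    (fun μ i => (⟨(μ i : ℕ) + (r - 1 - (i : ℕ)), by
        have h1 := (μ i).isLt; have h2 := i.isLt; omega⟩ : Fin n))
    (fun a i => (⟨((a i : ℕ) - (r - 1 - (i : ℕ))) % k', Nat.mod_lt _ hk'⟩ : Fin k'))
    ?_ ?_ ?_ ?_ ?_
  · intro μ hμ
    have hanti : Antitone μ := (Finset.mem_filter.mp hμ).2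
    refine Finset.mem_filter.mpr ⟨Finset.mem_univ _, ?_⟩
    intro i j hij
    have h1 : (μ j : ℕ) ≤ (μ i : ℕ) := Fin.le_def.mp (hanti hij.le)
    have h2 : (i : ℕ) < (j : ℕ) := Fin.lt_def.mp hij
    have h3 := j.isLt
    rw [Fin.lt_def]
    show (μ j : ℕ) + (r - 1 - (j : ℕ)) < (μ i : ℕ) + (r - 1 - (i : ℕ))
    omega
  · intro a ha
    have hsa : StrictAnti a := (Finset.mem_filter.mp ha).2
    refine Finset.mem_filter.mpr ⟨Finset.mem_univ _, ?_⟩
    intro i j hij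
    rw [Fin.le_def]
    show ((a j : ℕ) - (r - 1 - (j : ℕ))) % k' ≤ ((a i : ℕ) - (r - 1 - (i : ℕ))) % k'
    rw [Nat.mod_eq_of_lt (sa_bounds hn a hsa i).2, Nat.mod_eq_of_lt (sa_bounds hn a hsa j).2]
    have h1 := strictAnti_gap a hsa i j hij
    have h2 := (sa_bounds hn a hsa j).1
    have h3 := (sa_bounds hn a hsa i).1
    have h4 : (i : ℕ) ≤ (j : ℕ) := Fin.le_def.mp hij
    have h5 := j.isLt
    omega
  · intro μ hμ
    funext i
    apply Fin.ext
    show ((μ i : ℕ) + (r - 1 - (i : ℕ)) - (r - 1 - (i : ℕ))) % k' = (μ i : ℕ)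
    rw [Nat.add_sub_cancel, Nat.mod_eq_of_lt (μ i).isLt]
  · intro a ha
    have hsa : StrictAnti a := (Finset.mem_filter.mp ha).2
    funext i
    apply Fin.ext
    show ((a i : ℕ) - (r - 1 - (i : ℕ))) % k' + (r - 1 - (i : ℕ)) = (a i : ℕ)
    rw [Nat.mod_eq_of_lt (sa_bounds hn a hsa i).2]
    exact Nat.sub_add_cancel (sa_bounds hn a hsa i).1
  · intro μ hμ
    rfl

theorem reindexZ {k' n : ℕ} (hk' : 0 < k') (hn : k' + r = n + 1) (g : (Fin r → ℕ) → ℂ) :
    ∑ μ ∈ Finset.univ.filter (fun μ : Fin r → Fin k' =>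
          Antitone μ ∧ ∀ i : Fin r, (i : ℕ) = r - 1 → (μ i : ℕ) = 0),
        g (fun i => (μ i : ℕ) + (r - 1 - (i : ℕ))) =
      ∑ a ∈ Finset.univ.filter (fun a : Fin r → Fin n =>
          StrictAnti a ∧ ∀ i : Fin r, (i : ℕ) = r - 1 → (a i : ℕ) = 0),
        g (fun i => (a i : ℕ)) := by
  classical
  have h := reindex hk' hn
    (fun w => if (∀ i : Fin r, (i : ℕ) = r - 1 → w i = 0) then g w else 0)
  have hL : ∑ μ ∈ Finset.univ.filter (fun μ : Fin r → Fin k' =>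
          Antitone μ ∧ ∀ i : Fin r, (i : ℕ) = r - 1 → (μ i : ℕ) = 0),
        g (fun i => (μ i : ℕ) + (r - 1 - (i : ℕ))) =
      ∑ μ ∈ Finset.univ.filter (fun μ : Fin r → Fin k' => Antitone μ),
        (fun w => if (∀ i : Fin r, (i : ℕ) = r - 1 → w i = 0) then g w else 0)
          (fun i => (μ i : ℕ) + (r - 1 - (i : ℕ))) := by
    rw [Finset.sum_filter, Finset.sum_filter]
    refine Finset.sum_congr rfl fun μ _ => ?_
    have hZ : (∀ i : Fin r, (i : ℕ) = r - 1 → (μ i : ℕ) + (r - 1 - (i : ℕ)) = 0) ↔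
        (∀ i : Fin r, (i : ℕ) = r - 1 → (μ i : ℕ) = 0) := by
      constructor
      · intro h i hi
        have := h i hi
        omega
      · intro h i hi
        have := h i hi
        omega
    by_cases h1 : Antitone μ
    · by_cases h2 : (∀ i : Fin r, (i : ℕ) = r - 1 → (μ i : ℕ) = 0)
      · rw [if_pos ⟨h1, h2⟩, if_pos h1]
        exact (if_pos (hZ.mpr h2)).symm
      · rw [if_neg (fun h => h2 h.2), if_pos h1]
        exact (if_neg (fun h => h2 (hZ.mp h))).symm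
    · rw [if_neg (fun h => h1 h.1), if_neg h1]
  have hR : ∑ a ∈ Finset.univ.filter (fun a : Fin r → Fin n =>
          StrictAnti a ∧ ∀ i : Fin r, (i : ℕ) = r - 1 → (a i : ℕ) = 0),
        g (fun i => (a i : ℕ)) =
      ∑ a ∈ Finset.univ.filter (fun a : Fin r → Fin n => StrictAnti a),
        (fun w => if (∀ i : Fin r, (i : ℕ) = r - 1 → w i = 0) then g w else 0)
          (fun i => (a i : ℕ)) := by
    rw [Finset.sum_filter, Finset.sum_filter]
    refine Finset.sum_congr rfl fun a _ => ?_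
    by_cases h1 : StrictAnti a
    · by_cases h2 : (∀ i : Fin r, (i : ℕ) = r - 1 → (a i : ℕ) = 0)
      · rw [if_pos ⟨h1, h2⟩, if_pos h1]
        exact (if_pos h2).symm
      · rw [if_neg (fun h => h2 h.2), if_pos h1]
        exact (if_neg h2).symm
    · rw [if_neg (fun h => h1 h.1), if_neg h1]
  rw [hL, hR]
  exact h

theorem A_dual (ζ : ℂ) (hζ : ζ ≠ 0) (N : ℕ) (hN : ζ ^ N = 1) (w : Fin r → ℕ)
    (hw : ∀ i, w i + 1 ≤ N) (W : Fin r → ℤ) :
    A ζ (fun i => ((N - 1 - w (Fin.rev i) : ℕ) : ℤ)) W =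
      eps r * ζ ^ (-(∑ j, W j)) * A ζ (fun i => -(w i : ℤ)) W := by
  unfold A
  have h1 : (Matrix.of fun i j : Fin r => ζ ^ (((N - 1 - w (Fin.rev i) : ℕ) : ℤ) * W j)) =
      Matrix.of fun i j => ζ ^ (-(W j)) *
        ((Matrix.of fun i j : Fin r => ζ ^ (-(w i : ℤ) * W j)).submatrix
          (Fin.revPerm : Equiv.Perm (Fin r)) id) i j := by
    ext i j
    simp only [Matrix.of_apply, Matrix.submatrix_apply, id, Fin.revPerm_apply]
    rw [← zpow_add₀ hζ]
    have hc : ((N - 1 - w (Fin.rev i) : ℕ) : ℤ) = (N : ℤ) - 1 - (w (Fin.rev i) : ℤ) := by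
      have := hw (Fin.rev i)
      omega
    have e : ((N - 1 - w (Fin.rev i) : ℕ) : ℤ) * W j =
        (N : ℤ) * W j + (-(W j) + -(w (Fin.rev i) : ℤ) * W j) := by
      rw [hc]; ring
    rw [e, zpow_add₀ hζ ((N : ℤ) * W j) (-(W j) + -(w (Fin.rev i) : ℤ) * W j), zpow_mul,
      zpow_natCast, hN, one_zpow, one_mul]
  rw [h1, Matrix.det_mul_row, Matrix.det_permute, prod_zpow_eq ζ hζ, Finset.sum_neg_distrib]
  unfold eps
  ring

end Basic

end Groth.Agent.Helper22.Verl
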