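import Mathlib
import Groth.Agent.Lib.Helper29.Verlinde
import Groth.Agent.Lib.Helper22.Verl1

set_option autoImplicit false

namespace Groth.Agent.Helper22.Verl

open Finset
open Groth.Agent.Helper29.Verlinde

section Sums

variable {n : ℕ}

theorem csum_ne (ζ : ℂ) (N : ℕ) (hN : N = n + 1) (hζ : IsPrimitiveRoot ζ N) (d : ℤ)
    (hd : ¬ (N : ℤ) ∣ d) :
    ∑ x : Fin n, ζ ^ (d * ((x : ℕ) : ℤ)) = -ζ ^ (-d) := by
  have h1 : ∀ x : Fin n, ζ ^ (d * ((x : ℕ) : ℤ)) = (ζ ^ d) ^ (x : ℕ) := by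
    intro x
    rw [zpow_mul, zpow_natCast]
  simp only [h1]
  rw [Fin.sum_univ_eq_sum_range (fun i => (ζ ^ d) ^ i) n]
  have h2 : (ζ ^ d) ^ N = 1 := by
    rw [← zpow_natCast, ← zpow_mul, mul_comm, zpow_mul, zpow_natCast, hζ.pow_eq_one, one_zpow]
  have h3 : ζ ^ d ≠ 1 := fun h => hd ((hζ.zpow_eq_one_iff_dvd d).mp h)
  have h4 := geom_sum_mul (ζ ^ d) n
  have hx0 : ζ ^ d ≠ 0 := zpow_ne_zero _ (hζ.ne_zero (by omega))
  have h5 : (ζ ^ d) ^ n = ζ ^ (-d) := by
    have : (ζ ^ d) ^ n * ζ ^ d = 1 := by rw [← pow_succ, ← hN, h2]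
    rw [zpow_neg]
    exact eq_inv_of_mul_eq_one_left this
  have h6 : ζ ^ d - 1 ≠ 0 := sub_ne_zero.mpr h3
  apply mul_right_cancel₀ h6
  rw [h4, h5, zpow_neg]
  field_simp
  ring

theorem prod_ite_fin {q : ℕ} (l : Fin (q+1)) (c : ℂ) :
    ∏ j : Fin (q+1), (if j = l then (1:ℂ) else c) = c ^ q := by
  rw [Fin.prod_univ_succAbove _ l]
  simp [Fin.succAbove_ne]

theorem boxsum_val {r : ℕ} (g : Fin r → Fin n → ℂ) (l : Fin r) (hn : 0 < n) :
    ∑ u ∈ Finset.univ.filter (fun u : Fin r → Fin n => (u l : ℕ) = 0), ∏ j, g j (u j) =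
      ∏ j, (if j = l then g l ⟨0, hn⟩ else ∑ x, g j x) := by
  classical
  let t : Fin r → Finset (Fin n) := fun j =>
    if j = l then Finset.univ.filter (fun x : Fin n => (x : ℕ) = 0) else Finset.univ
  have hset : Finset.univ.filter (fun u : Fin r → Fin n => (u l : ℕ) = 0) =
      Fintype.piFinset t := by
    ext u
    simp only [Finset.mem_filter, Finset.mem_univ, true_and, Fintype.mem_piFinset, t]
    constructor
    · intro hu j
      split_ifs with hj
      · subst hj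
        simpa using hu
      · exact Finset.mem_univ _
    · intro hu
      have := hu l
      simpa using this
  rw [hset, ← Finset.prod_univ_sum t (fun j x => g j x)]
  refine Finset.prod_congr rfl fun j _ => ?_
  by_cases hj : j = l
  · rw [if_pos hj]
    have ht : t j = {⟨0, hn⟩} := by
      simp only [t, if_pos hj]
      ext x
      simp [Fin.ext_iff]
    rw [ht, Finset.sum_singleton, hj]
  · rw [if_neg hj]
    have ht : t j = Finset.univ := by simp only [t, if_neg hj]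
    rw [ht]

end Sums

section CoreA

theorem coreA (r k : ℕ) (hr : 1 ≤ r) :
    ∑ v ∈ V r (r + k), A (ζ0 r k) (ρ r) (vz v) * A (ζ0 r k) (fun i => -ρ r i) (vz v) =
      (r : ℂ) * ((r : ℂ) + k) ^ (r - 1) := by
  obtain ⟨q, rfl⟩ : ∃ q, r = q + 1 := ⟨r - 1, by omega⟩
  classical
  have hpos : 0 < q + 1 + k := by omega
  have hζp : IsPrimitiveRoot (ζ0 (q+1) k) (q+1+k) := zeta_prim (q+1) k hpos
  have hζ0 : ζ0 (q+1) k ≠ 0 := hζp.ne_zero hpos.ne'
  let H : (Fin (q+1) → Fin (q+1+k)) → ℂ := fun u =>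
    A (ζ0 (q+1) k) (ρ (q+1)) (vz u) * ∏ l, ζ0 (q+1) k ^ (-ρ (q+1) l * vz u l)
  have hterm : ∀ v : Fin (q+1) → Fin (q+1+k),
      A (ζ0 (q+1) k) (ρ (q+1)) (vz v) * A (ζ0 (q+1) k) (fun i => -ρ (q+1) i) (vz v) =
        ∑ τ : Equiv.Perm (Fin (q+1)), H (v ∘ τ) := by
    intro v
    rw [prodA_eq_sum]
    rfl
  rw [Finset.sum_congr rfl (fun v _ => hterm v), sort_sum H]
  have hl : ∀ l : Fin (q+1), ∑ u ∈ Finset.univ.filter (fun u : Fin (q+1) → Fin (q+1+k) =>
        Function.Injective u ∧ (u l : ℕ) = 0), H u = ((q+1+k : ℕ) : ℂ) ^ q := by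
    intro l
    have hsub : ∑ u ∈ Finset.univ.filter (fun u : Fin (q+1) → Fin (q+1+k) =>
          Function.Injective u ∧ (u l : ℕ) = 0), H u =
        ∑ u ∈ Finset.univ.filter (fun u : Fin (q+1) → Fin (q+1+k) => (u l : ℕ) = 0), H u := by
      apply Finset.sum_subset
      · intro u hu
        simp only [Finset.mem_filter, Finset.mem_univ, true_and] at hu ⊢
        exact hu.2
      · intro u hu hnu
        simp only [Finset.mem_filter, Finset.mem_univ, true_and] at hu hnu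
        have hni : ¬ Function.Injective u := fun hi => hnu ⟨hi, hu⟩
        simp only [H, A_noninj (ζ0 (q+1) k) (ρ (q+1)) u hni, zero_mul]
    rw [hsub]
    have hH : ∀ u : Fin (q+1) → Fin (q+1+k), H u = ∑ σ : Equiv.Perm (Fin (q+1)),
        ((Equiv.Perm.sign σ : ℤ) : ℂ) *
          ∏ j, ζ0 (q+1) k ^ ((ρ (q+1) (σ j) + -ρ (q+1) j) * ((u j : ℕ) : ℤ)) := by
      intro u
      simp only [H]
      rw [A_expand_col, Finset.sum_mul]
      refine Finset.sum_congr rfl fun σ _ => ?_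
      rw [mul_assoc, ← Finset.prod_mul_distrib]
      congr 1
      refine Finset.prod_congr rfl fun j _ => ?_
      rw [← zpow_add₀ hζ0]
      congr 1
      simp only [vz]
      ring
    simp only [hH]
    rw [Finset.sum_comm]
    rw [Finset.sum_eq_single (1 : Equiv.Perm (Fin (q+1)))]
    · have h1 : ∀ u : Fin (q+1) → Fin (q+1+k),
          ((Equiv.Perm.sign (1 : Equiv.Perm (Fin (q+1))) : ℤ) : ℂ) *
            ∏ j, ζ0 (q+1) k ^ ((ρ (q+1) ((1 : Equiv.Perm (Fin (q+1))) j) + -ρ (q+1) j) *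
              ((u j : ℕ) : ℤ)) =
          ∏ j, (fun (_ : Fin (q+1)) (_ : Fin (q+1+k)) => (1:ℂ)) j (u j) := by
        intro u
        simp
      simp only [h1]
      rw [boxsum_val (fun (_ : Fin (q+1)) (_ : Fin (q+1+k)) => (1:ℂ)) l hpos]
      simp only [Finset.sum_const, Finset.card_univ, Fintype.card_fin, nsmul_eq_mul, mul_one]
      exact prod_ite_fin l _
    · intro σ _ hσ
      rw [← Finset.mul_sum]
      have hex : ∃ j, j ≠ l ∧ ¬ ((q+1+k : ℕ) : ℤ) ∣ (ρ (q+1) (σ j) + -ρ (q+1) j) := by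
        obtain ⟨j, hjl, hσj⟩ : ∃ j, j ≠ l ∧ σ j ≠ j := by
          by_contra hcon
          push_neg at hcon
          apply hσ
          apply Equiv.ext
          intro j
          show σ j = j
          by_cases hj : j = l
          · rw [hj]
            by_contra hne
            have h1 : σ (σ l) = σ l := hcon (σ l) hne
            exact hne (σ.injective h1)
          · exact hcon j hj
        refine ⟨j, hjl, ?_⟩
        intro hdvd
        have h1 := (σ j).isLt
        have h2 := j.isLt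
        have h3 : (σ j : ℕ) ≠ (j : ℕ) := fun h => hσj (Fin.ext h)
        have habs : |ρ (q+1) (σ j) + -ρ (q+1) j| < ((q+1+k : ℕ) : ℤ) := by
          unfold ρ
          rw [abs_lt]
          constructor <;> push_cast <;> omega
        have h0 := Int.eq_zero_of_abs_lt_dvd hdvd habs
        unfold ρ at h0
        omega
      rw [boxsum (ζ0 (q+1) k) hζp _ l hex, mul_zero]
    · intro h
      exact absurd (Finset.mem_univ _) h
  rw [Finset.sum_congr rfl (fun l _ => hl l)]
  simp only [Finset.sum_const, Finset.card_univ, Fintype.card_fin, nsmul_eq_mul,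
    Nat.add_sub_cancel]
  push_cast
  ring

end CoreA

section CoreB

theorem coreB (r k n : ℕ) (hr : 1 ≤ r) (hn : r + k = n + 1) (v : Fin r → ℕ)
    (hv : StrictAnti v) (hvlt : ∀ i, v i < r + k) :
    ∑ a ∈ Finset.univ.filter (fun a : Fin r → Fin n => StrictAnti a),
      A (ζ0 r k) (fun i => ((a i : ℕ) : ℤ)) (fun j => (v j : ℤ)) *
      A (ζ0 r k) (fun i => -((a i : ℕ) : ℤ)) (fun j => (v j : ℤ)) =
    (k : ℂ) * ((r : ℂ) + k) ^ (r - 1) := by
  obtain ⟨q, rfl⟩ : ∃ q, r = q + 1 := ⟨r - 1, by omega⟩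
  classical
  have hpos : 0 < q + 1 + k := by omega
  have hζp : IsPrimitiveRoot (ζ0 (q+1) k) (q+1+k) := zeta_prim (q+1) k hpos
  have hζ0 : ζ0 (q+1) k ≠ 0 := hζp.ne_zero hpos.ne'
  set ζ := ζ0 (q+1) k with hζdef
  set vℤ : Fin (q+1) → ℤ := fun j => (v j : ℤ) with hvℤ
  let H : (Fin (q+1) → Fin n) → ℂ := fun u =>
    A ζ vℤ (vz u) * ∏ l, ζ ^ (-vℤ l * vz u l)
  have hterm : ∀ a : Fin (q+1) → Fin n,
      A ζ (fun i => ((a i : ℕ) : ℤ)) vℤ * A ζ (fun i => -((a i : ℕ) : ℤ)) vℤ =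
        ∑ τ : Equiv.Perm (Fin (q+1)), H (a ∘ τ) := by
    intro a
    rw [A_symm ζ (fun i => ((a i : ℕ) : ℤ)) vℤ, A_neg_symm ζ (fun i => ((a i : ℕ) : ℤ)) vℤ,
      prodA_eq_sum]
    rfl
  rw [Finset.sum_congr rfl (fun a _ => hterm a), sort_sum' H]
  have hsub : ∑ u ∈ Finset.univ.filter (fun u : Fin (q+1) → Fin n => Function.Injective u), H u =
      ∑ u : Fin (q+1) → Fin n, H u := by
    apply Finset.sum_subset (Finset.filter_subset _ _)
    intro u _ hnu
    simp only [Finset.mem_filter, Finset.mem_univ, true_and] at hnu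
    simp only [H, A_noninj ζ vℤ u hnu, zero_mul]
  rw [hsub]
  have hH : ∀ u : Fin (q+1) → Fin n, H u = ∑ σ : Equiv.Perm (Fin (q+1)),
      ((Equiv.Perm.sign σ : ℤ) : ℂ) *
        ∏ j, ζ ^ ((vℤ (σ j) + -vℤ j) * ((u j : ℕ) : ℤ)) := by
    intro u
    simp only [H]
    rw [A_expand_col, Finset.sum_mul]
    refine Finset.sum_congr rfl fun σ _ => ?_
    rw [mul_assoc, ← Finset.prod_mul_distrib]
    congr 1
    refine Finset.prod_congr rfl fun j _ => ?_
    rw [← zpow_add₀ hζ0]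
    congr 1
    simp only [vz]
    ring
  let c : ℤ → ℂ := fun d => ∑ x : Fin n, ζ ^ (d * ((x : ℕ) : ℤ))
  have hsumH : ∑ u : Fin (q+1) → Fin n, H u =
      Matrix.det (Matrix.of fun i j : Fin (q+1) => c (vℤ i + -vℤ j)) := by
    rw [Matrix.det_apply']
    simp only [hH]
    rw [Finset.sum_comm]
    refine Finset.sum_congr rfl fun σ _ => ?_
    rw [← Finset.mul_sum]
    congr 1
    simp only [Matrix.of_apply, c]
    exact (Fintype.prod_sum (fun (j : Fin (q+1)) (x : Fin n) =>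
      ζ ^ ((vℤ (σ j) + -vℤ j) * ((x : ℕ) : ℤ)))).symm
  rw [hsumH]
  -- evaluate the entries
  have hNC : ((q + 1 + k : ℕ) : ℂ) ≠ 0 := Nat.cast_ne_zero.mpr hpos.ne'
  set NC : ℂ := ((q + 1 + k : ℕ) : ℂ) with hNCdef
  let uu : Fin (q+1) → ℂ := fun i => -ζ ^ (-vℤ i) / NC
  let ww : Fin (q+1) → ℂ := fun j => ζ ^ (vℤ j)
  have hM : (Matrix.of fun i j : Fin (q+1) => c (vℤ i + -vℤ j)) =
      NC • (1 + Matrix.replicateCol Unit uu * Matrix.replicateRow Unit ww) := by
    ext i j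
    simp only [Matrix.of_apply, Matrix.smul_apply, Matrix.add_apply, Matrix.mul_apply,
      Matrix.replicateCol_apply, Matrix.replicateRow_apply, Finset.univ_unique,
      Finset.sum_singleton, smul_eq_mul, Matrix.one_apply, uu, ww]
    by_cases hij : i = j
    · rw [if_pos hij, hij]
      have h0 : vℤ j + -vℤ j = 0 := by ring
      simp only [c, h0, zero_mul, zpow_zero, Finset.sum_const, Finset.card_univ,
        Fintype.card_fin, nsmul_eq_mul, mul_one]
      have hcancel : ζ ^ (-vℤ j) * ζ ^ (vℤ j) = 1 := by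
        rw [← zpow_add₀ hζ0]; simp
      have hnN : (n : ℂ) = NC - 1 := by
        rw [hNCdef, hn]; push_cast; ring
      rw [hnN]
      field_simp
      linear_combination hcancel
    · rw [if_neg hij]
      have hnd : ¬ ((q + 1 + k : ℕ) : ℤ) ∣ (vℤ i + -vℤ j) := by
        intro hdvd
        have h1 := hvlt i
        have h2 := hvlt j
        have h3 : v i ≠ v j := fun h => hij (hv.injective h)
        have habs : |vℤ i + -vℤ j| < ((q + 1 + k : ℕ) : ℤ) := by
          simp only [hvℤ]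
          rw [abs_lt]
          constructor <;> push_cast <;> omega
        have h0 := Int.eq_zero_of_abs_lt_dvd hdvd habs
        simp only [hvℤ] at h0
        omega
      have hc := csum_ne (n := n) ζ (q+1+k) hn hζp (vℤ i + -vℤ j) hnd
      simp only [c]
      rw [hc]
      have e1 : ζ ^ (-(vℤ i + -vℤ j)) = ζ ^ (-vℤ i) * ζ ^ (vℤ j) := by
        rw [← zpow_add₀ hζ0]; congr 1; ring
      rw [e1]
      field_simp
      ring
  rw [hM, Matrix.det_smul, Matrix.det_one_add_replicateCol_mul_replicateRow, Fintype.card_fin]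
  have hdot : ww ⬝ᵥ uu = -((q + 1 : ℕ) : ℂ) / NC := by
    simp only [dotProduct, uu, ww]
    have : ∀ i : Fin (q+1), ζ ^ vℤ i * (-ζ ^ (-vℤ i) / NC) = -1 / NC := by
      intro i
      have hcancel : ζ ^ (vℤ i) * ζ ^ (-vℤ i) = 1 := by
        rw [← zpow_add₀ hζ0]; simp
      rw [mul_div_assoc', mul_neg, hcancel]
    simp only [this, Finset.sum_const, Finset.card_univ, Fintype.card_fin, nsmul_eq_mul]
    ring
  rw [hdot]
  simp only [Nat.add_sub_cancel]
  have hNk : NC = ((q + 1 : ℕ) : ℂ) + k := by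
    rw [hNCdef]; push_cast; ring
  rw [pow_succ]
  rw [← hNk]
  field_simp
  rw [hNk]
  ring

end CoreB

end Groth.Agent.Helper22.Verl
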