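import Mathlib
import Groth.Agent.Lib.Helper29.Verlinde
import Groth.Agent.Lib.Helper22.Verl1
import Groth.Agent.Lib.Helper22.Verl2

set_option autoImplicit false

namespace Groth.Agent.Helper22.Verl

open Finset
open Groth.Agent.Helper29.Verlinde

theorem S_eq1 (r k : ℕ) (v : Fin r → ℕ)
    (z : Fin r → ℂ) (hz : ∀ j, z j = Complex.exp (2 * Real.pi * Complex.I * (v j : ℂ) / ((r : ℂ) + k)))
    (S : (Fin r → ℕ) → ℂ)
    (hS : ∀ μ : Fin r → ℕ, S μ =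
      (Matrix.of fun i j : Fin r => z j ^ (μ i + (r - 1 - (i : ℕ)))).det /
        (Matrix.of fun i j : Fin r => z j ^ (r - 1 - (i : ℕ))).det) (μ : Fin r → ℕ) :
    S μ = A (ζ0 r k) (aOf μ) (fun j => (v j : ℤ)) / A (ζ0 r k) (ρ r) (fun j => (v j : ℤ)) := by
  rw [hS]
  simp only [hz]
  exact S_eq r k (fun w j => Complex.exp (2 * Real.pi * Complex.I * (w j : ℂ) / ((r : ℂ) + k)))
    (fun _ _ => rfl)
    (fun μ w => (Matrix.of fun i j : Fin r =>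
        (Complex.exp (2 * Real.pi * Complex.I * (w j : ℂ) / ((r : ℂ) + k))) ^
          (μ i + (r - 1 - (i : ℕ)))).det /
      (Matrix.of fun i j : Fin r =>
        (Complex.exp (2 * Real.pi * Complex.I * (w j : ℂ) / ((r : ℂ) + k))) ^
          (r - 1 - (i : ℕ))).det)
    (fun _ _ => rfl) μ v

theorem aOf_dual {r k : ℕ} (μ : Fin r → ℕ) (hμ : ∀ i, μ i ≤ k) :
    aOf (fun i => k - μ (Fin.rev i)) =
      fun i => ((r + k - 1 - (μ (Fin.rev i) + (r - 1 - ((Fin.rev i : Fin r) : ℕ))) : ℕ) : ℤ) := by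
  funext i
  have h1 := hμ (Fin.rev i)
  have h2 := i.isLt
  simp only [aOf, Fin.val_rev]
  omega

theorem main77 (r k : ℕ) (hr : 1 ≤ r) (hk : 1 ≤ k)
    (v : Fin r → ℕ) (hv : StrictAnti v) (hvlt : ∀ i, v i < r + k)
    (z : Fin r → ℂ) (hz : ∀ j, z j = Complex.exp (2 * Real.pi * Complex.I * (v j : ℂ) / ((r : ℂ) + k)))
    (S : (Fin r → ℕ) → ℂ)
    (hS : ∀ μ : Fin r → ℕ, S μ =
      (Matrix.of fun i j : Fin r => z j ^ (μ i + (r - 1 - (i : ℕ)))).det /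
        (Matrix.of fun i j : Fin r => z j ^ (r - 1 - (i : ℕ))).det) :
    (∑ μ ∈ (Finset.univ : Finset (Fin r → Fin k)).filter (fun μ : Fin r → Fin k => Antitone μ),
        S (fun i => (μ i : ℕ)) * S (fun i => k - (μ (Fin.rev i) : ℕ))) =
      Complex.exp (2 * Real.pi * Complex.I * (k : ℂ) * ((∑ j, v j : ℕ) : ℂ) / ((r : ℂ) + k)) *
        ((k : ℂ) * ((r : ℂ) + k) ^ (r - 1)) /
        (∏ p ∈ (Finset.univ : Finset (Fin r × Fin r)).filter (fun p => p.1 < p.2),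
          (((2 : ℝ) * Real.sin (Real.pi * ((v p.1 : ℝ) - (v p.2 : ℝ)) / ((r : ℝ) + k))) ^ 2 : ℝ) : ℂ) := by
  classical
  have hpos : 0 < r + k := by omega
  have hr0 : 0 < r := by omega
  have hζp : IsPrimitiveRoot (ζ0 r k) (r + k) := zeta_prim r k hpos
  have hζ0 : ζ0 r k ≠ 0 := hζp.ne_zero hpos.ne'
  have hSA := S_eq1 r k v z hz S hS
  set ζ := ζ0 r k with hζdef
  set vℤ : Fin r → ℤ := fun j => (v j : ℤ) with hvℤ
  set Aρ := A ζ (ρ r) vℤ with hAρ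
  set s : ℤ := ∑ j, vℤ j with hs_def
  have hinj : Function.Injective (fun j => ζ ^ v j) := by
    intro i j hij
    apply hv.injective
    exact hζp.pow_inj (hvlt i) (hvlt j) hij
  have hAρ0 : Aρ ≠ 0 := by
    rw [hAρ, hvℤ, A_rho_eq]
    apply mul_ne_zero (eps_ne_zero r)
    rw [Matrix.det_vandermonde_ne_zero_iff]
    exact hinj
  have hP : (∏ p ∈ (Finset.univ : Finset (Fin r × Fin r)).filter (fun p => p.1 < p.2),
      (((2 : ℝ) * Real.sin (Real.pi * ((v p.1 : ℝ) - (v p.2 : ℝ)) / ((r : ℝ) + k))) ^ 2 : ℝ) : ℂ) =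
      Aρ * (eps r * ζ ^ (-(((r:ℤ) - 1) * s)) * Aρ) := by
    rw [← Complex.ofReal_prod, P_eq r k hpos v, A_negrho_rel r ζ hζ0 hr0]
  have hexp : Complex.exp (2 * Real.pi * Complex.I * (k : ℂ) * ((∑ j, v j : ℕ) : ℂ) / ((r : ℂ) + k)) =
      ζ ^ (-s) * ζ ^ (-(((r:ℤ) - 1) * s)) := by
    have h1 : Complex.exp (2 * Real.pi * Complex.I * (k : ℂ) * ((∑ j, v j : ℕ) : ℂ) / ((r : ℂ) + k)) =
        ζ ^ (k * ∑ j, v j) := by
      rw [hζdef, ← z_eq]
      congr 1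
      push_cast
      ring
    rw [h1, ← zpow_add₀ hζ0, ← zpow_natCast]
    have hs : s = ((∑ j, v j : ℕ) : ℤ) := by
      rw [hs_def, Nat.cast_sum]
    have e : ((k * ∑ j, v j : ℕ) : ℤ) = (-s + -(((r:ℤ) - 1) * s)) + ((r + k : ℕ) : ℤ) * s := by
      rw [hs]; push_cast; ring
    rw [e, zpow_add₀ hζ0 (-s + -(((r:ℤ) - 1) * s)) (((r + k : ℕ) : ℤ) * s), zpow_mul,
      zpow_natCast, hζp.pow_eq_one, one_zpow, mul_one]
  have hsum : ∑ μ ∈ (Finset.univ : Finset (Fin r → Fin k)).filter (fun μ : Fin r → Fin k => Antitone μ),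
        S (fun i => (μ i : ℕ)) * S (fun i => k - (μ (Fin.rev i) : ℕ)) =
      eps r * ζ ^ (-s) * ((k : ℂ) * ((r : ℂ) + k) ^ (r - 1)) / (Aρ * Aρ) := by
    let f : (Fin r → ℕ) → ℂ := fun w =>
      A ζ (fun i => (w i : ℤ)) vℤ * A ζ (fun i => -(w i : ℤ)) vℤ
    have hterm : ∀ μ ∈ (Finset.univ : Finset (Fin r → Fin k)).filter
          (fun μ : Fin r → Fin k => Antitone μ),
        S (fun i => (μ i : ℕ)) * S (fun i => k - (μ (Fin.rev i) : ℕ)) =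
          eps r * ζ ^ (-s) / (Aρ * Aρ) * f (fun i => (μ i : ℕ) + (r - 1 - (i : ℕ))) := by
      intro μ _
      rw [hSA, hSA]
      have e1 : aOf (fun i => (μ i : ℕ)) =
          fun i => (((μ i : ℕ) + (r - 1 - (i : ℕ)) : ℕ) : ℤ) := rfl
      have hdual : A ζ (aOf (fun i => k - (μ (Fin.rev i) : ℕ))) vℤ =
          eps r * ζ ^ (-s) * A ζ (fun i => -(((μ i : ℕ) + (r - 1 - (i : ℕ)) : ℕ) : ℤ)) vℤ := by
        rw [aOf_dual (fun i => (μ i : ℕ)) (fun i => (μ i).isLt.le)]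
        exact A_dual ζ hζ0 (r + k) hζp.pow_eq_one
          (fun i' : Fin r => (μ i' : ℕ) + (r - 1 - (i' : ℕ)))
          (fun i => by have h1 := (μ i).isLt; have h2 := i.isLt; omega) vℤ
      rw [e1, hdual]
      simp only [f]
      ring
    rw [Finset.sum_congr rfl hterm, ← Finset.mul_sum,
      reindex (n := r + k - 1) hk (by omega) f]
    have hcore : ∑ a ∈ Finset.univ.filter (fun a : Fin r → Fin (r + k - 1) => StrictAnti a),
        f (fun i => (a i : ℕ)) = (k : ℂ) * ((r : ℂ) + k) ^ (r - 1) :=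
      coreB r k (r + k - 1) hr (by omega) v hv hvlt
    rw [hcore]
    ring
  rw [hsum, hexp, hP]
  have hY : ζ ^ (-(((r:ℤ) - 1) * s)) ≠ 0 := zpow_ne_zero _ hζ0
  rw [div_eq_div_iff (mul_ne_zero hAρ0 hAρ0)
    (mul_ne_zero hAρ0 (mul_ne_zero (mul_ne_zero (eps_ne_zero r) hY) hAρ0))]
  linear_combination (ζ ^ (-s) * ζ ^ (-(((r:ℤ) - 1) * s)) *
    ((k : ℂ) * ((r : ℂ) + k) ^ (r - 1)) * Aρ * Aρ) * eps_mul_self r

end Groth.Agent.Helper22.Verl
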