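import Mathlib
import Groth.Agent.Lib.Helper29.Verlinde
import Groth.Agent.Lib.Helper22.Verl1
import Groth.Agent.Lib.Helper22.Verl2
import Groth.Agent.Lib.Helper22.Verl3

set_option autoImplicit false

namespace Groth.Agent.Helper22.Verl

open Finset
open Groth.Agent.Helper29.Verlinde

theorem gen_vanish (q k : ℕ) (a a' : Fin (q+2) → ℤ)
    (hcomb : ∀ m : ℤ, ∑ i, a i + ∑ i, a' i = ((q+2 : ℕ) : ℤ) * m →
      ∀ (σ : Equiv.Perm (Fin (q+2))) (l : Fin (q+2)),
        ∃ j, j ≠ l ∧ ¬ (((q + 2 + k : ℕ) : ℤ)) ∣ (a (σ j) + (a' j - m))) :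
    ∑ w ∈ V (q+2) (q+2+k),
      F (ξ0 (q+2) k) (ζ0 (q+2) k) (∑ i, a i + ∑ i, a' i) a a' (vz w) = 0 := by
  have hpos : 0 < q + 2 + k := by omega
  have hr0 : 0 < q + 2 := by omega
  set C := ∑ i, a i + ∑ i, a' i with hCdef
  have hζp := zeta_prim (q+2) k hpos
  have hξp := xi_prim (q+2) k hr0 hpos
  have hξ0 : ξ0 (q+2) k ≠ 0 := Complex.exp_ne_zero _
  have hξζ := xi_pow (q+2) k hr0 hpos
  by_cases hdiv : ((q + 2 : ℕ) : ℤ) ∣ C
  · obtain ⟨m, hm⟩ := hdiv
    have hF : ∀ v : Fin (q+2) → Fin (q+2+k),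
        F (ξ0 (q+2) k) (ζ0 (q+2) k) C a a' (vz v) =
        ζ0 (q+2) k ^ (-(m * ∑ j, vz v j)) * A (ζ0 (q+2) k) a (vz v) *
          A (ζ0 (q+2) k) a' (vz v) := by
      intro v
      unfold F
      congr 2
      rw [hm, ← hξζ, ← zpow_natCast (ξ0 (q+2) k) (q+2), ← zpow_mul]
      congr 1
      ring
    simp only [hF]
    exact case2 (q := q+1) (ζ0 (q+2) k) hζp hpos a a' m (fun σ l => hcomb m hm σ l)
  · refine sum_eq_zero_of_rot (m := q) (n := q+2+k)
      (F (ξ0 (q+2) k) (ζ0 (q+2) k) C a a')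
      (ξ0 (q+2) k ^ (-(C * ((q+2+k : ℕ):ℤ)))) ?_ ?_
    · intro h
      rw [← zpow_mul, hξp.zpow_eq_one_iff_dvd] at h
      apply hdiv
      obtain ⟨d, hd⟩ := h
      have hN : ((q + 2 + k : ℕ) : ℤ) ≠ 0 := by positivity
      have h1 : ((q+2+k : ℕ):ℤ) * (-(C * ((q:ℤ)+1))) =
          ((q+2+k:ℕ):ℤ) * (((q+2:ℕ):ℤ) * d) := by
        push_cast at hd ⊢
        linear_combination hd
      have h2 := mul_left_cancel₀ hN h1
      refine ⟨C + d, ?_⟩
      push_cast at h2 ⊢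
      linear_combination h2
    · intro w π t u
      rw [F_transform (ξ0 (q+2) k) (ζ0 (q+2) k) hξ0 hξζ (q+2+k) hζp.pow_eq_one a a' C hCdef
        w π t u, ← zpow_mul]
      congr 2
      ring

theorem comb' {r : ℕ} (N : ℕ) (v v' : Fin r → ℕ) (hv : StrictAnti v) (hvlt : ∀ i, v i < N)
    (hv' : StrictAnti v') (hv'lt : ∀ i, v' i < N)
    (hne : ¬ ∃ a : ℤ, ∀ i, (v i : ℤ) - (v' i : ℤ) = a)
    (m : ℤ) (hm : ∑ i, (v i : ℤ) + ∑ i, -(v' i : ℤ) = (r : ℤ) * m)
    (σ : Equiv.Perm (Fin r)) (l : Fin r) :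
    ∃ j, j ≠ l ∧ ¬ ((N : ℤ)) ∣ ((v (σ j) : ℤ) + (-(v' j : ℤ) - m)) := by
  classical
  by_contra hcon
  push_neg at hcon
  have hN : (0:ℤ) < N := by have := hvlt l; omega
  have hr : 0 < r := Fin.pos l
  let e : Fin r → ℤ := fun j => (v (σ j) : ℤ) + (-(v' j : ℤ) - m)
  have hσsum : ∑ j, (v (σ j) : ℤ) = ∑ j, (v j : ℤ) := Equiv.sum_comp σ (fun i => (v i : ℤ))
  have hsum : ∑ j, e j = 0 := by
    simp only [e, Finset.sum_add_distrib, Finset.sum_sub_distrib, Finset.sum_const,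
      Finset.card_univ, Fintype.card_fin, nsmul_eq_mul]
    rw [hσsum]
    linarith
  have hall : ∀ j, (N : ℤ) ∣ e j := by
    intro j
    by_cases hj : j = l
    · have h1 : e l = -∑ j ∈ Finset.univ.erase l, e j := by
        have := Finset.add_sum_erase Finset.univ e (Finset.mem_univ l)
        linarith
      rw [hj, h1]
      apply Dvd.dvd.neg_right
      exact Finset.dvd_sum (fun j hj => hcon j (Finset.ne_of_mem_erase hj))
    · exact hcon j hj
  obtain ⟨m0, m1, hmm, hm0l, hm0u⟩ : ∃ m0 m1 : ℤ, m = m0 + N * m1 ∧ 0 ≤ m0 ∧ m0 < N :=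
    ⟨m % N, m / N, (Int.emod_add_mul_ediv m N).symm, Int.emod_nonneg _ hN.ne',
      Int.emod_lt_of_pos _ hN⟩
  have hb : ∀ j, ∃ b : ℤ, (0 ≤ b ∧ b ≤ 1) ∧ (v (σ j) : ℤ) = (v' j : ℤ) + m0 - N * b := by
    intro j
    obtain ⟨t, ht⟩ := hall j
    have h1 := hvlt (σ j)
    have h2 := hv'lt j
    have h3 : (v (σ j) : ℤ) - v' j - m0 = N * (m1 + t) := by
      simp only [e] at ht
      have : (N : ℤ) * (m1 + t) = N * m1 + N * t := by ring
      rw [this, ← ht, hmm]
      ring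
    refine ⟨-(m1 + t), ⟨?_, ?_⟩, ?_⟩
    · by_contra hlt
      push_neg at hlt
      have h4 : (N : ℤ) * 1 ≤ N * (m1 + t) := mul_le_mul_of_nonneg_left (by omega) hN.le
      omega
    · by_contra hlt
      push_neg at hlt
      have h4 : (N : ℤ) * (m1 + t) ≤ N * (-2) := mul_le_mul_of_nonneg_left (by omega) hN.le
      omega
    · have : (N : ℤ) * -(m1 + t) = -(N * (m1 + t)) := by ring
      rw [this, ← h3]
      ring
  choose b hb01 hbv using hb
  have hsb : ∑ j, b j = -(r:ℤ) * m1 := by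
    have h1 : ∑ j, (v (σ j) : ℤ) = ∑ j, ((v' j : ℤ) + m0 - N * b j) :=
      Finset.sum_congr rfl (fun j _ => hbv j)
    rw [hσsum] at h1
    simp only [Finset.sum_add_distrib, Finset.sum_sub_distrib, Finset.sum_const,
      Finset.card_univ, Fintype.card_fin, ← Finset.mul_sum, nsmul_eq_mul] at h1
    have h2 : (N : ℤ) * ∑ j, b j = N * (-(r:ℤ) * m1) := by
      simp only [Finset.sum_neg_distrib] at hm
      rw [hmm] at hm
      have : (N : ℤ) * (-(r:ℤ) * m1) = -((r : ℤ) * (N * m1)) := by ring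
      rw [this]
      have h5 : (r : ℤ) * (m0 + N * m1) = r * m0 + r * (N * m1) := by ring
      rw [h5] at hm
      linarith
    exact mul_left_cancel₀ hN.ne' h2
  have hs0 : 0 ≤ ∑ j, b j := Finset.sum_nonneg (fun j _ => (hb01 j).1)
  have hs1 : ∑ j, b j ≤ r := by
    calc ∑ j, b j ≤ ∑ j : Fin r, (1:ℤ) := Finset.sum_le_sum (fun j _ => (hb01 j).2)
      _ = r := by simp
  have hrz : (0:ℤ) < r := by exact_mod_cast hr
  have hcases : (∀ j, b j = 0) ∨ (∀ j, b j = 1) := by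
    have hm1 : m1 = 0 ∨ m1 = -1 := by
      rw [hsb] at hs0 hs1
      have h1 : m1 ≤ 0 := by
        by_contra h
        push_neg at h
        nlinarith
      have h2 : -1 ≤ m1 := by
        by_contra h
        push_neg at h
        nlinarith
      omega
    rcases hm1 with h | h
    · left
      have h0 : ∑ j, b j = 0 := by rw [hsb, h]; ring
      intro j
      exact (Finset.sum_eq_zero_iff_of_nonneg (fun j _ => (hb01 j).1)).mp h0 j (Finset.mem_univ j)
    · right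
      have h1 : ∑ j, (1 - b j) = 0 := by
        rw [Finset.sum_sub_distrib, hsb, h]
        simp
      intro j
      have := (Finset.sum_eq_zero_iff_of_nonneg
        (fun j _ => by linarith [(hb01 j).2])).mp h1 j (Finset.mem_univ j)
      linarith
  obtain ⟨c, hc⟩ : ∃ c : ℤ, ∀ j, (v (σ j) : ℤ) = (v' j : ℤ) + c := by
    rcases hcases with h | h
    · exact ⟨m0, fun j => by rw [hbv j, h j]; ring⟩
    · exact ⟨m0 - N, fun j => by rw [hbv j, h j]; ring⟩
  have hanti : Antitone (v ∘ σ) := by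
    intro i j hij
    have h1 := hc i
    have h2 := hc j
    have h3 : v' j ≤ v' i := hv'.antitone hij
    have h4 : (v' j : ℤ) ≤ v' i := by exact_mod_cast h3
    show v (σ j) ≤ v (σ i)
    have h5 : (v (σ j) : ℤ) ≤ v (σ i) := by rw [h1, h2]; linarith
    exact_mod_cast h5
  have heq : v ∘ σ = v ∘ (1 : Equiv.Perm (Fin r)) :=
    Tuple.unique_antitone hanti (by simpa using hv.antitone)
  apply hne
  refine ⟨c, fun i => ?_⟩
  have h1 := hc i
  have h2 : v (σ i) = v i := congrFun heq i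
  rw [h2] at h1
  linarith

end Groth.Agent.Helper22.Verl
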