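import Mathlib
import Groth.Agent.Lib.Helper29.Verlinde
import Groth.Agent.Lib.Helper22.Verl1
import Groth.Agent.Lib.Helper22.Verl2
import Groth.Agent.Lib.Helper22.Verl3
import Groth.Agent.Lib.Helper22.Verl4

set_option autoImplicit false

namespace Groth.Agent.Helper22.Verl

open Finset
open Groth.Agent.Helper29.Verlinde

theorem main78 (r k : ℕ) (hr : 1 ≤ r)
    (hk : 1 ≤ k) (v v' : Fin r → ℕ) (hv : StrictAnti v) (hvlt : ∀ i, v i < r + k) (hv' : StrictAnti v')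
    (hv'lt : ∀ i, v' i < r + k) (hne : ¬ ∃ a : ℤ, ∀ i, (v i : ℤ) - (v' i : ℤ) = a)
    (z z' : Fin r → ℂ) (hz : ∀ j, z j = Complex.exp (2 * Real.pi * Complex.I * (v j : ℂ) / ((r : ℂ) + k)))
    (hz' : ∀ j, z' j = Complex.exp (2 * Real.pi * Complex.I * (v' j : ℂ) / ((r : ℂ) + k)))
    (S S' : (Fin r → ℕ) → ℂ)
    (hS : ∀ μ : Fin r → ℕ, S μ =
      (Matrix.of fun i j : Fin r => z j ^ (μ i + (r - 1 - (i : ℕ)))).det /
        (Matrix.of fun i j : Fin r => z j ^ (r - 1 - (i : ℕ))).det)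
    (hS' : ∀ μ : Fin r → ℕ, S' μ =
      (Matrix.of fun i j : Fin r => z' j ^ (μ i + (r - 1 - (i : ℕ)))).det /
        (Matrix.of fun i j : Fin r => z' j ^ (r - 1 - (i : ℕ))).det) :
    (∑ μ ∈ (Finset.univ : Finset (Fin r → Fin (k + 1))).filter
        (fun μ : Fin r → Fin (k + 1) => Antitone μ ∧ ∀ i : Fin r, (i : ℕ) = r - 1 → (μ i : ℕ) = 0),
      Complex.exp (-(2 * Real.pi * Complex.I * ((∑ i, (μ i : ℕ) : ℕ) : ℂ) * ((∑ j, v j : ℕ) : ℂ) /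
          ((r : ℂ) * ((r : ℂ) + k)))) *
      Complex.exp (-(2 * Real.pi * Complex.I * ((∑ i, (k - (μ (Fin.rev i) : ℕ)) : ℕ) : ℂ) *
          ((∑ j, v' j : ℕ) : ℂ) / ((r : ℂ) * ((r : ℂ) + k)))) *
      S (fun i => (μ i : ℕ)) * S' (fun i => k - (μ (Fin.rev i) : ℕ))) = 0 := by
  classical
  rcases Nat.lt_or_ge r 2 with hr2 | hr2
  · exfalso
    have hr1 : r = 1 := by omega
    subst hr1
    apply hne
    exact ⟨(v 0 : ℤ) - (v' 0 : ℤ), fun i => by rw [Subsingleton.elim i 0]⟩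
  obtain ⟨q, rfl⟩ : ∃ q, r = q + 2 := ⟨r - 2, by omega⟩
  have hpos : 0 < q + 2 + k := by omega
  have hr0 : 0 < q + 2 := by omega
  have hζp : IsPrimitiveRoot (ζ0 (q+2) k) (q + 2 + k) := zeta_prim (q+2) k hpos
  have hζ0 : ζ0 (q+2) k ≠ 0 := hζp.ne_zero hpos.ne'
  have hξ0 : ξ0 (q+2) k ≠ 0 := Complex.exp_ne_zero _
  have hSA := S_eq1 (q+2) k v z hz S hS
  have hSA' := S_eq1 (q+2) k v' z' hz' S' hS'
  set ζ := ζ0 (q+2) k with hζdef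
  set ξ := ξ0 (q+2) k with hξdef
  set vℤ : Fin (q+2) → ℤ := fun j => (v j : ℤ) with hvℤ
  set v'ℤ : Fin (q+2) → ℤ := fun j => (v' j : ℤ) with hv'ℤ
  set nv' : Fin (q+2) → ℤ := fun j => -(v' j : ℤ) with hnv'
  set C : ℤ := ∑ i, vℤ i + ∑ i, nv' i with hC
  set R : ℤ := ∑ i, ρ (q+2) i with hR
  set Wv : ℤ := ∑ j, vℤ j with hWv
  set Wv' : ℤ := ∑ j, v'ℤ j with hWv'
  have hCW : C = Wv - Wv' := by
    rw [hC, hnv', Finset.sum_neg_distrib]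
    ring
  set K : ℂ := ξ ^ (R * Wv - (((q + 2 : ℕ) : ℤ) * k + R) * Wv') * eps (q+2) * ζ ^ (-Wv') /
    (A ζ (ρ (q+2)) vℤ * A ζ (ρ (q+2)) v'ℤ) with hK
  let g : (Fin (q+2) → ℕ) → ℂ := fun w => F ξ ζ C vℤ nv' (fun j => (w j : ℤ))
  have hterm : ∀ μ ∈ (Finset.univ : Finset (Fin (q+2) → Fin (k + 1))).filter
        (fun μ : Fin (q+2) → Fin (k + 1) =>
          Antitone μ ∧ ∀ i : Fin (q+2), (i : ℕ) = q + 2 - 1 → (μ i : ℕ) = 0),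
      Complex.exp (-(2 * Real.pi * Complex.I * ((∑ i, (μ i : ℕ) : ℕ) : ℂ) * ((∑ j, v j : ℕ) : ℂ) /
          (((q + 2 : ℕ) : ℂ) * (((q + 2 : ℕ) : ℂ) + k)))) *
      Complex.exp (-(2 * Real.pi * Complex.I * ((∑ i, (k - (μ (Fin.rev i) : ℕ)) : ℕ) : ℂ) *
          ((∑ j, v' j : ℕ) : ℂ) / (((q + 2 : ℕ) : ℂ) * (((q + 2 : ℕ) : ℂ) + k)))) *
      S (fun i => (μ i : ℕ)) * S' (fun i => k - (μ (Fin.rev i) : ℕ)) =
      K * g (fun i => (μ i : ℕ) + (q + 2 - 1 - (i : ℕ))) := by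
    intro μ _
    rw [E_eq, E_eq, hSA, hSA']
    have e1 : aOf (fun i => (μ i : ℕ)) =
        fun i => (((μ i : ℕ) + (q + 2 - 1 - (i : ℕ)) : ℕ) : ℤ) := rfl
    have hdual : A ζ (aOf (fun i => k - (μ (Fin.rev i) : ℕ))) v'ℤ =
        eps (q+2) * ζ ^ (-Wv') *
          A ζ (fun i => -(((μ i : ℕ) + (q + 2 - 1 - (i : ℕ)) : ℕ) : ℤ)) v'ℤ := by
      rw [aOf_dual (fun i => (μ i : ℕ)) (fun i => Nat.lt_succ_iff.mp (μ i).isLt)]
      exact A_dual ζ hζ0 (q + 2 + k) hζp.pow_eq_one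
        (fun i' : Fin (q+2) => (μ i' : ℕ) + (q + 2 - 1 - (i' : ℕ)))
        (fun i => by have h1 := (μ i).isLt; have h2 := i.isLt; omega) v'ℤ
    rw [e1, hdual]
    have hsym1 : A ζ (fun i => (((μ i : ℕ) + (q + 2 - 1 - (i : ℕ)) : ℕ) : ℤ)) vℤ =
        A ζ vℤ (fun i => (((μ i : ℕ) + (q + 2 - 1 - (i : ℕ)) : ℕ) : ℤ)) := A_symm _ _ _
    have hsym2 : A ζ (fun i => -(((μ i : ℕ) + (q + 2 - 1 - (i : ℕ)) : ℕ) : ℤ)) v'ℤ =
        A ζ nv' (fun i => (((μ i : ℕ) + (q + 2 - 1 - (i : ℕ)) : ℕ) : ℤ)) :=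
      A_neg_symm ζ (fun i => (((μ i : ℕ) + (q + 2 - 1 - (i : ℕ)) : ℕ) : ℤ)) v'ℤ
    rw [hsym1, hsym2]
    set sw : ℤ := ∑ j, (((μ j : ℕ) + (q + 2 - 1 - (j : ℕ)) : ℕ) : ℤ) with hsw
    have h1 : ((∑ i, (μ i : ℕ) : ℕ) : ℤ) = sw - R := by
      rw [hsw, hR, Nat.cast_sum, ← Finset.sum_sub_distrib]
      refine Finset.sum_congr rfl (fun i _ => ?_)
      unfold ρ
      rw [Nat.cast_add]
      ring
    have h2 : ((∑ i, (k - (μ (Fin.rev i) : ℕ)) : ℕ) : ℤ) =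
        ((q + 2 : ℕ) : ℤ) * k - ((∑ i, (μ i : ℕ) : ℕ) : ℤ) := by
      rw [Nat.cast_sum, Nat.cast_sum]
      have hc : ∀ i : Fin (q+2), ((k - (μ (Fin.rev i) : ℕ) : ℕ) : ℤ) =
          (k : ℤ) - ((μ (Fin.rev i) : ℕ) : ℤ) := fun i => by
        have := (μ (Fin.rev i)).isLt
        omega
      simp only [hc]
      rw [Finset.sum_sub_distrib]
      have hrev : ∑ i : Fin (q+2), ((μ (Fin.rev i) : ℕ) : ℤ) = ∑ i, ((μ i : ℕ) : ℤ) := by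
        have := Equiv.sum_comp (Fin.revPerm : Equiv.Perm (Fin (q+2))) (fun i => ((μ i : ℕ) : ℤ))
        simpa using this
      rw [hrev]
      simp only [Finset.sum_const, Finset.card_univ, Fintype.card_fin, nsmul_eq_mul]
    have hWvn : ((∑ j, v j : ℕ) : ℤ) = Wv := by rw [hWv, hvℤ, Nat.cast_sum]
    have hWv'n : ((∑ j, v' j : ℕ) : ℤ) = Wv' := by rw [hWv', hv'ℤ, Nat.cast_sum]
    have hp : ξ ^ (-(((∑ i, (μ i : ℕ) : ℕ) : ℤ) * ((∑ j, v j : ℕ) : ℤ))) *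
        ξ ^ (-(((∑ i, (k - (μ (Fin.rev i) : ℕ)) : ℕ) : ℤ) * ((∑ j, v' j : ℕ) : ℤ))) =
        ξ ^ (R * Wv - (((q + 2 : ℕ) : ℤ) * k + R) * Wv') * ξ ^ (-(C * sw)) := by
      rw [← zpow_add₀ hξ0, ← zpow_add₀ hξ0]
      congr 1
      rw [h2, h1, hWvn, hWv'n, hCW]
      ring
    simp only [g, F]
    rw [hK]
    linear_combination
      (A ζ vℤ (fun i => (((μ i : ℕ) + (q + 2 - 1 - (i : ℕ)) : ℕ) : ℤ)) / A ζ (ρ (q+2)) vℤ *
        (eps (q+2) * ζ ^ (-Wv') *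
          A ζ nv' (fun i => (((μ i : ℕ) + (q + 2 - 1 - (i : ℕ)) : ℕ) : ℤ)) /
            A ζ (ρ (q+2)) v'ℤ)) * hp
  rw [Finset.sum_congr rfl hterm, ← Finset.mul_sum,
    reindexZ (r := q + 2) (k' := k + 1) (n := q + 2 + k) (by omega) (by omega) g]
  have hvan : ∑ a ∈ Finset.univ.filter (fun a : Fin (q+2) → Fin (q + 2 + k) =>
        StrictAnti a ∧ ∀ i : Fin (q+2), (i : ℕ) = q + 2 - 1 → (a i : ℕ) = 0),
      g (fun i => (a i : ℕ)) = 0 := by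
    have h := gen_vanish q k vℤ nv' (fun m hm σ l =>
      comb' (q + 2 + k) v v' hv hvlt hv' hv'lt hne m hm σ l)
    exact h
  rw [hvan, mul_zero]

end Groth.Agent.Helper22.Verl
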