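import Mathlib

/-!
# Veronese submodules of a standard graded ring are generated in their lowest degree
-/

set_option autoImplicit false
namespace Groth.Agent.Helper22.Veronese
open DirectSum
universe u

section
variable {R : Type u} [CommRing R] (𝒜 : ℤ → AddSubgroup R) [GradedRing 𝒜]

/-- additive span of the products `𝒜 m · 𝒜 n` -/
def P (m n : ℤ) : AddSubgroup R :=
  AddSubgroup.closure {z | ∃ x ∈ 𝒜 m, ∃ y ∈ 𝒜 n, z = x * y}

theorem mul_mem_P {m n : ℤ} {x y : R} (hx : x ∈ 𝒜 m) (hy : y ∈ 𝒜 n) : x * y ∈ P 𝒜 m n :=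
  AddSubgroup.subset_closure ⟨x, hx, y, hy, rfl⟩

theorem step
    (hstd : Ideal.span (⋃ n ∈ Set.Ioi (0 : ℤ), (𝒜 n : Set R)) =
      Ideal.span ((𝒜 1 : AddSubgroup R) : Set R))
    (n : ℤ) (hn : 0 ≤ n) : 𝒜 (n + 1) ≤ P 𝒜 n 1 := by
  classical
  intro x hx
  have hx1 : x ∈ Ideal.span ((𝒜 1 : AddSubgroup R) : Set R) := by
    rw [← hstd]
    apply Ideal.subset_span
    exact Set.mem_iUnion₂.2 ⟨n + 1, (by show (0 : ℤ) < n + 1; omega), hx⟩
  obtain ⟨f, t, hts, -, hsum⟩ := Submodule.mem_span_iff_exists_finset_subset.1 hx1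
  have hx2 : x = ((decompose 𝒜 x (n + 1) : 𝒜 (n + 1)) : R) := (decompose_of_mem_same 𝒜 hx).symm
  rw [hx2, ← hsum, decompose_sum, DFinsupp.finset_sum_apply, AddSubmonoidClass.coe_finset_sum]
  refine AddSubgroup.sum_mem _ fun a ha => ?_
  rw [smul_eq_mul, coe_decompose_mul_add_of_right_mem 𝒜 (hts ha)]
  exact mul_mem_P 𝒜 (SetLike.coe_mem _) (hts ha)

theorem le_P
    (hstd : Ideal.span (⋃ n ∈ Set.Ioi (0 : ℤ), (𝒜 n : Set R)) =
      Ideal.span ((𝒜 1 : AddSubgroup R) : Set R))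
    (n₀ : ℤ) (hn₀ : 0 ≤ n₀) (d : ℕ) : 𝒜 (n₀ + d) ≤ P 𝒜 d n₀ := by
  induction d with
  | zero =>
    intro x hx
    have hx' : x ∈ 𝒜 n₀ := by simpa using hx
    have h1 : x = 1 * x := (one_mul x).symm
    rw [h1]
    exact mul_mem_P 𝒜 (by simpa using (SetLike.GradedOne.one_mem : (1 : R) ∈ 𝒜 0)) hx'
  | succ d ih =>
    intro x hx
    have e : n₀ + ((d + 1 : ℕ) : ℤ) = (n₀ + d) + 1 := by push_cast; ring
    rw [e] at hx
    have h1 := step 𝒜 hstd (n₀ + d) (add_nonneg hn₀ (Nat.cast_nonneg d)) hx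
    refine AddSubgroup.closure_induction
      (p := fun z _ => z ∈ P 𝒜 ((d + 1 : ℕ) : ℤ) n₀) ?_ ?_ ?_ ?_ h1
    · rintro z ⟨u, hu, y, hy, rfl⟩
      have hu' := ih hu
      refine AddSubgroup.closure_induction
        (p := fun w _ => w * y ∈ P 𝒜 ((d + 1 : ℕ) : ℤ) n₀) ?_ ?_ ?_ ?_ hu'
      · rintro w ⟨r, hr, s, hs, rfl⟩
        have h2 : r * s * y = (r * y) * s := by ring
        rw [h2]
        refine mul_mem_P 𝒜 ?_ hs
        rw [Nat.cast_succ]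
        exact SetLike.GradedMul.mul_mem hr hy
      · rw [zero_mul]; exact zero_mem _
      · intro w₁ w₂ _ _ h₁ h₂
        rw [add_mul]; exact add_mem h₁ h₂
      · intro w _ h
        rw [neg_mul]; exact neg_mem h
    · exact zero_mem _
    · intro _ _ _ _ h₁ h₂; exact add_mem h₁ h₂
    · intro _ _ h; exact neg_mem h

end

theorem veronese_span (R : Type u) [CommRing R] (𝒜 : ℤ → AddSubgroup R) [GradedRing 𝒜]
    (hpos : ∀ n : ℤ, n < 0 → 𝒜 n = ⊥)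
    (hstd : Ideal.span (⋃ n ∈ Set.Ioi (0 : ℤ), (𝒜 n : Set R)) =
      Ideal.span ((𝒜 1 : AddSubgroup R) : Set R))
    (q : ℕ) (hq : 0 < q) (R' : Type u) [CommRing R'] (𝒜' : ℤ → AddSubgroup R') [GradedRing 𝒜']
    (φ : R' →+* R)
    (hdeg : ∀ j : ℤ, (𝒜' j).map (φ : R' →+ R) = 𝒜 (j * q))
    (a : ℤ) (M' : Type u) [AddCommGroup M'] [Module R' M'] (ℳ' : ℤ → AddSubgroup M')
    [DirectSum.Decomposition ℳ']
    (g : M' →ₛₗ[φ] R) (hg : Function.Injective g)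
    (hgdeg : ∀ j : ℤ, (ℳ' j).map (g : M' →+ R) = 𝒜 (a + j * q))
    (j₀ : ℤ) (hj₀ : 0 ≤ a + j₀ * q) (hj₀' : a + (j₀ - 1) * q < 0) :
    Submodule.span R' ((ℳ' j₀ : AddSubgroup M') : Set M') = ⊤ := by
  classical
  have hq' : (0 : ℤ) < (q : ℤ) := by exact_mod_cast hq
  rw [eq_top_iff]
  intro x _
  rw [← DirectSum.sum_support_decompose ℳ' x]
  refine Submodule.sum_mem _ fun j _ => ?_
  have hxj : ((decompose ℳ' x j : ℳ' j) : M') ∈ ℳ' j := SetLike.coe_mem _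
  generalize ((decompose ℳ' x j : ℳ' j) : M') = y at hxj
  by_cases hj : j < j₀
  · have h1 : j * (q : ℤ) ≤ (j₀ - 1) * q := mul_le_mul_of_nonneg_right (by omega) hq'.le
    have hneg : a + j * q < 0 := by linarith
    have hgy : g y ∈ 𝒜 (a + j * q) := by
      rw [← hgdeg j]; exact AddSubgroup.mem_map.2 ⟨y, hxj, rfl⟩
    rw [hpos _ hneg, AddSubgroup.mem_bot] at hgy
    have hy0 : y = 0 := hg (hgy.trans (map_zero g).symm)
    rw [hy0]; exact zero_mem _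
  · push_neg at hj
    obtain ⟨d, hd⟩ : ∃ d : ℕ, (d : ℤ) = (j - j₀) * q :=
      ⟨_, Int.toNat_of_nonneg (mul_nonneg (by omega) hq'.le)⟩
    have hgy : g y ∈ 𝒜 ((a + j₀ * q) + d) := by
      have e : a + j * q = (a + j₀ * q) + d := by rw [hd]; ring
      rw [← e, ← hgdeg j]; exact AddSubgroup.mem_map.2 ⟨y, hxj, rfl⟩
    have hP := le_P 𝒜 hstd (a + j₀ * q) hj₀ d hgy
    have key : ∀ z ∈ P 𝒜 (d : ℤ) (a + j₀ * q),
        ∃ y' ∈ Submodule.span R' ((ℳ' j₀ : AddSubgroup M') : Set M'), g y' = z := by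
      intro z hz
      refine AddSubgroup.closure_induction (p := fun z _ =>
        ∃ y' ∈ Submodule.span R' ((ℳ' j₀ : AddSubgroup M') : Set M'), g y' = z) ?_ ?_ ?_ ?_ hz
      · rintro _ ⟨r, hr, s, hs, rfl⟩
        rw [hd, ← hdeg (j - j₀)] at hr
        obtain ⟨r', hr', rfl⟩ := AddSubgroup.mem_map.1 hr
        rw [← hgdeg j₀] at hs
        obtain ⟨m, hm, rfl⟩ := AddSubgroup.mem_map.1 hs
        refine ⟨r' • m, Submodule.smul_mem _ _ (Submodule.subset_span hm), ?_⟩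
        show g (r' • m) = φ r' * g m
        rw [map_smulₛₗ, smul_eq_mul]
      · exact ⟨0, zero_mem _, map_zero g⟩
      · rintro _ _ _ _ ⟨y₁, h₁, rfl⟩ ⟨y₂, h₂, rfl⟩
        exact ⟨y₁ + y₂, add_mem h₁ h₂, map_add g _ _⟩
      · rintro _ _ ⟨y₁, h₁, rfl⟩
        exact ⟨-y₁, neg_mem h₁, map_neg g _⟩
    obtain ⟨y', hy', hgy'⟩ := key _ hP
    have hyy : y = y' := hg hgy'.symm
    rw [hyy]; exact hy'

end Groth.Agent.Helper22.Veronese
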