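import Mathlib

/-!
# A normal domain is a fibre product `V ×_L K` with `V` of weak dimension ≤ 1
-/

set_option autoImplicit false
universe u
open CategoryTheory TensorProduct

namespace Groth.Agent.Helper22.WD1

section general
variable {V : Type*} [CommRing V]

/-- if all f.g. ideals are flat then all ideals are flat. -/
lemma flat_of_fg_flat (hfg : ∀ J : Ideal V, J.FG → Module.Flat V J) (I : Ideal V) :
    Module.Flat V I := by
  rw [Module.Flat.iff_rTensor_injective]
  intro J hJ
  haveI := hfg J hJ
  have h1 : Function.Injective (LinearMap.lTensor J I.subtype) :=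
    Module.Flat.lTensor_preserves_injective_linearMap (M := J) I.subtype Subtype.val_injective
  have h2 : Function.Injective (LinearMap.rTensor V J.subtype) :=
    Module.Flat.rTensor_preserves_injective_linearMap (M := V) J.subtype Subtype.val_injective
  have h3 : (LinearMap.lTensor V I.subtype).comp (LinearMap.rTensor I J.subtype)
      = (LinearMap.rTensor V J.subtype).comp (LinearMap.lTensor J I.subtype) := by
    rw [LinearMap.lTensor_comp_rTensor, LinearMap.rTensor_comp_lTensor]
  have h4 : Function.Injective
      ((LinearMap.lTensor V I.subtype).comp (LinearMap.rTensor I J.subtype)) := by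
    rw [h3, LinearMap.coe_comp]
    exact h2.comp h1
  rw [LinearMap.coe_comp] at h4
  exact Function.Injective.of_comp h4

end general

section pi
variable {ι : Type*} (R : ι → Type*) [∀ i, CommRing (R i)] [∀ i, IsDomain (R i)]
  [∀ i, ValuationRing (R i)]

lemma pi_dvd {a c : ∀ i, R i} (h : ∀ i, c i ∣ a i) : c ∣ a := by
  choose u hu using h
  exact ⟨u, funext hu⟩

lemma span_pair_principal (a b : ∀ i, R i) :
    (Ideal.span {a, b} : Ideal (∀ i, R i)).IsPrincipal := by
  classical
  let c : ∀ i, R i := fun i => if a i ∣ b i then a i else b i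
  let e : ∀ i, R i := fun i => if a i ∣ b i then 1 else 0
  have hca : c ∣ a := pi_dvd R fun i => by
    show (if a i ∣ b i then a i else b i) ∣ a i
    split_ifs with h
    · exact dvd_rfl
    · exact (ValuationRing.dvd_total (a i) (b i)).resolve_left h
  have hcb : c ∣ b := pi_dvd R fun i => by
    show (if a i ∣ b i then a i else b i) ∣ b i
    split_ifs with h
    · exact h
    · exact dvd_rfl
  have hc : e * a + (1 - e) * b = c := by
    funext i
    show (if a i ∣ b i then (1 : R i) else 0) * a i
        + (1 - (if a i ∣ b i then (1 : R i) else 0)) * b i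
      = (if a i ∣ b i then a i else b i)
    split_ifs with h
    · ring
    · ring
  refine ⟨⟨c, ?_⟩⟩
  show Ideal.span {a, b} = Ideal.span {c}
  apply le_antisymm
  · refine Ideal.span_le.2 (fun x hx => ?_)
    rcases hx with hx | hx
    · rw [hx]; exact Ideal.mem_span_singleton.2 hca
    · rw [Set.mem_singleton_iff.1 hx]; exact Ideal.mem_span_singleton.2 hcb
  · refine Ideal.span_le.2 (Set.singleton_subset_iff.2 ?_)
    exact Ideal.mem_span_pair.2 ⟨e, 1 - e, hc⟩

lemma flat_span_singleton (c : ∀ i, R i) :
    Module.Flat (∀ i, R i) (Ideal.span {c} : Ideal (∀ i, R i)) := by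
  classical
  let ε : ∀ i, R i := fun i => if c i = 0 then 0 else 1
  have hεc : ε * c = c := by
    funext i
    show (if c i = 0 then (0 : R i) else 1) * c i = c i
    split_ifs with h
    · rw [h, mul_zero]
    · rw [one_mul]
  have key : ∀ v : ∀ i, R i, v * c = 0 → v * ε = 0 := by
    intro v hv
    funext i
    show v i * (if c i = 0 then (0 : R i) else 1) = 0
    split_ifs with h
    · rw [mul_zero]
    · rw [mul_one]
      have h1 : v i * c i = 0 := congrFun hv i
      exact (mul_eq_zero.1 h1).resolve_right h
  have hq : ∀ x : (Ideal.span {c} : Ideal (∀ i, R i)), ∃ v : ∀ i, R i, v * c = x :=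
    fun x => Ideal.mem_span_singleton'.1 x.2
  choose q hq using hq
  let i : (Ideal.span {c} : Ideal (∀ i, R i)) →ₗ[∀ i, R i] (∀ i, R i) :=
    { toFun := fun x => q x * ε
      map_add' := fun x y => by
        have h1 : (q (x + y) - q x - q y) * c = 0 := by
          rw [sub_mul, sub_mul, hq, hq, hq, Submodule.coe_add]
          ring
        have h2 := key _ h1
        linear_combination h2
      map_smul' := fun r x => by
        have h1 : (q (r • x) - r * q x) * c = 0 := by
          rw [sub_mul, hq, mul_assoc, hq, Submodule.coe_smul, smul_eq_mul, sub_self]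
        have h2 := key _ h1
        show q (r • x) * ε = r • (q x * ε)
        rw [smul_eq_mul]
        linear_combination h2 }
  let s : (∀ i, R i) →ₗ[∀ i, R i] (Ideal.span {c} : Ideal (∀ i, R i)) :=
    LinearMap.toSpanSingleton (∀ i, R i) (Ideal.span {c} : Ideal (∀ i, R i))
      ⟨c, Ideal.subset_span rfl⟩
  have hsi : s.comp i = LinearMap.id := by
    refine LinearMap.ext fun x => Subtype.ext ?_
    show q x * ε * c = x
    rw [mul_assoc, hεc, hq]
  haveI : Module.Projective (∀ i, R i) (Ideal.span {c} : Ideal (∀ i, R i)) :=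
    Module.Projective.of_split i s hsi
  infer_instance

lemma fg_flat (J : Ideal (∀ i, R i)) (hJ : J.FG) : Module.Flat (∀ i, R i) J := by
  haveI : IsBezout (∀ i, R i) := IsBezout.iff_span_pair_isPrincipal.2 (span_pair_principal R)
  haveI hp : J.IsPrincipal := IsBezout.isPrincipal_of_FG J hJ
  obtain ⟨c, hc⟩ := Submodule.IsPrincipal.principal J
  rw [hc]
  exact flat_span_singleton R c

lemma all_flat (I : Ideal (∀ i, R i)) : Module.Flat (∀ i, R i) I :=
  flat_of_fg_flat (fg_flat R) I

end pi

section main
variable (A K : Type u) [CommRing A] [IsDomain A] [Field K] [Algebra A K]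
  [IsFractionRing A K] [IsIntegrallyClosed A]

omit [IsDomain A] in
lemma isIntegrallyClosedIn_range : IsIntegrallyClosedIn (algebraMap A K).range K := by
  refine Subring.isIntegrallyClosedIn_iff.mpr fun x hx => ?_
  obtain ⟨p, hp, hpx⟩ := hx
  have hsurj : Function.Surjective (algebraMap A K).rangeRestrict :=
    (algebraMap A K).rangeRestrict_surjective
  obtain ⟨q, hq, -, hqm⟩ := Polynomial.lifts_and_degree_eq_and_monic
    (Polynomial.mem_lifts_of_surjective hsurj p) hp
  rw [← hq, Polynomial.eval₂_map] at hpx
  have hcomp : (algebraMap (algebraMap A K).range K).comp (algebraMap A K).rangeRestrict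
      = algebraMap A K := RingHom.ext fun a => rfl
  rw [hcomp] at hpx
  have hint : IsIntegral A x := ⟨q, hqm, hpx⟩
  obtain ⟨y, hy⟩ := IsIntegrallyClosed.isIntegral_iff.1 hint
  exact RingHom.mem_range.2 ⟨y, hy⟩

/-- valuation subrings of `K` containing `A`. -/
def Idx : Type u := {W : ValuationSubring K // ∀ a : A, algebraMap A K a ∈ W}

omit [IsDomain A] in
lemma exists_of_forall_mem (k : K) (hk : ∀ W : Idx A K, k ∈ W.1) :
    ∃ a : A, algebraMap A K a = k := by
  by_contra hcon
  have hkR : k ∉ (algebraMap A K).range := fun h => hcon (RingHom.mem_range.1 h)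
  haveI := isIntegrallyClosedIn_range A K
  obtain ⟨W, hRW, hkW⟩ := Subring.exists_le_valuationSubring_of_isIntegrallyClosedIn hkR
  exact hkW (hk ⟨W, fun a => hRW (RingHom.mem_range.2 ⟨a, rfl⟩)⟩)

/-- the product of the valuation rings -/
abbrev VV : Type u := ∀ W : Idx A K, (W.1 : ValuationSubring K)

/-- the product of copies of `K` -/
abbrev LL : Type u := Idx A K → K

/-- `A → V` -/
def fA : A →+* VV A K where
  toFun a W := ⟨algebraMap A K a, W.2 a⟩
  map_one' := funext fun _ => Subtype.ext (map_one _)
  map_mul' a b := funext fun _ => Subtype.ext (map_mul _ a b)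
  map_zero' := funext fun _ => Subtype.ext (map_zero _)
  map_add' a b := funext fun _ => Subtype.ext (map_add _ a b)

/-- `V → L` -/
def gA : VV A K →+* LL A K where
  toFun v W := (v W : K)
  map_one' := funext fun _ => rfl
  map_mul' _ _ := funext fun _ => rfl
  map_zero' := funext fun _ => rfl
  map_add' _ _ := funext fun _ => rfl

/-- `K → L` -/
def hA : K →+* LL A K where
  toFun k _ := k
  map_one' := rfl
  map_mul' _ _ := rfl
  map_zero' := rfl
  map_add' _ _ := rfl

lemma gA_apply (v : VV A K) (W : Idx A K) : gA A K v W = (v W : K) := rfl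

lemma gA_injective : Function.Injective (gA A K) :=
  fun _ _ hvw => funext fun W => Subtype.ext (congrFun hvw W)

/-- the elements with all components nonzero -/
def SS : Submonoid (VV A K) where
  carrier := {s | ∀ W, s W ≠ 0}
  one_mem' := fun _ => one_ne_zero
  mul_mem' := fun ha hb W => mul_ne_zero (ha W) (hb W)

lemma isLoc : @IsLocalization (VV A K) _ (SS A K) (LL A K) _ (gA A K).toAlgebra := by
  letI : Algebra (VV A K) (LL A K) := (gA A K).toAlgebra
  refine (isLocalization_iff (M := SS A K) (S := LL A K)).2 ⟨?_, ?_, ?_⟩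
  · rintro ⟨s, hs⟩
    show IsUnit (gA A K s)
    rw [Pi.isUnit_iff]
    intro W
    exact isUnit_iff_ne_zero.2 (fun h0 => hs W (Subtype.ext h0))
  · intro z
    have hz : ∀ W : Idx A K, ∃ p : (W.1 : ValuationSubring K) × (W.1 : ValuationSubring K),
        p.2 ≠ 0 ∧ z W * (p.2 : K) = (p.1 : K) := by
      intro W
      by_cases h : z W ∈ W.1
      · exact ⟨(⟨z W, h⟩, 1), one_ne_zero, mul_one _⟩
      · have hinv : (z W)⁻¹ ∈ W.1 := (W.1.mem_or_inv_mem (z W)).resolve_left h
        have h0 : z W ≠ 0 := fun h0 => h (h0 ▸ zero_mem W.1)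
        refine ⟨(1, ⟨(z W)⁻¹, hinv⟩), ?_, ?_⟩
        · intro h1
          have h2 : (z W)⁻¹ = 0 := congrArg Subtype.val h1
          exact h0 (inv_eq_zero.1 h2)
        · exact mul_inv_cancel₀ h0
    choose p hp1 hp2 using hz
    refine ⟨(fun W => (p W).1, ⟨fun W => (p W).2, hp1⟩), ?_⟩
    funext W
    exact hp2 W
  · intro x y hxy
    exact ⟨1, by rw [gA_injective A K hxy]⟩

theorem main :
    ∃ (V L : Type u) (_ : CommRing V) (_ : CommRing L) (f : A →+* V) (g : V →+* L) (h : K →+* L),
      g.comp f = h.comp (algebraMap A K) ∧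
      (∀ I : Ideal V, Module.Flat V I) ∧ g.Flat ∧ Function.Injective g ∧
      Epi (CommRingCat.ofHom g) ∧
      ∀ (v : V) (k : K), g v = h k → ∃! a : A, f a = v ∧ algebraMap A K a = k := by
  refine ⟨VV A K, LL A K, inferInstance, inferInstance, fA A K, gA A K, hA A K, ?_, ?_, ?_, ?_,
    ?_, ?_⟩
  · exact RingHom.ext fun a => funext fun W => rfl
  · exact all_flat (fun W : Idx A K => (W.1 : ValuationSubring K))
  · letI : Algebra (VV A K) (LL A K) := (gA A K).toAlgebra
    haveI := isLoc A K
    exact IsLocalization.flat (LL A K) (SS A K)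
  · exact gA_injective A K
  · letI : Algebra (VV A K) (LL A K) := (gA A K).toAlgebra
    haveI := isLoc A K
    exact IsLocalization.epi (SS A K) (LL A K)
  · intro v k hvk
    have hk : ∀ W : Idx A K, k ∈ W.1 := fun W => by
      have h1 : (v W : K) = k := congrFun hvk W
      rw [← h1]
      exact (v W).2
    obtain ⟨a, ha⟩ := exists_of_forall_mem A K k hk
    refine ⟨a, ⟨?_, ha⟩, ?_⟩
    · funext W
      refine Subtype.ext ?_
      have h1 : (v W : K) = k := congrFun hvk W
      show algebraMap A K a = (v W : K)
      rw [ha, h1]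
    · rintro b ⟨-, hb⟩
      exact IsFractionRing.injective A K (hb.trans ha.symm)

end main

end Groth.Agent.Helper22.WD1
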