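import Mathlib

/-!
# Helper22: cotangent computation for the singular locus of a Weierstrass model (S14909)

`lemG` : ideal-power lemma; `exists_theta` : ring homs out of `R[[x,y]]` with nilpotent images
(via `MvPowerSeries.substAlgHom`); `theta_kills`; detection in `QuadraticAlgebra` quotients.
-/

set_option autoImplicit false

open QuadraticAlgebra

namespace Groth.Agent.Helper22.WeierCot

universe u

/-- Ideal-power lemma. -/
theorem lemG {T : Type*} [CommRing T] (p e t : T) (k : ℕ)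
    (hp : p ∈ Ideal.span {t ^ 2}) (he : e ^ 2 ∈ Ideal.span {t ^ (k + 2)}) :
    ∀ j : ℕ, Ideal.span {p, e, t} ^ (j + 1) ≤ Ideal.span {t ^ (j + 1), e * t ^ j} := by
  obtain ⟨sp, hsp⟩ := Ideal.mem_span_singleton'.mp hp
  obtain ⟨se, hse⟩ := Ideal.mem_span_singleton'.mp he
  intro j
  induction j with
  | zero =>
    rw [zero_add, pow_one]
    apply Ideal.span_le.mpr
    intro z hz
    simp only [Set.mem_insert_iff, Set.mem_singleton_iff] at hz
    rcases hz with rfl | rfl | rfl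
    · exact Ideal.mem_span_pair.mpr ⟨sp * t, 0, by rw [← hsp]; ring⟩
    · exact Ideal.mem_span_pair.mpr ⟨0, 1, by ring⟩
    · exact Ideal.mem_span_pair.mpr ⟨1, 0, by ring⟩
  | succ j ih =>
    rw [pow_succ]
    refine (Ideal.mul_mono_left ih).trans ?_
    rw [Ideal.mul_le]
    intro r hr s hs
    obtain ⟨c₁, c₂, rfl⟩ := Ideal.mem_span_pair.mp hr
    obtain ⟨d₁, z, hz, rfl⟩ := Ideal.mem_span_insert.mp hs
    obtain ⟨d₂, d₃, rfl⟩ := Ideal.mem_span_pair.mp hz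
    refine Ideal.mem_span_pair.mpr ⟨c₁ * d₁ * sp * t + c₁ * d₃ + c₂ * d₂ * se * t ^ k,
      c₁ * d₂ + c₂ * d₁ * sp * t + c₂ * d₃, ?_⟩
    linear_combination (c₁ * d₁ * t ^ (j + 1) + c₂ * d₁ * e * t ^ j) * hsp +
      (c₂ * d₂ * t ^ j) * hse

/-- Relations in the quotient ring. -/
theorem rel_lemma {T : Type*} [CommRing T] (Xb Yb P U1 U6 T3 η : T) (v' : ℕ)
    (hT3 : T3 * 3 = 1)
    (r1 : Yb ^ 2 + U1 * P ^ (v' + 1) * (Xb * Yb) - Xb ^ 3 - U6 * P = 0)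
    (r3 : 3 * Xb ^ 2 - U1 * P ^ (v' + 1) * Yb = 0)
    (hη : η * (U6 + (T3 * U1 - U1) * P ^ v' * Xb * Yb) = 1) :
    P = η * Yb ^ 2 ∧ Xb ^ 2 = (T3 * U1 * η ^ (v' + 1)) * Yb ^ (2 * v' + 1 + 2) := by
  have hX2 : Xb ^ 2 = T3 * U1 * P ^ (v' + 1) * Yb := by
    linear_combination T3 * r3 - Xb ^ 2 * hT3
  have hY2 : Yb ^ 2 = P * (U6 + (T3 * U1 - U1) * P ^ v' * Xb * Yb) := by
    linear_combination r1 + Xb * hX2
  have hP : P = η * Yb ^ 2 := by
    linear_combination (-P) * hη - η * hY2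
  refine ⟨hP, ?_⟩
  calc Xb ^ 2 = T3 * U1 * P ^ (v' + 1) * Yb := hX2
    _ = T3 * U1 * (η * Yb ^ 2) ^ (v' + 1) * Yb := by rw [← hP]
    _ = (T3 * U1 * η ^ (v' + 1)) * Yb ^ (2 * v' + 1 + 2) := by ring

/-- Ring homs out of `R[[x,y]]` with prescribed nilpotent images of the variables. -/
theorem exists_theta {R : Type*} [CommRing R] (T₀ : Type*) [CommRing T₀] [Algebra R T₀]
    (X' Y' : T₀) (hX : IsNilpotent X') (hY : IsNilpotent Y') :
    ∃ θ : MvPowerSeries (Fin 2) R →+* T₀, θ (MvPowerSeries.X 0) = X' ∧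
      θ (MvPowerSeries.X 1) = Y' ∧
      ∀ r : R, θ (algebraMap R (MvPowerSeries (Fin 2) R) r) = algebraMap R T₀ r := by
  classical
  obtain ⟨a, hadef⟩ : ∃ a : Fin 2 → MvPowerSeries Unit T₀,
      a = fun s => MvPowerSeries.C (![X', Y'] s) := ⟨_, rfl⟩
  have ha0 : a 0 = MvPowerSeries.C X' := by rw [hadef]; rfl
  have ha1 : a 1 = MvPowerSeries.C Y' := by rw [hadef]; rfl
  have ha : MvPowerSeries.HasSubst a :=
    MvPowerSeries.hasSubst_of_constantCoeff_nilpotent (fun s => by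
      fin_cases s
      · show IsNilpotent (MvPowerSeries.constantCoeff (a 0))
        rw [ha0, MvPowerSeries.constantCoeff_C]; exact hX
      · show IsNilpotent (MvPowerSeries.constantCoeff (a 1))
        rw [ha1, MvPowerSeries.constantCoeff_C]; exact hY)
  refine ⟨(MvPowerSeries.constantCoeff (σ := Unit) (R := T₀)).comp
    (MvPowerSeries.substAlgHom (R := R) ha).toRingHom, ?_, ?_, ?_⟩
  · show MvPowerSeries.constantCoeff (MvPowerSeries.substAlgHom (R := R) ha (MvPowerSeries.X 0)) = X'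
    rw [MvPowerSeries.substAlgHom_X, ha0, MvPowerSeries.constantCoeff_C]
  · show MvPowerSeries.constantCoeff (MvPowerSeries.substAlgHom (R := R) ha (MvPowerSeries.X 1)) = Y'
    rw [MvPowerSeries.substAlgHom_X, ha1, MvPowerSeries.constantCoeff_C]
  · intro r
    show MvPowerSeries.constantCoeff (MvPowerSeries.substAlgHom (R := R) ha
      (algebraMap R (MvPowerSeries (Fin 2) R) r)) = algebraMap R T₀ r
    rw [AlgHom.commutes, MvPowerSeries.algebraMap_apply, MvPowerSeries.constantCoeff_C]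

/-- A ring hom out of `R[[x,y]]` satisfying the listed relations kills `M^(2v+1) + I`. -/
theorem theta_kills {R : Type*} [CommRing R] {T₀ : Type*} [CommRing T₀] [Algebra R T₀]
    (θ : MvPowerSeries (Fin 2) R →+* T₀) (X' Y' : T₀) (x y : MvPowerSeries (Fin 2) R)
    (hθx : θ x = X') (hθy : θ y = Y')
    (hθc : ∀ r : R, θ (algebraMap R (MvPowerSeries (Fin 2) R) r) = algebraMap R T₀ r)
    (ϖ a₁ a₆ : R) (v : ℕ) (u₁ u₆ : Rˣ) (w : R)
    (ha₁ : a₁ = u₁ * ϖ ^ v) (ha₆ : a₆ = u₆ * ϖ) (h2 : (2 : R) = ϖ ^ v * w)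
    (h1 : Y' ^ 2 = algebraMap R T₀ a₆) (h2' : algebraMap R T₀ (ϖ ^ v) * Y' = 0)
    (h3 : algebraMap R T₀ (ϖ ^ v) * X' = 0)
    (h4 : X' ^ 2 = 0) (h5 : Y' ^ (2 * v + 1) = 0) (h6 : X' * Y' ^ (2 * v) = 0)
    (I M : Ideal (MvPowerSeries (Fin 2) R))
    (hI : I = Ideal.span {y ^ 2 + a₁ • (x * y) - x ^ 3 - algebraMap R (MvPowerSeries (Fin 2) R) a₆,
      2 * y + a₁ • x, 3 * x ^ 2 - a₁ • y})
    (hM : M = Ideal.span {algebraMap R (MvPowerSeries (Fin 2) R) ϖ, x, y}) :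
    M ^ (2 * v + 1) ⊔ I ≤ RingHom.ker θ := by
  have hsmul : ∀ (r : R) (f : MvPowerSeries (Fin 2) R),
      θ (r • f) = algebraMap R T₀ r * θ f := by
    intro r f; rw [Algebra.smul_def, map_mul, hθc]
  apply sup_le
  · have hM' : M ≤ Ideal.comap θ (Ideal.span {algebraMap R T₀ ϖ, X', Y'}) := by
      rw [hM]; apply Ideal.span_le.mpr
      intro z hz
      simp only [Set.mem_insert_iff, Set.mem_singleton_iff] at hz
      rcases hz with rfl | rfl | rfl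
      · rw [SetLike.mem_coe, Ideal.mem_comap, hθc]; exact Ideal.subset_span (by simp)
      · rw [SetLike.mem_coe, Ideal.mem_comap, hθx]; exact Ideal.subset_span (by simp)
      · rw [SetLike.mem_coe, Ideal.mem_comap, hθy]; exact Ideal.subset_span (by simp)
    have hp : algebraMap R T₀ ϖ ∈ Ideal.span {Y' ^ 2} := by
      refine Ideal.mem_span_singleton'.mpr ⟨algebraMap R T₀ ↑u₆⁻¹, ?_⟩
      rw [h1, ha₆, ← map_mul, ← mul_assoc, Units.inv_mul, one_mul]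
    have hG := lemG (algebraMap R T₀ ϖ) X' Y' 0 hp (by rw [h4]; exact Ideal.zero_mem _) (2 * v)
    have hbot : Ideal.span {Y' ^ (2 * v + 1), X' * Y' ^ (2 * v)} ≤ (⊥ : Ideal T₀) := by
      rw [h5, h6]
      apply Ideal.span_le.mpr
      intro z hz
      simp only [Set.mem_insert_iff, Set.mem_singleton_iff, or_self] at hz
      rw [hz]; exact Ideal.zero_mem _
    calc M ^ (2 * v + 1)
        ≤ (Ideal.comap θ (Ideal.span {algebraMap R T₀ ϖ, X', Y'})) ^ (2 * v + 1) :=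
          Ideal.pow_right_mono hM' _
      _ ≤ Ideal.comap θ ((Ideal.span {algebraMap R T₀ ϖ, X', Y'}) ^ (2 * v + 1)) :=
          Ideal.le_comap_pow _ _
      _ ≤ Ideal.comap θ ⊥ := Ideal.comap_mono (hG.trans hbot)
      _ = RingHom.ker θ := rfl
  · rw [hI]; apply Ideal.span_le.mpr
    intro z hz
    simp only [Set.mem_insert_iff, Set.mem_singleton_iff] at hz
    have hpv : algebraMap R T₀ a₁ = algebraMap R T₀ ↑u₁ * algebraMap R T₀ (ϖ ^ v) := by
      rw [ha₁, map_mul]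
    rcases hz with rfl | rfl | rfl
    · show _ ∈ RingHom.ker θ
      rw [RingHom.mem_ker]
      simp only [map_sub, map_add, map_mul, map_pow, hsmul, hθx, hθy, hθc]
      rw [hpv]
      linear_combination h1 + (algebraMap R T₀ ↑u₁ * X') * h2' - X' * h4
    · show _ ∈ RingHom.ker θ
      rw [RingHom.mem_ker]
      simp only [map_add, map_mul, hsmul, hθx, hθy, map_ofNat]
      have h2T : (2 : T₀) = algebraMap R T₀ (ϖ ^ v) * algebraMap R T₀ w := by
        rw [← map_mul, ← h2, map_ofNat]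
      rw [hpv, h2T]
      linear_combination (algebraMap R T₀ w) * h2' + (algebraMap R T₀ ↑u₁) * h3
    · show _ ∈ RingHom.ker θ
      rw [RingHom.mem_ker]
      simp only [map_sub, map_mul, map_pow, hsmul, hθx, hθy, map_ofNat]
      rw [hpv]
      linear_combination 3 * h4 - (algebraMap R T₀ ↑u₁) * h2'

/-- Generation: `M^(j+1) + I = (y^(j+1), x y^j) + I`. -/
theorem gen_eq {R : Type u} [CommRing R] (ϖ a₁ a₆ : R) (v : ℕ) (hv : 1 ≤ v) (u₁ u₆ : Rˣ)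
    (ha₁ : a₁ = u₁ * ϖ ^ v) (ha₆ : a₆ = u₆ * ϖ) (t3 : R) (ht3 : t3 * 3 = 1)
    (x y : MvPowerSeries (Fin 2) R) (hx : x = MvPowerSeries.X 0) (hy : y = MvPowerSeries.X 1)
    (I M : Ideal (MvPowerSeries (Fin 2) R))
    (hI : I = Ideal.span {y ^ 2 + a₁ • (x * y) - x ^ 3 - algebraMap R (MvPowerSeries (Fin 2) R) a₆,
      2 * y + a₁ • x, 3 * x ^ 2 - a₁ • y})
    (hM : M = Ideal.span {algebraMap R (MvPowerSeries (Fin 2) R) ϖ, x, y}) (j : ℕ) :
    M ^ (j + 1) ⊔ I = Ideal.span {y ^ (j + 1), x * y ^ j} ⊔ I := by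
  obtain ⟨v', rfl⟩ : ∃ v', v = v' + 1 := ⟨v - 1, by omega⟩
  subst hx hy
  have hmem1 : (MvPowerSeries.X 1 : MvPowerSeries (Fin 2) R) ^ 2 +
      a₁ • (MvPowerSeries.X 0 * MvPowerSeries.X 1) - MvPowerSeries.X 0 ^ 3 -
      algebraMap R (MvPowerSeries (Fin 2) R) a₆ ∈ I := by
    rw [hI]; exact Ideal.subset_span (by simp)
  have hmem3 : 3 * (MvPowerSeries.X 0 : MvPowerSeries (Fin 2) R) ^ 2 -
      a₁ • MvPowerSeries.X 1 ∈ I := by
    rw [hI]; exact Ideal.subset_span (by simp)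
  have r1 := Ideal.Quotient.eq_zero_iff_mem.mpr hmem1
  have r3 := Ideal.Quotient.eq_zero_iff_mem.mpr hmem3
  rw [ha₁, ha₆] at r1
  rw [ha₁] at r3
  simp only [map_sub, map_add, map_mul, map_pow, Algebra.smul_def, map_ofNat] at r1 r3
  obtain ⟨Xb, hXb⟩ : ∃ Xb, Xb = Ideal.Quotient.mk I (MvPowerSeries.X 0) := ⟨_, rfl⟩
  obtain ⟨Yb, hYb⟩ : ∃ Yb, Yb = Ideal.Quotient.mk I (MvPowerSeries.X 1) := ⟨_, rfl⟩
  obtain ⟨P, hP⟩ : ∃ P, P = Ideal.Quotient.mk I
      (algebraMap R (MvPowerSeries (Fin 2) R) ϖ) := ⟨_, rfl⟩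
  obtain ⟨U1, hU1⟩ : ∃ U1, U1 = Ideal.Quotient.mk I
      (algebraMap R (MvPowerSeries (Fin 2) R) ↑u₁) := ⟨_, rfl⟩
  obtain ⟨U6, hU6⟩ : ∃ U6, U6 = Ideal.Quotient.mk I
      (algebraMap R (MvPowerSeries (Fin 2) R) ↑u₆) := ⟨_, rfl⟩
  obtain ⟨T3, hT3def⟩ : ∃ T3, T3 = Ideal.Quotient.mk I
      (algebraMap R (MvPowerSeries (Fin 2) R) t3) := ⟨_, rfl⟩
  rw [← hXb, ← hYb, ← hP, ← hU1, ← hU6] at r1
  rw [← hXb, ← hYb, ← hP, ← hU1] at r3
  have hT3 : T3 * 3 = 1 := by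
    have h3 : (3 : MvPowerSeries (Fin 2) R ⧸ I) = Ideal.Quotient.mk I
        (algebraMap R (MvPowerSeries (Fin 2) R) 3) := by rw [map_ofNat, map_ofNat]
    rw [hT3def, h3, ← map_mul, ← map_mul, ht3, map_one, map_one]
  -- the unit
  obtain ⟨E, hEdef⟩ : ∃ E : MvPowerSeries (Fin 2) R,
      E = algebraMap R (MvPowerSeries (Fin 2) R) ↑u₆ +
        algebraMap R (MvPowerSeries (Fin 2) R) (t3 * ↑u₁ - ↑u₁) *
        (algebraMap R (MvPowerSeries (Fin 2) R) ϖ) ^ v' * MvPowerSeries.X 0 *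
        MvPowerSeries.X 1 := ⟨_, rfl⟩
  have hcc : ∀ r : R, MvPowerSeries.constantCoeff
      (algebraMap R (MvPowerSeries (Fin 2) R) r) = r :=
    fun r => MvPowerSeries.constantCoeff_C r
  have hEu : IsUnit E := by
    rw [MvPowerSeries.isUnit_iff_constantCoeff]
    have : MvPowerSeries.constantCoeff E = ↑u₆ := by
      rw [hEdef, map_add, map_mul, MvPowerSeries.constantCoeff_X, mul_zero, add_zero, hcc]
    rw [this]; exact u₆.isUnit
  obtain ⟨ηS, hηS⟩ := hEu.exists_left_inv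
  have hη : Ideal.Quotient.mk I ηS * (U6 + (T3 * U1 - U1) * P ^ v' * Xb * Yb) = 1 := by
    have h := congrArg (Ideal.Quotient.mk I) hηS
    rw [hEdef] at h
    simp only [map_mul, map_add, map_sub, map_pow, map_one] at h
    rw [← hXb, ← hYb, ← hP, ← hU1, ← hU6, ← hT3def] at h
    exact h
  obtain ⟨hPη, hX2⟩ := rel_lemma Xb Yb P U1 U6 T3 (Ideal.Quotient.mk I ηS) v' hT3 r1 r3 hη
  have hpmem : P ∈ Ideal.span {Yb ^ 2} := Ideal.mem_span_singleton'.mpr ⟨_, hPη.symm⟩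
  have hemem : Xb ^ 2 ∈ Ideal.span {Yb ^ (2 * v' + 1 + 2)} :=
    Ideal.mem_span_singleton'.mpr ⟨_, hX2.symm⟩
  have hmapM : Ideal.map (Ideal.Quotient.mk I) M = Ideal.span {P, Xb, Yb} := by
    rw [hM, Ideal.map_span, Set.image_insert_eq, Set.image_insert_eq, Set.image_singleton,
      hP, hXb, hYb]
  have hmapN : Ideal.map (Ideal.Quotient.mk I)
      (Ideal.span {(MvPowerSeries.X 1 : MvPowerSeries (Fin 2) R) ^ (j + 1),
        MvPowerSeries.X 0 * MvPowerSeries.X 1 ^ j}) =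
      Ideal.span {Yb ^ (j + 1), Xb * Yb ^ j} := by
    rw [Ideal.map_span, Set.image_insert_eq, Set.image_singleton, map_pow, map_mul, map_pow,
      hXb, hYb]
  have key : Ideal.map (Ideal.Quotient.mk I) (M ^ (j + 1)) =
      Ideal.map (Ideal.Quotient.mk I)
        (Ideal.span {(MvPowerSeries.X 1 : MvPowerSeries (Fin 2) R) ^ (j + 1),
          MvPowerSeries.X 0 * MvPowerSeries.X 1 ^ j}) := by
    rw [Ideal.map_pow, hmapM, hmapN]
    apply le_antisymm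
    · exact lemG P Xb Yb (2 * v' + 1) hpmem hemem j
    · apply Ideal.span_le.mpr
      intro z hz
      simp only [Set.mem_insert_iff, Set.mem_singleton_iff] at hz
      have hYmem : Yb ∈ Ideal.span {P, Xb, Yb} := Ideal.subset_span (by simp)
      have hXmem : Xb ∈ Ideal.span {P, Xb, Yb} := Ideal.subset_span (by simp)
      rcases hz with rfl | rfl
      · exact Ideal.pow_mem_pow hYmem _
      · rw [pow_succ']; exact Ideal.mul_mem_mul hXmem (Ideal.pow_mem_pow hYmem j)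
  have hcm : ∀ K : Ideal (MvPowerSeries (Fin 2) R),
      Ideal.comap (Ideal.Quotient.mk I) (Ideal.map (Ideal.Quotient.mk I) K) = K ⊔ I := by
    intro K
    rw [Ideal.comap_map_of_surjective _ Ideal.Quotient.mk_surjective,
      ← RingHom.ker_eq_comap_bot, Ideal.mk_ker]
  rw [← hcm, ← hcm, key]

section Quad
variable {R : Type u} [CommRing R]

theorem omega_pow_even (c : R) (l : ℕ) :
    (ω : QuadraticAlgebra R c 0) ^ (2 * l) = algebraMap R (QuadraticAlgebra R c 0) (c ^ l) := by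
  induction l with
  | zero => simp
  | succ l ih =>
    rw [Nat.mul_succ, pow_add, ih, pow_two, omega_mul_omega_eq_mk, pow_succ, map_mul]
    first
      | rfl
      | (ext <;> simp)

theorem detect_even [IsDomain R] (c : R) (hc : c ≠ 0) (r : R) (l j N : ℕ) (hj : j = 2 * l)
    (hN : N = 2 * l + 1)
    (h : algebraMap R (QuadraticAlgebra R c 0) r * ω ^ j ∈
      Ideal.span {(ω : QuadraticAlgebra R c 0) ^ N}) : c ∣ r := by
  subst hj hN
  obtain ⟨z, hz⟩ := Ideal.mem_span_singleton'.mp h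
  rw [pow_succ, omega_pow_even] at hz
  have h1 := congrArg QuadraticAlgebra.re hz
  simp only [QuadraticAlgebra.re_mul, QuadraticAlgebra.im_mul, QuadraticAlgebra.algebraMap_re,
    QuadraticAlgebra.algebraMap_im, QuadraticAlgebra.omega_re, QuadraticAlgebra.omega_im] at h1
  have h2 : c ^ l * (c * z.im) = c ^ l * r := by linear_combination h1
  exact Dvd.intro _ (mul_left_cancel₀ (pow_ne_zero l hc) h2)

theorem detect_odd [IsDomain R] (c : R) (hc : c ≠ 0) (r : R) (l j N : ℕ) (hj : j = 2 * l + 1)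
    (hN : N = 2 * l + 2)
    (h : algebraMap R (QuadraticAlgebra R c 0) r * ω ^ j ∈
      Ideal.span {(ω : QuadraticAlgebra R c 0) ^ N}) : c ∣ r := by
  subst hj hN
  obtain ⟨z, hz⟩ := Ideal.mem_span_singleton'.mp h
  have e2 : (ω : QuadraticAlgebra R c 0) ^ (2 * l + 2) =
      algebraMap R (QuadraticAlgebra R c 0) (c ^ (l + 1)) := by
    rw [show 2 * l + 2 = 2 * (l + 1) by ring]; exact omega_pow_even c (l + 1)
  rw [e2, pow_succ (ω : QuadraticAlgebra R c 0) (2 * l), omega_pow_even] at hz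
  have h1 := congrArg QuadraticAlgebra.im hz
  simp only [QuadraticAlgebra.re_mul, QuadraticAlgebra.im_mul, QuadraticAlgebra.algebraMap_re,
    QuadraticAlgebra.algebraMap_im, QuadraticAlgebra.omega_re, QuadraticAlgebra.omega_im] at h1
  have h2 : c ^ l * (c * z.im) = c ^ l * r := by linear_combination h1
  exact Dvd.intro _ (mul_left_cancel₀ (pow_ne_zero l hc) h2)

/-- `R[ω]/(ω^N)` with `ω^2 = c`. -/
abbrev BN (c : R) (N : ℕ) : Type u :=
  QuadraticAlgebra R c 0 ⧸ Ideal.span {(ω : QuadraticAlgebra R c 0) ^ N}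

/-- the class of `ω`. -/
noncomputable def Yb (c : R) (N : ℕ) : BN c N := Ideal.Quotient.mk _ ω

theorem BN_alg (c : R) (N : ℕ) (r : R) :
    algebraMap R (BN c N) r = Ideal.Quotient.mk _ (algebraMap R (QuadraticAlgebra R c 0) r) :=
  rfl

theorem Yb_pow_N (c : R) (N : ℕ) : Yb c N ^ N = 0 := by
  rw [Yb, ← map_pow]
  exact Ideal.Quotient.eq_zero_iff_mem.mpr (Ideal.mem_span_singleton_self _)

theorem Yb_sq (c : R) (N : ℕ) : Yb c N ^ 2 = algebraMap R (BN c N) c := by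
  rw [Yb, ← map_pow, pow_two, omega_mul_omega_eq_mk]
  rfl

theorem BN_pi (ϖ a₆ : R) (u₆ : Rˣ) (ha₆ : a₆ = u₆ * ϖ) (N v : ℕ) :
    algebraMap R (BN a₆ N) (ϖ ^ v) =
      algebraMap R (BN a₆ N) ((↑u₆⁻¹ : R) ^ v) * Yb a₆ N ^ (2 * v) := by
  have e : (ϖ ^ v : R) = (↑u₆⁻¹ : R) ^ v * a₆ ^ v := by
    rw [ha₆, ← mul_pow, ← mul_assoc, Units.inv_mul, one_mul]
  rw [e, map_mul, Yb, ← map_pow (Ideal.Quotient.mk _) ω, omega_pow_even]
  rfl

theorem Yb_mem (c : R) (N : ℕ) (r : R) (j : ℕ)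
    (h : algebraMap R (BN c N) r * Yb c N ^ j = 0) :
    algebraMap R (QuadraticAlgebra R c 0) r * ω ^ j ∈
      Ideal.span {(ω : QuadraticAlgebra R c 0) ^ N} := by
  rw [← Ideal.Quotient.eq_zero_iff_mem, map_mul, map_pow]
  exact h

end Quad

section Detect
variable {R : Type u} [CommRing R] [IsDomain R]

theorem detect_a (ϖ a₁ a₆ : R) (v : ℕ) (u₁ u₆ : Rˣ) (w : R)
    (ha₁ : a₁ = u₁ * ϖ ^ v) (ha₆ : a₆ = u₆ * ϖ) (h2 : (2 : R) = ϖ ^ v * w) (ha₆0 : a₆ ≠ 0)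
    (x y : MvPowerSeries (Fin 2) R) (hx : x = MvPowerSeries.X 0) (hy : y = MvPowerSeries.X 1)
    (I M : Ideal (MvPowerSeries (Fin 2) R))
    (hI : I = Ideal.span {y ^ 2 + a₁ • (x * y) - x ^ 3 - algebraMap R (MvPowerSeries (Fin 2) R) a₆,
      2 * y + a₁ • x, 3 * x ^ 2 - a₁ • y})
    (hM : M = Ideal.span {algebraMap R (MvPowerSeries (Fin 2) R) ϖ, x, y})
    (a b : R)
    (hab : a • y ^ (2 * v) + b • (x * y ^ (2 * v - 1)) ∈ M ^ (2 * v + 1) ⊔ I) : a₆ ∣ a := by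
  subst hx hy
  have h5 : Yb a₆ (2 * v + 1) ^ (2 * v + 1) = 0 := Yb_pow_N a₆ (2 * v + 1)
  obtain ⟨θ, hθx, hθy, hθc⟩ := exists_theta (R := R) (BN a₆ (2 * v + 1)) 0 (Yb a₆ (2 * v + 1))
    IsNilpotent.zero ⟨_, h5⟩
  have h2' : algebraMap R (BN a₆ (2 * v + 1)) (ϖ ^ v) * Yb a₆ (2 * v + 1) = 0 := by
    rw [BN_pi ϖ a₆ u₆ ha₆ (2 * v + 1) v, mul_assoc, ← pow_succ, h5, mul_zero]
  have hker := theta_kills θ 0 (Yb a₆ (2 * v + 1)) (MvPowerSeries.X 0) (MvPowerSeries.X 1)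
    hθx hθy hθc ϖ a₁ a₆ v u₁ u₆ w ha₁ ha₆ h2 (Yb_sq a₆ _) h2' (by rw [mul_zero])
    (by rw [zero_pow two_ne_zero]) h5 (by rw [zero_mul]) I M hI hM
  have h0 := (RingHom.mem_ker).mp (hker hab)
  rw [map_add, Algebra.smul_def, Algebra.smul_def, map_mul, map_mul, map_mul, map_pow, map_pow,
    hθc, hθc, hθx, hθy, zero_mul, mul_zero, add_zero] at h0
  exact detect_even a₆ ha₆0 a v (2 * v) (2 * v + 1) rfl rfl (Yb_mem a₆ _ a _ h0)

theorem detect_b (ϖ a₁ a₆ : R) (v : ℕ) (hv : 1 ≤ v) (u₁ u₆ : Rˣ) (w : R)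
    (ha₁ : a₁ = u₁ * ϖ ^ v) (ha₆ : a₆ = u₆ * ϖ) (h2 : (2 : R) = ϖ ^ v * w) (ha₆0 : a₆ ≠ 0)
    (x y : MvPowerSeries (Fin 2) R) (hx : x = MvPowerSeries.X 0) (hy : y = MvPowerSeries.X 1)
    (I M : Ideal (MvPowerSeries (Fin 2) R))
    (hI : I = Ideal.span {y ^ 2 + a₁ • (x * y) - x ^ 3 - algebraMap R (MvPowerSeries (Fin 2) R) a₆,
      2 * y + a₁ • x, 3 * x ^ 2 - a₁ • y})
    (hM : M = Ideal.span {algebraMap R (MvPowerSeries (Fin 2) R) ϖ, x, y})
    (a b : R)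
    (hab : a • y ^ (2 * v) + b • (x * y ^ (2 * v - 1)) ∈ M ^ (2 * v + 1) ⊔ I) : a₆ ∣ b := by
  subst hx hy
  have hN : Yb a₆ (2 * v) ^ (2 * v) = 0 := Yb_pow_N a₆ (2 * v)
  obtain ⟨X', hX'⟩ : ∃ X' : QuadraticAlgebra (BN a₆ (2 * v)) 0 0, X' = ω := ⟨_, rfl⟩
  obtain ⟨Y', hY'⟩ : ∃ Y' : QuadraticAlgebra (BN a₆ (2 * v)) 0 0,
      Y' = algebraMap (BN a₆ (2 * v)) _ (Yb a₆ (2 * v)) := ⟨_, rfl⟩
  have halg : ∀ r : R, algebraMap R (QuadraticAlgebra (BN a₆ (2 * v)) 0 0) r =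
      algebraMap (BN a₆ (2 * v)) _ (algebraMap R (BN a₆ (2 * v)) r) := fun r => rfl
  have h1 : Y' ^ 2 = algebraMap R _ a₆ := by
    rw [hY', ← map_pow, Yb_sq, halg]
  have hϖv : algebraMap R (QuadraticAlgebra (BN a₆ (2 * v)) 0 0) (ϖ ^ v) = 0 := by
    rw [halg, BN_pi ϖ a₆ u₆ ha₆ (2 * v) v, hN, mul_zero, map_zero]
  have h4 : X' ^ 2 = 0 := by
    rw [hX', pow_two, omega_mul_omega_eq_mk]; rfl
  have h5 : Y' ^ (2 * v + 1) = 0 := by
    rw [hY', ← map_pow, pow_succ, hN, zero_mul, map_zero]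
  have hY2v : Y' ^ (2 * v) = 0 := by
    rw [hY', ← map_pow, hN, map_zero]
  have h6 : X' * Y' ^ (2 * v) = 0 := by rw [hY2v, mul_zero]
  obtain ⟨θ, hθx, hθy, hθc⟩ := exists_theta (R := R) (QuadraticAlgebra (BN a₆ (2 * v)) 0 0)
    X' Y' ⟨2, h4⟩ ⟨_, h5⟩
  have hker := theta_kills θ X' Y' (MvPowerSeries.X 0) (MvPowerSeries.X 1)
    hθx hθy hθc ϖ a₁ a₆ v u₁ u₆ w ha₁ ha₆ h2 h1 (by rw [hϖv, zero_mul]) (by rw [hϖv, zero_mul])
    h4 h5 h6 I M hI hM
  have h0 := (RingHom.mem_ker).mp (hker hab)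
  rw [map_add, Algebra.smul_def, Algebra.smul_def, map_mul, map_mul, map_mul, map_pow, map_pow,
    hθc, hθc, hθx, hθy, hY2v, mul_zero, zero_add, halg, hX', hY', ← map_pow] at h0
  have h0' := congrArg QuadraticAlgebra.im h0
  simp only [QuadraticAlgebra.re_mul, QuadraticAlgebra.im_mul, QuadraticAlgebra.algebraMap_re,
    QuadraticAlgebra.algebraMap_im, QuadraticAlgebra.omega_re, QuadraticAlgebra.omega_im,
    QuadraticAlgebra.im_zero] at h0'
  have h0'' : algebraMap R (BN a₆ (2 * v)) b * Yb a₆ (2 * v) ^ (2 * v - 1) = 0 := by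
    linear_combination h0'
  exact detect_odd a₆ ha₆0 b (v - 1) (2 * v - 1) (2 * v) (by omega) (by omega)
    (Yb_mem a₆ _ b _ h0'')

end Detect

end Groth.Agent.Helper22.WeierCot
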