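import Mathlib

/-!
# Regularity of a Weierstrass model at the origin of the special fibre (a₆ a uniformizer)
-/

set_option autoImplicit false
universe u

namespace Groth.Agent.Helper22.WeierReg

open Polynomial IsLocalRing WeierstrassCurve.Affine

variable {R : Type u} [CommRing R] [IsDomain R] [IsDiscreteValuationRing R]
  (W : WeierstrassCurve.Affine R)

theorem algMap_eq (p : R[X]) :
    algebraMap R[X] W.CoordinateRing p = CoordinateRing.mk W (C p) := by
  rw [Algebra.algebraMap_eq_smul_one, CoordinateRing.smul, mul_one]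

theorem algMapR_eq (r : R) :
    algebraMap R W.CoordinateRing r = CoordinateRing.mk W (C (C r)) := by
  rw [IsScalarTower.algebraMap_apply R R[X] W.CoordinateRing r, algMap_eq]; rfl

section
variable (P : Ideal W.CoordinateRing)
  (hP : ∀ r ∈ maximalIdeal R, algebraMap R W.CoordinateRing r ∈ P)
include hP

theorem hmapC : (maximalIdeal R).map (C : R →+* R[X])
    ≤ P.comap (algebraMap R[X] W.CoordinateRing) := by
  rw [Ideal.map_le_iff_le_comap]
  intro r hr
  rw [Ideal.mem_comap, Ideal.mem_comap, algMap_eq, ← algMapR_eq]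
  exact hP r hr

theorem hcoeff (p : R[X]) (hp : p.map (residue R) = 0) :
    algebraMap R[X] W.CoordinateRing p ∈ P := by
  refine hmapC W P hP (Ideal.mem_map_C_iff.2 (fun n => ?_))
  have h := congrArg (fun f => f.coeff n) hp
  simp only [Polynomial.coeff_map, Polynomial.coeff_zero] at h
  exact (residue_eq_zero_iff _).1 h

theorem ker_le : RingHom.ker (CoordinateRing.map W (residue R)) ≤ P := by
  intro c hc
  rw [RingHom.mem_ker] at hc
  obtain ⟨p, q, rfl⟩ := CoordinateRing.exists_smul_basis_eq c
  simp_rw [map_add, CoordinateRing.map_smul, map_one, CoordinateRing.map_mk, Polynomial.map_X]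
    at hc
  obtain ⟨hp, hq⟩ := CoordinateRing.smul_basis_eq_zero hc
  refine P.add_mem ?_ ?_
  · rw [← Algebra.algebraMap_eq_smul_one]; exact hcoeff W P hP p hp
  · rw [Algebra.smul_def]; exact P.mul_mem_right _ (hcoeff W P hP q hq)

end

theorem ker_ne_bot : RingHom.ker (CoordinateRing.map W (residue R)) ≠ ⊥ := by
  obtain ⟨r, hr, hr0⟩ :=
    Submodule.exists_mem_ne_zero_of_ne_bot (IsDiscreteValuationRing.not_a_field R)
  intro hbot
  have hmem : algebraMap R W.CoordinateRing r
      ∈ RingHom.ker (CoordinateRing.map W (residue R)) := by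
    have h0 : (algebraMap R R[X] r).map (residue R) = 0 := by
      show (C r).map (residue R) = 0
      rw [Polynomial.map_C, (residue_eq_zero_iff r).2 hr, map_zero]
    rw [RingHom.mem_ker, IsScalarTower.algebraMap_apply R R[X] W.CoordinateRing r,
      Algebra.algebraMap_eq_smul_one, CoordinateRing.map_smul, map_one, h0, zero_smul]
  rw [hbot, Ideal.mem_bot] at hmem
  exact hr0 (FaithfulSMul.algebraMap_injective R W.CoordinateRing (by rw [hmem, map_zero]))

theorem x_not_mem_ker :
    CoordinateRing.mk W (C X) ∉ RingHom.ker (CoordinateRing.map W (residue R)) := by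
  intro hmem
  rw [RingHom.mem_ker, CoordinateRing.map_mk, Polynomial.map_C, Polynomial.coe_mapRingHom,
    Polynomial.map_X] at hmem
  exact Polynomial.X_ne_zero (CoordinateRing.smul_basis_eq_zero (W' := W.map (residue R))
    (p := X) (q := 0) (by rw [CoordinateRing.smul, mul_one, zero_smul, add_zero]; exact hmem)).1

theorem a6_mem : CoordinateRing.mk W (C (C W.a₆))
    ∈ Ideal.span {CoordinateRing.mk W (C X), CoordinateRing.mk W X} := by
  have hpoly : (C (C W.a₆) : Polynomial (Polynomial R))
      = X * (X + C (C W.a₁ * X + C W.a₃)) - C X * C (X ^ 2 + C W.a₂ * X + C W.a₄)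
        - W.polynomial := by
    rw [WeierstrassCurve.Affine.polynomial]
    simp only [map_add, map_mul, map_pow]
    ring
  rw [hpoly, map_sub, map_sub, AdjoinRoot.mk_self, sub_zero, map_mul, map_mul]
  refine Ideal.sub_mem _ ?_ ?_
  · exact Ideal.mul_mem_right _ _ (Ideal.subset_span (Set.mem_insert_of_mem _ rfl))
  · exact Ideal.mul_mem_right _ _ (Ideal.subset_span (Set.mem_insert _ _))

theorem P_eq (h6 : W.a₆ ∈ maximalIdeal R) (h6' : W.a₆ ∉ maximalIdeal R ^ 2)
    (P : Ideal W.CoordinateRing) [P.IsMaximal]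
    (hx : CoordinateRing.mk W (C X) ∈ P) (hy : CoordinateRing.mk W X ∈ P) :
    P = Ideal.span {CoordinateRing.mk W (C X), CoordinateRing.mk W X} := by
  obtain ⟨ϖ, hϖ⟩ := IsDiscreteValuationRing.exists_irreducible R
  have hm : maximalIdeal R = Ideal.span {ϖ} :=
    (IsDiscreteValuationRing.irreducible_iff_uniformizer ϖ).1 hϖ
  have hϖm : ϖ ∈ maximalIdeal R := by rw [hm]; exact Ideal.subset_span rfl
  obtain ⟨b, hb⟩ : ∃ b, W.a₆ = ϖ * b := by
    have h := h6
    rw [hm, Ideal.mem_span_singleton'] at h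
    obtain ⟨b, hb⟩ := h
    exact ⟨b, by rw [← hb, mul_comm]⟩
  have hbu : IsUnit b := by
    by_contra hnu
    have hbm : b ∈ maximalIdeal R := (mem_maximalIdeal b).2 hnu
    apply h6'
    rw [hb, pow_two]
    exact Ideal.mul_mem_mul hϖm hbm
  have hdiv : ∀ a ∈ maximalIdeal R, ∃ d, a = W.a₆ * d := by
    intro a ha
    rw [hm, Ideal.mem_span_singleton'] at ha
    obtain ⟨d, hd⟩ := ha
    obtain ⟨u, hu⟩ := hbu
    refine ⟨↑u⁻¹ * d, ?_⟩
    rw [hb, ← hu, ← hd]
    have h1 : (u : R) * ↑u⁻¹ = 1 := Units.mul_inv u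
    linear_combination (-(ϖ * d)) * h1
  have hI₀P : Ideal.span {CoordinateRing.mk W (C X), CoordinateRing.mk W X} ≤ P := by
    rw [Ideal.span_le]
    intro z hz
    rcases hz with rfl | rfl
    exacts [hx, hy]
  apply le_antisymm _ hI₀P
  intro c hc
  obtain ⟨p, q, rfl⟩ := CoordinateRing.exists_smul_basis_eq c
  rw [CoordinateRing.smul, CoordinateRing.smul, mul_one] at hc ⊢
  have hp := Polynomial.X_mul_divX_add p
  have e1 : CoordinateRing.mk W (C p) = CoordinateRing.mk W (C X) * CoordinateRing.mk W (C p.divX)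
      + CoordinateRing.mk W (C (C (p.coeff 0))) := by
    conv_lhs => rw [← hp]
    simp only [map_add, map_mul]
  have ha_mem : CoordinateRing.mk W (C (C (p.coeff 0))) ∈ P := by
    have h1 : CoordinateRing.mk W (C X) * CoordinateRing.mk W (C p.divX) ∈ P :=
      P.mul_mem_right _ hx
    have h2 : CoordinateRing.mk W (C q) * CoordinateRing.mk W X ∈ P := P.mul_mem_left _ hy
    rw [e1] at hc
    have h3 := P.sub_mem (P.sub_mem hc h2) h1
    convert h3 using 1
    ring
  have ham : p.coeff 0 ∈ maximalIdeal R := by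
    by_contra hnm
    have hu : IsUnit (p.coeff 0) := notMem_maximalIdeal.1 hnm
    have hu' : IsUnit (CoordinateRing.mk W (C (C (p.coeff 0)))) :=
      ((hu.map C).map C).map (CoordinateRing.mk W)
    exact (Ideal.IsMaximal.ne_top ‹P.IsMaximal›) (Ideal.eq_top_of_isUnit_mem _ ha_mem hu')
  obtain ⟨d, hd⟩ := hdiv _ ham
  rw [e1]
  refine Ideal.add_mem _ (Ideal.add_mem _ ?_ ?_) ?_
  · exact Ideal.mul_mem_right _ _ (Ideal.subset_span (Set.mem_insert _ _))
  · rw [hd]
    simp only [map_mul]
    exact Ideal.mul_mem_right _ _ (a6_mem W)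
  · exact Ideal.mul_mem_left _ _ (Ideal.subset_span (Set.mem_insert_of_mem _ rfl))

theorem main (h6 : W.a₆ ∈ maximalIdeal R) (h6' : W.a₆ ∉ maximalIdeal R ^ 2)
    (P : Ideal W.CoordinateRing) [P.IsMaximal]
    (hP : ∀ r ∈ maximalIdeal R, algebraMap R W.CoordinateRing r ∈ P)
    (hx : CoordinateRing.mk W (C X) ∈ P) (hy : CoordinateRing.mk W X ∈ P) :
    IsRegularLocalRing (Localization.AtPrime P) := by
  have hPeq := P_eq W h6 h6' P hx hy
  apply IsRegularLocalRing.of_spanFinrank_maximalIdeal_le
  haveI hQprime : (RingHom.ker (CoordinateRing.map W (residue R))).IsPrime :=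
    RingHom.ker_isPrime _
  have hQP := ker_le W P hP
  have hlt1 : (⊥ : Ideal W.CoordinateRing) < RingHom.ker (CoordinateRing.map W (residue R)) :=
    bot_lt_iff_ne_bot.2 (ker_ne_bot W)
  have hlt2 : RingHom.ker (CoordinateRing.map W (residue R)) < P :=
    lt_of_le_of_ne hQP (fun h => x_not_mem_ker W (h ▸ hx))
  have hh1 := Ideal.height_add_one_le_of_lt_of_isPrime hlt1
  have hh2 := Ideal.height_add_one_le_of_lt_of_isPrime hlt2
  have hQ1 : (1 : ℕ∞) ≤ (RingHom.ker (CoordinateRing.map W (residue R))).height :=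
    le_trans le_add_self hh1
  have h2 : (2 : ℕ∞) ≤ P.height := by
    rw [← one_add_one_eq_two]
    exact le_trans (add_le_add hQ1 le_rfl) hh2
  have hdim := IsLocalization.AtPrime.ringKrullDim_eq_height P (Localization.AtPrime P)
  have hmax : maximalIdeal (Localization.AtPrime P)
      = Ideal.span ((algebraMap W.CoordinateRing (Localization.AtPrime P)) ''
        {CoordinateRing.mk W (C X), CoordinateRing.mk W X}) :=
    calc maximalIdeal (Localization.AtPrime P)
        = Ideal.map (algebraMap W.CoordinateRing (Localization.AtPrime P)) P :=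
          (IsLocalization.AtPrime.map_eq_maximalIdeal P (Localization.AtPrime P)).symm
      _ = Ideal.map (algebraMap W.CoordinateRing (Localization.AtPrime P))
            (Ideal.span {CoordinateRing.mk W (C X), CoordinateRing.mk W X}) :=
          congrArg _ hPeq
      _ = _ := Ideal.map_span _ _
  have hfin : ({CoordinateRing.mk W (C X), CoordinateRing.mk W X} :
      Set W.CoordinateRing).Finite := Set.toFinite _
  have hsr : (maximalIdeal (Localization.AtPrime P)).spanFinrank ≤ 2 := by
    rw [hmax]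
    refine le_trans (Submodule.spanFinrank_span_le_ncard_of_finite (hfin.image _)) ?_
    refine le_trans (Set.ncard_image_le hfin) ?_
    refine le_trans (Set.ncard_insert_le _ _) ?_
    rw [Set.ncard_singleton]
  rw [hdim]
  have h2' : ((2 : ℕ∞) : WithBot ℕ∞) ≤ (P.height : WithBot ℕ∞) := WithBot.coe_le_coe.2 h2
  refine le_trans ?_ h2'
  exact_mod_cast hsr

end Groth.Agent.Helper22.WeierReg
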