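import Mathlib
set_option autoImplicit false
universe u
open MvPolynomial

namespace Groth.Agent.Helper22.WeilKer

/-- ℤ[F,V] -/
abbrev R2 := MvPolynomial (Fin 2) ℤ

/-- Reduction: modulo `X i * X j - q`, after multiplying by a power of `X i`,
every polynomial becomes a polynomial in `X i` alone. -/
lemma red (q : ℤ) (i j : Fin 2) (hij : i ≠ j) (g : R2) :
    ∃ (N : ℕ) (G : Polynomial ℤ),
      X i ^ N * g - Polynomial.aeval (X i : R2) G ∈
        Ideal.span ({X i * X j - C q} : Set R2) := by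
  obtain ⟨I, hI⟩ : ∃ I : Ideal R2, I = Ideal.span ({X i * X j - C q} : Set R2) := ⟨_, rfl⟩
  rw [← hI]
  have hfv : Ideal.Quotient.mk I (X i) * Ideal.Quotient.mk I (X j) =
      Ideal.Quotient.mk I (C q) := by
    rw [← map_mul, Ideal.Quotient.mk_eq_mk_iff_sub_mem, hI]
    exact Ideal.subset_span (Set.mem_singleton _)
  suffices hs : ∃ (N : ℕ) (G : Polynomial ℤ),
      Ideal.Quotient.mk I (X i) ^ N * Ideal.Quotient.mk I g =
        Ideal.Quotient.mk I (Polynomial.aeval (X i : R2) G) by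
    obtain ⟨N, G, hNG⟩ := hs
    refine ⟨N, G, ?_⟩
    rw [← Ideal.Quotient.mk_eq_mk_iff_sub_mem, map_mul, map_pow]
    exact hNG
  induction g using MvPolynomial.induction_on with
  | C a =>
    refine ⟨0, Polynomial.C a, ?_⟩
    rw [pow_zero, one_mul, Polynomial.aeval_C, MvPolynomial.algebraMap_eq]
  | add p r hp hr =>
    obtain ⟨N₁, G₁, h₁⟩ := hp
    obtain ⟨N₂, G₂, h₂⟩ := hr
    refine ⟨N₁ + N₂, Polynomial.X ^ N₂ * G₁ + Polynomial.X ^ N₁ * G₂, ?_⟩
    simp only [map_add, map_mul, map_pow, Polynomial.aeval_X]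
    rw [← h₁, ← h₂]
    ring
  | mul_X p n hp =>
    obtain ⟨N, G, hG⟩ := hp
    by_cases hn : n = i
    · subst hn
      refine ⟨N, G * Polynomial.X, ?_⟩
      simp only [map_mul, Polynomial.aeval_X]
      rw [← hG]
      ring
    · have hnj : n = j := by
        have h1 := n.isLt
        have h2 := i.isLt
        have h3 := j.isLt
        have h4 : n.val ≠ i.val := fun h => hn (Fin.ext h)
        have h5 : i.val ≠ j.val := fun h => hij (Fin.ext h)
        exact Fin.ext (by omega)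
      subst hnj
      refine ⟨N + 1, Polynomial.C q * G, ?_⟩
      simp only [map_mul, Polynomial.aeval_C, MvPolynomial.algebraMap_eq]
      rw [← hG, ← hfv, pow_succ]
      ring

/-- Evaluate `F ↦ 0`, `V ↦ X`. -/
noncomputable def ev0 : R2 →ₐ[ℤ] Polynomial ℤ := MvPolynomial.aeval ![0, Polynomial.X]

lemma ev0_X0 : ev0 (X 0) = 0 := by simp [ev0]
lemma ev0_X1 : ev0 (X 1) = Polynomial.X := by simp [ev0]
lemma ev0_C (a : ℤ) : ev0 (C a) = Polynomial.C a := by
  first
    | (rw [ev0, aeval_C]; rfl)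
    | simp [ev0]

lemma ev0_aeval1 (G : Polynomial ℤ) : ev0 (Polynomial.aeval (X 1 : R2) G) = G := by
  rw [← Polynomial.aeval_algHom_apply, ev0_X1, Polynomial.aeval_X_left_apply]

lemma decomp (g : R2) : ∃ g₁ : R2, g = Polynomial.aeval (X 1 : R2) (ev0 g) + X 0 * g₁ := by
  induction g using MvPolynomial.induction_on with
  | C a =>
    exact ⟨0, by rw [ev0_C, Polynomial.aeval_C, MvPolynomial.algebraMap_eq, mul_zero, add_zero]⟩
  | add p r hp hr =>
    obtain ⟨p₁, hp₁⟩ := hp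
    obtain ⟨r₁, hr₁⟩ := hr
    refine ⟨p₁ + r₁, ?_⟩
    rw [map_add, map_add]
    linear_combination hp₁ + hr₁
  | mul_X p n hp =>
    obtain ⟨p₁, hp₁⟩ := hp
    have hn01 : n = 0 ∨ n = 1 := by fin_cases n <;> simp
    rcases hn01 with rfl | rfl
    · refine ⟨p, ?_⟩
      rw [map_mul, ev0_X0, mul_zero, map_zero, zero_add, mul_comm]
    · refine ⟨p₁ * X 1, ?_⟩
      rw [map_mul, ev0_X1, map_mul, Polynomial.aeval_X]
      linear_combination (X 1 : R2) * hp₁

lemma g0_ne_zero (q : ℤ) (hq : q ≠ 0) : (X 0 * X 1 - C q : R2) ≠ 0 := by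
  intro h0
  have h1 := congrArg ev0 h0
  simp only [map_mul, map_sub, ev0_X0, ev0_X1, ev0_C, zero_mul, zero_sub, map_zero,
    neg_eq_zero] at h1
  exact hq (Polynomial.C_eq_zero.mp h1)

lemma cancel_X0 (q : ℤ) (hq : q ≠ 0) (a : R2)
    (ha : X 0 * a ∈ Ideal.span ({X 0 * X 1 - C q} : Set R2)) :
    a ∈ Ideal.span ({X 0 * X 1 - C q} : Set R2) := by
  rw [Ideal.mem_span_singleton'] at ha ⊢
  obtain ⟨b, hb⟩ := ha
  have h1 : ev0 b * (-(Polynomial.C q)) = 0 := by
    have h := congrArg ev0 hb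
    simp only [map_mul, map_sub, ev0_X0, ev0_X1, ev0_C, zero_mul, zero_sub] at h
    exact h
  have h2 : ev0 b = 0 := by
    rcases mul_eq_zero.mp h1 with h | h
    · exact h
    · exfalso
      rw [neg_eq_zero] at h
      exact hq (Polynomial.C_eq_zero.mp h)
  obtain ⟨b₁, hb₁⟩ := decomp b
  rw [h2, map_zero, zero_add] at hb₁
  refine ⟨b₁, ?_⟩
  apply mul_left_cancel₀ (MvPolynomial.X_ne_zero (R := ℤ) (0 : Fin 2))
  rw [← hb, hb₁]
  ring

lemma cancel_X0_pow (q : ℤ) (hq : q ≠ 0) (N : ℕ) (a : R2)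
    (ha : X 0 ^ N * a ∈ Ideal.span ({X 0 * X 1 - C q} : Set R2)) :
    a ∈ Ideal.span ({X 0 * X 1 - C q} : Set R2) := by
  induction N with
  | zero => simpa using ha
  | succ n ih =>
    apply ih
    apply cancel_X0 q hq
    rw [← mul_assoc, ← pow_succ']
    exact ha

section psi
variable {L : Type*} [Field L] [Algebra ℤ L]

/-- The evaluation `F ↦ a`, `V ↦ b`. -/
noncomputable def psi (a b : L) : R2 →ₐ[ℤ] L := MvPolynomial.aeval ![a, b]

lemma psi_X0 (a b : L) : psi a b (X 0) = a := by simp [psi]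
lemma psi_X1 (a b : L) : psi a b (X 1) = b := by simp [psi]
lemma psi_C (a b : L) (q : ℤ) : psi a b (C q) = (q : L) := by simp [psi]

lemma psi_g0 (a b : L) (q : ℤ) (hab : a * b = (q : L)) :
    psi a b (X 0 * X 1 - C q) = 0 := by
  rw [map_sub, map_mul, psi_X0, psi_X1, psi_C, hab, sub_self]

lemma psi_mem (a b : L) (q : ℤ) (hab : a * b = (q : L)) (g : R2)
    (hg : g ∈ Ideal.span ({X 0 * X 1 - C q} : Set R2)) : psi a b g = 0 := by
  rw [Ideal.mem_span_singleton'] at hg
  obtain ⟨s, rfl⟩ := hg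
  rw [map_mul, psi_g0 a b q hab, mul_zero]

lemma psi_aeval0 (a b : L) (G : Polynomial ℤ) :
    psi a b (Polynomial.aeval (X 0 : R2) G) = Polynomial.aeval a G := by
  rw [← Polynomial.aeval_algHom_apply, psi_X0]

lemma psi_aeval1 (a b : L) (G : Polynomial ℤ) :
    psi a b (Polynomial.aeval (X 1 : R2) G) = Polynomial.aeval b G := by
  rw [← Polynomial.aeval_algHom_apply, psi_X1]

end psi

/-- the fraction field of `ℤ[x]` -/
abbrev L0 := FractionRing (Polynomial ℤ)

/-- the variable `x` in `L0` -/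
noncomputable def x0 : L0 := algebraMap (Polynomial ℤ) L0 Polynomial.X

lemma x0_ne : x0 ≠ 0 := by
  rw [x0, Ne, map_eq_zero_iff _ (IsFractionRing.injective (Polynomial ℤ) L0)]
  exact Polynomial.X_ne_zero

lemma aeval_x0 (G : Polynomial ℤ) :
    Polynomial.aeval x0 G = algebraMap (Polynomial ℤ) L0 G := by
  rw [x0, Polynomial.aeval_algebraMap_apply, Polynomial.aeval_X_left_apply]

lemma aeval_x0_eq_zero (G : Polynomial ℤ) (h : Polynomial.aeval x0 G = 0) : G = 0 := by
  rw [aeval_x0] at h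
  exact (map_eq_zero_iff _ (IsFractionRing.injective (Polynomial ℤ) L0)).mp h

lemma x0_mul (q : ℤ) : x0 * ((q : L0) / x0) = (q : L0) := by
  have hx := x0_ne
  field_simp

lemma mul_x0 (q : ℤ) : ((q : L0) / x0) * x0 = (q : L0) := by
  have hx := x0_ne
  field_simp

lemma mem_of_psi_eq_zero (q : ℤ) (hq : q ≠ 0) (g : R2)
    (hg : psi x0 ((q : L0) / x0) g = 0) :
    g ∈ Ideal.span ({X 0 * X 1 - C q} : Set R2) := by
  obtain ⟨N, G, hNG⟩ := red q 0 1 (by decide) g
  have h1 := psi_mem x0 _ q (x0_mul q) _ hNG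
  rw [map_sub, map_mul, hg, mul_zero, zero_sub, neg_eq_zero, psi_aeval0] at h1
  have hG : G = 0 := aeval_x0_eq_zero G h1
  rw [hG, map_zero, sub_zero] at hNG
  exact cancel_X0_pow q hq N g hNG

lemma mem_or_mem (q : ℤ) (hq : q ≠ 0) (a b : R2)
    (hab : a * b ∈ Ideal.span ({X 0 * X 1 - C q} : Set R2)) :
    a ∈ Ideal.span ({X 0 * X 1 - C q} : Set R2) ∨
      b ∈ Ideal.span ({X 0 * X 1 - C q} : Set R2) := by
  have h1 := psi_mem x0 _ q (x0_mul q) _ hab
  rw [map_mul, mul_eq_zero] at h1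
  exact h1.imp (mem_of_psi_eq_zero q hq a) (mem_of_psi_eq_zero q hq b)

lemma aeval0_mem (q : ℤ) (G : Polynomial ℤ)
    (h : Polynomial.aeval (X 0 : R2) G ∈ Ideal.span ({X 0 * X 1 - C q} : Set R2)) : G = 0 := by
  have h1 := psi_mem x0 _ q (x0_mul q) _ h
  rw [psi_aeval0] at h1
  exact aeval_x0_eq_zero G h1

lemma aeval1_mem (q : ℤ) (G : Polynomial ℤ)
    (h : Polynomial.aeval (X 1 : R2) G ∈ Ideal.span ({X 0 * X 1 - C q} : Set R2)) : G = 0 := by
  have h1 := psi_mem ((q : L0) / x0) x0 q (mul_x0 q) _ h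
  rw [psi_aeval1] at h1
  exact aeval_x0_eq_zero G h1

/-- nonzerodivisor modulo `q` from a monic congruence -/
lemma dvd_of_monic_mod (q : ℤ) (Hm h' t w : Polynomial ℤ) (M : ℕ) (hHm : Hm.Monic) (u : ℤ)
    (hrel : Polynomial.C u * (Polynomial.X ^ M * h') = Hm + Polynomial.C q * w)
    (hdvd : Polynomial.C q ∣ h' * t) : Polynomial.C q ∣ t := by
  obtain ⟨ρ, hρ⟩ : ∃ ρ : ℤ →+* (ℤ ⧸ Ideal.span ({q} : Set ℤ)), ρ = Ideal.Quotient.mk _ :=
    ⟨_, rfl⟩
  have hρq : ρ q = 0 := by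
    rw [hρ]
    exact Ideal.Quotient.eq_zero_iff_mem.mpr (Ideal.mem_span_singleton_self q)
  have hmapq : ∀ f : Polynomial ℤ, (Polynomial.C q * f).map ρ = 0 := by
    intro f
    rw [Polynomial.map_mul, Polynomial.map_C, hρq, map_zero, zero_mul]
  have h1 : (h' * t).map ρ = 0 := by
    obtain ⟨s, hs⟩ := hdvd
    rw [hs]
    exact hmapq s
  have h2 : Hm.map ρ = (Polynomial.C u * (Polynomial.X ^ M * h')).map ρ := by
    rw [hrel, Polynomial.map_add, hmapq, add_zero]
  have h3 : Hm.map ρ * t.map ρ = 0 := by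
    rw [h2, ← Polynomial.map_mul]
    have e : Polynomial.C u * (Polynomial.X ^ M * h') * t =
        Polynomial.C u * Polynomial.X ^ M * (h' * t) := by ring
    rw [e, Polynomial.map_mul, h1, mul_zero]
  have h4 : t.map ρ = 0 := (hHm.map ρ).mul_right_eq_zero_iff.mp h3
  rw [Polynomial.C_dvd_iff_dvd_coeff]
  intro n
  have h5 : ρ (t.coeff n) = 0 := by
    rw [← Polynomial.coeff_map, h4, Polynomial.coeff_zero]
  rw [hρ, Ideal.Quotient.eq_zero_iff_mem, Ideal.mem_span_singleton] at h5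
  exact h5

/-- The leading-coefficient data extracted from `F^D h ≡ P(F)`. -/
lemma lead_data (q : ℤ) (hq : q ≠ 0) (D : ℕ) (P : Polynomial ℤ) (hPdeg : P.natDegree ≤ 2 * D)
    (u : ℤ) (hu : u * u = 1) (hPu : P.coeff 0 = u * q ^ D) (h : R2)
    (hh : X 0 ^ D * h - Polynomial.aeval (X 0 : R2) P ∈
      Ideal.span ({X 0 * X 1 - C q} : Set R2)) :
    ∃ (M : ℕ) (H w : Polynomial ℤ), (Polynomial.C u * H).Monic ∧
      Polynomial.X ^ M * ev0 h = H + Polynomial.C q * w := by
  obtain ⟨M, H, hMH⟩ := red q 1 0 (by decide) h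
  have hI' : Ideal.span ({X 1 * X 0 - C q} : Set R2) =
      Ideal.span ({X 0 * X 1 - C q} : Set R2) := by
    rw [mul_comm (X 1 : R2) (X 0)]
  rw [hI'] at hMH
  -- the relation after evaluating at F = 0
  obtain ⟨s, hs⟩ := Ideal.mem_span_singleton'.mp hMH
  have hrel : Polynomial.X ^ M * ev0 h = H + Polynomial.C q * (-(ev0 s)) := by
    have h1 := congrArg ev0 hs
    simp only [map_mul, map_sub, map_pow, ev0_X0, ev0_X1, ev0_C, zero_mul, zero_sub,
      ev0_aeval1] at h1
    linear_combination (-1 : Polynomial ℤ) * h1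
  -- the reversed scaled polynomial
  obtain ⟨Pd, hPd⟩ : ∃ Pd : Polynomial ℤ, Pd = ∑ j ∈ Finset.range (2 * D + 1),
      Polynomial.C (P.coeff j * q ^ j) * Polynomial.X ^ (2 * D - j) := ⟨_, rfl⟩
  have hPd_top : Pd.coeff (2 * D) = P.coeff 0 := by
    rw [hPd, Polynomial.finset_sum_coeff, Finset.sum_eq_single 0]
    · simp
    · intro j hj hj0
      rw [Finset.mem_range] at hj
      rw [Polynomial.coeff_C_mul, Polynomial.coeff_X_pow, if_neg (by omega), mul_zero]
    · intro h0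
      exact absurd (Finset.mem_range.mpr (by omega)) h0
  have hPd_high : ∀ n, 2 * D < n → Pd.coeff n = 0 := by
    intro n hn
    rw [hPd, Polynomial.finset_sum_coeff]
    apply Finset.sum_eq_zero
    intro j _
    rw [Polynomial.coeff_C_mul, Polynomial.coeff_X_pow, if_neg (by omega), mul_zero]
  -- work in the quotient
  obtain ⟨I, hI⟩ : ∃ I : Ideal R2, I = Ideal.span ({X 0 * X 1 - C q} : Set R2) := ⟨_, rfl⟩
  rw [← hI] at hh hMH
  have hfv : Ideal.Quotient.mk I (X 0) * Ideal.Quotient.mk I (X 1) =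
      Ideal.Quotient.mk I (C q) := by
    rw [← map_mul, Ideal.Quotient.mk_eq_mk_iff_sub_mem, hI]
    exact Ideal.subset_span (Set.mem_singleton _)
  have e1 : Ideal.Quotient.mk I (X 0) ^ D * Ideal.Quotient.mk I h =
      Ideal.Quotient.mk I (Polynomial.aeval (X 0 : R2) P) := by
    rw [← map_pow, ← map_mul, Ideal.Quotient.mk_eq_mk_iff_sub_mem]
    exact hh
  have e2 : Ideal.Quotient.mk I (X 1) ^ M * Ideal.Quotient.mk I h =
      Ideal.Quotient.mk I (Polynomial.aeval (X 1 : R2) H) := by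
    rw [← map_pow, ← map_mul, Ideal.Quotient.mk_eq_mk_iff_sub_mem]
    exact hMH
  have e3 : Ideal.Quotient.mk I (Polynomial.aeval (X 0 : R2) P) =
      ∑ j ∈ Finset.range (2 * D + 1),
        Ideal.Quotient.mk I (C (P.coeff j)) * Ideal.Quotient.mk I (X 0) ^ j := by
    rw [Polynomial.aeval_eq_sum_range' (by omega : P.natDegree < 2 * D + 1), map_sum]
    apply Finset.sum_congr rfl
    intro j _
    rw [Algebra.smul_def, MvPolynomial.algebraMap_eq, map_mul, map_pow]
  have e4 : Ideal.Quotient.mk I (Polynomial.aeval (X 1 : R2) Pd) =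
      ∑ j ∈ Finset.range (2 * D + 1),
        Ideal.Quotient.mk I (C (P.coeff j * q ^ j)) * Ideal.Quotient.mk I (X 1) ^ (2 * D - j) := by
    rw [hPd, map_sum, map_sum]
    apply Finset.sum_congr rfl
    intro j _
    rw [map_mul, Polynomial.aeval_C, map_pow, Polynomial.aeval_X, MvPolynomial.algebraMap_eq,
      map_mul, map_pow]
  have e5 : Ideal.Quotient.mk I (X 1) ^ (2 * D) *
      Ideal.Quotient.mk I (Polynomial.aeval (X 0 : R2) P) =
      Ideal.Quotient.mk I (Polynomial.aeval (X 1 : R2) Pd) := by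
    rw [e3, e4, Finset.mul_sum]
    apply Finset.sum_congr rfl
    intro j hj
    rw [Finset.mem_range] at hj
    have e' : Ideal.Quotient.mk I (X 1) ^ (2 * D) =
        Ideal.Quotient.mk I (X 1) ^ (2 * D - j) * Ideal.Quotient.mk I (X 1) ^ j := by
      rw [← pow_add]
      congr 1
      omega
    rw [e', MvPolynomial.C_mul, MvPolynomial.C_pow, map_mul, map_pow, ← hfv, mul_pow]
    ring
  have hkey : Ideal.Quotient.mk I (Polynomial.aeval (X 1 : R2)
        (Polynomial.C (q ^ D) * Polynomial.X ^ D * H)) =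
      Ideal.Quotient.mk I (Polynomial.aeval (X 1 : R2) (Polynomial.X ^ M * Pd)) := by
    have l1 : Polynomial.aeval (X 1 : R2) (Polynomial.C (q ^ D) * Polynomial.X ^ D * H) =
        C q ^ D * X 1 ^ D * Polynomial.aeval (X 1 : R2) H := by
      simp only [map_mul, map_pow, Polynomial.aeval_C, Polynomial.aeval_X,
        MvPolynomial.algebraMap_eq]
    have l2 : Polynomial.aeval (X 1 : R2) (Polynomial.X ^ M * Pd) =
        X 1 ^ M * Polynomial.aeval (X 1 : R2) Pd := by
      rw [map_mul, map_pow, Polynomial.aeval_X]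
    rw [l1, l2]
    simp only [map_mul, map_pow]
    rw [← e2, ← e5, ← e1, ← hfv]
    ring
  have hE : Polynomial.C (q ^ D) * Polynomial.X ^ D * H = Polynomial.X ^ M * Pd := by
    have hmem : Polynomial.aeval (X 1 : R2)
        (Polynomial.C (q ^ D) * Polynomial.X ^ D * H - Polynomial.X ^ M * Pd) ∈ I := by
      rw [map_sub, ← Ideal.Quotient.mk_eq_mk_iff_sub_mem]
      exact hkey
    rw [hI] at hmem
    exact sub_eq_zero.mp (aeval1_mem q _ hmem)
  have hqD : q ^ D ≠ 0 := pow_ne_zero D hq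
  have hcoef : ∀ n, q ^ D * H.coeff n = (Polynomial.X ^ M * Pd).coeff (n + D) := by
    intro n
    rw [← hE, mul_assoc, Polynomial.coeff_C_mul, Polynomial.coeff_X_pow_mul]
  have htop : H.coeff (M + D) = u := by
    have h1 := hcoef (M + D)
    have e : M + D + D = 2 * D + M := by ring
    rw [e, Polynomial.coeff_X_pow_mul, hPd_top, hPu] at h1
    exact mul_left_cancel₀ hqD (by rw [h1]; ring)
  have hhigh : ∀ n, M + D < n → H.coeff n = 0 := by
    intro n hn
    have h1 := hcoef n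
    have e : n + D = (n + D - M) + M := by omega
    rw [e, Polynomial.coeff_X_pow_mul, hPd_high _ (by omega)] at h1
    exact (mul_eq_zero.mp h1).resolve_left hqD
  have hu0 : u ≠ 0 := by
    rintro rfl
    simp at hu
  have hnd : H.natDegree = M + D :=
    Polynomial.natDegree_eq_of_le_of_coeff_ne_zero
      (Polynomial.natDegree_le_iff_coeff_eq_zero.mpr hhigh) (by rw [htop]; exact hu0)
  have hlc : H.leadingCoeff = u := by
    rw [← Polynomial.coeff_natDegree, hnd, htop]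
  have hmon : (Polynomial.C u * H).Monic := by
    rw [Polynomial.Monic.def, Polynomial.leadingCoeff_mul, Polynomial.leadingCoeff_C, hlc]
    exact hu
  exact ⟨M, H, -(ev0 s), hmon, hrel⟩

/-- `F` is a nonzerodivisor modulo `(FV - q, h)`. -/
lemma cancel_X0_J (q : ℤ) (hq : q ≠ 0) (h : R2) (M : ℕ) (H w : Polynomial ℤ) (u : ℤ)
    (hmon : (Polynomial.C u * H).Monic)
    (hrel : Polynomial.X ^ M * ev0 h = H + Polynomial.C q * w)
    (y : R2) (hy : X 0 * y ∈ Ideal.span ({X 0 * X 1 - C q, h} : Set R2)) :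
    y ∈ Ideal.span ({X 0 * X 1 - C q, h} : Set R2) := by
  rw [Ideal.mem_span_pair] at hy ⊢
  obtain ⟨s, t, hst⟩ := hy
  have h1 : ev0 h * ev0 t = Polynomial.C q * ev0 s := by
    have h0 := congrArg ev0 hst
    simp only [map_add, map_mul, map_sub, ev0_X0, ev0_X1, ev0_C, zero_mul, zero_sub] at h0
    linear_combination h0
  have h2 : Polynomial.C q ∣ ev0 t := by
    apply dvd_of_monic_mod q (Polynomial.C u * H) (ev0 h) (ev0 t) (Polynomial.C u * w) M hmon u
    · rw [hrel]; ring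
    · exact ⟨ev0 s, h1⟩
  obtain ⟨t₂, ht₂⟩ := h2
  obtain ⟨t₁, ht₁⟩ := decomp t
  rw [ht₂, map_mul, Polynomial.aeval_C, MvPolynomial.algebraMap_eq] at ht₁
  obtain ⟨T₂, hT₂⟩ : ∃ T₂ : R2, T₂ = Polynomial.aeval (X 1 : R2) t₂ := ⟨_, rfl⟩
  rw [← hT₂] at ht₁
  have h3 : X 0 * (y - (X 1 * T₂ + t₁) * h) ∈ Ideal.span ({X 0 * X 1 - C q} : Set R2) := by
    rw [Ideal.mem_span_singleton']
    refine ⟨s - T₂ * h, ?_⟩
    first
      | linear_combination hst - h * ht₁
      | linear_combination hst + h * ht₁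
  have h4 := cancel_X0 q hq _ h3
  rw [Ideal.mem_span_singleton'] at h4
  obtain ⟨b, hb⟩ := h4
  exact ⟨b, X 1 * T₂ + t₁, by linear_combination hb⟩

lemma prod_dvd_of_primes {ι : Type*} (s : Finset ι) (f : ι → Polynomial ℤ) (n : Polynomial ℤ)
    (hp : ∀ i ∈ s, Prime (f i)) (hdiv : ∀ i ∈ s, f i ∣ n)
    (hne : ∀ i ∈ s, ∀ j ∈ s, i ≠ j → ¬ f i ∣ f j) : ∏ i ∈ s, f i ∣ n := by
  classical
  induction s using Finset.induction_on with
  | empty => simp
  | insert a s ha ih =>
    rw [Finset.prod_insert ha]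
    have h1 : ∏ i ∈ s, f i ∣ n :=
      ih (fun i hi => hp i (Finset.mem_insert_of_mem hi))
        (fun i hi => hdiv i (Finset.mem_insert_of_mem hi))
        (fun i hi j hj => hne i (Finset.mem_insert_of_mem hi) j (Finset.mem_insert_of_mem hj))
    obtain ⟨m, hm⟩ := h1
    have h2 : f a ∣ (∏ i ∈ s, f i) * m := hm ▸ hdiv a (Finset.mem_insert_self a s)
    rcases (hp a (Finset.mem_insert_self a s)).dvd_or_dvd h2 with h3 | h3
    · exfalso
      obtain ⟨j, hj, hdj⟩ :=
        (Prime.dvd_finset_prod_iff (hp a (Finset.mem_insert_self a s)) _).mp h3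
      exact hne a (Finset.mem_insert_self a s) j (Finset.mem_insert_of_mem hj)
        (by rintro rfl; exact ha hj) hdj
    · obtain ⟨m', hm'⟩ := h3
      exact ⟨m', by rw [hm, hm']; ring⟩

lemma norm_prod_of_forall (s : Multiset ℂ) (r : ℝ) (hs : ∀ z ∈ s, ‖z‖ = r) :
    ‖s.prod‖ = r ^ Multiset.card s := by
  induction s using Multiset.induction_on with
  | empty => simp
  | cons a s ih =>
    rw [Multiset.prod_cons, norm_mul, Multiset.card_cons, pow_succ,
      hs a (Multiset.mem_cons_self a s), ih (fun z hz => hs z (Multiset.mem_cons_of_mem hz))]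
    ring

lemma abs_coeff_zero (P : Polynomial ℤ) (hP : P.Monic) (r : ℝ)
    (hroots : ∀ z ∈ P.aroots ℂ, ‖z‖ = r) :
    |((P.coeff 0 : ℤ) : ℝ)| = r ^ P.natDegree := by
  obtain ⟨Pc, hPc⟩ : ∃ Pc : Polynomial ℂ, Pc = P.map (algebraMap ℤ ℂ) := ⟨_, rfl⟩
  have hmon : Pc.Monic := by rw [hPc]; exact hP.map _
  have hdeg : Pc.natDegree = P.natDegree := by rw [hPc]; exact hP.natDegree_map _
  have hsp : Pc.Splits := IsAlgClosed.splits Pc
  have h0 : Pc.coeff 0 = (-1) ^ Pc.natDegree * Pc.roots.prod :=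
    hsp.coeff_zero_eq_prod_roots_of_monic hmon
  have hcard : Multiset.card Pc.roots = Pc.natDegree := hsp.natDegree_eq_card_roots.symm
  have hroots' : ∀ z ∈ Pc.roots, ‖z‖ = r := by
    intro z hz
    rw [hPc] at hz
    exact hroots z hz
  have h1 : ‖Pc.coeff 0‖ = r ^ P.natDegree := by
    rw [h0, norm_mul, norm_pow, norm_neg, norm_one, one_pow, one_mul,
      norm_prod_of_forall _ r hroots', hcard, hdeg]
  have h2 : Pc.coeff 0 = ((P.coeff 0 : ℤ) : ℂ) := by
    rw [hPc, Polynomial.coeff_map]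
    simp
  rw [h2, Complex.norm_intCast] at h1
  exact h1

theorem main (p e : ℕ) [Fact p.Prime] (he : 0 < e)
    (ι : Type) [Fintype ι] (K : ι → Type u) [∀ i, Field (K i)] [∀ i, CharZero (K i)]
    (π : ∀ i, K i)
    (hint : ∀ i, IsIntegral ℤ (π i))
    (hweil : ∀ i, ∀ z ∈ (minpoly ℤ (π i)).aroots ℂ, ‖z‖ = Real.sqrt ((p : ℝ) ^ e))
    (hinj : ∀ i j, minpoly ℤ (π i) = minpoly ℤ (π j) → i = j)
    (D : ℕ) (hD : ∑ i, (minpoly ℤ (π i)).natDegree = 2 * D)
    (h : MvPolynomial (Fin 2) ℤ)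
    (hh : X 0 ^ D * h - Polynomial.aeval (X 0 : MvPolynomial (Fin 2) ℤ) (∏ i, minpoly ℤ (π i)) ∈
      Ideal.span ({X 0 * X 1 - C ((p : ℤ) ^ e)} : Set (MvPolynomial (Fin 2) ℤ))) :
    RingHom.ker (MvPolynomial.aeval ![fun i => π i, fun i => ((p : K i) ^ e) / π i] :
        MvPolynomial (Fin 2) ℤ →ₐ[ℤ] ((i : ι) → K i)) =
        Ideal.span {X 0 * X 1 - C ((p : ℤ) ^ e), h} ∧
      RingTheory.Sequence.IsWeaklyRegular (MvPolynomial (Fin 2) ℤ)
        [X 0 * X 1 - C ((p : ℤ) ^ e), h] := by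
  classical
  have hppos : 0 < p := (Fact.out : p.Prime).pos
  have hp0 : (p : ℤ) ≠ 0 := by exact_mod_cast hppos.ne'
  have hsqrt_pos : 0 < Real.sqrt ((p : ℝ) ^ e) := Real.sqrt_pos.mpr (by positivity)
  obtain ⟨q, hqdef⟩ : ∃ q : ℤ, q = (p : ℤ) ^ e := ⟨_, rfl⟩
  have hq : q ≠ 0 := by rw [hqdef]; exact pow_ne_zero e hp0
  rw [← hqdef] at hh ⊢
  obtain ⟨P, hPdef⟩ : ∃ P : Polynomial ℤ, P = ∏ i, minpoly ℤ (π i) := ⟨_, rfl⟩
  rw [← hPdef] at hh
  have hPmon : P.Monic := by
    rw [hPdef]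
    exact Polynomial.monic_prod_of_monic _ _ (fun i _ => minpoly.monic (hint i))
  have hPdeg : P.natDegree = 2 * D := by
    rw [hPdef, Polynomial.natDegree_prod_of_monic _ _ (fun i _ => minpoly.monic (hint i)), hD]
  -- the constant term
  have hr : ∀ i, |(((minpoly ℤ (π i)).coeff 0 : ℤ) : ℝ)| =
      Real.sqrt ((p : ℝ) ^ e) ^ (minpoly ℤ (π i)).natDegree :=
    fun i => abs_coeff_zero _ (minpoly.monic (hint i)) _ (hweil i)
  have hc0 : P.coeff 0 = ∏ i, (minpoly ℤ (π i)).coeff 0 := by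
    rw [hPdef, Polynomial.coeff_zero_eq_eval_zero, Polynomial.eval_prod]
    exact Finset.prod_congr rfl (fun i _ => (Polynomial.coeff_zero_eq_eval_zero _).symm)
  have habs : |((P.coeff 0 : ℤ) : ℝ)| = ((p : ℝ) ^ e) ^ D := by
    rw [hc0, Int.cast_prod, Finset.abs_prod, Finset.prod_congr rfl (fun i _ => hr i),
      Finset.prod_pow_eq_pow_sum, hD, pow_mul, Real.sq_sqrt (by positivity)]
  have habsZ : |P.coeff 0| = q ^ D := by
    rw [hqdef]
    exact_mod_cast habs
  obtain ⟨u, hu, hPu⟩ : ∃ u : ℤ, u * u = 1 ∧ P.coeff 0 = u * q ^ D := by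
    have hnn : (0 : ℤ) ≤ q ^ D := by rw [hqdef]; positivity
    rcases (abs_eq hnn).mp habsZ with h1 | h1
    · exact ⟨1, by norm_num, by rw [h1, one_mul]⟩
    · exact ⟨-1, by norm_num, by rw [h1]; ring⟩
  -- π i ≠ 0
  have hπ0 : ∀ i, π i ≠ 0 := by
    intro i h0
    have h1 := minpoly.aeval ℤ (π i)
    have h3 := hr i
    rw [h0] at h1 h3
    rw [← Polynomial.coeff_zero_eq_aeval_zero'] at h1
    have h2 : (minpoly ℤ (0 : K i)).coeff 0 = 0 := by
      have h4 : (((minpoly ℤ (0 : K i)).coeff 0 : ℤ) : K i) = 0 := by simpa using h1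
      exact_mod_cast h4
    rw [h2, Int.cast_zero, abs_zero] at h3
    exact absurd h3 (ne_of_lt (pow_pos hsqrt_pos _))
  have hab : ∀ i, π i * (((p : K i) ^ e) / π i) = ((q : ℤ) : K i) := by
    intro i
    have hπi := hπ0 i
    rw [hqdef]
    push_cast
    field_simp
  -- componentwise description of φ
  obtain ⟨φ, hφ⟩ : ∃ φ : MvPolynomial (Fin 2) ℤ →ₐ[ℤ] ((i : ι) → K i),
      φ = MvPolynomial.aeval ![fun i => π i, fun i => ((p : K i) ^ e) / π i] := ⟨_, rfl⟩
  rw [← hφ]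
  have hφi : ∀ (i : ι) (g : MvPolynomial (Fin 2) ℤ),
      φ g i = psi (π i) (((p : K i) ^ e) / π i) g := by
    intro i g
    have h1 : (Pi.evalAlgHom ℤ K i).comp φ = psi (π i) (((p : K i) ^ e) / π i) := by
      apply MvPolynomial.algHom_ext
      intro j
      fin_cases j <;> simp [hφ, psi]
    rw [← h1]
    rfl
  -- (1) the span is in the kernel
  have hker_g0 : ∀ g ∈ Ideal.span ({X 0 * X 1 - C q} : Set (MvPolynomial (Fin 2) ℤ)),
      φ g = 0 := by
    intro g hg
    funext i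
    rw [hφi, Pi.zero_apply]
    exact psi_mem _ _ q (hab i) g hg
  have hφh : φ h = 0 := by
    funext i
    rw [hφi, Pi.zero_apply]
    have h1 := psi_mem _ _ q (hab i) _ hh
    rw [map_sub, map_mul, map_pow, psi_X0, psi_aeval0, hPdef, map_prod,
      Finset.prod_eq_zero (Finset.mem_univ i) (minpoly.aeval ℤ (π i)), sub_zero] at h1
    exact (mul_eq_zero.mp h1).resolve_left (pow_ne_zero D (hπ0 i))
  have hge : Ideal.span ({X 0 * X 1 - C q, h} : Set (MvPolynomial (Fin 2) ℤ)) ≤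
      RingHom.ker φ := by
    rw [Ideal.span_le]
    intro z hz
    rw [SetLike.mem_coe, RingHom.mem_ker]
    rcases hz with rfl | hz
    · exact hker_g0 _ (Ideal.subset_span (Set.mem_singleton _))
    · rw [Set.mem_singleton_iff] at hz
      rw [hz]
      exact hφh
  -- (2) the kernel is in the span
  obtain ⟨M, H, w, hmon, hrel⟩ := lead_data q hq D P hPdeg.le u hu hPu h hh
  have hcancel : ∀ (N : ℕ) (y : MvPolynomial (Fin 2) ℤ),
      X 0 ^ N * y ∈ Ideal.span ({X 0 * X 1 - C q, h} : Set (MvPolynomial (Fin 2) ℤ)) →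
      y ∈ Ideal.span ({X 0 * X 1 - C q, h} : Set (MvPolynomial (Fin 2) ℤ)) := by
    intro N
    induction N with
    | zero => intro y hy; simpa using hy
    | succ n ih =>
      intro y hy
      apply ih
      apply cancel_X0_J q hq h M H w u hmon hrel
      rw [← mul_assoc, ← pow_succ']
      exact hy
  have hJ0 : Ideal.span ({X 0 * X 1 - C q} : Set (MvPolynomial (Fin 2) ℤ)) ≤
      Ideal.span ({X 0 * X 1 - C q, h} : Set (MvPolynomial (Fin 2) ℤ)) :=
    Ideal.span_mono (Set.singleton_subset_iff.mpr (Set.mem_insert _ _))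
  have hhJ : h ∈ Ideal.span ({X 0 * X 1 - C q, h} : Set (MvPolynomial (Fin 2) ℤ)) :=
    Ideal.subset_span (Set.mem_insert_of_mem _ (Set.mem_singleton _))
  have hle : RingHom.ker φ ≤
      Ideal.span ({X 0 * X 1 - C q, h} : Set (MvPolynomial (Fin 2) ℤ)) := by
    intro g hg
    rw [RingHom.mem_ker] at hg
    obtain ⟨N, G, hNG⟩ := red q 0 1 (by decide) g
    have hGi : ∀ i, Polynomial.aeval (π i) G = 0 := by
      intro i
      have hgi : psi (π i) (((p : K i) ^ e) / π i) g = 0 := by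
        rw [← hφi, hg]
        rfl
      have h1 := psi_mem _ _ q (hab i) _ hNG
      rw [map_sub, map_mul, hgi, mul_zero, zero_sub, neg_eq_zero, psi_aeval0] at h1
      exact h1
    have hPG : P ∣ G := by
      rw [hPdef]
      refine prod_dvd_of_primes Finset.univ (fun i => minpoly ℤ (π i)) G ?_ ?_ ?_
      · intro i _
        exact minpoly.prime_of_isIntegrallyClosed (hint i)
      · intro i _
        exact minpoly.isIntegrallyClosed_dvd (hint i) (hGi i)
      · intro i _ j _ hij hdvd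
        apply hij
        apply hinj
        have hirr_i := (minpoly.prime_of_isIntegrallyClosed (hint i)).irreducible
        have hirr_j := (minpoly.prime_of_isIntegrallyClosed (hint j)).irreducible
        exact Polynomial.eq_of_monic_of_associated (minpoly.monic (hint i))
          (minpoly.monic (hint j))
          (associated_of_dvd_dvd hdvd (hirr_i.dvd_symm hirr_j hdvd))
    obtain ⟨U, hU⟩ := hPG
    apply hcancel N
    have h2 : X 0 ^ N * g = (X 0 ^ N * g - Polynomial.aeval (X 0 : MvPolynomial (Fin 2) ℤ) G) +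
        (Polynomial.aeval (X 0 : MvPolynomial (Fin 2) ℤ) U) * (X 0 ^ D * h) -
        Polynomial.aeval (X 0 : MvPolynomial (Fin 2) ℤ) U *
          (X 0 ^ D * h - Polynomial.aeval (X 0 : MvPolynomial (Fin 2) ℤ) P) := by
      rw [hU, map_mul]
      ring
    rw [h2]
    exact Ideal.sub_mem _
      (Ideal.add_mem _ (hJ0 hNG) (Ideal.mul_mem_left _ _ (Ideal.mul_mem_left _ _ hhJ)))
      (Ideal.mul_mem_left _ _ (hJ0 hh))
  -- (3) weak regularity
  have hreg : RingTheory.Sequence.IsWeaklyRegular (MvPolynomial (Fin 2) ℤ)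
      [X 0 * X 1 - C q, h] := by
    rw [RingTheory.Sequence.isWeaklyRegular_cons_iff,
      RingTheory.Sequence.isWeaklyRegular_singleton_iff]
    constructor
    · intro a b hab'
      exact mul_left_cancel₀ (g0_ne_zero q hq) hab'
    · refine (isSMulRegular_quotient_iff_mem_of_smul_mem _ _).mpr ?_
      intro y hy
      rw [Submodule.mem_smul_pointwise_iff_exists] at hy ⊢
      obtain ⟨s, -, hs⟩ := hy
      have hmem : h * y ∈ Ideal.span ({X 0 * X 1 - C q} : Set (MvPolynomial (Fin 2) ℤ)) :=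
        Ideal.mem_span_singleton'.mpr ⟨s, (mul_comm s _).trans hs⟩
      rcases mem_or_mem q hq h y hmem with h1 | h1
      · exfalso
        have h2 : Polynomial.aeval (X 0 : MvPolynomial (Fin 2) ℤ) P ∈
            Ideal.span ({X 0 * X 1 - C q} : Set (MvPolynomial (Fin 2) ℤ)) := by
          have h3 := Ideal.sub_mem _ (Ideal.mul_mem_left _ (X 0 ^ D) h1) hh
          simpa using h3
        exact hPmon.ne_zero (aeval0_mem q P h2)
      · obtain ⟨s', hs'⟩ := Ideal.mem_span_singleton'.mp h1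
        exact ⟨s', Submodule.mem_top, (mul_comm _ s').trans hs'⟩
  exact ⟨le_antisymm hle hge, hreg⟩

end Groth.Agent.Helper22.WeilKer
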