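import Mathlib
import Groth.Agent.Lib.Helper22.FilRing
import Groth.Agent.Lib.Helper22.TruncProj
import Groth.Agent.Lib.Helper22.WittDiv

/-!
# Lifting finitely generated projective modules along `W(S) → W(R)` with nil kernel (helper22)

Abstract part: lifting f.g. projective modules along a surjection `Φ : A → B` along which idempotent
matrices lift, and uniqueness when `ker Φ` is in the Jacobson radical.
Witt part: for `S → R` surjective with nil kernel, idempotent matrices lift along `W(S) → W(R)`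
(Newton iteration in the filtration by `ker (W(S) → W_m(S))`), and `ker` is in the Jacobson radical.
-/

set_option autoImplicit false
universe u

namespace Groth.Agent.Helper22.WittLiftProj

open WittVector
open Groth.Agent.Helper22.FilRing
open Groth.Agent.Helper22.TruncProj (Jw Jw_antitone Jw_sep Jw_cpl)

section Abstract

variable {A : Type u} [CommRing A] {n : ℕ}

/-- The image of a square matrix acting on column vectors. -/
abbrev Img (e : Matrix (Fin n) (Fin n) A) : Submodule A (Fin n → A) :=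
  LinearMap.range (Matrix.mulVecLin e)

theorem mem_Img (e : Matrix (Fin n) (Fin n) A) (hee : e * e = e) (x : Fin n → A) :
    x ∈ Img e ↔ e.mulVec x = x := by
  constructor
  · intro hx
    obtain ⟨v, rfl⟩ := LinearMap.mem_range.1 hx
    show e.mulVec (e.mulVec v) = e.mulVec v
    rw [Matrix.mulVec_mulVec, hee]
  · intro h
    exact LinearMap.mem_range.2 ⟨x, h⟩

theorem projective_Img (e : Matrix (Fin n) (Fin n) A) (hee : e * e = e) :
    Module.Projective A (Img e) := by
  refine Module.Projective.of_split (Img e).subtype (Matrix.mulVecLin e).rangeRestrict ?_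
  refine LinearMap.ext fun x => Subtype.ext ?_
  show e.mulVec x.1 = x.1
  exact (mem_Img e hee x.1).1 x.2

/-- The semilinear map `Img e → P`, `x ↦ f (Φ ∘ x)`. -/
noncomputable def piImg {B : Type u} [CommRing B] (Φ : A →+* B)
    (e : Matrix (Fin n) (Fin n) A) {P : Type u} [AddCommGroup P] [Module B P]
    (f : (Fin n → B) →ₗ[B] P) : Img e →ₛₗ[Φ] P where
  toFun x := f (fun i => Φ (x.1 i))
  map_add' x y := by
    have h : (fun i => Φ ((x + y).1 i)) = (fun i => Φ (x.1 i)) + (fun i => Φ (y.1 i)) := by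
      funext i
      show Φ (x.1 i + y.1 i) = Φ (x.1 i) + Φ (y.1 i)
      exact map_add Φ _ _
    show f (fun i => Φ ((x + y).1 i)) = f (fun i => Φ (x.1 i)) + f (fun i => Φ (y.1 i))
    rw [h, map_add]
  map_smul' a x := by
    have h : (fun i => Φ ((a • x).1 i)) = Φ a • (fun i => Φ (x.1 i)) := by
      funext i
      show Φ (a * x.1 i) = Φ a * Φ (x.1 i)
      exact map_mul Φ _ _
    show f (fun i => Φ ((a • x).1 i)) = Φ a • f (fun i => Φ (x.1 i))
    rw [h, map_smul]

theorem piImg_apply {B : Type u} [CommRing B] (Φ : A →+* B)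
    (e : Matrix (Fin n) (Fin n) A) {P : Type u} [AddCommGroup P] [Module B P]
    (f : (Fin n → B) →ₗ[B] P) (x : Img e) : piImg Φ e f x = f (fun i => Φ (x.1 i)) := rfl

/-- Lifting f.g. projective modules along a surjection along which idempotent matrices lift. -/
theorem exists_lift_abstract {A B : Type u} [CommRing A] [CommRing B] (Φ : A →+* B)
    (hΦ : Function.Surjective Φ)
    (hidem : ∀ (n : ℕ) (ε : Matrix (Fin n) (Fin n) B), ε * ε = ε →
      ∃ e : Matrix (Fin n) (Fin n) A, e * e = e ∧ e.map Φ = ε)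
    (P : Type u) [AddCommGroup P] [Module B P] [Module.Finite B P] [Module.Projective B P] :
    ∃ (P' : Type u) (_ : AddCommGroup P') (_ : Module A P'),
        Module.Finite A P' ∧ Module.Projective A P' ∧
          ∃ π : P' →ₛₗ[Φ] P, Function.Surjective π ∧
            LinearMap.ker π = RingHom.ker Φ • (⊤ : Submodule A P') := by
  classical
  obtain ⟨n, f, hf⟩ := Module.Finite.exists_fin' B P
  obtain ⟨s, hs⟩ := Module.projective_lifting_property f LinearMap.id hf
  have hfs : ∀ y, f (s y) = y := fun y => LinearMap.congr_fun hs y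
  have hcomp : (s ∘ₗ f) ∘ₗ (s ∘ₗ f) = s ∘ₗ f := by
    refine LinearMap.ext fun v => ?_
    show s (f (s (f v))) = s (f v)
    rw [hfs]
  have hεε : LinearMap.toMatrix' (s ∘ₗ f) * LinearMap.toMatrix' (s ∘ₗ f) =
      LinearMap.toMatrix' (s ∘ₗ f) := by
    rw [← LinearMap.toMatrix'_comp, hcomp]
  have hεv : ∀ v : Fin n → B, (LinearMap.toMatrix' (s ∘ₗ f)).mulVec v = s (f v) := by
    intro v
    rw [LinearMap.toMatrix'_mulVec]
    rfl
  obtain ⟨e, hee, heΦ⟩ := hidem n _ hεε
  have hΦe : ∀ (v : Fin n → A) (i : Fin n),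
      Φ (e.mulVec v i) = s (f (fun j => Φ (v j))) i := by
    intro v i
    rw [RingHom.map_mulVec, heΦ]
    exact congrFun (hεv (fun j => Φ (v j))) i
  have hcol : ∀ i : Fin n, (fun k => e k i) ∈ Img e := by
    intro i
    refine (mem_Img e hee _).2 ?_
    funext k
    show ∑ j, e k j * e j i = e k i
    rw [← Matrix.mul_apply, hee]
  refine ⟨Img e, inferInstance, inferInstance, Module.Finite.range _, projective_Img e hee,
    piImg Φ e f, ?_, ?_⟩
  · intro y
    choose v hv using fun i => hΦ (s y i)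
    refine ⟨⟨e.mulVec v, LinearMap.mem_range.2 ⟨v, rfl⟩⟩, ?_⟩
    show f (fun i => Φ (e.mulVec v i)) = y
    have h1 : (fun i => Φ (e.mulVec v i)) = s y := by
      funext i
      rw [hΦe v i]
      have h2 : (fun j => Φ (v j)) = s y := funext hv
      rw [h2, hfs]
    rw [h1, hfs]
  · apply le_antisymm
    · intro x hx
      have hx0 : f (fun i => Φ (x.1 i)) = 0 := LinearMap.mem_ker.1 hx
      have hxe : e.mulVec x.1 = x.1 := (mem_Img e hee x.1).1 x.2
      have hK : ∀ i, x.1 i ∈ RingHom.ker Φ := by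
        intro i
        rw [RingHom.mem_ker]
        have h1 : Φ (x.1 i) = Φ (e.mulVec x.1 i) := by rw [hxe]
        rw [h1, hΦe, hx0, map_zero]
        rfl
      have hsum : x = ∑ i, x.1 i • (⟨fun k => e k i, hcol i⟩ : Img e) := by
        apply Subtype.ext
        funext k
        rw [Submodule.coe_sum, Finset.sum_apply]
        refine (congrFun hxe k).symm.trans ?_
        show ∑ i, e k i * x.1 i = ∑ i, x.1 i * e k i
        exact Finset.sum_congr rfl fun i _ => mul_comm _ _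
      rw [hsum]
      exact Submodule.sum_mem _ fun i _ => Submodule.smul_mem_smul (hK i) Submodule.mem_top
    · rw [Submodule.smul_le]
      intro a ha x _
      rw [LinearMap.mem_ker, LinearMap.map_smulₛₗ, (RingHom.mem_ker).1 ha, zero_smul]

theorem surj_of_lift (K : Ideal A) (hJac : K ≤ Ideal.jacobson ⊥)
    {P₁ : Type u} [AddCommGroup P₁] [Module A P₁] [Module.Finite A P₁]
    (h : P₁ →ₗ[A] P₁) (hh : ∀ x, h x - x ∈ K • (⊤ : Submodule A P₁)) :
    Function.Surjective h := by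
  have h1 : (⊤ : Submodule A P₁) ≤ LinearMap.range h ⊔ K • (⊤ : Submodule A P₁) := by
    intro x _
    have h2 : x = h x - (h x - x) := by abel
    rw [h2]
    exact Submodule.sub_mem _ (Submodule.mem_sup_left (LinearMap.mem_range.2 ⟨x, rfl⟩))
      (Submodule.mem_sup_right (hh x))
  have h3 := Submodule.le_of_le_smul_of_le_jacobson_bot Module.Finite.fg_top hJac h1
  exact LinearMap.range_eq_top.1 (top_le_iff.1 h3)

/-- Uniqueness of lifts of a module along a surjection with kernel in the Jacobson radical. -/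
theorem unique_lift_abstract {A B : Type u} [CommRing A] [CommRing B] (Φ : A →+* B)
    (hJac : RingHom.ker Φ ≤ Ideal.jacobson ⊥)
    (P : Type u) [AddCommGroup P] [Module B P]
    (P₁ : Type u) [AddCommGroup P₁] [Module A P₁] [Module.Finite A P₁] [Module.Projective A P₁]
    (P₂ : Type u) [AddCommGroup P₂] [Module A P₂] [Module.Finite A P₂] [Module.Projective A P₂]
    (π₁ : P₁ →ₛₗ[Φ] P) (π₂ : P₂ →ₛₗ[Φ] P)
    (h₁ : Function.Surjective π₁)
    (k₁ : LinearMap.ker π₁ = RingHom.ker Φ • (⊤ : Submodule A P₁))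
    (h₂ : Function.Surjective π₂)
    (k₂ : LinearMap.ker π₂ = RingHom.ker Φ • (⊤ : Submodule A P₂)) :
    ∃ e : P₁ ≃ₗ[A] P₂, ∀ x : P₁, π₂ (e x) = π₁ x := by
  letI : Module A P := Module.compHom P Φ
  let π₁' : P₁ →ₗ[A] P :=
    { toFun := π₁
      map_add' := fun x y => map_add π₁ x y
      map_smul' := fun a x => by
        show π₁ (a • x) = Φ a • π₁ x
        exact π₁.map_smulₛₗ a x }
  let π₂' : P₂ →ₗ[A] P :=
    { toFun := π₂
      map_add' := fun x y => map_add π₂ x y
      map_smul' := fun a x => by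
        show π₂ (a • x) = Φ a • π₂ x
        exact π₂.map_smulₛₗ a x }
  have h₁' : Function.Surjective π₁' := h₁
  have h₂' : Function.Surjective π₂' := h₂
  obtain ⟨g, hg⟩ := Module.projective_lifting_property π₂' π₁' h₂'
  obtain ⟨g', hg'⟩ := Module.projective_lifting_property π₁' π₂' h₁'
  have hg_ap : ∀ x, π₂ (g x) = π₁ x := fun x => LinearMap.congr_fun hg x
  have hg'_ap : ∀ x, π₁ (g' x) = π₂ x := fun x => LinearMap.congr_fun hg' x
  have hsurj1 : Function.Surjective (g' ∘ₗ g) := by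
    refine surj_of_lift (RingHom.ker Φ) hJac (g' ∘ₗ g) fun x => ?_
    rw [← k₁, LinearMap.mem_ker, map_sub]
    show π₁ (g' (g x)) - π₁ x = 0
    rw [hg'_ap, hg_ap, sub_self]
  have hsurj2 : Function.Surjective (g ∘ₗ g') := by
    refine surj_of_lift (RingHom.ker Φ) hJac (g ∘ₗ g') fun x => ?_
    rw [← k₂, LinearMap.mem_ker, map_sub]
    show π₂ (g (g' x)) - π₂ x = 0
    rw [hg_ap, hg'_ap, sub_self]
  have hinj1 : Function.Injective (g' ∘ₗ g) :=
    OrzechProperty.injective_of_surjective_endomorphism (g' ∘ₗ g) hsurj1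
  have hginj : Function.Injective g := by
    intro x y hxy
    apply hinj1
    show g' (g x) = g' (g y)
    rw [hxy]
  have hgsurj : Function.Surjective g := by
    intro y
    obtain ⟨z, hz⟩ := hsurj2 y
    exact ⟨g' z, hz⟩
  exact ⟨LinearEquiv.ofBijective g ⟨hginj, hgsurj⟩, fun x => hg_ap x⟩

end Abstract

section Witt

variable {p : ℕ} [hp : Fact p.Prime]

local notation "𝕎" => WittVector p

section TcSection

variable {S : Type u} [CommRing S]

theorem mem_Jw {m : ℕ} {w : 𝕎 S} : w ∈ Jw p S m ↔ ∀ i < m, w.coeff i = 0 :=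
  WittVector.mem_ker_truncate m w

variable (p) in
/-- Witt vectors whose first `m` components lie in the ideal `b`. -/
noncomputable def Tc (b : Ideal S) (m : ℕ) : Ideal (𝕎 S) :=
  RingHom.ker ((WittVector.truncate (p := p) m).comp
    (WittVector.map (Ideal.Quotient.mk b)))

theorem mem_Tc {b : Ideal S} {m : ℕ} {w : 𝕎 S} :
    w ∈ Tc p b m ↔ ∀ i < m, w.coeff i ∈ b := by
  unfold Tc
  rw [RingHom.mem_ker, RingHom.comp_apply, ← RingHom.mem_ker, WittVector.mem_ker_truncate]
  simp only [WittVector.map_coeff, Ideal.Quotient.eq_zero_iff_mem]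

theorem Tc_antitone (b : Ideal S) {m m' : ℕ} (h : m ≤ m') : Tc p b m' ≤ Tc p b m := by
  intro w hw
  exact mem_Tc.2 fun i hi => mem_Tc.1 hw i (lt_of_lt_of_le hi h)

theorem Tc_bot_le (m : ℕ) : Tc p (⊥ : Ideal S) m ≤ Jw p S m := by
  intro w hw
  refine mem_Jw.2 fun i hi => ?_
  exact (Ideal.mem_bot).1 (mem_Tc.1 hw i hi)

theorem ghostComponent_zero' (w : 𝕎 S) : WittVector.ghostComponent 0 w = w.coeff 0 := by
  rw [WittDiv.ghost_eq]
  simp

theorem ghost_iterate_frobenius (j n : ℕ) (t : 𝕎 S) :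
    WittVector.ghostComponent n (frobenius^[j] t) = WittVector.ghostComponent (n + j) t := by
  induction j generalizing n with
  | zero => rfl
  | succ j ih =>
    rw [Function.iterate_succ_apply', ghostComponent_frobenius, ih,
      show n + 1 + j = n + (j + 1) by omega]

theorem ghost_mem' {b : Ideal S} (j : ℕ) (t : 𝕎 S) (h : ∀ i < j + 1, t.coeff i ∈ b) :
    WittVector.ghostComponent j t ∈ b := by
  rw [WittDiv.ghost_eq]
  refine Ideal.sum_mem _ fun i hi => Ideal.mul_mem_left _ _ ?_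
  exact Ideal.pow_mem_of_mem _ (h i (Finset.mem_range.1 hi)) _ (pow_pos hp.out.pos _)

theorem mul_coeff_of_mem (j : ℕ) (t z : 𝕎 S) (hz : z ∈ Jw p S j) :
    (t * z).coeff j = WittVector.ghostComponent j t * z.coeff j := by
  have hz' : ∀ i < j, z.coeff i = 0 := mem_Jw.1 hz
  have h1 : z = verschiebung^[j] (z.shift j) := eq_iterate_verschiebung hz'
  have h2 : t * z = verschiebung^[j] (z.shift j * frobenius^[j] t) := by
    rw [← iterate_verschiebung_mul_left, ← h1, mul_comm]
  have h3 : (verschiebung^[j] (z.shift j * frobenius^[j] t)).coeff (0 + j) =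
      (z.shift j * frobenius^[j] t).coeff 0 := iterate_verschiebung_coeff _ _ _
  rw [zero_add] at h3
  rw [h2, h3, mul_coeff_zero, shift_coeff, add_zero, ← ghostComponent_zero' (frobenius^[j] t),
    ghost_iterate_frobenius, zero_add, mul_comm]

theorem mul_mem_Tc {b c : Ideal S} (j : ℕ) {t z : 𝕎 S} (ht : t ∈ Tc p b (j + 1))
    (hz : z ∈ Jw p S j ⊓ Tc p c (j + 1)) : t * z ∈ Jw p S j ⊓ Tc p (b * c) (j + 1) := by
  obtain ⟨hz1, hz2⟩ := Submodule.mem_inf.1 hz
  have h1 : t * z ∈ Jw p S j := Ideal.mul_mem_left _ _ hz1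
  refine Submodule.mem_inf.2 ⟨h1, mem_Tc.2 fun i hi => ?_⟩
  rcases Nat.lt_succ_iff_lt_or_eq.1 hi with hlt | hij
  · rw [mem_Jw.1 h1 i hlt]
    exact zero_mem _
  · rw [hij, mul_coeff_of_mem j t z hz1]
    exact Ideal.mul_mem_mul (ghost_mem' j t (mem_Tc.1 ht))
      (mem_Tc.1 hz2 j (Nat.lt_succ_self j))

theorem pow_le_aux (b c : Ideal S) (j k : ℕ) :
    Tc p b (j + 1) ^ k * (Jw p S j ⊓ Tc p c (j + 1)) ≤
      Jw p S j ⊓ Tc p (b ^ k * c) (j + 1) := by
  induction k with
  | zero => simp only [pow_zero, one_mul, le_refl]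
  | succ k ih =>
    have h1 : Tc p b (j + 1) ^ (k + 1) * (Jw p S j ⊓ Tc p c (j + 1)) =
        Tc p b (j + 1) * (Tc p b (j + 1) ^ k * (Jw p S j ⊓ Tc p c (j + 1))) := by
      rw [pow_succ', mul_assoc]
    have h2 : b ^ (k + 1) * c = b * (b ^ k * c) := by rw [pow_succ', mul_assoc]
    rw [h1, h2]
    refine (Ideal.mul_mono_right ih).trans ?_
    exact Ideal.mul_le.2 fun t ht z hz => mul_mem_Tc j ht hz

theorem exists_pow_Tc_le (b : Ideal S) (N : ℕ) (hN : b ^ N = ⊥) (M : ℕ) :
    ∀ j, j ≤ M → ∃ N', Tc p b M ^ N' ≤ Jw p S j := by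
  intro j
  induction j with
  | zero =>
    intro _
    refine ⟨0, fun w _ => ?_⟩
    refine mem_Jw.2 fun i hi => ?_
    exact absurd hi (Nat.not_lt_zero i)
  | succ j ih =>
    intro hj
    obtain ⟨N₁, hN₁⟩ := ih (Nat.le_of_succ_le hj)
    refine ⟨N + (N₁ + 1), ?_⟩
    have hT : Tc p b M ≤ Tc p b (j + 1) := Tc_antitone b hj
    have h1 : Tc p b M ^ (N₁ + 1) ≤ Jw p S j ⊓ Tc p b (j + 1) := by
      refine le_inf ?_ ?_
      · exact (Ideal.pow_le_pow_right (Nat.le_succ N₁)).trans hN₁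
      · exact (Ideal.pow_le_self (Nat.succ_ne_zero N₁)).trans hT
    rw [pow_add]
    refine (Ideal.mul_mono (Ideal.pow_right_mono hT N) h1).trans ?_
    refine (pow_le_aux b b j N).trans ?_
    rw [hN, Ideal.bot_mul]
    exact inf_le_right.trans (Tc_bot_le (j + 1))

theorem matrix_pow_entries {A : Type*} [CommRing A] {n : ℕ} (I : Ideal A)
    (D : Matrix (Fin n) (Fin n) A) (hD : ∀ i j, D i j ∈ I) (N : ℕ) :
    ∀ i j, (D ^ N) i j ∈ I ^ N := by
  induction N with
  | zero =>
    intro i j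
    rw [pow_zero I, Ideal.one_eq_top]
    exact Submodule.mem_top
  | succ N ih =>
    intro i j
    rw [pow_succ D N, Matrix.mul_apply, pow_succ I N]
    exact Ideal.sum_mem _ fun k _ => Ideal.mul_mem_mul (ih i k) (hD k j)

variable (p S) in
/-- The filtration of `W(S)` by the kernels of the truncations. -/
noncomputable def filtW : Filt (𝕎 S) where
  Fil m := (Jw p S m).toAddSubgroup
  anti := by
    intro m w hw
    exact Jw_antitone p S (Nat.le_succ m) hw
  mul_left := by
    intro m y x hx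
    exact Ideal.mul_mem_left (Jw p S m) y hx
  mul_right := by
    intro m y x hx
    exact Ideal.mul_mem_right y (Jw p S m) hx
  sep := by
    intro x hx
    exact Jw_sep p S x hx
  cpl := by
    intro u hu
    exact Jw_cpl p S u hu

theorem mem_filtW {m : ℕ} {w : 𝕎 S} : w ∈ (filtW p S).Fil m ↔ w ∈ Jw p S m := Iff.rfl

end TcSection

variable {S R : Type u} [CommRing S] [CommRing R] (φ : S →+* R)

theorem map_mem_Jw (m : ℕ) {w : 𝕎 S} (hw : w ∈ Jw p S m) :
    WittVector.map φ w ∈ Jw p R m := by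
  refine mem_Jw.2 fun i hi => ?_
  rw [WittVector.map_coeff, mem_Jw.1 hw i hi, map_zero]

theorem exists_Tc (hnil : ∀ a : S, φ a = 0 → IsNilpotent a) {ι : Type*} [Finite ι]
    (w : ι → 𝕎 S) (hw : ∀ i, WittVector.map φ (w i) = 0) (m : ℕ) :
    ∃ b : Ideal S, (∃ N, b ^ N = ⊥) ∧ ∀ i, w i ∈ Tc p b m := by
  have hfin : (Set.range fun x : ι × Fin m => (w x.1).coeff x.2).Finite := Set.finite_range _
  refine ⟨Ideal.span (Set.range fun x : ι × Fin m => (w x.1).coeff x.2), ?_, fun i =>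
    mem_Tc.2 fun k hk => Ideal.subset_span ⟨(i, ⟨k, hk⟩), rfl⟩⟩
  have hfg : (Ideal.span (Set.range fun x : ι × Fin m => (w x.1).coeff x.2)).FG :=
    ⟨hfin.toFinset, by rw [Set.Finite.coe_toFinset]⟩
  have hle : Ideal.span (Set.range fun x : ι × Fin m => (w x.1).coeff x.2) ≤ nilradical S := by
    rw [Ideal.span_le]
    rintro _ ⟨x, rfl⟩
    show (w x.1).coeff x.2 ∈ nilradical S
    refine mem_nilradical.2 (hnil _ ?_)
    rw [← WittVector.map_coeff, hw, WittVector.zero_coeff]
  obtain ⟨N, hN⟩ := (Ideal.FG.isNilpotent_iff_le_nilradical hfg).2 hle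
  exact ⟨N, hN.trans Ideal.zero_eq_bot⟩

/-- Elements of `ker (W(S) → W(R))` are topologically nilpotent for the truncation filtration. -/
theorem exists_pow_mem_Jw (hnil : ∀ a : S, φ a = 0 → IsNilpotent a) {ι : Type*} [Finite ι]
    (w : ι → 𝕎 S) (hw : ∀ i, WittVector.map φ (w i) = 0) (m : ℕ) :
    ∃ (I : Ideal (𝕎 S)) (N' : ℕ), (∀ i, w i ∈ I) ∧ I ^ N' ≤ Jw p S m := by
  obtain ⟨b, ⟨N, hN⟩, hb⟩ := exists_Tc φ hnil w hw m
  obtain ⟨N', hN'⟩ := exists_pow_Tc_le (p := p) b N hN m m le_rfl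
  exact ⟨Tc p b m, N', hb, hN'⟩

theorem ker_le_jacobson (hnil : ∀ a : S, φ a = 0 → IsNilpotent a) :
    RingHom.ker (WittVector.map (p := p) φ) ≤ Ideal.jacobson ⊥ := by
  intro x hx
  rw [Ideal.mem_jacobson_bot]
  intro y
  have h1 : WittVector.map φ (x * y) = 0 := by
    rw [map_mul, (RingHom.mem_ker).1 hx, zero_mul]
  have h2 : ∀ m, ∃ N, (x * y) ^ N ∈ (filtW p S).Fil m := by
    intro m
    obtain ⟨I, N', hI, hN'⟩ := exists_pow_mem_Jw φ hnil (fun _ : Unit => x * y) (fun _ => h1) m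
    exact ⟨N', mem_filtW.2 (hN' (Ideal.pow_mem_pow (hI ()) N'))⟩
  have h3 := isUnit_one_add (filtW p S) (x * y) h2
  rw [add_comm] at h3
  exact h3

theorem hidem_witt (hφ : Function.Surjective φ) (hnil : ∀ a : S, φ a = 0 → IsNilpotent a)
    (n : ℕ) (ε : Matrix (Fin n) (Fin n) (𝕎 R)) (hε : ε * ε = ε) :
    ∃ e : Matrix (Fin n) (Fin n) (𝕎 S), e * e = e ∧ e.map (WittVector.map (p := p) φ) = ε := by
  classical
  have hΦs : Function.Surjective (WittVector.map (p := p) φ) := WittVector.map_surjective φ hφ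
  choose e₀f he₀f using fun i j => hΦs (ε i j)
  obtain ⟨e₀, he₀⟩ : ∃ e₀ : Matrix (Fin n) (Fin n) (𝕎 S), ∀ i j, e₀ i j = e₀f i j :=
    ⟨Matrix.of e₀f, fun _ _ => rfl⟩
  obtain ⟨g, hg⟩ : ∃ g : Matrix (Fin n) (Fin n) (𝕎 S) →+* Matrix (Fin n) (Fin n) (𝕎 R),
      ∀ M i j, g M i j = WittVector.map (p := p) φ (M i j) :=
    ⟨(WittVector.map (p := p) φ).mapMatrix, fun _ _ _ => rfl⟩
  have hge₀ : g e₀ = ε := by
    refine Matrix.ext fun i j => ?_
    rw [hg, he₀, he₀f]
  have hd0 : g (e₀ * e₀ - e₀) = 0 := by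
    rw [map_sub, map_mul, hge₀, hε, sub_self]
  have hnilM : ∀ m, ∃ N, (e₀ * e₀ - e₀) ^ N ∈ (matFilt n (filtW p S)).Fil m := by
    intro m
    have hentry : ∀ x : Fin n × Fin n,
        WittVector.map (p := p) φ ((e₀ * e₀ - e₀) x.1 x.2) = 0 := by
      intro x
      rw [← hg, hd0]
      rfl
    obtain ⟨I, N', hI, hN'⟩ := exists_pow_mem_Jw φ hnil
      (fun x : Fin n × Fin n => (e₀ * e₀ - e₀) x.1 x.2) hentry m
    refine ⟨N', mem_matFilt.2 fun i j => mem_filtW.2 ?_⟩
    exact hN' (matrix_pow_entries I _ (fun i j => hI (i, j)) N' i j)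
  obtain ⟨e, hee, he⟩ := exists_idempotent (matFilt n (filtW p S)) e₀ hnilM
  refine ⟨e, hee, ?_⟩
  refine Matrix.ext fun i j => ?_
  rw [← sub_eq_zero]
  refine Jw_sep p R _ fun m => ?_
  obtain ⟨k₀, hk₀⟩ := he m
  have h1 : e - ek e₀ k₀ ∈ (matFilt n (filtW p S)).Fil m := hk₀ k₀ le_rfl
  have h2 : g (ek e₀ k₀) = ε := by rw [ek_map, hge₀, ek_of_idem ε hε]
  have h3 : g (e - ek e₀ k₀) = g e - ε := by rw [map_sub, h2]
  have h4 : (e.map (WittVector.map (p := p) φ)) i j - ε i j =
      WittVector.map (p := p) φ ((e - ek e₀ k₀) i j) := by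
    rw [← hg, h3, Matrix.sub_apply, hg]
    rfl
  rw [h4]
  exact map_mem_Jw φ m (mem_filtW.1 (mem_matFilt.1 h1 i j))

/-- Existence of lifts. -/
theorem exists_lift (hφ : Function.Surjective φ) (hnil : ∀ a : S, φ a = 0 → IsNilpotent a)
    (P : Type u) [AddCommGroup P] [Module (𝕎 R) P] [Module.Finite (𝕎 R) P]
    [Module.Projective (𝕎 R) P] :
    ∃ (P' : Type u) (_ : AddCommGroup P') (_ : Module (𝕎 S) P'),
        Module.Finite (𝕎 S) P' ∧ Module.Projective (𝕎 S) P' ∧
          ∃ π : P' →ₛₗ[WittVector.map (p := p) φ] P, Function.Surjective π ∧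
            LinearMap.ker π =
              RingHom.ker (WittVector.map (p := p) φ) • (⊤ : Submodule (𝕎 S) P') :=
  exists_lift_abstract (WittVector.map (p := p) φ) (WittVector.map_surjective φ hφ)
    (hidem_witt φ hφ hnil) P

/-- Uniqueness of lifts. -/
theorem unique_lift (hnil : ∀ a : S, φ a = 0 → IsNilpotent a)
    (P : Type u) [AddCommGroup P] [Module (𝕎 R) P]
    (P₁ : Type u) [AddCommGroup P₁] [Module (𝕎 S) P₁]
    [Module.Finite (𝕎 S) P₁] [Module.Projective (𝕎 S) P₁]
    (P₂ : Type u) [AddCommGroup P₂] [Module (𝕎 S) P₂]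
    [Module.Finite (𝕎 S) P₂] [Module.Projective (𝕎 S) P₂]
    (π₁ : P₁ →ₛₗ[WittVector.map (p := p) φ] P) (π₂ : P₂ →ₛₗ[WittVector.map (p := p) φ] P)
    (h₁ : Function.Surjective π₁)
    (k₁ : LinearMap.ker π₁ =
      RingHom.ker (WittVector.map (p := p) φ) • (⊤ : Submodule (𝕎 S) P₁))
    (h₂ : Function.Surjective π₂)
    (k₂ : LinearMap.ker π₂ =
      RingHom.ker (WittVector.map (p := p) φ) • (⊤ : Submodule (𝕎 S) P₂)) :
    ∃ e : P₁ ≃ₗ[𝕎 S] P₂, ∀ x : P₁, π₂ (e x) = π₁ x :=
  unique_lift_abstract (WittVector.map (p := p) φ) (ker_le_jacobson φ hnil) P P₁ P₂ π₁ π₂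
    h₁ k₁ h₂ k₂

end Witt

end Groth.Agent.Helper22.WittLiftProj
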