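import Mathlib

/-!
# Lifting Frobenius-equivariant linear maps along nilpotent thickenings (after Zink)

Part A: for a surjection `φ : S → R` whose kernel consists of elements of bounded nilpotency
exponent, with `p` nilpotent in `S`, a fixed power of the Witt vector Frobenius kills
`ker (W(S) → W(R))`.

Part B: the operator `U` on `Hom(P₁, P₂)` and the lifting / uniqueness statements.
-/

namespace Groth.Agent.Helper22.ZinkLift

open WittVector

section PartA

variable (p : ℕ) [hp : Fact p.Prime]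

theorem constantCoeff_frobeniusPolyAux (n : ℕ) :
    MvPolynomial.constantCoeff (WittVector.frobeniusPolyAux p n) = 0 := by
  have h0 : (WittVector.frobenius (0 : WittVector p ℤ)).coeff n = 0 := by
    rw [map_zero]; exact WittVector.zero_coeff p ℤ n
  rw [WittVector.coeff_frobenius] at h0
  unfold WittVector.frobeniusPoly at h0
  have hz : (0 : WittVector p ℤ).coeff = fun _ => (0 : ℤ) := funext (WittVector.zero_coeff p ℤ)
  rw [hz, MvPolynomial.aeval_zero'] at h0
  have h1 : MvPolynomial.constantCoeff (MvPolynomial.X n ^ p +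
      MvPolynomial.C (p : ℤ) * WittVector.frobeniusPolyAux p n) =
      (p : ℤ) * MvPolynomial.constantCoeff (WittVector.frobeniusPolyAux p n) := by
    rw [map_add, map_mul, map_pow, MvPolynomial.constantCoeff_X, MvPolynomial.constantCoeff_C,
      zero_pow hp.out.ne_zero, zero_add]
  rw [h1, eq_intCast (algebraMap ℤ ℤ), Int.cast_id] at h0
  have hp0 : (p : ℤ) ≠ 0 := by exact_mod_cast hp.out.ne_zero
  rcases mul_eq_zero.mp h0 with h | h
  · exact absurd h hp0
  · exact h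

theorem aeval_mem_of_constantCoeff_eq_zero {S : Type*} [CommRing S] (𝔟 : Ideal S)
    (f : MvPolynomial ℕ ℤ) (hf : MvPolynomial.constantCoeff f = 0) (c : ℕ → S)
    (hc : ∀ i, c i ∈ 𝔟) : MvPolynomial.aeval c f ∈ 𝔟 := by
  rw [← Ideal.Quotient.eq_zero_iff_mem]
  have h1 := AlgHom.congr_fun (MvPolynomial.comp_aeval (R := ℤ) (f := c)
    (Ideal.Quotient.mkₐ ℤ 𝔟)) f
  have h2 : Ideal.Quotient.mk 𝔟 (MvPolynomial.aeval c f) =
      MvPolynomial.aeval (fun i => Ideal.Quotient.mkₐ ℤ 𝔟 (c i)) f := h1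
  rw [h2]
  have h0 : (fun i => Ideal.Quotient.mkₐ ℤ 𝔟 (c i)) = fun _ => (0 : S ⧸ 𝔟) :=
    funext fun i => Ideal.Quotient.eq_zero_iff_mem.mpr (hc i)
  rw [h0, MvPolynomial.aeval_zero', hf, map_zero]

variable {S : Type*} [CommRing S]

/-- the ideal generated by the `p^i a^(p^j)`, `i + j = k`, `a ∈ 𝔞` -/
def G (𝔞 : Ideal S) (k : ℕ) : Ideal S :=
  Ideal.span {y | ∃ i j : ℕ, ∃ a ∈ 𝔞, i + j = k ∧ y = (p : S) ^ i * a ^ (p ^ j)}

theorem le_G_zero (𝔞 : Ideal S) : 𝔞 ≤ G p 𝔞 0 := by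
  intro a ha
  refine Ideal.subset_span ⟨0, 0, a, ha, rfl, ?_⟩
  simp

theorem p_mul_mem_G (𝔞 : Ideal S) (k : ℕ) {b : S} (hb : b ∈ G p 𝔞 k) :
    (p : S) * b ∈ G p 𝔞 (k + 1) := by
  unfold G at hb
  induction hb using Submodule.span_induction with
  | mem y hy =>
    obtain ⟨i, j, a, ha, hij, rfl⟩ := hy
    refine Ideal.subset_span ⟨i + 1, j, a, ha, by omega, ?_⟩
    rw [pow_succ]; ring
  | zero => rw [mul_zero]; exact Ideal.zero_mem _
  | add x y _ _ hx hy => rw [mul_add]; exact Ideal.add_mem _ hx hy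
  | smul c x _ hx =>
    rw [smul_eq_mul, mul_left_comm]
    exact Ideal.mul_mem_left _ c hx

theorem pow_p_mem_G (𝔞 : Ideal S) (k : ℕ) {b : S} (hb : b ∈ G p 𝔞 k) :
    b ^ p ∈ G p 𝔞 (k + 1) := by
  have hb' := hb
  unfold G at hb
  induction hb using Submodule.span_induction with
  | mem y hy =>
    obtain ⟨i, j, a, ha, hij, rfl⟩ := hy
    have h1 : ((p : S) ^ i * a ^ (p ^ j)) ^ p =
        (p : S) ^ (i * (p - 1)) * ((p : S) ^ i * a ^ (p ^ (j + 1))) := by
      have hp1 : i * p = i * (p - 1) + i := by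
        have := hp.out.one_le
        calc i * p = i * ((p - 1) + 1) := by rw [Nat.sub_add_cancel this]
          _ = i * (p - 1) + i := by ring
      rw [mul_pow, ← pow_mul, ← pow_mul, hp1, pow_add, pow_succ]
      ring
    rw [h1]
    refine Ideal.mul_mem_left _ _ (Ideal.subset_span ⟨i, j + 1, a, ha, by omega, rfl⟩)
  | zero => rw [zero_pow hp.out.ne_zero]; exact Ideal.zero_mem _
  | add x y hx hy ihx ihy =>
    have hx' : x ∈ G p 𝔞 k := hx
    have hy' : y ∈ G p 𝔞 k := hy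
    rw [add_pow_prime_eq hp.out]
    refine Ideal.add_mem _ (Ideal.add_mem _ (ihx hx') (ihy hy')) ?_
    have h2 : (p : S) * x ∈ G p 𝔞 (k + 1) := p_mul_mem_G p 𝔞 k hx'
    rw [mul_assoc, mul_assoc]
    rw [← mul_assoc]
    exact Ideal.mul_mem_right _ _ h2
  | smul c x hx ihx =>
    have hx' : x ∈ G p 𝔞 k := hx
    rw [smul_eq_mul, mul_pow]
    exact Ideal.mul_mem_left _ _ (ihx hx')

theorem G_eq_bot (𝔞 : Ideal S) (M N : ℕ) (hM : (p : S) ^ M = 0) (hN : ∀ a ∈ 𝔞, a ^ N = 0) :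
    G p 𝔞 (M + N) = ⊥ := by
  unfold G
  rw [Ideal.span_eq_bot]
  rintro y ⟨i, j, a, ha, hij, rfl⟩
  by_cases hi : M ≤ i
  · obtain ⟨d, rfl⟩ := Nat.exists_eq_add_of_le hi
    rw [pow_add, hM, zero_mul, zero_mul]
  · have hj : N ≤ j := by omega
    have hNp : N ≤ p ^ j :=
      le_trans hj (Nat.lt_pow_self hp.out.one_lt).le
    obtain ⟨d, hd⟩ := Nat.exists_eq_add_of_le hNp
    rw [hd, pow_add, hN a ha, zero_mul, mul_zero]

theorem frobenius_coeff_mem (𝔞 : Ideal S) (k : ℕ) (x : WittVector p S)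
    (hx : ∀ n, x.coeff n ∈ G p 𝔞 k) (n : ℕ) :
    (WittVector.frobenius x).coeff n ∈ G p 𝔞 (k + 1) := by
  rw [WittVector.coeff_frobenius]
  unfold WittVector.frobeniusPoly
  rw [map_add, map_pow, MvPolynomial.aeval_X, map_mul, MvPolynomial.aeval_C]
  refine Ideal.add_mem _ (pow_p_mem_G p 𝔞 k (hx n)) ?_
  have h1 : algebraMap ℤ S (p : ℤ) = (p : S) := by simp
  rw [h1]
  exact p_mul_mem_G p 𝔞 k
    (aeval_mem_of_constantCoeff_eq_zero _ _ (constantCoeff_frobeniusPolyAux p n) _ hx)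

theorem iterate_frobenius_eq_zero {R : Type*} [CommRing R] (φ : S →+* R) (M N : ℕ)
    (hM : (p : S) ^ M = 0) (hN : ∀ a : S, φ a = 0 → a ^ N = 0) (x : WittVector p S)
    (hx : WittVector.map φ x = 0) :
    (WittVector.frobenius : WittVector p S →+* WittVector p S)^[M + N] x = 0 := by
  have hx0 : ∀ n, x.coeff n ∈ G p (RingHom.ker φ) 0 := by
    intro n
    apply le_G_zero
    rw [RingHom.mem_ker, ← WittVector.map_coeff, hx, WittVector.zero_coeff]
  have hk : ∀ k : ℕ, ∀ n,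
      ((WittVector.frobenius : WittVector p S →+* WittVector p S)^[k] x).coeff n ∈
        G p (RingHom.ker φ) k := by
    intro k
    induction k with
    | zero => exact hx0
    | succ k ih =>
      intro n
      rw [Function.iterate_succ_apply']
      exact frobenius_coeff_mem p _ k _ ih n
  have hbot := G_eq_bot p (RingHom.ker φ) M N hM (fun a ha => hN a (RingHom.mem_ker.mp ha))
  ext n
  have := hk (M + N) n
  rw [hbot, Ideal.mem_bot] at this
  rw [this, WittVector.zero_coeff]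

end PartA

section PartB

variable {p : ℕ} [hp : Fact p.Prime] {S : Type*} [CommRing S]
variable {P₁ P₂ : Type*} [AddCommGroup P₁] [Module (WittVector p S) P₁]
  [AddCommGroup P₂] [Module (WittVector p S) P₂]
variable {ι₁ : Type*} (b₁ : Module.Basis ι₁ (WittVector p S) P₁)
  (F₁ : P₁ →ₛₗ[(WittVector.frobenius : WittVector p S →+* WittVector p S)] P₁)
  (F₂ : P₂ →ₛₗ[(WittVector.frobenius : WittVector p S →+* WittVector p S)] P₂)
  (c₁ : Module.Basis ι₁ (WittVector p S) P₁)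

/-- the operator `ω ↦ F₂ ∘ ω ∘ F₁⁻¹` (linearised) -/
noncomputable def U : (P₁ →ₗ[WittVector p S] P₂) →+ (P₁ →ₗ[WittVector p S] P₂) where
  toFun ω := c₁.constr ℕ (fun i => F₂ (ω (b₁ i)))
  map_zero' := by
    apply c₁.ext
    intro i
    rw [Module.Basis.constr_basis]
    simp
  map_add' ω ω' := by
    apply c₁.ext
    intro i
    rw [LinearMap.add_apply, Module.Basis.constr_basis, Module.Basis.constr_basis,
      Module.Basis.constr_basis, LinearMap.add_apply, map_add]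

theorem U_apply_basis (ω : P₁ →ₗ[WittVector p S] P₂) (i : ι₁) :
    U b₁ F₂ c₁ ω (c₁ i) = F₂ (ω (b₁ i)) :=
  Module.Basis.constr_basis _ _ _ _

theorem U_apply_F (hc : ∀ i, c₁ i = F₁ (b₁ i)) (ω : P₁ →ₗ[WittVector p S] P₂) (x : P₁) :
    U b₁ F₂ c₁ ω (F₁ x) = F₂ (ω x) := by
  have hx : x ∈ Submodule.span (WittVector p S) (Set.range b₁) := by
    rw [b₁.span_eq]; exact Submodule.mem_top
  induction hx using Submodule.span_induction with
  | mem y hy =>
    obtain ⟨i, rfl⟩ := hy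
    rw [← hc i]
    exact U_apply_basis b₁ F₂ c₁ ω i
  | zero => simp
  | add y z _ _ hy hz => rw [map_add, map_add, hy, hz, map_add, map_add]
  | smul a y _ hy => rw [map_smulₛₗ, map_smul, hy, map_smul, map_smulₛₗ]

/-- the image of `ω` lies in `I • P₂` -/
def ImgIn (I : Ideal (WittVector p S)) (ω : P₁ →ₗ[WittVector p S] P₂) : Prop :=
  ∀ x, ω x ∈ I • (⊤ : Submodule (WittVector p S) P₂)

theorem F₂_mem (I : Ideal (WittVector p S)) {y : P₂}
    (hy : y ∈ I • (⊤ : Submodule (WittVector p S) P₂)) :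
    F₂ y ∈ (Ideal.map (WittVector.frobenius : WittVector p S →+* WittVector p S) I) •
      (⊤ : Submodule (WittVector p S) P₂) := by
  refine Submodule.smul_induction_on hy ?_ ?_
  · intro r hr n _
    rw [map_smulₛₗ]
    exact Submodule.smul_mem_smul (Ideal.mem_map_of_mem _ hr) Submodule.mem_top
  · intro x y hx hy
    rw [map_add]
    exact Submodule.add_mem _ hx hy

theorem imgIn_of_basis {I : Ideal (WittVector p S)} {ω : P₁ →ₗ[WittVector p S] P₂}
    (h : ∀ i, ω (c₁ i) ∈ I • (⊤ : Submodule (WittVector p S) P₂)) : ImgIn I ω := by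
  intro x
  have h1 : Submodule.span (WittVector p S) (Set.range c₁) ≤
      (I • (⊤ : Submodule (WittVector p S) P₂)).comap ω := by
    rw [Submodule.span_le]
    rintro _ ⟨i, rfl⟩
    exact h i
  rw [c₁.span_eq] at h1
  exact h1 Submodule.mem_top

theorem imgIn_U {I : Ideal (WittVector p S)} {ω : P₁ →ₗ[WittVector p S] P₂} (h : ImgIn I ω) :
    ImgIn (Ideal.map (WittVector.frobenius : WittVector p S →+* WittVector p S) I)
      (U b₁ F₂ c₁ ω) :=
  imgIn_of_basis c₁ (fun i => by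
    rw [U_apply_basis]
    exact F₂_mem F₂ I (h (b₁ i)))

theorem imgIn_iterate {I : Ideal (WittVector p S)} {ω : P₁ →ₗ[WittVector p S] P₂}
    (h : ImgIn I ω) (k : ℕ) :
    ImgIn (Ideal.map ((WittVector.frobenius : WittVector p S →+* WittVector p S) ^ k) I)
      ((U b₁ F₂ c₁)^[k] ω) := by
  induction k with
  | zero =>
    rw [pow_zero, RingHom.one_def, Ideal.map_id]
    exact h
  | succ k ih =>
    rw [Function.iterate_succ_apply', pow_succ', RingHom.mul_def, ← Ideal.map_map]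
    exact imgIn_U b₁ F₂ c₁ ih

theorem iterate_U_eq_zero {I : Ideal (WittVector p S)} {m : ℕ}
    (hI : ∀ r ∈ I, (WittVector.frobenius : WittVector p S →+* WittVector p S)^[m] r = 0)
    {ω : P₁ →ₗ[WittVector p S] P₂} (h : ImgIn I ω) : (U b₁ F₂ c₁)^[m] ω = 0 := by
  have h1 := imgIn_iterate b₁ F₂ c₁ h m
  have h2 : Ideal.map ((WittVector.frobenius : WittVector p S →+* WittVector p S) ^ m) I = ⊥ := by
    rw [Ideal.map_eq_bot_iff_le_ker]
    intro r hr
    rw [RingHom.mem_ker, RingHom.coe_pow]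
    exact hI r hr
  rw [h2] at h1
  ext x
  have := h1 x
  rw [Submodule.bot_smul, Submodule.mem_bot] at this
  rw [this, LinearMap.zero_apply]

theorem imgIn_U_of_stable {I : Ideal (WittVector p S)}
    (hI : ∀ r ∈ I, (WittVector.frobenius : WittVector p S →+* WittVector p S) r ∈ I)
    {ω : P₁ →ₗ[WittVector p S] P₂} (h : ImgIn I ω) : ImgIn I (U b₁ F₂ c₁ ω) := by
  intro x
  have h1 : Ideal.map (WittVector.frobenius : WittVector p S →+* WittVector p S) I ≤ I :=
    Ideal.map_le_iff_le_comap.mpr (fun r hr => hI r hr)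
  exact Submodule.smul_mono_left h1 (imgIn_U b₁ F₂ c₁ h x)

theorem exists_lift (hc : ∀ i, c₁ i = F₁ (b₁ i)) (I : Ideal (WittVector p S))
    (hIF : ∀ r ∈ I, (WittVector.frobenius : WittVector p S →+* WittVector p S) r ∈ I) (m : ℕ)
    (hIm : ∀ r ∈ I, (WittVector.frobenius : WittVector p S →+* WittVector p S)^[m] r = 0)
    (α₀ : P₁ →ₗ[WittVector p S] P₂)
    (hα₀ : ∀ x : P₁, F₂ (α₀ x) - α₀ (F₁ x) ∈ I • (⊤ : Submodule (WittVector p S) P₂)) :
    ∃ α : P₁ →ₗ[WittVector p S] P₂,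
      (∀ x : P₁, α x - α₀ x ∈ I • (⊤ : Submodule (WittVector p S) P₂)) ∧
        ∀ x : P₁, F₂ (α x) = α (F₁ x) := by
  set η : P₁ →ₗ[WittVector p S] P₂ :=
    c₁.constr ℕ (fun i => F₂ (α₀ (b₁ i)) - α₀ (F₁ (b₁ i))) with hη
  have hη_basis : ∀ i, η (c₁ i) = F₂ (α₀ (b₁ i)) - α₀ (F₁ (b₁ i)) := fun i =>
    Module.Basis.constr_basis _ _ _ _
  have hη_img : ImgIn I η := imgIn_of_basis c₁ (fun i => by
    rw [hη_basis]; exact hα₀ (b₁ i))
  have hη_F : ∀ x, η (F₁ x) = F₂ (α₀ x) - α₀ (F₁ x) := by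
    intro x
    have hx : x ∈ Submodule.span (WittVector p S) (Set.range b₁) := by
      rw [b₁.span_eq]; exact Submodule.mem_top
    induction hx using Submodule.span_induction with
    | mem y hy =>
      obtain ⟨i, rfl⟩ := hy
      rw [← hc i, hη_basis, hc i]
    | zero => simp
    | add y z _ _ hy hz =>
      rw [map_add, map_add, hy, hz, map_add, map_add, map_add]
      abel
    | smul a y _ hy =>
      rw [map_smulₛₗ, map_smul, hy, map_smul, map_smulₛₗ, map_smul, smul_sub]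
  set seq : ℕ → (P₁ →ₗ[WittVector p S] P₂) := fun k => (U b₁ F₂ c₁)^[k] η with hseq
  have hseq_succ : ∀ k, seq (k + 1) = U b₁ F₂ c₁ (seq k) := fun k =>
    Function.iterate_succ_apply' _ k η
  have hseq_img : ∀ k, ImgIn I (seq k) := by
    intro k
    induction k with
    | zero => exact hη_img
    | succ k ih =>
      rw [hseq_succ]
      exact imgIn_U_of_stable b₁ F₂ c₁ hIF ih
  have hseq_m : seq m = 0 := iterate_U_eq_zero b₁ F₂ c₁ hIm hη_img
  set ω : P₁ →ₗ[WittVector p S] P₂ := ∑ k ∈ Finset.range m, seq k with hω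
  have hUω : U b₁ F₂ c₁ ω = ∑ k ∈ Finset.range m, seq (k + 1) := by
    rw [hω, map_sum]
    exact Finset.sum_congr rfl (fun k _ => (hseq_succ k).symm)
  have hdiff : ω - U b₁ F₂ c₁ ω = η := by
    rw [hUω, hω, ← Finset.sum_sub_distrib, Finset.sum_range_sub', hseq_m, sub_zero]
    rfl
  refine ⟨α₀ + ω, ?_, ?_⟩
  · intro x
    have h1 : (α₀ + ω) x - α₀ x = ω x := by
      rw [LinearMap.add_apply]; abel
    rw [h1, hω, LinearMap.sum_apply]
    exact Submodule.sum_mem _ (fun k _ => hseq_img k x)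
  · intro x
    have h1 : ω (F₁ x) - F₂ (ω x) = F₂ (α₀ x) - α₀ (F₁ x) := by
      rw [← U_apply_F b₁ F₁ F₂ c₁ hc ω x, ← LinearMap.sub_apply, hdiff, hη_F]
    have h2 := sub_eq_sub_iff_add_eq_add.mp h1
    rw [LinearMap.add_apply, LinearMap.add_apply, map_add, ← h2, add_comm]

theorem unique_lift (hc : ∀ i, c₁ i = F₁ (b₁ i)) (I : Ideal (WittVector p S)) (m : ℕ)
    (hIm : ∀ r ∈ I, (WittVector.frobenius : WittVector p S →+* WittVector p S)^[m] r = 0)
    (α α' : P₁ →ₗ[WittVector p S] P₂)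
    (hd : ∀ x : P₁, α x - α' x ∈ I • (⊤ : Submodule (WittVector p S) P₂))
    (hα : ∀ x : P₁, F₂ (α x) = α (F₁ x)) (hα' : ∀ x : P₁, F₂ (α' x) = α' (F₁ x)) :
    α = α' := by
  have hδ : ImgIn I (α - α') := fun x => by
    rw [LinearMap.sub_apply]; exact hd x
  have hfix : U b₁ F₂ c₁ (α - α') = α - α' := by
    apply c₁.ext
    intro i
    rw [U_apply_basis, hc i, LinearMap.sub_apply, LinearMap.sub_apply, map_sub, hα, hα']
  have h0 := iterate_U_eq_zero b₁ F₂ c₁ hIm hδ
  rw [Function.iterate_fixed hfix] at h0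
  exact sub_eq_zero.mp h0

end PartB

end Groth.Agent.Helper22.ZinkLift
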